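import Mathlib

/-!
# `q`-bases: structure theorem (helper21)

`B` a commutative `C`-algebra, `x : ι → B` a family such that the reduced monomials `x^e`
(`e i < q` for all `i`) form a `C`-basis of `B`, and `x i ^ q = algebraMap C B (c i)`.
Then `B = C[X_i]/(X_i^q - c_i)`; stated as a universal property for ring homomorphisms.
-/

namespace Groth.Agent.Lib.Helper21.PBasis

open MvPolynomial

variable {C B : Type*} [CommRing C] [CommRing B] [Algebra C B] {ι : Type*}

/-- The monomial `∏ x_i ^ e_i`. -/
noncomputable def mon (x : ι → B) (e : ι →₀ ℕ) : B := e.prod fun i n => x i ^ n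

variable (C) in
/-- The reduced monomials form a `C`-basis of `B`. -/
structure IsQBasis (q : ℕ) (x : ι → B) : Prop where
  li : LinearIndependent C (fun e : {e : ι →₀ ℕ // ∀ i, e i < q} => mon x e.1)
  sp : Submodule.span C (Set.range fun e : {e : ι →₀ ℕ // ∀ i, e i < q} => mon x e.1) = ⊤

variable {q : ℕ} {x : ι → B}

theorem aeval_monomial_eq (e : ι →₀ ℕ) (a : C) :
    aeval x (monomial e a) = a • mon x e := by
  rw [aeval_monomial, Algebra.smul_def]; rfl

theorem aeval_surjective (h : IsQBasis C q x) :
    Function.Surjective (aeval x : MvPolynomial ι C →ₐ[C] B) := by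
  intro b
  have hb : b ∈ (⊤ : Submodule C B) := trivial
  rw [← h.sp] at hb
  induction hb using Submodule.span_induction with
  | mem y hy =>
    obtain ⟨e, rfl⟩ := hy
    exact ⟨monomial e.1 1, by rw [aeval_monomial_eq, one_smul]⟩
  | zero => exact ⟨0, map_zero _⟩
  | add y z _ _ hy hz =>
    obtain ⟨f, rfl⟩ := hy
    obtain ⟨g, rfl⟩ := hz
    exact ⟨f + g, map_add _ _ _⟩
  | smul c y _ hy =>
    obtain ⟨f, rfl⟩ := hy
    exact ⟨c • f, map_smul _ _ _⟩

/-- The ideal of relations `X_i^q - c_i`. -/
noncomputable def relIdeal (q : ℕ) (c : ι → C) : Ideal (MvPolynomial ι C) :=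
  Ideal.span (Set.range fun i => X i ^ q - MvPolynomial.C (c i))

theorem relIdeal_le_ker (c : ι → C) (hc : ∀ i, algebraMap C B (c i) = x i ^ q) :
    relIdeal q c ≤ RingHom.ker (aeval x : MvPolynomial ι C →ₐ[C] B) := by
  rw [relIdeal, Ideal.span_le]
  rintro _ ⟨i, rfl⟩
  simp [RingHom.mem_ker, hc]

/-- All exponents of `r` are `< q`. -/
def IsRed (q : ℕ) (r : MvPolynomial ι C) : Prop := ∀ e ∈ r.support, ∀ i, e i < q

theorem exists_red_monomial (hq : 0 < q) (c : ι → C) :
    ∀ (n : ℕ) (e : ι →₀ ℕ), e.degree < n → ∀ a : C,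
      ∃ r : MvPolynomial ι C, IsRed q r ∧ monomial e a - r ∈ relIdeal q c := by
  classical
  intro n
  induction n with
  | zero => intro e he; exact absurd he (Nat.not_lt_zero _)
  | succ n ih =>
    intro e he a
    by_cases hred : ∀ i, e i < q
    · refine ⟨monomial e a, ?_, by simp⟩
      intro e' he' i
      have := support_monomial_subset he'
      rw [Finset.mem_singleton] at this
      rw [this]; exact hred i
    · simp only [not_forall, not_lt] at hred
      obtain ⟨i, hi⟩ := hred
      have hle : Finsupp.single i q ≤ e := by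
        rw [Finsupp.single_le_iff]
        exact hi
      have he' : e = (e - Finsupp.single i q) + Finsupp.single i q :=
        (tsub_add_cancel_of_le hle).symm
      have hdeg : (e - Finsupp.single i q).degree < n := by
        have h1 : e.degree = (e - Finsupp.single i q).degree + q := by
          conv_lhs => rw [he']
          rw [map_add, Finsupp.degree_single]
        omega
      obtain ⟨r, hr, hmem⟩ := ih (e - Finsupp.single i q) hdeg (c i * a)
      refine ⟨r, hr, ?_⟩
      have hsplit : monomial e a - r =
          monomial (e - Finsupp.single i q) a * (X i ^ q - MvPolynomial.C (c i)) +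
            (monomial (e - Finsupp.single i q) (c i * a) - r) := by
        conv_lhs => rw [he', monomial_add_single]
        rw [← C_mul_monomial]
        ring
      rw [hsplit]
      exact add_mem (Ideal.mul_mem_left _ _ (Ideal.subset_span ⟨i, rfl⟩)) hmem

theorem exists_red (hq : 0 < q) (c : ι → C) (f : MvPolynomial ι C) :
    ∃ r : MvPolynomial ι C, IsRed q r ∧ f - r ∈ relIdeal q c := by
  classical
  induction f using MvPolynomial.induction_on' with
  | monomial e a => exact exists_red_monomial hq c (e.degree + 1) e (Nat.lt_succ_self _) a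
  | add f g hf hg =>
    obtain ⟨r1, hr1, h1⟩ := hf
    obtain ⟨r2, hr2, h2⟩ := hg
    refine ⟨r1 + r2, ?_, ?_⟩
    · intro e he i
      rcases Finset.mem_union.mp (support_add he) with h | h
      · exact hr1 e h i
      · exact hr2 e h i
    · have : f + g - (r1 + r2) = (f - r1) + (g - r2) := by ring
      rw [this]; exact add_mem h1 h2

theorem eq_zero_of_isRed (h : IsQBasis C q x) (r : MvPolynomial ι C) (hr : IsRed q r)
    (h0 : aeval x r = 0) : r = 0 := by
  classical
  have hsum : aeval x r = ∑ d ∈ r.support, coeff d r • mon x d := by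
    conv_lhs => rw [r.as_sum, map_sum]
    exact Finset.sum_congr rfl fun d _ => aeval_monomial_eq d _
  rw [hsum] at h0
  have hli := linearIndependent_iff'.mp h.li
    (r.support.subtype fun e => ∀ i, e i < q) (fun e => coeff e.1 r)
  have h1 : ∑ e ∈ r.support.subtype (fun e => ∀ i, e i < q), coeff e.1 r • mon x e.1 = 0 := by
    rw [Finset.sum_subtype_eq_sum_filter (f := fun d => coeff d r • mon x d),
      Finset.filter_true_of_mem hr]
    exact h0
  have h2 := hli h1
  by_contra hne
  obtain ⟨d, hd⟩ := MvPolynomial.support_nonempty.mpr hne  -- support nonempty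
  have h3 := h2 ⟨d, hr d hd⟩ (by simpa using hd)
  exact (mem_support_iff.mp hd) h3

theorem ker_aeval_eq (h : IsQBasis C q x) (hq : 0 < q) (c : ι → C)
    (hc : ∀ i, algebraMap C B (c i) = x i ^ q) :
    RingHom.ker (aeval x : MvPolynomial ι C →ₐ[C] B) = relIdeal q c := by
  apply le_antisymm
  · intro f hf
    obtain ⟨r, hr, hmem⟩ := exists_red hq c f
    have hr0 : aeval x r = 0 := by
      have h1 : aeval x (f - r) = 0 := relIdeal_le_ker c hc hmem
      rw [map_sub, RingHom.mem_ker.mp hf, zero_sub, neg_eq_zero] at h1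
      exact h1
    have := eq_zero_of_isRed h r hr hr0
    rw [this, sub_zero] at hmem
    exact hmem
  · exact relIdeal_le_ker c hc

/-- Two ring homomorphisms out of `B` agreeing on `C` and on the `x i` coincide. -/
theorem ringHom_ext (h : IsQBasis C q x) {E : Type*} [Semiring E] (v v' : B →+* E)
    (h1 : v.comp (algebraMap C B) = v'.comp (algebraMap C B)) (h2 : ∀ i, v (x i) = v' (x i)) :
    v = v' := by
  have hcomp : v.comp (aeval x : MvPolynomial ι C →ₐ[C] B).toRingHom =
      v'.comp (aeval x : MvPolynomial ι C →ₐ[C] B).toRingHom := by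
    apply MvPolynomial.ringHom_ext
    · intro a
      simpa using RingHom.congr_fun h1 a
    · intro i
      simpa using h2 i
  ext b
  obtain ⟨f, rfl⟩ := aeval_surjective h b
  exact RingHom.congr_fun hcomp f

/-- Universal property of a `q`-basis. -/
theorem existsUnique_ringHom (h : IsQBasis C q x) (hq : 0 < q) (c : ι → C)
    (hc : ∀ i, algebraMap C B (c i) = x i ^ q) {E : Type*} [CommRing E] (φ : C →+* E)
    (z : ι → E) (hz : ∀ i, z i ^ q = φ (c i)) :
    ∃! v : B →+* E, v.comp (algebraMap C B) = φ ∧ ∀ i, v (x i) = z i := by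
  have hker : RingHom.ker (aeval x : MvPolynomial ι C →ₐ[C] B).toRingHom ≤
      RingHom.ker (eval₂Hom φ z) := by
    have : RingHom.ker (aeval x : MvPolynomial ι C →ₐ[C] B).toRingHom = relIdeal q c :=
      ker_aeval_eq h hq c hc
    rw [this, relIdeal, Ideal.span_le]
    rintro _ ⟨i, rfl⟩
    simp [RingHom.mem_ker, hz]
  let v : B →+* E := RingHom.liftOfSurjective (aeval x : MvPolynomial ι C →ₐ[C] B).toRingHom
    (aeval_surjective h) ⟨eval₂Hom φ z, hker⟩
  have hv : ∀ f, v (aeval x f) = eval₂Hom φ z f := fun f =>
    RingHom.liftOfSurjective_comp_apply (aeval x : MvPolynomial ι C →ₐ[C] B).toRingHom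
      (aeval_surjective h) ⟨eval₂Hom φ z, hker⟩ f
  refine ⟨v, ⟨?_, ?_⟩, ?_⟩
  · ext a
    have := hv (MvPolynomial.C a)
    simpa using this
  · intro i
    have := hv (X i)
    simpa using this
  · rintro v' ⟨h1, h2⟩
    apply ringHom_ext h
    · rw [h1]
      ext a
      have := hv (MvPolynomial.C a)
      simpa using this.symm
    · intro i
      rw [h2]
      have := hv (X i)
      simpa using this.symm

end Groth.Agent.Lib.Helper21.PBasis
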