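import Mathlib
import Groth.Agent.Lib.Helper21.PBasisA

/-!
# `q`-bases: derivations (helper21)

Derivations out of `B = C[X_i]/(X_i^q - c_i)` with prescribed values on `C` and on the `x i`,
via ring homomorphisms into the trivial square-zero extension.
-/

namespace Groth.Agent.Lib.Helper21.PBasis

open TrivSqZeroExt

section tsze

variable (B M : Type*) [CommRing B] [AddCommGroup M] [Module B M]

/-- The opposite action on a module over a commutative ring. -/
@[reducible] def opMod : Module Bᵐᵒᵖ M :=
  Module.compHom M ((RingHom.id B).fromOpposite fun _ _ => mul_comm _ _)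

theorem isCentral : letI := opMod B M; IsCentralScalar B M := by
  letI := opMod B M
  exact ⟨fun b m => rfl⟩

end tsze

variable {C B : Type*} [CommRing C] [CommRing B] [Algebra C B] {ι : Type*}
variable {q : ℕ} {x : ι → B}
variable {M : Type*} [AddCommGroup M] [Module B M]

/-- Derivations out of a ring with a `q`-basis. -/
theorem existsUnique_derivation (h : IsQBasis C q x) (hq : 0 < q) (c : ι → C)
    (hc : ∀ i, algebraMap C B (c i) = x i ^ q)
    (D0 : C → M) (hadd : ∀ c1 c2, D0 (c1 + c2) = D0 c1 + D0 c2)
    (hmul : ∀ c1 c2, D0 (c1 * c2) = algebraMap C B c1 • D0 c2 + algebraMap C B c2 • D0 c1)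
    (m : ι → M) (hm : ∀ i, q • x i ^ (q - 1) • m i = D0 (c i)) :
    ∃! D' : Derivation ℤ B M, (∀ a, D' (algebraMap C B a) = D0 a) ∧ ∀ i, D' (x i) = m i := by
  letI := opMod B M
  haveI := isCentral B M
  have h0 : D0 0 = 0 := by
    have := hadd 0 0
    rw [add_zero] at this
    exact left_eq_add.mp this
  have h1 : D0 1 = 0 := by
    have := hmul 1 1
    rw [mul_one, map_one, one_smul] at this
    exact left_eq_add.mp this
  let φ : C →+* TrivSqZeroExt B M :=
    { toFun := fun a => inl (algebraMap C B a) + inr (D0 a)
      map_one' := by
        ext
        · simp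
        · simp [h1]
      map_mul' := fun a b => by
        ext
        · simp
        · simp [hmul, add_comm]
      map_zero' := by
        ext
        · simp
        · simp [h0]
      map_add' := fun a b => by
        ext
        · simp
        · simp [hadd] }
  have hφ : ∀ a, φ a = inl (algebraMap C B a) + inr (D0 a) := fun a => rfl
  have hz : ∀ i, (inl (x i) + inr (m i) : TrivSqZeroExt B M) ^ q = φ (c i) := by
    intro i
    ext
    · simp [hφ, hc]
    · simp [hφ, hm, Nat.pred_eq_sub_one]
  obtain ⟨v, ⟨hv1, hv2⟩, hvu⟩ := existsUnique_ringHom h hq c hc φ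
    (fun i => (inl (x i) + inr (m i) : TrivSqZeroExt B M)) hz
  have hfst : ∀ b, (v b).fst = b := by
    have : (fstHom B B M).toRingHom.comp v = RingHom.id B := by
      apply ringHom_ext h
      · ext a
        have := RingHom.congr_fun hv1 a
        simp only [RingHom.comp_apply] at this
        simp [this, hφ]
      · intro i
        simp [hv2 i]
    intro b
    exact RingHom.congr_fun this b
  let D' : Derivation ℤ B M := Derivation.mk'
    ((sndHom B M).toAddMonoidHom.comp v.toAddMonoidHom).toIntLinearMap
    (fun a b => by
      simp only [AddMonoidHom.coe_toIntLinearMap, AddMonoidHom.coe_comp, Function.comp_apply,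
        RingHom.toAddMonoidHom_eq_coe, AddMonoidHom.coe_coe, LinearMap.toAddMonoidHom_coe,
        sndHom_apply, map_mul, snd_mul, hfst, op_smul_eq_smul])
  have hD' : ∀ b, D' b = (v b).snd := fun b => rfl
  refine ⟨D', ⟨?_, ?_⟩, ?_⟩
  · intro a
    have := RingHom.congr_fun hv1 a
    simp only [RingHom.comp_apply] at this
    rw [hD', this, hφ]
    simp
  · intro i
    rw [hD', hv2 i]
    simp
  · rintro D'' ⟨hd1, hd2⟩
    let v'' : B →+* TrivSqZeroExt B M :=
      { toFun := fun b => inl b + inr (D'' b)
        map_one' := by
          ext
          · simp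
          · simp
        map_mul' := fun a b => by
          ext
          · simp
          · simp [add_comm]
        map_zero' := by
          ext
          · simp
          · simp
        map_add' := fun a b => by
          ext
          · simp
          · simp }
    have hv'' : v'' = v := by
      apply hvu
      constructor
      · ext a
        · simp [v'', hφ]
        · simp [v'', hφ, hd1]
      · intro i
        simp [v'', hd2]
    ext b
    rw [hD', ← hv'']
    simp [v'']

end Groth.Agent.Lib.Helper21.PBasis
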