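import Mathlib
import Groth.Prelude.Def_EGA41
import Groth.Agent.Lib.Helper21.PBasisB

/-!
# `p`-bases in the sense of the prelude (helper21)
-/

namespace Groth.Agent.Lib.Helper21.PBasis

universe u

variable (p : ℕ) (A : Type u) {B : Type u} [CommRing A] [CommRing B] [Algebra A B] {ι : Type u}
  (x : ι → B)

theorem isQBasis_of_isPBasis (hx : EGA41.IsPBasis p A x) :
    IsQBasis (↥(EGA41.pPowerSubalgebra p A B)) p x :=
  ⟨hx.1, hx.2⟩

/-- `x i ^ p` as an element of `A[B^p]`. -/
def cpow (i : ι) : ↥(EGA41.pPowerSubalgebra p A B) :=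
  ⟨x i ^ p, Algebra.subset_adjoin ⟨x i, rfl⟩⟩

theorem algebraMap_cpow (i : ι) :
    algebraMap (↥(EGA41.pPowerSubalgebra p A B)) B (cpow p A x i) = x i ^ p := rfl

variable {A}

theorem nsmul_eq_zero_of_charP (B : Type*) [CommRing B] [CharP B p] {M : Type*} [AddCommGroup M]
    [Module B M] (m : M) : p • m = 0 := by
  rw [← Nat.cast_smul_eq_nsmul B, CharP.cast_eq_zero, zero_smul]

/-- In characteristic `p`, an `A`-derivation of `B` kills `A[B^p]`. -/
theorem derivation_eq_zero_of_mem [CharP B p] {M : Type*} [AddCommGroup M] [Module B M]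
    [Module A M] [IsScalarTower A B M] (D : Derivation A B M) (c : B)
    (hc : c ∈ EGA41.pPowerSubalgebra p A B) : D c = 0 := by
  induction hc using Algebra.adjoin_induction with
  | mem y hy =>
    obtain ⟨b, rfl⟩ := hy
    rw [Derivation.leibniz_pow, nsmul_eq_zero_of_charP p B]
  | algebraMap r => exact D.map_algebraMap r
  | add y z _ _ hy hz => rw [map_add, hy, hz, add_zero]
  | mul y z _ _ hy hz => rw [Derivation.leibniz, hy, hz, smul_zero, smul_zero, add_zero]

end Groth.Agent.Lib.Helper21.PBasis
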