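import Mathlib
import Groth.Prelude.Def_EGA41
import Groth.Agent.Lib.Helper21.PBasisC

/-!
# `p`-independence and `p`-generation in polynomial language (helper21)
-/

namespace Groth.Agent.Lib.Helper21.PBasis

open MvPolynomial

universe u

section general

variable (p : ℕ) (A : Type u) {B : Type u} [CommRing A] [CommRing B] [Algebra A B] {ι : Type u}
  (x : ι → B)

/-- `p`-independence: a reduced polynomial over `A[B^p]` vanishing at `x` is zero. -/
theorem isPIndependent_iff_poly :
    EGA41.IsPIndependent p A x ↔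
      ∀ r : MvPolynomial ι ↥(EGA41.pPowerSubalgebra p A B), IsRed p r → aeval x r = 0 → r = 0 := by
  classical
  constructor
  · intro hli r hr h0
    have hsum : aeval x r = ∑ d ∈ r.support, coeff d r • mon x d := by
      conv_lhs => rw [r.as_sum, map_sum]
      exact Finset.sum_congr rfl fun d _ => aeval_monomial_eq d _
    rw [hsum] at h0
    have hli' := linearIndependent_iff'.mp hli
      (r.support.subtype fun e => ∀ i, e i < p) (fun e => coeff e.1 r)
    have h1 : ∑ e ∈ r.support.subtype (fun e => ∀ i, e i < p), coeff e.1 r • mon x e.1 = 0 := by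
      rw [Finset.sum_subtype_eq_sum_filter (f := fun d => coeff d r • mon x d),
        Finset.filter_true_of_mem hr]
      exact h0
    have h2 := hli' h1
    by_contra hne
    obtain ⟨d, hd⟩ := MvPolynomial.support_nonempty.mpr hne
    have h3 := h2 ⟨d, hr d hd⟩ (by simpa using hd)
    exact (mem_support_iff.mp hd) h3
  · intro hpoly
    rw [EGA41.IsPIndependent, linearIndependent_iff']
    intro s g hsum e he
    set r : MvPolynomial ι ↥(EGA41.pPowerSubalgebra p A B) := ∑ e ∈ s, monomial e.1 (g e) with hr
    have hred : IsRed p r := by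
      intro d hd i
      have h1 := support_sum hd
      rw [Finset.mem_biUnion] at h1
      obtain ⟨e', -, he'⟩ := h1
      have := support_monomial_subset he'
      rw [Finset.mem_singleton] at this
      rw [this]
      exact e'.2 i
    have h0 : aeval x r = 0 := by
      rw [hr, map_sum, ← hsum]
      exact Finset.sum_congr rfl fun d _ => aeval_monomial_eq d.1 _
    have hr0 := hpoly r hred h0
    have hc : coeff e.1 r = g e := by
      rw [hr, coeff_sum]
      rw [Finset.sum_eq_single e]
      · rw [coeff_monomial, if_pos rfl]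
      · intro e' _ hne
        rw [coeff_monomial, if_neg]
        intro h
        exact hne (Subtype.ext h)
      · intro h; exact absurd he h
    rw [← hc, hr0, coeff_zero]

/-- `p`-generation: the evaluation map `A[B^p][X] → B` is surjective. -/
theorem isPGenerating_iff_surj (hp : 0 < p) :
    EGA41.IsPGenerating p A x ↔
      Function.Surjective (aeval x : MvPolynomial ι ↥(EGA41.pPowerSubalgebra p A B) →ₐ[_] B) := by
  classical
  constructor
  · intro hsp b
    have hb : b ∈ (⊤ : Submodule ↥(EGA41.pPowerSubalgebra p A B) B) := trivial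
    rw [← hsp] at hb
    induction hb using Submodule.span_induction with
    | mem y hy =>
      obtain ⟨e, rfl⟩ := hy
      refine ⟨monomial e.1 1, ?_⟩
      rw [aeval_monomial_eq, one_smul]
      rfl
    | zero => exact ⟨0, map_zero _⟩
    | add y z _ _ hy hz =>
      obtain ⟨f, rfl⟩ := hy
      obtain ⟨g, rfl⟩ := hz
      exact ⟨f + g, map_add _ _ _⟩
    | smul c y _ hy =>
      obtain ⟨f, rfl⟩ := hy
      exact ⟨c • f, map_smul _ _ _⟩
  · intro hsurj
    rw [EGA41.IsPGenerating, eq_top_iff]
    intro b _
    obtain ⟨f, rfl⟩ := hsurj b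
    obtain ⟨r, hr, hmem⟩ := exists_red hp (cpow p A x) f
    have h1 : aeval x (f - r) = 0 := relIdeal_le_ker (cpow p A x) (algebraMap_cpow p A x) hmem
    rw [map_sub, sub_eq_zero] at h1
    rw [h1]
    have hsum : aeval x r = ∑ d ∈ r.support, coeff d r • mon x d := by
      conv_lhs => rw [r.as_sum, map_sum]
      exact Finset.sum_congr rfl fun d _ => aeval_monomial_eq d _
    rw [hsum]
    refine Submodule.sum_mem _ fun d hd => Submodule.smul_mem _ _ (Submodule.subset_span ?_)
    exact ⟨⟨d, hr d hd⟩, rfl⟩

end general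

section field

variable (p : ℕ) [Fact p.Prime] (k K : Type u) [Field k] [Field K] [Algebra k K] [CharP K p]

theorem pow_mem_Cp (b : K) : b ^ p ∈ EGA41.pPowerSubalgebra p k K :=
  Algebra.subset_adjoin ⟨b, rfl⟩

variable {K}

theorem inv_eq_pow_mul (f : K) : f⁻¹ = f ^ (p - 1) * (f⁻¹) ^ p := by
  have hp : 0 < p := (Fact.out : p.Prime).pos
  by_cases hf : f = 0
  · subst hf
    rw [inv_zero, zero_pow hp.ne', mul_zero]
  · obtain ⟨m, hm⟩ : ∃ m, p = m + 1 := ⟨p - 1, by omega⟩
    rw [hm, Nat.add_sub_cancel, pow_succ, ← mul_assoc, ← mul_pow, mul_inv_cancel₀ hf,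
      one_pow, one_mul]

/-- Subalgebras of `K` over `k[K^p]` are closed under inverses. -/
theorem inv_mem_of_mem (F' : Subalgebra ↥(EGA41.pPowerSubalgebra p k K) K) {f : K} (hf : f ∈ F') :
    f⁻¹ ∈ F' := by
  rw [inv_eq_pow_mul p f]
  refine mul_mem (pow_mem hf _) ?_
  exact F'.algebraMap_mem ⟨(f⁻¹) ^ p, pow_mem_Cp p k K _⟩

/-- If `u ∉ F'` then `1, u, …, u^(p-1)` are linearly independent over `F'`. -/
theorem pow_indep (F' : Subalgebra ↥(EGA41.pPowerSubalgebra p k K) K) (u : K) (hu : u ∉ F') :
    ∀ g : Polynomial ↥F', g.natDegree < p → Polynomial.aeval u g = 0 → g = 0 := by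
  have hp : p.Prime := Fact.out
  intro g
  induction' hn : g.natDegree using Nat.strong_induction_on with n ih generalizing g
  intro hlt h0
  by_contra hg
  rcases Nat.eq_zero_or_pos n with h | hpos
  · rw [h] at hn
    rw [Polynomial.eq_C_of_natDegree_eq_zero hn] at h0 hg
    rw [Polynomial.aeval_C] at h0
    apply hg
    have : g.coeff 0 = 0 := Subtype.ext h0
    rw [this, map_zero]
  · have hlc : g.leadingCoeff ≠ 0 := Polynomial.leadingCoeff_ne_zero.mpr hg
    let lcinv : ↥F' := ⟨(g.leadingCoeff : K)⁻¹, inv_mem_of_mem p k F' g.leadingCoeff.2⟩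
    have hmul : lcinv * g.leadingCoeff = 1 := by
      apply Subtype.ext
      show (g.leadingCoeff : K)⁻¹ * (g.leadingCoeff : K) = 1
      exact inv_mul_cancel₀ (fun h => hlc (Subtype.ext h))
    set g' := Polynomial.C lcinv * g with hg'
    have hmonic : g'.Monic := Polynomial.monic_C_mul_of_mul_leadingCoeff_eq_one hmul
    have hdeg : g'.natDegree = n := by
      rw [hg', Polynomial.natDegree_C_mul_eq_of_mul_eq_one (mul_comm lcinv _ ▸ hmul), hn]
    have h0' : Polynomial.aeval u g' = 0 := by rw [hg', map_mul, h0, mul_zero]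
    let a : ↥F' := ⟨u ^ p, F'.algebraMap_mem ⟨u ^ p, pow_mem_Cp p k K u⟩⟩
    let na : ↥F' := ⟨-(u ^ p), neg_mem a.2⟩
    set h := (Polynomial.X ^ p + Polynomial.C na : Polynomial ↥F') with hh
    have hh0 : Polynomial.aeval u h = 0 := by
      rw [hh, map_add, map_pow, Polynomial.aeval_X, Polynomial.aeval_C]
      exact add_neg_cancel _
    have hr0 : Polynomial.aeval u (h %ₘ g') = 0 := by
      have h1 := congrArg (Polynomial.aeval u) (Polynomial.modByMonic_add_div h g')
      rw [map_add, map_mul, h0', zero_mul, add_zero, hh0] at h1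
      exact h1
    have hne1 : g' ≠ 1 := by
      intro h1
      rw [h1, Polynomial.natDegree_one] at hdeg
      omega
    have hrdeg : (h %ₘ g').natDegree < n := by
      rw [← hdeg]; exact Polynomial.natDegree_modByMonic_lt h hmonic hne1
    have hr : h %ₘ g' = 0 := ih _ hrdeg _ rfl (lt_trans hrdeg hlt) hr0
    have hdvd : g' ∣ h := (Polynomial.modByMonic_eq_zero_iff_dvd hmonic).mp hr
    have hdvdK : g'.map (algebraMap ↥F' K) ∣ (Polynomial.X - Polynomial.C u) ^ p := by
      have h1 := Polynomial.map_dvd (algebraMap ↥F' K) hdvd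
      have h2 : h.map (algebraMap ↥F' K) = (Polynomial.X - Polynomial.C u) ^ p := by
        rw [hh, Polynomial.map_add, Polynomial.map_pow, Polynomial.map_X, Polynomial.map_C,
          sub_pow_char, ← map_pow]
        show Polynomial.X ^ p + Polynomial.C (-(u ^ p)) = _
        rw [map_neg, sub_eq_add_neg]
      rwa [h2] at h1
    obtain ⟨i, hi, hassoc⟩ := (dvd_prime_pow (Polynomial.prime_X_sub_C u) p).mp hdvdK
    have hG : g'.map (algebraMap ↥F' K) = (Polynomial.X - Polynomial.C u) ^ i :=
      Polynomial.eq_of_monic_of_associated (hmonic.map _) ((Polynomial.monic_X_sub_C u).pow i) hassoc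
    have hi' : i = n := by
      have h1 := congrArg Polynomial.natDegree hG
      rw [hmonic.natDegree_map, hdeg, Polynomial.natDegree_pow, Polynomial.natDegree_X_sub_C,
        mul_one] at h1
      exact h1.symm
    have hcoeff := congrArg (fun q => q.coeff (n - 1)) hG
    simp only [Polynomial.coeff_map, hi'] at hcoeff
    have hx : (Polynomial.X - Polynomial.C u : Polynomial K) = Polynomial.X + Polynomial.C (-u) := by
      rw [map_neg, sub_eq_add_neg]
    rw [hx, Polynomial.coeff_X_add_C_pow] at hcoeff
    have h1 : n - (n - 1) = 1 := by omega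
    have h2 : n.choose (n - 1) = n := by
      obtain ⟨m, rfl⟩ : ∃ m, n = m + 1 := ⟨n - 1, by omega⟩
      simp
    rw [h1, h2, pow_one] at hcoeff
    -- hcoeff : algebraMap (g'.coeff (n-1)) = -u * n
    have hmem : -u * (n : K) ∈ F' := by
      rw [← hcoeff]; exact (g'.coeff (n - 1)).2
    have hn0 : (n : K) ≠ 0 := by
      intro h
      rw [CharP.cast_eq_zero_iff K p] at h
      exact absurd (Nat.le_of_dvd hpos h) (not_le.mpr hlt)
    have hnmem : (n : K) ∈ F' := natCast_mem F' n
    have : u = -(-u * (n : K) * (n : K)⁻¹) := by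
      field_simp
    apply hu
    rw [this]
    exact neg_mem (mul_mem hmem (inv_mem_of_mem p k F' hnmem))


/-- Polynomial form of `p`-independence of a family. -/
def PInd {ι : Type*} (x : ι → K) : Prop :=
  ∀ r : MvPolynomial ι ↥(EGA41.pPowerSubalgebra p k K), IsRed p r → aeval x r = 0 → r = 0

theorem aeval_option_eq {ι : Type*} (x : ι → K) (u : K)
    (R : MvPolynomial (Option ι) ↥(EGA41.pPowerSubalgebra p k K)) :
    aeval (fun o : Option ι => o.elim u x) R =
      Polynomial.eval₂ (aeval x : MvPolynomial ι ↥(EGA41.pPowerSubalgebra p k K) →ₐ[_] K).toRingHom u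
        (optionEquivLeft ↥(EGA41.pPowerSubalgebra p k K) ι R) := by
  have h : (aeval (fun o : Option ι => o.elim u x) :
      MvPolynomial (Option ι) ↥(EGA41.pPowerSubalgebra p k K) →ₐ[_] K).toRingHom =
      (Polynomial.eval₂RingHom
        (aeval x : MvPolynomial ι ↥(EGA41.pPowerSubalgebra p k K) →ₐ[_] K).toRingHom u).comp
        (optionEquivLeft ↥(EGA41.pPowerSubalgebra p k K) ι).toAlgHom.toRingHom := by
    apply MvPolynomial.ringHom_ext
    · intro c
      simp [optionEquivLeft_C]
    · intro o
      cases o with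
      | none => simp [optionEquivLeft_X_none]
      | some i => simp [optionEquivLeft_X_some]
  exact RingHom.congr_fun h R

/-- Adjoining an element outside `C[x]` to a `p`-independent family. -/
theorem pInd_option {ι : Type*} (x : ι → K) (hx : PInd p k x) (u : K)
    (hu : u ∉ (aeval x : MvPolynomial ι ↥(EGA41.pPowerSubalgebra p k K) →ₐ[_] K).range) :
    PInd p k (fun o : Option ι => o.elim u x) := by
  have hp : p.Prime := Fact.out
  intro R hR h0
  set P := optionEquivLeft ↥(EGA41.pPowerSubalgebra p k K) ι R with hP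
  set F' := (aeval x : MvPolynomial ι ↥(EGA41.pPowerSubalgebra p k K) →ₐ[_] K).range with hF'
  let φ : MvPolynomial ι ↥(EGA41.pPowerSubalgebra p k K) →ₐ[_] ↥F' :=
    (aeval x : MvPolynomial ι ↥(EGA41.pPowerSubalgebra p k K) →ₐ[_] K).rangeRestrict
  have hdeg : P.natDegree < p := by
    rw [hP, natDegree_optionEquivLeft, degreeOf_lt_iff hp.pos]
    intro m hm
    exact hR m hm none
  have hcoeffred : ∀ j, IsRed p (P.coeff j) := by
    intro j d hd i
    rw [mem_support_iff, hP, optionEquivLeft_coeff_coeff] at hd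
    have := hR (d.optionElim j) (mem_support_iff.mpr hd) (some i)
    simpa using this
  have hg0 : Polynomial.aeval u (P.map φ.toRingHom) = 0 := by
    rw [Polynomial.aeval_def, Polynomial.eval₂_map]
    rw [aeval_option_eq] at h0
    exact h0
  have hg := pow_indep p k F' u hu (P.map φ.toRingHom)
    (lt_of_le_of_lt Polynomial.natDegree_map_le hdeg) hg0
  have hP0 : P = 0 := by
    ext j : 1
    have h1 := congrArg (fun q => q.coeff j) hg
    simp only [Polynomial.coeff_map, Polynomial.coeff_zero] at h1
    have h2 : aeval x (P.coeff j) = 0 := congrArg Subtype.val h1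
    rw [hx _ (hcoeffred j) h2, Polynomial.coeff_zero]
  exact (EmbeddingLike.map_eq_zero_iff (f := optionEquivLeft ↥(EGA41.pPowerSubalgebra p k K) ι)).mp hP0

end field

end Groth.Agent.Lib.Helper21.PBasis
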