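import Mathlib
import Groth.Prelude.Def_EGA41
import Groth.Agent.Lib.Helper21.PBasisE

/-!
# `p`-independent subsets of a field and existence of `p`-bases (helper21)
-/

namespace Groth.Agent.Lib.Helper21.PBasis

open MvPolynomial

universe u

section rename

variable {C : Type*} [CommRing C] {ι ι' : Type*} (p : ℕ)

theorem isRed_rename (hp : 0 < p) {f : ι' → ι} (hf : Function.Injective f) (r : MvPolynomial ι' C) :
    IsRed p (rename f r) ↔ IsRed p r := by
  classical
  constructor
  · intro h d hd i
    have h1 : Finsupp.mapDomain f d ∈ (rename f r).support := by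
      rw [support_rename_of_injective hf]
      exact Finset.mem_image_of_mem _ hd
    have := h _ h1 (f i)
    rwa [Finsupp.mapDomain_apply hf] at this
  · intro h d hd j
    rw [support_rename_of_injective hf, Finset.mem_image] at hd
    obtain ⟨d0, hd0, rfl⟩ := hd
    by_cases hj : j ∈ Set.range f
    · obtain ⟨i, rfl⟩ := hj
      rw [Finsupp.mapDomain_apply hf]
      exact h d0 hd0 i
    · rw [Finsupp.mapDomain_notin_range _ _ hj]
      exact hp

end rename

section sets

variable (p : ℕ) [Fact p.Prime] (k : Type u) {K : Type u} [Field k] [Field K] [Algebra k K]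
  [CharP K p]

/-- Set version of `p`-independence, with the tautological evaluation `X_b ↦ b`. -/
def PIndSet (T : Set K) : Prop :=
  ∀ r : MvPolynomial K ↥(EGA41.pPowerSubalgebra p k K), (↑r.vars : Set K) ⊆ T → IsRed p r →
    aeval (id : K → K) r = 0 → r = 0

theorem PIndSet.mono {T T' : Set K} (h : PIndSet p k T) (hT : T' ⊆ T) : PIndSet p k T' :=
  fun r hv hr h0 => h r (hv.trans hT) hr h0

/-- For an injective family, `p`-independence is `p`-independence of its range. -/
theorem pInd_iff_pIndSet_range {ι : Type*} (x : ι → K) (hx : Function.Injective x) :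
    PInd p k x ↔ PIndSet p k (Set.range x) := by
  classical
  have hp : 0 < p := (Fact.out : p.Prime).pos
  constructor
  · intro h r hv hr h0
    obtain ⟨r0, rfl⟩ := exists_rename_eq_of_vars_subset_range r x hx hv
    have h1 : aeval x r0 = 0 := by
      rw [aeval_rename] at h0
      exact h0
    rw [h r0 ((isRed_rename p hp hx r0).mp hr) h1, map_zero]
  · intro h r0 hr h0
    have h1 : rename x r0 = 0 := by
      apply h
      · intro j hj
        have := vars_rename x r0 hj
        rw [Finset.mem_image] at this
        obtain ⟨i, -, rfl⟩ := this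
        exact ⟨i, rfl⟩
      · exact (isRed_rename p hp hx r0).mpr hr
      · rw [aeval_rename]
        exact h0
    exact (rename_injective x hx) (by rw [h1, map_zero])

theorem pInd_val_iff (T : Set K) : PInd p k (Subtype.val : ↥T → K) ↔ PIndSet p k T := by
  rw [pInd_iff_pIndSet_range p k _ Subtype.val_injective, Subtype.range_coe]

/-- Adjoining an element outside `C[T]` to a `p`-independent set. -/
theorem pIndSet_insert {T : Set K} (h : PIndSet p k T) (u : K)
    (hu : u ∉ Algebra.adjoin ↥(EGA41.pPowerSubalgebra p k K) T) : PIndSet p k (insert u T) := by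
  have huT : u ∉ T := fun hmem => hu (Algebra.subset_adjoin hmem)
  have h1 : PInd p k (Subtype.val : ↥T → K) := (pInd_val_iff p k T).mpr h
  have hrange : u ∉ (aeval (Subtype.val : ↥T → K) :
      MvPolynomial ↥T ↥(EGA41.pPowerSubalgebra p k K) →ₐ[_] K).range := by
    rw [← Algebra.adjoin_range_eq_range_aeval, Subtype.range_coe]
    exact hu
  have h2 := pInd_option p k (Subtype.val : ↥T → K) h1 u hrange
  have hinj : Function.Injective (fun o : Option ↥T => o.elim u Subtype.val) := by
    intro a b hab
    cases a with
    | none =>
      cases b with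
      | none => rfl
      | some b =>
        have hub : u = b.1 := hab
        exact absurd (hub ▸ b.2) huT
    | some a =>
      cases b with
      | none =>
        have hua : a.1 = u := hab
        exact absurd (hua ▸ a.2) huT
      | some b =>
        have hab' : a.1 = b.1 := hab
        exact congrArg some (Subtype.ext hab')
  have h3 := (pInd_iff_pIndSet_range p k _ hinj).mp h2
  have hr : Set.range (fun o : Option ↥T => o.elim u Subtype.val) = insert u T := by
    ext y
    constructor
    · rintro ⟨o, rfl⟩
      cases o with
      | none => exact Set.mem_insert _ _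
      | some a => exact Set.mem_insert_of_mem _ a.2
    · intro hy
      rcases Set.mem_insert_iff.mp hy with rfl | hy
      · exact ⟨none, rfl⟩
      · exact ⟨some ⟨y, hy⟩, rfl⟩
  rwa [hr] at h3

/-- Existence of `p`-bases between a `p`-independent set and a `p`-generating set. -/
theorem exists_between (S L : Set K) (hLS : L ⊆ S)
    (hS : Algebra.adjoin ↥(EGA41.pPowerSubalgebra p k K) S = ⊤) (hL : PIndSet p k L) :
    ∃ B : Set K, L ⊆ B ∧ B ⊆ S ∧ PIndSet p k B ∧
      Algebra.adjoin ↥(EGA41.pPowerSubalgebra p k K) B = ⊤ := by
  have hF : Order.IsOfFiniteCharacter {T : Set K | T ⊆ S ∧ PIndSet p k T} := by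
    intro T
    constructor
    · rintro ⟨hTS, hT⟩ Y hY _
      exact ⟨hY.trans hTS, hT.mono p k hY⟩
    · intro h
      constructor
      · intro t ht
        exact (h {t} (Set.singleton_subset_iff.mpr ht) (Set.finite_singleton t)).1 rfl
      · intro r hv hr h0
        exact (h (↑r.vars) hv (Finset.finite_toSet _)).2 r subset_rfl hr h0
  obtain ⟨B, hLB, hmax⟩ := hF.exists_maximal (x := L) ⟨hLS, hL⟩
  refine ⟨B, hLB, hmax.prop.1, hmax.prop.2, ?_⟩
  rw [eq_top_iff, ← hS]
  apply Algebra.adjoin_le
  intro s hs
  by_contra hns
  have hins : insert s B ∈ {T : Set K | T ⊆ S ∧ PIndSet p k T} :=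
    ⟨Set.insert_subset hs hmax.prop.1, pIndSet_insert p k hmax.prop.2 s hns⟩
  have := hmax.le_of_ge hins (Set.subset_insert s B)
  exact hns (Algebra.subset_adjoin (this (Set.mem_insert s B)))

end sets

end Groth.Agent.Lib.Helper21.PBasis
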