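import Mathlib
import Groth.Prelude.Def_EGA41
import Groth.Agent.Lib.Helper21.PBasisF

/-!
# Kähler differentials and `p`-bases (helper21)
-/

namespace Groth.Agent.Lib.Helper21.PBasis

open MvPolynomial

universe u

/-- A `p`-basis gives a basis of the Kähler differentials. -/
theorem kaehler_basis (p : ℕ) [Fact p.Prime] {A B : Type u} [CommRing A] [CommRing B] [Algebra A B]
    [CharP B p] {ι : Type u} (x : ι → B) (hx : EGA41.IsPBasis p A x) :
    ∃ b : Module.Basis ι B (Ω[B⁄A]), ∀ i, b i = KaehlerDifferential.D A B (x i) := by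
  classical
  have hp : 0 < p := (Fact.out : p.Prime).pos
  have h := isQBasis_of_isPBasis p A x hx
  obtain ⟨D', ⟨hD1, hD2⟩, -⟩ := existsUnique_derivation (M := ι →₀ B) h hp (cpow p A x)
    (algebraMap_cpow p A x) (fun _ => 0) (fun _ _ => (add_zero _).symm) (fun _ _ => by simp)
    (fun i => Finsupp.single i 1) (fun i => nsmul_eq_zero_of_charP p B _)
  let DA : Derivation A B (ι →₀ B) := Derivation.mk'
    { toFun := D'
      map_add' := map_add D'
      map_smul' := fun a b => by
        have ha : D' (algebraMap A B a) = 0 :=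
          hD1 (algebraMap A (↥(EGA41.pPowerSubalgebra p A B)) a)
        rw [RingHom.id_apply, Algebra.smul_def, Derivation.leibniz, ha, smul_zero, add_zero,
          algebraMap_smul] }
    (fun a b => Derivation.leibniz D' a b)
  have hDA : ∀ b, DA b = D' b := fun b => rfl
  let ℓ : Ω[B⁄A] →ₗ[B] (ι →₀ B) := DA.liftKaehlerDifferential
  have hℓ : ∀ b, ℓ (KaehlerDifferential.D A B b) = D' b := fun b => by
    rw [← hDA]; exact Derivation.liftKaehlerDifferential_comp_D DA b
  have hli : LinearIndependent B (fun i => KaehlerDifferential.D A B (x i)) := by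
    apply LinearIndependent.of_comp ℓ
    have : (ℓ ∘ fun i => KaehlerDifferential.D A B (x i)) = fun i => Finsupp.single i (1 : B) := by
      funext i
      simp only [Function.comp_apply, hℓ, hD2]
    rw [this]
    exact Finsupp.linearIndependent_single_one B ι
  have hsp : ⊤ ≤ Submodule.span B (Set.range fun i => KaehlerDifferential.D A B (x i)) := by
    rw [← KaehlerDifferential.span_range_derivation A B, Submodule.span_le]
    rintro _ ⟨b, rfl⟩
    obtain ⟨f, rfl⟩ := aeval_surjective h b
    induction f using MvPolynomial.induction_on with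
    | C c =>
      rw [MvPolynomial.aeval_C]
      have : KaehlerDifferential.D A B (algebraMap (↥(EGA41.pPowerSubalgebra p A B)) B c) = 0 :=
        derivation_eq_zero_of_mem p _ _ c.2
      rw [SetLike.mem_coe, this]
      exact zero_mem _
    | add f g hf hg =>
      rw [map_add, map_add]
      exact add_mem hf hg
    | mul_X f i hf =>
      rw [map_mul, MvPolynomial.aeval_X, Derivation.leibniz]
      exact add_mem (Submodule.smul_mem _ _ (Submodule.subset_span ⟨i, rfl⟩))
        (Submodule.smul_mem _ _ hf)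
  exact ⟨Module.Basis.mk hli hsp, fun i => by rw [Module.Basis.mk_apply]⟩

section field

variable (p : ℕ) [Fact p.Prime] (k : Type u) {K : Type u} [Field k] [Field K] [Algebra k K]
  [CharP K p]

theorem isPBasis_val_of {Bs : Set K} (hB : PIndSet p k Bs)
    (htop : Algebra.adjoin ↥(EGA41.pPowerSubalgebra p k K) Bs = ⊤) :
    EGA41.IsPBasis p k (Subtype.val : ↥Bs → K) := by
  have hp : 0 < p := (Fact.out : p.Prime).pos
  constructor
  · exact (isPIndependent_iff_poly p k _).mpr ((pInd_val_iff p k Bs).mpr hB)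
  · rw [isPGenerating_iff_surj p k _ hp, ← AlgHom.range_eq_top,
      ← Algebra.adjoin_range_eq_range_aeval, Subtype.range_coe]
    exact htop

/-- A `p`-independent set extends to a `p`-basis, whose differentials form a basis. -/
theorem exists_kaehler_basis_of_pIndSet {T : Set K} (hT : PIndSet p k T) :
    ∃ (Bs : Set K) (_ : T ⊆ Bs) (b : Module.Basis ↥Bs K (Ω[K⁄k])),
      ∀ t : ↥Bs, b t = KaehlerDifferential.D k K t.1 := by
  have htop : Algebra.adjoin ↥(EGA41.pPowerSubalgebra p k K) (Set.univ : Set K) = ⊤ := by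
    rw [eq_top_iff]
    intro x _
    exact Algebra.subset_adjoin (Set.mem_univ x)
  obtain ⟨Bs, hTB, -, hB, hBtop⟩ := exists_between p k Set.univ T (Set.subset_univ T) htop hT
  obtain ⟨b, hb⟩ := kaehler_basis p (Subtype.val : ↥Bs → K) (isPBasis_val_of p k hB hBtop)
  exact ⟨Bs, hTB, b, hb⟩

/-- Variant which also records `p`-independence of the `p`-basis. -/
theorem exists_kaehler_basis_of_pIndSet' {T : Set K} (hT : PIndSet p k T) :
    ∃ (Bs : Set K) (_ : T ⊆ Bs) (_ : PIndSet p k Bs) (b : Module.Basis ↥Bs K (Ω[K⁄k])),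
      ∀ t : ↥Bs, b t = KaehlerDifferential.D k K t.1 := by
  have htop : Algebra.adjoin ↥(EGA41.pPowerSubalgebra p k K) (Set.univ : Set K) = ⊤ := by
    rw [eq_top_iff]
    intro x _
    exact Algebra.subset_adjoin (Set.mem_univ x)
  obtain ⟨Bs, hTB, -, hB, hBtop⟩ := exists_between p k Set.univ T (Set.subset_univ T) htop hT
  obtain ⟨b, hb⟩ := kaehler_basis p (Subtype.val : ↥Bs → K) (isPBasis_val_of p k hB hBtop)
  exact ⟨Bs, hTB, hB, b, hb⟩

/-- Variant which also records `p`-independence and `p`-generation of the `p`-basis. -/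
theorem exists_kaehler_basis_of_pIndSet'' {T : Set K} (hT : PIndSet p k T) :
    ∃ (Bs : Set K) (_ : T ⊆ Bs) (_ : PIndSet p k Bs)
      (_ : Algebra.adjoin ↥(EGA41.pPowerSubalgebra p k K) Bs = ⊤)
      (b : Module.Basis ↥Bs K (Ω[K⁄k])),
      ∀ t : ↥Bs, b t = KaehlerDifferential.D k K t.1 := by
  have htop : Algebra.adjoin ↥(EGA41.pPowerSubalgebra p k K) (Set.univ : Set K) = ⊤ := by
    rw [eq_top_iff]
    intro x _
    exact Algebra.subset_adjoin (Set.mem_univ x)
  obtain ⟨Bs, hTB, -, hB, hBtop⟩ := exists_between p k Set.univ T (Set.subset_univ T) htop hT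
  obtain ⟨b, hb⟩ := kaehler_basis p (Subtype.val : ↥Bs → K) (isPBasis_val_of p k hB hBtop)
  exact ⟨Bs, hTB, hB, hBtop, b, hb⟩

theorem pIndSet_empty : PIndSet p k (∅ : Set K) := by
  intro r hv hr h0
  have hv' : r.vars = ∅ := by
    rw [← Finset.coe_eq_empty]
    exact Set.subset_empty_iff.mp hv
  obtain ⟨c, rfl⟩ : ∃ c, r = C c := by
    refine ⟨coeff 0 r, ?_⟩
    exact vars_eq_empty_iff_eq_C.mp hv'
  rw [aeval_C] at h0
  have : c = 0 := Subtype.ext h0
  rw [this, map_zero]

/-- `d x = 0` in `Ω[K⁄k]` iff `x ∈ k(K^p)`. -/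
theorem D_eq_zero_iff (x : K) :
    KaehlerDifferential.D k K x = 0 ↔ x ∈ EGA41.pPowerSubalgebra p k K := by
  constructor
  · intro h0
    by_contra hx
    have hx' : x ∉ Algebra.adjoin ↥(EGA41.pPowerSubalgebra p k K) (∅ : Set K) := by
      rw [Algebra.adjoin_empty]
      rintro ⟨c, rfl⟩
      exact hx c.2
    have h1 := pIndSet_insert p k (pIndSet_empty p k) x hx'
    obtain ⟨Bs, hTB, b, hb⟩ := exists_kaehler_basis_of_pIndSet p k h1
    have hxB : x ∈ Bs := hTB (Set.mem_insert x ∅)
    have := b.ne_zero ⟨x, hxB⟩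
    rw [hb] at this
    exact this h0
  · intro hx
    exact derivation_eq_zero_of_mem p _ x hx

end field

end Groth.Agent.Lib.Helper21.PBasis
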