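import Mathlib
import Groth.Agent.Lib.Helper21.PBasisC

/-!
# `q`-bases: transport, towers, differentials over `ℤ` (helper21)
-/

namespace Groth.Agent.Lib.Helper21.PBasis

open MvPolynomial

section transport

variable {C B C' B' : Type*} [CommRing C] [CommRing B] [Algebra C B] [CommRing C'] [CommRing B']
  [Algebra C' B'] {ι : Type*} {q : ℕ} {x : ι → B}

theorem map_mon {B B' : Type*} [CommRing B] [CommRing B'] (σ : B →+* B') (x : ι → B)
    (e : ι →₀ ℕ) : σ (mon x e) = mon (σ ∘ x) e := by
  unfold mon
  rw [map_finsuppProd]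
  simp

/-- Transport of a `q`-basis along compatible ring isomorphisms. -/
theorem IsQBasis.transport (h : IsQBasis C q x) (σ : B ≃+* B') (τ : C →+* C')
    (hτ : Function.Surjective τ)
    (hcomp : ∀ c, σ (algebraMap C B c) = algebraMap C' B' (τ c)) : IsQBasis C' q (σ ∘ x) := by
  have hsmul : ∀ (r : C) (m : B), σ (r • m) = τ r • σ m := by
    intro r m
    rw [Algebra.smul_def, map_mul, hcomp, Algebra.smul_def]
  constructor
  · have := h.li.map_of_surjective_injective τ (σ : B →+* B').toAddMonoidHom hτ
      (fun m hm => by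
        have : σ m = 0 := hm
        exact (map_eq_zero_iff σ σ.injective).mp this)
      (fun r m => hsmul r m)
    convert this using 1
    funext e
    exact (map_mon (σ : B →+* B') x e.1).symm
  · rw [eq_top_iff]
    intro b' _
    obtain ⟨b, rfl⟩ := σ.surjective b'
    have hb : b ∈ Submodule.span C
        (Set.range fun e : {e : ι →₀ ℕ // ∀ i, e i < q} => mon x e.1) := by
      rw [h.sp]; trivial
    clear ‹σ b ∈ ⊤›
    induction hb using Submodule.span_induction with
    | mem y hy =>
      obtain ⟨e, rfl⟩ := hy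
      exact Submodule.subset_span ⟨e, (map_mon (σ : B →+* B') x e.1).symm⟩
    | zero => rw [map_zero]; exact zero_mem _
    | add y z _ _ hy hz => rw [map_add]; exact add_mem hy hz
    | smul c y _ hy => rw [hsmul]; exact Submodule.smul_mem _ _ hy

end transport

section tower

variable {C A B : Type*} [CommRing C] [CommRing A] [CommRing B] [Algebra C A] [Algebra A B]
  [Algebra C B] [IsScalarTower C A B] {Λ M : Type*} {q : ℕ} {x : Λ → B} {y : M → A}

theorem mon_sumElim (x : Λ → B) (y' : M → B) (e : Λ →₀ ℕ) (f : M →₀ ℕ) :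
    mon (Sum.elim x y') (Finsupp.sumElim e f) = mon x e * mon y' f := by
  unfold mon
  rw [Finsupp.prod_sumElim]
  rfl

/-- Reduced exponent vectors on a sum type. -/
noncomputable def redEquiv (Λ M : Type*) (q : ℕ) : {g : Λ ⊕ M →₀ ℕ // ∀ i, g i < q} ≃
    {f : M →₀ ℕ // ∀ i, f i < q} × {e : Λ →₀ ℕ // ∀ i, e i < q} where
  toFun g := (⟨(Finsupp.sumFinsuppEquivProdFinsupp g.1).2, fun i => g.2 (Sum.inr i)⟩,
    ⟨(Finsupp.sumFinsuppEquivProdFinsupp g.1).1, fun i => g.2 (Sum.inl i)⟩)
  invFun fe := ⟨Finsupp.sumElim fe.2.1 fe.1.1, by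
    rintro (i | i)
    · exact fe.2.2 i
    · exact fe.1.2 i⟩
  left_inv g := Subtype.ext (Finsupp.sumFinsuppEquivProdFinsupp.symm_apply_apply g.1)
  right_inv fe := by
    obtain ⟨⟨f, hf⟩, ⟨e, he⟩⟩ := fe
    refine Prod.ext (Subtype.ext ?_) (Subtype.ext ?_)
    · exact congrArg Prod.snd (Finsupp.sumFinsuppEquivProdFinsupp.apply_symm_apply (e, f))
    · exact congrArg Prod.fst (Finsupp.sumFinsuppEquivProdFinsupp.apply_symm_apply (e, f))

/-- Tower property of `q`-bases. -/
theorem IsQBasis.tower (hx : IsQBasis A q x) (hy : IsQBasis C q y) :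
    IsQBasis C q (Sum.elim x (algebraMap A B ∘ y)) := by
  let bx : Module.Basis {e : Λ →₀ ℕ // ∀ i, e i < q} A B := Module.Basis.mk hx.li hx.sp.ge
  let by' : Module.Basis {f : M →₀ ℕ // ∀ i, f i < q} C A := Module.Basis.mk hy.li hy.sp.ge
  let bt := (by'.smulTower bx).reindex (redEquiv Λ M q).symm
  have hbt : ∀ g, bt g = mon (Sum.elim x (algebraMap A B ∘ y)) g.1 := by
    intro g
    have hg : g.1 = Finsupp.sumElim ((redEquiv Λ M q) g).2.1 ((redEquiv Λ M q) g).1.1 :=
      (congrArg Subtype.val ((redEquiv Λ M q).symm_apply_apply g)).symm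
    rw [Module.Basis.reindex_apply, Equiv.symm_symm, Module.Basis.smulTower_apply,
      Module.Basis.mk_apply, Module.Basis.mk_apply, hg, mon_sumElim, Algebra.smul_def,
      map_mon (algebraMap A B) y, mul_comm]
  constructor
  · have := bt.linearIndependent
    convert this using 1
    funext g
    exact (hbt g).symm
  · rw [eq_top_iff, ← bt.span_eq]
    apply Submodule.span_mono
    rintro _ ⟨g, rfl⟩
    exact ⟨g, (hbt g).symm⟩

end tower

section kaehler

/-- Differentials over `ℤ` of a ring with a `p`-basis over a subring of `p`-th powers. -/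
theorem kaehler_basis_int (p : ℕ) [Fact p.Prime] {C B : Type*} [CommRing C] [CommRing B]
    [Algebra C B] [CharP B p] {ι : Type*} (x : ι → B) (h : IsQBasis C p x) (c : ι → C)
    (hc : ∀ i, algebraMap C B (c i) = x i ^ p)
    (hC : ∀ a : C, ∃ b : B, algebraMap C B a = b ^ p) :
    ∃ b : Module.Basis ι B (Ω[B⁄ℤ]), ∀ i, b i = KaehlerDifferential.D ℤ B (x i) := by
  classical
  have hp : 0 < p := (Fact.out : p.Prime).pos
  obtain ⟨D', ⟨hD1, hD2⟩, -⟩ := existsUnique_derivation (M := ι →₀ B) h hp c hc
    (fun _ => 0) (fun _ _ => (add_zero _).symm) (fun _ _ => by simp)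
    (fun i => Finsupp.single i 1) (fun i => nsmul_eq_zero_of_charP p B _)
  let ℓ : Ω[B⁄ℤ] →ₗ[B] (ι →₀ B) := D'.liftKaehlerDifferential
  have hℓ : ∀ b, ℓ (KaehlerDifferential.D ℤ B b) = D' b := fun b =>
    Derivation.liftKaehlerDifferential_comp_D D' b
  have hli : LinearIndependent B (fun i => KaehlerDifferential.D ℤ B (x i)) := by
    apply LinearIndependent.of_comp ℓ
    have : (ℓ ∘ fun i => KaehlerDifferential.D ℤ B (x i)) = fun i => Finsupp.single i (1 : B) := by
      funext i
      simp only [Function.comp_apply, hℓ, hD2]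
    rw [this]
    exact Finsupp.linearIndependent_single_one B ι
  have hsp : ⊤ ≤ Submodule.span B (Set.range fun i => KaehlerDifferential.D ℤ B (x i)) := by
    rw [← KaehlerDifferential.span_range_derivation ℤ B, Submodule.span_le]
    rintro _ ⟨b, rfl⟩
    obtain ⟨f, rfl⟩ := aeval_surjective h b
    induction f using MvPolynomial.induction_on with
    | C a =>
      rw [MvPolynomial.aeval_C]
      obtain ⟨b, hb⟩ := hC a
      have : KaehlerDifferential.D ℤ B (algebraMap C B a) = 0 := by
        rw [hb, Derivation.leibniz_pow, nsmul_eq_zero_of_charP p B]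
      rw [SetLike.mem_coe, this]
      exact zero_mem _
    | add f g hf hg =>
      rw [map_add, map_add]
      exact add_mem hf hg
    | mul_X f i hf =>
      rw [map_mul, MvPolynomial.aeval_X, Derivation.leibniz]
      exact add_mem (Submodule.smul_mem _ _ (Submodule.subset_span ⟨i, rfl⟩))
        (Submodule.smul_mem _ _ hf)
  exact ⟨Module.Basis.mk hli hsp, fun i => by rw [Module.Basis.mk_apply]⟩

end kaehler

section kernel

/-- Basis of the kernel of a linear map which kills part of a basis and is independent on the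
rest. -/
theorem exists_basis_ker {K V W : Type*} [CommRing K] [AddCommGroup V] [Module K V]
    [AddCommGroup W] [Module K W] {I J : Type*} (e : Module.Basis (I ⊕ J) K V) (φ : V →ₗ[K] W)
    (h0 : ∀ j, φ (e (Sum.inr j)) = 0)
    (hli : LinearIndependent K (fun i => φ (e (Sum.inl i)))) :
    ∃ b : Module.Basis J K (LinearMap.ker φ), ∀ j, (b j : V) = e (Sum.inr j) := by
  classical
  let v : J → LinearMap.ker φ := fun j => ⟨e (Sum.inr j), LinearMap.mem_ker.mpr (h0 j)⟩
  have hvli : LinearIndependent K v := by
    apply LinearIndependent.of_comp (LinearMap.ker φ).subtype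
    exact e.linearIndependent.comp Sum.inr Sum.inr_injective
  have key : ∀ z : V, φ z = 0 → z ∈ Submodule.span K (Set.range fun j => e (Sum.inr j)) := by
    intro z hz
    set c := e.repr z with hc
    set c₁ := (Finsupp.sumFinsuppEquivProdFinsupp c).1 with hc₁
    set c₂ := (Finsupp.sumFinsuppEquivProdFinsupp c).2 with hc₂
    have hcc : c = Finsupp.sumElim c₁ c₂ :=
      (Finsupp.sumFinsuppEquivProdFinsupp.symm_apply_apply c).symm
    have hz1 : z = Finsupp.linearCombination K e c := (e.linearCombination_repr z).symm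
    have hφ : φ z = Finsupp.linearCombination K (fun i => φ (e (Sum.inl i))) c₁ := by
      rw [hz1, Finsupp.apply_linearCombination, hcc, Finsupp.linearCombination_apply,
        Finsupp.sum_sumElim, Finsupp.linearCombination_apply]
      have : (c₂.sum ((fun i a => a • (φ ∘ e) i) ∘ Sum.inr)) = 0 := by
        apply Finset.sum_eq_zero
        intro j _
        simp only [Function.comp_apply, h0, smul_zero]
      rw [this, add_zero]
      rfl
    have hc₁0 : c₁ = 0 := by
      rw [hz] at hφ
      exact (linearIndependent_iff.mp hli) c₁ hφ.symm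
    rw [hz1, hcc, hc₁0, Finsupp.linearCombination_apply, Finsupp.sum_sumElim, Finsupp.sum_zero_index,
      zero_add]
    exact Submodule.sum_mem _ fun j _ =>
      Submodule.smul_mem _ _ (Submodule.subset_span ⟨j, rfl⟩)
  have hvsp : ⊤ ≤ Submodule.span K (Set.range v) := by
    rintro ⟨z, hz⟩ -
    have h1 := key z (LinearMap.mem_ker.mp hz)
    have h2 : Submodule.span K (Set.range fun j => e (Sum.inr j)) =
        (Submodule.span K (Set.range v)).map (LinearMap.ker φ).subtype := by
      rw [Submodule.map_span, ← Set.range_comp]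
      rfl
    rw [h2] at h1
    obtain ⟨w, hw, hwz⟩ := h1
    have : w = ⟨z, hz⟩ := Subtype.ext hwz
    rw [← this]
    exact hw
  exact ⟨Module.Basis.mk hvli hvsp, fun j => by rw [Module.Basis.mk_apply]⟩

end kernel

end Groth.Agent.Lib.Helper21.PBasis
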