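import Mathlib
import Groth.Prelude.Def_EGA41
import Groth.Agent.Lib.Helper21.PBasisJ
import Groth.Agent.Lib.Helper21.PBasisG

namespace Groth.Agent.Lib.Helper21.PBasis

open MvPolynomial TensorProduct

universe u

section kaehlerGen

/-- Differentials over a base `A₀` of a ring with a `p`-basis over a ring `C` whose image contains
the image of `A₀` and is killed by the universal `A₀`-derivation. -/
theorem kaehler_basis_gen (p : ℕ) [Fact p.Prime] {A₀ C B : Type*} [CommRing A₀] [CommRing C]
    [CommRing B] [Algebra A₀ B] [Algebra C B] [CharP B p] {ι : Type*} (x : ι → B)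
    (h : IsQBasis C p x) (c : ι → C) (hc : ∀ i, algebraMap C B (c i) = x i ^ p)
    (H1 : ∀ a : A₀, ∃ c : C, algebraMap C B c = algebraMap A₀ B a)
    (H2 : ∀ a : C, KaehlerDifferential.D A₀ B (algebraMap C B a) = 0) :
    ∃ b : Module.Basis ι B (Ω[B⁄A₀]), ∀ i, b i = KaehlerDifferential.D A₀ B (x i) := by
  classical
  have hp : 0 < p := (Fact.out : p.Prime).pos
  obtain ⟨D', ⟨hD1, hD2⟩, -⟩ := existsUnique_derivation (M := ι →₀ B) h hp c hc
    (fun _ => 0) (fun _ _ => (add_zero _).symm) (fun _ _ => by simp)
    (fun i => Finsupp.single i 1) (fun i => nsmul_eq_zero_of_charP p B _)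
  let DA : Derivation A₀ B (ι →₀ B) := Derivation.mk'
    { toFun := D'
      map_add' := map_add D'
      map_smul' := fun a b => by
        have ha : D' (algebraMap A₀ B a) = 0 := by
          obtain ⟨c', hc'⟩ := H1 a
          rw [← hc']
          exact hD1 c'
        rw [RingHom.id_apply, Algebra.smul_def, Derivation.leibniz, ha, smul_zero, add_zero,
          algebraMap_smul] }
    (fun a b => Derivation.leibniz D' a b)
  have hDA : ∀ b, DA b = D' b := fun b => rfl
  let ℓ : Ω[B⁄A₀] →ₗ[B] (ι →₀ B) := DA.liftKaehlerDifferential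
  have hℓ : ∀ b, ℓ (KaehlerDifferential.D A₀ B b) = D' b := fun b => by
    rw [← hDA]; exact Derivation.liftKaehlerDifferential_comp_D DA b
  have hli : LinearIndependent B (fun i => KaehlerDifferential.D A₀ B (x i)) := by
    apply LinearIndependent.of_comp ℓ
    have : (ℓ ∘ fun i => KaehlerDifferential.D A₀ B (x i)) = fun i => Finsupp.single i (1 : B) := by
      funext i
      simp only [Function.comp_apply, hℓ, hD2]
    rw [this]
    exact Finsupp.linearIndependent_single_one B ι
  have hsp : ⊤ ≤ Submodule.span B (Set.range fun i => KaehlerDifferential.D A₀ B (x i)) := by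
    rw [← KaehlerDifferential.span_range_derivation A₀ B, Submodule.span_le]
    rintro _ ⟨b, rfl⟩
    obtain ⟨f, rfl⟩ := aeval_surjective h b
    induction f using MvPolynomial.induction_on with
    | C a =>
      rw [MvPolynomial.aeval_C, SetLike.mem_coe, H2 a]
      exact zero_mem _
    | add f g hf hg =>
      rw [map_add, map_add]
      exact add_mem hf hg
    | mul_X f i hf =>
      rw [map_mul, MvPolynomial.aeval_X, Derivation.leibniz]
      exact add_mem (Submodule.smul_mem _ _ (Submodule.subset_span ⟨i, rfl⟩))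
        (Submodule.smul_mem _ _ hf)
  exact ⟨Module.Basis.mk hli hsp, fun i => by rw [Module.Basis.mk_apply]⟩

/-- A linear map sending a basis to a linearly independent family is injective. -/
theorem injective_of_basis_li {R V W : Type*} [CommRing R] [AddCommGroup V] [Module R V]
    [AddCommGroup W] [Module R W] {ι : Type*} (e : Module.Basis ι R V) (f : V →ₗ[R] W)
    (hli : LinearIndependent R (fun i => f (e i))) : Function.Injective f := by
  rw [← LinearMap.ker_eq_bot, eq_bot_iff]
  intro z hz
  rw [LinearMap.mem_ker] at hz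
  have h1 : z = Finsupp.linearCombination R e (e.repr z) := (e.linearCombination_repr z).symm
  rw [h1, Finsupp.apply_linearCombination] at hz
  have h2 := (linearIndependent_iff.mp hli) (e.repr z) hz
  rw [Submodule.mem_bot]
  exact (LinearEquiv.map_eq_zero_iff e.repr).mp h2

end kaehlerGen

end Groth.Agent.Lib.Helper21.PBasis

namespace Groth.Agent.Lib.Helper21.PBasis

open MvPolynomial TensorProduct

universe u

theorem exists_isPBasis (p : ℕ) [Fact p.Prime] (k : Type u) {K : Type u} [Field k] [Field K]
    [Algebra k K] [CharP K p] : ∃ Bs : Set K, EGA41.IsPBasis p k (Subtype.val : ↥Bs → K) := by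
  have htop : Algebra.adjoin ↥(EGA41.pPowerSubalgebra p k K) (Set.univ : Set K) = ⊤ := by
    rw [eq_top_iff]
    intro x _
    exact Algebra.subset_adjoin (Set.mem_univ x)
  obtain ⟨Bs, -, -, hB, hBtop⟩ := exists_between p k Set.univ ∅ (Set.subset_univ _) htop
    (pIndSet_empty p k)
  exact ⟨Bs, isPBasis_val_of p k hB hBtop⟩

theorem S4522_aux (p : ℕ) [Fact p.Prime] {R K L : Type u} [Field R] [Field K] [Field L]
    [Algebra R K] [Algebra K L] [Algebra R L] [IsScalarTower R K L] [CharP L p]
    (hR : Set.range (algebraMap R L) = Set.range fun y : L => y ^ p)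
    (hK : ∀ y : L, y ^ p ∈ Set.range (algebraMap K L)) :
    Function.Injective (KaehlerDifferential.mapBaseChange R K L) := by
  classical
  have hinj : Function.Injective (algebraMap K L) := (algebraMap K L).injective
  haveI : CharP K p := (RingHom.charP_iff (algebraMap K L) hinj p).mpr inferInstance
  obtain ⟨Bs, hy⟩ := exists_isPBasis p R (K := K)
  obtain ⟨Bs', hx⟩ := exists_isPBasis p K (K := L)
  set y : ↥Bs → K := Subtype.val with hydef
  set x : ↥Bs' → L := Subtype.val with hxdef
  -- `x` is a `p`-basis of `L` over `K` itself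
  have hC₁ : ∀ c ∈ EGA41.pPowerSubalgebra p K L, c ∈ Set.range (algebraMap K L) := by
    intro c hc
    induction hc using Algebra.adjoin_induction with
    | mem z hz =>
      obtain ⟨b, rfl⟩ := hz
      exact hK b
    | algebraMap r => exact ⟨r, rfl⟩
    | add z w _ _ hz hw =>
      obtain ⟨a, rfl⟩ := hz
      obtain ⟨a', rfl⟩ := hw
      exact ⟨a + a', map_add _ _ _⟩
    | mul z w _ _ hz hw =>
      obtain ⟨a, rfl⟩ := hz
      obtain ⟨a', rfl⟩ := hw
      exact ⟨a * a', map_mul _ _ _⟩
  let f₁ : K →+* ↥(EGA41.pPowerSubalgebra p K L) :=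
    (algebraMap K L).codRestrict (EGA41.pPowerSubalgebra p K L)
      (fun a => Subalgebra.algebraMap_mem _ a)
  have hf₁ : Function.Bijective f₁ := by
    constructor
    · intro a a' h
      exact hinj (congrArg Subtype.val h)
    · rintro ⟨c, hc⟩
      obtain ⟨a, rfl⟩ := hC₁ c hc
      exact ⟨a, rfl⟩
  have hxA : IsQBasis K p x := by
    have h1 := (isQBasis_of_isPBasis p K x hx).transport (RingEquiv.refl L)
      ((RingEquiv.ofBijective f₁ hf₁).symm : ↥(EGA41.pPowerSubalgebra p K L) →+* K)
      (RingEquiv.ofBijective f₁ hf₁).symm.surjective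
      (fun c => by
        have h2 : f₁ ((RingEquiv.ofBijective f₁ hf₁).symm c) = c :=
          (RingEquiv.ofBijective f₁ hf₁).apply_symm_apply c
        exact (congrArg Subtype.val h2).symm)
    exact h1
  have hyQ := isQBasis_of_isPBasis p R y hy
  have hB : IsQBasis ↥(EGA41.pPowerSubalgebra p R K) p (Sum.elim x (algebraMap K L ∘ y)) :=
    hxA.tower hyQ
  -- images of `C₂` lie in `R[L^p]`
  have hC₂ : ∀ c ∈ EGA41.pPowerSubalgebra p R K, algebraMap K L c ∈ EGA41.pPowerSubalgebra p R L := by
    intro c hc
    induction hc using Algebra.adjoin_induction with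
    | mem z hz =>
      obtain ⟨a, rfl⟩ := hz
      rw [map_pow]
      exact Algebra.subset_adjoin ⟨algebraMap K L a, rfl⟩
    | algebraMap r =>
      rw [← IsScalarTower.algebraMap_apply]
      exact Subalgebra.algebraMap_mem _ r
    | add z w _ _ hz hw => rw [map_add]; exact add_mem hz hw
    | mul z w _ _ hz hw => rw [map_mul]; exact mul_mem hz hw
  have hxpow : ∀ i, ∃ ρ : R, algebraMap R L ρ = x i ^ p := by
    intro i
    have : x i ^ p ∈ Set.range (algebraMap R L) := hR ▸ ⟨x i, rfl⟩
    exact this
  choose ρ hρ using hxpow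
  obtain ⟨eL, heL⟩ := kaehler_basis_gen (A₀ := R) p (Sum.elim x (algebraMap K L ∘ y)) hB
    (Sum.elim (fun i => algebraMap R ↥(EGA41.pPowerSubalgebra p R K) (ρ i))
      (fun j => ⟨y j ^ p, Algebra.subset_adjoin ⟨y j, rfl⟩⟩))
    (by
      rintro (i | j)
      · change algebraMap K L (algebraMap R K (ρ i)) = x i ^ p
        rw [← IsScalarTower.algebraMap_apply, hρ]
      · exact map_pow (algebraMap K L) (y j) p)
    (fun a => ⟨algebraMap R ↥(EGA41.pPowerSubalgebra p R K) a, by
      change algebraMap K L (algebraMap R K a) = algebraMap R L a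
      rw [← IsScalarTower.algebraMap_apply]⟩)
    (fun a => derivation_eq_zero_of_mem p _ _ (hC₂ a.1 a.2))
  obtain ⟨eK, heK⟩ := kaehler_basis p y hy
  let e := Algebra.TensorProduct.basis L eK
  have he : ∀ i, e i = (1 : L) ⊗ₜ[K] eK i := fun i => Algebra.TensorProduct.basis_apply eK i
  apply injective_of_basis_li e
  have h1 : (fun i => KaehlerDifferential.mapBaseChange R K L (e i)) = eL ∘ Sum.inr := by
    funext i
    rw [he, heK, KaehlerDifferential.mapBaseChange_tmul, one_smul, KaehlerDifferential.map_D,
      Function.comp_apply, heL]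
    rfl
  rw [h1]
  exact eL.linearIndependent.comp Sum.inr Sum.inr_injective

end Groth.Agent.Lib.Helper21.PBasis
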