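import Mathlib
import Groth.Prelude.Def_EGA41
import Groth.Agent.Lib.Helper21.PBasisC

/-!
# `p`-bases over a perfect base: lifting along `p`-nilpotent thickenings (helper21)
-/

namespace Groth.Agent.Lib.Helper21.PBasis

universe u

section frob

variable {E : Type*} [CommRing E] (p : ℕ)

/-- Frobenius as a ring endomorphism, assuming only `(p : E) = 0` (the zero ring is allowed). -/
def frobHom (hp : p.Prime) (hpE : (p : E) = 0) : E →+* E where
  toFun e := e ^ p
  map_one' := one_pow p
  map_mul' a b := mul_pow a b p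
  map_zero' := zero_pow hp.ne_zero
  map_add' a b := by
    rw [add_pow_prime_eq hp, hpE]
    ring

@[simp] theorem frobHom_apply (hp : p.Prime) (hpE : (p : E) = 0) (e : E) :
    frobHom p hp hpE e = e ^ p := rfl

end frob

section step

variable (p : ℕ) [Fact p.Prime] {A B : Type u} [CommRing A] [CharP A p] [PerfectRing A p]
  [CommRing B] [Algebra A B] [CharP B p] [IsReduced B] {ι : Type u} (x : ι → B)

/-- `b ↦ b^p` as a ring isomorphism `B ≃ A[B^p]` for perfect `A` and reduced `B`. -/
noncomputable def frobEquiv : B ≃+* ↥(EGA41.pPowerSubalgebra p A B) :=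
  RingEquiv.ofBijective
    ((frobenius B p).codRestrict (EGA41.pPowerSubalgebra p A B)
      (fun b => Algebra.subset_adjoin ⟨b, rfl⟩))
    (by
      constructor
      · intro a b hab
        apply frobenius_inj B p
        exact congrArg Subtype.val hab
      · rintro ⟨c, hc⟩
        suffices h : ∃ b : B, b ^ p = c by
          obtain ⟨b, hb⟩ := h
          exact ⟨b, Subtype.ext hb⟩
        induction hc using Algebra.adjoin_induction with
        | mem y hy => exact hy
        | algebraMap r =>
          obtain ⟨r', hr'⟩ := surjective_frobenius A p r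
          refine ⟨algebraMap A B r', ?_⟩
          rw [← map_pow, ← hr']
          rfl
        | add y z _ _ hy hz =>
          obtain ⟨b, rfl⟩ := hy
          obtain ⟨b', rfl⟩ := hz
          exact ⟨b + b', add_pow_char b b' p⟩
        | mul y z _ _ hy hz =>
          obtain ⟨b, rfl⟩ := hy
          obtain ⟨b', rfl⟩ := hz
          exact ⟨b * b', mul_pow b b' p⟩)

theorem frobEquiv_apply (b : B) :
    ((frobEquiv p (A := A) b : ↥(EGA41.pPowerSubalgebra p A B)) : B) = b ^ p := rfl

theorem frobEquiv_eq_cpow (i : ι) : frobEquiv p (A := A) (x i) = cpow p A x i := rfl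

/-- Unique lifting along a surjection whose kernel has vanishing `p`-th power. -/
theorem step (hx : EGA41.IsPBasis p A x) {E1 E2 : Type*} [CommRing E1] [CommRing E2]
    [Algebra A E1] [Algebra A E2] (ρ : E1 →ₐ[A] E2) (hρ : Function.Surjective ρ)
    (hK : RingHom.ker ρ.toRingHom ^ p = ⊥) (v : B →ₐ[A] E2) (z : ι → E1)
    (hz : ∀ i, ρ (z i) = v (x i)) :
    ∃! w : B →ₐ[A] E1, ρ.comp w = v ∧ ∀ i, w (x i) = z i := by
  have hp : p.Prime := Fact.out
  have h := isQBasis_of_isPBasis p A x hx
  have hpE1 : (p : E1) = 0 := by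
    rw [← map_natCast (algebraMap A E1), CharP.cast_eq_zero, map_zero]
  have hFK : ∀ k ∈ RingHom.ker ρ.toRingHom, frobHom p hp hpE1 k = 0 := by
    intro k hk
    have : k ^ p ∈ RingHom.ker ρ.toRingHom ^ p := Ideal.pow_mem_pow hk p
    rw [hK] at this
    exact this
  let θ' : E1 ⧸ RingHom.ker ρ.toRingHom →+* E1 :=
    Ideal.Quotient.lift (RingHom.ker ρ.toRingHom) (frobHom p hp hpE1) hFK
  let iso : E1 ⧸ RingHom.ker ρ.toRingHom ≃+* E2 :=
    RingHom.quotientKerEquivOfSurjective (f := ρ.toRingHom) hρ
  let θ : B →+* E1 := θ'.comp (iso.symm.toRingHom.comp v.toRingHom)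
  have hθ : ∀ (b : B) (e : E1), ρ e = v b → θ b = e ^ p := by
    intro b e he
    have h1 : iso.symm (v b) = Ideal.Quotient.mk _ e := by
      rw [RingEquiv.symm_apply_eq, ← he]
      exact (RingHom.quotientKerEquivOfSurjective_apply_mk (f := ρ.toRingHom) hρ e).symm
    show θ' (iso.symm (v b)) = e ^ p
    rw [h1]
    exact Ideal.Quotient.lift_mk _ _ _
  let φ : ↥(EGA41.pPowerSubalgebra p A B) →+* E1 :=
    θ.comp (frobEquiv p (A := A) (B := B)).symm.toRingHom
  have hφ : ∀ b : B, φ (frobEquiv p (A := A) b) = θ b := by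
    intro b
    show θ ((frobEquiv p (A := A) (B := B)).symm (frobEquiv p (A := A) b)) = θ b
    rw [RingEquiv.symm_apply_apply]
  have hzp : ∀ i, z i ^ p = φ (cpow p A x i) := by
    intro i
    rw [← frobEquiv_eq_cpow, hφ, hθ (x i) (z i) (hz i)]
  obtain ⟨w0, ⟨hw1, hw2⟩, hwu⟩ := existsUnique_ringHom h hp.pos (cpow p A x)
    (algebraMap_cpow p A x) φ z hzp
  have hw1' : ∀ b : B, w0 (b ^ p) = θ b := by
    intro b
    have := RingHom.congr_fun hw1 (frobEquiv p (A := A) b)
    rw [hφ] at this
    exact this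
  have hcomm : ∀ a : A, w0 (algebraMap A B a) = algebraMap A E1 a := by
    intro a
    obtain ⟨a', ha'⟩ := surjective_frobenius A p a
    have ha : a = a' ^ p := ha'.symm
    rw [ha, map_pow, hw1', hθ (algebraMap A B a') (algebraMap A E1 a') (by simp), ← map_pow]
  let w : B →ₐ[A] E1 := { w0 with commutes' := hcomm }
  have hww0 : ∀ b, w b = w0 b := fun b => rfl
  refine ⟨w, ⟨?_, fun i => hw2 i⟩, ?_⟩
  · have hring : (ρ.toRingHom.comp w0) = v.toRingHom := by
      apply ringHom_ext h
      · ext c
        obtain ⟨b, rfl⟩ := (frobEquiv p (A := A) (B := B)).surjective c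
        obtain ⟨e, he⟩ := hρ (v b)
        show ρ (w0 (b ^ p)) = v (b ^ p)
        rw [hw1', hθ b e he, map_pow, map_pow, he]
      · intro i
        show ρ (w0 (x i)) = v (x i)
        rw [hw2, hz]
    ext b
    exact RingHom.congr_fun hring b
  · rintro w' ⟨hw'1, hw'2⟩
    have : w'.toRingHom = w0 := by
      apply hwu
      constructor
      · ext c
        obtain ⟨b, rfl⟩ := (frobEquiv p (A := A) (B := B)).surjective c
        show w' (b ^ p) = φ (frobEquiv p (A := A) b)
        rw [hφ, map_pow]
        refine (hθ b (w' b) ?_).symm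
        exact AlgHom.congr_fun hw'1 b
      · exact hw'2
    ext b
    exact RingHom.congr_fun this b

end step

end Groth.Agent.Lib.Helper21.PBasis
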