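import Mathlib
import Groth.Agent.S4541
import Groth.Agent.Lib.Helper21.PBasisQ

set_option autoImplicit false

namespace Groth.Agent.Lib.Helper21.FSmoothField

open Groth.Agent.Lib.Helper21.PBasis

universe u

variable (K : Type u) [Field K]

theorem pow_eq_self_of_mem_bot (p : ℕ) [Fact p.Prime] [CharP K p] (x : K)
    (hx : x ∈ (⊥ : Subfield K)) : x ^ p = x := by
  have : (⊥ : Subfield K) ≤ (frobenius K p).eqLocusField (RingHom.id K) := bot_le
  exact this hx

instance charP_bot (p : ℕ) [CharP K p] : CharP (⊥ : Subfield K) p :=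
  (RingHom.charP_iff (⊥ : Subfield K).subtype Subtype.val_injective p).mpr inferInstance

instance perfectRing_bot (p : ℕ) [Fact p.Prime] [CharP K p] : PerfectRing (⊥ : Subfield K) p := by
  have : ExpChar (⊥ : Subfield K) p := ExpChar.prime Fact.out
  apply PerfectRing.ofSurjective
  intro x
  refine ⟨x, ?_⟩
  apply Subtype.ext
  rw [frobenius_def]
  exact pow_eq_self_of_mem_bot K p x x.2

theorem formallySmooth_bot : Algebra.FormallySmooth (⊥ : Subfield K) K := by
  obtain ⟨p, hp⟩ := CharP.exists K
  rcases CharP.char_is_prime_or_zero K p with hpp | rfl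
  · have : Fact p.Prime := ⟨hpp⟩
    obtain ⟨Bs, hB⟩ := exists_isPBasis p (⊥ : Subfield K) (K := K)
    exact (Groth.Agent.S4541.result p _ hB).1
  · have : CharZero K := CharP.charP_to_charZero K
    obtain ⟨ι, x, hx⟩ := exists_isTranscendenceBasis' (⊥ : Subfield K) K
    have := hx.isAlgebraic_field
    exact Algebra.FormallySmooth.of_algebraicIndependent_of_isSeparable hx.1

end Groth.Agent.Lib.Helper21.FSmoothField
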