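import Mathlib
import Groth.Prelude.Def_EGA41
import Groth.Agent.Lib.Helper21.PBasisQ
import Groth.Agent.Lib.Helper21.PBasisJ

set_option autoImplicit false

namespace Groth.Agent.Lib.Helper21.SepSmooth

open Groth.Agent.Lib.Helper21.PBasis TensorProduct

universe u

section PInd

variable (p : ℕ) [Fact p.Prime] {P k K : Type u} [Field P] [Field k] [Field K] [Algebra P k]
  [Algebra P K] [Algebra k K] [IsScalarTower P k K] [CharP k p] [CharP K p] [PerfectRing P p]

omit [Fact p.Prime] [CharP k p] in
/-- over a perfect base, `P[K^p]` consists of `p`-th powers -/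
theorem exists_pow_eq_of_mem_pPow [Fact p.Prime] {c : K} (hc : c ∈ EGA41.pPowerSubalgebra p P K) :
    ∃ γ : K, γ ^ p = c := by
  induction hc using Algebra.adjoin_induction with
  | mem z hz =>
    obtain ⟨b, rfl⟩ := hz
    exact ⟨b, rfl⟩
  | algebraMap r =>
    obtain ⟨r', hr'⟩ := (PerfectRing.bijective_frobenius (R := P) (p := p)).2 r
    refine ⟨algebraMap P K r', ?_⟩
    rw [← map_pow, ← hr']
  | add y z _ _ hy hz =>
    obtain ⟨a, rfl⟩ := hy
    obtain ⟨b, rfl⟩ := hz
    exact ⟨a + b, add_pow_char a b p⟩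
  | mul y z _ _ hy hz =>
    obtain ⟨a, rfl⟩ := hy
    obtain ⟨b, rfl⟩ := hz
    exact ⟨a * b, mul_pow a b p⟩

omit [IsScalarTower P k K] in
/-- `p`-independence over `P` is preserved by a geometrically reduced extension (char `p`). -/
theorem li_map_of_geomReduced [Algebra.IsGeometricallyReduced k K] {ι : Type*} (b : ι → k)
    (hli : LinearIndependent ↥(EGA41.pPowerSubalgebra p P k)
      (fun e : {e : ι →₀ ℕ // ∀ i, e i < p} => mon b e.1)) :
    LinearIndependent ↥(EGA41.pPowerSubalgebra p P K)
      (fun e : {e : ι →₀ ℕ // ∀ i, e i < p} => mon (fun i => algebraMap k K (b i)) e.1) := by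
  classical
  have hp0 : 0 < p := (Fact.out : p.Prime).pos
  let L := AlgebraicClosure k
  haveI : CharP L p := charP_of_injective_algebraMap (algebraMap k L).injective p
  have hμ : ∀ e : {e : ι →₀ ℕ // ∀ i, e i < p}, ∃ μ : L, μ ^ p = algebraMap k L (mon b e.1) :=
    fun e => IsAlgClosed.exists_pow_nat_eq _ hp0
  choose μ hμ using hμ
  -- the `μ e` are linearly independent over `k`
  have hμli : LinearIndependent k μ := by
    rw [linearIndependent_iff']
    intro t a hsum e he
    have h1 : algebraMap k L (∑ e ∈ t, a e ^ p * mon b e.1) = 0 := by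
      have := congrArg (fun x => x ^ p) hsum
      beta_reduce at this
      rw [sum_pow_char, zero_pow hp0.ne'] at this
      rw [map_sum, ← this]
      refine Finset.sum_congr rfl fun e _ => ?_
      rw [Algebra.smul_def, mul_pow, hμ, map_mul, map_pow]
    have h2 : ∑ e ∈ t, a e ^ p * mon b e.1 = 0 := (algebraMap k L).injective (by rw [h1, map_zero])
    have h3 : ∑ e ∈ t, (⟨a e ^ p, pow_mem_Cp p P k (a e)⟩ : ↥(EGA41.pPowerSubalgebra p P k)) •
        mon b e.1 = 0 := by
      rw [← h2]
      exact Finset.sum_congr rfl fun e _ => rfl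
    have h4 := linearIndependent_iff'.mp hli t _ h3 e he
    have h5 : a e ^ p = 0 := congrArg Subtype.val h4
    exact pow_eq_zero_iff hp0.ne' |>.mp h5
  have hred : IsReduced (K ⊗[k] L) :=
    isReduced_of_injective (Algebra.TensorProduct.comm k K L).toAlgHom (AlgEquiv.injective _)
  haveI : CharP (K ⊗[k] L) p :=
    charP_of_injective_algebraMap (algebraMap K (K ⊗[k] L)).injective p
  have hli2 : LinearIndependent K (fun e => (1 : K) ⊗ₜ[k] μ e) :=
    Module.Flat.linearIndependent_one_tmul hμli
  rw [linearIndependent_iff']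
  intro s g hsum e he
  have hγ : ∀ e, ∃ γ : K, γ ^ p = (g e : K) := fun e => exists_pow_eq_of_mem_pPow p (g e).2
  choose γ hγ using hγ
  set z : K ⊗[k] L := ∑ e ∈ s, γ e ⊗ₜ[k] μ e with hz
  have hzp : z ^ p = 0 := by
    rw [hz, sum_pow_char]
    have h1 : ∀ e ∈ s, (γ e ⊗ₜ[k] μ e) ^ p =
        ((g e : K) * mon (fun i => algebraMap k K (b i)) e.1) ⊗ₜ[k] (1 : L) := by
      intro e _
      rw [Algebra.TensorProduct.tmul_pow, hγ, hμ, Algebra.algebraMap_eq_smul_one,
        ← TensorProduct.smul_tmul, Algebra.smul_def, mul_comm]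
      congr 2
      exact map_mon (algebraMap k K) b e.1
    rw [Finset.sum_congr rfl h1, ← TensorProduct.sum_tmul]
    have h2 : ∑ e ∈ s, (g e : K) * mon (fun i => algebraMap k K (b i)) e.1 = 0 := by
      rw [← hsum]
      exact Finset.sum_congr rfl fun e _ => rfl
    rw [h2, TensorProduct.zero_tmul]
  have hz0 : z = 0 := (IsNilpotent.eq_zero ⟨p, hzp⟩)
  have hz' : ∑ e ∈ s, γ e • ((1 : K) ⊗ₜ[k] μ e) = 0 := by
    rw [← hz0, hz]
    refine Finset.sum_congr rfl fun e _ => ?_
    rw [TensorProduct.smul_tmul', smul_eq_mul, mul_one]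
  have h6 := linearIndependent_iff'.mp hli2 s γ hz' e he
  apply Subtype.ext
  rw [← hγ, h6, zero_pow hp0.ne']
  rfl

end PInd

section Smooth

theorem mapBaseChange_injective_of_geomReduced (p : ℕ) [Fact p.Prime] {P k K : Type u} [Field P]
    [Field k] [Field K] [Algebra P k]
    [Algebra P K] [Algebra k K] [IsScalarTower P k K] [CharP k p] [CharP K p] [PerfectRing P p]
    [Algebra.IsGeometricallyReduced k K] :
    Function.Injective (KaehlerDifferential.mapBaseChange P k K) := by
  obtain ⟨Bs, hB⟩ := exists_isPBasis p P (K := k)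
  obtain ⟨bΩ, hbΩ⟩ := kaehler_basis p (Subtype.val : Bs → k) hB
  have hli := li_map_of_geomReduced (K := K) p (Subtype.val : Bs → k) hB.1
  let β : Bs → K := fun t => algebraMap k K t
  have hβinj : Function.Injective β := (algebraMap k K).injective.comp Subtype.val_injective
  have hPInd : PInd p P β := (isPIndependent_iff_poly p P β).mp hli
  have hset : PIndSet p P (Set.range β) := (pInd_iff_pIndSet_range p P β hβinj).mp hPInd
  obtain ⟨Bs', hsub, b', hb'⟩ := exists_kaehler_basis_of_pIndSet p P hset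
  apply injective_of_basis_li (Algebra.TensorProduct.basis K bΩ)
  have hfam : (fun t => KaehlerDifferential.mapBaseChange P k K (Algebra.TensorProduct.basis K bΩ t)) =
      fun t => b' ⟨β t, hsub ⟨t, rfl⟩⟩ := by
    funext t
    rw [Algebra.TensorProduct.basis_apply, hbΩ, KaehlerDifferential.mapBaseChange_tmul, one_smul,
      KaehlerDifferential.map_D, hb']
  rw [hfam]
  exact b'.linearIndependent.comp _ (fun t₁ t₂ h => hβinj (congrArg Subtype.val h))

theorem formallySmooth_of_geomReduced_charP (p : ℕ) [Fact p.Prime] {P k K : Type u} [Field P]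
    [Field k] [Field K] [Algebra P k]
    [Algebra P K] [Algebra k K] [IsScalarTower P k K] [CharP k p] [CharP K p] [PerfectRing P p]
    [Algebra.IsGeometricallyReduced k K]
    [Algebra.FormallySmooth P K] : Algebra.FormallySmooth k K := by
  have hinj := mapBaseChange_injective_of_geomReduced p (P := P) (k := k) (K := K)
  have h1 := Algebra.H1Cotangent.exact_map_δ P k K
  have h2 := Algebra.H1Cotangent.exact_δ_mapBaseChange P k K
  have hx : ∀ x : Algebra.H1Cotangent k K, x = 0 := by
    intro x
    have h3 : Algebra.H1Cotangent.δ P k K x = 0 :=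
      hinj (by rw [map_zero]; exact (h2 _).mpr ⟨x, rfl⟩)
    obtain ⟨w, rfl⟩ := (h1 x).mp h3
    rw [Subsingleton.elim w 0, map_zero]
  exact ⟨inferInstance, ⟨fun x y => by rw [hx x, hx y]⟩⟩

end Smooth

end Groth.Agent.Lib.Helper21.SepSmooth
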