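import Mathlib
import Groth.Agent.Lib.Helper21.SepSmooth
import Groth.Agent.Lib.Helper21.FSmoothField

set_option autoImplicit false

namespace Groth.Agent.Lib.Helper21.SepSmooth

open Groth.Agent.Lib.Helper21.PBasis Groth.Agent.Lib.Helper21.FSmoothField

universe u

/-- a geometrically reduced (= separable) field extension is formally smooth -/
theorem formallySmooth_of_geomReduced {k K : Type u} [Field k] [Field K] [Algebra k K]
    [Algebra.IsGeometricallyReduced k K] : Algebra.FormallySmooth k K := by
  obtain ⟨p, hp⟩ := CharP.exists k
  rcases CharP.char_is_prime_or_zero k p with hpp | rfl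
  · haveI : Fact p.Prime := ⟨hpp⟩
    haveI : CharP K p := charP_of_injective_algebraMap (algebraMap k K).injective p
    let P := (⊥ : Subfield k)
    haveI : IsScalarTower P k K := inferInstance
    haveI : Algebra.FormallySmooth P K := by
      obtain ⟨Bs, hB⟩ := exists_isPBasis p P (K := K)
      exact (Groth.Agent.S4541.result p _ hB).1
    exact formallySmooth_of_geomReduced_charP p (P := P)
  · haveI : CharZero k := CharP.charP_to_charZero k
    obtain ⟨ι, x, hx⟩ := exists_isTranscendenceBasis' k K
    haveI := hx.isAlgebraic_field
    exact Algebra.FormallySmooth.of_algebraicIndependent_of_isSeparable hx.1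

end Groth.Agent.Lib.Helper21.SepSmooth
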