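import Mathlib
import Groth.Prelude.Def_EGA41
import Groth.Agent.Lib.Helper21.PBasisG

set_option autoImplicit false

namespace Groth.Agent.Lib.Helper21.SepSmooth

open TensorProduct Groth.Agent.Lib.Helper21.PBasis

universe u

section DiffLI

variable (p : ℕ) [Fact p.Prime] (k : Type u) {K : Type u} [Field k] [Field K] [Algebra k K]
  [CharP K p]

theorem D_mem_span_of_mem_adjoin (s : Set K) {u : K}
    (hu : u ∈ Algebra.adjoin ↥(EGA41.pPowerSubalgebra p k K) s) :
    KaehlerDifferential.D k K u ∈ Submodule.span K (KaehlerDifferential.D k K '' s) := by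
  induction hu using Algebra.adjoin_induction with
  | mem t ht => exact Submodule.subset_span ⟨t, ht, rfl⟩
  | algebraMap c =>
    have : KaehlerDifferential.D k K (c : K) = 0 := (D_eq_zero_iff p k _).mpr c.2
    show KaehlerDifferential.D k K (c : K) ∈ _
    rw [this]
    exact zero_mem _
  | add y z _ _ hy hz => rw [map_add]; exact add_mem hy hz
  | mul y z _ _ hy hz =>
    rw [Derivation.leibniz]
    exact add_mem (Submodule.smul_mem _ _ hz) (Submodule.smul_mem _ _ hy)

/-- a set whose differentials are linearly independent is `p`-independent -/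
theorem pIndSet_of_linearIndependent_D (T : Set K)
    (hli : LinearIndependent K (fun t : T => KaehlerDifferential.D k K (t : K))) :
    PIndSet p k T := by
  classical
  have hfin : ∀ s : Finset K, (↑s : Set K) ⊆ T → PIndSet p k (↑s : Set K) := by
    intro s
    induction s using Finset.induction_on with
    | empty =>
      intro _
      rw [Finset.coe_empty]
      exact pIndSet_empty p k
    | insert u s hus ih =>
      intro hsub
      rw [Finset.coe_insert] at hsub ⊢
      have hsT : (↑s : Set K) ⊆ T := fun t ht => hsub (Set.mem_insert_of_mem u ht)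
      have huT : u ∈ T := hsub (Set.mem_insert u _)
      refine pIndSet_insert p k (ih hsT) u ?_
      intro hmem
      have h1 := D_mem_span_of_mem_adjoin p k (↑s : Set K) hmem
      -- contradiction with linear independence
      have h2 := hli.notMem_span_image (s := {t : T | (t : K) ∈ s}) (x := ⟨u, huT⟩)
        (by simpa using hus)
      apply h2
      have : (fun t : T => KaehlerDifferential.D k K (t : K)) '' {t : T | (t : K) ∈ s} =
          KaehlerDifferential.D k K '' (↑s : Set K) := by
        ext ω
        constructor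
        · rintro ⟨t, ht, rfl⟩
          exact ⟨t, ht, rfl⟩
        · rintro ⟨t, ht, rfl⟩
          exact ⟨⟨t, hsT ht⟩, ht, rfl⟩
      rw [this]
      exact h1
  intro r hv hr h0
  exact hfin r.vars hv r (fun _ h => h) hr h0

end DiffLI

theorem key_identity (p : ℕ) [Fact p.Prime] {k R : Type*} [Field k] [CommRing R] [Algebra k R]
    [CharP R p] {E J : Type*} [Fintype J] (m : E → k) (T : Finset E) (c : J → E → k) (a : J → k)
    (ha : ∀ j, a j = ∑ e ∈ T, c j e ^ p * m e) (y : J → R) :
    ∑ j, algebraMap k R (a j) * y j ^ p =
      ∑ e ∈ T, (∑ j, algebraMap k R (c j e) * y j) ^ p * algebraMap k R (m e) := by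
  have : ∀ j, algebraMap k R (a j) * y j ^ p =
      ∑ e ∈ T, (algebraMap k R (c j e) * y j) ^ p * algebraMap k R (m e) := by
    intro j
    conv_lhs => rw [ha j]
    rw [map_sum, Finset.sum_mul]
    refine Finset.sum_congr rfl fun e _ => ?_
    rw [map_mul, map_pow, mul_pow]
    ring
  rw [Finset.sum_congr rfl (fun j _ => this j), Finset.sum_comm]
  refine Finset.sum_congr rfl fun e _ => ?_
  rw [sum_pow_char, Finset.sum_mul]

/-- Core of MacLane's criterion: if a `k^p`-spanning family of `k` stays `K^p`-linearly independent
in `K`, then `K ⊗[k] B` is reduced for every finite reduced `k`-algebra `B`. -/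
theorem isReduced_tensor_of_LD (p : ℕ) [Fact p.Prime] {k K : Type*} [Field k] [Field K]
    [Algebra k K] [CharP k p] [CharP K p] {E : Type*} (m : E → k)
    (hspan : ∀ a : k, ∃ α : E →₀ k, a = α.sum (fun e c => c ^ p * m e))
    (hli : ∀ (T : Finset E) (c : E → K),
      ∑ e ∈ T, c e ^ p * algebraMap k K (m e) = 0 → ∀ e ∈ T, c e = 0)
    (B : Type*) [CommRing B] [Algebra k B] [Module.Finite k B] [IsReduced B] :
    IsReduced (K ⊗[k] B) := by
  classical
  have hp1 : 1 < p := (Fact.out : p.Prime).one_lt
  have hp0 : p ≠ 0 := (Fact.out : p.Prime).ne_zero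
  rcases subsingleton_or_nontrivial (K ⊗[k] B) with hsub | hnt
  · exact ⟨fun x _ => Subsingleton.elim _ _⟩
  haveI : Nontrivial B := by
    by_contra h
    rw [not_nontrivial_iff_subsingleton] at h
    have : Subsingleton (K ⊗[k] B) := by
      refine ⟨fun a b => ?_⟩
      have h0 : ∀ c : K ⊗[k] B, c = 0 := by
        intro c
        induction c using TensorProduct.induction_on with
        | zero => rfl
        | tmul x y => rw [Subsingleton.elim y 0, TensorProduct.tmul_zero]
        | add x y hx hy => rw [hx, hy, add_zero]
      rw [h0 a, h0 b]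
    exact not_subsingleton _ this
  haveI : CharP B p := charP_of_injective_algebraMap (algebraMap k B).injective p
  haveI : CharP (K ⊗[k] B) p :=
    charP_of_injective_algebraMap (algebraMap K (K ⊗[k] B)).injective p
  rw [isReduced_iff_pow_one_lt p hp1]
  intro z hz
  let η := Module.finBasis k B
  let bb := Algebra.TensorProduct.basis K η
  set x : Fin (Module.finrank k B) → K := fun j => bb.repr z j with hx
  have hzsum : z = ∑ j, x j ⊗ₜ[k] η j := by
    conv_lhs => rw [← bb.sum_repr z]
    refine Finset.sum_congr rfl fun j _ => ?_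
    rw [Algebra.TensorProduct.basis_repr_symm_apply']
  set a : Fin (Module.finrank k B) → Fin (Module.finrank k B) → k :=
    fun j l => η.repr (η j ^ p) l with ha
  have hηp : ∀ j, η j ^ p = ∑ l, a j l • η l := fun j => (η.sum_repr _).symm
  -- (1)
  have h1 : ∀ l, ∑ j, algebraMap k K (a j l) * x j ^ p = 0 := by
    have hzp : z ^ p = ∑ l, (∑ j, algebraMap k K (a j l) * x j ^ p) • bb l := by
      rw [hzsum, sum_pow_char]
      have : ∀ j, (x j ⊗ₜ[k] η j) ^ p = ∑ l, (algebraMap k K (a j l) * x j ^ p) • bb l := by
        intro j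
        rw [Algebra.TensorProduct.tmul_pow, hηp, TensorProduct.tmul_sum]
        refine Finset.sum_congr rfl fun l _ => ?_
        rw [Algebra.TensorProduct.basis_repr_symm_apply', TensorProduct.tmul_smul,
          TensorProduct.smul_tmul', Algebra.smul_def]
      rw [Finset.sum_congr rfl (fun j _ => this j), Finset.sum_comm]
      refine Finset.sum_congr rfl fun l _ => ?_
      rw [Finset.sum_smul]
    rw [hz] at hzp
    exact fun l => Fintype.linearIndependent_iff.mp bb.linearIndependent _ hzp.symm l
  -- (2) expand the `a j l`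
  choose α hα using hspan
  let T : Finset E := Finset.univ.biUnion fun j : Fin (Module.finrank k B) =>
    Finset.univ.biUnion fun l : Fin (Module.finrank k B) => (α (a j l)).support
  have hsupp : ∀ j l, (α (a j l)).support ⊆ T := by
    intro j l e he
    rw [Finset.mem_biUnion]
    refine ⟨j, Finset.mem_univ _, ?_⟩
    rw [Finset.mem_biUnion]
    exact ⟨l, Finset.mem_univ _, he⟩
  have haT : ∀ j l, a j l = ∑ e ∈ T, α (a j l) e ^ p * m e := by
    intro j l
    conv_lhs => rw [hα (a j l)]
    exact Finsupp.sum_of_support_subset _ (hsupp j l) _ (fun e _ => by rw [zero_pow hp0, zero_mul])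
  -- (3)
  have h3 : ∀ l, ∀ e ∈ T, ∑ j, algebraMap k K (α (a j l) e) * x j = 0 := by
    intro l
    have := h1 l
    rw [key_identity p m T (fun j e => α (a j l) e) (fun j => a j l) (fun j => haT j l) x] at this
    exact hli T _ this
  -- (4) the linear system has only the trivial solution over `k`
  have h4 : ∀ ξ : Fin (Module.finrank k B) → k,
      (∀ l, ∀ e ∈ T, ∑ j, α (a j l) e * ξ j = 0) → ξ = 0 := by
    intro ξ hξ
    have hw : (∑ j, ξ j • η j) ^ p = 0 := by
      rw [sum_pow_char]
      have : ∀ j, (ξ j • η j) ^ p = ∑ l, (a j l * ξ j ^ p) • η l := by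
        intro j
        rw [smul_pow, hηp, Finset.smul_sum]
        refine Finset.sum_congr rfl fun l _ => ?_
        rw [smul_smul, mul_comm]
      rw [Finset.sum_congr rfl (fun j _ => this j), Finset.sum_comm]
      refine Finset.sum_eq_zero fun l _ => ?_
      rw [← Finset.sum_smul]
      have h5 := key_identity (R := k) p m T (fun j e => α (a j l) e) (fun j => a j l)
        (fun j => haT j l) ξ
      simp only [Algebra.algebraMap_self, RingHom.id_apply] at h5
      rw [h5, Finset.sum_eq_zero, zero_smul]
      intro e he
      rw [hξ l e he, zero_pow hp0, zero_mul]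
    have hw0 : ∑ j, ξ j • η j = 0 := (isReduced_iff_pow_one_lt p hp1).mp inferInstance _ hw
    funext j
    exact Fintype.linearIndependent_iff.mp η.linearIndependent _ hw0 j
  -- (5) linear algebra: left inverse
  let A : (Fin (Module.finrank k B) → k) →ₗ[k] (Fin (Module.finrank k B) × T → k) :=
    LinearMap.pi fun le => ∑ j, α (a j le.1) le.2.1 • LinearMap.proj j
  have hA : ∀ v le, A v le = ∑ j, α (a j le.1) le.2.1 * v j := by
    intro v le
    simp [A]
  have hAinj : LinearMap.ker A = ⊥ := by
    rw [LinearMap.ker_eq_bot']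
    intro ξ hξ
    apply h4
    intro l e he
    have := congrFun hξ (l, ⟨e, he⟩)
    rw [hA] at this
    exact this
  obtain ⟨G, hG⟩ := LinearMap.exists_leftInverse_of_injective A hAinj
  let g : Fin (Module.finrank k B) × T → Fin (Module.finrank k B) → k :=
    fun le => G (fun le' => if le = le' then 1 else 0)
  have hδ : ∀ j j' : Fin (Module.finrank k B),
      ∑ le, α (a j le.1) le.2.1 * g le j' = if j' = j then 1 else 0 := by
    intro j j'
    have h6 : G (A (Pi.single j 1)) j' = (Pi.single j (1 : k) : _ → k) j' := by
      rw [← LinearMap.comp_apply, hG]; rfl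
    rw [LinearMap.pi_apply_eq_sum_univ G (A (Pi.single j 1)), Finset.sum_apply,
      Pi.single_apply] at h6
    rw [← h6]
    refine Finset.sum_congr rfl fun le _ => ?_
    rw [Pi.smul_apply, smul_eq_mul, hA]
    congr 1
    rw [Finset.sum_eq_single j]
    · rw [Pi.single_eq_same, mul_one]
    · intro j'' _ hne
      rw [Pi.single_eq_of_ne hne, mul_zero]
    · intro h; exact absurd (Finset.mem_univ j) h
  have hx0 : ∀ j', x j' = 0 := by
    intro j'
    have h7 : x j' = ∑ j, algebraMap k K (if j' = j then 1 else 0) * x j := by
      rw [Finset.sum_eq_single j']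
      · rw [if_pos rfl, map_one, one_mul]
      · intro j _ hne
        rw [if_neg (Ne.symm hne), map_zero, zero_mul]
      · intro h; exact absurd (Finset.mem_univ j') h
    rw [h7]
    have h8 : ∀ j, algebraMap k K (if j' = j then 1 else 0) * x j =
        ∑ le : Fin (Module.finrank k B) × T,
          algebraMap k K (g le j') * (algebraMap k K (α (a j le.1) le.2.1) * x j) := by
      intro j
      rw [← hδ j j', map_sum, Finset.sum_mul]
      refine Finset.sum_congr rfl fun le _ => ?_
      rw [map_mul]; ring
    rw [Finset.sum_congr rfl (fun j _ => h8 j), Finset.sum_comm]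
    refine Finset.sum_eq_zero fun le _ => ?_
    rw [← Finset.mul_sum, h3 le.1 le.2.1 le.2.2, mul_zero]
  rw [hzsum]
  exact Finset.sum_eq_zero fun j _ => by rw [hx0 j, TensorProduct.zero_tmul]

end Groth.Agent.Lib.Helper21.SepSmooth
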