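import Mathlib
import Groth.Prelude.Def_EGA41
import Groth.Agent.Lib.Helper21.SepSmoothC
import Groth.Agent.Lib.Helper21.SepSmooth
import Groth.Agent.Lib.Helper21.FSmoothField
import Groth.Agent.Lib.Helper21.PBasisQ
import Groth.Agent.Lib.Helper21.PBasisJ

set_option autoImplicit false
set_option linter.style.haveILetI false

namespace Groth.Agent.Lib.Helper21.SepSmooth

open TensorProduct Groth.Agent.Lib.Helper21.PBasis Groth.Agent.Lib.Helper21.FSmoothField

universe u

/-- reduction of geometric reducedness to finite reduced subalgebras of the algebraic closure -/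
theorem isGeometricallyReduced_of_forall_finite {k K : Type u} [Field k] [Field K] [Algebra k K]
    (h : ∀ B : Subalgebra k (AlgebraicClosure k), Module.Finite k B → IsReduced (K ⊗[k] B)) :
    Algebra.IsGeometricallyReduced k K := by
  rw [Algebra.isGeometricallyReduced_field_iff]
  have h' : IsReduced (K ⊗[k] AlgebraicClosure k) := by
    apply IsReduced.tensorProduct_of_flat_of_forall_fg
    intro B hB
    have h1 : Algebra.FiniteType k B := (Subalgebra.fg_iff_finiteType B).mp hB
    have h2 : Algebra.IsIntegral k B :=
      Algebra.IsIntegral.of_injective B.val Subtype.val_injective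
    exact h B Algebra.IsIntegral.finite
  exact isReduced_of_injective (Algebra.TensorProduct.comm k (AlgebraicClosure k) K).toAlgHom
    (AlgEquiv.injective _)

/-- characteristic zero: every field extension is geometrically reduced -/
theorem isGeometricallyReduced_of_charZero {k K : Type u} [Field k] [Field K] [Algebra k K]
    [CharZero k] : Algebra.IsGeometricallyReduced k K := by
  apply isGeometricallyReduced_of_forall_finite
  intro B hB
  let L' : IntermediateField k (AlgebraicClosure k) := IntermediateField.adjoin k (B : Set _)
  have hBL : B ≤ L'.toSubalgebra := fun x hx => IntermediateField.subset_adjoin k _ hx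
  haveI : FiniteDimensional k L' := by
    obtain ⟨s, hs⟩ := (Subalgebra.fg_iff_finiteType B).mpr inferInstance
    have : L' = IntermediateField.adjoin k (s : Set (AlgebraicClosure k)) := by
      apply le_antisymm
      · rw [IntermediateField.adjoin_le_iff]
        intro x hx
        have hx' : x ∈ Algebra.adjoin k (s : Set (AlgebraicClosure k)) := by rw [hs]; exact hx
        exact IntermediateField.algebra_adjoin_le_adjoin k _ hx'
      · apply IntermediateField.adjoin.mono
        intro x hx
        have : x ∈ Algebra.adjoin k (s : Set (AlgebraicClosure k)) := Algebra.subset_adjoin hx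
        rw [hs] at this
        exact this
    rw [this]
    exact IntermediateField.finiteDimensional_adjoin (fun x _ => Algebra.IsIntegral.isIntegral x)
  haveI : Algebra.FormallyUnramified k L' := Algebra.FormallyUnramified.of_isSeparable k L'
  haveI : IsReduced (K ⊗[k] L') := Algebra.FormallyUnramified.isReduced_of_field K (K ⊗[k] L')
  exact isReduced_of_injective
    (Algebra.TensorProduct.map (AlgHom.id k K) (Subalgebra.inclusion hBL))
    (Module.Flat.lTensor_preserves_injective_linearMap _ (Subalgebra.inclusion_injective hBL))

/-- characteristic `p`: a formally smooth field extension is geometrically reduced -/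
theorem isGeometricallyReduced_of_formallySmooth_charP (p : ℕ) [Fact p.Prime] {k K : Type u}
    [Field k] [Field K] [Algebra k K] [CharP k p] [CharP K p] [Algebra.FormallySmooth k K] :
    Algebra.IsGeometricallyReduced k K := by
  classical
  have hp0 : p ≠ 0 := (Fact.out : p.Prime).ne_zero
  let P := (⊥ : Subfield k)
  haveI : IsScalarTower P k K := inferInstance
  obtain ⟨Bs, hB⟩ := exists_isPBasis p P (K := k)
  obtain ⟨bΩ, hbΩ⟩ := kaehler_basis p (Subtype.val : Bs → k) hB
  -- injectivity of the base change map
  have hinj : Function.Injective (KaehlerDifferential.mapBaseChange P k K) := by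
    rw [injective_iff_map_eq_zero]
    intro x hx
    obtain ⟨w, rfl⟩ := (Algebra.H1Cotangent.exact_δ_mapBaseChange P k K x).mp hx
    rw [Subsingleton.elim w 0, map_zero]
  let β : Bs → K := fun t => algebraMap k K t
  have hβinj : Function.Injective β := (algebraMap k K).injective.comp Subtype.val_injective
  have hliΩ : LinearIndependent K (fun t : Bs => KaehlerDifferential.D P K (β t)) := by
    have h1 := (Algebra.TensorProduct.basis K bΩ).linearIndependent.map'
      (KaehlerDifferential.mapBaseChange P k K) (LinearMap.ker_eq_bot.mpr hinj)
    have hfam : (KaehlerDifferential.mapBaseChange P k K) ∘ (Algebra.TensorProduct.basis K bΩ) =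
        fun t => KaehlerDifferential.D P K (β t) := by
      funext t
      rw [Function.comp_apply, Algebra.TensorProduct.basis_apply, hbΩ,
        KaehlerDifferential.mapBaseChange_tmul, one_smul, KaehlerDifferential.map_D]
    rwa [hfam] at h1
  have hset : PIndSet p P (Set.range β) := by
    apply pIndSet_of_linearIndependent_D
    rw [← linearIndependent_equiv (Equiv.ofInjective β hβinj)]
    exact hliΩ
  have hPInd : PInd p P β := (pInd_iff_pIndSet_range p P β hβinj).mpr hset
  have hLI : EGA41.IsPIndependent p P β := (isPIndependent_iff_poly p P β).mpr hPInd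
  -- roots
  have hroot : ∀ c : ↥(EGA41.pPowerSubalgebra p P k), ∃ γ : k, γ ^ p = (c : k) :=
    fun c => exists_pow_eq_of_mem_pPow p c.2
  choose root hroot using hroot
  have hroot0 : root 0 = 0 := by
    have := hroot 0
    rw [ZeroMemClass.coe_zero] at this
    exact (pow_eq_zero_iff hp0).mp this
  apply isGeometricallyReduced_of_forall_finite
  intro B hB'
  haveI : IsReduced B := isReduced_of_injective B.val Subtype.val_injective
  refine isReduced_tensor_of_LD p (E := {e : Bs →₀ ℕ // ∀ i, e i < p})
    (fun e => mon (Subtype.val : Bs → k) e.1) ?_ ?_ B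
  · intro a
    have ha : a ∈ Submodule.span ↥(EGA41.pPowerSubalgebra p P k)
        (Set.range fun e : {e : Bs →₀ ℕ // ∀ i, e i < p} =>
          EGA41.pMonomial (Subtype.val : Bs → k) e.1) := by
      rw [hB.2]; trivial
    rw [Finsupp.mem_span_range_iff_exists_finsupp] at ha
    obtain ⟨c, hc⟩ := ha
    refine ⟨c.mapRange root hroot0, ?_⟩
    rw [Finsupp.sum_mapRange_index (fun e => by rw [zero_pow hp0, zero_mul]), ← hc]
    refine Finsupp.sum_congr fun e _ => ?_
    rw [hroot, Algebra.smul_def]
    rfl
  · intro T c hsum e he
    have h1 := linearIndependent_iff'.mp hLI T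
      (fun e => (⟨c e ^ p, pow_mem_Cp p P K (c e)⟩ : ↥(EGA41.pPowerSubalgebra p P K))) (by
        rw [← hsum]
        refine Finset.sum_congr rfl fun e _ => ?_
        rw [Algebra.smul_def]
        congr 1
        exact (map_mon (algebraMap k K) (Subtype.val : Bs → k) e.1).symm) e he
    have h2 : c e ^ p = 0 := congrArg Subtype.val h1
    exact (pow_eq_zero_iff hp0).mp h2

end Groth.Agent.Lib.Helper21.SepSmooth
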