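import Mathlib
import Groth.Agent.Lib.Helper21.SepSmoothD
import Groth.Agent.Lib.Helper21.SepSmoothB

set_option autoImplicit false
set_option linter.style.haveILetI false

namespace Groth.Agent.Lib.Helper21.SepSmooth

universe u

/-- both directions packaged -/
theorem formallySmooth_iff_geomReduced {k K : Type u} [Field k] [Field K] [Algebra k K] :
    Algebra.FormallySmooth k K ↔ Algebra.IsGeometricallyReduced k K := by
  constructor
  · intro h
    obtain ⟨p, hp⟩ := CharP.exists k
    rcases CharP.char_is_prime_or_zero k p with hpp | rfl
    · haveI : Fact p.Prime := ⟨hpp⟩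
      haveI : CharP K p := charP_of_injective_algebraMap (algebraMap k K).injective p
      exact isGeometricallyReduced_of_formallySmooth_charP p
    · haveI : CharZero k := CharP.charP_to_charZero k
      exact isGeometricallyReduced_of_charZero
  · intro h
    exact formallySmooth_of_geomReduced

section Tower

variable {R S T : Type*} [CommRing R] [CommRing S] [CommRing T] [Algebra R S] [Algebra S T]
  [Algebra R T] [IsScalarTower R S T]

/-- vanishing `H¹(L_{T/S})` gives injectivity of `T ⊗ Ω[S/R] → Ω[T/R]` -/
theorem mapBaseChange_injective_of_subsingleton_h1 [Subsingleton (Algebra.H1Cotangent S T)] :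
    Function.Injective (KaehlerDifferential.mapBaseChange R S T) := by
  rw [injective_iff_map_eq_zero]
  intro x hx
  obtain ⟨w, rfl⟩ := (Algebra.H1Cotangent.exact_δ_mapBaseChange R S T x).mp hx
  rw [Subsingleton.elim w 0, map_zero]

/-- if `H¹(L_{T/R}) = 0` and `T ⊗ Ω[S/R] → Ω[T/R]` is injective then `H¹(L_{T/S}) = 0` -/
theorem subsingleton_h1_of_injective [Subsingleton (Algebra.H1Cotangent R T)]
    (hinj : Function.Injective (KaehlerDifferential.mapBaseChange R S T)) :
    Subsingleton (Algebra.H1Cotangent S T) := by
  have hx : ∀ x : Algebra.H1Cotangent S T, x = 0 := by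
    intro x
    have h3 : Algebra.H1Cotangent.δ R S T x = 0 :=
      hinj (by rw [map_zero]; exact (Algebra.H1Cotangent.exact_δ_mapBaseChange R S T _).mpr ⟨x, rfl⟩)
    obtain ⟨w, rfl⟩ := (Algebra.H1Cotangent.exact_map_δ R S T x).mp h3
    rw [Subsingleton.elim w 0, map_zero]
  exact ⟨fun x y => by rw [hx x, hx y]⟩

end Tower

theorem S2484_aux {K E F : Type u} [Field K] [Field E] [Field F] [Algebra K E] [Algebra E F]
    [Algebra K F] [IsScalarTower K E F] :
    (Algebra.IsGeometricallyReduced E F →
      Function.Injective (KaehlerDifferential.mapBaseChange K E F)) ∧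
    (Algebra.IsGeometricallyReduced K F →
      Function.Injective (KaehlerDifferential.mapBaseChange K E F) →
        Algebra.IsGeometricallyReduced E F) := by
  constructor
  · intro h
    haveI : Algebra.FormallySmooth E F := formallySmooth_iff_geomReduced.mpr h
    exact mapBaseChange_injective_of_subsingleton_h1
  · intro h hinj
    haveI : Algebra.FormallySmooth K F := formallySmooth_iff_geomReduced.mpr h
    haveI := subsingleton_h1_of_injective hinj
    exact formallySmooth_iff_geomReduced.mp ⟨inferInstance, inferInstance⟩

end Groth.Agent.Lib.Helper21.SepSmooth
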