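import Mathlib
import Groth.Agent.Lib.Helper21.SepSmoothE
import Groth.Agent.Lib.Helper21.FSmoothField

set_option autoImplicit false
set_option linter.style.haveILetI false

namespace Groth.Agent.Lib.Helper21.SepSmooth

open IsLocalRing Groth.Agent.Lib.Helper21.FSmoothField

universe u

/-- a field of characteristic `p` is formally smooth over `ZMod p` -/
theorem formallySmooth_zmod (p : ℕ) [Fact p.Prime] (K : Type u) [Field K] [Algebra (ZMod p) K] :
    Algebra.FormallySmooth (ZMod p) K := by
  let P := (⊥ : Subfield K)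
  have hmem : ∀ x : ZMod p, algebraMap (ZMod p) K x ∈ P := by
    intro x
    have : (⊥ : Subfield K) ≤ (algebraMap (ZMod p) K).fieldRange := bot_le
    have h2 : (algebraMap (ZMod p) K).fieldRange ≤ ⊥ := by
      rintro _ ⟨y, rfl⟩
      rw [← ZMod.natCast_zmod_val y, map_natCast]
      exact natCast_mem _ _
    exact h2 ⟨x, rfl⟩
  let f : ZMod p →+* P := (algebraMap (ZMod p) K).codRestrict P hmem
  letI : Algebra (ZMod p) P := f.toAlgebra
  haveI : @IsScalarTower (ZMod p) P K Algebra.toSMul _ _ :=
    IsScalarTower.of_algebraMap_eq (fun _ => rfl)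
  have hbij : Function.Bijective (algebraMap (ZMod p) P) := by
    refine ⟨f.injective, ?_⟩
    intro y
    have : (⊥ : Subfield K) ≤ (algebraMap (ZMod p) K).fieldRange := bot_le
    obtain ⟨x, hx⟩ := this y.2
    exact ⟨x, Subtype.ext hx⟩
  haveI : Algebra.FormallySmooth (ZMod p) P :=
    Algebra.FormallySmooth.of_equiv (AlgEquiv.ofBijective (Algebra.ofId (ZMod p) P) hbij)
  haveI : Algebra.FormallySmooth P K := formallySmooth_bot K
  exact Algebra.FormallySmooth.comp (ZMod p) P K

/-- sections of the residue map from formal smoothness of the residue field -/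
theorem exists_section_of_formallySmooth {R B : Type*} [CommRing R] [CommRing B] [IsLocalRing B]
    [Algebra R B] [Algebra R (ResidueField B)] [IsScalarTower R B (ResidueField B)]
    [Algebra.FormallySmooth R (ResidueField B)] (hnil : ∃ n : ℕ, maximalIdeal B ^ n = ⊥) :
    ∃ σ : ResidueField B →ₐ[R] B, ∀ x, residue B (σ x) = x := by
  let g : B →ₐ[R] ResidueField B := IsScalarTower.toAlgHom R B (ResidueField B)
  have hg : ∀ b, g b = residue B b := fun b => rfl
  have hsurj : Function.Surjective g := residue_surjective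
  have hker : RingHom.ker (g : B →+* ResidueField B) = maximalIdeal B := by
    ext b
    rw [RingHom.mem_ker]
    show residue B b = 0 ↔ _
    exact residue_eq_zero_iff b
  have hnil' : IsNilpotent (RingHom.ker (g : B →+* ResidueField B)) := by
    rw [hker]
    obtain ⟨n, hn⟩ := hnil
    exact ⟨n, hn⟩
  refine ⟨Algebra.FormallySmooth.liftOfSurjective (AlgHom.id R (ResidueField B)) g hsurj hnil', ?_⟩
  intro x
  rw [← hg]
  exact Algebra.FormallySmooth.liftOfSurjective_apply (AlgHom.id R (ResidueField B)) g hsurj hnil' x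

end Groth.Agent.Lib.Helper21.SepSmooth

namespace Groth.Agent.Lib.Helper21.SepSmooth

open IsLocalRing

universe u

theorem S7150_aux (p : ℕ) (hp : p.Prime) (A : Type u) [CommRing A]
    [IsLocalRing A] [CharP A p] (hnil : ∃ n : ℕ, IsLocalRing.maximalIdeal A ^ n = ⊥) :
    (∃ σ : IsLocalRing.ResidueField A →+* A, (IsLocalRing.residue A).comp σ = RingHom.id _) ∧
    ∀ (A' : Type u) [CommRing A'] [IsLocalRing A'] [Algebra A A'] [IsLocalHom (algebraMap A A')],
      (∃ n : ℕ, IsLocalRing.maximalIdeal A' ^ n = ⊥) →
      Algebra.IsGeometricallyReduced (IsLocalRing.ResidueField A) (IsLocalRing.ResidueField A') →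
      ∀ σ : IsLocalRing.ResidueField A →+* A, (IsLocalRing.residue A).comp σ = RingHom.id _ →
        ∃ σ' : IsLocalRing.ResidueField A' →+* A', (IsLocalRing.residue A').comp σ' = RingHom.id _ ∧
          σ'.comp (IsLocalRing.ResidueField.map (algebraMap A A')) = (algebraMap A A').comp σ := by
  haveI : Fact p.Prime := ⟨hp⟩
  constructor
  · letI : Algebra (ZMod p) A := ZMod.algebra A p
    haveI : Algebra.FormallySmooth (ZMod p) (ResidueField A) := formallySmooth_zmod p _
    obtain ⟨σ, hσ⟩ := exists_section_of_formallySmooth (R := ZMod p) (B := A) hnil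
    exact ⟨σ, RingHom.ext hσ⟩
  · intro A' _ _ _ _ hnil' hgr σ hσ
    letI : Algebra (ResidueField A) A' := ((algebraMap A A').comp σ).toAlgebra
    have halg : ∀ x, algebraMap (ResidueField A) A' x = algebraMap A A' (σ x) := fun x => rfl
    haveI : IsScalarTower (ResidueField A) A' (ResidueField A') := by
      refine IsScalarTower.of_algebraMap_eq (fun x => ?_)
      have hx : residue A (σ x) = x := RingHom.congr_fun hσ x
      rw [halg]
      conv_lhs => rw [← hx]
      rfl
    haveI : Algebra.FormallySmooth (ResidueField A) (ResidueField A') :=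
      formallySmooth_iff_geomReduced.mpr hgr
    obtain ⟨σ', hσ'⟩ := exists_section_of_formallySmooth (R := ResidueField A) (B := A') hnil'
    refine ⟨σ', RingHom.ext hσ', ?_⟩
    ext x
    show σ' (algebraMap (ResidueField A) (ResidueField A') x) = algebraMap A A' (σ x)
    rw [σ'.commutes, halg]

end Groth.Agent.Lib.Helper21.SepSmooth
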