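import Mathlib
import Groth.Agent.Lib.Helper21.CoefField
import Groth.Agent.Lib.Helper26.PowerSeriesRLR

set_option autoImplicit false
set_option linter.style.haveILetI false

namespace Groth.Agent.Lib.Helper21.CohenStruct

open IsLocalRing Groth.Agent.Lib.Helper21.FSmoothField Groth.Agent.Lib.Helper26.PowerSeriesRLR

universe u v

/-- a field is formally smooth over a prime field -/
theorem formallySmooth_of_bot_eq_top (k : Type v) (K : Type u) [Field k] [Field K] [Algebra k K]
    (h : (⊥ : Subfield k) = ⊤) : Algebra.FormallySmooth k K := by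
  let P := (⊥ : Subfield K)
  have hr : (algebraMap k K).fieldRange = ⊥ := by
    rw [RingHom.fieldRange_eq_map, ← h, Subfield.map_bot]
  have hmem : ∀ x : k, algebraMap k K x ∈ P := by
    intro x
    have : algebraMap k K x ∈ (algebraMap k K).fieldRange := ⟨x, rfl⟩
    rwa [hr] at this
  let f : k →+* P := (algebraMap k K).codRestrict P hmem
  letI : Algebra k P := f.toAlgebra
  haveI : @IsScalarTower k P K Algebra.toSMul _ _ :=
    IsScalarTower.of_algebraMap_eq (fun _ => rfl)
  have hbij : Function.Bijective (algebraMap k P) := by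
    refine ⟨f.injective, ?_⟩
    intro y
    have : (y : K) ∈ (algebraMap k K).fieldRange := by rw [hr]; exact y.2
    obtain ⟨x, hx⟩ := this
    exact ⟨x, Subtype.ext hx⟩
  haveI : Algebra.FormallySmooth k P :=
    Algebra.FormallySmooth.of_equiv (AlgEquiv.ofBijective (Algebra.ofId k P) hbij)
  haveI : Algebra.FormallySmooth P K := formallySmooth_bot K
  exact Algebra.FormallySmooth.comp k P K

theorem bot_bot_eq_top (k₀ : Type v) [Field k₀] :
    (⊥ : Subfield (⊥ : Subfield k₀)) = ⊤ := by
  rw [eq_top_iff]
  intro x _
  have h1 : (x : k₀) ∈ (⊥ : Subfield (⊥ : Subfield k₀)).map (⊥ : Subfield k₀).subtype := by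
    rw [Subfield.map_bot]; exact x.2
  obtain ⟨y, hy, hyx⟩ := h1
  have : y = x := Subtype.ext hyx
  rwa [← this]

/-- a complete local ring containing a field has a coefficient field -/
theorem exists_section (A : Type u) [CommRing A] [IsLocalRing A]
    [IsAdicComplete (maximalIdeal A) A] (k₀ : Type v) [Field k₀] [Algebra k₀ A] :
    ∃ σ : ResidueField A →+* A, ∀ x, residue A (σ x) = x := by
  let P := (⊥ : Subfield k₀)
  haveI : Algebra.FormallySmooth P (ResidueField A) :=
    formallySmooth_of_bot_eq_top P (ResidueField A) (bot_bot_eq_top k₀)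
  let f : ResidueField A →ₐ[P] A ⧸ maximalIdeal A := AlgHom.id P (ResidueField A)
  obtain ⟨g, hg⟩ := Algebra.FormallySmooth.exists_mkₐ_comp_eq_of_isAdicComplete f
  refine ⟨g, fun x => ?_⟩
  have := congrArg (fun h => h x) hg
  exact this

/-- Cohen structure: a complete Noetherian local ring with coefficient field `K` is a quotient of
a power series ring by an ideal contained in the square of the maximal ideal. -/
theorem exists_surjective (K A : Type u) [Field K] [CommRing A] [IsLocalRing A]
    [IsNoetherianRing A] [IsAdicComplete (maximalIdeal A) A] [Algebra K A]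
    (hK : Function.Surjective ((residue A).comp (algebraMap K A))) :
    ∃ ψ : MvPowerSeries (Fin (Module.finrank (ResidueField A) (CotangentSpace A))) K →ₐ[K] A,
      Function.Surjective ψ ∧
      RingHom.ker ψ ≤ maximalIdeal (MvPowerSeries
        (Fin (Module.finrank (ResidueField A) (CotangentSpace A))) K) ^ 2 := by
  classical
  set n := Module.finrank (ResidueField A) (CotangentSpace A) with hn
  let b : Module.Basis (Fin n) (ResidueField A) (CotangentSpace A) :=
    Module.finBasis (ResidueField A) (CotangentSpace A)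
  have hx : ∀ i, ∃ x : maximalIdeal A, (maximalIdeal A).toCotangent x = b i :=
    fun i => Ideal.toCotangent_surjective _ (b i)
  choose x hx using hx
  obtain ⟨ψ, hψ⟩ := exists_algHom K (fun i => (x i : A)) (fun i => (x i).2)
  have hψm : ∀ i, ψ (MvPowerSeries.X i) ∈ maximalIdeal A := fun i => by rw [hψ]; exact (x i).2
  have hfun : (fun i : Fin n => (maximalIdeal A).toCotangent ⟨ψ (MvPowerSeries.X i), hψm i⟩) = b := by
    funext i
    rw [← hx i]
    congr 1
    exact Subtype.ext (hψ i)
  have hsurj : Function.Surjective ψ := by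
    apply surjective_of_span_cotangent hK ψ hψm
    rw [hfun]
    exact b.span_eq
  refine ⟨ψ, hsurj, ?_⟩
  intro f hf
  rw [RingHom.mem_ker] at hf
  have hnu : ∀ g : MvPowerSeries (Fin n) K, ψ g ∈ maximalIdeal A → g ∈ maximalIdeal _ := by
    intro g hg
    rw [mem_maximalIdeal, mem_nonunits_iff]
    intro hu
    exact (mem_maximalIdeal _).mp hg (hu.map ψ)
  have hfm : f ∈ maximalIdeal (MvPowerSeries (Fin n) K) := hnu f (by rw [show ψ f = 0 from hf]; exact zero_mem _)
  rw [maximalIdeal_mvPowerSeries, Ideal.mem_span_range_iff_exists_fun] at hfm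
  obtain ⟨c, hc⟩ := hfm
  -- each c i is in the maximal ideal
  have hsum : ∑ i, residue A (ψ (c i)) • b i = 0 := by
    have h1 : ∀ i, residue A (ψ (c i)) • b i =
        (maximalIdeal A).toCotangent (ψ (c i) • x i) := by
      intro i
      rw [map_smul, hx i]
      exact (algebraMap_smul (ResidueField A) (ψ (c i)) (b i))
    simp_rw [h1]
    rw [← map_sum, Ideal.toCotangent_eq_zero]
    have : ((∑ i, ψ (c i) • x i : maximalIdeal A) : A) = ψ f := by
      rw [← hc, map_sum]
      push_cast
      refine Finset.sum_congr rfl (fun i _ => ?_)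
      rw [map_mul, hψ]
      rfl
    rw [this, show ψ f = 0 from hf]
    exact zero_mem _
  have hli := b.linearIndependent
  rw [Fintype.linearIndependent_iff] at hli
  have hci := hli _ hsum
  have hcm : ∀ i, c i ∈ maximalIdeal (MvPowerSeries (Fin n) K) := by
    intro i
    apply hnu
    rw [← residue_eq_zero_iff]
    exact hci i
  rw [← hc, pow_two]
  refine Ideal.sum_mem _ (fun i _ => Ideal.mul_mem_mul (hcm i) ?_)
  rw [maximalIdeal_mvPowerSeries]
  exact Ideal.subset_span ⟨i, rfl⟩

end Groth.Agent.Lib.Helper21.CohenStruct
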