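import Mathlib
import Groth.Agent.Lib.Helper21.CohenStruct
import Groth.Agent.Lib.Helper8.ComplDim
import Groth.Agent.S2452

set_option autoImplicit false
set_option linter.style.haveILetI false

namespace Groth.Agent.Lib.Helper21.CohenStruct

open IsLocalRing Groth.Agent.Lib.Helper26.PowerSeriesRLR

universe u

theorem S7622_aux (k A : Type u) [Field k] [CommRing A] [Algebra k A]
    [IsNoetherianRing A] [IsLocalRing A] [Algebra.IsGeometricallyReduced k (IsLocalRing.ResidueField A)] :
    ∃ (n : ℕ) (I : Ideal (MvPowerSeries (Fin n) (IsLocalRing.ResidueField A)))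
      (e : (MvPowerSeries (Fin n) (IsLocalRing.ResidueField A) ⧸ I) ≃ₐ[k]
        AdicCompletion (IsLocalRing.maximalIdeal A) A),
      ∀ a : A, e (Ideal.Quotient.mk I (MvPowerSeries.C (IsLocalRing.residue A a))) -
          algebraMap A (AdicCompletion (IsLocalRing.maximalIdeal A) A) a ∈
        (IsLocalRing.maximalIdeal A).map (algebraMap A (AdicCompletion (IsLocalRing.maximalIdeal A) A)) := by
  classical
  haveI : IsNoetherianRing (AdicCompletion (maximalIdeal A) A) :=
    Groth.Agent.Lib.Helper8.isNoetherianRing_adicCompletion A
  -- the residue field isomorphism as a `k`-algebra map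
  let φ : ResidueField A →ₐ[k] ResidueField (AdicCompletion (maximalIdeal A) A) :=
    { ResidueField.map (algebraMap A (AdicCompletion (maximalIdeal A) A)) with
      commutes' := fun c => by
        show ResidueField.map (algebraMap A (AdicCompletion (maximalIdeal A) A))
          (residue A (algebraMap k A c)) = residue _ (algebraMap k _ c)
        rw [ResidueField.map_residue]
        rfl }
  have hφ : Function.Bijective φ := AdicCompletion.residueField_map_bijective A
  have hφr : ∀ a : A, φ (residue A a) = residue _ (algebraMap A _ a) := fun a => rfl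
  let φe : ResidueField A ≃ₐ[k] ResidueField (AdicCompletion (maximalIdeal A) A) :=
    AlgEquiv.ofBijective φ hφ
  haveI : Algebra.IsGeometricallyReduced k (ResidueField (AdicCompletion (maximalIdeal A) A)) :=
    Algebra.IsGeometricallyReduced.of_injective φe.symm.toAlgHom φe.symm.injective
  obtain ⟨σ', hσ'⟩ := Groth.Agent.S2452.result (k := k) (A := AdicCompletion (maximalIdeal A) A)
  let σ : ResidueField A →ₐ[k] AdicCompletion (maximalIdeal A) A := σ'.comp φ
  letI : Algebra (ResidueField A) (AdicCompletion (maximalIdeal A) A) := σ.toRingHom.toAlgebra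
  haveI : IsScalarTower k (ResidueField A) (AdicCompletion (maximalIdeal A) A) :=
    IsScalarTower.of_algebraMap_eq (fun c => (σ.commutes c).symm)
  have hK : Function.Surjective ((residue (AdicCompletion (maximalIdeal A) A)).comp
      (algebraMap (ResidueField A) (AdicCompletion (maximalIdeal A) A))) := by
    intro y
    obtain ⟨x, rfl⟩ := hφ.2 y
    exact ⟨x, hσ' (φ x)⟩
  obtain ⟨ψ, hs, -⟩ := exists_surjective (ResidueField A) (AdicCompletion (maximalIdeal A) A) hK
  refine ⟨_, RingHom.ker ψ, (Ideal.quotientKerAlgEquivOfSurjective hs).restrictScalars k, ?_⟩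
  intro a
  rw [← AdicCompletion.maximalIdeal_eq_map, ← residue_eq_zero_iff, map_sub, sub_eq_zero]
  have h1 : ((Ideal.quotientKerAlgEquivOfSurjective hs).restrictScalars k)
      (Ideal.Quotient.mk (RingHom.ker ψ) (MvPowerSeries.C (residue A a))) =
      σ' (φ (residue A a)) := by
    show ψ (MvPowerSeries.C (residue A a)) = _
    exact ψ.commutes (residue A a)
  rw [h1, hσ', hφr]

end Groth.Agent.Lib.Helper21.CohenStruct
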