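import Mathlib
import Groth.Agent.Lib.Helper21.CohenStructB

set_option autoImplicit false
set_option linter.style.haveILetI false

namespace Groth.Agent.Lib.Helper21.CohenStruct

open IsLocalRing Groth.Agent.Lib.Helper26.PowerSeriesRLR

universe u

/-- Cohen presentation of the completion of a Noetherian local algebra over a field with separable
residue field, as an algebra over the ground field. -/
theorem exists_presentation (k A : Type u) [Field k] [CommRing A] [Algebra k A]
    [IsNoetherianRing A] [IsLocalRing A]
    [Algebra.IsGeometricallyReduced k (IsLocalRing.ResidueField A)] :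
    ∃ ψ : MvPowerSeries (Fin (Module.finrank (ResidueField (AdicCompletion (maximalIdeal A) A))
        (CotangentSpace (AdicCompletion (maximalIdeal A) A)))) (ResidueField A) →ₐ[k]
        AdicCompletion (maximalIdeal A) A,
      Function.Surjective ψ ∧ RingHom.ker ψ ≤ maximalIdeal _ ^ 2 := by
  classical
  haveI : IsNoetherianRing (AdicCompletion (maximalIdeal A) A) :=
    Groth.Agent.Lib.Helper8.isNoetherianRing_adicCompletion A
  let φ : ResidueField A →ₐ[k] ResidueField (AdicCompletion (maximalIdeal A) A) :=
    { ResidueField.map (algebraMap A (AdicCompletion (maximalIdeal A) A)) with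
      commutes' := fun c => by
        show ResidueField.map (algebraMap A (AdicCompletion (maximalIdeal A) A))
          (residue A (algebraMap k A c)) = residue _ (algebraMap k _ c)
        rw [ResidueField.map_residue]
        rfl }
  have hφ : Function.Bijective φ := AdicCompletion.residueField_map_bijective A
  let φe : ResidueField A ≃ₐ[k] ResidueField (AdicCompletion (maximalIdeal A) A) :=
    AlgEquiv.ofBijective φ hφ
  haveI : Algebra.IsGeometricallyReduced k (ResidueField (AdicCompletion (maximalIdeal A) A)) :=
    Algebra.IsGeometricallyReduced.of_injective φe.symm.toAlgHom φe.symm.injective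
  obtain ⟨σ', hσ'⟩ := Groth.Agent.S2452.result (k := k) (A := AdicCompletion (maximalIdeal A) A)
  let σ : ResidueField A →ₐ[k] AdicCompletion (maximalIdeal A) A := σ'.comp φ
  letI : Algebra (ResidueField A) (AdicCompletion (maximalIdeal A) A) := σ.toRingHom.toAlgebra
  haveI : IsScalarTower k (ResidueField A) (AdicCompletion (maximalIdeal A) A) :=
    IsScalarTower.of_algebraMap_eq (fun c => (σ.commutes c).symm)
  have hK : Function.Surjective ((residue (AdicCompletion (maximalIdeal A) A)).comp
      (algebraMap (ResidueField A) (AdicCompletion (maximalIdeal A) A))) := by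
    intro y
    obtain ⟨x, rfl⟩ := hφ.2 y
    exact ⟨x, hσ' (φ x)⟩
  obtain ⟨ψ, hs, hk⟩ := exists_surjective (ResidueField A) (AdicCompletion (maximalIdeal A) A) hK
  exact ⟨ψ.restrictScalars k, hs, hk⟩

end Groth.Agent.Lib.Helper21.CohenStruct
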