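import Mathlib
import Groth.Agent.Lib.Helper21.CohenStructC
import Groth.Agent.Lib.Helper21.SepSmoothB
import Groth.Agent.Lib.Helper14.AdicFS
import Groth.Agent.Lib.Helper26.RegularRing
import Groth.Prelude.Def_CAlgX

set_option autoImplicit false
set_option linter.style.haveILetI false

namespace Groth.Agent.Lib.Helper21.CohenStruct

open IsLocalRing Groth.Agent.Lib.Helper26.PowerSeriesRLR

universe u

section

variable (k A : Type u) [Field k] [CommRing A] [Algebra k A] [IsNoetherianRing A] [IsLocalRing A]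

/-- statement (b) of S2453 from a bijective presentation -/
theorem b_of_bijective {n : ℕ}
    (ψ : MvPowerSeries (Fin n) (ResidueField A) →ₐ[k] AdicCompletion (maximalIdeal A) A)
    (hb : Function.Bijective ψ) :
    ∃ (n : ℕ) (e : AdicCompletion (maximalIdeal A) A ≃+* MvPowerSeries (Fin n) (ResidueField A)),
       ∀ x : k, e (algebraMap A (AdicCompletion (maximalIdeal A) A) (algebraMap k A x)) =
         algebraMap (ResidueField A) (MvPowerSeries (Fin n) (ResidueField A))
          (algebraMap k (ResidueField A) x) := by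
  refine ⟨n, (RingEquiv.ofBijective ψ hb).symm, fun x => ?_⟩
  rw [RingEquiv.symm_apply_eq]
  show _ = ψ _
  rw [← IsScalarTower.algebraMap_apply k A, ← IsScalarTower.algebraMap_apply k (ResidueField A),
    ψ.commutes]

theorem isRegularLocalRing_mvPowerSeries (K : Type u) [Field K] (n : ℕ) :
    IsRegularLocalRing (MvPowerSeries (Fin n) K) := by
  haveI : IsRegularRing K :=
    Groth.Agent.Lib.Helper26.RegularRing.isRegularRing_of_isRegularLocalRing K
  haveI := Groth.Agent.Lib.Helper26.RegularCompletion.isRegularRing_mvPowerSeries K n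
  exact IsRegularLocalRing.of_isRegularRing_of_isLocalRing _

/-- (b') ⇒ (c) -/
theorem regular_of_equiv {n : ℕ}
    (e : AdicCompletion (maximalIdeal A) A ≃+* MvPowerSeries (Fin n) (ResidueField A)) :
    IsRegularLocalRing A := by
  rw [Groth.Agent.Lib.Helper8.isRegularLocalRing_adicCompletion_iff]
  haveI := isRegularLocalRing_mvPowerSeries (ResidueField A) n
  exact IsRegularLocalRing.of_ringEquiv e.symm

/-- (c) ⇒ (b) -/
theorem b_of_regular [Algebra.IsGeometricallyReduced k (IsLocalRing.ResidueField A)]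
    [IsRegularLocalRing A] :
    ∃ (n : ℕ) (e : AdicCompletion (maximalIdeal A) A ≃+* MvPowerSeries (Fin n) (ResidueField A)),
       ∀ x : k, e (algebraMap A (AdicCompletion (maximalIdeal A) A) (algebraMap k A x)) =
         algebraMap (ResidueField A) (MvPowerSeries (Fin n) (ResidueField A))
          (algebraMap k (ResidueField A) x) := by
  obtain ⟨ψ, hs, -⟩ := exists_presentation k A
  haveI : IsRegularLocalRing (AdicCompletion (maximalIdeal A) A) :=
    (Groth.Agent.Lib.Helper8.isRegularLocalRing_adicCompletion_iff A).mp inferInstance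
  have hd := ((IsRegularLocalRing.iff_finrank_cotangentSpace
    (AdicCompletion (maximalIdeal A) A)).mp inferInstance).le
  have hinj := injective_of_surjective_of_le_ringKrullDim (ResidueField A) _ ψ.toRingHom hs hd
  exact b_of_bijective k A ψ ⟨hinj, hs⟩

end

section transfer

variable {R S₁ S₂ : Type u} [CommRing R] [CommRing S₁] [CommRing S₂] [Algebra R S₁] [Algebra R S₂]

theorem isAdicFormallySmooth_of_equiv {𝔫₁ : Ideal S₁} {𝔫₂ : Ideal S₂}
    (h : CAlgX.IsAdicFormallySmooth R S₁ 𝔫₁) (e : S₁ ≃ₐ[R] S₂)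
    (he : 𝔫₁.map (e : S₁ →+* S₂) ≤ 𝔫₂) : CAlgX.IsAdicFormallySmooth R S₂ 𝔫₂ := by
  intro C _ _ J hJ ψ hψ
  obtain ⟨m, hm⟩ := hψ
  have h1 : ∃ m : ℕ, ∀ x ∈ 𝔫₁ ^ m, (ψ.comp e.toAlgHom) x = 0 := by
    refine ⟨m, fun x hx => ?_⟩
    apply hm
    have : (e : S₁ →+* S₂) x ∈ (𝔫₁ ^ m).map (e : S₁ →+* S₂) := Ideal.mem_map_of_mem _ hx
    rw [Ideal.map_pow] at this
    exact Ideal.pow_right_mono he m this
  obtain ⟨χ, hχ⟩ := h C J hJ (ψ.comp e.toAlgHom) h1
  refine ⟨χ.comp e.symm.toAlgHom, ?_⟩
  ext y
  have := congrArg (fun f => f (e.symm y)) hχ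
  simp only [AlgHom.comp_apply] at this
  show Ideal.Quotient.mkₐ R J (χ (e.symm y)) = ψ y
  rw [this]
  show ψ (e (e.symm y)) = ψ y
  rw [e.apply_symm_apply]

end transfer


section bToA

variable (k A : Type u) [Field k] [CommRing A] [Algebra k A] [IsNoetherianRing A] [IsLocalRing A]

/-- a formally smooth algebra is adically formally smooth for every ideal -/
theorem isAdicFormallySmooth_of_formallySmooth {R S : Type u} [CommRing R] [CommRing S]
    [Algebra R S] [Algebra.FormallySmooth R S] (𝔫 : Ideal S) :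
    CAlgX.IsAdicFormallySmooth R S 𝔫 := by
  intro C _ _ J hJ ψ _
  exact Algebra.FormallySmooth.comp_surjective R S J hJ ψ

/-- power series over a separable extension are adically formally smooth -/
theorem isAdicFormallySmooth_mvPowerSeries (K : Type u) [Field K] [Algebra k K]
    [Algebra.IsGeometricallyReduced k K] (n : ℕ) :
    CAlgX.IsAdicFormallySmooth k (MvPowerSeries (Fin n) K)
      (maximalIdeal (MvPowerSeries (Fin n) K)) := by
  haveI : Algebra.FormallySmooth k K :=
    Groth.Agent.Lib.Helper21.SepSmooth.formallySmooth_of_geomReduced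
  haveI : Algebra.FormallySmooth k (MvPolynomial (Fin n) K) :=
    Algebra.FormallySmooth.comp k K (MvPolynomial (Fin n) K)
  have h1 := isAdicFormallySmooth_of_formallySmooth (R := k)
    (MvPolynomial.idealOfVars (Fin n) K)
  rw [Groth.Agent.Lib.Helper14.isAdicFormallySmooth_iff_adicCompletion _
    (MvPolynomial.idealOfVars_fg _ _)] at h1
  haveI : IsScalarTower k (MvPolynomial (Fin n) K) (MvPowerSeries (Fin n) K) :=
    IsScalarTower.of_algebraMap_eq (fun x => by
      rw [MvPolynomial.algebraMap_apply, MvPowerSeries.algebraMap_apply,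
        MvPowerSeries.algebraMap_apply']
      simp)
  let E : AdicCompletion (MvPolynomial.idealOfVars (Fin n) K) (MvPolynomial (Fin n) K) ≃ₐ[k]
      MvPowerSeries (Fin n) K :=
    ((MvPowerSeries.toAdicCompletionAlgEquiv (Fin n) K).restrictScalars k).symm
  refine isAdicFormallySmooth_of_equiv h1 E ?_
  rw [Ideal.map_map, Ideal.map_le_iff_le_comap]
  intro p hp
  rw [Ideal.mem_comap]
  have h2 : ((E : AdicCompletion (MvPolynomial.idealOfVars (Fin n) K) (MvPolynomial (Fin n) K) →+*
      MvPowerSeries (Fin n) K).comp (algebraMap (MvPolynomial (Fin n) K) _)) p =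
      (p : MvPowerSeries (Fin n) K) := by
    show (MvPowerSeries.toAdicCompletionAlgEquiv (Fin n) K).symm
      (algebraMap (MvPolynomial (Fin n) K) _ p) = _
    rw [AlgEquiv.commutes]
    rfl
  rw [h2, maximalIdeal_mvPowerSeries]
  -- p ∈ idealOfVars, hence its image lies in the span of the variables
  have : (p : MvPowerSeries (Fin n) K) ∈ (MvPolynomial.idealOfVars (Fin n) K).map
      (MvPolynomial.coeToMvPowerSeries.ringHom) := Ideal.mem_map_of_mem _ hp
  rw [MvPolynomial.idealOfVars, Ideal.map_span, ← Set.range_comp] at this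
  convert this using 3
  ext i
  simp

end bToA

end Groth.Agent.Lib.Helper21.CohenStruct
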