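import Mathlib

set_option autoImplicit false
set_option linter.style.haveILetI false

namespace Groth.Agent.Lib.Helper21.FlatSmooth

universe u v w x y

open scoped BigOperators

section inter

variable {R : Type*} [CommRing R]

/-- If `B` is flat and `ρ : E → B` is a surjection then `IE ∩ ker ρ = I (ker ρ)`, in elementwise
form. -/
theorem exists_rep_of_flat {B E : Type*} [CommRing B] [Algebra R B] [Module.Flat R B]
    [CommRing E] [Algebra R E] (ρ : E →ₐ[R] B) (hρ : Function.Surjective ρ) (I : Ideal R)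
    (e : E) (he : e ∈ I.map (algebraMap R E)) (hρe : ρ e = 0) :
    ∃ (s : Finset E) (a : E → R) (n : E → E), (∀ i, a i ∈ I) ∧
      (∀ i, ρ (n i) = 0) ∧ e = ∑ i ∈ s, a i • n i := by
  classical
  have he' : e ∈ I • (Submodule.span R (Set.range (id : E → E))) := by
    rw [Set.range_id, Submodule.span_univ, Ideal.smul_top_eq_map]
    exact he
  rw [Submodule.mem_ideal_smul_span_iff_exists_sum] at he'
  obtain ⟨c, hcI, hce⟩ := he'
  have hsum : e = ∑ i ∈ c.support, c i • i := by
    rw [← hce, Finsupp.sum]; rfl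
  have hrel : ∑ i : ↥c.support, c i.1 • ρ (i.1 : E) = 0 := by
    rw [← hρe, hsum, map_sum, Finset.sum_coe_sort c.support (fun i => c i • ρ i)]
    exact Finset.sum_congr rfl (fun i _ => (map_smul ρ (c i) i).symm)
  obtain ⟨k, m, y, hy, hm⟩ := Module.Flat.isTrivialRelation_of_sum_smul_eq_zero
    (f := fun i : ↥c.support => c i.1) (x := fun i : ↥c.support => ρ (i.1 : E)) hrel
  choose y' hy' using fun j => hρ (y j)
  let m' : E → Fin k → R := fun i => if h : i ∈ c.support then m ⟨i, h⟩ else 0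
  refine ⟨c.support, c, fun i => if i ∈ c.support then i - ∑ j, m' i j • y' j else 0,
    hcI, ?_, ?_⟩
  · intro i
    by_cases h : i ∈ c.support
    · simp only [if_pos h]
      rw [map_sub, map_sum, sub_eq_zero]
      have := hy ⟨i, h⟩
      simp only at this
      rw [this]
      refine Finset.sum_congr rfl (fun j _ => ?_)
      rw [map_smul, hy']
      simp only [m', dif_pos h]
    · simp only [if_neg h, map_zero]
  · rw [hsum]
    have h1 : ∑ i ∈ c.support, c i • (if i ∈ c.support then i - ∑ j, m' i j • y' j else 0) =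
        ∑ i ∈ c.support, c i • i - ∑ j, (∑ i ∈ c.support, c i * m' i j) • y' j := by
      rw [← Finset.sum_coe_sort c.support (fun i => c i • i)]
      rw [← Finset.sum_coe_sort c.support]
      simp_rw [Finset.sum_smul, ← Finset.sum_coe_sort c.support (fun i => (c i * m' i _) • y' _)]
      rw [Finset.sum_comm, ← Finset.sum_sub_distrib]
      refine Finset.sum_congr rfl (fun i _ => ?_)
      rw [if_pos i.2, smul_sub, Finset.smul_sum]
      simp_rw [mul_smul]
    rw [h1]
    have h2 : ∀ j, ∑ i ∈ c.support, c i * m' i j = 0 := by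
      intro j
      rw [← Finset.sum_coe_sort]
      rw [← hm j]
      refine Finset.sum_congr rfl (fun i _ => ?_)
      simp only [m', dif_pos i.2]
    simp_rw [h2, zero_smul, Finset.sum_const_zero, sub_zero]

end inter

variable {R : Type v} [CommRing R] (B : Type w) [CommRing B] [Algebra R B]

/-- the lifting property of `B` against `π` -/
def Lifts {C : Type x} {D : Type y} [CommRing C] [CommRing D] [Algebra R C] [Algebra R D]
    (π : C →ₐ[R] D) : Prop :=
  ∀ u : B →ₐ[R] D, ∃ v : B →ₐ[R] C, π.comp v = u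

/-- the fibre hypothesis: `B` lifts against square-zero surjections of algebras killed by `I` -/
def FibreLifts (I : Ideal R) : Prop :=
  ∀ (C : Type (max v w)) (D : Type w) [CommRing C] [CommRing D] [Algebra R C] [Algebra R D]
    (π : C →ₐ[R] D),
    Function.Surjective π → RingHom.ker π ^ 2 = ⊥ → I.map (algebraMap R C) = ⊥ → Lifts B π

variable {B}

theorem exists_section_of_flat [Module.Flat R B] (I : Ideal R) (H0 : FibreLifts B I)
    {E : Type (max v w)} [CommRing E] [Algebra R E] (ρ : E →ₐ[R] B) (hρ : Function.Surjective ρ)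
    (hsq : RingHom.ker ρ ^ 2 = ⊥) (hI : ∀ a ∈ I, ∀ y ∈ RingHom.ker ρ, a • y = 0) :
    ∃ s : B →ₐ[R] E, ρ.comp s = AlgHom.id R B := by
  classical
  set IE := I.map (algebraMap R E) with hIE
  set IB := I.map (algebraMap R B) with hIB
  have hIEB : IE.map ρ = IB := by
    rw [hIE, hIB]
    have : (ρ : E →+* B).comp (algebraMap R E) = algebraMap R B := ρ.comp_algebraMap
    rw [← this, ← Ideal.map_map]; rfl
  have hle : IE ≤ IB.comap ρ := by
    rw [← Ideal.map_le_iff_le_comap, hIEB]
  let ρbar : (E ⧸ IE) →ₐ[R] (B ⧸ IB) := Ideal.quotientMapₐ IB ρ hle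
  have hρbar : ∀ e, ρbar (Ideal.Quotient.mk IE e) = Ideal.Quotient.mk IB (ρ e) := fun e => rfl
  have hρbar_surj : Function.Surjective ρbar := by
    intro y
    obtain ⟨b, rfl⟩ := Ideal.Quotient.mk_surjective y
    obtain ⟨e, rfl⟩ := hρ b
    exact ⟨Ideal.Quotient.mk IE e, rfl⟩
  have hker : RingHom.ker ρbar = (RingHom.ker ρ).map (Ideal.Quotient.mk IE) := by
    apply le_antisymm
    · intro x hx
      obtain ⟨e, rfl⟩ := Ideal.Quotient.mk_surjective x
      rw [RingHom.mem_ker, hρbar, Ideal.Quotient.eq_zero_iff_mem, ← hIEB] at hx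
      obtain ⟨e', he', hee'⟩ := (Ideal.mem_map_iff_of_surjective ρ hρ).mp hx
      have h1 : e - e' ∈ RingHom.ker ρ := by
        rw [RingHom.mem_ker, map_sub, sub_eq_zero]; exact hee'.symm
      have h2 : Ideal.Quotient.mk IE e = Ideal.Quotient.mk IE (e - e') := by
        rw [map_sub, Ideal.Quotient.eq_zero_iff_mem.mpr he', sub_zero]
      rw [h2]
      exact Ideal.mem_map_of_mem _ h1
    · rw [Ideal.map_le_iff_le_comap]
      intro e he
      rw [Ideal.mem_comap, RingHom.mem_ker, hρbar, (RingHom.mem_ker).mp he, map_zero]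
  have hsqbar : RingHom.ker ρbar ^ 2 = ⊥ := by
    rw [hker, ← Ideal.map_pow, hsq, Ideal.map_bot]
  have hIbar : I.map (algebraMap R (E ⧸ IE)) = ⊥ := by
    have : algebraMap R (E ⧸ IE) = (Ideal.Quotient.mk IE).comp (algebraMap R E) := rfl
    rw [this, ← Ideal.map_map, ← hIE, Ideal.map_quotient_self]
  obtain ⟨t, ht⟩ := H0 _ _ ρbar hρbar_surj hsqbar hIbar (Ideal.Quotient.mkₐ R IB)
  have ht' : ∀ b, ρbar (t b) = Ideal.Quotient.mk IB b := fun b => congrArg (fun f => f b) ht
  let G : Subalgebra R E := AlgHom.equalizer (Ideal.Quotient.mkₐ R IE) (t.comp ρ)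
  have hG : ∀ e, e ∈ G ↔ Ideal.Quotient.mk IE e = t (ρ e) := fun e => Iff.rfl
  let ρG : G →ₐ[R] B := ρ.comp G.val
  have hinj : Function.Injective ρG := by
    rw [injective_iff_map_eq_zero]
    intro g hg
    have hg0 : ρ (g : E) = 0 := hg
    have h1 : (g : E) ∈ IE := by
      rw [← Ideal.Quotient.eq_zero_iff_mem, (hG g).mp g.2, hg0, map_zero]
    obtain ⟨s, a, n, ha, hn, hsum⟩ := exists_rep_of_flat ρ hρ I (g : E) h1 hg0
    apply Subtype.ext
    rw [hsum]
    exact Finset.sum_eq_zero (fun i _ => hI (a i) (ha i) (n i) ((RingHom.mem_ker).mpr (hn i)))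
  have hsurj : Function.Surjective ρG := by
    intro b
    obtain ⟨e₀, he₀⟩ := hρ b
    have h1 : Ideal.Quotient.mk IE e₀ - t b ∈ RingHom.ker ρbar := by
      rw [RingHom.mem_ker, map_sub, hρbar, ht', he₀, sub_self]
    rw [hker] at h1
    obtain ⟨n, hn, hn'⟩ := (Ideal.mem_map_iff_of_surjective _ Ideal.Quotient.mk_surjective).mp h1
    have hρn : ρ n = 0 := (RingHom.mem_ker).mp hn
    have hmem : e₀ - n ∈ G := by
      rw [hG, map_sub, hn', map_sub, hρn, sub_zero, he₀]; ring
    refine ⟨⟨e₀ - n, hmem⟩, ?_⟩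
    show ρ (e₀ - n) = b
    rw [map_sub, hρn, sub_zero, he₀]
  let eG : G ≃ₐ[R] B := AlgEquiv.ofBijective ρG ⟨hinj, hsurj⟩
  refine ⟨G.val.comp eG.symm.toAlgHom, ?_⟩
  ext b
  show ρG (eG.symm b) = b
  exact eG.apply_symm_apply b

section main

variable {R : Type v} [CommRing R] {B : Type w} [CommRing B] [Algebra R B]

/-- core case: the kernel is killed by `I` -/
theorem lifts_of_flat_of_smul_eq_zero [Module.Flat R B] (I : Ideal R) (H0 : FibreLifts B I)
    {C D : Type (max v w)} [CommRing C] [CommRing D] [Algebra R C] [Algebra R D] (π : C →ₐ[R] D)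
    (hπ : Function.Surjective π) (hsq : RingHom.ker π ^ 2 = ⊥)
    (hI : ∀ a ∈ I, ∀ y ∈ RingHom.ker π, a • y = 0) : Lifts B π := by
  intro u
  let E : Subalgebra R (C × B) :=
    AlgHom.equalizer (π.comp (AlgHom.fst R C B)) (u.comp (AlgHom.snd R C B))
  have hE : ∀ x : C × B, x ∈ E ↔ π x.1 = u x.2 := fun x => Iff.rfl
  let ρ : E →ₐ[R] B := (AlgHom.snd R C B).comp E.val
  have hρ : ∀ x : E, ρ x = x.1.2 := fun x => rfl
  have hρs : Function.Surjective ρ := by
    intro b
    obtain ⟨c, hc⟩ := hπ (u b)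
    exact ⟨⟨(c, b), (hE _).mpr hc⟩, rfl⟩
  have hkerρ : ∀ x : E, x ∈ RingHom.ker ρ → x.1.1 ∈ RingHom.ker π := by
    intro x hx
    rw [RingHom.mem_ker] at hx ⊢
    rw [(hE x.1).mp x.2]
    rw [hρ] at hx
    rw [hx, map_zero]
  have hsqρ : RingHom.ker ρ ^ 2 = ⊥ := by
    rw [eq_bot_iff, pow_two, Ideal.mul_le]
    intro x hx y hy
    rw [Ideal.mem_bot]
    apply Subtype.ext
    apply Prod.ext
    · show x.1.1 * y.1.1 = 0
      have : x.1.1 * y.1.1 ∈ RingHom.ker π ^ 2 := by
        rw [pow_two]; exact Ideal.mul_mem_mul (hkerρ x hx) (hkerρ y hy)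
      rw [hsq] at this
      exact this
    · show x.1.2 * y.1.2 = 0
      have : x.1.2 = 0 := hx
      rw [this, zero_mul]
  have hIρ : ∀ a ∈ I, ∀ y ∈ RingHom.ker ρ, a • y = 0 := by
    intro a ha y hy
    apply Subtype.ext
    apply Prod.ext
    · show a • y.1.1 = 0
      exact hI a ha _ (hkerρ y hy)
    · show a • y.1.2 = 0
      have : y.1.2 = 0 := hy
      rw [this, smul_zero]
  obtain ⟨s, hs⟩ := exists_section_of_flat I H0 ρ hρs hsqρ hIρ
  refine ⟨(AlgHom.fst R C B).comp (E.val.comp s), ?_⟩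
  ext b
  show π (s b).1.1 = u b
  rw [(hE (s b).1).mp (s b).2]
  have : ρ (s b) = b := congrArg (fun f => f b) hs
  rw [hρ] at this
  rw [this]

theorem lifts_of_flat_of_pow [Module.Flat R B] (I : Ideal R) (H0 : FibreLifts B I) (k : ℕ) :
    ∀ {C D : Type (max v w)} [CommRing C] [CommRing D] [Algebra R C] [Algebra R D]
      (π : C →ₐ[R] D),
    Function.Surjective π → RingHom.ker π ^ 2 = ⊥ →
    (∀ a ∈ I ^ k, ∀ y ∈ RingHom.ker π, a • y = 0) → Lifts B π := by
  induction k with
  | zero =>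
    intro C D _ _ _ _ π hπ _ hI u
    have hinj : Function.Injective π := by
      rw [injective_iff_map_eq_zero]
      intro y hy
      have := hI 1 (by rw [pow_zero, Ideal.one_eq_top]; trivial) y ((RingHom.mem_ker).mpr hy)
      rwa [one_smul] at this
    let e : C ≃ₐ[R] D := AlgEquiv.ofBijective π ⟨hinj, hπ⟩
    refine ⟨e.symm.toAlgHom.comp u, ?_⟩
    ext b
    exact e.apply_symm_apply (u b)
  | succ k ih =>
    intro C D _ _ _ _ π hπ hsq hI u
    set K := RingHom.ker π with hK
    let K' : Ideal C := Ideal.span {z | ∃ a ∈ I, ∃ y ∈ K, z = a • y}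
    have hK'K : K' ≤ K := by
      rw [Ideal.span_le]
      rintro _ ⟨a, -, y, hy, rfl⟩
      rw [Algebra.smul_def]
      exact Ideal.mul_mem_left _ _ hy
    let π₁ : (C ⧸ K') →ₐ[R] D := Ideal.Quotient.liftₐ K' π (fun a ha => hK'K ha)
    have hπ₁ : ∀ c, π₁ (Ideal.Quotient.mk K' c) = π c := fun c => rfl
    have hπ₁s : Function.Surjective π₁ := by
      intro d
      obtain ⟨c, rfl⟩ := hπ d
      exact ⟨Ideal.Quotient.mk K' c, rfl⟩
    have hker₁ : RingHom.ker π₁ = K.map (Ideal.Quotient.mk K') := by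
      apply le_antisymm
      · intro x hx
        obtain ⟨c, rfl⟩ := Ideal.Quotient.mk_surjective x
        rw [RingHom.mem_ker, hπ₁] at hx
        exact Ideal.mem_map_of_mem _ ((RingHom.mem_ker).mpr hx)
      · rw [Ideal.map_le_iff_le_comap]
        intro c hc
        rw [Ideal.mem_comap, RingHom.mem_ker, hπ₁]
        exact hc
    have hsq₁ : RingHom.ker π₁ ^ 2 = ⊥ := by
      rw [hker₁, ← Ideal.map_pow, hsq, Ideal.map_bot]
    have hI₁ : ∀ a ∈ I, ∀ y ∈ RingHom.ker π₁, a • y = 0 := by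
      intro a ha y hy
      rw [hker₁] at hy
      obtain ⟨y₀, hy₀, rfl⟩ := (Ideal.mem_map_iff_of_surjective _ Ideal.Quotient.mk_surjective).mp hy
      have : a • Ideal.Quotient.mk K' y₀ = Ideal.Quotient.mk K' (a • y₀) := rfl
      rw [this, Ideal.Quotient.eq_zero_iff_mem]
      exact Ideal.subset_span ⟨a, ha, y₀, hy₀, rfl⟩
    obtain ⟨u₁, hu₁⟩ := lifts_of_flat_of_smul_eq_zero I H0 π₁ hπ₁s hsq₁ hI₁ u
    -- now lift `u₁` along `C → C ⧸ K'`
    have hkmk : RingHom.ker (Ideal.Quotient.mkₐ R K') = K' := Ideal.Quotient.mkₐ_ker R K'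
    have hsq₂ : RingHom.ker (Ideal.Quotient.mkₐ R K') ^ 2 = ⊥ := by
      rw [hkmk, eq_bot_iff, ← hsq]
      exact Ideal.pow_right_mono hK'K 2
    have hI₂ : ∀ a ∈ I ^ k, ∀ y ∈ RingHom.ker (Ideal.Quotient.mkₐ R K'), a • y = 0 := by
      intro a ha y hy
      rw [hkmk] at hy
      induction hy using Submodule.span_induction with
      | mem z hz =>
        obtain ⟨a', ha', y', hy', rfl⟩ := hz
        rw [smul_smul]
        exact hI (a * a') (by rw [pow_succ]; exact Ideal.mul_mem_mul ha ha') y' hy'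
      | zero => exact smul_zero a
      | add x y _ _ hx hy => rw [smul_add, hx, hy, add_zero]
      | smul c x _ hx => rw [smul_comm, hx, smul_zero]
    obtain ⟨v, hv⟩ := ih (Ideal.Quotient.mkₐ R K') (Ideal.Quotient.mkₐ_surjective R K') hsq₂ hI₂ u₁
    refine ⟨v, ?_⟩
    ext b
    have h1 : Ideal.Quotient.mk K' (v b) = u₁ b := congrArg (fun f => f b) hv
    have h2 : π₁ (u₁ b) = u b := congrArg (fun f => f b) hu₁
    show π (v b) = u b
    rw [← h2, ← h1, hπ₁]

/-- Flat + formally smooth fibre over a nilpotent ideal implies formally smooth. -/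
theorem formallySmooth_of_flat_of_fibreLifts [Module.Flat R B] (I : Ideal R) (hI : IsNilpotent I)
    (H0 : FibreLifts B I) : Algebra.FormallySmooth R B := by
  apply Algebra.FormallySmooth.of_comp_surjective
  intro C _ _ J hJ u
  obtain ⟨k, hk⟩ := hI
  have hker : RingHom.ker (Ideal.Quotient.mkₐ R J) = J := Ideal.Quotient.mkₐ_ker R J
  obtain ⟨v, hv⟩ := lifts_of_flat_of_pow I H0 k (Ideal.Quotient.mkₐ R J)
    (Ideal.Quotient.mkₐ_surjective R J) (by rw [hker, hJ])
    (fun a ha y _ => by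
      rw [hk] at ha
      rw [(Ideal.mem_bot).mp ha, zero_smul]) u
  exact ⟨v, hv⟩

end main

end Groth.Agent.Lib.Helper21.FlatSmooth
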