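import Mathlib
import Groth.Agent.Lib.Helper21.FlatSmooth
import Groth.Agent.Lib.Helper21.CoefField

set_option autoImplicit false
set_option linter.style.haveILetI false

namespace Groth.Agent.Lib.Helper21.FlatSmooth

universe u

open scoped BigOperators TensorProduct
open IsLocalRing

/-- `Λ/m` is flat over `ℤ/m` when `Λ` is flat over `ℤ`. -/
theorem flat_quotient_zmod (Λ : Type u) [CommRing Λ] [Module.Flat ℤ Λ] (m : ℕ) (x : Λ)
    (hx : x = (m : Λ)) [Algebra (ZMod m) (Λ ⧸ Ideal.span {x})] :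
    Module.Flat (ZMod m) (Λ ⧸ Ideal.span {x}) := by
  let S := ZMod m
  let Q := Λ ⧸ Ideal.span {x}
  let F : S ⊗[ℤ] Λ →ₐ[S] Q :=
    Algebra.TensorProduct.lift (Algebra.ofId S Q) (Ideal.Quotient.mkₐ ℤ (Ideal.span {x}))
      (fun _ _ => Commute.all _ _)
  have hF : ∀ (s : S) (l : Λ), F (s ⊗ₜ l) = algebraMap S Q s * Ideal.Quotient.mk _ l := by
    intro s l
    rfl
  let incR : Λ →+* S ⊗[ℤ] Λ := (Algebra.TensorProduct.includeRight : Λ →ₐ[ℤ] S ⊗[ℤ] Λ).toRingHom
  have hincR : ∀ l, incR l = (1 : S) ⊗ₜ l := fun l => rfl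
  let G : Q →+* S ⊗[ℤ] Λ := Ideal.Quotient.lift (Ideal.span {x}) incR (by
    intro a ha
    obtain ⟨b, rfl⟩ := Ideal.mem_span_singleton'.mp ha
    rw [map_mul, hx, map_natCast]
    have : ((m : ℕ) : S ⊗[ℤ] Λ) = algebraMap S (S ⊗[ℤ] Λ) ((m : ℕ) : S) := by
      rw [map_natCast]
    rw [this, ZMod.natCast_self, map_zero, mul_zero])
  have hG : ∀ l, G (Ideal.Quotient.mk _ l) = (1 : S) ⊗ₜ l := fun l => rfl
  have hGS : ∀ s : S, G (algebraMap S Q s) = s ⊗ₜ (1 : Λ) := by
    intro s
    have := Subsingleton.elim (G.comp (algebraMap S Q))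
      (Algebra.TensorProduct.includeLeftRingHom : S →+* S ⊗[ℤ] Λ)
    exact congrArg (fun f => f s) this
  have hGF : ∀ t, G (F t) = t := by
    intro t
    induction t using TensorProduct.induction_on with
    | zero => simp
    | tmul s l =>
      rw [hF, map_mul, hGS, hG, Algebra.TensorProduct.tmul_mul_tmul, mul_one, one_mul]
    | add a b ha hb => rw [map_add, map_add, ha, hb]
  have hbij : Function.Bijective F := by
    refine ⟨Function.LeftInverse.injective hGF, ?_⟩
    intro q
    obtain ⟨l, rfl⟩ := Ideal.Quotient.mk_surjective q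
    refine ⟨(1 : S) ⊗ₜ l, ?_⟩
    rw [hF, map_one, one_mul]
  exact Module.Flat.of_linearEquiv (LinearEquiv.ofBijective F.toLinearMap hbij).symm


theorem S9455_aux (Λ : Type u) [CommRing Λ] [IsDomain Λ]
    [IsDiscreteValuationRing Λ] (p : ℕ)
    (hp : p.Prime) (hm : IsLocalRing.maximalIdeal Λ = Ideal.span {(p : Λ)}) (n : ℕ) (hn : 1 ≤ n)
    [Algebra (ZMod (p ^ n)) (Λ ⧸ Ideal.span {((p : Λ) ^ n)})] :
    Algebra.FormallySmooth (ZMod (p ^ n)) (Λ ⧸ Ideal.span {((p : Λ) ^ n)}) := by
  classical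
  haveI : Fact p.Prime := ⟨hp⟩
  have hpm : (p : Λ) ∈ maximalIdeal Λ := by rw [hm]; exact Ideal.mem_span_singleton_self _
  have hp0 : (p : Λ) ≠ 0 := by
    intro h0
    apply IsDiscreteValuationRing.not_a_field Λ
    rw [hm, h0, Ideal.span_singleton_eq_bot]
  have hpκ : (p : ResidueField Λ) = 0 := by
    rw [← map_natCast (residue Λ), residue_eq_zero_iff]; exact hpm
  haveI : CharP (ResidueField Λ) p := (CharP.charP_iff_prime_eq_zero hp).mpr hpκ
  haveI : CharZero Λ := by
    obtain ⟨q, hq⟩ := CharP.exists Λ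
    rcases CharP.char_is_prime_or_zero Λ q with hqp | rfl
    · exfalso
      have h1 : (q : ResidueField Λ) = 0 := by
        rw [← map_natCast (residue Λ), CharP.cast_eq_zero, map_zero]
      have h2 : p ∣ q := (CharP.cast_eq_zero_iff (ResidueField Λ) p q).mp h1
      have h3 : p = q := (Nat.prime_dvd_prime_iff_eq hp hqp).mp h2
      apply hp0
      rw [h3, CharP.cast_eq_zero]
    · exact CharP.charP_to_charZero Λ
  haveI : Module.Flat ℤ Λ := inferInstance
  haveI : Module.Flat (ZMod (p ^ n)) (Λ ⧸ Ideal.span {((p : Λ) ^ n)}) :=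
    flat_quotient_zmod Λ (p ^ n) _ (by push_cast; rfl)
  let I : Ideal (ZMod (p ^ n)) := Ideal.span {(p : ZMod (p ^ n))}
  have hInil : IsNilpotent I := by
    refine ⟨n, ?_⟩
    rw [Ideal.span_singleton_pow, Ideal.zero_eq_bot, Ideal.span_singleton_eq_bot]
    have := ZMod.natCast_self (p ^ n)
    push_cast at this
    exact this
  apply formallySmooth_of_flat_of_fibreLifts I hInil
  -- the fibre hypothesis
  intro C D _ _ _ _ π hπ hsq hIC u
  have hpC : (p : C) = 0 := by
    have h1 : algebraMap (ZMod (p ^ n)) C (p : ZMod (p ^ n)) ∈ I.map (algebraMap _ C) :=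
      Ideal.mem_map_of_mem _ (Ideal.mem_span_singleton_self _)
    rw [hIC, Ideal.mem_bot, map_natCast] at h1
    exact h1
  letI : Algebra (ZMod p) C := ZMod.algebra' C (ringChar C) (ringChar.dvd hpC)
  letI : Algebra (ZMod p) D := (π.toRingHom.comp (algebraMap (ZMod p) C)).toAlgebra
  let π' : C →ₐ[ZMod p] D := { π.toRingHom with commutes' := fun _ => rfl }
  have hpD : (p : D) = 0 := by rw [← map_natCast π, hpC, map_zero]
  letI : Algebra (ZMod p) (ResidueField Λ) := ZMod.algebra _ p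
  haveI : Algebra.FormallySmooth (ZMod p) (ResidueField Λ) :=
    Groth.Agent.Lib.Helper21.SepSmooth.formallySmooth_zmod p (ResidueField Λ)
  let ubar : ResidueField Λ →+* D :=
    Ideal.Quotient.lift (maximalIdeal Λ)
      (u.toRingHom.comp (Ideal.Quotient.mk (Ideal.span {((p : Λ) ^ n)}))) (by
        intro a ha
        rw [hm] at ha
        obtain ⟨b, rfl⟩ := Ideal.mem_span_singleton'.mp ha
        rw [map_mul, map_natCast, hpD, mul_zero])
  have hubar : ∀ l : Λ, ubar (residue Λ l) = u (Ideal.Quotient.mk _ l) := fun l => rfl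
  let ubar' : ResidueField Λ →ₐ[ZMod p] D :=
    { ubar with
      commutes' := fun r => by
        have := Subsingleton.elim (ubar.comp (algebraMap (ZMod p) (ResidueField Λ)))
          (algebraMap (ZMod p) D)
        exact congrArg (fun f => f r) this }
  have hnil : IsNilpotent (RingHom.ker (π' : C →+* D)) := ⟨2, hsq⟩
  let w := Algebra.FormallySmooth.liftOfSurjective ubar' π' hπ hnil
  have hw : ∀ x, π' (w x) = ubar' x :=
    Algebra.FormallySmooth.liftOfSurjective_apply ubar' π' hπ hnil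
  have hle : Ideal.span {((p : Λ) ^ n)} ≤ maximalIdeal Λ := by
    rw [Ideal.span_le, Set.singleton_subset_iff]
    exact Ideal.pow_mem_of_mem _ hpm n (by omega)
  let fac : (Λ ⧸ Ideal.span {((p : Λ) ^ n)}) →+* ResidueField Λ := Ideal.Quotient.factor hle
  have hfac : ∀ l, fac (Ideal.Quotient.mk _ l) = residue Λ l := fun l => rfl
  let v : (Λ ⧸ Ideal.span {((p : Λ) ^ n)}) →ₐ[ZMod (p ^ n)] C :=
    { (w : ResidueField Λ →+* C).comp fac with
      commutes' := fun r => by
        have := Subsingleton.elim (((w : ResidueField Λ →+* C).comp fac).comp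
          (algebraMap (ZMod (p ^ n)) _)) (algebraMap (ZMod (p ^ n)) C)
        exact congrArg (fun f => f r) this }
  refine ⟨v, ?_⟩
  ext q
  obtain ⟨l, rfl⟩ := Ideal.Quotient.mk_surjective q
  show π (w (fac (Ideal.Quotient.mk _ l))) = u (Ideal.Quotient.mk _ l)
  rw [hfac, ← hubar]
  exact hw (residue Λ l)

end Groth.Agent.Lib.Helper21.FlatSmooth
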