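import Mathlib
import Groth.Agent.Lib.Helper21.FlatSmooth
import Groth.Agent.Lib.Helper21.SepSmoothB
import Groth.Prelude.Def_EGA41

set_option autoImplicit false
set_option linter.style.haveILetI false

namespace Groth.Agent.Lib.Helper21.FlatSmooth

universe u v w

open scoped BigOperators TensorProduct
open IsLocalRing

section nilp

variable {R : Type v} [CommRing R] {B : Type w} [CommRing B] [Algebra R B]

/-- from square-zero to nilpotent kernels, for a class of test algebras closed under quotients -/
theorem lifts_nilpotent (P : Ideal R)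
    (H : ∀ {C D : Type (max v w)} [CommRing C] [CommRing D] [Algebra R C] [Algebra R D]
      (π : C →ₐ[R] D), Function.Surjective π → RingHom.ker π ^ 2 = ⊥ →
      P.map (algebraMap R C) = ⊥ → Lifts B π) (n : ℕ) :
    ∀ {C D : Type (max v w)} [CommRing C] [CommRing D] [Algebra R C] [Algebra R D]
      (π : C →ₐ[R] D), Function.Surjective π → RingHom.ker π ^ (n + 1) = ⊥ →
      P.map (algebraMap R C) = ⊥ → Lifts B π := by
  induction n with
  | zero =>
    intro C D _ _ _ _ π hπ hk hP
    apply H π hπ _ hP
    rw [zero_add, pow_one] at hk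
    rw [hk, Ideal.bot_pow two_ne_zero]
  | succ n ih =>
    intro C D _ _ _ _ π hπ hk hP u
    set K := RingHom.ker π with hK
    let K' : Ideal C := K ^ (n + 1)
    have hK'K : K' ≤ K := Ideal.pow_le_self (by omega)
    let π₁ : (C ⧸ K') →ₐ[R] D := Ideal.Quotient.liftₐ K' π (fun a ha => hK'K ha)
    have hπ₁ : ∀ c, π₁ (Ideal.Quotient.mk K' c) = π c := fun c => rfl
    have hπ₁s : Function.Surjective π₁ := by
      intro d
      obtain ⟨c, rfl⟩ := hπ d
      exact ⟨Ideal.Quotient.mk K' c, rfl⟩
    have hker₁ : RingHom.ker π₁ = K.map (Ideal.Quotient.mk K') := by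
      apply le_antisymm
      · intro x hx
        obtain ⟨c, rfl⟩ := Ideal.Quotient.mk_surjective x
        rw [RingHom.mem_ker, hπ₁] at hx
        exact Ideal.mem_map_of_mem _ ((RingHom.mem_ker).mpr hx)
      · rw [Ideal.map_le_iff_le_comap]
        intro c hc
        rw [Ideal.mem_comap, RingHom.mem_ker, hπ₁]
        exact hc
    have hk₁ : RingHom.ker π₁ ^ (n + 1) = ⊥ := by
      rw [hker₁, ← Ideal.map_pow, Ideal.map_quotient_self]
    have hP₁ : P.map (algebraMap R (C ⧸ K')) = ⊥ := by
      have : algebraMap R (C ⧸ K') = (Ideal.Quotient.mk K').comp (algebraMap R C) := rfl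
      rw [this, ← Ideal.map_map, hP, Ideal.map_bot]
    obtain ⟨u₁, hu₁⟩ := ih π₁ hπ₁s hk₁ hP₁ u
    have hkmk : RingHom.ker (Ideal.Quotient.mkₐ R K') = K' := Ideal.Quotient.mkₐ_ker R K'
    have hsq₂ : RingHom.ker (Ideal.Quotient.mkₐ R K') ^ 2 = ⊥ := by
      rw [hkmk, eq_bot_iff, ← hk, ← pow_mul]
      exact Ideal.pow_le_pow_right (by omega)
    obtain ⟨v, hv⟩ := H (Ideal.Quotient.mkₐ R K') (Ideal.Quotient.mkₐ_surjective R K') hsq₂ hP u₁
    refine ⟨v, ?_⟩
    ext b
    have h1 : Ideal.Quotient.mk K' (v b) = u₁ b := congrArg (fun f => f b) hv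
    have h2 : π₁ (u₁ b) = u b := congrArg (fun f => f b) hu₁
    show π (v b) = u b
    rw [← h2, ← h1, hπ₁]

end nilp

section residue

variable {A B : Type u} [CommRing A] [IsLocalRing A] [CommRing B] [IsLocalRing B]
    [Algebra A B] [IsLocalHom (algebraMap A B)]

theorem fibreLifts_of_residueField
    (hm : (maximalIdeal A).map (algebraMap A B) = maximalIdeal B)
    [Algebra.FormallySmooth (ResidueField A) (ResidueField B)] :
    FibreLifts B (maximalIdeal A) := by
  intro C D _ _ _ _ π hπ hsq hIC u
  have hmC : ∀ a ∈ maximalIdeal A, algebraMap A C a = 0 := by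
    intro a ha
    have := Ideal.mem_map_of_mem (algebraMap A C) ha
    rwa [hIC, Ideal.mem_bot] at this
  have hmD : ∀ a ∈ maximalIdeal A, algebraMap A D a = 0 := by
    intro a ha
    rw [← π.commutes, hmC a ha, map_zero]
  let fC : ResidueField A →+* C := Ideal.Quotient.lift (maximalIdeal A) (algebraMap A C) hmC
  letI : Algebra (ResidueField A) C := fC.toAlgebra
  letI : Algebra (ResidueField A) D := (π.toRingHom.comp fC).toAlgebra
  let π' : C →ₐ[ResidueField A] D := { π.toRingHom with commutes' := fun _ => rfl }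
  have hmB : ∀ b ∈ maximalIdeal B, u b = 0 := by
    intro b hb
    rw [← hm] at hb
    induction hb using Submodule.span_induction with
    | mem z hz =>
      obtain ⟨a, ha, rfl⟩ := hz
      rw [u.commutes, hmD a ha]
    | zero => exact map_zero u
    | add x y _ _ hx hy => rw [map_add, hx, hy, add_zero]
    | smul c x _ hx => rw [smul_eq_mul, map_mul, hx, mul_zero]
  let ubar : ResidueField B →+* D := Ideal.Quotient.lift (maximalIdeal B) u.toRingHom hmB
  have hubar : ∀ b : B, ubar (residue B b) = u b := fun b => rfl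
  let ubar' : ResidueField B →ₐ[ResidueField A] D :=
    { ubar with
      commutes' := fun r => by
        obtain ⟨a, rfl⟩ := residue_surjective r
        show ubar (algebraMap (ResidueField A) (ResidueField B) (residue A a)) = π (fC (residue A a))
        rw [ResidueField.algebraMap_residue, hubar, u.commutes]
        show algebraMap A D a = π (algebraMap A C a)
        rw [π.commutes] }
  have hnil : IsNilpotent (RingHom.ker (π' : C →+* D)) := ⟨2, hsq⟩
  let w := Algebra.FormallySmooth.liftOfSurjective ubar' π' hπ hnil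
  have hw : ∀ x, π' (w x) = ubar' x :=
    Algebra.FormallySmooth.liftOfSurjective_apply ubar' π' hπ hnil
  let v : B →ₐ[A] C :=
    { (w : ResidueField B →+* C).comp (residue B) with
      commutes' := fun a => by
        show w (residue B (algebraMap A B a)) = algebraMap A C a
        rw [← ResidueField.algebraMap_residue, w.commutes]
        rfl }
  refine ⟨v, ?_⟩
  ext b
  show π (w (residue B b)) = u b
  rw [← hubar]
  exact hw (residue B b)

end residue


theorem S2454_aux {A B : Type u} [CommRing A] [IsLocalRing A] [CommRing B] [IsLocalRing B]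
    [Algebra A B] [IsLocalHom (algebraMap A B)] (h : EGA41.IsCohenAlgebra A B) :
    EGA41.IsFormallySmoothAdic A (maximalIdeal A) B (maximalIdeal B) := by
  obtain ⟨-, -, -, hflat, hm, hgr⟩ := h
  haveI := hflat
  haveI := hgr
  haveI : Algebra.FormallySmooth (ResidueField A) (ResidueField B) :=
    Groth.Agent.Lib.Helper21.SepSmooth.formallySmooth_of_geomReduced
  have H0 := fibreLifts_of_residueField hm
  intro C _ _ J hJ hk u _
  obtain ⟨k, hk⟩ := hk
  have H : ∀ {C D : Type u} [CommRing C] [CommRing D] [Algebra A C] [Algebra A D]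
      (π : C →ₐ[A] D), Function.Surjective π → RingHom.ker π ^ 2 = ⊥ →
      (maximalIdeal A ^ k).map (algebraMap A C) = ⊥ → Lifts B π := by
    intro C D _ _ _ _ π hπ hsq hP
    apply lifts_of_flat_of_pow (maximalIdeal A) H0 k π hπ hsq
    intro a ha y _
    have : algebraMap A C a = 0 := by
      have := Ideal.mem_map_of_mem (algebraMap A C) ha
      rwa [hP, Ideal.mem_bot] at this
    rw [Algebra.smul_def, this, zero_mul]
  obtain ⟨n, hn⟩ := hJ
  have hker : RingHom.ker (Ideal.Quotient.mkₐ A J) ^ (n + 1) = ⊥ := by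
    have h0 : RingHom.ker (Ideal.Quotient.mkₐ A J) = J := Ideal.Quotient.mkₐ_ker A J
    rw [h0, pow_succ, hn, Ideal.zero_eq_bot, Ideal.bot_mul]
  exact lifts_nilpotent (maximalIdeal A ^ k) H n (Ideal.Quotient.mkₐ A J)
    (Ideal.Quotient.mkₐ_surjective A J) hker hk u

end Groth.Agent.Lib.Helper21.FlatSmooth
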