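import Mathlib
import Groth.Agent.Lib.Helper21.FlatSmooth

set_option autoImplicit false
set_option linter.style.haveILetI false

namespace Groth.Agent.Lib.Helper21.FlatSmooth

universe v w x

open Ideal.Quotient

section glue

variable {A : Type v} [CommRing A] {B : Type w} [CommRing B] [Algebra A B] {S : Type x}
  [CommRing S] [Algebra A S]

/-- gluing two maps into quotients -/
theorem exists_glue (a b : Ideal S) (g : B →ₐ[A] S ⧸ a) (f : B →ₐ[A] S ⧸ b)
    (hgf : ∀ β, factor (le_sup_left : a ≤ a ⊔ b) (g β) = factor (le_sup_right : b ≤ a ⊔ b) (f β)) :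
    ∃ φ : B →ₐ[A] S ⧸ (a ⊓ b), (∀ β, factor inf_le_left (φ β) = g β) ∧
      (∀ β, factor inf_le_right (φ β) = f β) := by
  let pa : (S ⧸ (a ⊓ b)) →ₐ[A] S ⧸ a := factorₐ A inf_le_left
  let pb : (S ⧸ (a ⊓ b)) →ₐ[A] S ⧸ b := factorₐ A inf_le_right
  have hpa : ∀ z, pa z = factor inf_le_left z := fun z => rfl
  have hpb : ∀ z, pb z = factor inf_le_right z := fun z => rfl
  let G : Subalgebra A ((S ⧸ (a ⊓ b)) × B) :=
    AlgHom.equalizer (pa.comp (AlgHom.fst A _ B)) (g.comp (AlgHom.snd A _ B)) ⊓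
    AlgHom.equalizer (pb.comp (AlgHom.fst A _ B)) (f.comp (AlgHom.snd A _ B))
  have hG : ∀ z : (S ⧸ (a ⊓ b)) × B, z ∈ G ↔ pa z.1 = g z.2 ∧ pb z.1 = f z.2 := fun z => Iff.rfl
  let ρ : G →ₐ[A] B := (AlgHom.snd A _ B).comp G.val
  have hρ : ∀ z : G, ρ z = z.1.2 := fun z => rfl
  have hinj : Function.Injective ρ := by
    rw [injective_iff_map_eq_zero]
    intro z hz
    rw [hρ] at hz
    obtain ⟨h1, h2⟩ := (hG z.1).mp z.2
    rw [hz, map_zero] at h1 h2
    obtain ⟨s, hs⟩ := mk_surjective z.1.1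
    rw [← hs, hpa, factor_mk, eq_zero_iff_mem] at h1
    rw [← hs, hpb, factor_mk, eq_zero_iff_mem] at h2
    apply Subtype.ext
    apply Prod.ext
    · show z.1.1 = 0
      rw [← hs, eq_zero_iff_mem]
      exact ⟨h1, h2⟩
    · exact hz
  have hsurj : Function.Surjective ρ := by
    intro β
    obtain ⟨s, hs⟩ := mk_surjective (g β)
    obtain ⟨t, ht⟩ := mk_surjective (f β)
    have h := hgf β
    rw [← hs, ← ht, factor_mk, factor_mk, Ideal.Quotient.eq, Submodule.mem_sup] at h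
    obtain ⟨α, hα, γ, hγ, hαγ⟩ := h
    refine ⟨⟨(mk (a ⊓ b) (s - α), β), (hG _).mpr ⟨?_, ?_⟩⟩, rfl⟩
    · show pa (mk (a ⊓ b) (s - α)) = g β
      rw [hpa, factor_mk, ← hs, Ideal.Quotient.eq]
      simpa using a.neg_mem hα
    · show pb (mk (a ⊓ b) (s - α)) = f β
      rw [hpb, factor_mk, ← ht, Ideal.Quotient.eq]
      have : s - α - t = γ := by linear_combination hαγ.symm
      rw [this]
      exact hγ
  let e : G ≃ₐ[A] B := AlgEquiv.ofBijective ρ ⟨hinj, hsurj⟩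
  have he : ∀ β, (e.symm β).1.2 = β := fun β => e.apply_symm_apply β
  refine ⟨(AlgHom.fst A _ B).comp (G.val.comp e.symm.toAlgHom), ?_, ?_⟩
  · intro β
    show factor inf_le_left (e.symm β).1.1 = g β
    rw [← hpa, ((hG _).mp (e.symm β).2).1, he]
  · intro β
    show factor inf_le_right (e.symm β).1.1 = f β
    rw [← hpb, ((hG _).mp (e.symm β).2).2, he]

end glue


section tower

variable {A : Type v} [CommRing A] {B : Type w} [CommRing B] [Algebra A B] {S : Type x}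
  [CommRing S] [Algebra A S] (𝔪 J : Ideal S) (f : B →ₐ[A] S ⧸ J)

/-- approximate lifts of `f` modulo `𝔪 ^ n` -/
structure Approx (n : ℕ) where
  /-- the approximation -/
  g : B →ₐ[A] S ⧸ 𝔪 ^ n
  hg : ∀ β, factor (le_sup_right : 𝔪 ^ n ≤ J ⊔ 𝔪 ^ n) (g β) =
    factor (le_sup_left : J ≤ J ⊔ 𝔪 ^ n) (f β)

/-- the lifting hypothesis at level `n` -/
def TowerHyp (B : Type w) [CommRing B] [Algebra A B] (𝔪 : Ideal S) (n : ℕ) : Prop :=
  ∀ (N : Ideal S) (h : 𝔪 ^ (n + 1) ≤ N), N ^ 2 ≤ 𝔪 ^ (n + 1) → Lifts B (factorₐ A h)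

variable {𝔪 J f}

theorem Approx.exists_succ (hJ : J ≤ 𝔪) {n : ℕ} (H : TowerHyp (A := A) B 𝔪 n)
    (a : Approx 𝔪 J f n) :
    ∃ a' : Approx 𝔪 J f (n + 1),
      ∀ β, factor (Ideal.pow_le_pow_right n.le_succ) (a'.g β) = a.g β := by
  set b : Ideal S := J ⊔ 𝔪 ^ (n + 1) with hb
  let f' : B →ₐ[A] S ⧸ b := (factorₐ A (le_sup_left : J ≤ b)).comp f
  have hf' : ∀ β, f' β = factor (le_sup_left : J ≤ b) (f β) := fun β => rfl
  have hagree : ∀ β, factor (le_sup_left : 𝔪 ^ n ≤ 𝔪 ^ n ⊔ b) (a.g β) =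
      factor (le_sup_right : b ≤ 𝔪 ^ n ⊔ b) (f' β) := by
    intro β
    obtain ⟨s, hs⟩ := mk_surjective (a.g β)
    obtain ⟨t, ht⟩ := mk_surjective (f β)
    have h := a.hg β
    rw [← hs, ← ht, factor_mk, factor_mk, Ideal.Quotient.eq] at h
    rw [hf', ← hs, ← ht, factor_mk, factor_mk, factor_mk, Ideal.Quotient.eq]
    have hle : J ⊔ 𝔪 ^ n ≤ 𝔪 ^ n ⊔ b :=
      sup_le (le_sup_left.trans le_sup_right) le_sup_left
    exact hle h
  obtain ⟨φ, hφ1, hφ2⟩ := exists_glue (𝔪 ^ n) b a.g f' hagree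
  have hbm : b ≤ 𝔪 := sup_le hJ (Ideal.pow_le_self (Nat.succ_ne_zero n))
  have h1 : 𝔪 ^ (n + 1) ≤ 𝔪 ^ n ⊓ b := le_inf (Ideal.pow_le_pow_right n.le_succ) le_sup_right
  have h2 : (𝔪 ^ n ⊓ b) ^ 2 ≤ 𝔪 ^ (n + 1) := by
    rw [pow_two, pow_succ]
    exact Ideal.mul_mono inf_le_left (inf_le_right.trans hbm)
  obtain ⟨g', hg'⟩ := H (𝔪 ^ n ⊓ b) h1 h2 φ
  have hg'' : ∀ β, factor h1 (g' β) = φ β := fun β => congrArg (fun k => k β) hg'
  refine ⟨⟨g', fun β => ?_⟩, fun β => ?_⟩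
  · have := hφ2 β
    rw [← hg'' β, factor_comp_apply, hf'] at this
    exact this
  · have := hφ1 β
    rw [← hg'' β, factor_comp_apply] at this
    exact this

/-- the trivial approximation at level `0` -/
noncomputable def Approx.zero : Approx 𝔪 J f 0 where
  g :=
    haveI : Subsingleton (S ⧸ 𝔪 ^ 0) := by
      rw [pow_zero, Ideal.one_eq_top]
      exact Ideal.Quotient.subsingleton_iff.mpr rfl
    { toFun := fun _ => 0
      map_one' := Subsingleton.elim _ _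
      map_mul' := fun _ _ => Subsingleton.elim _ _
      map_zero' := rfl
      map_add' := fun _ _ => Subsingleton.elim _ _
      commutes' := fun _ => Subsingleton.elim _ _ }
  hg := fun β => by
    haveI : Subsingleton (S ⧸ (J ⊔ 𝔪 ^ 0)) := by
      rw [pow_zero, Ideal.one_eq_top, sup_top_eq]
      exact Ideal.Quotient.subsingleton_iff.mpr rfl
    exact Subsingleton.elim _ _

/-- the sequence of approximations -/
noncomputable def Approx.seq (hJ : J ≤ 𝔪) (H : ∀ n, TowerHyp (A := A) B 𝔪 n) :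
    ∀ n, Approx 𝔪 J f n
  | 0 => Approx.zero
  | n + 1 => Classical.choose (Approx.exists_succ hJ (H n) (Approx.seq hJ H n))

theorem Approx.seq_succ (hJ : J ≤ 𝔪) (H : ∀ n, TowerHyp (A := A) B 𝔪 n) (n : ℕ) (β : B) :
    factor (Ideal.pow_le_pow_right n.le_succ) ((Approx.seq (f := f) hJ H (n + 1)).g β) =
      (Approx.seq (f := f) hJ H n).g β :=
  Classical.choose_spec (Approx.exists_succ hJ (H n) (Approx.seq hJ H n)) β

/-- lifting through a complete tower -/
theorem exists_lift_of_tower [IsAdicComplete 𝔪 S]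
    [IsHausdorff (𝔪.map (Ideal.Quotient.mk J)) (S ⧸ J)] (hJ : J ≤ 𝔪)
    (H : ∀ n, TowerHyp (A := A) B 𝔪 n) (f : B →ₐ[A] S ⧸ J) :
    ∃ g : B →ₐ[A] S, (Ideal.Quotient.mkₐ A J).comp g = f := by
  let fam : ∀ n, B →ₐ[A] S ⧸ 𝔪 ^ n := fun n => (Approx.seq (f := f) hJ H n).g
  have hfam : ∀ {m n : ℕ} (hle : m ≤ n),
      (factorₐ A (Ideal.pow_le_pow_right hle)).comp (fam n) = fam m := by
    intro m n hle
    induction n, hle using Nat.le_induction with
    | base =>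
      ext β
      show factor (Ideal.pow_le_pow_right (le_refl m)) (fam m β) = fam m β
      obtain ⟨s, hs⟩ := mk_surjective (fam m β)
      rw [← hs, factor_mk]
    | succ n hmn ih =>
      ext β
      have h1 : factor (Ideal.pow_le_pow_right hmn) (fam n β) = fam m β :=
        congrArg (fun k => k β) ih
      show factor (Ideal.pow_le_pow_right (hmn.trans n.le_succ)) (fam (n + 1) β) = fam m β
      rw [← h1, ← Approx.seq_succ hJ H n β, factor_comp_apply]
  refine ⟨IsAdicComplete.liftAlgHom 𝔪 fam hfam, ?_⟩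
  ext β
  show Ideal.Quotient.mk J (IsAdicComplete.liftAlgHom 𝔪 fam hfam β) = f β
  rw [← sub_eq_zero]
  apply IsHausdorff.haus (inferInstance : IsHausdorff (𝔪.map (Ideal.Quotient.mk J)) (S ⧸ J))
  intro n
  rw [SModEq.zero, smul_eq_mul, Ideal.mul_top, ← Ideal.map_pow]
  set s := IsAdicComplete.liftAlgHom 𝔪 fam hfam β with hs
  obtain ⟨t, ht⟩ := mk_surjective (f β)
  have h1 : Ideal.Quotient.mk (𝔪 ^ n) s = fam n β := IsAdicComplete.mk_liftAlgHom 𝔪 fam hfam n β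
  have h2 := (Approx.seq (f := f) hJ H n).hg β
  rw [← ht] at h2 ⊢
  change factor _ (fam n β) = _ at h2
  rw [← h1, factor_mk, factor_mk, Ideal.Quotient.eq, Submodule.mem_sup] at h2
  obtain ⟨j, hj, y, hy, hjy⟩ := h2
  rw [← map_sub, ← hjy, map_add, Ideal.Quotient.eq_zero_iff_mem.mpr hj, zero_add]
  exact Ideal.mem_map_of_mem _ hy

end tower

end Groth.Agent.Lib.Helper21.FlatSmooth
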