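import Mathlib
import Groth.Agent.Lib.Helper21.FlatSmoothC
import Groth.Agent.Lib.Helper21.FlatSmoothD

set_option autoImplicit false
set_option linter.style.haveILetI false

namespace Groth.Agent.Lib.Helper21.FlatSmooth

universe u

open IsLocalRing

/-- a ring map from a DVR to a domain which is not injective kills the maximal ideal -/
theorem injective_of_map_maximalIdeal_ne_bot {B B' : Type*} [CommRing B] [IsDomain B]
    [IsDiscreteValuationRing B] [CommRing B'] [IsDomain B'] (g : B →+* B')
    (hm : (maximalIdeal B).map g ≠ ⊥) : Function.Injective g := by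
  rw [RingHom.injective_iff_ker_eq_bot]
  by_contra hne
  haveI : (RingHom.ker g).IsPrime := RingHom.ker_isPrime g
  have hmax : (RingHom.ker g).IsMaximal := Ideal.IsPrime.isMaximal inferInstance hne
  have : RingHom.ker g = maximalIdeal B := IsLocalRing.eq_maximalIdeal hmax
  apply hm
  rw [← this, Ideal.map_eq_bot_iff_le_ker]

theorem bijective_of_dvr {B B' : Type*} [CommRing B] [IsDomain B] [IsDiscreteValuationRing B]
    [IsAdicComplete (maximalIdeal B) B] [CommRing B'] [IsDomain B'] [IsDiscreteValuationRing B']
    (g : B →+* B') (hm : (maximalIdeal B).map g = maximalIdeal B')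
    (hres : Function.Surjective ((Ideal.Quotient.mk (maximalIdeal B')).comp g)) :
    Function.Bijective g := by
  refine ⟨injective_of_map_maximalIdeal_ne_bot g ?_, ?_⟩
  · rw [hm]; exact IsDiscreteValuationRing.not_a_field B'
  · haveI : IsHausdorff ((maximalIdeal B).map g) B' := by rw [hm]; infer_instance
    apply surjective_of_mk_map_comp_surjective (I := maximalIdeal B) g
    rw [hm]
    exact hres

theorem S2482_aux {A B B' : Type u} [CommRing A] [IsDomain A] [IsDiscreteValuationRing A]
    [CommRing B] [IsDomain B] [IsDiscreteValuationRing B] [IsAdicComplete (maximalIdeal B) B]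
    [CommRing B'] [IsDomain B'] [IsDiscreteValuationRing B'] [IsAdicComplete (maximalIdeal B') B']
    (u : A →+* B) [IsLocalHom u] (hu : (maximalIdeal A).map u = maximalIdeal B)
    (hsep : letI := (ResidueField.map u).toAlgebra; Algebra.IsGeometricallyReduced (ResidueField A) (ResidueField B))
    (u' : A →+* B') [IsLocalHom u'] (hu' : (maximalIdeal A).map u' = maximalIdeal B')
    (σ : ResidueField B ≃+* ResidueField B') (hσ : (σ : ResidueField B →+* ResidueField B').comp (ResidueField.map u) = ResidueField.map u') :
    ∃ w : B ≃+* B', (w : B →+* B').comp u = u' ∧ ∀ b : B, residue B' (w b) = σ (residue B b) := by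
  letI : Algebra A B := u.toAlgebra
  letI : Algebra A B' := u'.toAlgebra
  haveI : IsLocalHom (algebraMap A B) := ‹IsLocalHom u›
  haveI : IsLocalHom (algebraMap A B') := ‹IsLocalHom u'›
  have hm : (maximalIdeal A).map (algebraMap A B) = maximalIdeal B := hu
  have hm' : (maximalIdeal A).map (algebraMap A B') = maximalIdeal B' := hu'
  -- the two algebra structures on the residue field agree
  have halg : (ResidueField.map u).toAlgebra =
      (inferInstance : Algebra (ResidueField A) (ResidueField B)) := by
    apply Algebra.algebra_ext
    intro r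
    obtain ⟨a, rfl⟩ := residue_surjective r
    rfl
  haveI : Algebra.IsGeometricallyReduced (ResidueField A) (ResidueField B) := by
    have := hsep
    rw [halg] at this
    exact this
  haveI : Algebra.FormallySmooth (ResidueField A) (ResidueField B) :=
    Groth.Agent.Lib.Helper21.SepSmooth.formallySmooth_of_geomReduced
  have H0 : FibreLifts B (maximalIdeal A) := fibreLifts_of_residueField hm
  have hinj : Function.Injective (algebraMap A B) := by
    apply injective_of_map_maximalIdeal_ne_bot
    rw [hm]; exact IsDiscreteValuationRing.not_a_field B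
  haveI : Module.IsTorsionFree A B := Module.isTorsionFree_iff_algebraMap_injective.mpr hinj
  haveI : Module.Flat A B := inferInstance
  have HT : ∀ n, TowerHyp (A := A) B (maximalIdeal B') n := by
    intro n N h hN2
    apply lifts_of_flat_of_pow (maximalIdeal A) H0 (n + 1) (Ideal.Quotient.factorₐ A h)
      (Ideal.Quotient.factor_surjective h)
    · have hk : RingHom.ker (Ideal.Quotient.factorₐ A h) =
          N.map (Ideal.Quotient.mk (maximalIdeal B' ^ (n + 1))) := Ideal.Quotient.factor_ker h
      rw [hk, ← Ideal.map_pow, eq_bot_iff]
      exact (Ideal.map_mono hN2).trans (le_of_eq (Ideal.map_quotient_self _))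
    · intro a ha y _
      have h1 : algebraMap A B' a ∈ maximalIdeal B' ^ (n + 1) := by
        rw [← hm', ← Ideal.map_pow]
        exact Ideal.mem_map_of_mem _ ha
      have h2 : algebraMap A (B' ⧸ maximalIdeal B' ^ (n + 1)) a = 0 :=
        Ideal.Quotient.eq_zero_iff_mem.mpr h1
      rw [Algebra.smul_def, h2, zero_mul]
  let f : B →ₐ[A] B' ⧸ maximalIdeal B' :=
    { (σ : ResidueField B →+* ResidueField B').comp (residue B) with
      commutes' := fun a => by
        show σ (residue B (u a)) = residue B' (u' a)
        have := congrArg (fun k => k (residue A a)) hσ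
        exact this }
  have hf : ∀ b, f b = σ (residue B b) := fun b => rfl
  haveI : IsHausdorff ((maximalIdeal B').map (Ideal.Quotient.mk (maximalIdeal B')))
      (B' ⧸ maximalIdeal B') := by
    rw [Ideal.map_quotient_self]; infer_instance
  obtain ⟨g, hg⟩ := exists_lift_of_tower (le_refl (maximalIdeal B')) HT f
  have hg' : ∀ b, residue B' (g b) = σ (residue B b) := fun b => congrArg (fun k => k b) hg
  have hmg : (maximalIdeal B).map (g : B →+* B') = maximalIdeal B' := by
    rw [← hm, Ideal.map_map, ← hm']
    congr 1
    exact g.comp_algebraMap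
  have hbij : Function.Bijective (g : B →+* B') := by
    apply bijective_of_dvr _ hmg
    intro y
    obtain ⟨x, rfl⟩ := σ.surjective y
    obtain ⟨b, rfl⟩ := residue_surjective x
    exact ⟨b, hg' b⟩
  refine ⟨RingEquiv.ofBijective (g : B →+* B') hbij, ?_, ?_⟩
  · ext a
    exact g.commutes a
  · intro b
    exact hg' b

end Groth.Agent.Lib.Helper21.FlatSmooth
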