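import Mathlib
import Groth.Agent.Lib.Helper21.FlatSmoothB
import Groth.Agent.Lib.Helper21.FlatSmoothE
import Groth.Agent.Lib.Helper21.CohenStruct
import Groth.Prelude.Def_EGA41

set_option autoImplicit false
set_option linter.style.haveILetI false

namespace Groth.Agent.Lib.Helper21.FlatSmooth

universe u v w

open IsLocalRing

/-- a field of characteristic zero is formally smooth over `ℚ` -/
theorem formallySmooth_rat (W : Type u) [Field W] [CharZero W] : Algebra.FormallySmooth ℚ W := by
  obtain ⟨ι, x, hx⟩ := exists_isTranscendenceBasis' ℚ W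
  have := hx.isAlgebraic_field
  exact Algebra.FormallySmooth.of_algebraicIndependent_of_isSeparable hx.1

/-- a field of characteristic zero lifts against nilpotent surjections of `ℚ`-algebras -/
theorem lifts_field_charZero (W : Type u) [CommRing W] (hW : IsField W) [CharZero W]
    {X : Type v} {Y : Type w}
    [CommRing X] [CommRing Y] [Algebra ℚ X] (π : X →ₐ[ℤ] Y) (hπ : Function.Surjective π)
    (hnil : IsNilpotent (RingHom.ker π)) : Lifts W π := by
  intro ψ
  letI : Field W := hW.toField
  haveI := formallySmooth_rat W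
  letI : Algebra ℚ Y := ((π : X →+* Y).comp (algebraMap ℚ X)).toAlgebra
  let π' : X →ₐ[ℚ] Y := { (π : X →+* Y) with commutes' := fun _ => rfl }
  let ψ' : W →ₐ[ℚ] Y :=
    { (ψ : W →+* Y) with
      commutes' := fun r => by
        have := Subsingleton.elim ((ψ : W →+* Y).comp (algebraMap ℚ W)) (algebraMap ℚ Y)
        exact congrArg (fun k => k r) this }
  have hnil' : IsNilpotent (RingHom.ker (π' : X →+* Y)) := hnil
  let w := Algebra.FormallySmooth.liftOfSurjective ψ' π' hπ hnil'
  have hw : ∀ x, π' (w x) = ψ' x :=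
    Algebra.FormallySmooth.liftOfSurjective_apply ψ' π' hπ hnil'
  refine ⟨(w : W →+* X).toIntAlgHom, ?_⟩
  ext x
  exact hw x

/-- a Cohen ring lifts against nilpotent surjections of rings killed by a power of `p` -/
theorem lifts_cohen_dvr (W : Type u) [CommRing W] [IsDomain W] [IsDiscreteValuationRing W]
    (p : ℕ) (hp : p.Prime) (hm : maximalIdeal W = Ideal.span {(p : W)})
    {X : Type v} {Y : Type w} [CommRing X] [CommRing Y] (π : X →ₐ[ℤ] Y)
    (hπ : Function.Surjective π) (hnil : IsNilpotent (RingHom.ker π)) (k : ℕ) (hk : 1 ≤ k)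
    (hpX : (p : X) ^ k = 0) : Lifts W π := by
  intro ψ
  have hpX' : ((p ^ k : ℕ) : X) = 0 := by push_cast; exact hpX
  letI : Algebra (ZMod (p ^ k)) X := ZMod.algebra' X (ringChar X) (ringChar.dvd hpX')
  letI : Algebra (ZMod (p ^ k)) Y := ((π : X →+* Y).comp (algebraMap (ZMod (p ^ k)) X)).toAlgebra
  let π' : X →ₐ[ZMod (p ^ k)] Y := { (π : X →+* Y) with commutes' := fun _ => rfl }
  have hpY : (p : Y) ^ k = 0 := by
    rw [← map_natCast π, ← map_pow, hpX, map_zero]
  have hpW' : ((p ^ k : ℕ) : W ⧸ Ideal.span {((p : W) ^ k)}) = 0 := by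
    rw [← map_natCast (Ideal.Quotient.mk _), Ideal.Quotient.eq_zero_iff_mem]
    push_cast
    exact Ideal.mem_span_singleton_self _
  letI : Algebra (ZMod (p ^ k)) (W ⧸ Ideal.span {((p : W) ^ k)}) :=
    ZMod.algebra' _ (ringChar _) (ringChar.dvd hpW')
  haveI : Algebra.FormallySmooth (ZMod (p ^ k)) (W ⧸ Ideal.span {((p : W) ^ k)}) :=
    S9455_aux W p hp hm k hk
  let ψbar : (W ⧸ Ideal.span {((p : W) ^ k)}) →+* Y :=
    Ideal.Quotient.lift _ (ψ : W →+* Y) (by
      intro a ha
      obtain ⟨b, rfl⟩ := Ideal.mem_span_singleton'.mp ha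
      rw [map_mul, map_pow, map_natCast]
      show (ψ : W →+* Y) b * (p : Y) ^ k = 0
      rw [hpY, mul_zero])
  let ψ' : (W ⧸ Ideal.span {((p : W) ^ k)}) →ₐ[ZMod (p ^ k)] Y :=
    { ψbar with
      commutes' := fun r => by
        have := Subsingleton.elim (ψbar.comp (algebraMap (ZMod (p ^ k)) _)) (algebraMap _ Y)
        exact congrArg (fun k => k r) this }
  have hnil' : IsNilpotent (RingHom.ker (π' : X →+* Y)) := hnil
  let w := Algebra.FormallySmooth.liftOfSurjective ψ' π' hπ hnil'
  have hw : ∀ x, π' (w x) = ψ' x :=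
    Algebra.FormallySmooth.liftOfSurjective_apply ψ' π' hπ hnil'
  refine ⟨((w : (W ⧸ Ideal.span {((p : W) ^ k)}) →+* X).comp (Ideal.Quotient.mk _)).toIntAlgHom, ?_⟩
  ext x
  exact hw (Ideal.Quotient.mk _ x)


theorem ker_factor_sq {R : Type v} [CommRing R] {S : Type w} [CommRing S] [Algebra R S]
    {I N : Ideal S} (h : I ≤ N) (hN2 : N ^ 2 ≤ I) :
    RingHom.ker (Ideal.Quotient.factorₐ R h) ^ 2 = ⊥ := by
  have hk : RingHom.ker (Ideal.Quotient.factorₐ R h) = N.map (Ideal.Quotient.mk I) :=
    Ideal.Quotient.factor_ker h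
  rw [hk, ← Ideal.map_pow, eq_bot_iff]
  exact (Ideal.map_mono hN2).trans (le_of_eq (Ideal.map_quotient_self _))

theorem S2456_aux {W C : Type u} [CommRing W] [IsLocalRing W] (hW : EGA41.IsCohenRingEGA W)
    [CommRing C] [IsLocalRing C] [IsNoetherianRing C] [IsAdicComplete (maximalIdeal C) C]
    (J : Ideal C) (hJ : J ≠ ⊤) [IsLocalRing (C ⧸ J)] (u : W →+* C ⧸ J) [IsLocalHom u] :
    ∃ v : W →+* C, IsLocalHom v ∧ (Ideal.Quotient.mk J).comp v = u := by
  have hJm : J ≤ maximalIdeal C := IsLocalRing.le_maximalIdeal hJ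
  haveI hloc : IsLocalHom (Ideal.Quotient.mk J) :=
    isLocalHom_of_le_jacobson_bot J (hJm.trans (maximalIdeal_le_jacobson _))
  have hmapm : (maximalIdeal C).map (Ideal.Quotient.mk J) ≤ maximalIdeal (C ⧸ J) :=
    ((local_hom_TFAE (Ideal.Quotient.mk J)).out 0 2).mp hloc
  haveI : IsHausdorff ((maximalIdeal C).map (Ideal.Quotient.mk J)) (C ⧸ J) :=
    IsHausdorff.of_isLocalRing _ _ (fun h => by
      rw [h, top_le_iff] at hmapm
      exact (Ideal.IsPrime.ne_top inferInstance) hmapm)
  -- the tower hypothesis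
  have HT : ∀ n, TowerHyp (A := ℤ) W (maximalIdeal C) n := by
    rcases hW with ⟨hfield, hchar⟩ | ⟨hdom, hdvr, -, p, hp, hm⟩
    · -- field of characteristic zero
      haveI := hchar
      have hinj : Function.Injective ((residue (C ⧸ J)).comp u) := by
        letI : Field W := hfield.toField
        exact RingHom.injective _
      have hu : ∀ y : nonZeroDivisors ℤ, IsUnit (Int.castRingHom C y) := by
        intro y
        have hy : (y : ℤ) ≠ 0 := nonZeroDivisors.coe_ne_zero y
        by_contra hnu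
        have hm : Int.castRingHom C y ∈ maximalIdeal C := (mem_maximalIdeal _).mpr hnu
        have h2 : Ideal.Quotient.mk J (Int.castRingHom C y) ∈ maximalIdeal (C ⧸ J) :=
          hmapm (Ideal.mem_map_of_mem _ hm)
        rw [← residue_eq_zero_iff] at h2
        have h3 : ((residue (C ⧸ J)).comp u) ((y : ℤ) : W) = 0 := by
          rw [map_intCast]
          rw [← h2]
          simp
        rw [← map_zero ((residue (C ⧸ J)).comp u)] at h3
        have h4 := hinj h3
        exact hy (by exact_mod_cast h4)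
      let gQ : ℚ →+* C := IsLocalization.lift (M := nonZeroDivisors ℤ) (S := ℚ) hu
      letI : Algebra ℚ C := gQ.toAlgebra
      intro n N h hN2
      exact lifts_field_charZero W hfield (Ideal.Quotient.factorₐ ℤ h)
        (Ideal.Quotient.factor_surjective h) ⟨2, ker_factor_sq h hN2⟩
    · haveI := hdom
      haveI := hdvr
      have hpW : (p : W) ∈ maximalIdeal W := by rw [hm]; exact Ideal.mem_span_singleton_self _
      have hpC : (p : C) ∈ maximalIdeal C := by
        rw [mem_maximalIdeal, mem_nonunits_iff]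
        intro hunit
        have h1 : IsUnit (u (p : W)) := by
          rw [map_natCast, ← map_natCast (Ideal.Quotient.mk J)]
          exact hunit.map _
        exact (mem_maximalIdeal _).mp hpW (IsLocalHom.map_nonunit _ h1)
      intro n N h hN2
      refine lifts_cohen_dvr W p hp hm (Ideal.Quotient.factorₐ ℤ h)
        (Ideal.Quotient.factor_surjective h) ⟨2, ker_factor_sq h hN2⟩ (n + 1) (by omega) ?_
      rw [← map_natCast (Ideal.Quotient.mk (maximalIdeal C ^ (n + 1))), ← map_pow,
        Ideal.Quotient.eq_zero_iff_mem]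
      exact Ideal.pow_mem_pow hpC (n + 1)
  obtain ⟨g, hg⟩ := exists_lift_of_tower hJm HT u.toIntAlgHom
  have hg' : ∀ a, Ideal.Quotient.mk J (g a) = u a := fun a => congrArg (fun k => k a) hg
  refine ⟨(g : W →+* C), ⟨fun a ha => ?_⟩, RingHom.ext hg'⟩
  have h1 : IsUnit (u a) := by
    rw [← hg']
    exact ha.map _
  exact IsLocalHom.map_nonunit _ h1

end Groth.Agent.Lib.Helper21.FlatSmooth
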