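import Mathlib
import Groth.Agent.Lib.Helper21.FlatSmoothD
import Groth.Prelude.Def_CAlgX

set_option autoImplicit false
set_option linter.style.haveILetI false

namespace Groth.Agent.Lib.Helper21.FlatSmooth

universe u v w x

open Ideal.Quotient

section towerF

variable {A : Type v} [CommRing A] {B : Type w} [CommRing B] [Algebra A B] {S : Type x}
  [CommRing S] [Algebra A S] (𝔪 J : Ideal S) (f : B →ₐ[A] S ⧸ J)

/-- the lifting hypothesis at level `n`, for maps congruent to `f` modulo `𝔪` -/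
def TowerHypF (hJ : J ≤ 𝔪) (n : ℕ) : Prop :=
  ∀ (N : Ideal S) (h : 𝔪 ^ (n + 1) ≤ N) (hN : N ≤ 𝔪), N ^ 2 ≤ 𝔪 ^ (n + 1) →
    ∀ φ : B →ₐ[A] S ⧸ N, (∀ β, factor hN (φ β) = factor hJ (f β)) →
      ∃ g' : B →ₐ[A] S ⧸ 𝔪 ^ (n + 1), (factorₐ A h).comp g' = φ

variable {𝔪 J f}

theorem Approx.exists_succF (hJ : J ≤ 𝔪) {n : ℕ} (H : TowerHypF 𝔪 J f hJ n)
    (a : Approx 𝔪 J f n) :
    ∃ a' : Approx 𝔪 J f (n + 1),
      ∀ β, factor (Ideal.pow_le_pow_right n.le_succ) (a'.g β) = a.g β := by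
  set b : Ideal S := J ⊔ 𝔪 ^ (n + 1) with hb
  let f' : B →ₐ[A] S ⧸ b := (factorₐ A (le_sup_left : J ≤ b)).comp f
  have hf' : ∀ β, f' β = factor (le_sup_left : J ≤ b) (f β) := fun β => rfl
  have hagree : ∀ β, factor (le_sup_left : 𝔪 ^ n ≤ 𝔪 ^ n ⊔ b) (a.g β) =
      factor (le_sup_right : b ≤ 𝔪 ^ n ⊔ b) (f' β) := by
    intro β
    obtain ⟨s, hs⟩ := mk_surjective (a.g β)
    obtain ⟨t, ht⟩ := mk_surjective (f β)
    have h := a.hg β
    rw [← hs, ← ht, factor_mk, factor_mk, Ideal.Quotient.eq] at h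
    rw [hf', ← hs, ← ht, factor_mk, factor_mk, factor_mk, Ideal.Quotient.eq]
    have hle : J ⊔ 𝔪 ^ n ≤ 𝔪 ^ n ⊔ b :=
      sup_le (le_sup_left.trans le_sup_right) le_sup_left
    exact hle h
  obtain ⟨φ, hφ1, hφ2⟩ := exists_glue (𝔪 ^ n) b a.g f' hagree
  have hbm : b ≤ 𝔪 := sup_le hJ (Ideal.pow_le_self (Nat.succ_ne_zero n))
  have h1 : 𝔪 ^ (n + 1) ≤ 𝔪 ^ n ⊓ b := le_inf (Ideal.pow_le_pow_right n.le_succ) le_sup_right
  have hNm : 𝔪 ^ n ⊓ b ≤ 𝔪 := inf_le_right.trans hbm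
  have h2 : (𝔪 ^ n ⊓ b) ^ 2 ≤ 𝔪 ^ (n + 1) := by
    rw [pow_two, pow_succ]
    exact Ideal.mul_mono inf_le_left hNm
  have hφf : ∀ β, factor hNm (φ β) = factor hJ (f β) := by
    intro β
    have := congrArg (factor hbm) (hφ2 β)
    rw [factor_comp_apply, hf', factor_comp_apply] at this
    exact this
  obtain ⟨g', hg'⟩ := H (𝔪 ^ n ⊓ b) h1 hNm h2 φ hφf
  have hg'' : ∀ β, factor h1 (g' β) = φ β := fun β => congrArg (fun k => k β) hg'
  refine ⟨⟨g', fun β => ?_⟩, fun β => ?_⟩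
  · have := hφ2 β
    rw [← hg'' β, factor_comp_apply, hf'] at this
    exact this
  · have := hφ1 β
    rw [← hg'' β, factor_comp_apply] at this
    exact this

/-- the sequence of approximations -/
noncomputable def Approx.seqF (hJ : J ≤ 𝔪) (H : ∀ n, TowerHypF 𝔪 J f hJ n) :
    ∀ n, Approx 𝔪 J f n
  | 0 => Approx.zero
  | n + 1 => Classical.choose (Approx.exists_succF hJ (H n) (Approx.seqF hJ H n))

theorem Approx.seqF_succ (hJ : J ≤ 𝔪) (H : ∀ n, TowerHypF 𝔪 J f hJ n) (n : ℕ) (β : B) :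
    factor (Ideal.pow_le_pow_right n.le_succ) ((Approx.seqF (f := f) hJ H (n + 1)).g β) =
      (Approx.seqF (f := f) hJ H n).g β :=
  Classical.choose_spec (Approx.exists_succF hJ (H n) (Approx.seqF hJ H n)) β

/-- lifting through a complete tower, for maps congruent to `f` modulo `𝔪` -/
theorem exists_lift_of_towerF [IsAdicComplete 𝔪 S]
    [IsHausdorff (𝔪.map (Ideal.Quotient.mk J)) (S ⧸ J)] (hJ : J ≤ 𝔪)
    (f : B →ₐ[A] S ⧸ J) (H : ∀ n, TowerHypF 𝔪 J f hJ n) :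
    ∃ g : B →ₐ[A] S, (Ideal.Quotient.mkₐ A J).comp g = f := by
  let fam : ∀ n, B →ₐ[A] S ⧸ 𝔪 ^ n := fun n => (Approx.seqF (f := f) hJ H n).g
  have hfam : ∀ {m n : ℕ} (hle : m ≤ n),
      (factorₐ A (Ideal.pow_le_pow_right hle)).comp (fam n) = fam m := by
    intro m n hle
    induction n, hle using Nat.le_induction with
    | base =>
      ext β
      show factor (Ideal.pow_le_pow_right (le_refl m)) (fam m β) = fam m β
      obtain ⟨s, hs⟩ := mk_surjective (fam m β)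
      rw [← hs, factor_mk]
    | succ n hmn ih =>
      ext β
      have h1 : factor (Ideal.pow_le_pow_right hmn) (fam n β) = fam m β :=
        congrArg (fun k => k β) ih
      show factor (Ideal.pow_le_pow_right (hmn.trans n.le_succ)) (fam (n + 1) β) = fam m β
      rw [← h1, ← Approx.seqF_succ hJ H n β, factor_comp_apply]
  refine ⟨IsAdicComplete.liftAlgHom 𝔪 fam hfam, ?_⟩
  ext β
  show Ideal.Quotient.mk J (IsAdicComplete.liftAlgHom 𝔪 fam hfam β) = f β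
  rw [← sub_eq_zero]
  apply IsHausdorff.haus (inferInstance : IsHausdorff (𝔪.map (Ideal.Quotient.mk J)) (S ⧸ J))
  intro n
  rw [SModEq.zero, smul_eq_mul, Ideal.mul_top, ← Ideal.map_pow]
  set s := IsAdicComplete.liftAlgHom 𝔪 fam hfam β with hs
  obtain ⟨t, ht⟩ := mk_surjective (f β)
  have h1 : Ideal.Quotient.mk (𝔪 ^ n) s = fam n β := IsAdicComplete.mk_liftAlgHom 𝔪 fam hfam n β
  have h2 := (Approx.seqF (f := f) hJ H n).hg β
  rw [← ht] at h2 ⊢
  change factor _ (fam n β) = _ at h2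
  rw [← h1, factor_mk, factor_mk, Ideal.Quotient.eq, Submodule.mem_sup] at h2
  obtain ⟨j, hj, y, hy, hjy⟩ := h2
  rw [← map_sub, ← hjy, map_add, Ideal.Quotient.eq_zero_iff_mem.mpr hj, zero_add]
  exact Ideal.mem_map_of_mem _ hy

end towerF

section adic

variable {R S : Type u} [CommRing R] [CommRing S] [Algebra R S] {𝔫 : Ideal S}

/-- adic formal smoothness: lifting along arbitrary square-zero surjections -/
theorem lifts_of_isAdicFormallySmooth (h : CAlgX.IsAdicFormallySmooth R S 𝔫)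
    {C D : Type u} [CommRing C] [CommRing D] [Algebra R C] [Algebra R D] (π : C →ₐ[R] D)
    (hπ : Function.Surjective π) (hsq : RingHom.ker π ^ 2 = ⊥) (φ : S →ₐ[R] D)
    (hφ : ∃ k : ℕ, ∀ x ∈ 𝔫 ^ k, φ x = 0) : ∃ χ : S →ₐ[R] C, π.comp χ = φ := by
  let e : (C ⧸ RingHom.ker π) ≃ₐ[R] D := Ideal.quotientKerAlgEquivOfSurjective hπ
  have he : ∀ c, e (Ideal.Quotient.mk _ c) = π c := fun c => rfl
  let ψ : S →ₐ[R] C ⧸ RingHom.ker π := e.symm.toAlgHom.comp φ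
  have hψ : ∃ k : ℕ, ∀ x ∈ 𝔫 ^ k, ψ x = 0 := by
    obtain ⟨k, hk⟩ := hφ
    refine ⟨k, fun x hx => ?_⟩
    show e.symm (φ x) = 0
    rw [hk x hx, map_zero]
  obtain ⟨χ, hχ⟩ := h C (RingHom.ker π) hsq ψ hψ
  refine ⟨χ, ?_⟩
  ext s
  have h1 : Ideal.Quotient.mk _ (χ s) = ψ s := congrArg (fun k => k s) hχ
  show π (χ s) = φ s
  rw [← he, h1]
  show e (e.symm (φ s)) = φ s
  exact e.apply_symm_apply _

end adic

end Groth.Agent.Lib.Helper21.FlatSmooth
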