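import Mathlib
import Groth.Agent.Lib.Helper21.CohenStructD
import Groth.Agent.Lib.Helper21.FlatSmoothH
import Groth.Agent.Lib.Helper21.FlatSmoothF
import Groth.Agent.Lib.Helper14.AdicLift

set_option autoImplicit false
set_option linter.style.haveILetI false

namespace Groth.Agent.Lib.Helper21.CohenStruct

open IsLocalRing Groth.Agent.Lib.Helper26.PowerSeriesRLR Groth.Agent.Lib.Helper21.FlatSmooth

universe u

/-- a surjective endomorphism of a Noetherian ring is injective -/
theorem injective_of_surjective_endo {R : Type*} [CommRing R] [IsNoetherianRing R] (f : R →+* R)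
    (hf : Function.Surjective f) : Function.Injective f := by
  let K : ℕ →o Ideal R :=
    { toFun := fun n => RingHom.ker (f ^ n)
      monotone' := by
        apply monotone_nat_of_le_succ
        intro n x hx
        rw [RingHom.mem_ker] at hx ⊢
        rw [pow_succ', RingHom.mul_def, RingHom.comp_apply, hx, map_zero] }
  obtain ⟨n, hn⟩ := monotone_stabilizes_iff_noetherian.mpr inferInstance K
  rw [injective_iff_map_eq_zero]
  intro x hx
  have hsn : Function.Surjective (f ^ n) := by
    rw [RingHom.coe_pow]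
    exact hf.iterate n
  obtain ⟨y, rfl⟩ := hsn x
  have h1 : y ∈ K (n + 1) := by
    show y ∈ RingHom.ker (f ^ (n + 1))
    rw [RingHom.mem_ker, pow_succ', RingHom.mul_def, RingHom.comp_apply]
    exact hx
  rw [← hn (n + 1) (Nat.le_succ n)] at h1
  exact h1

instance isAdicComplete_mvPowerSeries (K : Type*) [Field K] (n : ℕ) :
    IsAdicComplete (maximalIdeal (MvPowerSeries (Fin n) K)) (MvPowerSeries (Fin n) K) := by
  rw [maximalIdeal_mvPowerSeries]; infer_instance


section aToB

variable (k A : Type u) [Field k] [CommRing A] [Algebra k A] [IsNoetherianRing A] [IsLocalRing A]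

/-- (a) ⇒ injectivity of the Cohen presentation -/
theorem injective_of_isAdicFormallySmooth
    (h : CAlgX.IsAdicFormallySmooth k A (maximalIdeal A)) {n : ℕ}
    (ψ : MvPowerSeries (Fin n) (ResidueField A) →ₐ[k] AdicCompletion (maximalIdeal A) A)
    (hs : Function.Surjective ψ)
    (hk : RingHom.ker ψ ≤ maximalIdeal (MvPowerSeries (Fin n) (ResidueField A)) ^ 2) :
    Function.Injective ψ := by
  classical
  haveI : IsNoetherianRing (AdicCompletion (maximalIdeal A) A) :=
    Groth.Agent.Lib.Helper8.isNoetherianRing_adicCompletion A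
  set S := MvPowerSeries (Fin n) (ResidueField A) with hS
  set 𝔫 := maximalIdeal S with h𝔫
  set I : Ideal S := RingHom.ker ψ with hI
  have hJ : I ≤ 𝔫 := hk.trans (Ideal.pow_le_self two_ne_zero)
  let ebar : (S ⧸ I) ≃ₐ[k] AdicCompletion (maximalIdeal A) A :=
    Ideal.quotientKerAlgEquivOfSurjective hs
  have hebar : ∀ s : S, ebar (Ideal.Quotient.mk I s) = ψ s := fun s => rfl
  let can : A →ₐ[k] AdicCompletion (maximalIdeal A) A := IsScalarTower.toAlgHom k A _
  have hcan : ∀ a, can a = algebraMap A _ a := fun a => rfl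
  let f : A →ₐ[k] S ⧸ I := ebar.symm.toAlgHom.comp can
  have hf : ∀ a, ebar (f a) = can a := fun a => ebar.apply_symm_apply _
  -- nonunits
  have hψmem : ∀ s : S, ψ s ∈ maximalIdeal (AdicCompletion (maximalIdeal A) A) → s ∈ 𝔫 := by
    intro s hs'
    rw [mem_maximalIdeal, mem_nonunits_iff]
    intro hu
    exact (mem_maximalIdeal _).mp hs' (hu.map ψ)
  have hcanm : ∀ a ∈ maximalIdeal A, can a ∈ maximalIdeal (AdicCompletion (maximalIdeal A) A) := by
    intro a ha
    rw [AdicCompletion.maximalIdeal_eq_map]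
    exact Ideal.mem_map_of_mem _ ha
  have hfm : ∀ a ∈ maximalIdeal A, Ideal.Quotient.factor hJ (f a) = 0 := by
    intro a ha
    obtain ⟨s, hs'⟩ := Ideal.Quotient.mk_surjective (f a)
    rw [← hs', Ideal.Quotient.factor_mk, Ideal.Quotient.eq_zero_iff_mem]
    apply hψmem
    rw [← hebar, hs', hf]
    exact hcanm a ha
  have hne : 𝔫.map (Ideal.Quotient.mk I) ≠ ⊤ := by
    intro htop
    have h1 : (1 : S ⧸ I) ∈ 𝔫.map (Ideal.Quotient.mk I) := by rw [htop]; trivial
    obtain ⟨s, hs𝔫, hs1⟩ := (Ideal.mem_map_iff_of_surjective _ Ideal.Quotient.mk_surjective).mp h1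
    rw [← map_one (Ideal.Quotient.mk I), Ideal.Quotient.eq] at hs1
    have : (1 : S) ∈ 𝔫 := by
      have h2 := 𝔫.sub_mem hs𝔫 (hJ hs1)
      simpa using h2
    exact (Ideal.ne_top_iff_one 𝔫).mp (Ideal.IsPrime.ne_top inferInstance) this
  haveI : IsLocalRing (S ⧸ I) := ebar.symm.toRingEquiv.isLocalRing
  haveI : IsHausdorff (𝔫.map (Ideal.Quotient.mk I)) (S ⧸ I) :=
    IsHausdorff.of_isLocalRing _ _ hne
  have HT : ∀ m, TowerHypF 𝔫 I f hJ m := by
    intro m N hle hN hN2 φ hφ
    apply lifts_of_isAdicFormallySmooth h (Ideal.Quotient.factorₐ k hle)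
      (Ideal.Quotient.factor_surjective hle) (ker_factor_sq hle hN2) φ
    refine ⟨m + 1, fun x hx => ?_⟩
    have h1 : (maximalIdeal A).map (φ : A →+* S ⧸ N) ≤ 𝔫.map (Ideal.Quotient.mk N) := by
      rw [Ideal.map_le_iff_le_comap]
      intro a ha
      rw [Ideal.mem_comap]
      have h2 := hφ a
      rw [hfm a ha] at h2
      obtain ⟨s, hs'⟩ := Ideal.Quotient.mk_surjective (φ a)
      show (φ a) ∈ _
      rw [← hs'] at h2 ⊢
      rw [Ideal.Quotient.factor_mk, Ideal.Quotient.eq_zero_iff_mem] at h2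
      exact Ideal.mem_map_of_mem _ h2
    have h3 : (φ : A →+* S ⧸ N) x ∈ ((maximalIdeal A) ^ (m + 1)).map (φ : A →+* S ⧸ N) :=
      Ideal.mem_map_of_mem _ hx
    rw [Ideal.map_pow] at h3
    have h4 := Ideal.pow_right_mono h1 (m + 1) h3
    rw [← Ideal.map_pow] at h4
    have h5 : (𝔫 ^ (m + 1)).map (Ideal.Quotient.mk N) = ⊥ := by
      rw [eq_bot_iff]
      exact (Ideal.map_mono hle).trans (le_of_eq (Ideal.map_quotient_self N))
    rw [h5] at h4
    exact h4
  obtain ⟨χ, hχ⟩ := exists_lift_of_towerF hJ f HT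
  have hχ' : ∀ a, ψ (χ a) = can a := by
    intro a
    rw [← hebar, ← hf]
    congr 1
    exact congrArg (fun g => g a) hχ
  have hχm : maximalIdeal A ≤ 𝔫.comap χ := by
    intro a ha
    rw [Ideal.mem_comap]
    apply hψmem
    rw [hχ']
    exact hcanm a ha
  let χhat : AdicCompletion (maximalIdeal A) A →ₐ[k] S :=
    Groth.Agent.Lib.Helper14.AdicLift.lift (maximalIdeal A) 𝔫 χ hχm
  have hχhat : ∀ a, χhat (AdicCompletion.of _ _ a) = χ a :=
    Groth.Agent.Lib.Helper14.AdicLift.lift_of (maximalIdeal A) 𝔫 χ hχm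
  have hof : ∀ a, AdicCompletion.of (maximalIdeal A) A a = can a := fun a => rfl
  have hid : ψ.comp χhat = AlgHom.id k _ := by
    apply Groth.Agent.Lib.Helper14.AdicLift.algHom_ext_of (maximalIdeal A)
      (maximalIdeal (AdicCompletion (maximalIdeal A) A)) (Ideal.fg_of_isNoetherianRing _)
    · intro c hc
      show ψ (χhat (AdicCompletion.of _ _ c)) ∈ _
      rw [hχhat, hχ']
      exact hcanm c hc
    · intro c
      show ψ (χhat (AdicCompletion.of _ _ c)) = AdicCompletion.of _ _ c
      rw [hχhat, hχ', hof]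
  have hid' : ∀ y, ψ (χhat y) = y := fun y => congrArg (fun g => g y) hid
  let θ : S →+* S := (χhat : AdicCompletion (maximalIdeal A) A →+* S).comp (ψ : S →+* _)
  have hθ : ∀ s, θ s - s ∈ I := by
    intro s
    show θ s - s ∈ RingHom.ker ψ
    rw [RingHom.mem_ker, map_sub]
    show ψ (χhat (ψ s)) - ψ s = 0
    rw [hid', sub_self]
  have hθ𝔫 : 𝔫.map θ = 𝔫 := by
    apply le_antisymm
    · rw [Ideal.map_le_iff_le_comap]
      intro s hs'
      rw [Ideal.mem_comap]
      have := 𝔫.add_mem (hJ (hθ s)) hs'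
      simpa using this
    · apply Submodule.le_of_le_smul_of_le_jacobson_bot (Ideal.fg_of_isNoetherianRing 𝔫)
        (maximalIdeal_le_jacobson ⊥)
      intro s hs'
      have h1 : θ s ∈ 𝔫.map θ := Ideal.mem_map_of_mem _ hs'
      have h2 : θ s - s ∈ 𝔫 • 𝔫 := by
        rw [smul_eq_mul, ← pow_two]
        exact hk (hθ s)
      have : s = θ s - (θ s - s) := by ring
      rw [this]
      exact Submodule.sub_mem _ (Submodule.mem_sup_left h1) (Submodule.mem_sup_right h2)
  have hθs : Function.Surjective θ := by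
    haveI : IsHausdorff (𝔫.map θ) S := by rw [hθ𝔫]; infer_instance
    apply surjective_of_mk_map_comp_surjective (I := 𝔫) θ
    intro y
    obtain ⟨s, rfl⟩ := Ideal.Quotient.mk_surjective y
    refine ⟨s, ?_⟩
    rw [RingHom.comp_apply, Ideal.Quotient.eq, hθ𝔫]
    exact hJ (hθ s)
  have hθi := injective_of_surjective_endo θ hθs
  rw [injective_iff_map_eq_zero]
  intro s hs0
  apply hθi
  show χhat (ψ s) = θ 0
  rw [hs0, map_zero, map_zero]

end aToB


section bToA'

variable (k A : Type u) [Field k] [CommRing A] [Algebra k A] [IsNoetherianRing A] [IsLocalRing A]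

/-- (b) ⇒ (a) -/
theorem a_of_b [Algebra.IsGeometricallyReduced k (ResidueField A)] {n : ℕ}
    (e : AdicCompletion (maximalIdeal A) A ≃+* MvPowerSeries (Fin n) (ResidueField A))
    (he : ∀ x : k, e (algebraMap A (AdicCompletion (maximalIdeal A) A) (algebraMap k A x)) =
         algebraMap (ResidueField A) (MvPowerSeries (Fin n) (ResidueField A))
          (algebraMap k (ResidueField A) x)) :
    CAlgX.IsAdicFormallySmooth k A (maximalIdeal A) := by
  rw [Groth.Agent.Lib.Helper14.isAdicFormallySmooth_iff_adicCompletion _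
    (Ideal.fg_of_isNoetherianRing _), ← AdicCompletion.maximalIdeal_eq_map]
  let eA : AdicCompletion (maximalIdeal A) A ≃ₐ[k] MvPowerSeries (Fin n) (ResidueField A) :=
    AlgEquiv.ofRingEquiv (f := e) (fun x => by
      rw [IsScalarTower.algebraMap_apply k A (AdicCompletion (maximalIdeal A) A), he,
        ← IsScalarTower.algebraMap_apply k (ResidueField A)])
  refine isAdicFormallySmooth_of_equiv
    (isAdicFormallySmooth_mvPowerSeries k (ResidueField A) n) eA.symm ?_
  exact le_of_eq (map_ringEquiv_maximalIdeal eA.symm.toRingEquiv)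

theorem S2453_aux [Algebra.IsGeometricallyReduced k (ResidueField A)] :
    [CAlgX.IsAdicFormallySmooth k A (maximalIdeal A),
     ∃ (n : ℕ) (e : AdicCompletion (maximalIdeal A) A ≃+* MvPowerSeries (Fin n) (ResidueField A)),
       ∀ x : k, e (algebraMap A (AdicCompletion (maximalIdeal A) A) (algebraMap k A x)) =
         algebraMap (ResidueField A) (MvPowerSeries (Fin n) (ResidueField A)) (algebraMap k (ResidueField A) x),
     ∃ n : ℕ, Nonempty (AdicCompletion (maximalIdeal A) A ≃+* MvPowerSeries (Fin n) (ResidueField A)),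
     IsRegularLocalRing A].TFAE := by
  tfae_have 1 → 2 := by
    intro h
    obtain ⟨ψ, hs, hk⟩ := exists_presentation k A
    exact b_of_bijective k A ψ ⟨injective_of_isAdicFormallySmooth k A h ψ hs hk, hs⟩
  tfae_have 2 → 3 := by
    rintro ⟨n, e, -⟩
    exact ⟨n, ⟨e⟩⟩
  tfae_have 3 → 4 := by
    rintro ⟨n, ⟨e⟩⟩
    exact regular_of_equiv A e
  tfae_have 4 → 2 := by
    intro hreg
    haveI := hreg
    exact b_of_regular k A
  tfae_have 2 → 1 := by
    rintro ⟨n, e, he⟩
    exact a_of_b k A e he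
  tfae_finish

end bToA'

end Groth.Agent.Lib.Helper21.CohenStruct
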