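import Mathlib
import Groth.Agent.Lib.Helper21.CohenStructE
import Groth.Agent.Lib.Helper21.SepSmoothE

set_option autoImplicit false
set_option linter.style.haveILetI false

namespace Groth.Agent.Lib.Helper21.CohenStruct

open IsLocalRing Groth.Agent.Lib.Helper21.FlatSmooth

universe u

/-- composition: adically formally smooth over a formally smooth base -/
theorem isAdicFormallySmooth_comp (P k A : Type u) [CommRing P] [CommRing k] [CommRing A]
    [Algebra P k] [Algebra k A] [Algebra P A] [IsScalarTower P k A] [Algebra.FormallySmooth P k]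
    {𝔫 : Ideal A} (h : CAlgX.IsAdicFormallySmooth k A 𝔫) : CAlgX.IsAdicFormallySmooth P A 𝔫 := by
  intro C _ _ J hJ ψ hψ
  let g : k →ₐ[P] C ⧸ J := ψ.comp (IsScalarTower.toAlgHom P k A)
  obtain ⟨g', hg'⟩ := Algebra.FormallySmooth.comp_surjective P k J hJ g
  have hg'' : ∀ x, Ideal.Quotient.mk J (g' x) = ψ (algebraMap k A x) :=
    fun x => congrArg (fun f => f x) hg'
  letI : Algebra k C := g'.toRingHom.toAlgebra
  haveI : IsScalarTower P k C := IsScalarTower.of_algebraMap_eq (fun x => (g'.commutes x).symm)
  let ψ' : A →ₐ[k] C ⧸ J :=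
    { (ψ : A →+* C ⧸ J) with
      commutes' := fun x => (hg'' x).symm }
  obtain ⟨χ', hχ'⟩ := h C J hJ ψ' hψ
  refine ⟨χ'.restrictScalars P, ?_⟩
  ext a
  exact congrArg (fun f => f a) hχ'

/-- a field extension is geometrically reduced over the prime field -/
theorem isGeometricallyReduced_bot (k K : Type u) [Field k] [Field K] [Algebra k K] :
    Algebra.IsGeometricallyReduced (⊥ : Subfield k) K := by
  rw [← Groth.Agent.Lib.Helper21.SepSmooth.formallySmooth_iff_geomReduced]
  exact formallySmooth_of_bot_eq_top _ K (bot_bot_eq_top k)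

section

variable (k A : Type u) [Field k] [CommRing A] [Algebra k A] [IsNoetherianRing A] [IsLocalRing A]

/-- adic formal smoothness over an arbitrary field implies regularity and that the completion is
a power series ring -/
theorem regular_of_isAdicFormallySmooth (h : CAlgX.IsAdicFormallySmooth k A (maximalIdeal A)) :
    IsRegularLocalRing A ∧ ∃ n : ℕ, Nonempty (AdicCompletion (maximalIdeal A) A ≃+*
      MvPowerSeries (Fin n) (ResidueField A)) := by
  haveI : Algebra.FormallySmooth (⊥ : Subfield k) k :=
    formallySmooth_of_bot_eq_top _ k (bot_bot_eq_top k)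
  have h' : CAlgX.IsAdicFormallySmooth (⊥ : Subfield k) A (maximalIdeal A) :=
    isAdicFormallySmooth_comp (⊥ : Subfield k) k A h
  haveI : Algebra.IsGeometricallyReduced (⊥ : Subfield k) (ResidueField A) :=
    isGeometricallyReduced_bot k (ResidueField A)
  have T := S2453_aux (⊥ : Subfield k) A
  exact ⟨(T.out 0 3).mp h', (T.out 0 2).mp h'⟩

end

end Groth.Agent.Lib.Helper21.CohenStruct
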