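import Mathlib
import Groth.Agent.Lib.Helper21.CohenStructF
import Groth.Prelude.Def_Found

set_option autoImplicit false
set_option linter.style.haveILetI false

namespace Groth.Agent.Lib.Helper21.CohenStruct

open IsLocalRing Groth.Agent.Lib.Helper21.FlatSmooth
open scoped TensorProduct

universe u

section

variable (k A : Type u) [Field k] [CommRing A] [Algebra k A]

attribute [local instance] Algebra.TensorProduct.rightAlgebra in
theorem finite_right (k' : Type u) [Field k'] [Algebra k k'] [Module.Finite k k'] :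
    Module.Finite A (k' ⊗[k] A) := by
  let g : A ⊗[k] k' →ₗ[A] k' ⊗[k] A :=
    { (TensorProduct.comm k A k').toLinearMap with
      map_smul' := fun a x => by
        induction x using TensorProduct.induction_on with
        | zero => simp
        | tmul a' c =>
          simp only [AddHom.toFun_eq_coe, LinearMap.coe_toAddHom, LinearEquiv.coe_coe,
            RingHom.id_apply, TensorProduct.smul_tmul', TensorProduct.comm_tmul, smul_eq_mul]
          rw [Algebra.smul_def]
          show c ⊗ₜ[k] (a * a') = (1 ⊗ₜ[k] a) * (c ⊗ₜ[k] a')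
          rw [Algebra.TensorProduct.tmul_mul_tmul, one_mul]
        | add x y hx hy =>
          simp only [AddHom.toFun_eq_coe, LinearMap.coe_toAddHom, LinearEquiv.coe_coe,
            RingHom.id_apply, smul_add, map_add] at hx hy ⊢
          rw [hx, hy] }
  exact Module.Finite.of_surjective g (TensorProduct.comm k A k').surjective

attribute [local instance] Algebra.TensorProduct.rightAlgebra in
theorem comap_includeRight_eq [IsLocalRing A] (k' : Type u) [Field k'] [Algebra k k']
    [Module.Finite k k'] (𝔪' : Ideal (k' ⊗[k] A)) [𝔪'.IsMaximal] :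
    𝔪'.comap (Algebra.TensorProduct.includeRight : A →ₐ[k] k' ⊗[k] A) = maximalIdeal A := by
  haveI := finite_right k A k'
  haveI : Algebra.IsIntegral A (k' ⊗[k] A) := inferInstance
  have : (𝔪'.comap (algebraMap A (k' ⊗[k] A))).IsMaximal :=
    Ideal.isMaximal_comap_of_isIntegral_of_isMaximal 𝔪'
  exact IsLocalRing.eq_maximalIdeal this

end


section

variable (k A : Type u) [Field k] [CommRing A] [Algebra k A] [IsLocalRing A]

/-- the localisations of a finite base change of an adically formally smooth local algebra are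
adically formally smooth -/
theorem isAdicFormallySmooth_localization_baseChange
    (h : CAlgX.IsAdicFormallySmooth k A (maximalIdeal A))
    (k' : Type u) [Field k'] [Algebra k k'] [Module.Finite k k']
    (𝔪' : Ideal (k' ⊗[k] A)) [𝔪'.IsMaximal] :
    CAlgX.IsAdicFormallySmooth k' (Localization.AtPrime 𝔪')
      (maximalIdeal (Localization.AtPrime 𝔪')) := by
  intro C _ _ J hJ ψ hψ
  obtain ⟨m, hm⟩ := hψ
  letI : Algebra k C := ((algebraMap k' C).comp (algebraMap k k')).toAlgebra
  haveI : IsScalarTower k k' C := IsScalarTower.of_algebraMap_eq (fun _ => rfl)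
  let incA : A →ₐ[k] k' ⊗[k] A := Algebra.TensorProduct.includeRight
  let toB : (k' ⊗[k] A) →ₐ[k'] Localization.AtPrime 𝔪' := IsScalarTower.toAlgHom k' _ _
  have htoB : ∀ y, toB y = algebraMap _ (Localization.AtPrime 𝔪') y := fun y => rfl
  let ψA : A →ₐ[k] C ⧸ J := ((ψ.comp toB).restrictScalars k).comp incA
  have hψA : ∀ a, ψA a = ψ (toB ((1 : k') ⊗ₜ[k] a)) := fun a => rfl
  -- continuity
  have hcont : ∀ x ∈ maximalIdeal A ^ m, ψA x = 0 := by
    intro x hx
    rw [hψA]
    apply hm
    have h1 : maximalIdeal A ≤ (maximalIdeal (Localization.AtPrime 𝔪')).comap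
        ((toB : (k' ⊗[k] A) →+* Localization.AtPrime 𝔪').comp (incA : A →+* k' ⊗[k] A)) := by
      intro a ha
      rw [← comap_includeRight_eq k A k' 𝔪', Ideal.mem_comap] at ha
      rw [Ideal.mem_comap, RingHom.comp_apply]
      show toB (incA a) ∈ _
      rw [htoB]
      exact (IsLocalization.AtPrime.to_map_mem_maximal_iff (Localization.AtPrime 𝔪') 𝔪'
        (incA a)).mpr ha
    have h2 := Ideal.pow_right_mono h1 m hx
    have h3 := Ideal.le_comap_pow ((toB : (k' ⊗[k] A) →+* Localization.AtPrime 𝔪').comp
      (incA : A →+* k' ⊗[k] A)) m h2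
    exact h3
  obtain ⟨χA, hχA⟩ := h C J hJ ψA ⟨m, hcont⟩
  have hχA' : ∀ a, Ideal.Quotient.mk J (χA a) = ψA a := fun a => congrArg (fun f => f a) hχA
  let χ' : (k' ⊗[k] A) →ₐ[k'] C :=
    Algebra.TensorProduct.lift (Algebra.ofId k' C) χA (fun _ _ => Commute.all _ _)
  have hχ' : ∀ y, Ideal.Quotient.mk J (χ' y) = ψ (toB y) := by
    intro y
    induction y using TensorProduct.induction_on with
    | zero => simp
    | tmul c a =>
      have h1 : χ' (c ⊗ₜ[k] a) = algebraMap k' C c * χA a := by
        simp [χ', Algebra.ofId_apply]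
      have h2 : (c ⊗ₜ[k] a : k' ⊗[k] A) = c • ((1 : k') ⊗ₜ[k] a) := by
        rw [TensorProduct.smul_tmul', smul_eq_mul, mul_one]
      rw [h1, map_mul, hχA', hψA, h2, map_smul, map_smul, Algebra.smul_def]
      rfl
    | add x y hx hy => rw [map_add, map_add, hx, hy, map_add, map_add]
  -- units
  have hunit : ∀ y : 𝔪'.primeCompl, IsUnit (χ' y) := by
    intro y
    apply (IsNilpotent.isUnit_quotient_mk_iff (I := J) ⟨2, hJ⟩).mp
    rw [hχ', htoB]
    exact (IsLocalization.map_units (Localization.AtPrime 𝔪') y).map ψ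
  let χB : Localization.AtPrime 𝔪' →ₐ[k'] C := IsLocalization.liftAlgHom (M := 𝔪'.primeCompl) hunit
  have hχB : ∀ y, χB (algebraMap _ _ y) = χ' y := fun y => IsLocalization.lift_eq hunit y
  refine ⟨χB, ?_⟩
  apply AlgHom.coe_ringHom_injective
  apply IsLocalization.ringHom_ext 𝔪'.primeCompl
  apply RingHom.ext
  intro y
  show Ideal.Quotient.mk J (χB (algebraMap _ _ y)) = ψ (algebraMap _ _ y)
  rw [hχB, hχ', htoB]

end


section

variable (k A : Type u) [Field k] [CommRing A] [Algebra k A] [IsNoetherianRing A] [IsLocalRing A]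

attribute [local instance] Algebra.TensorProduct.rightAlgebra in
theorem isNoetherianRing_baseChange (k' : Type u) [Field k'] [Algebra k k'] [Module.Finite k k'] :
    IsNoetherianRing (k' ⊗[k] A) := by
  haveI := finite_right k A k'
  exact IsNoetherianRing.of_finite A (k' ⊗[k] A)

theorem isGeometricallyRegular_of_isAdicFormallySmooth
    (h : CAlgX.IsAdicFormallySmooth k A (maximalIdeal A)) : CAlg.IsGeometricallyRegular k A := by
  intro k' _ _ hfin
  haveI := hfin
  haveI := isNoetherianRing_baseChange k A k'
  apply Groth.Agent.Lib.Helper26.RegularCompletion.isRegularRing_of_maximal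
  intro 𝔪' _
  have h' := isAdicFormallySmooth_localization_baseChange k A h k' 𝔪'
  exact (regular_of_isAdicFormallySmooth k' (Localization.AtPrime 𝔪') h').1

theorem S4512_aux (h : CAlgX.IsAdicFormallySmooth k A (maximalIdeal A)) :
    CAlg.IsGeometricallyRegular k A ∧
      ∃ n : ℕ, Nonempty (AdicCompletion (maximalIdeal A) A ≃+*
        MvPowerSeries (Fin n) (ResidueField A)) :=
  ⟨isGeometricallyRegular_of_isAdicFormallySmooth k A h,
    (regular_of_isAdicFormallySmooth k A h).2⟩

end

end Groth.Agent.Lib.Helper21.CohenStruct
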