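import Mathlib

set_option autoImplicit false
set_option linter.style.haveILetI false

namespace Groth.Agent.Lib.Helper21.KDiffSmooth

open IsLocalRing TensorProduct KaehlerDifferential

universe u w

variable {k A : Type u} [Field k] [CommRing A] [IsLocalRing A] [Algebra k A]

/-- extension of derivations into modules killed by the maximal ideal, from injectivity of the
map on differentials -/
theorem exists_derivation_of_injective
    (hinj : Function.Injective
      ((KaehlerDifferential.mapBaseChange ℤ k A).lTensor (ResidueField A)))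
    (N : Type w) [AddCommGroup N] [Module A N] [Module k N] [IsScalarTower k A N]
    (hN : ∀ a ∈ maximalIdeal A, ∀ n : N, a • n = 0) (d : Derivation ℤ k N) :
    ∃ D : Derivation ℤ A N, ∀ x, D (algebraMap k A x) = d x := by
  have htors : Module.IsTorsionBySet A N (maximalIdeal A : Set A) := by
    intro n a
    exact hN a.1 a.2 n
  letI : Module (A ⧸ maximalIdeal A) N := htors.module
  haveI : IsScalarTower A (A ⧸ maximalIdeal A) N := htors.isScalarTower
  letI : Module (ResidueField A) N := inferInstanceAs (Module (A ⧸ maximalIdeal A) N)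
  haveI : IsScalarTower A (ResidueField A) N :=
    inferInstanceAs (IsScalarTower A (A ⧸ maximalIdeal A) N)
  let K := ResidueField A
  let φK : K ⊗[A] (A ⊗[k] Ω[k⁄ℤ]) →ₗ[K] K ⊗[A] Ω[A⁄ℤ] :=
    (KaehlerDifferential.mapBaseChange ℤ k A).baseChange K
  have hφK : Function.Injective φK := by
    have : (φK : K ⊗[A] (A ⊗[k] Ω[k⁄ℤ]) → K ⊗[A] Ω[A⁄ℤ]) =
        (KaehlerDifferential.mapBaseChange ℤ k A).lTensor K :=
      LinearMap.baseChange_eq_ltensor _
    rw [this]
    exact hinj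
  obtain ⟨ρ, hρ⟩ := LinearMap.exists_leftInverse_of_injective φK (LinearMap.ker_eq_bot.mpr hφK)
  let ℓ₀ : A ⊗[k] Ω[k⁄ℤ] →ₗ[A] N := LinearMap.liftBaseChange A d.liftKaehlerDifferential
  let ℓ : K ⊗[A] (A ⊗[k] Ω[k⁄ℤ]) →ₗ[K] N := LinearMap.liftBaseChange K ℓ₀
  let DW : Derivation ℤ A (K ⊗[A] Ω[A⁄ℤ]) :=
    (TensorProduct.mk A K Ω[A⁄ℤ] 1).compDer (KaehlerDifferential.D ℤ A)
  let g : K ⊗[A] Ω[A⁄ℤ] →ₗ[A] N := (ℓ ∘ₗ ρ).restrictScalars A
  refine ⟨g.compDer DW, fun x => ?_⟩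
  show ℓ (ρ ((1 : K) ⊗ₜ[A] KaehlerDifferential.D ℤ A (algebraMap k A x))) = d x
  have h1 : (1 : K) ⊗ₜ[A] KaehlerDifferential.D ℤ A (algebraMap k A x) =
      φK ((1 : K) ⊗ₜ[A] ((1 : A) ⊗ₜ[k] KaehlerDifferential.D ℤ k x)) := by
    rw [LinearMap.baseChange_tmul, KaehlerDifferential.mapBaseChange_tmul, one_smul,
      KaehlerDifferential.map_D]
  rw [h1]
  have h2 : ρ (φK ((1 : K) ⊗ₜ[A] ((1 : A) ⊗ₜ[k] KaehlerDifferential.D ℤ k x))) =
      (1 : K) ⊗ₜ[A] ((1 : A) ⊗ₜ[k] KaehlerDifferential.D ℤ k x) :=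
    LinearMap.congr_fun hρ _
  rw [h2]
  show ℓ ((1 : K) ⊗ₜ[A] ((1 : A) ⊗ₜ[k] KaehlerDifferential.D ℤ k x)) = d x
  rw [LinearMap.liftBaseChange_tmul, one_smul, LinearMap.liftBaseChange_tmul, one_smul,
    Derivation.liftKaehlerDifferential_comp_D]

end Groth.Agent.Lib.Helper21.KDiffSmooth
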