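import Mathlib
import Groth.Agent.Lib.Helper21.FlatSmoothH
import Groth.Agent.Lib.Helper21.KDiffSmooth
import Groth.Agent.Lib.Helper21.CohenStructF

set_option autoImplicit false
set_option linter.style.haveILetI false

namespace Groth.Agent.Lib.Helper21.KDiffSmooth

open IsLocalRing TensorProduct KaehlerDifferential

universe u

variable (k A : Type u) [Field k] [CommRing A] [IsLocalRing A] [Algebra k A]

theorem exists_lift_of_injective
    (hP : CAlgX.IsAdicFormallySmooth (⊥ : Subfield k) A (maximalIdeal A))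
    (hinj : Function.Injective
      ((KaehlerDifferential.mapBaseChange ℤ k A).lTensor (ResidueField A))) :
    ∀ (i : ℕ) (C E : Type u) [CommRing C] [CommRing E] [Algebra k C] [Algebra k E]
      (π : C →ₐ[k] E) (_ : Function.Surjective π) (_ : RingHom.ker π ^ 2 = ⊥)
      (φ : A →ₐ[k] E) (_ : ∃ m : ℕ, ∀ x ∈ maximalIdeal A ^ m, φ x = 0),
      (Ideal.comap π (Ideal.map φ (maximalIdeal A))) ^ i * RingHom.ker π = ⊥ →
      ∃ χ : A →ₐ[k] C, π.comp χ = φ := by
  intro i
  induction i with
  | zero =>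
    intro C E _ _ _ _ π hπ hsq φ hφ h0
    rw [pow_zero, one_mul] at h0
    have hinjπ : Function.Injective π := (RingHom.injective_iff_ker_eq_bot _).mpr h0
    let e : C ≃ₐ[k] E := AlgEquiv.ofBijective π ⟨hinjπ, hπ⟩
    refine ⟨e.symm.toAlgHom.comp φ, ?_⟩
    ext a
    exact e.apply_symm_apply (φ a)
  | succ i ih =>
    intro C E _ _ _ _ π hπ hsq φ hφ hi
    have hJ2 : ∀ x ∈ RingHom.ker π, ∀ y ∈ RingHom.ker π, x * y = 0 := by
      intro x hx y hy
      have : x * y ∈ RingHom.ker π ^ 2 := by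
        rw [pow_two]; exact Ideal.mul_mem_mul hx hy
      rwa [hsq] at this
    let J' : Ideal C := (Ideal.comap π (Ideal.map φ (maximalIdeal A))) ^ i * RingHom.ker π
    have hJ'J : J' ≤ RingHom.ker π := Ideal.mul_le_right
    let π' : (C ⧸ J') →ₐ[k] E := Ideal.Quotient.liftₐ J' π (fun c hc => hJ'J hc)
    have hπ'mk : ∀ c, π' (Ideal.Quotient.mk J' c) = π c := fun c => rfl
    have hπ' : Function.Surjective π' := by
      intro y
      obtain ⟨c, hc⟩ := hπ y
      exact ⟨Ideal.Quotient.mk J' c, hc⟩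
    have hker' : RingHom.ker π' ≤ (RingHom.ker π).map (Ideal.Quotient.mk J') := by
      intro z hz
      obtain ⟨c, rfl⟩ := Ideal.Quotient.mk_surjective z
      exact Ideal.mem_map_of_mem _ (by rw [RingHom.mem_ker] at hz ⊢; rwa [hπ'mk] at hz)
    have hsq' : RingHom.ker π' ^ 2 = ⊥ := by
      apply le_bot_iff.mp
      calc RingHom.ker π' ^ 2 ≤ ((RingHom.ker π).map (Ideal.Quotient.mk J')) ^ 2 :=
            Ideal.pow_right_mono hker' 2
        _ = (RingHom.ker π ^ 2).map (Ideal.Quotient.mk J') := (Ideal.map_pow _ _ _).symm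
        _ = ⊥ := by rw [hsq, Ideal.map_bot]
    have h𝔞' : Ideal.comap π' (Ideal.map φ (maximalIdeal A)) ≤
        (Ideal.comap π (Ideal.map φ (maximalIdeal A))).map (Ideal.Quotient.mk J') := by
      intro z hz
      obtain ⟨c, rfl⟩ := Ideal.Quotient.mk_surjective z
      exact Ideal.mem_map_of_mem _ (by rw [Ideal.mem_comap] at hz ⊢; rwa [hπ'mk] at hz)
    have hi' : (Ideal.comap π' (Ideal.map φ (maximalIdeal A))) ^ i * RingHom.ker π' = ⊥ := by
      apply le_bot_iff.mp
      calc (Ideal.comap π' (Ideal.map φ (maximalIdeal A))) ^ i * RingHom.ker π'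
          ≤ ((Ideal.comap π (Ideal.map φ (maximalIdeal A))).map (Ideal.Quotient.mk J')) ^ i *
              (RingHom.ker π).map (Ideal.Quotient.mk J') :=
            Ideal.mul_mono (Ideal.pow_right_mono h𝔞' i) hker'
        _ = J'.map (Ideal.Quotient.mk J') := by rw [Ideal.map_mul, Ideal.map_pow]
        _ = ⊥ := Ideal.map_quotient_self _
    obtain ⟨χ', hχ'⟩ := ih (C ⧸ J') E π' hπ' hsq' φ hφ hi'
    have hχ'a : ∀ a, π' (χ' a) = φ a := fun a => AlgHom.congr_fun hχ' a
    obtain ⟨m, hm⟩ := hφ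
    have hcont : ∃ n : ℕ, ∀ x ∈ maximalIdeal A ^ n,
        (χ'.restrictScalars (⊥ : Subfield k)) x = 0 := by
      refine ⟨m + m, fun x hx => ?_⟩
      rw [pow_add] at hx
      refine Submodule.mul_induction_on hx ?_ ?_
      · intro a ha b hb
        have h1 : χ' a ∈ RingHom.ker π' := by rw [RingHom.mem_ker, hχ'a]; exact hm a ha
        have h2 : χ' b ∈ RingHom.ker π' := by rw [RingHom.mem_ker, hχ'a]; exact hm b hb
        have : χ' a * χ' b ∈ RingHom.ker π' ^ 2 := by
          rw [pow_two]; exact Ideal.mul_mem_mul h1 h2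
        rw [hsq'] at this
        show χ' (a * b) = 0
        rw [map_mul]; exact this
      · intro a b ha hb
        show χ' (a + b) = 0
        rw [map_add]
        change χ' a = 0 at ha
        change χ' b = 0 at hb
        rw [ha, hb, add_zero]
    have hkermk : RingHom.ker (Ideal.Quotient.mkₐ (⊥ : Subfield k) J') = J' :=
      Ideal.Quotient.mkₐ_ker (⊥ : Subfield k) J'
    have hJ'sq : J' ^ 2 = ⊥ := by
      apply le_bot_iff.mp
      rw [← hsq]
      exact Ideal.pow_right_mono hJ'J 2
    obtain ⟨χ₁, hχ₁⟩ := Groth.Agent.Lib.Helper21.FlatSmooth.lifts_of_isAdicFormallySmooth hP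
      (Ideal.Quotient.mkₐ (⊥ : Subfield k) J') (Ideal.Quotient.mkₐ_surjective _ J')
      (by rw [hkermk]; exact hJ'sq) (χ'.restrictScalars (⊥ : Subfield k)) hcont
    have hχ₁' : ∀ a, Ideal.Quotient.mk J' (χ₁ a) = χ' a := fun a => AlgHom.congr_fun hχ₁ a
    have hπχ₁ : ∀ a, π (χ₁ a) = φ a := by
      intro a
      rw [← hπ'mk, hχ₁', hχ'a]
    have hχ₁𝔞 : ∀ a ∈ maximalIdeal A, χ₁ a ∈ Ideal.comap π (Ideal.map φ (maximalIdeal A)) := by
      intro a ha
      rw [Ideal.mem_comap, hπχ₁]
      exact Ideal.mem_map_of_mem _ ha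
    have hd : ∀ x : k, χ₁ (algebraMap k A x) - algebraMap k C x ∈ J' := by
      intro x
      rw [← Ideal.Quotient.eq, hχ₁', AlgHom.commutes]
      rfl
    have hJ'2 : ∀ x ∈ J', ∀ y ∈ J', x * y = 0 := fun x hx y hy => hJ2 x (hJ'J hx) y (hJ'J hy)
    letI algAC : Algebra A C := χ₁.toRingHom.toAlgebra
    have halg : ∀ a, algebraMap A C a = χ₁ a := fun a => rfl
    haveI : IsScalarTower k A J' := by
      constructor
      intro x a n
      apply Subtype.ext
      show (x • a) • (n : C) = x • (a • (n : C))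
      rw [Algebra.smul_def, Algebra.smul_def, Algebra.smul_def, Algebra.smul_def, halg, halg,
        map_mul]
      have := hJ'2 _ (hd x) _ (J'.mul_mem_left (χ₁ a) n.2)
      linear_combination this
    let d : Derivation ℤ k J' := Derivation.mk'
      (AddMonoidHom.toIntLinearMap
        { toFun := fun x => ⟨χ₁ (algebraMap k A x) - algebraMap k C x, hd x⟩
          map_zero' := by apply Subtype.ext; simp
          map_add' := fun x y => by apply Subtype.ext; simp; ring })
      (fun x y => by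
        apply Subtype.ext
        show χ₁ (algebraMap k A (x * y)) - algebraMap k C (x * y) =
          x • (χ₁ (algebraMap k A y) - algebraMap k C y) +
          y • (χ₁ (algebraMap k A x) - algebraMap k C x)
        rw [Algebra.smul_def, Algebra.smul_def, map_mul, map_mul, map_mul]
        have := hJ'2 _ (hd x) _ (hd y)
        linear_combination this)
    have hdval : ∀ x, ((d x : J') : C) = χ₁ (algebraMap k A x) - algebraMap k C x := fun x => rfl
    have hN : ∀ a ∈ maximalIdeal A, ∀ n : J', a • n = 0 := by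
      intro a ha n
      apply Subtype.ext
      show a • (n : C) = 0
      rw [Algebra.smul_def, halg]
      have : χ₁ a * (n : C) ∈
          (Ideal.comap π (Ideal.map φ (maximalIdeal A))) ^ (i + 1) * RingHom.ker π := by
        rw [pow_succ', mul_assoc]
        exact Ideal.mul_mem_mul (hχ₁𝔞 a ha) n.2
      rwa [hi] at this
    obtain ⟨D, hD⟩ := exists_derivation_of_injective hinj J' hN d
    let χ₀ : A →ₐ[ℤ] C := liftOfDerivationToSquareZero J' hJ'sq (-D)
    have hχ₀ : ∀ a, χ₀ a = -((D a : J') : C) + χ₁ a := by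
      intro a
      show (((-D) a : J') : C) + algebraMap A C a = _
      rw [Derivation.neg_apply, halg]
      rfl
    let χ : A →ₐ[k] C :=
      { toRingHom := χ₀.toRingHom
        commutes' := fun x => by
          show χ₀ (algebraMap k A x) = algebraMap k C x
          rw [hχ₀, hD, hdval]
          ring }
    refine ⟨χ, ?_⟩
    ext a
    show π (χ₀ a) = φ a
    rw [hχ₀, map_add, map_neg, hπχ₁]
    have : π ((D a : J') : C) = 0 := hJ'J (D a).2
    rw [this, neg_zero, zero_add]


section tw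

variable {k K : Type u} [CommRing k] [CommRing K] [Algebra k K]

/-- the ring hom `x ↦ x + δ(x) ε` -/
def twHom' (δ : Derivation ℤ k K) : k →+* TrivSqZeroExt K K where
  toFun x := TrivSqZeroExt.inl (algebraMap k K x) + TrivSqZeroExt.inr (δ x)
  map_one' := by
    apply TrivSqZeroExt.ext
    · simp only [TrivSqZeroExt.fst_add, TrivSqZeroExt.fst_inl, TrivSqZeroExt.fst_inr, map_one,
        add_zero, TrivSqZeroExt.fst_one]
    · simp only [TrivSqZeroExt.snd_add, TrivSqZeroExt.snd_inl, TrivSqZeroExt.snd_inr,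
        Derivation.map_one_eq_zero, add_zero, TrivSqZeroExt.snd_one]
  map_mul' x y := by
    apply TrivSqZeroExt.ext
    · simp only [TrivSqZeroExt.fst_add, TrivSqZeroExt.fst_inl, TrivSqZeroExt.fst_inr, map_mul,
        add_zero, TrivSqZeroExt.fst_mul]
    · simp only [TrivSqZeroExt.snd_add, TrivSqZeroExt.snd_inl, TrivSqZeroExt.snd_inr,
        Derivation.leibniz, zero_add, TrivSqZeroExt.snd_mul, TrivSqZeroExt.fst_add,
        TrivSqZeroExt.fst_inl, TrivSqZeroExt.fst_inr, add_zero, Algebra.smul_def,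
        MulOpposite.smul_eq_mul_unop, MulOpposite.unop_op, Algebra.algebraMap_self, RingHom.id_apply]
      ring
  map_zero' := by
    apply TrivSqZeroExt.ext
    · simp only [TrivSqZeroExt.fst_add, TrivSqZeroExt.fst_inl, TrivSqZeroExt.fst_inr, map_zero,
        add_zero, TrivSqZeroExt.fst_zero]
    · simp only [TrivSqZeroExt.snd_add, TrivSqZeroExt.snd_inl, TrivSqZeroExt.snd_inr,
        map_zero, add_zero, TrivSqZeroExt.snd_zero]
  map_add' x y := by
    apply TrivSqZeroExt.ext
    · simp only [TrivSqZeroExt.fst_add, TrivSqZeroExt.fst_inl, TrivSqZeroExt.fst_inr, map_add,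
        add_zero]
    · simp only [TrivSqZeroExt.snd_add, TrivSqZeroExt.snd_inl, TrivSqZeroExt.snd_inr,
        map_add, zero_add]

theorem fst_twHom' (δ : Derivation ℤ k K) (x : k) :
    TrivSqZeroExt.fst (twHom' δ x) = algebraMap k K x := by
  show TrivSqZeroExt.fst (TrivSqZeroExt.inl (algebraMap k K x) + TrivSqZeroExt.inr (δ x)) = _
  simp only [TrivSqZeroExt.fst_add, TrivSqZeroExt.fst_inl, TrivSqZeroExt.fst_inr, add_zero]

theorem snd_twHom' (δ : Derivation ℤ k K) (x : k) : TrivSqZeroExt.snd (twHom' δ x) = δ x := by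
  show TrivSqZeroExt.snd (TrivSqZeroExt.inl (algebraMap k K x) + TrivSqZeroExt.inr (δ x)) = _
  simp only [TrivSqZeroExt.snd_add, TrivSqZeroExt.snd_inl, TrivSqZeroExt.snd_inr, zero_add]

theorem snd_mul' (z w : TrivSqZeroExt K K) :
    TrivSqZeroExt.snd (z * w) = z.fst * w.snd + w.fst * z.snd := by
  simp only [TrivSqZeroExt.snd_mul, smul_eq_mul, MulOpposite.smul_eq_mul_unop, MulOpposite.unop_op]
  ring

theorem mul_eq_zero' (z w : TrivSqZeroExt K K) (hz : z.fst = 0) (hw : w.fst = 0) : z * w = 0 := by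
  apply TrivSqZeroExt.ext
  · rw [TrivSqZeroExt.fst_mul, hz, zero_mul, TrivSqZeroExt.fst_zero]
  · rw [snd_mul', hz, hw, zero_mul, zero_mul, add_zero, TrivSqZeroExt.snd_zero]

end tw

section inj

variable (k A : Type u) [Field k] [CommRing A] [IsLocalRing A] [Algebra k A]

open Groth.Agent.Lib.Helper21.FlatSmooth

theorem exists_derivation_of_isAdicFormallySmooth
    (h : CAlgX.IsAdicFormallySmooth k A (maximalIdeal A))
    (δ : Derivation ℤ k (ResidueField A)) :
    ∃ D : Derivation ℤ A (ResidueField A), ∀ x, D (algebraMap k A x) = δ x := by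
  let K := ResidueField A
  letI twAlg : Algebra k (TrivSqZeroExt K K) := (twHom' δ).toAlgebra
  let π : TrivSqZeroExt K K →ₐ[k] K :=
    { toRingHom := (TrivSqZeroExt.fstHom K K K).toRingHom
      commutes' := fun x => fst_twHom' δ x }
  have hπ : Function.Surjective π := fun c => ⟨TrivSqZeroExt.inl c, TrivSqZeroExt.fst_inl K c⟩
  have hsq : RingHom.ker π ^ 2 = ⊥ := by
    apply le_bot_iff.mp
    rw [pow_two, Ideal.mul_le]
    intro z hz w hw
    rw [Ideal.mem_bot]
    exact mul_eq_zero' z w hz hw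
  let φ : A →ₐ[k] K := IsScalarTower.toAlgHom k A K
  have hφ : ∃ m : ℕ, ∀ x ∈ maximalIdeal A ^ m, φ x = 0 :=
    ⟨1, fun x hx => by rw [pow_one] at hx; exact (residue_eq_zero_iff x).mpr hx⟩
  obtain ⟨χ, hχ⟩ := lifts_of_isAdicFormallySmooth h π hπ hsq φ hφ
  have hfst : ∀ a, (χ a).fst = residue A a := fun a => AlgHom.congr_fun hχ a
  let D : Derivation ℤ A K := Derivation.mk'
    (AddMonoidHom.toIntLinearMap
      { toFun := fun a => (χ a).snd
        map_zero' := by rw [map_zero, TrivSqZeroExt.snd_zero]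
        map_add' := fun a b => by rw [map_add, TrivSqZeroExt.snd_add] })
    (fun a b => by
      show (χ (a * b)).snd = a • (χ b).snd + b • (χ a).snd
      rw [map_mul, snd_mul', hfst, hfst, Algebra.smul_def, Algebra.smul_def]
      rfl)
  refine ⟨D, fun x => ?_⟩
  show (χ (algebraMap k A x)).snd = δ x
  rw [χ.commutes]
  exact snd_twHom' δ x

theorem injective_of_isAdicFormallySmooth
    (h : CAlgX.IsAdicFormallySmooth k A (maximalIdeal A)) :
    Function.Injective
      ((KaehlerDifferential.mapBaseChange ℤ k A).lTensor (ResidueField A)) := by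
  let K := ResidueField A
  let φK : K ⊗[A] (A ⊗[k] Ω[k⁄ℤ]) →ₗ[K] K ⊗[A] Ω[A⁄ℤ] :=
    (KaehlerDifferential.mapBaseChange ℤ k A).baseChange K
  have hfun : (φK : K ⊗[A] (A ⊗[k] Ω[k⁄ℤ]) → K ⊗[A] Ω[A⁄ℤ]) =
      (KaehlerDifferential.mapBaseChange ℤ k A).lTensor K :=
    LinearMap.baseChange_eq_ltensor _
  rw [← hfun, ← LinearMap.ker_eq_bot, LinearMap.ker_eq_bot']
  intro z hz
  rw [← Module.forall_dual_apply_eq_zero_iff K z]
  intro lam
  let g₁ : A ⊗[k] Ω[k⁄ℤ] →ₗ[A] K := (LinearMap.liftBaseChangeEquiv K).symm lam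
  let g : Ω[k⁄ℤ] →ₗ[k] K := (LinearMap.liftBaseChangeEquiv A).symm g₁
  let δ : Derivation ℤ k K := g.compDer (KaehlerDifferential.D ℤ k)
  obtain ⟨D, hD⟩ := exists_derivation_of_isAdicFormallySmooth k A h δ
  let Λ : K ⊗[A] Ω[A⁄ℤ] →ₗ[K] K := LinearMap.liftBaseChange K D.liftKaehlerDifferential
  have key : Λ ∘ₗ φK = lam := by
    apply (LinearMap.liftBaseChangeEquiv K).symm.injective
    apply (LinearMap.liftBaseChangeEquiv A).symm.injective
    apply Derivation.liftKaehlerDifferential_unique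
    ext x
    show Λ (φK ((1 : K) ⊗ₜ[A] ((1 : A) ⊗ₜ[k] KaehlerDifferential.D ℤ k x))) = δ x
    rw [LinearMap.baseChange_tmul, KaehlerDifferential.mapBaseChange_tmul, one_smul,
      KaehlerDifferential.map_D, LinearMap.liftBaseChange_tmul, one_smul,
      Derivation.liftKaehlerDifferential_comp_D, hD]
  rw [← key, LinearMap.comp_apply, hz, map_zero]

end inj


section final

variable {k A : Type u} [Field k] [CommRing A] [IsLocalRing A] [IsNoetherianRing A] [Algebra k A]

theorem isAdicFormallySmooth_of_regular_of_injective (hreg : IsRegularLocalRing A)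
    (hinj : Function.Injective
      ((KaehlerDifferential.mapBaseChange ℤ k A).lTensor (ResidueField A))) :
    CAlgX.IsAdicFormallySmooth k A (maximalIdeal A) := by
  haveI : Algebra.IsGeometricallyReduced (⊥ : Subfield k) (ResidueField A) :=
    Groth.Agent.Lib.Helper21.CohenStruct.isGeometricallyReduced_bot k (ResidueField A)
  have hP : CAlgX.IsAdicFormallySmooth (⊥ : Subfield k) A (maximalIdeal A) :=
    ((Groth.Agent.Lib.Helper21.CohenStruct.S2453_aux (⊥ : Subfield k) A).out 3 0).mp hreg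
  intro C _ _ J hJ ψ hψ
  obtain ⟨m, hm⟩ := hψ
  have hker : RingHom.ker (Ideal.Quotient.mkₐ k J) = J := Ideal.Quotient.mkₐ_ker k J
  apply exists_lift_of_injective k A hP hinj m C (C ⧸ J) (Ideal.Quotient.mkₐ k J)
    (Ideal.Quotient.mkₐ_surjective k J) (by rw [hker]; exact hJ) ψ ⟨m, hm⟩
  rw [hker]
  apply le_bot_iff.mp
  have hmap : Ideal.map ψ (maximalIdeal A ^ m) = ⊥ := by
    apply le_bot_iff.mp
    rw [Ideal.map_le_iff_le_comap]
    intro x hx
    rw [Ideal.mem_comap, Ideal.mem_bot]
    exact hm x hx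
  have h1 : (Ideal.comap (Ideal.Quotient.mkₐ k J) (Ideal.map ψ (maximalIdeal A))) ^ m ≤ J := by
    calc (Ideal.comap (Ideal.Quotient.mkₐ k J) (Ideal.map ψ (maximalIdeal A))) ^ m
        ≤ Ideal.comap (Ideal.Quotient.mkₐ k J) ((Ideal.map ψ (maximalIdeal A)) ^ m) :=
          Ideal.le_comap_pow _ _
      _ = Ideal.comap (Ideal.Quotient.mkₐ k J) ⊥ := by rw [← Ideal.map_pow, hmap]
      _ = J := hker
  calc (Ideal.comap (Ideal.Quotient.mkₐ k J) (Ideal.map ψ (maximalIdeal A))) ^ m * J
      ≤ J * J := Ideal.mul_mono_left h1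
    _ = J ^ 2 := (pow_two J).symm
    _ = ⊥ := hJ

theorem S2471_aux :
    CAlgX.IsAdicFormallySmooth k A (maximalIdeal A) ↔
      (IsRegularLocalRing A ∧ Function.Injective
        ((KaehlerDifferential.mapBaseChange ℤ k A).lTensor (ResidueField A))) := by
  constructor
  · intro h
    exact ⟨(Groth.Agent.Lib.Helper21.CohenStruct.regular_of_isAdicFormallySmooth k A h).1,
      injective_of_isAdicFormallySmooth k A h⟩
  · rintro ⟨hreg, hinj⟩
    exact isAdicFormallySmooth_of_regular_of_injective hreg hinj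

end final

end Groth.Agent.Lib.Helper21.KDiffSmooth
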