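import Mathlib
import Groth.Prelude.Def_EGA41
import Groth.Agent.Lib.Helper21.PBasisG

namespace Groth.Agent.Lib.Helper21.PBasis

universe u

/-- In a field of characteristic `p`, an element with vanishing absolute differential is a `p`-th
power. -/
theorem exists_pow_eq_of_D_eq_zero (p : ℕ) [Fact p.Prime] {K : Type u} [Field K] [CharP K p]
    (x : K) (hx : KaehlerDifferential.D ℤ K x = 0) : ∃ g : K, g ^ p = x := by
  -- pass to the prime subfield
  let k := (⊥ : Subfield K)
  have h1 : KaehlerDifferential.D k K x = 0 := by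
    have := congrArg (KaehlerDifferential.map ℤ k K K) hx
    rw [KaehlerDifferential.map_D, map_zero] at this
    exact this
  have h2 := (D_eq_zero_iff p k x).mp h1
  -- the `p`-th powers form a subfield
  have h3 : ∀ y ∈ EGA41.pPowerSubalgebra p k K, y ∈ (frobenius K p).fieldRange := by
    intro y hy
    induction hy using Algebra.adjoin_induction with
    | mem z hz =>
      obtain ⟨b, rfl⟩ := hz
      exact ⟨b, rfl⟩
    | algebraMap r =>
      have : (r : K) ∈ (⊥ : Subfield K) := r.2
      exact (bot_le : (⊥ : Subfield K) ≤ (frobenius K p).fieldRange) this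
    | add y z _ _ hy hz => exact add_mem hy hz
    | mul y z _ _ hy hz => exact mul_mem hy hz
  obtain ⟨g, hg⟩ := h3 x h2
  exact ⟨g, hg⟩

theorem S13369_aux' (p : ℕ) [Fact p.Prime] {A : Type u} [CommRing A] [IsDomain A]
    [IsIntegrallyClosed A] [CharP A p] (K : Type u) [Field K] [Algebra A K] [IsFractionRing A K]
    (s : A) (hs : KaehlerDifferential.D ℤ A s = 0) :
    ∃ f : A, f ^ p = s := by
  haveI : CharP K p := charP_of_injective_algebraMap (IsFractionRing.injective A K) p
  have h1 : KaehlerDifferential.D ℤ K (algebraMap A K s) = 0 := by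
    have := congrArg (KaehlerDifferential.map ℤ ℤ A K) hs
    rw [KaehlerDifferential.map_D, map_zero] at this
    exact this
  obtain ⟨g, hg⟩ := exists_pow_eq_of_D_eq_zero p (algebraMap A K s) h1
  have hint : IsIntegral A g := by
    refine ⟨Polynomial.X ^ p - Polynomial.C s,
      Polynomial.monic_X_pow_sub_C s (Fact.out : p.Prime).ne_zero, ?_⟩
    simp only [Polynomial.eval₂_sub, Polynomial.eval₂_pow, Polynomial.eval₂_X, Polynomial.eval₂_C,
      hg, sub_self]
  obtain ⟨f, hf⟩ := (IsIntegrallyClosed.isIntegral_iff (R := A) (K := K)).mp hint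
  refine ⟨f, ?_⟩
  apply IsFractionRing.injective A K
  rw [map_pow, hf, hg]

theorem S13369_aux (p : ℕ) [Fact p.Prime] {A : Type u} [CommRing A] [IsDomain A]
    [IsIntegrallyClosed A] [CharP A p] (s : A) (hs : KaehlerDifferential.D ℤ A s = 0) :
    ∃ f : A, f ^ p = s :=
  S13369_aux' p (FractionRing A) s hs

end Groth.Agent.Lib.Helper21.PBasis
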