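import Mathlib

set_option autoImplicit false
set_option linter.style.haveILetI false

namespace Groth.Agent.Lib.Helper21.PthRoot

open IsLocalRing Polynomial

universe u

section basic

variable {A : Type u} [CommRing A] (p : ℕ) [hp : Fact p.Prime]

/-- the polynomial `X^p + p c - f` -/
noncomputable def FF (c : A[X]) (f : A) : A[X] := X ^ p + (p : A[X]) * c - C f

variable {p}

theorem FF_monic {c : A[X]} (hc : c.natDegree < p) (f : A) : (FF p c f).Monic := by
  nontriviality A
  have hdeg : ((p : A[X]) * c - C f).degree < (p : WithBot ℕ) := by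
    refine lt_of_le_of_lt (degree_sub_le _ _) (max_lt ?_ ?_)
    · have h1 : ((p : A[X]) * c).degree ≤ c.degree := by
        have := degree_mul_le_of_le (degree_natCast_le (R := A) p) (le_refl c.degree)
        rwa [zero_add] at this
      refine lt_of_le_of_lt h1 ?_
      exact lt_of_le_of_lt degree_le_natDegree (by exact_mod_cast hc)
    · exact lt_of_le_of_lt degree_C_le (by exact_mod_cast hp.out.pos)
  have := monic_X_pow_add hdeg
  rwa [← add_sub_assoc] at this

theorem FF_natDegree [Nontrivial A] {c : A[X]} (hc : c.natDegree < p) (f : A) :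
    (FF p c f).natDegree = p := by
  have hdeg : ((p : A[X]) * c - C f).degree < (p : WithBot ℕ) := by
    refine lt_of_le_of_lt (degree_sub_le _ _) (max_lt ?_ ?_)
    · have h1 : ((p : A[X]) * c).degree ≤ c.degree := by
        have := degree_mul_le_of_le (degree_natCast_le (R := A) p) (le_refl c.degree)
        rwa [zero_add] at this
      refine lt_of_le_of_lt h1 ?_
      exact lt_of_le_of_lt degree_le_natDegree (by exact_mod_cast hc)
    · exact lt_of_le_of_lt degree_C_le (by exact_mod_cast hp.out.pos)
  have h2 : FF p c f = X ^ p + ((p : A[X]) * c - C f) := by rw [FF]; ring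
  rw [h2]
  apply natDegree_eq_of_degree_eq_some
  rw [degree_add_eq_left_of_degree_lt (by rwa [degree_X_pow]), degree_X_pow]

omit hp in
/-- the relation satisfied by the root -/
theorem root_pow (c : A[X]) (f : A) :
    (AdjoinRoot.root (FF p c f)) ^ p =
      AdjoinRoot.of (FF p c f) f - (p : AdjoinRoot (FF p c f)) * aeval (AdjoinRoot.root (FF p c f)) c := by
  have h := AdjoinRoot.eval₂_root (FF p c f)
  rw [FF, eval₂_sub, eval₂_add, eval₂_mul, eval₂_pow, eval₂_X, eval₂_C, eval₂_natCast] at h
  have h2 : eval₂ (AdjoinRoot.of (FF p c f)) (AdjoinRoot.root (FF p c f)) c =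
      aeval (AdjoinRoot.root (FF p c f)) c := rfl
  rw [FF] at h2 ⊢
  rw [h2] at h
  linear_combination h

end basic

end Groth.Agent.Lib.Helper21.PthRoot
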