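import Mathlib
import Groth.Agent.Lib.Helper21.PthRootA

set_option autoImplicit false
set_option linter.style.haveILetI false

namespace Groth.Agent.Lib.Helper21.PthRoot

open IsLocalRing Polynomial

universe u

section loc

variable {A : Type u} [CommRing A] [IsLocalRing A] {p : ℕ} [hp : Fact p.Prime]
  [CharP (ResidueField A) p] {c : A[X]} (hc : c.natDegree < p) (f : A)

omit hp in
theorem natCast_mem : (p : A) ∈ maximalIdeal A := by
  rw [← residue_eq_zero_iff, map_natCast]
  exact CharP.cast_eq_zero _ p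

omit [IsLocalRing A] [CharP (ResidueField A) p] in
include hc in
theorem finite_adjoinRoot : Module.Finite A (AdjoinRoot (FF p c f)) :=
  (FF_monic hc f).finite_adjoinRoot

omit [IsLocalRing A] [CharP (ResidueField A) p] in
include hc in
theorem free_adjoinRoot : Module.Free A (AdjoinRoot (FF p c f)) :=
  (FF_monic hc f).free_adjoinRoot

omit [CharP (ResidueField A) p] in
include hc in
theorem nontrivial_adjoinRoot : Nontrivial (AdjoinRoot (FF p c f)) := by
  have hm := FF_monic hc f
  have hnu : ¬ IsUnit (FF p c f) := by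
    intro hu
    have h1 := hm.isUnit_iff.mp hu
    have h2 := FF_natDegree hc f
    rw [h1, natDegree_one] at h2
    exact hp.out.ne_zero h2.symm
  show Nontrivial (A[X] ⧸ Ideal.span {FF p c f})
  rw [Ideal.Quotient.nontrivial_iff, Ne, Ideal.span_singleton_eq_top]
  exact hnu

omit [CharP (ResidueField A) p] in
include hc in
theorem map_le_jacobson :
    (maximalIdeal A).map (AdjoinRoot.of (FF p c f)) ≤ Ideal.jacobson ⊥ := by
  haveI := finite_adjoinRoot hc f
  haveI : Algebra.IsIntegral A (AdjoinRoot (FF p c f)) := Algebra.IsIntegral.of_finite A _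
  apply le_sInf
  rintro J ⟨-, hJ⟩
  rw [Ideal.map_le_iff_le_comap]
  have hmax : (J.comap (algebraMap A (AdjoinRoot (FF p c f)))).IsMaximal :=
    Ideal.isMaximal_comap_of_isIntegral_of_isMaximal J
  rw [AdjoinRoot.algebraMap_eq] at hmax
  rw [eq_maximalIdeal hmax]

/-- every element has its `p`-th power congruent to an element of `A` -/
theorem exists_pow_sub_mem (b : AdjoinRoot (FF p c f)) :
    ∃ a : A, b ^ p - AdjoinRoot.of (FF p c f) a ∈
      (maximalIdeal A).map (AdjoinRoot.of (FF p c f)) := by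
  have hpm : (p : AdjoinRoot (FF p c f)) ∈ (maximalIdeal A).map (AdjoinRoot.of (FF p c f)) := by
    have := Ideal.mem_map_of_mem (AdjoinRoot.of (FF p c f)) (natCast_mem (A := A) (p := p))
    rwa [map_natCast] at this
  induction b using AdjoinRoot.induction_on with
  | ih g =>
    induction g using Polynomial.induction_on with
    | C a =>
      refine ⟨a ^ p, ?_⟩
      rw [AdjoinRoot.mk_C, map_pow, sub_self]
      exact Ideal.zero_mem _
    | add g h hg hh =>
      obtain ⟨a, ha⟩ := hg
      obtain ⟨a', ha'⟩ := hh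
      refine ⟨a + a', ?_⟩
      obtain ⟨r, hr⟩ := exists_add_pow_prime_eq hp.out (AdjoinRoot.mk (FF p c f) g)
        (AdjoinRoot.mk (FF p c f) h)
      rw [map_add, hr, map_add]
      have : AdjoinRoot.mk (FF p c f) g ^ p + AdjoinRoot.mk (FF p c f) h ^ p +
          (p : AdjoinRoot (FF p c f)) * AdjoinRoot.mk (FF p c f) g * AdjoinRoot.mk (FF p c f) h * r -
          (AdjoinRoot.of (FF p c f) a + AdjoinRoot.of (FF p c f) a') =
          (AdjoinRoot.mk (FF p c f) g ^ p - AdjoinRoot.of (FF p c f) a) +
          (AdjoinRoot.mk (FF p c f) h ^ p - AdjoinRoot.of (FF p c f) a') +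
          (p : AdjoinRoot (FF p c f)) * (AdjoinRoot.mk (FF p c f) g * AdjoinRoot.mk (FF p c f) h * r) := by
        ring
      rw [this]
      exact Ideal.add_mem _ (Ideal.add_mem _ ha ha') (Ideal.mul_mem_right _ _ hpm)
    | monomial n a ih =>
      obtain ⟨a', ha'⟩ := ih
      refine ⟨a' * f, ?_⟩
      have h1 : AdjoinRoot.mk (FF p c f) (C a * X ^ (n + 1)) =
          AdjoinRoot.mk (FF p c f) (C a * X ^ n) * AdjoinRoot.root (FF p c f) := by
        rw [pow_succ, ← mul_assoc, map_mul, AdjoinRoot.mk_X]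
      rw [h1, mul_pow, root_pow]
      generalize AdjoinRoot.mk (FF p c f) (C a * X ^ n) = m at ha' ⊢
      rw [map_mul]
      have : m ^ p *
          (AdjoinRoot.of (FF p c f) f - (p : AdjoinRoot (FF p c f)) *
            aeval (AdjoinRoot.root (FF p c f)) c) -
          AdjoinRoot.of (FF p c f) a' * AdjoinRoot.of (FF p c f) f =
          (m ^ p - AdjoinRoot.of (FF p c f) a') *
            AdjoinRoot.of (FF p c f) f -
          (p : AdjoinRoot (FF p c f)) * (m ^ p *
            aeval (AdjoinRoot.root (FF p c f)) c) := by ring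
      rw [this]
      exact Ideal.sub_mem _ (Ideal.mul_mem_right _ _ ha') (Ideal.mul_mem_right _ _ hpm)

include hc in
theorem isLocalRing_adjoinRoot : IsLocalRing (AdjoinRoot (FF p c f)) := by
  haveI := nontrivial_adjoinRoot hc f
  apply IsLocalRing.of_isUnit_or_isUnit_one_sub_self
  intro b
  obtain ⟨a, ha⟩ := exists_pow_sub_mem (c := c) f b
  have hj := map_le_jacobson hc f ha
  by_cases ham : a ∈ maximalIdeal A
  · right
    have h1 : b ^ p ∈ Ideal.jacobson (⊥ : Ideal (AdjoinRoot (FF p c f))) := by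
      have h2 : AdjoinRoot.of (FF p c f) a ∈ Ideal.jacobson (⊥ : Ideal (AdjoinRoot (FF p c f))) :=
        map_le_jacobson hc f (Ideal.mem_map_of_mem _ ham)
      have := Ideal.add_mem _ hj h2
      rwa [sub_add_cancel] at this
    have h3 : b ∈ Ideal.jacobson (⊥ : Ideal (AdjoinRoot (FF p c f))) := by
      rw [Ideal.jacobson, Ideal.mem_sInf] at h1 ⊢
      rintro J ⟨h0, hJ⟩
      exact hJ.isPrime.mem_of_pow_mem p (h1 ⟨h0, hJ⟩)
    have := Ideal.mem_jacobson_bot.mp h3 (-1)
    rwa [mul_neg, mul_one, neg_add_eq_sub] at this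
  · left
    have hau : IsUnit a := by
      by_contra h
      exact ham ((mem_maximalIdeal a).mpr h)
    have hu : IsUnit (AdjoinRoot.of (FF p c f) a) := hau.map _
    obtain ⟨u, hu'⟩ := hu
    have h4 := Ideal.mem_jacobson_bot.mp hj (↑u⁻¹ : AdjoinRoot (FF p c f))
    have h5 : b ^ p = ↑u * ((b ^ p - AdjoinRoot.of (FF p c f) a) * ↑u⁻¹ + 1) := by
      rw [← hu']
      have : (↑u : AdjoinRoot (FF p c f)) * ↑u⁻¹ = 1 := u.mul_inv
      linear_combination (↑u - b ^ p) * this
    have h6 : IsUnit (b ^ p) := by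
      rw [h5]
      exact u.isUnit.mul h4
    exact (isUnit_pow_iff hp.out.ne_zero).mp h6

end loc

end Groth.Agent.Lib.Helper21.PthRoot
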