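import Mathlib
import Groth.Agent.Lib.Helper21.PthRootB
import Groth.Agent.Lib.Helper12.IntegralDim

set_option autoImplicit false
set_option linter.style.haveILetI false

namespace Groth.Agent.Lib.Helper21.PthRoot

open IsLocalRing Polynomial

universe u

section loc2

variable {A : Type u} [CommRing A] [IsLocalRing A] {p : ℕ} [hp : Fact p.Prime]
  [CharP (ResidueField A) p] {c : A[X]} (hc : c.natDegree < p) (f : A)

include hc in
theorem isLocalHom_of [IsLocalRing (AdjoinRoot (FF p c f))] :
    IsLocalHom (algebraMap A (AdjoinRoot (FF p c f))) := by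
  constructor
  intro a ha
  by_contra hna
  have ham : a ∈ maximalIdeal A := (mem_maximalIdeal a).mpr hna
  have h1 : algebraMap A (AdjoinRoot (FF p c f)) a ∈
      Ideal.jacobson (⊥ : Ideal (AdjoinRoot (FF p c f))) := by
    rw [AdjoinRoot.algebraMap_eq]
    exact map_le_jacobson hc f (Ideal.mem_map_of_mem _ ham)
  rw [IsLocalRing.jacobson_eq_maximalIdeal ⊥ bot_ne_top] at h1
  exact h1 ha

include hc in
theorem algebraMap_injective : Function.Injective (algebraMap A (AdjoinRoot (FF p c f))) := by
  haveI := free_adjoinRoot hc f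
  haveI := nontrivial_adjoinRoot hc f
  exact FaithfulSMul.algebraMap_injective A _

include hc in
theorem ringKrullDim_adjoinRoot :
    ringKrullDim (AdjoinRoot (FF p c f)) = ringKrullDim A := by
  haveI := finite_adjoinRoot hc f
  haveI : Algebra.IsIntegral A (AdjoinRoot (FF p c f)) := Algebra.IsIntegral.of_finite A _
  exact le_antisymm Groth.Agent.Lib.Helper12.ringKrullDim_le_of_isIntegral
    (Groth.Agent.Lib.Helper12.ringKrullDim_le_of_isIntegral_of_injective
      (algebraMap_injective hc f))

include hc in
theorem natCast_mem_sq [IsLocalRing (AdjoinRoot (FF p c f))]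
    (h2 : (p : A) ∈ maximalIdeal A ^ 2) :
    (p : AdjoinRoot (FF p c f)) ∈ maximalIdeal (AdjoinRoot (FF p c f)) ^ 2 := by
  haveI := isLocalHom_of hc f
  have h1 : (maximalIdeal A).map (algebraMap A (AdjoinRoot (FF p c f))) ≤
      maximalIdeal (AdjoinRoot (FF p c f)) := by
    rw [Ideal.map_le_iff_le_comap]
    exact le_of_eq (IsLocalRing.maximalIdeal_comap _).symm
  have h3 := Ideal.mem_map_of_mem (algebraMap A (AdjoinRoot (FF p c f))) h2
  rw [map_natCast, Ideal.map_pow] at h3
  exact Ideal.pow_right_mono h1 2 h3

include hc in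
theorem charP_residueField [IsLocalRing (AdjoinRoot (FF p c f))] :
    CharP (ResidueField (AdjoinRoot (FF p c f))) p := by
  haveI := isLocalHom_of hc f
  exact charP_of_injective_algebraMap
    (algebraMap (ResidueField A) (ResidueField (AdjoinRoot (FF p c f)))).injective p

end loc2

end Groth.Agent.Lib.Helper21.PthRoot
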