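import Mathlib
import Groth.Agent.Lib.Helper14.CotangentInj
import Groth.Agent.Lib.Helper21.CohenStruct

set_option autoImplicit false
set_option linter.style.haveILetI false

namespace Groth.Agent.Lib.Helper21.PthRoot

open IsLocalRing Polynomial TensorProduct KaehlerDifferential

universe u

section inj

variable (A : Type u) [CommRing A] [IsLocalRing A] (p : ℕ) [hp : Fact p.Prime]
  [CharP (ResidueField A) p]

/-- a ring-theoretic section of `A/𝔪² → K` when `p ∈ 𝔪²` -/
theorem exists_section_sq (hp2 : (p : A) ∈ maximalIdeal A ^ 2) :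
    ∃ g : ResidueField A →ₐ[ℤ] A ⧸ (RingHom.ker (algebraMap A (ResidueField A)) ^ 2),
      (IsScalarTower.toAlgHom ℤ A (ResidueField A)).kerSquareLift.comp g =
        AlgHom.id ℤ (ResidueField A) := by
  let K := ResidueField A
  have hker : RingHom.ker (algebraMap A K) = maximalIdeal A := ker_residue
  let Q := A ⧸ (RingHom.ker (algebraMap A K) ^ 2)
  have hne : RingHom.ker (algebraMap A K) ^ 2 ≠ ⊤ := by
    rw [hker]
    intro h
    have : maximalIdeal A = ⊤ := by
      apply top_le_iff.mp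
      rw [← h]
      exact Ideal.pow_le_self two_ne_zero
    exact (maximalIdeal.isMaximal A).ne_top this
  haveI : Nontrivial Q := Ideal.Quotient.nontrivial_iff.mpr hne
  have hpQ : (p : Q) = 0 := by
    have : (p : Q) = Ideal.Quotient.mk _ (p : A) := (map_natCast _ p).symm
    rw [this, Ideal.Quotient.eq_zero_iff_mem, hker]
    exact hp2
  haveI : CharP Q p := by
    have := CharP.ringChar_of_prime_eq_zero hp.out hpQ
    rw [← this]
    exact ringChar.charP Q
  letI : Algebra (ZMod p) Q := ZMod.algebra Q p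
  letI : Algebra (ZMod p) K := ZMod.algebra K p
  haveI : Algebra.FormallySmooth (ZMod p) K :=
    Groth.Agent.Lib.Helper21.CohenStruct.formallySmooth_of_bot_eq_top (ZMod p) K
      (Subsingleton.elim _ _)
  let π₀ : Q →ₐ[ℤ] K := (IsScalarTower.toAlgHom ℤ A K).kerSquareLift
  let π : Q →ₐ[ZMod p] K :=
    { (π₀ : Q →+* K) with
      commutes' := fun x => by
        have : (π₀ : Q →+* K).comp (algebraMap (ZMod p) Q) = algebraMap (ZMod p) K :=
          Subsingleton.elim _ _
        exact RingHom.congr_fun this x }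
  have hπ : Function.Surjective π := by
    intro y
    obtain ⟨a, rfl⟩ := residue_surjective y
    exact ⟨Ideal.Quotient.mk _ a, rfl⟩
  have hnil : IsNilpotent (RingHom.ker (π : Q →+* K)) := by
    refine ⟨2, ?_⟩
    have hsq : RingHom.ker (π : Q →+* K) ^ 2 =
        RingHom.ker (π : Q →+* K) * RingHom.ker (π : Q →+* K) := sq _
    rw [Ideal.zero_eq_bot, eq_bot_iff, hsq, Ideal.mul_le]
    intro x hx y hy
    obtain ⟨a, rfl⟩ := Ideal.Quotient.mk_surjective x
    obtain ⟨b, rfl⟩ := Ideal.Quotient.mk_surjective y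
    have ha : a ∈ RingHom.ker (algebraMap A K) := hx
    have hb : b ∈ RingHom.ker (algebraMap A K) := hy
    rw [Ideal.mem_bot, ← map_mul, Ideal.Quotient.eq_zero_iff_mem]
    exact (sq (RingHom.ker (algebraMap A K))).symm ▸ Ideal.mul_mem_mul ha hb
  let σ := Algebra.FormallySmooth.liftOfSurjective (AlgHom.id (ZMod p) K) π hπ hnil
  have hσ : ∀ y, π (σ y) = y :=
    Algebra.FormallySmooth.liftOfSurjective_apply (AlgHom.id (ZMod p) K) π hπ hnil
  refine ⟨(σ : K →+* Q).toIntAlgHom, ?_⟩
  ext y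
  exact hσ y

theorem exists_derivation_ne_zero (hp2 : (p : A) ∈ maximalIdeal A ^ 2) (e : A)
    (he : e ∈ maximalIdeal A) (he2 : e ∉ maximalIdeal A ^ 2) :
    ∃ D : Derivation ℤ A (ResidueField A), D e ≠ 0 := by
  let K := ResidueField A
  have hker : RingHom.ker (algebraMap A K) = maximalIdeal A := ker_residue
  obtain ⟨g, hg⟩ := exists_section_sq A p hp2
  have hinj := Groth.Agent.Lib.Helper14.kerCotangentToTensor_injective_of_section
    (R := ℤ) (P := A) (A := K) residue_surjective g hg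
  have hek : e ∈ RingHom.ker (algebraMap A K) := by rw [hker]; exact he
  have h1 : (RingHom.ker (algebraMap A K)).toCotangent ⟨e, hek⟩ ≠ 0 := by
    rw [Ne, Ideal.toCotangent_eq_zero]
    show e ∉ RingHom.ker (algebraMap A K) ^ 2
    rw [hker]
    exact he2
  have h2 : (1 : K) ⊗ₜ[A] KaehlerDifferential.D ℤ A e ≠ 0 := by
    rw [← KaehlerDifferential.kerCotangentToTensor_toCotangent ℤ A K ⟨e, hek⟩]
    intro h0
    exact h1 (hinj (by rw [h0, map_zero]))
  obtain ⟨Λ, hΛ⟩ : ∃ Λ : Module.Dual K (K ⊗[A] Ω[A⁄ℤ]),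
      Λ ((1 : K) ⊗ₜ[A] KaehlerDifferential.D ℤ A e) ≠ 0 := by
    by_contra hcon
    push Not at hcon
    exact h2 ((Module.forall_dual_apply_eq_zero_iff K _).mp hcon)
  refine ⟨((Λ.restrictScalars A) ∘ₗ (TensorProduct.mk A K Ω[A⁄ℤ] 1)).compDer
    (KaehlerDifferential.D ℤ A), ?_⟩
  exact hΛ

end inj

end Groth.Agent.Lib.Helper21.PthRoot
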