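import Mathlib

set_option autoImplicit false
set_option linter.style.haveILetI false

namespace Groth.Agent.Lib.Helper21.PthRoot

open Polynomial

universe u

section quot

variable {A : Type u} [CommRing A] (F : A[X]) (g : A)

theorem of_eval_mem :
    AdjoinRoot.of F (F.eval g) ∈ Ideal.span {AdjoinRoot.root F - AdjoinRoot.of F g} := by
  have h := Polynomial.sub_dvd_eval_sub (AdjoinRoot.root F) (AdjoinRoot.of F g)
    (F.map (AdjoinRoot.of F))
  rw [eval_map, AdjoinRoot.eval₂_root, eval_map, eval₂_at_apply, zero_sub] at h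
  exact Ideal.mem_span_singleton.mpr ((dvd_neg).mp h)

/-- forward map -/
noncomputable def quotFwd :
    (AdjoinRoot F ⧸ Ideal.span {AdjoinRoot.root F - AdjoinRoot.of F g}) →+*
      (A ⧸ Ideal.span {F.eval g}) :=
  Ideal.Quotient.lift _
    (AdjoinRoot.lift (Ideal.Quotient.mk (Ideal.span {F.eval g})) (Ideal.Quotient.mk _ g) (by
      rw [eval₂_at_apply, Ideal.Quotient.eq_zero_iff_mem]
      exact Ideal.mem_span_singleton_self _))
    (by
      intro b hb
      rw [Ideal.mem_span_singleton] at hb
      obtain ⟨t, rfl⟩ := hb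
      rw [map_mul, map_sub, AdjoinRoot.lift_root, AdjoinRoot.lift_of, sub_self, zero_mul])

/-- backward map -/
noncomputable def quotBwd :
    (A ⧸ Ideal.span {F.eval g}) →+*
      (AdjoinRoot F ⧸ Ideal.span {AdjoinRoot.root F - AdjoinRoot.of F g}) :=
  Ideal.Quotient.lift _ ((Ideal.Quotient.mk _).comp (AdjoinRoot.of F)) (by
    intro a ha
    rw [Ideal.mem_span_singleton] at ha
    obtain ⟨t, rfl⟩ := ha
    rw [RingHom.comp_apply, map_mul, map_mul]
    have := of_eval_mem F g
    rw [Ideal.Quotient.eq_zero_iff_mem.mpr this, zero_mul])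

theorem quotFwd_mk_of (a : A) :
    quotFwd F g (Ideal.Quotient.mk _ (AdjoinRoot.of F a)) = Ideal.Quotient.mk _ a := by
  rw [quotFwd, Ideal.Quotient.lift_mk, AdjoinRoot.lift_of]

theorem quotFwd_mk_root :
    quotFwd F g (Ideal.Quotient.mk _ (AdjoinRoot.root F)) = Ideal.Quotient.mk _ g := by
  rw [quotFwd, Ideal.Quotient.lift_mk, AdjoinRoot.lift_root]

theorem quotBwd_mk (a : A) :
    quotBwd F g (Ideal.Quotient.mk _ a) = Ideal.Quotient.mk _ (AdjoinRoot.of F a) := by
  rw [quotBwd, Ideal.Quotient.lift_mk, RingHom.comp_apply]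

/-- `A[X]/(F, X - g) = A/(F(g))` -/
noncomputable def quotEquiv :
    (AdjoinRoot F ⧸ Ideal.span {AdjoinRoot.root F - AdjoinRoot.of F g}) ≃+*
      (A ⧸ Ideal.span {F.eval g}) :=
  RingEquiv.ofRingHom (quotFwd F g) (quotBwd F g)
    (by
      apply Ideal.Quotient.ringHom_ext
      ext a
      simp only [RingHom.comp_apply, RingHom.id_apply]
      rw [quotBwd_mk, quotFwd_mk_of])
    (by
      apply Ideal.Quotient.ringHom_ext
      apply AdjoinRoot.ringHom_ext
      · ext a
        simp only [RingHom.comp_apply, RingHom.id_apply]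
        rw [quotFwd_mk_of, quotBwd_mk]
      · simp only [RingHom.comp_apply, RingHom.id_apply]
        rw [quotFwd_mk_root, quotBwd_mk, Ideal.Quotient.eq]
        have h := Ideal.mem_span_singleton_self (AdjoinRoot.root F - AdjoinRoot.of F g)
        have h2 := (Submodule.neg_mem_iff _).mpr h
        rwa [neg_sub] at h2)

end quot

end Groth.Agent.Lib.Helper21.PthRoot
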