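import Mathlib
import Groth.Agent.Lib.Helper21.PthRootC
import Groth.Agent.Lib.Helper21.PthRootD
import Groth.Agent.Lib.Helper21.PthRootE
import Groth.Agent.Lib.Helper21.PBasisR
import Groth.Agent.Lib.Helper21.KDiffSmoothB
import Groth.Agent.Lib.Helper9.RegLocal

set_option autoImplicit false
set_option linter.style.haveILetI false

namespace Groth.Agent.Lib.Helper21.PthRoot

open IsLocalRing Polynomial TensorProduct

universe u

section der

variable {A : Type u} [CommRing A] [IsLocalRing A] {p : ℕ} [hp : Fact p.Prime]
  [CharP (ResidueField A) p]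

omit hp in
theorem natCast_smul_eq_zero (y : ResidueField A) : (p : A) • y = 0 := by
  rw [Algebra.smul_def, map_natCast, CharP.cast_eq_zero, zero_mul]

omit hp in
theorem nsmul_eq_zero' (y : ResidueField A) : p • y = 0 := by
  rw [nsmul_eq_mul, CharP.cast_eq_zero, zero_mul]

omit hp in
theorem derivation_eval (D : Derivation ℤ A (ResidueField A)) (c : A[X]) (f g : A) :
    D ((FF p c f).eval g) = - D f := by
  rw [FF, eval_sub, eval_add, eval_mul, eval_pow, eval_X, eval_natCast, eval_C, map_sub, map_add,
    Derivation.leibniz_pow, Derivation.leibniz, Derivation.map_natCast, nsmul_eq_zero',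
    natCast_smul_eq_zero, smul_zero, zero_add, zero_add, zero_sub]

omit hp [CharP (ResidueField A) p] in
theorem derivation_sq (D : Derivation ℤ A (ResidueField A)) (x : A)
    (hx : x ∈ maximalIdeal A ^ 2) : D x = 0 := by
  rw [pow_two] at hx
  refine Submodule.mul_induction_on hx ?_ ?_
  · intro a ha b hb
    rw [Derivation.leibniz, Algebra.smul_def, Algebra.smul_def]
    have h1 : algebraMap A (ResidueField A) a = 0 := (residue_eq_zero_iff a).mpr ha
    have h2 : algebraMap A (ResidueField A) b = 0 := (residue_eq_zero_iff b).mpr hb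
    rw [h1, h2, zero_mul, zero_mul, add_zero]
  · intro a b ha hb
    rw [map_add, ha, hb, add_zero]

end der

end Groth.Agent.Lib.Helper21.PthRoot
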