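import Mathlib
import Groth.Agent.Lib.Helper21.PthRootF

set_option autoImplicit false
set_option linter.style.haveILetI false

namespace Groth.Agent.Lib.Helper21.PthRoot

open IsLocalRing Polynomial TensorProduct

universe u

section mapres

variable {A : Type u} [CommRing A] [IsLocalRing A] {p : ℕ}
  [CharP (ResidueField A) p] {c : A[X]} (f : A)

theorem FF_map_residue :
    (FF p c f).map (residue A) = X ^ p - C (residue A f) := by
  rw [FF, Polynomial.map_sub, Polynomial.map_add, Polynomial.map_mul, Polynomial.map_pow, map_X,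
    Polynomial.map_natCast, map_C]
  have : ((p : ℕ) : (ResidueField A)[X]) = 0 := by
    rw [← C_eq_natCast, CharP.cast_eq_zero, C_0]
  rw [this, zero_mul, add_zero]

end mapres

section case1

variable {A : Type u} [CommRing A] [IsRegularLocalRing A] {p : ℕ} [hp : Fact p.Prime]
  [CharP (ResidueField A) p] {c : A[X]} (hc : c.natDegree < p) (f : A)

omit [IsRegularLocalRing A] [CharP (ResidueField A) p] in
theorem exists_derivation_field {K : Type u} [Field K] [CharP K p] (y : K)
    (hy : ∀ g : K, g ^ p ≠ y) : ∃ δ : Derivation ℤ K K, δ y ≠ 0 := by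
  have h1 : KaehlerDifferential.D ℤ K y ≠ 0 := by
    intro h0
    obtain ⟨g, hg⟩ := Groth.Agent.Lib.Helper21.PBasis.exists_pow_eq_of_D_eq_zero p y h0
    exact hy g hg
  obtain ⟨Λ, hΛ⟩ : ∃ Λ : Module.Dual K (Ω[K⁄ℤ]), Λ (KaehlerDifferential.D ℤ K y) ≠ 0 := by
    by_contra hcon
    push Not at hcon
    exact h1 ((Module.forall_dual_apply_eq_zero_iff K _).mp hcon)
  exact ⟨Λ.compDer (KaehlerDifferential.D ℤ K), hΛ⟩

theorem exists_derivation_of_not_pow (hnp : ∀ g : ResidueField A, g ^ p ≠ residue A f) :
    ∃ D : Derivation ℤ A (ResidueField A), D f ≠ 0 := by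
  obtain ⟨δ, hδ⟩ := exists_derivation_field (p := p) (residue A f) hnp
  exact ⟨δ.compAlgebraMap A, hδ⟩

include hc in
theorem isRegularLocalRing_of_not_pow [IsLocalRing (AdjoinRoot (FF p c f))]
    (hnp : ∀ g : ResidueField A, g ^ p ≠ residue A f) :
    IsRegularLocalRing (AdjoinRoot (FF p c f)) := by
  let K := ResidueField A
  have hirr : Irreducible (X ^ p - C (residue A f) : K[X]) :=
    X_pow_sub_C_irreducible_of_prime hp.out hnp
  let e := AdjoinRoot.quotEquivQuotMap (FF p c f) (maximalIdeal A)
  have hmaxK : (Ideal.span {(X ^ p - C (residue A f) : K[X])}).IsMaximal :=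
    PrincipalIdealRing.isMaximal_of_irreducible hirr
  have hfield : IsField ((A ⧸ maximalIdeal A)[X] ⧸
      Ideal.span {(FF p c f).map (Ideal.Quotient.mk (maximalIdeal A))}) := by
    have h := (Ideal.Quotient.maximal_ideal_iff_isField_quotient _).mp hmaxK
    rw [← FF_map_residue (c := c) f] at h
    exact h
  have hfield' : IsField (AdjoinRoot (FF p c f) ⧸
      (maximalIdeal A).map (AdjoinRoot.of (FF p c f))) :=
    e.toRingEquiv.toMulEquiv.isField hfield
  have hmax' := Ideal.Quotient.maximal_of_isField _ hfield'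
  have hm : maximalIdeal (AdjoinRoot (FF p c f)) =
      (maximalIdeal A).map (AdjoinRoot.of (FF p c f)) := (eq_maximalIdeal hmax').symm
  apply IsRegularLocalRing.of_spanFinrank_maximalIdeal_le
  rw [ringKrullDim_adjoinRoot hc f, ← IsRegularLocalRing.spanFinrank_maximalIdeal, hm]
  exact_mod_cast Ideal.spanFinrank_map_le_of_fg _ (maximalIdeal A).fg_of_isNoetherianRing

end case1

end Groth.Agent.Lib.Helper21.PthRoot
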