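import Mathlib
import Groth.Agent.Lib.Helper21.PthRootG

set_option autoImplicit false
set_option linter.style.haveILetI false

namespace Groth.Agent.Lib.Helper21.PthRoot

open IsLocalRing Polynomial TensorProduct

universe u

section case2

variable {A : Type u} [CommRing A] [IsLocalRing A] {p : ℕ} [hp : Fact p.Prime]
  [CharP (ResidueField A) p] {c : A[X]} (f : A) (g : A)
  (hg : residue A g ^ p = residue A f)

omit hp in
include hg in
theorem eval_mem : (FF p c f).eval g ∈ maximalIdeal A := by
  rw [← residue_eq_zero_iff, ← eval₂_at_apply, ← eval_map, FF_map_residue, eval_sub, eval_pow,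
    eval_X, eval_C, hg, sub_self]

/-- the ring hom to the dual numbers over the residue field sending the root to `g + ε` -/
noncomputable def toDual : AdjoinRoot (FF p c f) →+* TrivSqZeroExt (ResidueField A) (ResidueField A) :=
  AdjoinRoot.lift ((TrivSqZeroExt.inlHom (ResidueField A) (ResidueField A)).comp (residue A))
    (TrivSqZeroExt.inl (residue A g) + TrivSqZeroExt.inr 1) (by
      haveI : CharP (TrivSqZeroExt (ResidueField A) (ResidueField A)) p :=
        charP_of_injective_ringHom
          (f := TrivSqZeroExt.inlHom (ResidueField A) (ResidueField A))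
          TrivSqZeroExt.inl_injective p
      have h2 : (2 : ℕ) ≤ p := hp.out.two_le
      have hinr : (TrivSqZeroExt.inr (1 : ResidueField A) :
          TrivSqZeroExt (ResidueField A) (ResidueField A)) ^ p = 0 := by
        obtain ⟨k, rfl⟩ := Nat.exists_eq_add_of_le h2
        rw [pow_add, pow_two, TrivSqZeroExt.inr_mul_inr, zero_mul]
      rw [FF, eval₂_sub, eval₂_add, eval₂_mul, eval₂_pow, eval₂_X, eval₂_natCast, eval₂_C,
        CharP.cast_eq_zero, zero_mul, add_zero, add_pow_char, hinr, add_zero,
        RingHom.comp_apply, ← hg, map_pow]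
      exact sub_self _)

theorem toDual_of (a : A) :
    toDual f g hg (AdjoinRoot.of (FF p c f) a) = TrivSqZeroExt.inl (residue A a) := by
  rw [toDual, AdjoinRoot.lift_of]
  rfl

theorem toDual_root :
    toDual f g hg (AdjoinRoot.root (FF p c f)) =
      TrivSqZeroExt.inl (residue A g) + TrivSqZeroExt.inr 1 := by
  rw [toDual, AdjoinRoot.lift_root]

theorem toDual_sub :
    toDual f g hg (AdjoinRoot.root (FF p c f) - AdjoinRoot.of (FF p c f) g) =
      TrivSqZeroExt.inr 1 := by
  rw [map_sub, toDual_root, toDual_of, add_sub_cancel_left]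

theorem fst_toDual_eq_zero [IsLocalRing (AdjoinRoot (FF p c f))] (b : AdjoinRoot (FF p c f))
    (hb : b ∈ maximalIdeal (AdjoinRoot (FF p c f))) : (toDual f g hg b).fst = 0 := by
  let φ : AdjoinRoot (FF p c f) →+* ResidueField A :=
    (TrivSqZeroExt.fstHom (ResidueField A) (ResidueField A) (ResidueField A)).toRingHom.comp
      (toDual f g hg)
  have hφ : Function.Surjective φ := by
    intro y
    obtain ⟨a, rfl⟩ := residue_surjective y
    refine ⟨AdjoinRoot.of (FF p c f) a, ?_⟩
    show (toDual f g hg (AdjoinRoot.of (FF p c f) a)).fst = _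
    rw [toDual_of, TrivSqZeroExt.fst_inl]
  have hmax : (RingHom.ker φ).IsMaximal := RingHom.ker_isMaximal_of_surjective φ hφ
  have : RingHom.ker φ = maximalIdeal (AdjoinRoot (FF p c f)) := eq_maximalIdeal hmax
  rw [← this] at hb
  exact hb

include hg in
theorem sub_notMem_sq [IsLocalRing (AdjoinRoot (FF p c f))] :
    AdjoinRoot.root (FF p c f) - AdjoinRoot.of (FF p c f) g ∉
      maximalIdeal (AdjoinRoot (FF p c f)) ^ 2 := by
  intro hmem
  have hzero : ∀ x ∈ maximalIdeal (AdjoinRoot (FF p c f)) ^ 2, toDual f g hg x = 0 := by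
    intro x hx
    rw [pow_two] at hx
    refine Submodule.mul_induction_on hx ?_ ?_
    · intro a ha b hb
      rw [map_mul]
      exact Groth.Agent.Lib.Helper21.KDiffSmooth.mul_eq_zero' _ _
        (fst_toDual_eq_zero f g hg a ha) (fst_toDual_eq_zero f g hg b hb)
    · intro a b ha hb
      rw [map_add, ha, hb, add_zero]
  have h1 := hzero _ hmem
  rw [toDual_sub] at h1
  have h2 := congrArg TrivSqZeroExt.snd h1
  rw [TrivSqZeroExt.snd_inr, TrivSqZeroExt.snd_zero] at h2
  exact one_ne_zero h2

end case2

end Groth.Agent.Lib.Helper21.PthRoot
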