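import Mathlib
import Groth.Agent.Lib.Helper21.PthRootH

set_option autoImplicit false
set_option linter.style.haveILetI false

namespace Groth.Agent.Lib.Helper21.PthRoot

open IsLocalRing Polynomial TensorProduct

universe u

section single

variable {R : Type u} [CommRing R] [IsLocalRing R]

theorem range_single (t : R) (ht : t ∈ maximalIdeal R) :
    (Set.range fun i : Fin 1 => (((fun _ => ⟨t, ht⟩ : Fin 1 → maximalIdeal R) i : maximalIdeal R) : R))
      = {t} := by
  ext y
  simp

/-- quotient of a regular local ring by an element outside the square of the maximal ideal -/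
theorem quotient_single {R : Type u} [CommRing R] [IsRegularLocalRing R] (t : R) (ht : t ∈ maximalIdeal R)
    (ht2 : t ∉ maximalIdeal R ^ 2) :
    ringKrullDim (R ⧸ Ideal.span {t}) + 1 = ringKrullDim R ∧
      IsRegularLocalRing (R ⧸ Ideal.span {t}) := by
  let x : Fin 1 → maximalIdeal R := fun _ => ⟨t, ht⟩
  have hx : LinearIndependent (ResidueField R) (fun i => (maximalIdeal R).toCotangent (x i)) := by
    rw [linearIndependent_unique_iff]
    show (maximalIdeal R).toCotangent ⟨t, ht⟩ ≠ 0
    rw [Ne, Ideal.toCotangent_eq_zero]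
    exact ht2
  have h := Groth.Agent.Lib.Helper9.RegLocal.quotient_regular R 1 x hx
  rw [range_single t ht] at h
  exact_mod_cast h

/-- converse -/
theorem regular_of_quotient_single [IsNoetherianRing R] (t : R) (ht : t ∈ maximalIdeal R)
    (hdim : ringKrullDim (R ⧸ Ideal.span {t}) + 1 = ringKrullDim R)
    (hreg : IsRegularLocalRing (R ⧸ Ideal.span {t})) :
    IsRegularLocalRing R ∧ t ∉ maximalIdeal R ^ 2 := by
  let x : Fin 1 → maximalIdeal R := fun _ => ⟨t, ht⟩
  have hr := range_single t ht
  have hdim' : ringKrullDim (R ⧸ Ideal.span (Set.range fun i => (x i : R))) + (1 : ℕ) =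
      ringKrullDim R := by
    rw [hr]
    exact_mod_cast hdim
  haveI : IsRegularLocalRing (R ⧸ Ideal.span (Set.range fun i => (x i : R))) := by
    rw [hr]
    exact hreg
  obtain ⟨h1, h2⟩ := Groth.Agent.Lib.Helper9.RegLocal.regular_of_quotient_regular R 1 x hdim'
  refine ⟨h1, ?_⟩
  rw [linearIndependent_unique_iff] at h2
  intro h
  apply h2
  show (maximalIdeal R).toCotangent ⟨t, ht⟩ = 0
  rw [Ideal.toCotangent_eq_zero]
  exact h

end single

section case2b

variable {A : Type u} [CommRing A] [IsRegularLocalRing A] {p : ℕ} [hp : Fact p.Prime]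
  [CharP (ResidueField A) p] {c : A[X]} (hc : c.natDegree < p) (f : A) (g : A)
  (hg : residue A g ^ p = residue A f)

omit hp in
include hg in
theorem sub_mem_maximalIdeal [IsLocalRing (AdjoinRoot (FF p c f))] :
    AdjoinRoot.root (FF p c f) - AdjoinRoot.of (FF p c f) g ∈
      maximalIdeal (AdjoinRoot (FF p c f)) := by
  rw [mem_maximalIdeal, mem_nonunits_iff]
  intro hu
  have h1 : Ideal.span {AdjoinRoot.root (FF p c f) - AdjoinRoot.of (FF p c f) g} = ⊤ :=
    Ideal.span_singleton_eq_top.mpr hu
  have h2 : Subsingleton (AdjoinRoot (FF p c f) ⧸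
      Ideal.span {AdjoinRoot.root (FF p c f) - AdjoinRoot.of (FF p c f) g}) :=
    Ideal.Quotient.subsingleton_iff.mpr h1
  have h3 : Subsingleton (A ⧸ Ideal.span {(FF p c f).eval g}) :=
    (quotEquiv (FF p c f) g).symm.toEquiv.subsingleton
  have h4 : Ideal.span {(FF p c f).eval g} = ⊤ := Ideal.Quotient.subsingleton_iff.mp h3
  have h5 : IsUnit ((FF p c f).eval g) := Ideal.span_singleton_eq_top.mp h4
  exact (mem_maximalIdeal _).mp (eval_mem (c := c) f g hg) h5

include hc hg in
theorem regular_iff_eval_notMem_sq [IsLocalRing (AdjoinRoot (FF p c f))] :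
    IsRegularLocalRing (AdjoinRoot (FF p c f)) ↔ (FF p c f).eval g ∉ maximalIdeal A ^ 2 := by
  have he := eval_mem (c := c) f g hg
  have hs := sub_mem_maximalIdeal (c := c) f g hg
  let E := quotEquiv (FF p c f) g
  have hdimE : ringKrullDim (AdjoinRoot (FF p c f) ⧸
      Ideal.span {AdjoinRoot.root (FF p c f) - AdjoinRoot.of (FF p c f) g}) =
      ringKrullDim (A ⧸ Ideal.span {(FF p c f).eval g}) := ringKrullDim_eq_of_ringEquiv E
  have hdimB := ringKrullDim_adjoinRoot hc f
  constructor
  · intro hreg
    haveI := hreg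
    obtain ⟨h1, h2⟩ := quotient_single _ hs (sub_notMem_sq f g hg)
    haveI := h2
    have h3 : IsRegularLocalRing (A ⧸ Ideal.span {(FF p c f).eval g}) :=
      IsRegularLocalRing.of_ringEquiv E
    have h4 : ringKrullDim (A ⧸ Ideal.span {(FF p c f).eval g}) + 1 = ringKrullDim A := by
      rw [← hdimE, h1, hdimB]
    exact (regular_of_quotient_single _ he h4 h3).2
  · intro he2
    obtain ⟨h1, h2⟩ := quotient_single _ he he2
    haveI := h2
    have h3 : IsRegularLocalRing (AdjoinRoot (FF p c f) ⧸
        Ideal.span {AdjoinRoot.root (FF p c f) - AdjoinRoot.of (FF p c f) g}) :=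
      IsRegularLocalRing.of_ringEquiv E.symm
    have h4 : ringKrullDim (AdjoinRoot (FF p c f) ⧸
        Ideal.span {AdjoinRoot.root (FF p c f) - AdjoinRoot.of (FF p c f) g}) + 1 =
        ringKrullDim (AdjoinRoot (FF p c f)) := by
      rw [hdimE, h1, hdimB]
    exact (regular_of_quotient_single _ hs h4 h3).1

end case2b

section crit

variable {A : Type u} [CommRing A] [IsRegularLocalRing A] {p : ℕ} [hp : Fact p.Prime]
  [CharP (ResidueField A) p] {c : A[X]} (hc : c.natDegree < p) (f : A)

include hc in
/-- the regularity criterion for one step -/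
theorem regular_iff_exists_derivation [IsLocalRing (AdjoinRoot (FF p c f))]
    (hp2 : (p : A) ∈ maximalIdeal A ^ 2) :
    IsRegularLocalRing (AdjoinRoot (FF p c f)) ↔
      ∃ D : Derivation ℤ A (ResidueField A), D f ≠ 0 := by
  by_cases hpow : ∃ g₀ : ResidueField A, g₀ ^ p = residue A f
  · obtain ⟨g₀, hg₀⟩ := hpow
    obtain ⟨g, rfl⟩ := residue_surjective g₀
    rw [regular_iff_eval_notMem_sq hc f g hg₀]
    constructor
    · intro he2
      obtain ⟨D, hD⟩ := exists_derivation_ne_zero A p hp2 _ (eval_mem f g hg₀) he2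
      refine ⟨D, ?_⟩
      rw [derivation_eval] at hD
      exact fun h => hD (by rw [h, neg_zero])
    · rintro ⟨D, hD⟩ he2
      have := derivation_sq D _ he2
      rw [derivation_eval] at this
      exact hD (neg_eq_zero.mp this)
  · push Not at hpow
    exact ⟨fun _ => exists_derivation_of_not_pow f hpow,
      fun _ => isRegularLocalRing_of_not_pow hc f hpow⟩

end crit

end Groth.Agent.Lib.Helper21.PthRoot
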