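import Mathlib
import Groth.Agent.Lib.Helper21.PthRootI

set_option autoImplicit false
set_option linter.style.haveILetI false

namespace Groth.Agent.Lib.Helper21.PthRoot

open IsLocalRing Polynomial TensorProduct

universe u

section ext

variable {A : Type u} [CommRing A] {p : ℕ} {c : A[X]} (f : A)
  {L : Type u} [CommRing L] [Algebra A L] [Algebra (AdjoinRoot (FF p c f)) L]
  [IsScalarTower A (AdjoinRoot (FF p c f)) L] [CharP L p]

/-- the relation in `L` -/
theorem algebraMap_root_pow :
    (algebraMap (AdjoinRoot (FF p c f)) L (AdjoinRoot.root (FF p c f))) ^ p = algebraMap A L f := by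
  rw [← map_pow, root_pow, map_sub, map_mul, map_natCast, CharP.cast_eq_zero, zero_mul, sub_zero,
    ← AdjoinRoot.algebraMap_eq, ← IsScalarTower.algebraMap_apply]

/-- the lifted ring hom to the dual numbers -/
noncomputable def extHom (D : Derivation ℤ A L) (hD : D f = 0) :
    AdjoinRoot (FF p c f) →+* TrivSqZeroExt L L :=
  AdjoinRoot.lift (Groth.Agent.Lib.Helper21.KDiffSmooth.twHom' D)
    (TrivSqZeroExt.inl (algebraMap (AdjoinRoot (FF p c f)) L (AdjoinRoot.root (FF p c f)))) (by
      haveI : CharP (TrivSqZeroExt L L) p :=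
        charP_of_injective_ringHom (f := TrivSqZeroExt.inlHom L L) TrivSqZeroExt.inl_injective p
      show eval₂ _ _ (X ^ p + (p : A[X]) * c - C f) = 0
      rw [eval₂_sub, eval₂_add, eval₂_mul, eval₂_pow, eval₂_X, eval₂_natCast, eval₂_C,
        CharP.cast_eq_zero, zero_mul, add_zero, TrivSqZeroExt.inl_pow, algebraMap_root_pow]
      show _ - (TrivSqZeroExt.inl (algebraMap A L f) + TrivSqZeroExt.inr (D f)) = 0
      rw [hD, TrivSqZeroExt.inr_zero, add_zero, sub_self])

theorem extHom_of (D : Derivation ℤ A L) (hD : D f = 0) (a : A) :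
    extHom f D hD (AdjoinRoot.of (FF p c f) a) =
      TrivSqZeroExt.inl (algebraMap A L a) + TrivSqZeroExt.inr (D a) := by
  rw [extHom, AdjoinRoot.lift_of]
  rfl

theorem fst_extHom (D : Derivation ℤ A L) (hD : D f = 0) (b : AdjoinRoot (FF p c f)) :
    (extHom (c := c) f D hD b).fst = algebraMap (AdjoinRoot (FF p c f)) L b := by
  have h : ((TrivSqZeroExt.fstHom L L L).toRingHom.comp (extHom f D hD)) =
      algebraMap (AdjoinRoot (FF p c f)) L := by
    apply AdjoinRoot.ringHom_ext
    · ext a
      show (extHom (c := c) f D hD (AdjoinRoot.of (FF p c f) a)).fst = _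
      rw [extHom_of, TrivSqZeroExt.fst_add, TrivSqZeroExt.fst_inl, TrivSqZeroExt.fst_inr, add_zero,
        RingHom.comp_apply, ← AdjoinRoot.algebraMap_eq, ← IsScalarTower.algebraMap_apply]
    · show (extHom (c := c) f D hD (AdjoinRoot.root (FF p c f))).fst = _
      rw [extHom, AdjoinRoot.lift_root, TrivSqZeroExt.fst_inl]
  exact RingHom.congr_fun h b

/-- extension of derivations killing `f` to the one-step extension -/
theorem exists_derivation_extend (D : Derivation ℤ A L) (hD : D f = 0) :
    ∃ D' : Derivation ℤ (AdjoinRoot (FF p c f)) L,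
      ∀ a, D' (AdjoinRoot.of (FF p c f) a) = D a := by
  let χ := extHom (c := c) f D hD
  let D' : Derivation ℤ (AdjoinRoot (FF p c f)) L := Derivation.mk'
    (AddMonoidHom.toIntLinearMap
      { toFun := fun a => (χ a).snd
        map_zero' := by rw [map_zero, TrivSqZeroExt.snd_zero]
        map_add' := fun a b => by rw [map_add, TrivSqZeroExt.snd_add] })
    (fun a b => by
      show (χ (a * b)).snd = a • (χ b).snd + b • (χ a).snd
      rw [map_mul, Groth.Agent.Lib.Helper21.KDiffSmooth.snd_mul', fst_extHom, fst_extHom,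
        Algebra.smul_def, Algebra.smul_def])
  refine ⟨D', fun a => ?_⟩
  show (χ (AdjoinRoot.of (FF p c f) a)).snd = D a
  rw [extHom_of, TrivSqZeroExt.snd_add, TrivSqZeroExt.snd_inl, TrivSqZeroExt.snd_inr, zero_add]

end ext

section kill

variable {A : Type u} [CommRing A] {p : ℕ} {c : A[X]} (f : A)
  {M : Type u} [AddCommGroup M] [Module (AdjoinRoot (FF p c f)) M]

/-- derivations of the one-step extension into a module killed by `p` kill `f` -/
theorem derivation_of_eq_zero (hM : ∀ m : M, p • m = 0)
    (D' : Derivation ℤ (AdjoinRoot (FF p c f)) M) :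
    D' (AdjoinRoot.of (FF p c f) f) = 0 := by
  have h : AdjoinRoot.of (FF p c f) f = (AdjoinRoot.root (FF p c f)) ^ p +
      (p : AdjoinRoot (FF p c f)) * aeval (AdjoinRoot.root (FF p c f)) c := by
    rw [root_pow]; ring
  rw [h, map_add, Derivation.leibniz_pow, Derivation.leibniz, Derivation.map_natCast, hM,
    smul_zero, Nat.cast_smul_eq_nsmul, hM, add_zero, add_zero]

end kill

end Groth.Agent.Lib.Helper21.PthRoot
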