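import Mathlib

set_option autoImplicit false
set_option linter.style.haveILetI false

namespace Groth.Agent.Lib.Helper21.PthRoot

open TensorProduct

universe u v w

section linalg

variable {K : Type u} [Field K] {V : Type v} [AddCommGroup V] [Module K V]
  {L : Type w} [Field L] [Algebra K L]

/-- diagonal dual family implies independence -/
theorem linearIndependent_of_dual {ι : Type*} [DecidableEq ι] (v : ι → V) (φ : ι → V →ₗ[K] L)
    (h : ∀ i j, φ i (v j) = if j = i then 1 else 0) : LinearIndependent K v := by
  rw [linearIndependent_iff']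
  intro s g hg i hi
  have h1 := congrArg (φ i) hg
  rw [map_sum, map_zero] at h1
  simp only [map_smul, h, smul_ite, smul_zero] at h1
  rw [Finset.sum_ite_eq' s i, if_pos hi, Algebra.smul_def, mul_one] at h1
  exact (map_eq_zero (algebraMap K L)).mp h1

/-- triangular dual family implies independence -/
theorem linearIndependent_of_dual_succ {n : ℕ} (v : Fin (n + 1) → V) (φ₀ : V →ₗ[K] L)
    (h₀ : φ₀ (v 0) ≠ 0) (φ : Fin n → V →ₗ[K] L) (h1 : ∀ i, φ i (v 0) = 0)
    (h : ∀ i j, φ i (v j.succ) = if j = i then 1 else 0) : LinearIndependent K v := by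
  rw [Fintype.linearIndependent_iff]
  intro g hg
  have key : ∀ i : Fin n, g i.succ = 0 := by
    intro i
    have h2 := congrArg (φ i) hg
    rw [map_sum, map_zero, Fin.sum_univ_succ] at h2
    simp only [map_smul, h, h1, smul_ite, smul_zero, zero_add] at h2
    rw [Finset.sum_ite_eq' Finset.univ i, if_pos (Finset.mem_univ i), Algebra.smul_def, mul_one] at h2
    exact (map_eq_zero (algebraMap K L)).mp h2
  have h3 : g 0 = 0 := by
    rw [Fin.sum_univ_succ] at hg
    simp only [key, zero_smul, Finset.sum_const_zero, add_zero] at hg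
    have h2 := congrArg φ₀ hg
    rw [map_smul, map_zero, Algebra.smul_def, mul_eq_zero] at h2
    rcases h2 with h2 | h2
    · exact (map_eq_zero (algebraMap K L)).mp h2
    · exact absurd h2 h₀
  intro i
  refine Fin.cases h3 key i

/-- independent family has a dual family -/
theorem exists_dual_of_linearIndependent {ι : Type*} [DecidableEq ι] (v : ι → V)
    (hv : LinearIndependent K v)
    (i : ι) : ∃ φ : V →ₗ[K] K, ∀ j, φ (v j) = if j = i then 1 else 0 := by
  obtain ⟨ψ, hψ⟩ := LinearMap.exists_leftInverse_of_injective (Finsupp.linearCombination K v)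
    (LinearMap.ker_eq_bot.mpr hv)
  refine ⟨(Finsupp.lapply i).comp ψ, fun j => ?_⟩
  have h1 : ψ (v j) = Finsupp.single j 1 := by
    have := LinearMap.congr_fun hψ (Finsupp.single j 1)
    rwa [LinearMap.comp_apply, Finsupp.linearCombination_single, one_smul] at this
  rw [LinearMap.comp_apply, h1, Finsupp.lapply_apply, Finsupp.single_apply]

end linalg

section der

variable {A : Type u} [CommRing A] {K : Type v} [Field K] [Algebra A K]

/-- the functional on `K ⊗ Ω` induced by a derivation into `L` -/
noncomputable def derFunctional {L : Type w} [Field L] [Algebra K L] [Algebra A L]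
    [IsScalarTower A K L] (D : Derivation ℤ A L) : K ⊗[A] Ω[A⁄ℤ] →ₗ[K] L :=
  LinearMap.liftBaseChange K D.liftKaehlerDifferential

theorem derFunctional_apply {L : Type w} [Field L] [Algebra K L] [Algebra A L]
    [IsScalarTower A K L] (D : Derivation ℤ A L) (a : A) :
    derFunctional (K := K) D ((1 : K) ⊗ₜ[A] KaehlerDifferential.D ℤ A a) = D a := by
  rw [derFunctional, LinearMap.liftBaseChange_tmul, one_smul,
    Derivation.liftKaehlerDifferential_comp_D]

theorem exists_derivation_dual {ι : Type*} [DecidableEq ι] (f : ι → A)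
    (h : LinearIndependent K (fun i => (1 : K) ⊗ₜ[A] KaehlerDifferential.D ℤ A (f i))) (i : ι) :
    ∃ D : Derivation ℤ A K, ∀ j, D (f j) = if j = i then 1 else 0 := by
  obtain ⟨φ, hφ⟩ := exists_dual_of_linearIndependent _ h i
  let D : Derivation ℤ A K :=
    ((φ.restrictScalars A).comp (TensorProduct.mk A K Ω[A⁄ℤ] 1)).compDer
      (KaehlerDifferential.D ℤ A)
  exact ⟨D, fun j => hφ j⟩

theorem linearIndependent_of_derivation_dual {L : Type w} [Field L] [Algebra K L] [Algebra A L]
    [IsScalarTower A K L] {ι : Type*} [DecidableEq ι] (f : ι → A)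
    (D : ι → Derivation ℤ A L) (h : ∀ i j, D i (f j) = if j = i then 1 else 0) :
    LinearIndependent K (fun i => (1 : K) ⊗ₜ[A] KaehlerDifferential.D ℤ A (f i)) := by
  refine linearIndependent_of_dual _ (fun i => derFunctional (K := K) (D i)) (fun i j => ?_)
  rw [derFunctional_apply]
  exact h i j

theorem linearIndependent_of_derivation_dual_succ {L : Type w} [Field L] [Algebra K L]
    [Algebra A L] [IsScalarTower A K L] {n : ℕ} (f : Fin (n + 1) → A)
    (D₀ : Derivation ℤ A L) (h₀ : D₀ (f 0) ≠ 0)
    (D : Fin n → Derivation ℤ A L) (h1 : ∀ i, D i (f 0) = 0)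
    (h : ∀ i j, D i (f j.succ) = if j = i then 1 else 0) :
    LinearIndependent K (fun i => (1 : K) ⊗ₜ[A] KaehlerDifferential.D ℤ A (f i)) := by
  refine linearIndependent_of_dual_succ _ (derFunctional (K := K) D₀) ?_
    (fun i => derFunctional (K := K) (D i)) (fun i => ?_) (fun i j => ?_)
  · rw [derFunctional_apply]
    exact h₀
  · rw [derFunctional_apply]
    exact h1 i
  · rw [derFunctional_apply]
    exact h i j

end der

end Groth.Agent.Lib.Helper21.PthRoot
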