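import Mathlib
import Groth.Agent.Lib.Helper21.PthRootJ
import Groth.Agent.Lib.Helper21.PthRootK

set_option autoImplicit false
set_option linter.style.haveILetI false

namespace Groth.Agent.Lib.Helper21.PthRoot

open IsLocalRing Polynomial TensorProduct

universe u

section combine

variable {A : Type u} [CommRing A] [IsLocalRing A] {p : ℕ} [hp : Fact p.Prime]
  [CharP (ResidueField A) p] {c : A[X]} (hc : c.natDegree < p) {n : ℕ} (f : Fin (n + 1) → A)
  [IsLocalRing (AdjoinRoot (FF p c (f 0)))]

include hc in
theorem linearIndependent_succ_iff :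
    LinearIndependent (ResidueField A)
        (fun i => (1 : ResidueField A) ⊗ₜ[A] KaehlerDifferential.D ℤ A (f i)) ↔
      (∃ D : Derivation ℤ A (ResidueField A), D (f 0) ≠ 0) ∧
      LinearIndependent (ResidueField (AdjoinRoot (FF p c (f 0))))
        (fun i : Fin n => (1 : ResidueField (AdjoinRoot (FF p c (f 0)))) ⊗ₜ[AdjoinRoot (FF p c (f 0))]
          KaehlerDifferential.D ℤ (AdjoinRoot (FF p c (f 0)))
            (AdjoinRoot.of (FF p c (f 0)) (f i.succ))) := by
  haveI := isLocalHom_of hc (f 0)
  haveI := charP_residueField hc (f 0)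
  let K := ResidueField A
  let A₁ := AdjoinRoot (FF p c (f 0))
  let K₁ := ResidueField A₁
  let ι : K →ₗ[A] K₁ := (IsScalarTower.toAlgHom A K K₁).toLinearMap
  have hι : ∀ x : K, ι x = algebraMap K K₁ x := fun x => rfl
  constructor
  · intro h
    refine ⟨?_, ?_⟩
    · obtain ⟨D₀, hD₀⟩ := exists_derivation_dual f h 0
      refine ⟨D₀, ?_⟩
      rw [hD₀ 0, if_pos rfl]
      exact one_ne_zero
    · have hex : ∀ i : Fin n, ∃ D' : Derivation ℤ A₁ K₁,
          ∀ j : Fin n, D' (AdjoinRoot.of (FF p c (f 0)) (f j.succ)) = if j = i then 1 else 0 := by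
        intro i
        obtain ⟨D, hD⟩ := exists_derivation_dual f h i.succ
        let E : Derivation ℤ A K₁ := ι.compDer D
        have hE0 : E (f 0) = 0 := by
          show ι (D (f 0)) = 0
          rw [hD 0, if_neg (Fin.succ_ne_zero i).symm, map_zero]
        obtain ⟨D', hD'⟩ := exists_derivation_extend (c := c) (f 0) E hE0
        refine ⟨D', fun j => ?_⟩
        rw [hD']
        show ι (D (f j.succ)) = _
        rw [hD j.succ]
        by_cases hji : j = i
        · rw [if_pos hji, if_pos (by rw [hji]), hι, map_one]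
        · rw [if_neg hji, if_neg (fun h => hji (Fin.succ_injective _ h)), map_zero]
      choose D' hD' using hex
      exact linearIndependent_of_derivation_dual (K := K₁) (L := K₁) _ D' hD'
  · rintro ⟨⟨D₀, h₀⟩, hind⟩
    have hex : ∀ i : Fin n, ∃ E : Derivation ℤ A K₁, E (f 0) = 0 ∧
        ∀ j : Fin n, E (f j.succ) = if j = i then 1 else 0 := by
      intro i
      obtain ⟨D', hD'⟩ := exists_derivation_dual (K := K₁)
        (fun i : Fin n => AdjoinRoot.of (FF p c (f 0)) (f i.succ)) hind i
      refine ⟨D'.compAlgebraMap A, ?_, fun j => hD' j⟩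
      show D' (algebraMap A A₁ (f 0)) = 0
      rw [AdjoinRoot.algebraMap_eq]
      refine derivation_of_eq_zero (f 0) (fun m => ?_) D'
      rw [nsmul_eq_mul, CharP.cast_eq_zero, zero_mul]
    choose E hE0 hE using hex
    refine linearIndependent_of_derivation_dual_succ (K := K) (L := K₁) f (ι.compDer D₀) ?_ E hE0 hE
    show ι (D₀ (f 0)) ≠ 0
    rw [hι]
    exact fun h => h₀ ((map_eq_zero _).mp h)

end combine

end Groth.Agent.Lib.Helper21.PthRoot
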