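import Mathlib

set_option autoImplicit false
set_option linter.style.haveILetI false

namespace Groth.Agent.Lib.Helper21.PthRoot

open Polynomial

universe u

section defs

variable {A : Type u} [CommRing A] {r : ℕ}

/-- ideal generated by the one-variable polynomials `G i (X i)` -/
noncomputable def relIdeal (G : Fin r → A[X]) : Ideal (MvPolynomial (Fin r) A) :=
  Ideal.span (Set.range fun i => Polynomial.aeval (MvPolynomial.X i : MvPolynomial (Fin r) A) (G i))

/-- the quotient -/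
abbrev BQ (G : Fin r → A[X]) : Type u := MvPolynomial (Fin r) A ⧸ relIdeal G

theorem aeval_mem_relIdeal (G : Fin r → A[X]) (i : Fin r) :
    Polynomial.aeval (MvPolynomial.X i : MvPolynomial (Fin r) A) (G i) ∈ relIdeal G :=
  Ideal.subset_span ⟨i, rfl⟩

end defs

section iso

variable {A : Type u} [CommRing A] {r : ℕ} (G : Fin (r + 1) → A[X])

/-- the remaining polynomials over the one-step extension -/
noncomputable def G₁ : Fin r → (AdjoinRoot (G 0))[X] :=
  fun i => (G i.succ).map (AdjoinRoot.of (G 0))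

/-- forward map on polynomials -/
noncomputable def fwdPoly : MvPolynomial (Fin (r + 1)) A →+* BQ (G₁ G) :=
  MvPolynomial.eval₂Hom
    ((Ideal.Quotient.mk (relIdeal (G₁ G))).comp (MvPolynomial.C.comp (AdjoinRoot.of (G 0))))
    (Fin.cases (Ideal.Quotient.mk _ (MvPolynomial.C (AdjoinRoot.root (G 0))))
      (fun i => Ideal.Quotient.mk _ (MvPolynomial.X i)))

theorem fwdPoly_C (a : A) :
    fwdPoly G (MvPolynomial.C a) =
      Ideal.Quotient.mk _ (MvPolynomial.C (AdjoinRoot.of (G 0) a)) := by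
  rw [fwdPoly, MvPolynomial.eval₂Hom_C]
  rfl

theorem fwdPoly_X_zero :
    fwdPoly G (MvPolynomial.X 0) =
      Ideal.Quotient.mk _ (MvPolynomial.C (AdjoinRoot.root (G 0))) := by
  rw [fwdPoly, MvPolynomial.eval₂Hom_X']
  rfl

theorem fwdPoly_X_succ (i : Fin r) :
    fwdPoly G (MvPolynomial.X i.succ) = Ideal.Quotient.mk _ (MvPolynomial.X i) := by
  rw [fwdPoly, MvPolynomial.eval₂Hom_X']
  rfl

theorem fwdPoly_mem (x : MvPolynomial (Fin (r + 1)) A) (hx : x ∈ relIdeal G) :
    fwdPoly G x = 0 := by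
  have hle : relIdeal G ≤ RingHom.ker (fwdPoly G) := by
    rw [relIdeal, Ideal.span_le]
    rintro _ ⟨i, rfl⟩
    rw [SetLike.mem_coe, RingHom.mem_ker]
    show fwdPoly G (Polynomial.aeval (MvPolynomial.X i) (G i)) = 0
    rw [Polynomial.aeval_def, Polynomial.hom_eval₂]
    have hcomp : (fwdPoly G).comp (algebraMap A (MvPolynomial (Fin (r + 1)) A)) =
        (Ideal.Quotient.mk (relIdeal (G₁ G))).comp
          (MvPolynomial.C.comp (AdjoinRoot.of (G 0))) := by
      ext a
      exact fwdPoly_C G a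
    rw [hcomp]
    refine Fin.cases ?_ (fun j => ?_) i
    · rw [fwdPoly_X_zero]
      have h1 : eval₂ ((Ideal.Quotient.mk (relIdeal (G₁ G))).comp
          (MvPolynomial.C.comp (AdjoinRoot.of (G 0))))
          (Ideal.Quotient.mk (relIdeal (G₁ G)) (MvPolynomial.C (AdjoinRoot.root (G 0)))) (G 0) =
          ((Ideal.Quotient.mk (relIdeal (G₁ G))).comp MvPolynomial.C)
            (eval₂ (AdjoinRoot.of (G 0)) (AdjoinRoot.root (G 0)) (G 0)) := by
        rw [Polynomial.hom_eval₂]
        rfl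
      rw [h1, AdjoinRoot.eval₂_root, map_zero]
    · rw [fwdPoly_X_succ]
      have h1 : eval₂ ((Ideal.Quotient.mk (relIdeal (G₁ G))).comp
          (MvPolynomial.C.comp (AdjoinRoot.of (G 0))))
          (Ideal.Quotient.mk (relIdeal (G₁ G)) (MvPolynomial.X j)) (G j.succ) =
          (Ideal.Quotient.mk (relIdeal (G₁ G)))
            (eval₂ (MvPolynomial.C.comp (AdjoinRoot.of (G 0))) (MvPolynomial.X j) (G j.succ)) := by
        rw [Polynomial.hom_eval₂]
      rw [h1, ← Polynomial.eval₂_map, Ideal.Quotient.eq_zero_iff_mem]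
      exact aeval_mem_relIdeal (G₁ G) j
  exact hle hx

/-- forward map -/
noncomputable def fwd : BQ G →+* BQ (G₁ G) :=
  Ideal.Quotient.lift (relIdeal G) (fwdPoly G) (fwdPoly_mem G)

/-- backward map on coefficients -/
noncomputable def bwdCoef : AdjoinRoot (G 0) →+* BQ G :=
  AdjoinRoot.lift ((Ideal.Quotient.mk (relIdeal G)).comp MvPolynomial.C)
    (Ideal.Quotient.mk _ (MvPolynomial.X 0)) (by
      rw [← Polynomial.hom_eval₂, Ideal.Quotient.eq_zero_iff_mem]
      exact aeval_mem_relIdeal G 0)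

theorem bwdCoef_of (a : A) :
    bwdCoef G (AdjoinRoot.of (G 0) a) = Ideal.Quotient.mk _ (MvPolynomial.C a) := by
  rw [bwdCoef, AdjoinRoot.lift_of]
  rfl

theorem bwdCoef_root :
    bwdCoef G (AdjoinRoot.root (G 0)) = Ideal.Quotient.mk _ (MvPolynomial.X 0) := by
  rw [bwdCoef, AdjoinRoot.lift_root]

/-- backward map on polynomials -/
noncomputable def bwdPoly : MvPolynomial (Fin r) (AdjoinRoot (G 0)) →+* BQ G :=
  MvPolynomial.eval₂Hom (bwdCoef G) (fun i => Ideal.Quotient.mk _ (MvPolynomial.X i.succ))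

theorem bwdPoly_C (b : AdjoinRoot (G 0)) : bwdPoly G (MvPolynomial.C b) = bwdCoef G b := by
  rw [bwdPoly, MvPolynomial.eval₂Hom_C]

theorem bwdPoly_X (i : Fin r) :
    bwdPoly G (MvPolynomial.X i) = Ideal.Quotient.mk _ (MvPolynomial.X i.succ) := by
  rw [bwdPoly, MvPolynomial.eval₂Hom_X']

theorem bwdPoly_mem (x : MvPolynomial (Fin r) (AdjoinRoot (G 0))) (hx : x ∈ relIdeal (G₁ G)) :
    bwdPoly G x = 0 := by
  have hle : relIdeal (G₁ G) ≤ RingHom.ker (bwdPoly G) := by
    rw [relIdeal, Ideal.span_le]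
    rintro _ ⟨i, rfl⟩
    rw [SetLike.mem_coe, RingHom.mem_ker]
    show bwdPoly G (Polynomial.aeval (MvPolynomial.X i) (G₁ G i)) = 0
    rw [Polynomial.aeval_def, Polynomial.hom_eval₂]
    have hcomp : (bwdPoly G).comp
        (algebraMap (AdjoinRoot (G 0)) (MvPolynomial (Fin r) (AdjoinRoot (G 0)))) = bwdCoef G := by
      ext a
      · show bwdPoly G (MvPolynomial.C (AdjoinRoot.of (G 0) a)) = _
        rw [bwdPoly_C]
        rfl
      · show bwdPoly G (MvPolynomial.C (AdjoinRoot.root (G 0))) = _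
        rw [bwdPoly_C]
    rw [hcomp, bwdPoly_X, G₁, Polynomial.eval₂_map]
    have hcomp2 : (bwdCoef G).comp (AdjoinRoot.of (G 0)) =
        (Ideal.Quotient.mk (relIdeal G)).comp MvPolynomial.C := by
      ext a
      exact bwdCoef_of G a
    rw [hcomp2, ← Polynomial.hom_eval₂, Ideal.Quotient.eq_zero_iff_mem]
    exact aeval_mem_relIdeal G i.succ
  exact hle hx

/-- backward map -/
noncomputable def bwd : BQ (G₁ G) →+* BQ G :=
  Ideal.Quotient.lift (relIdeal (G₁ G)) (bwdPoly G) (bwdPoly_mem G)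

theorem bwd_comp_fwd : (bwd G).comp (fwd G) = RingHom.id _ := by
  apply Ideal.Quotient.ringHom_ext
  apply MvPolynomial.ringHom_ext
  · intro a
    show bwd G (fwd G (Ideal.Quotient.mk _ (MvPolynomial.C a))) = Ideal.Quotient.mk _ (MvPolynomial.C a)
    rw [fwd, Ideal.Quotient.lift_mk, fwdPoly_C, bwd, Ideal.Quotient.lift_mk, bwdPoly_C, bwdCoef_of]
  · intro i
    show bwd G (fwd G (Ideal.Quotient.mk _ (MvPolynomial.X i))) = Ideal.Quotient.mk _ (MvPolynomial.X i)
    rw [fwd, Ideal.Quotient.lift_mk]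
    refine Fin.cases ?_ (fun j => ?_) i
    · rw [fwdPoly_X_zero, bwd, Ideal.Quotient.lift_mk, bwdPoly_C, bwdCoef_root]
    · rw [fwdPoly_X_succ, bwd, Ideal.Quotient.lift_mk, bwdPoly_X]

theorem fwd_comp_bwd : (fwd G).comp (bwd G) = RingHom.id _ := by
  apply Ideal.Quotient.ringHom_ext
  apply MvPolynomial.ringHom_ext
  · have h : (((fwd G).comp (bwd G)).comp (Ideal.Quotient.mk (relIdeal (G₁ G)))).comp MvPolynomial.C =
        ((RingHom.id _).comp (Ideal.Quotient.mk (relIdeal (G₁ G)))).comp MvPolynomial.C := by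
      apply AdjoinRoot.ringHom_ext
      · ext a
        show fwd G (bwd G (Ideal.Quotient.mk _ (MvPolynomial.C (AdjoinRoot.of (G 0) a)))) =
          Ideal.Quotient.mk _ (MvPolynomial.C (AdjoinRoot.of (G 0) a))
        rw [bwd, Ideal.Quotient.lift_mk, bwdPoly_C, bwdCoef_of, fwd, Ideal.Quotient.lift_mk,
          fwdPoly_C]
      · show fwd G (bwd G (Ideal.Quotient.mk _ (MvPolynomial.C (AdjoinRoot.root (G 0))))) =
          Ideal.Quotient.mk _ (MvPolynomial.C (AdjoinRoot.root (G 0)))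
        rw [bwd, Ideal.Quotient.lift_mk, bwdPoly_C, bwdCoef_root, fwd, Ideal.Quotient.lift_mk,
          fwdPoly_X_zero]
    intro b
    exact RingHom.congr_fun h b
  · intro i
    show fwd G (bwd G (Ideal.Quotient.mk _ (MvPolynomial.X i))) = Ideal.Quotient.mk _ (MvPolynomial.X i)
    rw [bwd, Ideal.Quotient.lift_mk, bwdPoly_X, fwd, Ideal.Quotient.lift_mk, fwdPoly_X_succ]

/-- the ring isomorphism -/
noncomputable def isoRing : BQ G ≃+* BQ (G₁ G) :=
  RingEquiv.ofRingHom (fwd G) (bwd G) (fwd_comp_bwd G) (bwd_comp_fwd G)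

theorem isoRing_algebraMap (a : A) :
    isoRing G (algebraMap A (BQ G) a) = algebraMap A (BQ (G₁ G)) a := by
  show fwd G (Ideal.Quotient.mk _ (MvPolynomial.C a)) = _
  rw [fwd, Ideal.Quotient.lift_mk, fwdPoly_C]
  rfl

/-- the algebra isomorphism -/
noncomputable def isoAlg : BQ G ≃ₐ[A] BQ (G₁ G) :=
  AlgEquiv.ofRingEquiv (f := isoRing G) (isoRing_algebraMap G)

end iso

end Groth.Agent.Lib.Helper21.PthRoot
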