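import Mathlib
import Groth.Agent.Lib.Helper21.PthRootL
import Groth.Agent.Lib.Helper21.PthRootM

set_option autoImplicit false
set_option linter.style.haveILetI false

namespace Groth.Agent.Lib.Helper21.PthRoot

open IsLocalRing Polynomial TensorProduct

universe u

section basics

variable {A : Type u} [CommRing A] {B : Type u} [CommRing B] (p : ℕ)

theorem FF_map (φ : A →+* B) (c : A[X]) (f : A) :
    (FF p c f).map φ = FF p (c.map φ) (φ f) := by
  rw [FF, FF, Polynomial.map_sub, Polynomial.map_add, Polynomial.map_mul, Polynomial.map_pow,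
    Polynomial.map_X, Polynomial.map_natCast, Polynomial.map_C]

theorem relIdeal_zero (G : Fin 0 → A[X]) : relIdeal G = ⊥ := by
  rw [relIdeal, Set.range_eq_empty, Ideal.span_empty]

/-- base case -/
noncomputable def isoZero (G : Fin 0 → A[X]) : BQ G ≃ₐ[A] A :=
  ((Ideal.quotientEquivAlgOfEq A (relIdeal_zero G)).trans
    (AlgEquiv.quotientBot A (MvPolynomial (Fin 0) A))).trans
    (MvPolynomial.isEmptyAlgEquiv A (Fin 0))

end basics

section localness

variable (p : ℕ) [hp : Fact p.Prime]

theorem local_aux (r : ℕ) : ∀ (A : Type u) [CommRing A] [IsLocalRing A] [CharP (ResidueField A) p]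
    (c : Fin r → A[X]) (_ : ∀ i, (c i).natDegree < p) (f : Fin r → A),
    IsLocalRing (BQ fun i => FF p (c i) (f i)) ∧ Module.Free A (BQ fun i => FF p (c i) (f i)) ∧
      Module.Finite A (BQ fun i => FF p (c i) (f i)) := by
  induction r with
  | zero =>
    intro A _ _ _ c hc f
    let e := isoZero (fun i => FF p (c i) (f i))
    exact ⟨e.symm.toRingEquiv.isLocalRing, Module.Free.of_equiv e.symm.toLinearEquiv,
      Module.Finite.equiv e.symm.toLinearEquiv⟩
  | succ r ih =>
    intro A _ _ _ c hc f
    let G : Fin (r + 1) → A[X] := fun i => FF p (c i) (f i)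
    haveI hloc : IsLocalRing (AdjoinRoot (G 0)) := isLocalRing_adjoinRoot (hc 0) (f 0)
    haveI hchar : CharP (ResidueField (AdjoinRoot (G 0))) p := charP_residueField (hc 0) (f 0)
    haveI hfree : Module.Free A (AdjoinRoot (G 0)) := free_adjoinRoot (hc 0) (f 0)
    haveI hfin : Module.Finite A (AdjoinRoot (G 0)) := finite_adjoinRoot (hc 0) (f 0)
    have hG₁ : G₁ G = fun i => FF p ((c i.succ).map (AdjoinRoot.of (G 0)))
        (AdjoinRoot.of (G 0) (f i.succ)) := by
      funext i
      exact FF_map p _ _ _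
    obtain ⟨h1, h2, h3⟩ := ih (AdjoinRoot (G 0)) (fun i => (c i.succ).map (AdjoinRoot.of (G 0)))
      (fun i => lt_of_le_of_lt (natDegree_map_le) (hc i.succ))
      (fun i => AdjoinRoot.of (G 0) (f i.succ))
    rw [← hG₁] at h1 h2 h3
    haveI := h2
    haveI := h3
    let e := isoAlg G
    haveI : Module.Free A (BQ (G₁ G)) := Module.Free.trans (S := AdjoinRoot (G 0))
    haveI : Module.Finite A (BQ (G₁ G)) := Module.Finite.trans (AdjoinRoot (G 0)) _
    exact ⟨e.symm.toRingEquiv.isLocalRing, Module.Free.of_equiv e.symm.toLinearEquiv,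
      Module.Finite.equiv e.symm.toLinearEquiv⟩

end localness

end Groth.Agent.Lib.Helper21.PthRoot
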