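import Mathlib
import Groth.Agent.Lib.Helper21.PthRootN
import Groth.Agent.Lib.Helper26.RegularRing

set_option autoImplicit false
set_option linter.style.haveILetI false

namespace Groth.Agent.Lib.Helper21.PthRoot

open IsLocalRing Polynomial TensorProduct

universe u

section regularity

variable (p : ℕ) [hp : Fact p.Prime]

theorem regular_aux (r : ℕ) : ∀ (A : Type u) [CommRing A] [IsRegularLocalRing A]
    [CharP (ResidueField A) p] (_ : (p : A) ∈ maximalIdeal A ^ 2)
    (c : Fin r → A[X]) (_ : ∀ i, (c i).natDegree < p) (f : Fin r → A)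
    [IsLocalRing (BQ fun i => FF p (c i) (f i))],
    IsRegularLocalRing (BQ fun i => FF p (c i) (f i)) ↔
      LinearIndependent (ResidueField A)
        (fun i => (1 : ResidueField A) ⊗ₜ[A] KaehlerDifferential.D ℤ A (f i)) := by
  induction r with
  | zero =>
    intro A _ _ _ hp2 c hc f _
    let e := isoZero (fun i => FF p (c i) (f i))
    have h1 : IsRegularLocalRing (BQ fun i => FF p (c i) (f i)) :=
      IsRegularLocalRing.of_ringEquiv e.symm.toRingEquiv
    exact ⟨fun _ => linearIndependent_empty_type, fun _ => h1⟩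
  | succ r ih =>
    intro A _ _ _ hp2 c hc f _
    let G : Fin (r + 1) → A[X] := fun i => FF p (c i) (f i)
    haveI hloc : IsLocalRing (AdjoinRoot (G 0)) := isLocalRing_adjoinRoot (hc 0) (f 0)
    haveI hchar : CharP (ResidueField (AdjoinRoot (G 0))) p := charP_residueField (hc 0) (f 0)
    haveI hfree : Module.Free A (AdjoinRoot (G 0)) := free_adjoinRoot (hc 0) (f 0)
    haveI hfin : Module.Finite A (AdjoinRoot (G 0)) := finite_adjoinRoot (hc 0) (f 0)
    have hp2' : (p : AdjoinRoot (G 0)) ∈ maximalIdeal (AdjoinRoot (G 0)) ^ 2 :=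
      natCast_mem_sq (hc 0) (f 0) hp2
    have hG₁ : G₁ G = fun i => FF p ((c i.succ).map (AdjoinRoot.of (G 0)))
        (AdjoinRoot.of (G 0) (f i.succ)) := by
      funext i
      exact FF_map p _ _ _
    have hc' : ∀ i : Fin r, ((c i.succ).map (AdjoinRoot.of (G 0))).natDegree < p :=
      fun i => lt_of_le_of_lt (natDegree_map_le) (hc i.succ)
    obtain ⟨l1, l2, l3⟩ := local_aux p r (AdjoinRoot (G 0))
      (fun i => (c i.succ).map (AdjoinRoot.of (G 0))) hc'
      (fun i => AdjoinRoot.of (G 0) (f i.succ))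
    have l1' := l1
    rw [← hG₁] at l1 l2 l3
    haveI := l1
    haveI := l2
    haveI := l3
    haveI := l1'
    rw [linearIndependent_succ_iff (hc 0) f,
      ← regular_iff_exists_derivation (hc 0) (f 0) hp2]
    have htrans : IsRegularLocalRing (BQ G) ↔ IsRegularLocalRing (BQ (G₁ G)) :=
      ⟨fun h => IsRegularLocalRing.of_ringEquiv (isoAlg G).toRingEquiv,
        fun h => IsRegularLocalRing.of_ringEquiv (isoAlg G).symm.toRingEquiv⟩
    show IsRegularLocalRing (BQ G) ↔ _
    rw [htrans]
    constructor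
    · intro hB
      haveI := hB
      haveI : IsNoetherianRing (AdjoinRoot (G 0)) := Algebra.FiniteType.isNoetherianRing A _
      haveI : Algebra.IsIntegral (AdjoinRoot (G 0)) (BQ (G₁ G)) := Algebra.IsIntegral.of_finite _ _
      haveI : IsLocalHom (algebraMap (AdjoinRoot (G 0)) (BQ (G₁ G))) :=
        Algebra.IsIntegral.isLocalHom _ _
      have hA₁ : IsRegularLocalRing (AdjoinRoot (G 0)) :=
        Groth.Agent.Lib.Helper26.RegularRing.isRegularLocalRing_of_flat (AdjoinRoot (G 0))
          (BQ (G₁ G))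
      refine ⟨hA₁, ?_⟩
      haveI := hA₁
      refine (ih (AdjoinRoot (G 0)) hp2' (fun i => (c i.succ).map (AdjoinRoot.of (G 0))) hc'
        (fun i => AdjoinRoot.of (G 0) (f i.succ))).mp ?_
      rw [← hG₁]
      exact hB
    · rintro ⟨hA₁, hind⟩
      haveI := hA₁
      have h := (ih (AdjoinRoot (G 0)) hp2' (fun i => (c i.succ).map (AdjoinRoot.of (G 0))) hc'
        (fun i => AdjoinRoot.of (G 0) (f i.succ))).mpr hind
      rw [← hG₁] at h
      exact h

end regularity

section final

variable {A : Type u} [CommRing A] (p : ℕ) {r : ℕ}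

/-- the one-variable polynomial of lower terms -/
noncomputable def cpoly (c : Fin p → A) : A[X] :=
  Finset.univ.sum fun j : Fin p =>
    if (j : ℕ) = 0 then 0 else Polynomial.C (c j) * Polynomial.X ^ (p - (j : ℕ))

theorem natDegree_cpoly (hp : 0 < p) (c : Fin p → A) : (cpoly p c).natDegree < p := by
  have h : (cpoly p c).natDegree ≤ p - 1 := by
    refine Polynomial.natDegree_sum_le_of_forall_le _ _ (fun j _ => ?_)
    by_cases hj : (j : ℕ) = 0
    · rw [if_pos hj, natDegree_zero]
      exact Nat.zero_le _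
    · rw [if_neg hj]
      refine le_trans (natDegree_C_mul_X_pow_le _ _) ?_
      omega
  omega

theorem aeval_cpoly (c : Fin p → A) (i : Fin r) :
    Polynomial.aeval (MvPolynomial.X i : MvPolynomial (Fin r) A) (cpoly p c) =
      Finset.univ.sum fun j : Fin p =>
        if (j : ℕ) = 0 then 0 else MvPolynomial.C (c j) * MvPolynomial.X i ^ (p - (j : ℕ)) := by
  rw [cpoly, map_sum]
  refine Finset.sum_congr rfl (fun j _ => ?_)
  by_cases hj : (j : ℕ) = 0
  · rw [if_pos hj, if_pos hj, map_zero]
  · rw [if_neg hj, if_neg hj, map_mul, map_pow, Polynomial.aeval_C, Polynomial.aeval_X,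
      MvPolynomial.algebraMap_eq]

theorem aeval_FF (c : Fin p → A) (f : A) (i : Fin r) :
    Polynomial.aeval (MvPolynomial.X i : MvPolynomial (Fin r) A) (FF p (cpoly p c) f) =
      MvPolynomial.X i ^ p + (p : MvPolynomial (Fin r) A) * (Finset.univ.sum fun j : Fin p =>
        if (j : ℕ) = 0 then 0 else MvPolynomial.C (c j) * MvPolynomial.X i ^ (p - (j : ℕ))) -
        MvPolynomial.C f := by
  rw [FF, map_sub, map_add, map_mul, map_pow, Polynomial.aeval_X, map_natCast, aeval_cpoly,
    Polynomial.aeval_C, MvPolynomial.algebraMap_eq]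

end final

open IsLocalRing TensorProduct in
theorem S2473_aux {A : Type u} [CommRing A] [IsRegularLocalRing A] (p : ℕ) [Fact p.Prime] [CharP (ResidueField A) p]
    {r : ℕ} (c : Fin r → Fin p → A) (f : Fin r → A)
    (hp : (p : A) ∈ maximalIdeal A ^ 2) :
    let F : Fin r → MvPolynomial (Fin r) A := fun i =>
      MvPolynomial.X i ^ p + (p : MvPolynomial (Fin r) A) * (Finset.univ.sum fun j : Fin p =>
        if (j : ℕ) = 0 then 0 else MvPolynomial.C (c i j) * MvPolynomial.X i ^ (p - (j : ℕ))) - MvPolynomial.C (f i)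
    IsLocalRing (MvPolynomial (Fin r) A ⧸ Ideal.span (Set.range F)) ∧
      (IsRegularRing (MvPolynomial (Fin r) A ⧸ Ideal.span (Set.range F)) ↔
        LinearIndependent (ResidueField A) (fun i => (1 : ResidueField A) ⊗ₜ[A] KaehlerDifferential.D ℤ A (f i))) := by
  intro F
  have hF : Ideal.span (Set.range F) = relIdeal (fun i => FF p (cpoly p (c i)) (f i)) := by
    rw [relIdeal]
    congr 2
    funext i
    exact (aeval_FF p (c i) (f i) i).symm
  rw [hF]
  have hc : ∀ i, (cpoly p (c i)).natDegree < p :=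
    fun i => natDegree_cpoly p (Fact.out : p.Prime).pos (c i)
  obtain ⟨l1, l2, l3⟩ := local_aux p r A (fun i => cpoly p (c i)) hc f
  refine ⟨l1, ?_⟩
  haveI := l1
  rw [← regular_aux p r A hp (fun i => cpoly p (c i)) hc f]
  constructor
  · intro h
    haveI := h
    exact IsRegularLocalRing.of_isRegularRing_of_isLocalRing _
  · intro h
    haveI := h
    exact Groth.Agent.Lib.Helper26.RegularRing.isRegularRing_of_isRegularLocalRing _


end Groth.Agent.Lib.Helper21.PthRoot
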