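import Mathlib
import Groth.Agent.Lib.Helper21.PthRootM

set_option autoImplicit false
set_option linter.style.haveILetI false

namespace Groth.Agent.Lib.Helper21.PthRoot

open Polynomial TensorProduct

universe u

section tensorIso

variable {R : Type u} [CommRing R] {S : Type u} [CommRing S] [Algebra R S] {r : ℕ}
  (G : Fin r → R[X])

/-- base-changed polynomials -/
noncomputable def GS : Fin r → S[X] := fun i => (G i).map (algebraMap R S)

/-- forward map on polynomials -/
noncomputable def tFwdPoly : MvPolynomial (Fin r) R →ₐ[R] BQ (GS (S := S) G) :=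
  MvPolynomial.aeval (fun i => Ideal.Quotient.mk _ (MvPolynomial.X i))

theorem tFwdPoly_X (i : Fin r) :
    tFwdPoly (S := S) G (MvPolynomial.X i) = Ideal.Quotient.mk _ (MvPolynomial.X i) := by
  rw [tFwdPoly, MvPolynomial.aeval_X]

theorem tFwdPoly_mem (x : MvPolynomial (Fin r) R) (hx : x ∈ relIdeal G) :
    tFwdPoly (S := S) G x = 0 := by
  have hle : relIdeal G ≤ RingHom.ker (tFwdPoly (S := S) G) := by
    rw [relIdeal, Ideal.span_le]
    rintro _ ⟨i, rfl⟩
    rw [SetLike.mem_coe, RingHom.mem_ker]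
    show tFwdPoly (S := S) G (Polynomial.aeval (MvPolynomial.X i) (G i)) = 0
    rw [← Polynomial.aeval_algHom_apply, tFwdPoly_X]
    have h1 : Polynomial.aeval ((Ideal.Quotient.mk (relIdeal (GS (S := S) G)))
        (MvPolynomial.X i)) (G i) =
        Ideal.Quotient.mk (relIdeal (GS (S := S) G))
          (Polynomial.aeval (MvPolynomial.X i : MvPolynomial (Fin r) S) (G i)) := by
      exact Polynomial.aeval_algHom_apply (Ideal.Quotient.mkₐ R (relIdeal (GS (S := S) G)))
        (MvPolynomial.X i) (G i)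
    rw [h1, Ideal.Quotient.eq_zero_iff_mem, ← Polynomial.aeval_map_algebraMap S]
    exact aeval_mem_relIdeal (GS (S := S) G) i
  exact hle hx

/-- forward map on the quotient -/
noncomputable def tFwdQ : BQ G →ₐ[R] BQ (GS (S := S) G) :=
  Ideal.Quotient.liftₐ (relIdeal G) (tFwdPoly G) (tFwdPoly_mem G)

theorem tFwdQ_X (i : Fin r) :
    tFwdQ (S := S) G (Ideal.Quotient.mk _ (MvPolynomial.X i)) =
      Ideal.Quotient.mk _ (MvPolynomial.X i) := by
  show tFwdPoly (S := S) G (MvPolynomial.X i) = _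
  exact tFwdPoly_X G i

/-- forward map -/
noncomputable def tFwd : S ⊗[R] BQ G →ₐ[S] BQ (GS (S := S) G) :=
  Algebra.TensorProduct.lift (Algebra.ofId S (BQ (GS (S := S) G))) (tFwdQ G)
    (fun _ _ => Commute.all _ _)

/-- backward map on polynomials -/
noncomputable def tBwdPoly : MvPolynomial (Fin r) S →ₐ[S] S ⊗[R] BQ G :=
  MvPolynomial.aeval
    (fun i => (1 : S) ⊗ₜ[R] (Ideal.Quotient.mk (relIdeal G) (MvPolynomial.X i)))

theorem tBwdPoly_X (i : Fin r) :
    tBwdPoly (S := S) G (MvPolynomial.X i) =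
      (1 : S) ⊗ₜ[R] (Ideal.Quotient.mk (relIdeal G) (MvPolynomial.X i)) := by
  rw [tBwdPoly, MvPolynomial.aeval_X]

theorem tBwdPoly_mem (x : MvPolynomial (Fin r) S) (hx : x ∈ relIdeal (GS (S := S) G)) :
    tBwdPoly G x = 0 := by
  have hle : relIdeal (GS (S := S) G) ≤ RingHom.ker (tBwdPoly (S := S) G) := by
    rw [relIdeal, Ideal.span_le]
    rintro _ ⟨i, rfl⟩
    rw [SetLike.mem_coe, RingHom.mem_ker]
    show tBwdPoly G (Polynomial.aeval (MvPolynomial.X i) (GS (S := S) G i)) = 0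
    rw [← Polynomial.aeval_algHom_apply, tBwdPoly_X, GS, Polynomial.aeval_map_algebraMap]
    have h2 : (1 : S) ⊗ₜ[R] (Ideal.Quotient.mk (relIdeal G) (MvPolynomial.X i)) =
        (Algebra.TensorProduct.includeRight : BQ G →ₐ[R] S ⊗[R] BQ G)
          (Ideal.Quotient.mk (relIdeal G) (MvPolynomial.X i)) := rfl
    rw [h2, Polynomial.aeval_algHom_apply]
    have h1 : Polynomial.aeval ((Ideal.Quotient.mk (relIdeal G)) (MvPolynomial.X i)) (G i) =
        Ideal.Quotient.mk (relIdeal G)
          (Polynomial.aeval (MvPolynomial.X i : MvPolynomial (Fin r) R) (G i)) := by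
      exact Polynomial.aeval_algHom_apply (Ideal.Quotient.mkₐ R (relIdeal G))
        (MvPolynomial.X i) (G i)
    rw [h1]
    have h3 : (Ideal.Quotient.mk (relIdeal G))
        (Polynomial.aeval (MvPolynomial.X i : MvPolynomial (Fin r) R) (G i)) = 0 := by
      rw [Ideal.Quotient.eq_zero_iff_mem]
      exact aeval_mem_relIdeal G i
    rw [h3, map_zero]
  exact hle hx

/-- backward map -/
noncomputable def tBwd : BQ (GS (S := S) G) →ₐ[S] S ⊗[R] BQ G :=
  Ideal.Quotient.liftₐ (relIdeal (GS (S := S) G)) (tBwdPoly G) (tBwdPoly_mem G)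

theorem tBwd_X (i : Fin r) :
    tBwd (S := S) G (Ideal.Quotient.mk _ (MvPolynomial.X i)) =
      (1 : S) ⊗ₜ[R] (Ideal.Quotient.mk (relIdeal G) (MvPolynomial.X i)) := by
  show tBwdPoly (S := S) G (MvPolynomial.X i) = _
  exact tBwdPoly_X G i

theorem tFwd_comp_tBwd : (tFwd (S := S) G).comp (tBwd G) = AlgHom.id S _ := by
  apply Ideal.Quotient.algHom_ext
  apply MvPolynomial.algHom_ext
  intro i
  show tFwd (S := S) G (tBwd G (Ideal.Quotient.mk _ (MvPolynomial.X i))) =
    Ideal.Quotient.mk _ (MvPolynomial.X i)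
  rw [tBwd_X, tFwd, Algebra.TensorProduct.lift_tmul, map_one, one_mul, tFwdQ_X]

theorem tBwd_comp_tFwd : (tBwd (S := S) G).comp (tFwd G) = AlgHom.id S _ := by
  apply Algebra.TensorProduct.ext
  · ext
  · apply Ideal.Quotient.algHom_ext
    apply MvPolynomial.algHom_ext
    intro i
    show tBwd (S := S) G (tFwd G ((1 : S) ⊗ₜ[R] Ideal.Quotient.mk _ (MvPolynomial.X i))) =
      (1 : S) ⊗ₜ[R] Ideal.Quotient.mk _ (MvPolynomial.X i)
    rw [tFwd, Algebra.TensorProduct.lift_tmul, map_one, one_mul, tFwdQ_X, tBwd_X]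

/-- the base change isomorphism -/
noncomputable def tensorIso : S ⊗[R] BQ G ≃ₐ[S] BQ (GS (S := S) G) :=
  AlgEquiv.ofAlgHom (tFwd G) (tBwd G) (tFwd_comp_tBwd G) (tBwd_comp_tFwd G)

end tensorIso

end Groth.Agent.Lib.Helper21.PthRoot
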