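import Mathlib
import Groth.Agent.Lib.Helper21.PthRootO
import Groth.Agent.Lib.Helper21.PthRootP

set_option autoImplicit false
set_option linter.style.haveILetI false

namespace Groth.Agent.Lib.Helper21.PthRoot

open IsLocalRing Polynomial TensorProduct

universe u

section fieldcase

variable {k : Type u} [Field k] (p : ℕ) [hp : Fact p.Prime] [CharP k p] {r : ℕ} (x : Fin r → k)

/-- the purely inseparable polynomials -/
noncomputable abbrev GX {R : Type u} [CommRing R] (p : ℕ) {r : ℕ} (x : Fin r → R) : Fin r → R[X] :=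
  fun i => FF p 0 (x i)

theorem GX_natDegree {R : Type u} [CommRing R] (i : Fin r) :
    ((fun _ => (0 : R[X])) i).natDegree < p := by
  show (0 : R[X]).natDegree < p
  rw [natDegree_zero]
  exact hp.out.pos

omit hp in
theorem mk_X_pow {R : Type u} [CommRing R] (x : Fin r → R) (i : Fin r) :
    (Ideal.Quotient.mk (relIdeal (GX p x)) (MvPolynomial.X i)) ^ p =
      Ideal.Quotient.mk (relIdeal (GX p x)) (MvPolynomial.C (x i)) := by
  rw [← map_pow, Ideal.Quotient.eq]
  have h := aeval_mem_relIdeal (GX p x) i
  have h2 : Polynomial.aeval (MvPolynomial.X i : MvPolynomial (Fin r) R) (GX p x i) =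
      MvPolynomial.X i ^ p - MvPolynomial.C (x i) := by
    rw [GX, FF, map_sub, map_add, map_mul, map_pow, Polynomial.aeval_X, map_zero, mul_zero,
      add_zero, Polynomial.aeval_C, MvPolynomial.algebraMap_eq]
  rw [h2] at h
  exact h

instance charP_residueField_field : CharP (ResidueField k) p :=
  charP_of_injective_algebraMap (algebraMap k (ResidueField k)).injective p

theorem isLocalRing_BQ_field : IsLocalRing (BQ (GX p x)) :=
  (local_aux p r k (fun _ => 0) (GX_natDegree p) x).1

theorem finite_BQ_field : Module.Finite k (BQ (GX p x)) :=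
  (local_aux p r k (fun _ => 0) (GX_natDegree p) x).2.2

theorem pow_mem_range (y : BQ (GX p x)) : y ^ p ∈ Set.range (algebraMap k (BQ (GX p x))) := by
  haveI := isLocalRing_BQ_field p x
  haveI : CharP (BQ (GX p x)) p :=
    charP_of_injective_algebraMap (algebraMap k (BQ (GX p x))).injective p
  obtain ⟨q, rfl⟩ := Ideal.Quotient.mk_surjective y
  induction q using MvPolynomial.induction_on with
  | C a =>
    refine ⟨a ^ p, ?_⟩
    rw [map_pow]
    rfl
  | add q₁ q₂ h₁ h₂ =>
    rw [map_add, add_pow_char]
    obtain ⟨a₁, ha₁⟩ := h₁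
    obtain ⟨a₂, ha₂⟩ := h₂
    exact ⟨a₁ + a₂, by rw [map_add, ha₁, ha₂]⟩
  | mul_X q i h =>
    rw [map_mul, mul_pow, mk_X_pow]
    obtain ⟨a, ha⟩ := h
    refine ⟨a * x i, ?_⟩
    rw [map_mul, ha]
    rfl

theorem isRegularLocalRing_BQ_field (hx : LinearIndependent k (fun i => KaehlerDifferential.D ℤ k (x i))) :
    IsRegularLocalRing (BQ (GX p x)) := by
  classical
  haveI := isLocalRing_BQ_field p x
  have hp2 : (p : k) ∈ maximalIdeal k ^ 2 := by
    rw [CharP.cast_eq_zero]
    exact zero_mem _
  refine (regular_aux p r k hp2 (fun _ => 0) (GX_natDegree p) x).mpr ?_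
  have hex : ∀ i : Fin r, ∃ D : Derivation ℤ k (ResidueField k),
      ∀ j, D (x j) = if j = i then 1 else 0 := by
    intro i
    obtain ⟨φ, hφ⟩ := exists_dual_of_linearIndependent _ hx i
    let D : Derivation ℤ k (ResidueField k) :=
      ((Algebra.linearMap k (ResidueField k)).comp φ).compDer (KaehlerDifferential.D ℤ k)
    refine ⟨D, fun j => ?_⟩
    show algebraMap k (ResidueField k) (φ (KaehlerDifferential.D ℤ k (x j))) = _
    rw [hφ j]
    by_cases hji : j = i
    · rw [if_pos hji, if_pos hji, map_one]
    · rw [if_neg hji, if_neg hji, map_zero]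
  choose D hD using hex
  exact linearIndependent_of_derivation_dual (K := ResidueField k) (L := ResidueField k) x D hD

theorem isField_BQ_field (hx : LinearIndependent k (fun i => KaehlerDifferential.D ℤ k (x i))) :
    IsField (BQ (GX p x)) := by
  haveI := isRegularLocalRing_BQ_field p x hx
  haveI := finite_BQ_field p x
  haveI : IsArtinianRing (BQ (GX p x)) := IsArtinianRing.of_finite k _
  have h1 := IsRegularLocalRing.spanFinrank_maximalIdeal (R := BQ (GX p x))
  have h0 : ringKrullDim (BQ (GX p x)) = 0 :=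
    ringKrullDimZero_iff_ringKrullDim_eq_zero.mp inferInstance
  rw [h0] at h1
  have h2 : (maximalIdeal (BQ (GX p x))).spanFinrank = 0 := by exact_mod_cast h1
  rw [Submodule.spanFinrank_eq_zero_iff_eq_bot (IsNoetherian.noetherian _)] at h2
  exact IsLocalRing.isField_iff_maximalIdeal_eq.mpr h2

end fieldcase

end Groth.Agent.Lib.Helper21.PthRoot
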