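import Mathlib
import Groth.Agent.Lib.Helper21.PthRootQ
import Groth.Agent.Lib.Helper21.CohenStructG

set_option autoImplicit false
set_option linter.style.haveILetI false

namespace Groth.Agent.Lib.Helper21.PthRoot

open IsLocalRing Polynomial TensorProduct

universe u

section linalg

theorem injective_of_linearIndependent_basis {K M W ι : Type*} [Field K] [AddCommGroup M]
    [Module K M] [AddCommGroup W] [Module K W] (b : Module.Basis ι K M) (f : M →ₗ[K] W)
    (h : LinearIndependent K (fun i => f (b i))) : Function.Injective f := by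
  have hf : f = (Finsupp.linearCombination K (fun i => f (b i))) ∘ₗ b.repr.toLinearMap := by
    apply b.ext
    intro i
    rw [LinearMap.comp_apply, LinearEquiv.coe_coe, Module.Basis.repr_self,
      Finsupp.linearCombination_single, one_smul]
  rw [hf, LinearMap.coe_comp]
  exact Function.Injective.comp
    (show Function.Injective (Finsupp.linearCombination K fun i => f (b i)) from h)
    b.repr.injective

end linalg

theorem charP_residueField_of_algebra (k A : Type u) [Field k] (p : ℕ) [CharP k p] [CommRing A]
    [IsLocalRing A] [Algebra k A] : CharP (ResidueField A) p :=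
  charP_of_injective_algebraMap (algebraMap k (ResidueField A)).injective p

section core

variable {k A : Type u} [Field k] (p : ℕ) [hp : Fact p.Prime] [CharP k p] [CommRing A]
  [IsLocalRing A] [IsNoetherianRing A] [Algebra k A]
  (hyp : ∀ (k' : Type u) [Field k'] [Algebra k k'], Module.Finite k k' →
    (∀ x : k', x ^ p ∈ Set.range (algebraMap k k')) → IsRegularRing (k' ⊗[k] A))

omit hp [CharP k p] [IsNoetherianRing A] in
include hyp in
theorem isRegularLocalRing_of_hyp : IsRegularLocalRing A := by
  have h := hyp k (Module.Finite.self k) (fun x => ⟨x ^ p, rfl⟩)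
  haveI := h
  haveI : IsRegularRing A := IsRegularRing.of_ringEquiv (Algebra.TensorProduct.lid k A).toRingEquiv
  exact IsRegularLocalRing.of_isRegularRing_of_isLocalRing A


omit [IsNoetherianRing A] in
include hyp in
theorem linearIndependent_of_hyp {r : ℕ} (x : Fin r → k)
    (hx : LinearIndependent k (fun i => KaehlerDifferential.D ℤ k (x i))) :
    LinearIndependent (ResidueField A)
      (fun i => (1 : ResidueField A) ⊗ₜ[A] KaehlerDifferential.D ℤ A (algebraMap k A (x i))) := by
  haveI hreg : IsRegularLocalRing A := isRegularLocalRing_of_hyp p hyp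
  haveI := charP_residueField_of_algebra k A p
  have hfield := isField_BQ_field p x hx
  have h := @hyp (BQ (GX p x)) hfield.toField (Ideal.Quotient.algebra k) (finite_BQ_field p x)
    (pow_mem_range p x)
  have h2 : IsRegularRing (BQ (GS (S := A) (GX p x))) :=
    @IsRegularRing.of_ringEquiv _ _ _ _
      (((Algebra.TensorProduct.comm k (BQ (GX p x)) A).toRingEquiv).trans
        (tensorIso (S := A) (GX p x)).toRingEquiv) h
  have hGS : GS (S := A) (GX p x) = GX p (fun i => algebraMap k A (x i)) := by
    funext i
    rw [GS, GX, FF_map, Polynomial.map_zero]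
  rw [hGS] at h2
  have hp2 : (p : A) ∈ maximalIdeal A ^ 2 := by
    have h0 : (p : A) = 0 := by
      rw [← map_natCast (algebraMap k A), CharP.cast_eq_zero, map_zero]
    rw [h0]
    exact zero_mem _
  obtain ⟨l1, -, -⟩ := local_aux p r A (fun _ => 0) (GX_natDegree p)
    (fun i => algebraMap k A (x i))
  haveI := l1
  haveI := h2
  exact (regular_aux p r A hp2 (fun _ => 0) (GX_natDegree p) _).mp
    (IsRegularLocalRing.of_isRegularRing_of_isLocalRing _)

include hyp in
theorem injective_of_hyp : Function.Injective
    ((KaehlerDifferential.mapBaseChange ℤ k A).lTensor (ResidueField A)) := by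
  classical
  let K := ResidueField A
  have hspan : ⊤ ≤ Submodule.span k (Set.range (KaehlerDifferential.D ℤ k)) := by
    rw [KaehlerDifferential.span_range_derivation]
  let b := Module.Basis.ofSpan hspan
  have hb : ∀ i, ∃ y : k, KaehlerDifferential.D ℤ k y = b i :=
    fun i => Module.Basis.ofSpan_subset hspan ⟨i, rfl⟩
  choose y hy using hb
  let φK : K ⊗[A] (A ⊗[k] Ω[k⁄ℤ]) →ₗ[K] K ⊗[A] Ω[A⁄ℤ] :=
    (KaehlerDifferential.mapBaseChange ℤ k A).baseChange K
  have hfun : (φK : K ⊗[A] (A ⊗[k] Ω[k⁄ℤ]) → K ⊗[A] Ω[A⁄ℤ]) =
      (KaehlerDifferential.mapBaseChange ℤ k A).lTensor K :=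
    LinearMap.baseChange_eq_ltensor _
  rw [← hfun]
  let bM := Algebra.TensorProduct.basis K (Algebra.TensorProduct.basis A b)
  have hbM : ∀ i, φK (bM i) =
      (1 : K) ⊗ₜ[A] KaehlerDifferential.D ℤ A (algebraMap k A (y i)) := by
    intro i
    show φK (Algebra.TensorProduct.basis K (Algebra.TensorProduct.basis A b) i) = _
    rw [Algebra.TensorProduct.basis_apply, Algebra.TensorProduct.basis_apply,
      LinearMap.baseChange_tmul, ← hy i, KaehlerDifferential.mapBaseChange_tmul, one_smul,
      KaehlerDifferential.map_D]
  apply injective_of_linearIndependent_basis bM φK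
  have hfam : (fun i => φK (bM i)) =
      fun i => (1 : K) ⊗ₜ[A] KaehlerDifferential.D ℤ A (algebraMap k A (y i)) := funext hbM
  rw [hfam, linearIndependent_iff_finset_linearIndependent]
  intro s
  let e := s.equivFin
  have hx : LinearIndependent k (fun j : Fin s.card =>
      KaehlerDifferential.D ℤ k (y ((e.symm j : s) : _))) := by
    have h1 : LinearIndependent k (fun i => KaehlerDifferential.D ℤ k (y i)) := by
      have : (fun i => KaehlerDifferential.D ℤ k (y i)) = b := funext hy
      rw [this]
      exact b.linearIndependent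
    exact h1.comp (fun j : Fin s.card => ((e.symm j : s) : _))
      (Subtype.val_injective.comp e.symm.injective)
  have h2 := linearIndependent_of_hyp p hyp (fun j : Fin s.card => y ((e.symm j : s) : _)) hx
  have h3 := h2.comp e e.injective
  have h4 : ((fun i : Fin s.card => (1 : ResidueField A) ⊗ₜ[A]
      KaehlerDifferential.D ℤ A (algebraMap k A (y ((e.symm i : s) : _)))) ∘ e) =
      (fun i => (1 : K) ⊗ₜ[A] KaehlerDifferential.D ℤ A (algebraMap k A (y i))) ∘
        (Subtype.val : s → _) := by
    funext i
    simp only [Function.comp_apply, Equiv.symm_apply_apply]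
  rw [h4] at h3
  exact h3

include hyp in
/-- the core implication -/
theorem isAdicFormallySmooth_of_hyp : CAlgX.IsAdicFormallySmooth k A (maximalIdeal A) :=
  Groth.Agent.Lib.Helper21.KDiffSmooth.isAdicFormallySmooth_of_regular_of_injective
    (isRegularLocalRing_of_hyp p hyp) (injective_of_hyp p hyp)

include hp in
variable (k A) in
theorem S2036_aux :
    CAlg.IsGeometricallyRegular k A ↔ CAlgX.IsAdicFormallySmooth k A (maximalIdeal A) := by
  constructor
  · intro h
    apply isAdicFormallySmooth_of_hyp p
    intro k' _ _ hfin _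
    exact h k' hfin
  · intro h
    exact Groth.Agent.Lib.Helper21.CohenStruct.isGeometricallyRegular_of_isAdicFormallySmooth k A h

theorem S2037_aux :
    CAlg.IsGeometricallyRegular k A ↔
      ∀ (k' : Type u) [Field k'] [Algebra k k'], Module.Finite k k' →
        (∀ x : k', x ^ p ∈ Set.range (algebraMap k k')) → IsRegularRing (k' ⊗[k] A) := by
  constructor
  · intro h k' _ _ hfin _
    exact h k' hfin
  · intro hyp
    exact Groth.Agent.Lib.Helper21.CohenStruct.isGeometricallyRegular_of_isAdicFormallySmooth k A
      (isAdicFormallySmooth_of_hyp p hyp)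

end core

end Groth.Agent.Lib.Helper21.PthRoot
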