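import Mathlib
import Groth.Agent.Lib.Helper21.PthRootR

set_option autoImplicit false
set_option linter.style.haveILetI false

namespace Groth.Agent.Lib.Helper21.PthRoot

open IsLocalRing TensorProduct

universe u

section charzero

/-- a characteristic zero field extension is formally smooth -/
theorem formallySmooth_charZero (k K : Type u) [Field k] [Field K] [Algebra k K] [CharZero k] :
    Algebra.FormallySmooth k K := by
  obtain ⟨ι, x, hx⟩ := exists_isTranscendenceBasis' k K
  have := hx.isAlgebraic_field
  haveI : CharZero (IntermediateField.adjoin k (Set.range x)) :=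
    charZero_of_injective_algebraMap (algebraMap k _).injective
  exact Algebra.FormallySmooth.of_algebraicIndependent_of_isSeparable hx.1

open Groth.Agent.Lib.Helper21.KDiffSmooth in
/-- derivations extend along formally smooth field extensions -/
theorem exists_derivation_extend_field {k K : Type u} [Field k] [Field K] [Algebra k K]
    [Algebra.FormallySmooth k K] (δ : Derivation ℤ k K) :
    ∃ δ' : Derivation ℤ K K, ∀ x, δ' (algebraMap k K x) = δ x := by
  letI twAlg : Algebra k (TrivSqZeroExt K K) := (twHom' δ).toAlgebra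
  let π : TrivSqZeroExt K K →ₐ[k] K :=
    { toRingHom := (TrivSqZeroExt.fstHom K K K).toRingHom
      commutes' := fun x => fst_twHom' δ x }
  have hπ : Function.Surjective π := fun c => ⟨TrivSqZeroExt.inl c, TrivSqZeroExt.fst_inl K c⟩
  have hnil : IsNilpotent (RingHom.ker (π : TrivSqZeroExt K K →+* K)) := by
    refine ⟨2, ?_⟩
    have h2 : RingHom.ker (π : TrivSqZeroExt K K →+* K) ^ 2 =
        RingHom.ker (π : TrivSqZeroExt K K →+* K) * RingHom.ker (π : TrivSqZeroExt K K →+* K) :=
      sq _
    rw [h2]
    apply le_bot_iff.mp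
    rw [Ideal.mul_le]
    intro z hz w hw
    rw [Ideal.mem_bot]
    exact mul_eq_zero' z w hz hw
  let χ := Algebra.FormallySmooth.liftOfSurjective (AlgHom.id k K) π hπ hnil
  have hχ : ∀ x, π (χ x) = x :=
    Algebra.FormallySmooth.liftOfSurjective_apply (AlgHom.id k K) π hπ hnil
  have hfst : ∀ a, (χ a).fst = a := hχ
  let D : Derivation ℤ K K := Derivation.mk'
    (AddMonoidHom.toIntLinearMap
      { toFun := fun a => (χ a).snd
        map_zero' := by rw [map_zero, TrivSqZeroExt.snd_zero]
        map_add' := fun a b => by rw [map_add, TrivSqZeroExt.snd_add] })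
    (fun a b => by
      show (χ (a * b)).snd = a • (χ b).snd + b • (χ a).snd
      rw [map_mul, snd_mul', hfst, hfst, smul_eq_mul, smul_eq_mul])
  refine ⟨D, fun x => ?_⟩
  show (χ (algebraMap k K x)).snd = δ x
  rw [χ.commutes]
  exact snd_twHom' δ x

end charzero

section inj

variable (k A : Type u) [Field k] [CommRing A] [IsLocalRing A] [Algebra k A]

theorem injective_of_forall_exists_derivation
    (h : ∀ δ : Derivation ℤ k (ResidueField A), ∃ D : Derivation ℤ A (ResidueField A),
      ∀ x, D (algebraMap k A x) = δ x) :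
    Function.Injective
      ((KaehlerDifferential.mapBaseChange ℤ k A).lTensor (ResidueField A)) := by
  let K := ResidueField A
  let φK : K ⊗[A] (A ⊗[k] Ω[k⁄ℤ]) →ₗ[K] K ⊗[A] Ω[A⁄ℤ] :=
    (KaehlerDifferential.mapBaseChange ℤ k A).baseChange K
  have hfun : (φK : K ⊗[A] (A ⊗[k] Ω[k⁄ℤ]) → K ⊗[A] Ω[A⁄ℤ]) =
      (KaehlerDifferential.mapBaseChange ℤ k A).lTensor K :=
    LinearMap.baseChange_eq_ltensor _
  rw [← hfun, ← LinearMap.ker_eq_bot, LinearMap.ker_eq_bot']
  intro z hz
  rw [← Module.forall_dual_apply_eq_zero_iff K z]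
  intro lam
  let g₁ : A ⊗[k] Ω[k⁄ℤ] →ₗ[A] K := (LinearMap.liftBaseChangeEquiv K).symm lam
  let g : Ω[k⁄ℤ] →ₗ[k] K := (LinearMap.liftBaseChangeEquiv A).symm g₁
  let δ : Derivation ℤ k K := g.compDer (KaehlerDifferential.D ℤ k)
  obtain ⟨D, hD⟩ := h δ
  let Λ : K ⊗[A] Ω[A⁄ℤ] →ₗ[K] K := LinearMap.liftBaseChange K D.liftKaehlerDifferential
  have key : Λ ∘ₗ φK = lam := by
    apply (LinearMap.liftBaseChangeEquiv K).symm.injective
    apply (LinearMap.liftBaseChangeEquiv A).symm.injective
    apply Derivation.liftKaehlerDifferential_unique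
    ext x
    show Λ (φK ((1 : K) ⊗ₜ[A] ((1 : A) ⊗ₜ[k] KaehlerDifferential.D ℤ k x))) = δ x
    rw [LinearMap.baseChange_tmul, KaehlerDifferential.mapBaseChange_tmul, one_smul,
      KaehlerDifferential.map_D, LinearMap.liftBaseChange_tmul, one_smul,
      Derivation.liftKaehlerDifferential_comp_D, hD]
  rw [← key, LinearMap.comp_apply, hz, map_zero]

/-- in the formally smooth residue extension case the differential map is injective -/
theorem injective_of_formallySmooth_residueField
    (hK : ∀ (K : Type u) [Field K] [Algebra k K], Algebra.FormallySmooth k K) :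
    Function.Injective
      ((KaehlerDifferential.mapBaseChange ℤ k A).lTensor (ResidueField A)) := by
  apply injective_of_forall_exists_derivation
  intro δ
  haveI := hK (ResidueField A)
  obtain ⟨δ', hδ'⟩ := exists_derivation_extend_field δ
  refine ⟨δ'.compAlgebraMap A, fun x => ?_⟩
  show δ' (algebraMap A (ResidueField A) (algebraMap k A x)) = δ x
  rw [← IsScalarTower.algebraMap_apply, hδ']

end inj

section final

theorem S4573_aux {k A : Type u} [Field k] (p : ℕ)
    [ExpChar k p] [CommRing A] [IsLocalRing A] [IsNoetherianRing A] [Algebra k A] :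
    CAlgX.IsAdicFormallySmooth k A (maximalIdeal A) ↔
      ∀ (k' : Type u) [Field k'] [Algebra k k'], Module.Finite k k' →
        (∀ x : k', x ^ p ∈ (algebraMap k k').range) → IsRegularRing (k' ⊗[k] A) := by
  constructor
  · intro h k' _ _ hfin _
    exact Groth.Agent.Lib.Helper21.CohenStruct.isGeometricallyRegular_of_isAdicFormallySmooth k A h
      k' hfin
  · intro hyp
    cases ‹ExpChar k p› with
    | zero =>
      have h1 := hyp k (Module.Finite.self k) (fun x => ⟨x ^ 1, rfl⟩)
      haveI := h1
      haveI : IsRegularRing A :=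
        IsRegularRing.of_ringEquiv (Algebra.TensorProduct.lid k A).toRingEquiv
      have hreg : IsRegularLocalRing A := IsRegularLocalRing.of_isRegularRing_of_isLocalRing A
      exact Groth.Agent.Lib.Helper21.KDiffSmooth.isAdicFormallySmooth_of_regular_of_injective hreg
        (injective_of_formallySmooth_residueField k A
          (fun K _ _ => formallySmooth_charZero k K))
    | prime hprime =>
      haveI : Fact p.Prime := ⟨hprime⟩
      apply isAdicFormallySmooth_of_hyp p
      intro k' _ _ hfin hx
      exact hyp k' hfin (fun x => RingHom.mem_range.mpr (Set.mem_range.mp (hx x)))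

end final

end Groth.Agent.Lib.Helper21.PthRoot
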