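import Mathlib
import Groth.Agent.Lib.Helper21.PthRootS
import Groth.Agent.Lib.Helper22.CMReg

set_option autoImplicit false
set_option linter.style.haveILetI false

namespace Groth.Agent.Lib.Helper21.PthRoot

open IsLocalRing TensorProduct

universe u

section loc

variable {k A : Type u} [Field k] [CommRing A] [Algebra k A]

/-- regularity of a base change passes to localizations of the second factor -/
theorem isRegularRing_tensor_localization (k' : Type u) [Field k'] [Algebra k k']
    (M : Submonoid A) (B : Type u) [CommRing B] [Algebra A B] [Algebra k B] [IsScalarTower k A B]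
    [IsLocalization M B] [IsRegularRing (k' ⊗[k] A)] : IsRegularRing (k' ⊗[k] B) := by
  letI : Algebra (k' ⊗[k] A) (k' ⊗[k] B) :=
    (Algebra.TensorProduct.map (AlgHom.id k k') (IsScalarTower.toAlgHom k A B)).toAlgebra
  haveI : IsScalarTower k' (k' ⊗[k] A) (k' ⊗[k] B) :=
    .of_algebraMap_eq <| by intro; simp [RingHom.algebraMap_toAlgebra]
  haveI := IsLocalization.tensorProduct_tensorProduct_right k k' M B
    (by ext; simp [RingHom.algebraMap_toAlgebra])
  exact Groth.Agent.Lib.Helper22.CMG.isRegularRing_of_isLocalization
    (M.map (Algebra.TensorProduct.includeRight (R := k) (A := k'))) (k' ⊗[k] B)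

theorem S4574_aux [IsLocalRing A] [IsNoetherianRing A]
    (h : CAlgX.IsAdicFormallySmooth k A (maximalIdeal A))
    (p : Ideal A) [p.IsPrime] :
    CAlgX.IsAdicFormallySmooth k (Localization.AtPrime p)
      (maximalIdeal (Localization.AtPrime p)) := by
  have hgeo := Groth.Agent.Lib.Helper21.CohenStruct.isGeometricallyRegular_of_isAdicFormallySmooth
    k A h
  rw [S4573_aux (ringExpChar k)]
  intro k' _ _ hfin _
  haveI := hgeo k' hfin
  exact isRegularRing_tensor_localization k' p.primeCompl (Localization.AtPrime p)

end loc

end Groth.Agent.Lib.Helper21.PthRoot
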