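import Mathlib
import Groth.Agent.Lib.Helper21.PthRootT

set_option autoImplicit false
set_option linter.style.haveILetI false

namespace Groth.Agent.Lib.Helper21.GeomReg

open IsLocalRing TensorProduct

universe u

section baseChange

variable (k A : Type u) [Field k] [CommRing A] [Algebra k A] [IsLocalRing A]

/-- the localisations, at primes over the maximal ideal, of an arbitrary field base change of an
adically formally smooth local algebra are adically formally smooth -/
theorem isAdicFormallySmooth_localization_baseChange'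
    (h : CAlgX.IsAdicFormallySmooth k A (maximalIdeal A))
    (K : Type u) [Field K] [Algebra k K]
    (𝔮 : Ideal (K ⊗[k] A)) [𝔮.IsPrime]
    (h𝔮 : 𝔮.comap (Algebra.TensorProduct.includeRight : A →ₐ[k] K ⊗[k] A) = maximalIdeal A) :
    CAlgX.IsAdicFormallySmooth K (Localization.AtPrime 𝔮)
      (maximalIdeal (Localization.AtPrime 𝔮)) := by
  intro C _ _ J hJ ψ hψ
  obtain ⟨m, hm⟩ := hψ
  letI : Algebra k C := ((algebraMap K C).comp (algebraMap k K)).toAlgebra
  haveI : IsScalarTower k K C := IsScalarTower.of_algebraMap_eq (fun _ => rfl)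
  let incA : A →ₐ[k] K ⊗[k] A := Algebra.TensorProduct.includeRight
  let toB : (K ⊗[k] A) →ₐ[K] Localization.AtPrime 𝔮 := IsScalarTower.toAlgHom K _ _
  have htoB : ∀ y, toB y = algebraMap _ (Localization.AtPrime 𝔮) y := fun y => rfl
  let ψA : A →ₐ[k] C ⧸ J := ((ψ.comp toB).restrictScalars k).comp incA
  have hψA : ∀ a, ψA a = ψ (toB ((1 : K) ⊗ₜ[k] a)) := fun a => rfl
  have hcont : ∀ x ∈ maximalIdeal A ^ m, ψA x = 0 := by
    intro x hx
    rw [hψA]
    apply hm
    have h1 : maximalIdeal A ≤ (maximalIdeal (Localization.AtPrime 𝔮)).comap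
        ((toB : (K ⊗[k] A) →+* Localization.AtPrime 𝔮).comp (incA : A →+* K ⊗[k] A)) := by
      intro a ha
      rw [← h𝔮, Ideal.mem_comap] at ha
      rw [Ideal.mem_comap, RingHom.comp_apply]
      show toB (incA a) ∈ _
      rw [htoB]
      exact (IsLocalization.AtPrime.to_map_mem_maximal_iff (Localization.AtPrime 𝔮) 𝔮
        (incA a)).mpr ha
    have h2 := Ideal.pow_right_mono h1 m hx
    have h3 := Ideal.le_comap_pow ((toB : (K ⊗[k] A) →+* Localization.AtPrime 𝔮).comp
      (incA : A →+* K ⊗[k] A)) m h2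
    exact h3
  obtain ⟨χA, hχA⟩ := h C J hJ ψA ⟨m, hcont⟩
  have hχA' : ∀ a, Ideal.Quotient.mk J (χA a) = ψA a := fun a => congrArg (fun f => f a) hχA
  let χ' : (K ⊗[k] A) →ₐ[K] C :=
    Algebra.TensorProduct.lift (Algebra.ofId K C) χA (fun _ _ => Commute.all _ _)
  have hχ' : ∀ y, Ideal.Quotient.mk J (χ' y) = ψ (toB y) := by
    intro y
    induction y using TensorProduct.induction_on with
    | zero => simp
    | tmul c a =>
      have h1 : χ' (c ⊗ₜ[k] a) = algebraMap K C c * χA a := by
        simp [χ', Algebra.ofId_apply]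
      have h2 : (c ⊗ₜ[k] a : K ⊗[k] A) = c • ((1 : K) ⊗ₜ[k] a) := by
        rw [TensorProduct.smul_tmul', smul_eq_mul, mul_one]
      rw [h1, map_mul, hχA', hψA, h2, map_smul, map_smul, Algebra.smul_def]
      rfl
    | add x y hx hy => rw [map_add, map_add, hx, hy, map_add, map_add]
  have hunit : ∀ y : 𝔮.primeCompl, IsUnit (χ' y) := by
    intro y
    apply (IsNilpotent.isUnit_quotient_mk_iff (I := J) ⟨2, hJ⟩).mp
    rw [hχ', htoB]
    exact (IsLocalization.map_units (Localization.AtPrime 𝔮) y).map ψ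
  let χB : Localization.AtPrime 𝔮 →ₐ[K] C := IsLocalization.liftAlgHom (M := 𝔮.primeCompl) hunit
  have hχB : ∀ y, χB (algebraMap _ _ y) = χ' y := fun y => IsLocalization.lift_eq hunit y
  refine ⟨χB, ?_⟩
  apply AlgHom.coe_ringHom_injective
  apply IsLocalization.ringHom_ext 𝔮.primeCompl
  apply RingHom.ext
  intro y
  show Ideal.Quotient.mk J (χB (algebraMap _ _ y)) = ψ (algebraMap _ _ y)
  rw [hχB, hχ', htoB]

end baseChange

end Groth.Agent.Lib.Helper21.GeomReg
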