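import Mathlib
import Groth.Agent.Lib.Helper21.GeomRegA

set_option autoImplicit false
set_option linter.style.haveILetI false

namespace Groth.Agent.Lib.Helper21.GeomReg

open IsLocalRing TensorProduct

universe u

section locloc

/-- transport of regularity of the local ring at the extended prime of a localization -/
theorem isRegularLocalRing_of_isLocalization {A : Type u} [CommRing A] (M : Submonoid A)
    (B : Type u) [CommRing B] [Algebra A B] [IsLocalization M B]
    (q : Ideal A) [q.IsPrime] (hdisj : Disjoint (M : Set A) (q : Set A))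
    (h : ∀ [(q.map (algebraMap A B)).IsPrime],
      IsRegularLocalRing (Localization.AtPrime (q.map (algebraMap A B)))) :
    IsRegularLocalRing (Localization.AtPrime q) := by
  set q' := q.map (algebraMap A B) with hq'
  haveI : q'.IsPrime :=
    IsLocalization.isPrime_of_isPrime_disjoint M _ q ‹_› hdisj
  have h1 := IsLocalization.isLocalization_isLocalization_atPrime_isLocalization
    (M := M) (Localization.AtPrime q') q'
  have hcomap : Ideal.comap (algebraMap A B) q' = q :=
    IsLocalization.under_map_of_isPrime_disjoint M _ ‹_› hdisj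
  simp_rw [hcomap] at h1
  have e := (IsLocalization.algEquiv q.primeCompl (Localization.AtPrime q')
    (Localization.AtPrime q)).toRingEquiv
  haveI := h
  exact IsRegularLocalRing.of_ringEquiv e

end locloc

section main

variable (k A : Type u) [Field k] [CommRing A] [Algebra k A]

theorem isRegularRing_baseChange_of_forall_adicFS
    (hA : ∀ (𝔭 : Ideal A) [𝔭.IsPrime], CAlgX.IsAdicFormallySmooth k (Localization.AtPrime 𝔭)
      (maximalIdeal (Localization.AtPrime 𝔭)))
    (K : Type u) [Field K] [Algebra k K] [IsNoetherianRing (K ⊗[k] A)] :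
    IsRegularRing (K ⊗[k] A) := by
  rw [isRegularRing_iff]
  intro 𝔮 _
  let incA : A →ₐ[k] K ⊗[k] A := Algebra.TensorProduct.includeRight
  let 𝔭 : Ideal A := 𝔮.comap incA
  haveI h𝔭 : 𝔭.IsPrime := Ideal.comap_isPrime incA 𝔮
  let A𝔭 := Localization.AtPrime 𝔭
  letI : Algebra (K ⊗[k] A) (K ⊗[k] A𝔭) :=
    (Algebra.TensorProduct.map (AlgHom.id k K) (IsScalarTower.toAlgHom k A A𝔭)).toAlgebra
  haveI : IsScalarTower K (K ⊗[k] A) (K ⊗[k] A𝔭) :=
    .of_algebraMap_eq <| by intro; simp [RingHom.algebraMap_toAlgebra]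
  haveI hloc := IsLocalization.tensorProduct_tensorProduct_right k K 𝔭.primeCompl A𝔭
    (by ext; simp [RingHom.algebraMap_toAlgebra])
  have hdisj : Disjoint ((𝔭.primeCompl.map incA : Submonoid (K ⊗[k] A)) : Set (K ⊗[k] A))
      (𝔮 : Set (K ⊗[k] A)) := by
    rw [Set.disjoint_left]
    rintro _ ⟨a, ha, rfl⟩ hq
    exact ha hq
  apply isRegularLocalRing_of_isLocalization (𝔭.primeCompl.map incA) (K ⊗[k] A𝔭) 𝔮 hdisj
  intro _
  have hcomap : Ideal.comap (algebraMap (K ⊗[k] A) (K ⊗[k] A𝔭))
      (𝔮.map (algebraMap (K ⊗[k] A) (K ⊗[k] A𝔭))) = 𝔮 :=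
    IsLocalization.under_map_of_isPrime_disjoint (𝔭.primeCompl.map incA) _ ‹_› hdisj
  have h𝔮' : (𝔮.map (algebraMap (K ⊗[k] A) (K ⊗[k] A𝔭))).comap
      (Algebra.TensorProduct.includeRight : A𝔭 →ₐ[k] K ⊗[k] A𝔭) = maximalIdeal A𝔭 := by
    have hprime : ((𝔮.map (algebraMap (K ⊗[k] A) (K ⊗[k] A𝔭))).comap
      (Algebra.TensorProduct.includeRight : A𝔭 →ₐ[k] K ⊗[k] A𝔭)).IsPrime :=
      Ideal.comap_isPrime _ _
    have h1 : (((𝔮.map (algebraMap (K ⊗[k] A) (K ⊗[k] A𝔭))).comap
        (Algebra.TensorProduct.includeRight : A𝔭 →ₐ[k] K ⊗[k] A𝔭)).comap (algebraMap A A𝔭)) = 𝔭 := by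
      ext a
      simp only [Ideal.mem_comap]
      have : (Algebra.TensorProduct.includeRight : A𝔭 →ₐ[k] K ⊗[k] A𝔭) (algebraMap A A𝔭 a)
          = algebraMap (K ⊗[k] A) (K ⊗[k] A𝔭) (incA a) := by
        simp [RingHom.algebraMap_toAlgebra, incA]
      rw [this, ← Ideal.mem_comap, hcomap]
      rfl
    rw [← IsLocalization.map_under 𝔭.primeCompl A𝔭 ((𝔮.map (algebraMap (K ⊗[k] A) (K ⊗[k] A𝔭))).comap
        (Algebra.TensorProduct.includeRight : A𝔭 →ₐ[k] K ⊗[k] A𝔭)), Ideal.under_def, h1]
    exact Localization.AtPrime.map_eq_maximalIdeal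
  have hfs := isAdicFormallySmooth_localization_baseChange' k A𝔭 (hA 𝔭) K
    (𝔮.map (algebraMap (K ⊗[k] A) (K ⊗[k] A𝔭))) h𝔮'
  haveI : IsNoetherianRing (K ⊗[k] A𝔭) :=
    IsLocalization.isNoetherianRing (𝔭.primeCompl.map incA) _ inferInstance
  exact (Groth.Agent.Lib.Helper21.CohenStruct.regular_of_isAdicFormallySmooth K _ hfs).1

end main

section geom

variable (k A : Type u) [Field k] [CommRing A] [Algebra k A] [IsNoetherianRing A]

theorem forall_adicFS_of_purelyInseparable
    (h : ∀ (k' : Type u) [Field k'] [Algebra k k'], Module.Finite k k' → IsPurelyInseparable k k' →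
      IsRegularRing (k' ⊗[k] A)) (𝔭 : Ideal A) [𝔭.IsPrime] :
    CAlgX.IsAdicFormallySmooth k (Localization.AtPrime 𝔭)
      (maximalIdeal (Localization.AtPrime 𝔭)) := by
  rw [Groth.Agent.Lib.Helper21.PthRoot.S4573_aux (ringExpChar k)]
  intro k' _ _ hfin hpow
  have hpi : IsPurelyInseparable k k' :=
    (isPurelyInseparable_iff_pow_mem k (ringExpChar k)).mpr
      (fun x => ⟨1, by simpa using hpow x⟩)
  haveI := h k' hfin hpi
  exact Groth.Agent.Lib.Helper21.PthRoot.isRegularRing_tensor_localization k' 𝔭.primeCompl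
    (Localization.AtPrime 𝔭)

theorem forall_adicFS_of_isGeometricallyRegular (h : CAlg.IsGeometricallyRegular k A)
    (𝔭 : Ideal A) [𝔭.IsPrime] :
    CAlgX.IsAdicFormallySmooth k (Localization.AtPrime 𝔭)
      (maximalIdeal (Localization.AtPrime 𝔭)) :=
  forall_adicFS_of_purelyInseparable k A (fun k' _ _ hfin _ => h k' hfin) 𝔭

/-- geometric regularity gives regularity after any field base change that stays noetherian -/
theorem isRegularRing_baseChange_of_isGeometricallyRegular (h : CAlg.IsGeometricallyRegular k A)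
    (K : Type u) [Field K] [Algebra k K] [IsNoetherianRing (K ⊗[k] A)] :
    IsRegularRing (K ⊗[k] A) :=
  isRegularRing_baseChange_of_forall_adicFS k A
    (fun 𝔭 _ => forall_adicFS_of_isGeometricallyRegular k A h 𝔭) K

theorem isNoetherianRing_baseChange_finite (k' : Type u) [Field k'] [Algebra k k']
    [Module.Finite k k'] : IsNoetherianRing (k' ⊗[k] A) := by
  letI := Algebra.TensorProduct.rightAlgebra (R := k) (A := k') (B := A)
  haveI : Module.Finite A (k' ⊗[k] A) := Groth.Agent.Lib.Helper21.CohenStruct.finite_right k A k'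
  exact IsNoetherianRing.of_finite A (k' ⊗[k] A)

theorem isNoetherianRing_baseChange_essFiniteType (K : Type u) [Field K] [Algebra k K]
    [Algebra.EssFiniteType k K] : IsNoetherianRing (K ⊗[k] A) := by
  haveI : IsNoetherianRing (A ⊗[k] K) := Algebra.EssFiniteType.isNoetherianRing A (A ⊗[k] K)
  exact isNoetherianRing_of_ringEquiv _ (Algebra.TensorProduct.comm k A K).toRingEquiv

theorem isGeometricallyRegular_of_purelyInseparable
    (h : ∀ (k' : Type u) [Field k'] [Algebra k k'], Module.Finite k k' → IsPurelyInseparable k k' →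
      IsRegularRing (k' ⊗[k] A)) : CAlg.IsGeometricallyRegular k A := by
  intro k' _ _ hfin
  haveI := hfin
  haveI := isNoetherianRing_baseChange_finite k A k'
  exact isRegularRing_baseChange_of_forall_adicFS k A
    (fun 𝔭 _ => forall_adicFS_of_purelyInseparable k A h 𝔭) k'

theorem S2672_aux :
    (CAlg.IsGeometricallyRegular k A ↔
        ∀ (k' : Type u) [Field k'] [Algebra k k'], Module.Finite k k' → IsPurelyInseparable k k' →
          IsRegularRing (k' ⊗[k] A)) ∧
      (CAlg.IsGeometricallyRegular k A ↔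
        ∀ (K : Type u) [Field K] [Algebra k K], Algebra.EssFiniteType k K →
          IsRegularRing (K ⊗[k] A)) := by
  refine ⟨⟨fun h k' _ _ hfin _ => h k' hfin, isGeometricallyRegular_of_purelyInseparable k A⟩,
    ⟨?_, ?_⟩⟩
  · intro h K _ _ hK
    haveI := hK
    haveI := isNoetherianRing_baseChange_essFiniteType k A K
    exact isRegularRing_baseChange_of_isGeometricallyRegular k A h K
  · intro h k' _ _ hfin
    haveI := hfin
    exact h k' inferInstance

end geom

end Groth.Agent.Lib.Helper21.GeomReg
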