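import Mathlib
import Groth.Prelude.Def_CAlgX

set_option autoImplicit false
set_option linter.style.haveILetI false

namespace Groth.Agent.Lib.Helper21.JacAdic

open TensorProduct IsLocalRing

universe u v w

section tensorker

variable {P : Type u} [CommRing P] {κ : Type v} [CommRing κ] [Algebra P κ]
  (hκ : Function.Surjective (algebraMap P κ)) {M : Type w} [AddCommGroup M] [Module P M]

include hκ in
theorem exists_one_tmul (z : κ ⊗[P] M) : ∃ x : M, z = (1 : κ) ⊗ₜ[P] x := by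
  induction z using TensorProduct.induction_on with
  | zero => exact ⟨0, (TensorProduct.tmul_zero _ _).symm⟩
  | tmul a b =>
    obtain ⟨p, rfl⟩ := hκ a
    refine ⟨p • b, ?_⟩
    rw [TensorProduct.tmul_smul, TensorProduct.smul_tmul', Algebra.smul_def, mul_one]
  | add z₁ z₂ h₁ h₂ =>
    obtain ⟨x₁, rfl⟩ := h₁
    obtain ⟨x₂, rfl⟩ := h₂
    exact ⟨x₁ + x₂, (TensorProduct.tmul_add _ _ _).symm⟩

include hκ in
theorem one_tmul_eq_zero_iff (y : M) :
    (1 : κ) ⊗ₜ[P] y = 0 ↔ y ∈ RingHom.ker (algebraMap P κ) • (⊤ : Submodule P M) := by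
  let e : (P ⧸ RingHom.ker (algebraMap P κ)) ≃ₐ[P] κ :=
    Ideal.quotientKerAlgEquivOfSurjective (f := Algebra.ofId P κ) hκ
  let E : (P ⧸ RingHom.ker (algebraMap P κ)) ⊗[P] M ≃ₗ[P] κ ⊗[P] M :=
    TensorProduct.congr e.toLinearEquiv (LinearEquiv.refl P M)
  have h1 : E ((1 : P ⧸ RingHom.ker (algebraMap P κ)) ⊗ₜ[P] y) = (1 : κ) ⊗ₜ[P] y := by
    show (e 1) ⊗ₜ[P] y = _
    rw [map_one]
  rw [← h1, LinearEquiv.map_eq_zero_iff, ← LinearMap.ker_tensorProductMk (Q := M)]
  rfl

end tensorker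

section core

variable {R S P : Type u} [CommRing R] [CommRing S] [CommRing P] [Algebra R S] [Algebra R P]
  [Algebra P S] [IsScalarTower R P S] [IsLocalRing S] [IsNoetherianRing P]

/-- Artin–Rees in the form needed -/
theorem exists_pow_inf_le (𝔫 I : Ideal P) : ∃ m : ℕ, 𝔫 ^ m ⊓ I ≤ 𝔫 * I := by
  obtain ⟨c, hc⟩ := Ideal.exists_pow_inf_eq_pow_smul 𝔫 (I : Submodule P P)
  refine ⟨c + 1, ?_⟩
  have h := hc (c + 1) (Nat.le_succ c)
  rw [Nat.add_sub_cancel_left, pow_one] at h
  have h' : 𝔫 ^ (c + 1) * ⊤ ⊓ I = 𝔫 * (𝔫 ^ c * ⊤ ⊓ I) := h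
  rw [Ideal.mul_top, Ideal.mul_top] at h'
  rw [h']
  exact Ideal.mul_mono_right inf_le_right


/-- adic formal smoothness implies the Jacobian injectivity -/
theorem injective_cotangentComplexBaseChange_of_isAdicFormallySmooth
    (h₁ : Function.Surjective (algebraMap P S))
    (h : CAlgX.IsAdicFormallySmooth R S (maximalIdeal S)) :
    Function.Injective
      (KaehlerDifferential.cotangentComplexBaseChange R S P (ResidueField S)) := by
  classical
  let κ := ResidueField S
  have hκ : Function.Surjective (algebraMap P κ) := by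
    rw [IsScalarTower.algebraMap_eq P S κ]
    exact residue_surjective.comp h₁
  set I : Ideal P := RingHom.ker (algebraMap P S) with hI
  set 𝔫 : Ideal P := RingHom.ker (algebraMap P κ) with h𝔫
  have hI𝔫 : I ≤ 𝔫 := by
    intro x hx
    rw [h𝔫, RingHom.mem_ker, IsScalarTower.algebraMap_apply P S κ, (RingHom.mem_ker).mp hx,
      map_zero]
  obtain ⟨m, hm⟩ := exists_pow_inf_le 𝔫 I
  let K₀ : Ideal P := 𝔫 * I ⊔ 𝔫 ^ m
  let C := P ⧸ K₀
  let q : P →+* C := Ideal.Quotient.mk K₀
  let J : Ideal C := I.map q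
  have hJ : J ^ 2 = ⊥ := by
    apply le_bot_iff.mp
    have h1 : J ^ 2 = (I * I).map q := by rw [sq, Ideal.map_mul]
    rw [h1, Ideal.map_le_iff_le_comap]
    intro x hx
    rw [Ideal.mem_comap, Ideal.mem_bot, Ideal.Quotient.eq_zero_iff_mem]
    exact Ideal.mem_sup_left (Ideal.mul_mono_left hI𝔫 hx)
  -- the test map
  let g : P →+* C ⧸ J := (Ideal.Quotient.mk J).comp q
  have hg : RingHom.ker (algebraMap P S) ≤ RingHom.ker g := by
    intro x hx
    rw [RingHom.mem_ker]
    show Ideal.Quotient.mk J (q x) = 0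
    rw [Ideal.Quotient.eq_zero_iff_mem]
    exact Ideal.mem_map_of_mem q hx
  let ψ₀ : S →+* C ⧸ J := (algebraMap P S).liftOfSurjective h₁ ⟨g, hg⟩
  have hψ₀ : ∀ p : P, ψ₀ (algebraMap P S p) = g p := fun p =>
    RingHom.liftOfSurjective_comp_apply (algebraMap P S) h₁ ⟨g, hg⟩ p
  let ψ : S →ₐ[R] C ⧸ J :=
    { ψ₀ with
      commutes' := fun r => by
        show ψ₀ (algebraMap R S r) = _
        rw [IsScalarTower.algebraMap_apply R P S, hψ₀]
        rfl }
  have hψ : ∀ x ∈ maximalIdeal S ^ m, ψ x = 0 := by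
    intro x hx
    have h2 : maximalIdeal S ^ m = (𝔫 ^ m).map (algebraMap P S) := by
      rw [Ideal.map_pow]
      congr 1
      have h3 : 𝔫 = (maximalIdeal S).comap (algebraMap P S) := by
        ext y
        rw [h𝔫, RingHom.mem_ker, Ideal.mem_comap, IsScalarTower.algebraMap_apply P S κ]
        exact residue_eq_zero_iff _
      rw [h3, Ideal.map_comap_of_surjective _ h₁]
    rw [h2, Ideal.mem_map_iff_of_surjective _ h₁] at hx
    obtain ⟨y, hy, rfl⟩ := hx
    show ψ₀ (algebraMap P S y) = 0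
    rw [hψ₀]
    show Ideal.Quotient.mk J (q y) = 0
    have : q y = 0 := Ideal.Quotient.eq_zero_iff_mem.mpr (Ideal.mem_sup_right hy)
    rw [this, map_zero]
  obtain ⟨χ, hχ⟩ := h C J hJ ψ ⟨m, hψ⟩
  let f : P →ₐ[R] C := χ.comp (IsScalarTower.toAlgHom R P S)
  have e : (Ideal.Quotient.mkₐ R J).comp f = IsScalarTower.toAlgHom R P (C ⧸ J) := by
    ext p
    show Ideal.Quotient.mk J (χ (algebraMap P S p)) = _
    have := AlgHom.congr_fun hχ (algebraMap P S p)
    rw [show Ideal.Quotient.mk J (χ (algebraMap P S p)) = ψ (algebraMap P S p) from this]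
    show ψ₀ (algebraMap P S p) = _
    rw [hψ₀]
    rfl
  let D : Derivation R P J := derivationToSquareZeroOfLift J hJ f e
  have hD : ∀ x ∈ I, ((D x : J) : C) = - q x := by
    intro x hx
    rw [derivationToSquareZeroOfLift_apply]
    show χ (algebraMap P S x) - q x = - q x
    rw [(RingHom.mem_ker).mp hx, map_zero, zero_sub]
  let ℓ : Ω[P⁄R] →ₗ[P] J := D.liftKaehlerDifferential
  have hkill : ∀ n ∈ 𝔫, ∀ j : J, n • j = 0 := by
    intro n hn j
    apply Subtype.ext
    show q n * (j : C) = 0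
    have hj : (j : C) ∈ I.map q := j.2
    rw [Ideal.mem_map_iff_of_surjective q Ideal.Quotient.mk_surjective] at hj
    obtain ⟨i, hi, hij⟩ := hj
    rw [← hij, ← map_mul, show q (n * i) = 0 from
      Ideal.Quotient.eq_zero_iff_mem.mpr (Ideal.mem_sup_left (Ideal.mul_mem_mul hn hi))]
  rw [injective_iff_map_eq_zero]
  intro z hz
  obtain ⟨x, rfl⟩ := exists_one_tmul hκ z
  rw [KaehlerDifferential.cotangentComplexBaseChange_tmul, one_smul] at hz
  have hz' : (1 : κ) ⊗ₜ[P] KaehlerDifferential.D R P (x : P) = 0 := hz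
  rw [one_tmul_eq_zero_iff hκ] at hz'
  have h4 : ℓ (KaehlerDifferential.D R P (x : P)) = 0 := by
    have h5 : ∀ ω ∈ 𝔫 • (⊤ : Submodule P Ω[P⁄R]), ℓ ω = 0 := by
      intro ω hω
      refine Submodule.smul_induction_on hω ?_ ?_
      · intro n hn y _
        rw [map_smul]
        exact hkill n hn _
      · intro a b ha hb
        rw [map_add, ha, hb, add_zero]
    exact h5 _ hz'
  rw [Derivation.liftKaehlerDifferential_comp_D] at h4
  have h6 : q (x : P) = 0 := by
    have := hD x x.2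
    rw [h4] at this
    simpa using this.symm
  have h7 : (x : P) ∈ 𝔫 * I := by
    have h8 : (x : P) ∈ K₀ := Ideal.Quotient.eq_zero_iff_mem.mp h6
    obtain ⟨a, ha, b, hb, hab⟩ := Submodule.mem_sup.mp h8
    have hbI : b ∈ I := by
      have : b = x - a := by rw [← hab]; ring
      rw [this]
      have hxI : (x : P) ∈ I := x.2
      have hle : 𝔫 * I ≤ I := Ideal.mul_le_right
      have haI : a ∈ I := hle ha
      exact Ideal.sub_mem I hxI haI
    rw [← hab]
    have hb2 : b ∈ 𝔫 * I := hm ⟨hb, hbI⟩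
    exact Ideal.add_mem (𝔫 * I) ha hb2
  have h9 : x ∈ 𝔫 • (⊤ : Submodule P I) := by
    rw [Submodule.mem_smul_top_iff]
    exact h7
  exact (one_tmul_eq_zero_iff hκ x).mpr h9

end core

end Groth.Agent.Lib.Helper21.JacAdic
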