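import Mathlib
import Groth.Agent.Lib.Helper21.JacAdicA
import Groth.Agent.Lib.Helper14.EssFTLocal

set_option autoImplicit false
set_option linter.style.haveILetI false

namespace Groth.Agent.Lib.Helper21.JacAdic

open TensorProduct IsLocalRing

universe u

/-- adic formal smoothness implies formal smoothness, given a good presentation -/
theorem formallySmooth_of_isAdicFormallySmooth_of_presentation
    {R S P : Type u} [CommRing R] [CommRing S] [CommRing P] [Algebra R S] [Algebra R P]
    [Algebra P S] [IsScalarTower R P S] [IsLocalRing S] [IsNoetherianRing P]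
    [Algebra.FormallySmooth R P] [Module.Free P Ω[P⁄R]] [Module.Finite P Ω[P⁄R]]
    (h₁ : Function.Surjective (algebraMap P S))
    (h : CAlgX.IsAdicFormallySmooth R S (maximalIdeal S)) : Algebra.FormallySmooth R S :=
  (Algebra.FormallySmooth.iff_injective_cotangentComplexBaseChange_residueField P h₁
    (IsNoetherian.noetherian _)).mpr
    (injective_cotangentComplexBaseChange_of_isAdicFormallySmooth h₁ h)

open Groth.Agent.Lib.Helper14 in
/-- for local algebras essentially of finite type over a Noetherian ring, adic formal smoothness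
implies formal smoothness -/
theorem formallySmooth_of_isAdicFormallySmooth_of_essFiniteType
    {R S : Type u} [CommRing R] [CommRing S] [Algebra R S] [IsNoetherianRing R] [IsLocalRing S]
    [Algebra.EssFiniteType R S]
    (h : CAlgX.IsAdicFormallySmooth R S (maximalIdeal S)) : Algebra.FormallySmooth R S := by
  obtain ⟨n, φ₀, hφ₀⟩ := Algebra.FiniteType.iff_quotient_mvPolynomial''.mp
    (inferInstance : Algebra.FiniteType R (Algebra.EssFiniteType.subalgebra R S))
  let ψ₀ : MvPolynomial (Fin n) R →ₐ[R] S := (Algebra.EssFiniteType.subalgebra R S).val.comp φ₀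
  let P := Localization.AtPrime (comapMax ψ₀)
  let ψ : P →ₐ[R] S := atPrimeLift ψ₀
  letI : Algebra P S := ψ.toRingHom.toAlgebra
  haveI : IsScalarTower R P S := IsScalarTower.of_algebraMap_eq (fun r => (ψ.commutes r).symm)
  have hsurj : Function.Surjective (algebraMap P S) := by
    apply atPrimeLift_surjective ψ₀
    intro b
    obtain ⟨⟨x, s⟩, hxs⟩ := IsLocalization.surj (Algebra.EssFiniteType.submonoid R S) b
    obtain ⟨a, ha⟩ := hφ₀ x
    obtain ⟨t, ht⟩ := hφ₀ (s : Algebra.EssFiniteType.subalgebra R S)
    refine ⟨a, t, ?_, ?_⟩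
    · show IsUnit ((Algebra.EssFiniteType.subalgebra R S).val (φ₀ t))
      rw [ht]
      exact s.2
    · show b * (Algebra.EssFiniteType.subalgebra R S).val (φ₀ t) =
        (Algebra.EssFiniteType.subalgebra R S).val (φ₀ a)
      rw [ht, ha]
      exact hxs
  haveI : IsNoetherianRing P :=
    IsLocalization.isNoetherianRing (comapMax ψ₀).primeCompl P inferInstance
  haveI : Algebra.FormallySmooth (MvPolynomial (Fin n) R) P :=
    Algebra.FormallySmooth.of_isLocalization (comapMax ψ₀).primeCompl
  haveI : Algebra.FormallySmooth R P := Algebra.FormallySmooth.comp R (MvPolynomial (Fin n) R) P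
  haveI : Module.Finite P Ω[P⁄R] := inferInstance
  haveI : Module.Free P Ω[P⁄R] := Module.free_of_flat_of_isLocalRing
  exact formallySmooth_of_isAdicFormallySmooth_of_presentation hsurj h

end Groth.Agent.Lib.Helper21.JacAdic
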