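import Mathlib

/-!
# Approximating a chain complex by one with terms in a class (EGA 0_III 11.9.1)
-/

namespace Groth.Agent.Lib.Helper21.CxApprox

open CategoryTheory CategoryTheory.Limits

universe v u

variable {C : Type u} [Category.{v} C] [Abelian C]
  (K' K'' : ObjectProperty C) [K'.IsClosedUnderIsomorphisms] [K''.IsClosedUnderIsomorphisms]
  (hsub : K'' ≤ K')
  (h1 : ∀ ⦃A A' : C⦄ (u : A ⟶ A'), K' A' → Epi u → ∃ (B : C) (v : B ⟶ A), K'' B ∧ Epi (v ≫ u))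
  (h2 : ∀ ⦃A B : C⦄ (u : A ⟶ B), K' A → K' B → Epi u → K' (kernel u))
  (h3 : ∀ ⦃B B' : C⦄, K'' B → K'' B' → K'' (B ⨯ B'))
  (P : ChainComplex C ℕ) (hP : ∀ i, K' (P.homology i))

include hsub h1 h2 h3 hP in
theorem attach (n : ℕ) (X : C) (u : X ⟶ P.X n) (Z : C) (ι : Z ⟶ X) [Mono ι]
    (cyc : Z ⟶ P.cycles n) (hcyc : cyc ≫ P.iCycles n = ι ≫ u) (hZ : K' Z)
    (hepi : Epi (cyc ≫ P.homologyπ n)) :
    ∃ (X' : C) (d : X' ⟶ X) (u' : X' ⟶ P.X (n + 1)) (cyc' : kernel d ⟶ P.cycles (n + 1)),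
      K'' X' ∧ (∃ dz : X' ⟶ Z, dz ≫ ι = d) ∧ u' ≫ P.d (n + 1) n = d ≫ u ∧ K' (kernel d) ∧
      cyc' ≫ P.iCycles (n + 1) = kernel.ι d ≫ u' ∧ Epi (cyc' ≫ P.homologyπ (n + 1)) ∧
      (∀ ⦃A : C⦄ (x : A ⟶ Z) (y₁ : A ⟶ P.X (n + 1)), x ≫ ι ≫ u = y₁ ≫ P.d (n + 1) n →
        ∃ (A' : C) (π : A' ⟶ A) (_ : Epi π) (x₁ : A' ⟶ X'), π ≫ x ≫ ι = x₁ ≫ d) := by
  -- N = kernel of Z → H_n
  have hN : K' (kernel (cyc ≫ P.homologyπ n)) := h2 _ hZ (hP n) hepi
  -- M = pullback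
  have hpM : Epi (pullback.fst (kernel.ι (cyc ≫ P.homologyπ n) ≫ ι ≫ u) (P.d (n + 1) n)) := by
    rw [epi_iff_surjective_up_to_refinements]
    intro A x
    have h0 : (x ≫ kernel.ι (cyc ≫ P.homologyπ n) ≫ cyc) ≫ P.homologyπ n = 0 := by
      rw [Category.assoc, Category.assoc, kernel.condition, comp_zero]
    rw [P.comp_homologyπ_eq_zero_iff_up_to_refinements (n + 1) n (by simp)] at h0
    obtain ⟨A', π, hπ, y, hy⟩ := h0
    refine ⟨A', π, hπ, pullback.lift (π ≫ x) y ?_, ?_⟩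
    · have := congrArg (fun t => t ≫ P.iCycles n) hy
      simp only [Category.assoc, HomologicalComplex.toCycles_i] at this
      rw [Category.assoc, ← hcyc]
      simpa using this
    · rw [pullback.lift_fst]
  obtain ⟨B', v', hB', hv'⟩ := h1 _ hN hpM
  obtain ⟨B'', v'', hB'', hv''⟩ := h1 (P.homologyπ (n + 1)) (hP (n + 1)) inferInstance
  have hpb : pullback.fst (kernel.ι (cyc ≫ P.homologyπ n) ≫ ι ≫ u) (P.d (n + 1) n) ≫
      kernel.ι (cyc ≫ P.homologyπ n) ≫ ι ≫ u =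
      pullback.snd (kernel.ι (cyc ≫ P.homologyπ n) ≫ ι ≫ u) (P.d (n + 1) n) ≫ P.d (n + 1) n :=
    pullback.condition
  obtain ⟨dN, hdN⟩ : ∃ dN : B' ⊞ B'' ⟶ kernel (cyc ≫ P.homologyπ n),
      dN = biprod.desc (v' ≫ pullback.fst (kernel.ι (cyc ≫ P.homologyπ n) ≫ ι ≫ u)
        (P.d (n + 1) n)) 0 := ⟨_, rfl⟩
  have hinl : biprod.inl ≫ dN = v' ≫ pullback.fst (kernel.ι (cyc ≫ P.homologyπ n) ≫ ι ≫ u)
      (P.d (n + 1) n) := by rw [hdN, biprod.inl_desc]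
  have hinr : biprod.inr ≫ dN = 0 := by rw [hdN, biprod.inr_desc]
  have hEdN : Epi dN := epi_of_epi_fac hinl
  obtain ⟨u', hu'⟩ : ∃ u' : B' ⊞ B'' ⟶ P.X (n + 1),
      u' = biprod.desc (v' ≫ pullback.snd (kernel.ι (cyc ≫ P.homologyπ n) ≫ ι ≫ u)
        (P.d (n + 1) n)) (v'' ≫ P.iCycles (n + 1)) := ⟨_, rfl⟩
  have hinl' : biprod.inl ≫ u' = v' ≫ pullback.snd (kernel.ι (cyc ≫ P.homologyπ n) ≫ ι ≫ u)
      (P.d (n + 1) n) := by rw [hu', biprod.inl_desc]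
  have hinr' : biprod.inr ≫ u' = v'' ≫ P.iCycles (n + 1) := by rw [hu', biprod.inr_desc]
  have hX' : K'' (B' ⊞ B'') := K''.prop_of_iso (biprod.isoProd B' B'').symm (h3 hB' hB'')
  have comm : u' ≫ P.d (n + 1) n = (dN ≫ kernel.ι (cyc ≫ P.homologyπ n) ≫ ι) ≫ u := by
    apply biprod.hom_ext'
    · have e1 : biprod.inl ≫ (dN ≫ kernel.ι (cyc ≫ P.homologyπ n) ≫ ι) ≫ u =
          (v' ≫ pullback.fst (kernel.ι (cyc ≫ P.homologyπ n) ≫ ι ≫ u) (P.d (n + 1) n)) ≫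
            kernel.ι (cyc ≫ P.homologyπ n) ≫ ι ≫ u := by
        rw [← hinl]; simp only [Category.assoc]
      rw [e1, ← Category.assoc, hinl', Category.assoc, ← hpb, Category.assoc]
    · rw [← Category.assoc, hinr', Category.assoc, HomologicalComplex.iCycles_d, comp_zero,
        Category.assoc, ← Category.assoc, hinr, zero_comp]
  have hMono : Mono (kernel.ι (cyc ≫ P.homologyπ n) ≫ ι) := mono_comp _ _
  have hker : K' (kernel (dN ≫ kernel.ι (cyc ≫ P.homologyπ n) ≫ ι)) :=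
    K'.prop_of_iso (kernelCompMono dN (kernel.ι (cyc ≫ P.homologyπ n) ≫ ι)).symm
      (h2 dN (hsub _ hX') hN hEdN)
  have hk0 : (kernel.ι (dN ≫ kernel.ι (cyc ≫ P.homologyπ n) ≫ ι) ≫ u') ≫ P.d (n + 1) n = 0 := by
    rw [Category.assoc, comm]
    exact (kernel.condition_assoc _ u).trans zero_comp
  refine ⟨B' ⊞ B'', dN ≫ kernel.ι (cyc ≫ P.homologyπ n) ≫ ι, u',
    P.liftCycles (kernel.ι _ ≫ u') n (by simp) hk0, hX',
    ⟨dN ≫ kernel.ι (cyc ≫ P.homologyπ n), by rw [Category.assoc]⟩, comm, hker,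
    P.liftCycles_i _ _ _ _, ?_, ?_⟩
  · have h0 : (biprod.inr : B'' ⟶ B' ⊞ B'') ≫ (dN ≫ kernel.ι (cyc ≫ P.homologyπ n) ≫ ι) = 0 := by
      rw [← Category.assoc, hinr, zero_comp]
    have h1' : kernel.lift _ biprod.inr h0 ≫
        P.liftCycles (kernel.ι (dN ≫ kernel.ι (cyc ≫ P.homologyπ n) ≫ ι) ≫ u') n (by simp) hk0 =
        v'' := by
      rw [← cancel_mono (P.iCycles (n + 1)), Category.assoc, P.liftCycles_i, ← Category.assoc,
        kernel.lift_ι, hinr']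
    exact epi_of_epi_fac (show kernel.lift _ biprod.inr h0 ≫ (_ ≫ P.homologyπ (n + 1)) =
      v'' ≫ P.homologyπ (n + 1) by rw [← Category.assoc, h1'])
  · intro A x y₁ hxy
    have hx0 : x ≫ cyc ≫ P.homologyπ n = 0 := by
      rw [← Category.assoc, P.comp_homologyπ_eq_zero_iff_up_to_refinements (n + 1) n (by simp)]
      refine ⟨A, 𝟙 A, inferInstance, y₁, ?_⟩
      rw [Category.id_comp, ← cancel_mono (P.iCycles n), Category.assoc, hcyc, Category.assoc,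
        P.toCycles_i, hxy]
    obtain ⟨A', π, hπ, b, hb⟩ := surjective_up_to_refinements_of_epi
      (v' ≫ pullback.fst (kernel.ι (cyc ≫ P.homologyπ n) ≫ ι ≫ u) (P.d (n + 1) n))
      (kernel.lift _ x hx0)
    refine ⟨A', π, hπ, b ≫ biprod.inl, ?_⟩
    have hb' := congrArg (fun t => t ≫ kernel.ι (cyc ≫ P.homologyπ n) ≫ ι) hb
    simp only [Category.assoc, kernel.lift_ι_assoc] at hb'
    rw [hb', Category.assoc, ← Category.assoc biprod.inl, hinl]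
    simp only [Category.assoc]

/-- The bundled hypotheses. -/
structure Hyp : Prop where
  hsub : K'' ≤ K'
  h1 : ∀ ⦃A A' : C⦄ (u : A ⟶ A'), K' A' → Epi u → ∃ (B : C) (v : B ⟶ A), K'' B ∧ Epi (v ≫ u)
  h2 : ∀ ⦃A B : C⦄ (u : A ⟶ B), K' A → K' B → Epi u → K' (kernel u)
  h3 : ∀ ⦃B B' : C⦄, K'' B → K'' B' → K'' (B ⨯ B')
  hP : ∀ i, K' (P.homology i)

/-- A stage of the construction. -/
structure Stage (n : ℕ) where
  X : C
  u : X ⟶ P.X n
  Z : C
  ι : Z ⟶ X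
  mono : Mono ι
  cyc : Z ⟶ P.cycles n
  hcyc : cyc ≫ P.iCycles n = ι ≫ u
  hZ : K' Z
  hepi : Epi (cyc ≫ P.homologyπ n)
  hX : K'' X

variable {K' K'' P}

theorem Stage.spec (H : Hyp K' K'' P) {n : ℕ} (s : Stage K' K'' P n) :
    ∃ (X' : C) (d : X' ⟶ s.X) (u' : X' ⟶ P.X (n + 1)) (cyc' : kernel d ⟶ P.cycles (n + 1)),
      K'' X' ∧ (∃ dz : X' ⟶ s.Z, dz ≫ s.ι = d) ∧ u' ≫ P.d (n + 1) n = d ≫ s.u ∧ K' (kernel d) ∧
      cyc' ≫ P.iCycles (n + 1) = kernel.ι d ≫ u' ∧ Epi (cyc' ≫ P.homologyπ (n + 1)) ∧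
      (∀ ⦃A : C⦄ (x : A ⟶ s.Z) (y₁ : A ⟶ P.X (n + 1)), x ≫ s.ι ≫ s.u = y₁ ≫ P.d (n + 1) n →
        ∃ (A' : C) (π : A' ⟶ A) (_ : Epi π) (x₁ : A' ⟶ X'), π ≫ x ≫ s.ι = x₁ ≫ d) :=
  haveI := s.mono
  attach K' K'' H.hsub H.h1 H.h2 H.h3 P H.hP n s.X s.u s.Z s.ι s.cyc s.hcyc s.hZ s.hepi

/-- The next stage. -/
noncomputable def Stage.next (H : Hyp K' K'' P) {n : ℕ} (s : Stage K' K'' P n) :
    Stage K' K'' P (n + 1) where
  X := (s.spec H).choose
  u := (s.spec H).choose_spec.choose_spec.choose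
  Z := kernel (s.spec H).choose_spec.choose
  ι := kernel.ι _
  mono := inferInstance
  cyc := (s.spec H).choose_spec.choose_spec.choose_spec.choose
  hcyc := (s.spec H).choose_spec.choose_spec.choose_spec.choose_spec.2.2.2.2.1
  hZ := (s.spec H).choose_spec.choose_spec.choose_spec.choose_spec.2.2.2.1
  hepi := (s.spec H).choose_spec.choose_spec.choose_spec.choose_spec.2.2.2.2.2.1
  hX := (s.spec H).choose_spec.choose_spec.choose_spec.choose_spec.1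

/-- The differential from the next stage. -/
noncomputable def Stage.nd (H : Hyp K' K'' P) {n : ℕ} (s : Stage K' K'' P n) :
    (s.next H).X ⟶ s.X := (s.spec H).choose_spec.choose

theorem Stage.next_ι (H : Hyp K' K'' P) {n : ℕ} (s : Stage K' K'' P n) :
    (s.next H).ι ≫ s.nd H = 0 := kernel.condition _

theorem Stage.next_fac (H : Hyp K' K'' P) {n : ℕ} (s : Stage K' K'' P n) {A : C}
    (x : A ⟶ (s.next H).X) (hx : x ≫ s.nd H = 0) : ∃ x' : A ⟶ (s.next H).Z, x' ≫ (s.next H).ι = x :=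
  ⟨kernel.lift _ x hx, kernel.lift_ι _ _ _⟩

theorem Stage.nd_fac (H : Hyp K' K'' P) {n : ℕ} (s : Stage K' K'' P n) :
    ∃ dz : (s.next H).X ⟶ s.Z, dz ≫ s.ι = s.nd H :=
  (s.spec H).choose_spec.choose_spec.choose_spec.choose_spec.2.1

theorem Stage.next_comm (H : Hyp K' K'' P) {n : ℕ} (s : Stage K' K'' P n) :
    (s.next H).u ≫ P.d (n + 1) n = s.nd H ≫ s.u :=
  (s.spec H).choose_spec.choose_spec.choose_spec.choose_spec.2.2.1

theorem Stage.refine (H : Hyp K' K'' P) {n : ℕ} (s : Stage K' K'' P n) ⦃A : C⦄ (x : A ⟶ s.Z)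
    (y₁ : A ⟶ P.X (n + 1)) (h : x ≫ s.ι ≫ s.u = y₁ ≫ P.d (n + 1) n) :
    ∃ (A' : C) (π : A' ⟶ A) (_ : Epi π) (x₁ : A' ⟶ (s.next H).X), π ≫ x ≫ s.ι = x₁ ≫ s.nd H :=
  (s.spec H).choose_spec.choose_spec.choose_spec.choose_spec.2.2.2.2.2.2 x y₁ h

theorem base_spec (H : Hyp K' K'' P) :
    ∃ (B : C) (v : B ⟶ P.cycles 0), K'' B ∧ Epi (v ≫ P.homologyπ 0) :=
  H.h1 (P.homologyπ 0) (H.hP 0) inferInstance

/-- The base stage. -/
noncomputable def base (H : Hyp K' K'' P) : Stage K' K'' P 0 where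
  X := (base_spec H).choose
  u := (base_spec H).choose_spec.choose ≫ P.iCycles 0
  Z := (base_spec H).choose
  ι := 𝟙 _
  mono := inferInstance
  cyc := (base_spec H).choose_spec.choose
  hcyc := by rw [Category.id_comp]
  hZ := H.hsub _ (base_spec H).choose_spec.choose_spec.1
  hepi := (base_spec H).choose_spec.choose_spec.2
  hX := (base_spec H).choose_spec.choose_spec.1

/-- The sequence of stages. -/
noncomputable def seq (H : Hyp K' K'' P) : ∀ n, Stage K' K'' P n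
  | 0 => base H
  | n + 1 => (seq H n).next H

/-- The differential of the approximating complex. -/
noncomputable def dQ (H : Hyp K' K'' P) (n : ℕ) : (seq H (n + 1)).X ⟶ (seq H n).X :=
  (seq H n).nd H

theorem ι_dQ (H : Hyp K' K'' P) (n : ℕ) : (seq H (n + 1)).ι ≫ dQ H n = 0 :=
  (seq H n).next_ι H

theorem fac_of_dQ (H : Hyp K' K'' P) (n : ℕ) {A : C} (x : A ⟶ (seq H (n + 1)).X)
    (hx : x ≫ dQ H n = 0) : ∃ x' : A ⟶ (seq H (n + 1)).Z, x' ≫ (seq H (n + 1)).ι = x :=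
  (seq H n).next_fac H x hx

theorem dQ_fac (H : Hyp K' K'' P) (n : ℕ) :
    ∃ dz : (seq H (n + 1)).X ⟶ (seq H n).Z, dz ≫ (seq H n).ι = dQ H n :=
  (seq H n).nd_fac H

theorem u_comm (H : Hyp K' K'' P) (n : ℕ) :
    (seq H (n + 1)).u ≫ P.d (n + 1) n = dQ H n ≫ (seq H n).u :=
  (seq H n).next_comm H

theorem refine_dQ (H : Hyp K' K'' P) (n : ℕ) ⦃A : C⦄ (x : A ⟶ (seq H n).Z)
    (y₁ : A ⟶ P.X (n + 1)) (h : x ≫ (seq H n).ι ≫ (seq H n).u = y₁ ≫ P.d (n + 1) n) :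
    ∃ (A' : C) (π : A' ⟶ A) (_ : Epi π) (x₁ : A' ⟶ (seq H (n + 1)).X),
      π ≫ x ≫ (seq H n).ι = x₁ ≫ dQ H n :=
  (seq H n).refine H x y₁ h

theorem seq_sq (H : Hyp K' K'' P) (n : ℕ) : dQ H (n + 1) ≫ dQ H n = 0 := by
  obtain ⟨dz, hdz⟩ := dQ_fac H (n + 1)
  rw [← hdz, Category.assoc, ι_dQ, comp_zero]

/-- The approximating complex. -/
noncomputable def Q (H : Hyp K' K'' P) : ChainComplex C ℕ :=
  ChainComplex.of (fun n => (seq H n).X) (dQ H) (seq_sq H)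

theorem Q_d (H : Hyp K' K'' P) (n : ℕ) : (Q H).d (n + 1) n = dQ H n :=
  ChainComplex.of_d (fun n => (seq H n).X) (dQ H) n

/-- The comparison map. -/
noncomputable def φ (H : Hyp K' K'' P) : Q H ⟶ P where
  f n := (seq H n).u
  comm' i j hij := by
    have hij' : j + 1 = i := hij
    subst hij'
    rw [Q_d]
    exact (u_comm H j)

omit [K'.IsClosedUnderIsomorphisms] [K''.IsClosedUnderIsomorphisms] in
theorem quasiIsoAt_of {Q' P : ChainComplex C ℕ} (φ : Q' ⟶ P) (j : ℕ) {Z : C} (ι : Z ⟶ Q'.X j)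
    (cyc : Z ⟶ P.cycles j) (hcyc : cyc ≫ P.iCycles j = ι ≫ φ.f j)
    (hepi : Epi (cyc ≫ P.homologyπ j))
    (hι : ι ≫ Q'.d j ((ComplexShape.down ℕ).next j) = 0)
    (hfac : ∀ ⦃A : C⦄ (x₂ : A ⟶ Q'.X j), x₂ ≫ Q'.d j ((ComplexShape.down ℕ).next j) = 0 →
      ∃ x : A ⟶ Z, x ≫ ι = x₂)
    (hmono : ∀ ⦃A : C⦄ (x : A ⟶ Z) (y₁ : A ⟶ P.X (j + 1)),
      x ≫ ι ≫ φ.f j = y₁ ≫ P.d (j + 1) j →
      ∃ (A' : C) (π : A' ⟶ A) (_ : Epi π) (x₁ : A' ⟶ Q'.X (j + 1)),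
        π ≫ x ≫ ι = x₁ ≫ Q'.d (j + 1) j) :
    QuasiIsoAt φ j := by
  rw [quasiIsoAt_iff_isIso_homologyMap]
  have hm : Mono (HomologicalComplex.homologyMap φ j) := by
    rw [HomologicalComplex.mono_homologyMap_iff_up_to_refinements φ (j + 1) j _ (by simp) rfl]
    intro A x₂ hx₂ y₁ hy
    obtain ⟨x, hx⟩ := hfac x₂ hx₂
    obtain ⟨A', π, hπ, x₁, h⟩ := hmono x y₁ (by rw [← Category.assoc, hx, hy])
    exact ⟨A', π, hπ, x₁, by rw [← hx, h]⟩
  have he : Epi (HomologicalComplex.homologyMap φ j) := by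
    have h0 : (Q'.liftCycles ι _ rfl hι ≫ Q'.homologyπ j) ≫ HomologicalComplex.homologyMap φ j =
        cyc ≫ P.homologyπ j := by
      rw [Category.assoc, HomologicalComplex.homologyπ_naturality, ← Category.assoc]
      congr 1
      rw [← cancel_mono (P.iCycles j), Category.assoc, HomologicalComplex.cyclesMap_i,
        HomologicalComplex.liftCycles_i_assoc, hcyc]
    exact epi_of_epi_fac h0
  exact isIso_of_mono_of_epi _

theorem quasiIso_φ (H : Hyp K' K'' P) : QuasiIso (φ H) := by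
  refine ⟨fun j => ?_⟩
  cases j with
  | zero =>
    refine quasiIsoAt_of (φ H) 0 (seq H 0).ι (seq H 0).cyc (seq H 0).hcyc (seq H 0).hepi ?_ ?_ ?_
    · rw [ChainComplex.next_nat_zero, (Q H).shape _ _ (by simp)]
      exact comp_zero
    · intro A x₂ _
      exact ⟨x₂, Category.comp_id _⟩
    · intro A x y₁ h
      rw [Q_d]
      exact refine_dQ H 0 x y₁ h
  | succ n =>
    refine quasiIsoAt_of (φ H) (n + 1) (seq H (n + 1)).ι (seq H (n + 1)).cyc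
      (seq H (n + 1)).hcyc (seq H (n + 1)).hepi ?_ ?_ ?_
    · rw [ChainComplex.next_nat_succ, Q_d]
      exact ι_dQ H n
    · intro A x₂ hx₂
      rw [ChainComplex.next_nat_succ, Q_d] at hx₂
      exact fac_of_dQ H n x₂ hx₂
    · intro A x y₁ h
      rw [Q_d]
      exact refine_dQ H (n + 1) x y₁ h

theorem Q_X_mem (H : Hyp K' K'' P) (n : ℕ) : K'' ((Q H).X n) := (seq H n).hX

/-- The embedding `n ↦ d + n` of `down ℕ` into `down ℤ`. -/
def emb (d : ℤ) : (ComplexShape.down ℕ).Embedding (ComplexShape.down ℤ) :=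
  ComplexShape.Embedding.mk' _ _ (fun n => d + n)
    (fun a b h => by have h' : d + (a : ℤ) = d + (b : ℤ) := h; lia)
    (by
      intro i j
      simp only [ComplexShape.down_Rel]
      lia)

theorem emb_f (d : ℤ) (n : ℕ) : (emb d).f n = d + n := rfl

instance (d : ℤ) : (emb d).IsRelIff where
  rel' i j h := by
    rw [emb_f, emb_f] at h
    simp only [ComplexShape.down_Rel] at h ⊢
    lia

instance (d : ℤ) : (emb d).IsTruncLE where
  mem_prev {i' j} h := ⟨j + 1, by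
    rw [emb_f] at h ⊢
    simp only [ComplexShape.down_Rel] at h
    push_cast
    lia⟩

theorem exists_emb (d n : ℤ) (h : d ≤ n) : ∃ i : ℕ, (emb d).f i = n :=
  ⟨(n - d).toNat, by rw [emb_f, Int.toNat_of_nonneg (by lia)]; lia⟩

theorem notMem_range_emb_iff (d n : ℤ) : (∀ i : ℕ, (emb d).f i ≠ n) ↔ n < d := by
  constructor
  · intro h
    by_contra h'
    obtain ⟨i, hi⟩ := exists_emb d n (by lia)
    exact h i hi
  · intro h i
    rw [emb_f]
    lia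

theorem exists_int (H0 : K'' ≤ K')
    (h1 : ∀ ⦃A A' : C⦄ (u : A ⟶ A'), K' A' → Epi u → ∃ (B : C) (v : B ⟶ A), K'' B ∧ Epi (v ≫ u))
    (h2 : ∀ ⦃A B : C⦄ (u : A ⟶ B), K' A → K' B → Epi u → K' (kernel u))
    (h3 : ∀ ⦃B B' : C⦄, K'' B → K'' B' → K'' (B ⨯ B'))
    (P : ChainComplex C ℤ) (hP : ∀ i, K' (P.homology i)) (d : ℤ)
    (hd : ∀ i < d, IsZero (P.homology i)) :
    ∃ (Q : ChainComplex C ℤ) (u : Q ⟶ P),
      (∀ i, d ≤ i → K'' (Q.X i)) ∧ (∀ i < d, IsZero (Q.X i)) ∧ QuasiIso u := by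
  have hsupp : P.IsSupported (emb d) := ⟨fun i' hi' => by
    rw [HomologicalComplex.exactAt_iff_isZero_homology]
    exact hd i' ((notMem_range_emb_iff d i').1 hi')⟩
  have hqi : QuasiIso (P.ιTruncLE (emb d)) :=
    (P.quasiIso_ιTruncLE_iff_isSupported (emb d)).2 hsupp
  have hP' : ∀ n, K' ((P.truncLE' (emb d)).homology n) := by
    intro n
    have e1 : ((P.truncLE' (emb d)).extend (emb d)).homology ((emb d).f n) ≅
        (P.truncLE' (emb d)).homology n := (P.truncLE' (emb d)).extendHomologyIso (emb d) rfl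
    have e2 : (P.truncLE (emb d)).homology ((emb d).f n) ≅
        ((P.truncLE' (emb d)).extend (emb d)).homology ((emb d).f n) :=
      (HomologicalComplex.homologyFunctor C _ ((emb d).f n)).mapIso (P.truncLEIso (emb d))
    have e3 : (P.truncLE (emb d)).homology ((emb d).f n) ≅ P.homology ((emb d).f n) :=
      asIso (HomologicalComplex.homologyMap (P.ιTruncLE (emb d)) ((emb d).f n))
    exact K'.prop_of_iso (e3.symm ≪≫ e2 ≪≫ e1) (hP _)
  have H : Hyp K' K'' (P.truncLE' (emb d)) := ⟨H0, h1, h2, h3, hP'⟩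
  have hq := quasiIso_φ H
  refine ⟨(Q H).extend (emb d), HomologicalComplex.extendMap (φ H) (emb d) ≫
    (P.truncLEIso (emb d)).inv ≫ P.ιTruncLE (emb d), ?_, ?_, ?_⟩
  · intro i hi
    obtain ⟨n, rfl⟩ := exists_emb d i hi
    exact K''.prop_of_iso ((Q H).extendXIso (emb d) rfl).symm (Q_X_mem H n)
  · intro i hi
    exact (Q H).isZero_extend_X (emb d) i ((notMem_range_emb_iff d i).2 hi)
  · have : QuasiIso (HomologicalComplex.extendMap (φ H) (emb d)) :=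
      (HomologicalComplex.quasiIso_extendMap_iff (φ H) (emb d)).2 hq
    infer_instance

end Groth.Agent.Lib.Helper21.CxApprox
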