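import Mathlib
import Groth.Agent.Lib.Helper21.CxApprox

/-!
# Approximating complexes of modules by finite free complexes
-/

namespace Groth.Agent.Lib.Helper21.CxApproxMod

open CategoryTheory CategoryTheory.Limits

universe u

variable {A : Type u} [CommRing A]

/-- Finite modules. -/
def Kfin : ObjectProperty (ModuleCat.{u} A) := fun M => Module.Finite A M

/-- Finite free modules. -/
def Kff : ObjectProperty (ModuleCat.{u} A) := fun M => Module.Finite A M ∧ Module.Free A M

instance : (Kfin (A := A)).IsClosedUnderIsomorphisms where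
  of_iso {M _} e (_ : Module.Finite A M) := Module.Finite.equiv e.toLinearEquiv

instance : (Kff (A := A)).IsClosedUnderIsomorphisms where
  of_iso {M N} e h := by
    obtain ⟨h1, h2⟩ := h
    exact ⟨Module.Finite.equiv e.toLinearEquiv, Module.Free.of_equiv e.toLinearEquiv⟩

theorem exists_ff [IsNoetherianRing A]
    (P : ChainComplex (ModuleCat.{u} A) ℤ) (hP : ∀ i, Module.Finite A (P.homology i)) (d : ℤ)
    (hd : ∀ i < d, IsZero (P.homology i)) :
    ∃ (Q : ChainComplex (ModuleCat.{u} A) ℤ) (u : Q ⟶ P),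
      (∀ i, Module.Finite A (Q.X i) ∧ Module.Free A (Q.X i)) ∧ (∀ i < d, IsZero (Q.X i)) ∧
        QuasiIso u := by
  have hh1 : ∀ ⦃M M' : ModuleCat.{u} A⦄ (f : M ⟶ M'), Kfin M' → Epi f →
      ∃ (B : ModuleCat.{u} A) (v : B ⟶ M), Kff B ∧ Epi (v ≫ f) := by
    intro M M' f (hM' : Module.Finite A M') hf
    obtain ⟨n, g, hg⟩ := Module.Finite.exists_fin' A M'
    obtain ⟨h, hh⟩ := Module.projective_lifting_property f.hom g
      ((ModuleCat.epi_iff_surjective f).1 hf)
    refine ⟨ModuleCat.of A (Fin n → A), ModuleCat.ofHom h, ⟨?_, ?_⟩, ?_⟩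
    · exact inferInstanceAs (Module.Finite A (Fin n → A))
    · exact inferInstanceAs (Module.Free A (Fin n → A))
    · rw [ModuleCat.epi_iff_surjective]
      intro x
      obtain ⟨y, rfl⟩ := hg x
      exact ⟨y, by rw [← hh]; rfl⟩
  have hh2 : ∀ ⦃M N : ModuleCat.{u} A⦄ (f : M ⟶ N), Kfin M → Kfin N → Epi f →
      Kfin (kernel f) := by
    intro M N f (hM : Module.Finite A M) (hN : Module.Finite A N) _
    have : IsNoetherian A M := isNoetherian_of_isNoetherianRing_of_finite A M
    have : Module.Finite A (LinearMap.ker f.hom) := inferInstance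
    exact Module.Finite.equiv (ModuleCat.kernelIsoKer f).symm.toLinearEquiv
  have hh3 : ∀ ⦃B B' : ModuleCat.{u} A⦄, Kff B → Kff B' → Kff (B ⨯ B') := by
    intro B B' hB hB'
    obtain ⟨h1, h2⟩ := hB
    obtain ⟨h1', h2'⟩ := hB'
    have e : B ⨯ B' ≅ ModuleCat.of A (B × B') :=
      (biprod.isoProd B B').symm ≪≫ ModuleCat.biprodIsoProd B B'
    exact ⟨Module.Finite.equiv e.symm.toLinearEquiv, Module.Free.of_equiv e.symm.toLinearEquiv⟩
  obtain ⟨Q, u, h1, h2, h3⟩ := CxApprox.exists_int (K' := Kfin (A := A)) (K'' := Kff (A := A))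
    (fun M h => h.1) hh1 hh2 hh3 P hP d hd
  refine ⟨Q, u, fun i => ?_, h2, h3⟩
  by_cases hi : d ≤ i
  · exact h1 i hi
  · have := ModuleCat.subsingleton_of_isZero (h2 i (by lia))
    exact ⟨inferInstance, inferInstance⟩

end Groth.Agent.Lib.Helper21.CxApproxMod
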