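import Mathlib
import Groth.Prelude.Def_ModSite
import Groth.Agent.Lib.Helper13.ModSiteFlatSES

/-!
# Sheafification of presheaves of modules sends locally injective maps to monomorphisms
-/

set_option autoImplicit false
universe v v₁ u₁ u

open CategoryTheory Opposite MonoidalCategory
open Groth.Agent.Lib.Helper13.TensorLocal

namespace Groth.Agent.Lib.Helper21.StalkFlatA

section Sheafification

variable {C : Type u₁} [Category.{v₁} C] {J : GrothendieckTopology C}
variable {R₀ : Cᵒᵖ ⥤ RingCat.{u}} {R : Sheaf J RingCat.{u}} (α : R₀ ⟶ R.obj)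
  [Presheaf.IsLocallyInjective J α] [Presheaf.IsLocallySurjective J α]
  [J.WEqualsLocallyBijective AddCommGrpCat.{v}] [HasWeakSheafify J AddCommGrpCat.{v}]

/-- Sheafification of presheaves of modules sends locally injective morphisms to monos. -/
theorem mono_sheafification_map {P P' : PresheafOfModules.{v} R₀} (g : P ⟶ P')
    (hi : LocInj J g) :
    Mono ((PresheafOfModules.sheafification α).map g) := by
  have h2 := isLocallyInjective_of_locInj hi
  have h3 : Sheaf.IsLocallyInjective ((presheafToSheaf J AddCommGrpCat.{v}).map
      ((PresheafOfModules.toPresheaf R₀).map g)) :=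
    (Presheaf.isLocallyInjective_presheafToSheaf_map_iff (J := J) _).2 h2
  have h4 : Mono ((presheafToSheaf J AddCommGrpCat.{v}).map
      ((PresheafOfModules.toPresheaf R₀).map g)) := Sheaf.mono_of_isLocallyInjective _
  have h5 : Mono ((SheafOfModules.toSheaf R).map ((PresheafOfModules.sheafification α).map g)) :=
    h4
  exact Functor.mono_of_mono_map (SheafOfModules.toSheaf R) h5

end Sheafification

section ModSite

open Groth.Agent.Lib.Helper13.ModSiteTensor Groth.Agent.Lib.Helper13.ModSiteFlatSES

variable {C : Type u} [SmallCategory C] {J : GrothendieckTopology C} {O : Sheaf J CommRingCat.{u}}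

/-- Flatness criterion: `F` is flat as soon as `φ ▷ F` is locally injective (on presheaves)
for every monomorphism `φ` of sheaves of modules. -/
theorem isFlat_of_locInj (F : ModSite.Mod O)
    (h : ∀ {G' G : ModSite.Mod O} (a : G' ⟶ G), Mono a →
      LocInj J ((fgt O).map a ▷ (fgt O).obj F)) : ModSite.IsFlat F := by
  apply isFlat_of_mono
  intro G' G a ha
  exact mono_sheafification_map (𝟙 (ModSite.ringSh O).obj) _ (h a ha)

end ModSite

end Groth.Agent.Lib.Helper21.StalkFlatA
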