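import Mathlib
import Groth.Agent.Lib.Helper13.TensorLocal

/-!
# Spreading out finitely many germs / equations of germs
-/

set_option autoImplicit false
universe v u

open CategoryTheory Opposite TopologicalSpace CategoryTheory.Limits

namespace Groth.Agent.Lib.Helper21.StalkFlatB

/-- Finitely many downward-closed properties each holding on some neighbourhood of `x` hold
simultaneously on a neighbourhood contained in a given one. -/
theorem exists_nbhd_forall {X : Type*} [TopologicalSpace X] (x : X) {ι : Type*} [Finite ι]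
    (U : Opens X) (hxU : x ∈ U) (Q : ι → Opens X → Prop)
    (hQ : ∀ i (V W : Opens X), W ≤ V → Q i V → Q i W)
    (h : ∀ i, ∃ V : Opens X, x ∈ V ∧ Q i V) :
    ∃ V : Opens X, V ≤ U ∧ x ∈ V ∧ ∀ i, Q i V := by
  choose V hxV hV using h
  refine ⟨U ⊓ ⨅ i, V i, inf_le_left, ⟨hxU, ?_⟩,
    fun i => hQ i _ _ (inf_le_right.trans (iInf_le _ i)) (hV i)⟩
  have : x ∈ ((⨅ i, V i : Opens X) : Set X) := by
    rw [Opens.coe_iInf]
    exact Set.mem_iInter.2 hxV
  exact this

section Presheaf

variable {C : Type u} [Category.{v} C] [HasColimits.{v} C] {X : TopCat.{v}}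
variable {FC : C → C → Type*} {CC : C → Type v} [∀ X Y, FunLike (FC X Y) (CC X) (CC Y)]
variable [ConcreteCategory.{v} C FC] [PreservesFilteredColimits (forget C)]

/-- Lift a finite family of germs to a common neighbourhood. -/
theorem exists_lift_family (F : X.Presheaf C) (x : X) (U : Opens X) (hxU : x ∈ U)
    {ι : Type*} [Finite ι] (s : ι → ToType (F.stalk x)) :
    ∃ (W : Opens X) (_ : W ≤ U) (m : x ∈ W) (t : ι → ToType (F.obj (op W))),
      ∀ i, F.germ W x m (t i) = s i := by
  obtain ⟨W, hWU, hxW, hW⟩ := exists_nbhd_forall x U hxU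
    (fun i V => ∀ m : x ∈ V, ∃ t : ToType (F.obj (op V)), F.germ V x m t = s i)
    (fun i V W hWV hV m => by
      obtain ⟨t, ht⟩ := hV (hWV m)
      exact ⟨F.map (homOfLE hWV).op t, (F.germ_res_apply (homOfLE hWV) x m t).trans ht⟩)
    (fun i => by
      obtain ⟨V, m, t, ht⟩ := F.exists_germ_eq (s i)
      exact ⟨V, m, fun _ => ⟨t, ht⟩⟩)
  choose t ht using fun i => hW i hxW
  exact ⟨W, hWU, hxW, t, ht⟩

/-- Two sections with the same germ agree on a neighbourhood (in downward closed form). -/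
theorem exists_nbhd_res_eq (F : X.Presheaf C) (x : X) (W : Opens X) (hxW : x ∈ W)
    (s t : ToType (F.obj (op W))) (h : F.germ W x hxW s = F.germ W x hxW t) :
    ∃ V : Opens X, x ∈ V ∧ ∀ V' : Opens X, V' ≤ V → ∀ hVW : V' ≤ W,
      F.map (homOfLE hVW).op s = F.map (homOfLE hVW).op t := by
  obtain ⟨V, hxV, iU, iV, e⟩ := F.germ_eq x hxW hxW s t h
  refine ⟨V, hxV, fun V' hV'V hV'W => ?_⟩
  have h1 : (homOfLE hV'W).op = iU.op ≫ (homOfLE hV'V).op := Subsingleton.elim _ _
  have h2 : (homOfLE hV'W).op = iV.op ≫ (homOfLE hV'V).op := Subsingleton.elim _ _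
  have e1 : F.map (homOfLE hV'W).op s = F.map (homOfLE hV'V).op (F.map iU.op s) := by
    rw [h1, F.map_comp, ConcreteCategory.comp_apply]
  have e2 : F.map (homOfLE hV'W).op t = F.map (homOfLE hV'V).op (F.map iV.op t) := by
    rw [h2, F.map_comp, ConcreteCategory.comp_apply]
  rw [e1, e2, e]

end Presheaf

end Groth.Agent.Lib.Helper21.StalkFlatB
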