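import Mathlib
import Groth.Agent.Lib.Helper13.TensorLocal
import Groth.Agent.Lib.Helper21.StalkFlatB

/-!
# Tensoring with a presheaf of modules with flat stalks preserves local injectivity
-/

set_option autoImplicit false
universe u

open CategoryTheory Opposite TopologicalSpace MonoidalCategory TensorProduct
open Groth.Agent.Lib.Helper13 Groth.Agent.Lib.Helper13.TensorLocal

namespace Groth.Agent.Lib.Helper21.StalkFlatC

variable {X : TopCat.{u}} {R : X.Presheaf CommRingCat.{u}}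

/-- The germ map as a semilinear map. -/
noncomputable def germₛₗ (P : PresheafOfModules.{u} (R ⋙ forget₂ _ _)) (U : Opens X) (x : X)
    (hx : x ∈ U) :
    P.obj (op U) →ₛₗ[(R.germ U x hx).hom] ↑(TopCat.Presheaf.stalk P.presheaf x) where
  toFun := TopCat.Presheaf.germ P.presheaf U x hx
  map_add' := map_add _
  map_smul' r m := PresheafOfModules.germ_smul P x U hx r m

lemma germₛₗ_apply (P : PresheafOfModules.{u} (R ⋙ forget₂ _ _)) (U : Opens X) (x : X)
    (hx : x ∈ U) (m : P.obj (op U)) :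
    germₛₗ P U x hx m = TopCat.Presheaf.germ P.presheaf U x hx m := rfl

lemma germₛₗ_res (P : PresheafOfModules.{u} (R ⋙ forget₂ _ _)) {U V : Opens X} (hVU : V ≤ U)
    (x : X) (hx : x ∈ V) (m : P.obj (op U)) :
    germₛₗ P V x hx (P.restrictₛₗ (homOfLE hVU).op m) = germₛₗ P U x (hVU hx) m :=
  TopCat.Presheaf.germ_res_apply P.presheaf (homOfLE hVU) x hx m

lemma restrict_comp (P : PresheafOfModules.{u} (R ⋙ forget₂ _ _)) {U W V : Opens X} (hWU : W ≤ U)
    (hVW : V ≤ W) (m : P.obj (op U)) :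
    P.restrictₛₗ (homOfLE hVW).op (P.restrictₛₗ (homOfLE hWU).op m) =
      P.restrictₛₗ (homOfLE (hVW.trans hWU)).op m := by
  have h : (homOfLE (hVW.trans hWU)).op = (homOfLE hWU).op ≫ (homOfLE hVW).op :=
    Subsingleton.elim _ _
  simp only [PresheafOfModules.restrictₛₗ_apply]
  rw [h, PresheafOfModules.map_comp_apply]

theorem locInj_whiskerRight_of_flat_stalks {P' P : PresheafOfModules.{u} (R ⋙ forget₂ _ _)}
    (f : P' ⟶ P) (hf : ∀ U : (Opens X)ᵒᵖ, Function.Injective (f.app U))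
    (N : PresheafOfModules.{u} (R ⋙ forget₂ _ _))
    (hN : ∀ x : X, Module.Flat (R.stalk x) ↑(TopCat.Presheaf.stalk N.presheaf x)) :
    LocInj (Opens.grothendieckTopology X) (f ▷ N) := by
  intro U t ht
  let K : Sieve U :=
    { arrows := fun V g => (P' ⊗ N).map g.op t = 0
      downward_closed := by
        intro V W g hg h
        show (P' ⊗ N).map (h ≫ g).op t = 0
        have e1 := PresheafOfModules.map_comp_apply (P' ⊗ N) g.op h.op t
        rw [op_comp, e1]
        exact (congrArg ((P' ⊗ N).map h.op).hom hg).trans (map_zero ((P' ⊗ N).map h.op).hom) }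
  refine ⟨K, ?_, fun V g hg => hg⟩
  intro x hxU
  obtain ⟨k, p, n, hpn⟩ := TensorProduct.exists_sum_tmul_eq (R := R.obj (op U))
    (M := P'.obj (op U)) (N := N.obj (op U)) t
  have h0 : ∑ i, (f.app (op U)).hom (p i) ⊗ₜ[R.obj (op U)] n i = 0 := by
    have h1 : (f ▷ N).app (op U) (∑ i, p i ⊗ₜ[R.obj (op U)] n i) =
        ∑ i, (f.app (op U)).hom (p i) ⊗ₜ[R.obj (op U)] n i :=
      (map_sum ((f ▷ N).app (op U)).hom _ _).trans (Finset.sum_congr rfl fun i _ => rfl)
    have ht' := ht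
    rw [hpn] at ht'
    exact h1.symm.trans ht'
  have h1 : ∑ i, germₛₗ P U x hxU ((f.app (op U)).hom (p i)) ⊗ₜ[R.stalk x]
      germₛₗ N U x hxU (n i) = 0 := by
    obtain ⟨l, κ, m', a, a', y, hn, hy, hrel⟩ :=
      TensorVanish.exists_relations_of_sum_tmul_eq_zero _ _ h0
    refine TensorVanish.semilinear_sum_tmul_eq_zero (R.germ U x hxU).hom (germₛₗ P U x hxU)
      (germₛₗ N U x hxU) _ n a a' y (fun q => germₛₗ P U x hxU (m' q)) hn hy (fun j => ?_)
    have := congrArg (germₛₗ P U x hxU) (hrel j)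
    simpa only [map_add, map_sum, map_smulₛₗ, map_zero] using this
  have hN' := hN x
  obtain ⟨κ, b, z, hz1, hz2⟩ :=
    TensorProduct.vanishesTrivially_of_sum_tmul_eq_zero_of_rTensor_injective (R.stalk x)
      (Module.Flat.rTensor_preserves_injective_linearMap _ (Submodule.injective_subtype _)) h1
  -- lift the coefficients and the `z j`
  obtain ⟨W₁, hW₁U, hxW₁, b₁, hb₁⟩ := StalkFlatB.exists_lift_family R x U hxU
    (fun ij : Fin k × Fin κ => b ij.1 ij.2)
  obtain ⟨W, hWW₁, hxW, (z' : Fin κ → N.obj (op W)), hz'⟩ :=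
    StalkFlatB.exists_lift_family N.presheaf x W₁ hxW₁ z
  let b' : Fin k → Fin κ → R.obj (op W) := fun i j => R.map (homOfLE hWW₁).op (b₁ (i, j))
  have hb' : ∀ i j, R.germ W x hxW (b' i j) = b i j := fun i j =>
    (R.germ_res_apply (homOfLE hWW₁) x hxW _).trans (hb₁ (i, j))
  have hz'' : ∀ j, germₛₗ N W x hxW (z' j) = z j := hz'
  have hWU : W ≤ U := hWW₁.trans hW₁U
  -- the equations hold on a neighbourhood
  obtain ⟨V₁, hV₁W, hxV₁, hV₁⟩ := StalkFlatB.exists_nbhd_forall x W hxW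
    (fun (i : Fin k) V => ∀ V' : Opens X, V' ≤ V → ∀ hV'W : V' ≤ W,
      N.presheaf.map (homOfLE hV'W).op (N.restrictₛₗ (homOfLE hWU).op (n i)) =
        N.presheaf.map (homOfLE hV'W).op (∑ j, b' i j • z' j))
    (fun i V V'' hle h V' hV' => h V' (hV'.trans hle))
    (fun i => StalkFlatB.exists_nbhd_res_eq N.presheaf x W hxW _ _ (by
      show germₛₗ N W x hxW (N.restrictₛₗ (homOfLE hWU).op (n i)) =
        germₛₗ N W x hxW (∑ j, b' i j • z' j)
      refine ((germₛₗ_res N hWU x hxW (n i)).trans (hz1 i)).trans ?_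
      rw [map_sum]
      refine Finset.sum_congr rfl fun j _ => ?_
      rw [map_smulₛₗ, hz'' j]
      congr 1
      exact (hb' i j).symm))
  obtain ⟨V₂, hV₂W, hxV₂, hV₂⟩ := StalkFlatB.exists_nbhd_forall x W hxW
    (fun (j : Fin κ) V => ∀ V' : Opens X, V' ≤ V → ∀ hV'W : V' ≤ W,
      P.presheaf.map (homOfLE hV'W).op
        (∑ i, b' i j • P.restrictₛₗ (homOfLE hWU).op ((f.app (op U)).hom (p i))) =
        P.presheaf.map (homOfLE hV'W).op 0)
    (fun i V V'' hle h V' hV' => h V' (hV'.trans hle))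
    (fun j => StalkFlatB.exists_nbhd_res_eq P.presheaf x W hxW _ _ (by
      show germₛₗ P W x hxW
        (∑ i, b' i j • P.restrictₛₗ (homOfLE hWU).op ((f.app (op U)).hom (p i))) =
        germₛₗ P W x hxW 0
      rw [map_zero, map_sum]
      refine (Finset.sum_congr rfl fun i _ => ?_).trans (hz2 j)
      rw [map_smulₛₗ, germₛₗ_res]
      congr 1
      exact hb' i j))
  have hVW : V₁ ⊓ V₂ ≤ W := inf_le_left.trans hV₁W
  have hVU : V₁ ⊓ V₂ ≤ U := hVW.trans hWU
  refine ⟨V₁ ⊓ V₂, homOfLE hVU, ?_, ⟨hxV₁, hxV₂⟩⟩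
  show (P' ⊗ N).map (homOfLE hVU).op t = 0
  rw [hpn]
  have e0 : (P' ⊗ N).map (homOfLE hVU).op (∑ i, p i ⊗ₜ[R.obj (op U)] n i) =
      ∑ i, P'.restrictₛₗ (homOfLE hVU).op (p i) ⊗ₜ[R.obj (op (V₁ ⊓ V₂))]
        N.restrictₛₗ (homOfLE hVU).op (n i) :=
    (map_sum ((P' ⊗ N).map (homOfLE hVU).op).hom _ _).trans
      (Finset.sum_congr rfl fun i _ => rfl)
  refine e0.trans ?_
  refine TensorProduct.sum_tmul_eq_zero_of_vanishesTrivially (R.obj (op (V₁ ⊓ V₂)))
    ⟨κ, fun i j => R.map (homOfLE hVW).op (b' i j),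
      fun j => N.restrictₛₗ (homOfLE hVW).op (z' j), fun i => ?_, fun j => ?_⟩
  · have e : N.restrictₛₗ (homOfLE hVW).op (N.restrictₛₗ (homOfLE hWU).op (n i)) =
        N.restrictₛₗ (homOfLE hVW).op (∑ j, b' i j • z' j) :=
      hV₁ i (V₁ ⊓ V₂) inf_le_left hVW
    rw [restrict_comp, map_sum] at e
    refine e.trans (Finset.sum_congr rfl fun j _ => ?_)
    rw [map_smulₛₗ]
    rfl
  · apply hf (op (V₁ ⊓ V₂))
    have e : P.restrictₛₗ (homOfLE hVW).op
        (∑ i, b' i j • P.restrictₛₗ (homOfLE hWU).op ((f.app (op U)).hom (p i))) =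
        P.restrictₛₗ (homOfLE hVW).op 0 :=
      hV₂ j (V₁ ⊓ V₂) inf_le_right hVW
    rw [map_zero, map_sum] at e
    show (f.app (op (V₁ ⊓ V₂))).hom _ = (f.app (op (V₁ ⊓ V₂))).hom 0
    rw [map_zero, ← e, map_sum]
    refine Finset.sum_congr rfl fun i _ => ?_
    rw [map_smul, map_smulₛₗ, restrict_comp]
    congr 1
    exact PresheafOfModules.naturality_apply f (homOfLE hVU).op (p i)

end Groth.Agent.Lib.Helper21.StalkFlatC
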