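import Mathlib
import Groth.Prelude.Def_ModSite
import Groth.Prelude.Def_FlatMod2
import Groth.Agent.Lib.Helper21.StalkFlatA
import Groth.Agent.Lib.Helper21.StalkFlatC
import Groth.Agent.Lib.Helper3.QCProps

/-!
# On a scheme, stalkwise flat modules are flat for the tensor product of sheaves of modules
-/

set_option autoImplicit false
universe u

open CategoryTheory Opposite TopologicalSpace MonoidalCategory AlgebraicGeometry
open Groth.Agent.Lib.Helper13 Groth.Agent.Lib.Helper13.TensorLocal
open Groth.Agent.Lib.Helper13.ModSiteTensor

namespace Groth.Agent.Lib.Helper21.StalkFlatD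

/-- Stalkwise flat `O_X`-modules are flat in the sense of exactness of the tensor product. -/
theorem isFlat_of_stalkwise {X : Scheme.{u}} (M : X.Modules) (h : FlatMod.IsFlat M) :
    ModSite.IsFlat (O := X.sheaf) M := by
  apply StalkFlatA.isFlat_of_locInj
  intro G' G a ha
  refine StalkFlatC.locInj_whiskerRight_of_flat_stalks (X := X.toTopCat) (R := X.presheaf)
    ((fgt X.sheaf).map a) ?_ ((fgt X.sheaf).obj M) ?_
  · intro U
    have h1 := (Groth.Agent.Lib.Helper3.QCProps.mono_iff_app_injective
      (show (G' : X.Modules) ⟶ (G : X.Modules) from a)).mp ha U.unop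
    intro s t hst
    exact h1 hst
  · intro x
    exact h x

end Groth.Agent.Lib.Helper21.StalkFlatD
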