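import Mathlib
import Groth.Prelude.Def_ModSite
import Groth.Agent.Lib.Helper21.StalkFlatA

/-!
# Flat sheaves of modules: tensoring preserves local injectivity of presheaf maps
-/

set_option autoImplicit false
universe v v₁ u₁ u

open CategoryTheory Opposite MonoidalCategory
open Groth.Agent.Lib.Helper13.TensorLocal

namespace Groth.Agent.Lib.Helper21.StalkFlatE

section Sheafification

variable {C : Type u₁} [Category.{v₁} C] {J : GrothendieckTopology C}
variable {R₀ : Cᵒᵖ ⥤ RingCat.{u}} {R : Sheaf J RingCat.{u}} (α : R₀ ⟶ R.obj)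
  [Presheaf.IsLocallyInjective J α] [Presheaf.IsLocallySurjective J α]
  [J.WEqualsLocallyBijective AddCommGrpCat.{v}] [HasWeakSheafify J AddCommGrpCat.{v}]

/-- If the sheafification of `g` is a monomorphism, `g` is locally injective. -/
theorem locInj_of_mono_sheafification_map {P P' : PresheafOfModules.{v} R₀} (g : P ⟶ P')
    (hm : Mono ((PresheafOfModules.sheafification α).map g)) : LocInj J g := by
  apply locInj_of_isLocallyInjective
  have h5 : Mono ((SheafOfModules.toSheaf R).map ((PresheafOfModules.sheafification α).map g)) :=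
    inferInstance
  have h4 : Mono ((presheafToSheaf J AddCommGrpCat.{v}).map
      ((PresheafOfModules.toPresheaf R₀).map g)) := h5
  rw [← Presheaf.isLocallyInjective_presheafToSheaf_map_iff (J := J)]
  have h6 : Mono ((sheafToPresheaf J AddCommGrpCat.{v}).map ((presheafToSheaf J AddCommGrpCat.{v}).map
      ((PresheafOfModules.toPresheaf R₀).map g))) := inferInstance
  rw [Sheaf.isLocallyInjective_iff_injective]
  intro X
  have h7 := (NatTrans.mono_iff_mono_app _).mp h6 X
  exact (AddCommGrpCat.mono_iff_injective _).mp h7

end Sheafification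

section ModSite

open Groth.Agent.Lib.Helper13.ModSiteTensor Groth.Agent.Lib.Helper13.ModSiteFlatSES

variable {C : Type u} [SmallCategory C] {J : GrothendieckTopology C} {O : Sheaf J CommRingCat.{u}}

/-- Tensoring a locally injective morphism of presheaves of modules with a flat sheaf of modules
gives a locally injective morphism. -/
theorem locInj_whiskerRight_of_isFlat {F : ModSite.Mod O} (hF : ModSite.IsFlat F)
    {A B : PMod O} (g : A ⟶ B) (hg : LocInj J g) : LocInj J (g ▷ (fgt O).obj F) := by
  apply locInj_of_mono_sheafification_map (𝟙 (ModSite.ringSh O).obj)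
  have h1 : Mono ((shf O).map g) :=
    StalkFlatA.mono_sheafification_map (𝟙 (ModSite.ringSh O).obj) g hg
  have h2 : Mono ((shf O).map ((fgt O).map ((shf O).map g) ▷ (fgt O).obj F)) :=
    mono_map_app_of_isFlat hF ((shf O).map g)
  have hA := isIso_shf_map_unit_whiskerRight O A ((fgt O).obj F)
  have hB := isIso_shf_map_unit_whiskerRight O B ((fgt O).obj F)
  have hnat : (shf O).map (g ▷ (fgt O).obj F) ≫
      (shf O).map ((shfAdj O).unit.app B ▷ (fgt O).obj F) =
      (shf O).map ((shfAdj O).unit.app A ▷ (fgt O).obj F) ≫
        (shf O).map ((fgt O).map ((shf O).map g) ▷ (fgt O).obj F) := by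
    rw [← Functor.map_comp, ← Functor.map_comp, ← comp_whiskerRight, ← comp_whiskerRight]
    congr 2
    exact (shfAdj O).unit.naturality g
  have h3 : Mono ((shf O).map (g ▷ (fgt O).obj F) ≫
      (shf O).map ((shfAdj O).unit.app B ▷ (fgt O).obj F)) := by
    rw [hnat]
    exact mono_comp _ _
  exact mono_of_mono _ ((shf O).map ((shfAdj O).unit.app B ▷ (fgt O).obj F))

end ModSite

end Groth.Agent.Lib.Helper21.StalkFlatE
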