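import Mathlib
import Groth.Agent.Lib.Helper13.TensorLocal
import Groth.Agent.Lib.Helper21.StalkFlatC

/-!
# Flatness of stalks from local injectivity of tensoring with ideal presheaves
-/

set_option autoImplicit false
universe u

open CategoryTheory Opposite TopologicalSpace MonoidalCategory TensorProduct
open Groth.Agent.Lib.Helper13 Groth.Agent.Lib.Helper13.TensorLocal
open Groth.Agent.Lib.Helper21.StalkFlatC

namespace Groth.Agent.Lib.Helper21.StalkFlatF

variable {X : TopCat.{u}} {R : X.Presheaf CommRingCat.{u}}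

/-- The sub-presheaf of the unit presheaf of modules generated by sections `f i` over `U`. -/
noncomputable def idealGen {l : ℕ} (U : Opens X) (f : Fin l → R.obj (op U)) :
    PresheafOfModules.Submodule (PresheafOfModules.unit (R ⋙ forget₂ CommRingCat RingCat)) where
  obj V := Submodule.span _ {s | ∃ (g : V.unop ⟶ U) (i : Fin l), s = R.map g.op (f i)}
  map {V V'} h := by
    rw [Submodule.span_le]
    rintro _ ⟨g, i, rfl⟩
    refine Submodule.subset_span ⟨h.unop ≫ g, i, ?_⟩
    show R.map h (R.map g.op (f i)) = R.map (h.unop ≫ g).op (f i)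
    rw [op_comp, R.map_comp]
    rfl

/-- Lift a relation in the stalk to a relation on a neighbourhood. -/
theorem exists_lift_relation (N : PresheafOfModules.{u} (R ⋙ forget₂ _ _)) (x : X) {l : ℕ}
    (f : Fin l → R.stalk x) (n : Fin l → ↑(TopCat.Presheaf.stalk N.presheaf x))
    (h : ∑ i, f i • n i = 0) :
    ∃ (U : Opens X) (hxU : x ∈ U) (F : Fin l → R.obj (op U)) (Nn : Fin l → N.obj (op U)),
      (∀ i, R.germ U x hxU (F i) = f i) ∧ (∀ i, germₛₗ N U x hxU (Nn i) = n i) ∧
      ∑ i, F i • Nn i = 0 := by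
  obtain ⟨W₁, -, hxW₁, f₁, hf₁⟩ := StalkFlatB.exists_lift_family R x ⊤ trivial f
  obtain ⟨W, hWW₁, hxW, (n' : Fin l → N.obj (op W)), hn'⟩ :=
    StalkFlatB.exists_lift_family N.presheaf x W₁ hxW₁ n
  let f' : Fin l → R.obj (op W) := fun i => R.map (homOfLE hWW₁).op (f₁ i)
  have hf' : ∀ i, R.germ W x hxW (f' i) = f i := fun i =>
    (R.germ_res_apply (homOfLE hWW₁) x hxW _).trans (hf₁ i)
  have hn'' : ∀ i, germₛₗ N W x hxW (n' i) = n i := hn'
  obtain ⟨U, hxU, hU⟩ := StalkFlatB.exists_nbhd_res_eq N.presheaf x W hxW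
    (∑ i, f' i • n' i) 0 (by
      show germₛₗ N W x hxW (∑ i, f' i • n' i) = germₛₗ N W x hxW 0
      rw [map_zero, map_sum, ← h]
      refine Finset.sum_congr rfl fun i _ => ?_
      rw [map_smulₛₗ, hn'' i]
      congr 1
      exact hf' i)
  have hUW : U ⊓ W ≤ W := inf_le_right
  refine ⟨U ⊓ W, ⟨hxU, hxW⟩, fun i => R.map (homOfLE hUW).op (f' i),
    fun i => N.restrictₛₗ (homOfLE hUW).op (n' i), fun i => ?_, fun i => ?_, ?_⟩
  · exact (R.germ_res_apply (homOfLE hUW) x ⟨hxU, hxW⟩ _).trans (hf' i)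
  · exact (germₛₗ_res N hUW x ⟨hxU, hxW⟩ (n' i)).trans (hn'' i)
  · have e : N.restrictₛₗ (homOfLE hUW).op (∑ i, f' i • n' i) =
        N.restrictₛₗ (homOfLE hUW).op 0 := hU (U ⊓ W) inf_le_left hUW
    rw [map_zero, map_sum] at e
    rw [← e]
    refine Finset.sum_congr rfl fun i _ => ?_
    rw [map_smulₛₗ]
    rfl

lemma span_range_eq_top_of_generators {A M : Type*} [Semiring A] [AddCommMonoid M] [Module A M]
    (s : Set M) {ι : Type*} (m' : ι → Submodule.span A s) (h : ∀ z ∈ s, ∃ i, (m' i : M) = z) :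
    Submodule.span A (Set.range m') = ⊤ := by
  apply Submodule.map_injective_of_injective (Submodule.injective_subtype _)
  rw [Submodule.map_span, Submodule.map_top, Submodule.range_subtype, ← Set.range_comp]
  apply le_antisymm
  · rw [Submodule.span_le]
    rintro _ ⟨i, rfl⟩
    exact (m' i).2
  · apply Submodule.span_mono
    intro z hz
    obtain ⟨i, hi⟩ := h z hz
    exact ⟨i, hi⟩

/-- If tensoring with `N` keeps all inclusions of ideal presheaves locally injective, the stalks
of `N` are flat. -/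
theorem flat_stalk_of_locInj (N : PresheafOfModules.{u} (R ⋙ forget₂ _ _))
    (hN : ∀ I : PresheafOfModules.Submodule
        (PresheafOfModules.unit (R ⋙ forget₂ CommRingCat RingCat)),
      LocInj (Opens.grothendieckTopology X) (I.ι ▷ N))
    (x : X) : Module.Flat (R.stalk x) ↑(TopCat.Presheaf.stalk N.presheaf x) := by
  apply Module.Flat.of_forall_isTrivialRelation
  intro l f n hfn
  obtain ⟨U, hxU, F, Nn, hF, hNn, hrel⟩ := exists_lift_relation N x f n hfn
  let I := idealGen U F
  have hmem : ∀ i, F i ∈ I.obj (op U) := fun i =>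
    Submodule.subset_span ⟨𝟙 U, i, by
      show F i = R.map (𝟙 U).op (F i)
      rw [op_id, R.map_id]
      rfl⟩
  let m : Fin l → I.toPresheafOfModules.obj (op U) := fun i => ⟨F i, hmem i⟩
  let t : (I.toPresheafOfModules ⊗ N).obj (op U) := ∑ i, m i ⊗ₜ[R.obj (op U)] Nn i
  have ht : (I.ι ▷ N).app (op U) t = 0 := by
    have h1 : (I.ι ▷ N).app (op U) t =
        ∑ i, (show (PresheafOfModules.unit (R ⋙ forget₂ CommRingCat RingCat)).obj (op U) from F i)
          ⊗ₜ[R.obj (op U)] Nn i :=
      (map_sum ((I.ι ▷ N).app (op U)).hom _ _).trans (Finset.sum_congr rfl fun i _ => rfl)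
    rw [h1]
    have h2 : ∀ i,
        (show (PresheafOfModules.unit (R ⋙ forget₂ CommRingCat RingCat)).obj (op U) from F i)
          ⊗ₜ[R.obj (op U)] Nn i =
        (show (PresheafOfModules.unit (R ⋙ forget₂ CommRingCat RingCat)).obj (op U) from
          (1 : R.obj (op U))) ⊗ₜ[R.obj (op U)] (F i • Nn i) := by
      intro i
      rw [← TensorProduct.smul_tmul]
      congr 1
      exact (mul_one (F i)).symm
    rw [Finset.sum_congr rfl (fun i _ => h2 i), ← TensorProduct.tmul_sum, hrel,
      TensorProduct.tmul_zero]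
    rfl
  obtain ⟨S, hS, hS'⟩ := hN I U t ht
  obtain ⟨V, g, hSg, hxV⟩ := hS x hxU
  have hVU : V ≤ U := leOfHom g
  have hg : g = homOfLE hVU := Subsingleton.elim _ _
  have e0 : (I.toPresheafOfModules ⊗ N).map g.op t =
      ∑ i, I.toPresheafOfModules.restrictₛₗ g.op (m i) ⊗ₜ[R.obj (op V)]
        N.restrictₛₗ g.op (Nn i) :=
    (map_sum ((I.toPresheafOfModules ⊗ N).map g.op).hom _ _).trans
      (Finset.sum_congr rfl fun i _ => rfl)
  have h0 := e0.symm.trans (hS' g hSg)
  let m' : Fin l → I.obj (op V) := fun i => I.toPresheafOfModules.restrictₛₗ g.op (m i)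
  have hspan : Submodule.span (R.obj (op V)) (Set.range m') = ⊤ := by
    refine span_range_eq_top_of_generators
      (A := (R ⋙ forget₂ CommRingCat RingCat).obj (op V))
      (M := (PresheafOfModules.unit (R ⋙ forget₂ CommRingCat RingCat)).obj (op V))
      {s | ∃ (g' : V ⟶ U) (i : Fin l), s = R.map g'.op (F i)} m' ?_
    rintro _ ⟨g', i, rfl⟩
    have hg' : g' = g := Subsingleton.elim _ _
    subst hg'
    exact ⟨i, rfl⟩
  obtain ⟨κ, a, y, hy1, hy2⟩ :=
    TensorProduct.vanishesTrivially_of_sum_tmul_eq_zero (R.obj (op V)) hspan h0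
  refine ⟨κ, fun i j => R.germ V x hxV (a i j), fun j => germₛₗ N V x hxV (y j),
    fun i => ?_, fun j => ?_⟩
  · show n i = ∑ j, R.germ V x hxV (a i j) • germₛₗ N V x hxV (y j)
    rw [← hNn i]
    have e1 : germₛₗ N U x hxU (Nn i) = germₛₗ N V x hxV (N.restrictₛₗ g.op (Nn i)) := by
      rw [hg]
      exact (germₛₗ_res N hVU x hxV (Nn i)).symm
    have hy1' : N.restrictₛₗ g.op (Nn i) = ∑ j, a i j • y j := hy1 i
    rw [e1, hy1', map_sum]
    refine Finset.sum_congr rfl fun j _ => ?_
    rw [map_smulₛₗ]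
  · have e2 : ∑ i, a i j * R.map g.op (F i) = 0 := by
      have e3 := congrArg (Submodule.subtype (I.obj (op V))) (hy2 j)
      rw [map_sum, map_zero] at e3
      exact e3
    have e4 : R.germ V x hxV (∑ i, a i j * R.map g.op (F i)) = 0 := by
      rw [e2, map_zero]
    rw [map_sum] at e4
    rw [← e4]
    refine Finset.sum_congr rfl fun i _ => ?_
    rw [map_mul, mul_comm, ← hF i]
    congr 1
    exact (R.germ_res_apply g x hxV (F i)).symm

end Groth.Agent.Lib.Helper21.StalkFlatF
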