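import Mathlib
import Groth.Prelude.Def_ModSite
import Groth.Prelude.Def_FlatMod2
import Groth.Agent.Lib.Helper21.StalkFlatD
import Groth.Agent.Lib.Helper21.StalkFlatE
import Groth.Agent.Lib.Helper21.StalkFlatF

/-!
# On a scheme, flatness of a sheaf of modules (exactness of tensoring) is stalkwise flatness
-/

set_option autoImplicit false
universe u

open CategoryTheory Opposite TopologicalSpace MonoidalCategory AlgebraicGeometry
open Groth.Agent.Lib.Helper13 Groth.Agent.Lib.Helper13.TensorLocal
open Groth.Agent.Lib.Helper13.ModSiteTensor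

namespace Groth.Agent.Lib.Helper21.StalkFlatG

/-- Flat `O_X`-modules (in the sense of exactness of the tensor product) are stalkwise flat. -/
theorem stalkwise_of_isFlat {X : Scheme.{u}} (M : X.Modules)
    (h : ModSite.IsFlat (O := X.sheaf) M) : FlatMod.IsFlat M := by
  intro x
  have h1 := StalkFlatF.flat_stalk_of_locInj (X := X.toTopCat) (R := X.presheaf)
    ((fgt X.sheaf).obj M) (fun I => StalkFlatE.locInj_whiskerRight_of_isFlat h I.ι (by
      intro U s hs
      refine ⟨⊤, GrothendieckTopology.top_mem _ U, fun V g _ => ?_⟩
      have h0 : s = 0 := by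
        apply Subtype.val_injective
        exact hs
      rw [h0, map_zero])) x
  exact h1

/-- On a scheme, the two notions of flatness agree. -/
theorem isFlat_iff_stalkwise {X : Scheme.{u}} (M : X.Modules) :
    ModSite.IsFlat (O := X.sheaf) M ↔ FlatMod.IsFlat M :=
  ⟨stalkwise_of_isFlat M, StalkFlatD.isFlat_of_stalkwise M⟩

end Groth.Agent.Lib.Helper21.StalkFlatG
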