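import Mathlib
import Groth.Prelude.Def_ModSite
import Groth.Agent.Lib.Helper13.ModSheafBasic

/-!
# `SheafOfModules.overMap` is exact on a small site
-/

set_option autoImplicit false
universe u

open CategoryTheory CategoryTheory.Limits Opposite

namespace Groth.Agent.Lib.Helper21.StalkFlatO

variable {C : Type u} [SmallCategory C] {J : GrothendieckTopology C} (R : Sheaf J RingCat.{u})
  {V W : C} (g : V ⟶ W)

/-- restriction along `Over.map g` on abelian sheaves. -/
noncomputable abbrev mapAb : Sheaf (J.over W) AddCommGrpCat.{u} ⥤ Sheaf (J.over V) AddCommGrpCat.{u} :=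
  (Over.map g).sheafPushforwardContinuous AddCommGrpCat.{u} (J.over V) (J.over W)

instance mapAb_preservesColimits : PreservesColimitsOfSize.{u, u} (mapAb (J := J) g) :=
  ((Over.map g).sheafAdjunctionCocontinuous AddCommGrpCat.{u} (J.over V)
    (J.over W)).leftAdjoint_preservesColimits

instance mapAb_preservesFiniteColimits : PreservesFiniteColimits (mapAb (J := J) g) :=
  PreservesColimitsOfSize.preservesFiniteColimits.{u, u} _

instance toSheaf_preservesFiniteColimits {D : Type u} [SmallCategory D]
    {K : GrothendieckTopology D} (S : Sheaf K RingCat.{u}) :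
    PreservesFiniteColimits (SheafOfModules.toSheaf.{u} S) :=
  ⟨fun _ _ _ => Groth.Agent.Lib.Helper13.ModSheafBasic.toSheaf_preservesColimitsOfShape _ _⟩

instance overMap_isRightAdjoint : (SheafOfModules.overMap.{u} R g).IsRightAdjoint :=
  inferInstanceAs (SheafOfModules.pushforward.{u} _).IsRightAdjoint

instance overMap_additive : (SheafOfModules.overMap.{u} R g).Additive :=
  Functor.additive_of_preserves_binary_products _

lemma epi_overMap_map {M N : SheafOfModules.{u} (R.over W)} (f : M ⟶ N) [Epi f] :
    Epi ((SheafOfModules.overMap.{u} R g).map f) := by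
  haveI : Epi ((SheafOfModules.toSheaf.{u} (R.over W)).map f) := inferInstance
  haveI h : Epi ((mapAb (J := J) g).map ((SheafOfModules.toSheaf.{u} (R.over W)).map f)) :=
    inferInstance
  have h' : Epi ((SheafOfModules.toSheaf.{u} (R.over V)).map
      ((SheafOfModules.overMap.{u} R g).map f)) := h
  exact Functor.epi_of_epi_map (SheafOfModules.toSheaf.{u} (R.over V)) h'

instance overMap_preservesFiniteColimits :
    PreservesFiniteColimits (SheafOfModules.overMap.{u} R g) := by
  rw [Functor.preservesFiniteColimits_iff_forall_exact_map_and_epi]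
  intro S hS
  haveI := hS.epi_g
  exact ⟨(((SheafOfModules.overMap.{u} R g).preservesFiniteLimits_iff_forall_exact_map_and_mono).1
    inferInstance S hS).1, epi_overMap_map R g S.g⟩

end Groth.Agent.Lib.Helper21.StalkFlatO
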