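import Mathlib
import Groth.Prelude.Def_ModSite

/-!
# Morphisms out of the unit module on a slice site and sections over the base object
-/

set_option autoImplicit false
universe u

open CategoryTheory CategoryTheory.Limits Opposite

namespace Groth.Agent.Lib.Helper21.StalkFlatP

variable {C : Type u} [SmallCategory C] {J : GrothendieckTopology C} {R : Sheaf J RingCat.{u}}

/-- the terminal object of `Over V`. -/
abbrev T (V : C) : Over V := Over.mk (𝟙 V)

/-- the map to the terminal object. -/
abbrev toT {V : C} (Y : Over V) : Y ⟶ T V := Over.homMk Y.hom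

lemma toT_comp {V : C} {Y Y' : Over V} (f : Y' ⟶ Y) : f ≫ toT Y = toT Y' :=
  Over.mkIdTerminal.hom_ext _ _

/-- evaluation of a morphism out of the unit at the unit section over the terminal object. -/
noncomputable def ev {V : C} {M : SheafOfModules.{u} (R.over V)}
    (x : SheafOfModules.unit (R.over V) ⟶ M) : M.val.obj (op (T V)) :=
  x.val.app (op (T V)) (1 : (R.over V).obj.obj (op (T V)))

lemma ev_add {V : C} {M : SheafOfModules.{u} (R.over V)}
    (x y : SheafOfModules.unit (R.over V) ⟶ M) : ev (x + y) = ev x + ev y := rfl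

lemma ev_zero {V : C} {M : SheafOfModules.{u} (R.over V)} :
    ev (0 : SheafOfModules.unit (R.over V) ⟶ M) = 0 := rfl

/-- `ev` as an additive map. -/
noncomputable def evAdd {V : C} (M : SheafOfModules.{u} (R.over V)) :
    (SheafOfModules.unit (R.over V) ⟶ M) →+ M.val.obj (op (T V)) where
  toFun := ev
  map_zero' := ev_zero
  map_add' := ev_add

lemma ev_sum {V : C} {M : SheafOfModules.{u} (R.over V)} {ι : Type*} (s : Finset ι)
    (x : ι → (SheafOfModules.unit (R.over V) ⟶ M)) : ev (∑ i ∈ s, x i) = ∑ i ∈ s, ev (x i) :=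
  map_sum (evAdd M) x s

lemma ev_injective {V : C} {M : SheafOfModules.{u} (R.over V)} :
    Function.Injective (ev (M := M)) := by
  intro x y h
  apply M.unitHomEquiv.injective
  apply PresheafOfModules.sections_ext
  intro Y
  have hx := PresheafOfModules.sections_property (M.unitHomEquiv x)
    (X := op (T V)) (Y := Y) (toT Y.unop).op
  have hy := PresheafOfModules.sections_property (M.unitHomEquiv y)
    (X := op (T V)) (Y := Y) (toT Y.unop).op
  rw [← hx, ← hy]
  exact congrArg _ h

/-- the morphism out of the unit with prescribed value over the terminal object. -/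
noncomputable def ofSec {V : C} {M : SheafOfModules.{u} (R.over V)} (t : M.val.obj (op (T V))) :
    SheafOfModules.unit (R.over V) ⟶ M :=
  M.unitHomEquiv.symm (PresheafOfModules.sectionsMk (M := M.val)
    (fun Y => M.val.map (toT Y.unop).op t) (by
      intro Y Y' f
      rw [← PresheafOfModules.map_comp_apply]
      exact PresheafOfModules.congr_map_apply _
        (show (toT Y.unop).op ≫ f = (toT Y'.unop).op by rw [← toT_comp f.unop]; rfl) t))

lemma ev_ofSec {V : C} {M : SheafOfModules.{u} (R.over V)} (t : M.val.obj (op (T V))) :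
    ev (ofSec t) = t := by
  have h : ev (ofSec t) = (M.unitHomEquiv (ofSec t)).val (op (T V)) := rfl
  rw [h, ofSec, Equiv.apply_symm_apply]
  show M.val.map (toT (T V)).op t = t
  have : toT (T V) = 𝟙 (T V) := Over.mkIdTerminal.hom_ext _ _
  rw [this, op_id, M.val.map_id]
  rfl

lemma ofSec_ev {V : C} {M : SheafOfModules.{u} (R.over V)}
    (x : SheafOfModules.unit (R.over V) ⟶ M) : ofSec (ev x) = x :=
  ev_injective (ev_ofSec _)

/-- the scalar corresponding to an endomorphism of the unit. -/
noncomputable def evU {V : C} (e : SheafOfModules.unit (R.over V) ⟶ SheafOfModules.unit (R.over V)) :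
    (R.over V).obj.obj (op (T V)) :=
  ev e

lemma ev_comp {V : C} {M : SheafOfModules.{u} (R.over V)}
    (e : SheafOfModules.unit (R.over V) ⟶ SheafOfModules.unit (R.over V))
    (x : SheafOfModules.unit (R.over V) ⟶ M) : ev (e ≫ x) = evU e • ev x := by
  have h1 : ev (e ≫ x) = x.val.app (op (T V)) (ev e) := rfl
  have h2 : (ev e : (SheafOfModules.unit (R.over V)).val.obj (op (T V))) =
      evU e • (show (SheafOfModules.unit (R.over V)).val.obj (op (T V)) from
        (1 : (R.over V).obj.obj (op (T V)))) := (mul_one (evU e)).symm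
  rw [h1, h2, map_smul]
  rfl

/-- transport of a morphism `unit ⟶ M|_W` along `g : V ⟶ W`. -/
noncomputable def tr {V W : C} (g : V ⟶ W) (M₀ : SheafOfModules.{u} R)
    (x : SheafOfModules.unit (R.over W) ⟶ M₀.over W) :
    SheafOfModules.unit (R.over V) ⟶ M₀.over V :=
  (SheafOfModules.overMapUnitIso (R := R) g).inv ≫ (SheafOfModules.overMap.{u} R g).map x ≫
    (SheafOfModules.overFunctorMap.{u} R g).hom.app M₀

lemma ev_tr {V W : C} (g : V ⟶ W) (M₀ : SheafOfModules.{u} R)
    (x : SheafOfModules.unit (R.over W) ⟶ M₀.over W) :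
    (show M₀.val.obj (op V) from ev (tr g M₀ x)) =
      M₀.val.map g.op (show M₀.val.obj (op W) from ev x) := by
  have h1 : (show M₀.val.obj (op V) from ev (tr g M₀ x)) =
      x.val.app (op ((Over.map g).obj (T V))) (1 : R.obj.obj (op V)) := rfl
  have h2 := PresheafOfModules.naturality_apply x.val (toT ((Over.map g).obj (T V))).op
    (1 : (R.over W).obj.obj (op (T W)))
  have h3 : (SheafOfModules.unit (R.over W)).val.map (toT ((Over.map g).obj (T V))).op
      (1 : (R.over W).obj.obj (op (T W))) = (1 : (R.over W).obj.obj (op ((Over.map g).obj (T V)))) :=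
    PresheafOfModules.unit_map_one _ _
  rw [h3] at h2
  rw [h1]
  refine h2.trans ?_
  exact PresheafOfModules.congr_map_apply M₀.val
    (show (𝟙 V ≫ g).op = g.op by rw [Category.id_comp]) _

/-- transport of an endomorphism of the unit along `g : V ⟶ W`. -/
noncomputable def trU {V W : C} (g : V ⟶ W)
    (e : SheafOfModules.unit (R.over W) ⟶ SheafOfModules.unit (R.over W)) :
    SheafOfModules.unit (R.over V) ⟶ SheafOfModules.unit (R.over V) :=
  (SheafOfModules.overMapUnitIso (R := R) g).inv ≫ (SheafOfModules.overMap.{u} R g).map e ≫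
    (SheafOfModules.overMapUnitIso (R := R) g).hom

lemma evU_trU {V W : C} (g : V ⟶ W)
    (e : SheafOfModules.unit (R.over W) ⟶ SheafOfModules.unit (R.over W)) :
    (show R.obj.obj (op V) from evU (trU g e)) =
      R.obj.map g.op (show R.obj.obj (op W) from evU e) := by
  have h1 : (show R.obj.obj (op V) from evU (trU g e)) =
      e.val.app (op ((Over.map g).obj (T V))) (1 : R.obj.obj (op V)) := rfl
  have h2 := PresheafOfModules.naturality_apply e.val (toT ((Over.map g).obj (T V))).op
    (1 : (R.over W).obj.obj (op (T W)))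
  have h3 : (SheafOfModules.unit (R.over W)).val.map (toT ((Over.map g).obj (T V))).op
      (1 : (R.over W).obj.obj (op (T W))) = (1 : (R.over W).obj.obj (op ((Over.map g).obj (T V)))) :=
    PresheafOfModules.unit_map_one _ _
  rw [h3] at h2
  rw [h1]
  refine h2.trans ?_
  show R.obj.map (𝟙 V ≫ g).op _ = R.obj.map g.op _
  rw [Category.id_comp]
  rfl

end Groth.Agent.Lib.Helper21.StalkFlatP
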