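import Mathlib
import Groth.Prelude.Def_ModSite

/-!
# Calculus of morphisms between finite free sheaves of modules
-/

set_option autoImplicit false
universe u

open CategoryTheory CategoryTheory.Limits Opposite SheafOfModules

namespace Groth.Agent.Lib.Helper21.StalkFlatQ

variable {D : Type u} [SmallCategory D] {K : GrothendieckTopology D} {S : Sheaf K RingCat.{u}}

lemma free_hom_ext {I : Type u} {M : SheafOfModules.{u} S} {f g : free I ⟶ M}
    (h : ∀ i, ιFree i ≫ f = ιFree i ≫ g) : f = g :=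
  Cofan.IsColimit.hom_ext (isColimitFreeCofan I) _ _ (fun i => h i)

/-- the morphism out of a free module with prescribed components. -/
noncomputable def descFree {I : Type u} {M : SheafOfModules.{u} S} (x : I → (unit S ⟶ M)) :
    free I ⟶ M :=
  Cofan.IsColimit.desc (isColimitFreeCofan I) x

@[reassoc (attr := simp)]
lemma ιFree_descFree {I : Type u} {M : SheafOfModules.{u} S} (x : I → (unit S ⟶ M)) (i : I) :
    ιFree i ≫ descFree x = x i :=
  Cofan.IsColimit.fac (isColimitFreeCofan I) x i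

/-- coordinate projections of a free module. -/
noncomputable def proj {I : Type u} [DecidableEq I] (j : I) : free (R := S) I ⟶ unit S :=
  descFree (fun i => if i = j then 𝟙 _ else 0)

@[reassoc]
lemma ιFree_proj {I : Type u} [DecidableEq I] (i j : I) :
    ιFree (R := S) i ≫ proj j = if i = j then 𝟙 _ else 0 :=
  ιFree_descFree _ i

lemma sum_proj_ιFree {I : Type u} [DecidableEq I] [Fintype I] :
    ∑ j, proj j ≫ ιFree j = 𝟙 (free (R := S) I) := by
  apply free_hom_ext
  intro i
  rw [Preadditive.comp_sum, Category.comp_id, Finset.sum_eq_single i]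
  · rw [ιFree_proj_assoc, if_pos rfl, Category.id_comp]
  · intro j _ hj
    rw [ιFree_proj_assoc, if_neg (Ne.symm hj), zero_comp]
  · intro h
    exact absurd (Finset.mem_univ i) h

lemma mapFreeIso_inv_proj {D' : Type u} [SmallCategory D'] {K' : GrothendieckTopology D'}
    {S' : Sheaf K' RingCat.{u}} (G : SheafOfModules.{u} S ⥤ SheafOfModules.{u} S') [G.Additive]
    (I : Type u) [DecidableEq I] [PreservesColimitsOfShape (Discrete I) G]
    (η : unit S' ≅ G.obj (unit S)) (j : I) :
    (mapFreeIso G I η).inv ≫ proj j = G.map (proj j) ≫ η.inv := by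
  rw [Iso.inv_comp_eq]
  apply free_hom_ext
  intro i
  rw [ιFree_proj, ιFree_mapFreeIso_hom_assoc, ← G.map_comp_assoc, ιFree_proj]
  split_ifs
  · rw [G.map_id, Category.id_comp, Iso.hom_inv_id]
  · rw [G.map_zero, zero_comp, comp_zero]

/-- The abstract factorisation lemma. -/
theorem exists_factorization {Ig Ir : Type u} [Fintype Ig] [DecidableEq Ig]
    (T : ShortComplex (SheafOfModules.{u} S)) (hT : T.Exact) [Epi T.g]
    (er : free Ir ≅ T.X₁) (eg : free Ig ≅ T.X₂) {M : SheafOfModules.{u} S} (ψ : T.X₃ ⟶ M)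
    (l : ℕ) (t : Fin l → (unit S ⟶ M)) (α : Ig → Fin l → (unit S ⟶ unit S))
    (h1 : ∀ j, ιFree j ≫ eg.hom ≫ T.g ≫ ψ = ∑ k, α j k ≫ t k)
    (h2 : ∀ i k, ∑ j, (ιFree i ≫ er.hom ≫ T.f ≫ eg.inv ≫ proj j) ≫ α j k = 0) :
    ∃ (a : T.X₃ ⟶ free (ULift.{u} (Fin l))) (b : free (ULift.{u} (Fin l)) ⟶ M), a ≫ b = ψ := by
  let b : free (ULift.{u} (Fin l)) ⟶ M := descFree (fun k => t k.down)
  let a' : free Ig ⟶ free (R := S) (ULift.{u} (Fin l)) :=
    descFree (fun j => ∑ k, α j k ≫ ιFree (ULift.up k))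
  have hzero : T.f ≫ eg.inv ≫ a' = 0 := by
    rw [← cancel_epi er.hom, comp_zero]
    apply free_hom_ext
    intro i
    rw [comp_zero]
    have e1 : ιFree i ≫ er.hom ≫ T.f ≫ eg.inv ≫ a' =
        ∑ j, (ιFree i ≫ er.hom ≫ T.f ≫ eg.inv ≫ proj j) ≫ ιFree j ≫ a' := by
      have := congrArg (fun z => ιFree i ≫ er.hom ≫ T.f ≫ eg.inv ≫ z ≫ a')
        (sum_proj_ιFree (S := S) (I := Ig))
      simp only [Category.id_comp] at this
      rw [← this]
      simp only [Preadditive.sum_comp, Preadditive.comp_sum, Category.assoc]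
    rw [e1]
    have e2 : ∀ j, (ιFree i ≫ er.hom ≫ T.f ≫ eg.inv ≫ proj j) ≫ ιFree j ≫ a' =
        ∑ k, ((ιFree i ≫ er.hom ≫ T.f ≫ eg.inv ≫ proj j) ≫ α j k) ≫ ιFree (ULift.up k) := by
      intro j
      rw [ιFree_descFree, Preadditive.comp_sum]
      simp only [Category.assoc]
    rw [Finset.sum_congr rfl (fun j _ => e2 j), Finset.sum_comm]
    refine Finset.sum_eq_zero fun k _ => ?_
    rw [← Preadditive.sum_comp, h2 i k, zero_comp]
  refine ⟨hT.desc (eg.inv ≫ a') hzero, b, ?_⟩
  rw [← cancel_epi T.g, hT.g_desc_assoc, ← cancel_epi eg.hom, Category.assoc,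
    Iso.hom_inv_id_assoc]
  apply free_hom_ext
  intro j
  rw [h1 j, ιFree_descFree_assoc, Preadditive.sum_comp]
  refine Finset.sum_congr rfl fun k _ => ?_
  rw [Category.assoc, ιFree_descFree]

end Groth.Agent.Lib.Helper21.StalkFlatQ
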