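import Mathlib
import Groth.Agent.Lib.Helper21.GeomRegB
import Groth.Agent.Lib.Helper26.RegularRing

set_option autoImplicit false
set_option linter.style.haveILetI false

namespace Groth.Agent.Lib.Helper21.GeomReg

open IsLocalRing TensorProduct

universe u

section compositum

/-- a field containing a finite extension `k'` and an arbitrary extension `K` of `k`, finite
over `K` -/
theorem exists_compositum (k k' K : Type u) [Field k] [Field k'] [Field K] [Algebra k k']
    [Algebra k K] [Module.Finite k k'] :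
    ∃ (L : Type u) (_ : Field L) (_ : Algebra k L) (_ : Algebra k' L) (_ : Algebra K L),
      IsScalarTower k k' L ∧ IsScalarTower k K L ∧ Module.Finite K L := by
  obtain ⟨𝔪, h𝔪⟩ := Ideal.exists_maximal (k' ⊗[k] K)
  letI : Field ((k' ⊗[k] K) ⧸ 𝔪) := Ideal.Quotient.field 𝔪
  let f1 : k' →+* (k' ⊗[k] K) ⧸ 𝔪 :=
    (Ideal.Quotient.mk 𝔪).comp (Algebra.TensorProduct.includeLeftRingHom)
  let f2 : K →+* (k' ⊗[k] K) ⧸ 𝔪 :=
    (Ideal.Quotient.mk 𝔪).comp
      ((Algebra.TensorProduct.includeRight : K →ₐ[k] k' ⊗[k] K) : K →+* k' ⊗[k] K)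
  letI a1 : Algebra k' ((k' ⊗[k] K) ⧸ 𝔪) := f1.toAlgebra
  letI a2 : Algebra K ((k' ⊗[k] K) ⧸ 𝔪) := f2.toAlgebra
  letI a0 : Algebra k ((k' ⊗[k] K) ⧸ 𝔪) := (f1.comp (algebraMap k k')).toAlgebra
  refine ⟨(k' ⊗[k] K) ⧸ 𝔪, inferInstance, a0, a1, a2, ?_, ?_, ?_⟩
  · exact IsScalarTower.of_algebraMap_eq (fun _ => rfl)
  · refine IsScalarTower.of_algebraMap_eq (fun x => ?_)
    show Ideal.Quotient.mk 𝔪 (algebraMap k k' x ⊗ₜ[k] (1 : K)) =
      Ideal.Quotient.mk 𝔪 ((1 : k') ⊗ₜ[k] algebraMap k K x)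
    congr 1
    rw [Algebra.algebraMap_eq_smul_one, Algebra.algebraMap_eq_smul_one, TensorProduct.smul_tmul]
  · letI := Algebra.TensorProduct.rightAlgebra (R := k) (A := k') (B := K)
    haveI : Module.Finite K (k' ⊗[k] K) :=
      Groth.Agent.Lib.Helper21.CohenStruct.finite_right k K k'
    refine Module.Finite.of_surjective
      ((Ideal.Quotient.mkₐ K 𝔪).toLinearMap.restrictScalars K) ?_
    exact Ideal.Quotient.mk_surjective

end compositum

section descent

theorem isRegularRing_of_tower (k k' L A : Type u) [Field k] [Field k'] [Field L] [CommRing A]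
    [Algebra k A] [Algebra k k'] [Algebra k L] [Algebra k' L] [IsScalarTower k k' L]
    (h : IsRegularRing (L ⊗[k] A)) : IsRegularRing (k' ⊗[k] A) := by
  haveI : Module.FaithfullyFlat k' L := inferInstance
  haveI : Module.FaithfullyFlat (k' ⊗[k] A) ((k' ⊗[k] A) ⊗[k'] L) := inferInstance
  have e : (k' ⊗[k] A) ⊗[k'] L ≃+* L ⊗[k] A :=
    ((Algebra.TensorProduct.comm k' (k' ⊗[k] A) L).toRingEquiv).trans
      (Algebra.TensorProduct.cancelBaseChange k k' L L A).toRingEquiv
  haveI : IsRegularRing ((k' ⊗[k] A) ⊗[k'] L) := IsRegularRing.of_ringEquiv e.symm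
  exact Groth.Agent.Lib.Helper26.RegularRing.isRegularRing_of_faithfullyFlat (k' ⊗[k] A)
    ((k' ⊗[k] A) ⊗[k'] L)

end descent

section S2674

variable (k S : Type u) [Field k] [CommRing S] [Algebra k S] [IsNoetherianRing S]
  (K : Type u) [Field K] [Algebra k K] [Algebra.EssFiniteType k K]

theorem S2674_aux :
    CAlg.IsGeometricallyRegular k S ↔ CAlg.IsGeometricallyRegular K (K ⊗[k] S) := by
  constructor
  · intro h L _ _ hfin
    haveI := hfin
    letI : Algebra k L := ((algebraMap K L).comp (algebraMap k K)).toAlgebra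
    haveI : IsScalarTower k K L := IsScalarTower.of_algebraMap_eq (fun _ => rfl)
    haveI : Algebra.EssFiniteType k L := Algebra.EssFiniteType.comp k K L
    haveI := ((S2672_aux k S).2.mp h) L inferInstance
    exact IsRegularRing.of_ringEquiv
      (Algebra.TensorProduct.cancelBaseChange k K L L S).toRingEquiv.symm
  · intro h k' _ _ hfin
    haveI := hfin
    obtain ⟨L, _, _, _, _, _, _, hL⟩ := exists_compositum k k' K
    haveI := h L hL
    haveI : IsRegularRing (L ⊗[k] S) := IsRegularRing.of_ringEquiv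
      (Algebra.TensorProduct.cancelBaseChange k K L L S).toRingEquiv
    exact isRegularRing_of_tower k k' L S inferInstance

end S2674

end Groth.Agent.Lib.Helper21.GeomReg
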