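import Mathlib
import Groth.Agent.Lib.Helper21.GeomRegC
import Groth.Agent.Lib.Helper26.RegularAscent

set_option autoImplicit false
set_option linter.style.haveILetI false

namespace Groth.Agent.Lib.Helper21.GeomReg

open IsLocalRing TensorProduct

universe u

section tensor

variable (k S T : Type u) [Field k] [CommRing S] [CommRing T] [Algebra k S] [Algebra k T]

theorem isNoetherianRing_fiber (R S' : Type u) [CommRing R] [CommRing S'] [Algebra R S']
    [IsNoetherianRing S'] (p : Ideal R) [p.IsPrime] : IsNoetherianRing (p.Fiber S') := by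
  haveI : Algebra.EssFiniteType R p.ResidueField := inferInstance
  haveI : IsNoetherianRing (S' ⊗[R] p.ResidueField) :=
    Algebra.EssFiniteType.isNoetherianRing S' (S' ⊗[R] p.ResidueField)
  exact isNoetherianRing_of_ringEquiv _
    (Algebra.TensorProduct.comm R S' p.ResidueField).toRingEquiv

theorem isRegularRing_tensor [IsNoetherianRing T] [IsNoetherianRing (S ⊗[k] T)]
    (hS : IsRegularRing S) (hT : CAlg.IsGeometricallyRegular k T) :
    IsRegularRing (S ⊗[k] T) := by
  haveI : Module.Flat S (S ⊗[k] T) := inferInstance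
  apply Groth.Agent.Lib.Helper26.RegularAscent.isRegularRing_of_flat_of_fibers S (S ⊗[k] T)
  intro p _
  let e := Algebra.TensorProduct.cancelBaseChange k S p.ResidueField p.ResidueField T
  haveI : IsNoetherianRing (p.Fiber (S ⊗[k] T)) := isNoetherianRing_fiber S (S ⊗[k] T) p
  haveI : IsNoetherianRing (p.ResidueField ⊗[k] T) :=
    isNoetherianRing_of_ringEquiv _ e.toRingEquiv
  haveI := isRegularRing_baseChange_of_isGeometricallyRegular k T hT p.ResidueField
  exact IsRegularRing.of_ringEquiv e.symm.toRingEquiv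

theorem S2692_aux [IsNoetherianRing S] [IsNoetherianRing T] [IsNoetherianRing (S ⊗[k] T)] :
    (IsRegularRing S → CAlg.IsGeometricallyRegular k T → IsRegularRing (S ⊗[k] T)) ∧
      (CAlg.IsGeometricallyRegular k S → CAlg.IsGeometricallyRegular k T →
        CAlg.IsGeometricallyRegular k (S ⊗[k] T)) := by
  refine ⟨isRegularRing_tensor k S T, ?_⟩
  intro hS hT k' _ _ hfin
  haveI := hfin
  let e := Algebra.TensorProduct.assoc k k k k' S T
  haveI : IsNoetherianRing (k' ⊗[k] (S ⊗[k] T)) :=
    isNoetherianRing_baseChange_finite k (S ⊗[k] T) k'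
  haveI : IsNoetherianRing ((k' ⊗[k] S) ⊗[k] T) :=
    isNoetherianRing_of_ringEquiv _ e.symm.toRingEquiv
  haveI := isRegularRing_tensor k (k' ⊗[k] S) T (hS k' hfin) hT
  exact IsRegularRing.of_ringEquiv e.toRingEquiv

end tensor

end Groth.Agent.Lib.Helper21.GeomReg
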