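import Mathlib
import Groth.Agent.Lib.Helper21.GeomRegD
import Groth.Agent.Lib.Helper21.JacAdicB
import Groth.Agent.Lib.Helper26.RegularSmooth

set_option autoImplicit false
set_option linter.style.haveILetI false

namespace Groth.Agent.Lib.Helper21.GeomReg

open IsLocalRing TensorProduct

universe u

section smooth

/-- a finitely presented algebra over a field which is geometrically regular is smooth -/
theorem formallySmooth_of_isGeometricallyRegular (k F : Type u) [Field k] [CommRing F] [Algebra k F]
    [Algebra.FinitePresentation k F] (h : CAlg.IsGeometricallyRegular k F) :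
    Algebra.FormallySmooth k F := by
  haveI : IsNoetherianRing F := Algebra.FiniteType.isNoetherianRing k F
  rw [← Algebra.smoothLocus_eq_univ_iff]
  rw [Set.eq_univ_iff_forall]
  intro 𝔮
  show Algebra.FormallySmooth k (Localization.AtPrime 𝔮.asIdeal)
  have h1 := forall_adicFS_of_isGeometricallyRegular k F h 𝔮.asIdeal
  haveI : Algebra.EssFiniteType k (Localization.AtPrime 𝔮.asIdeal) := inferInstance
  exact Groth.Agent.Lib.Helper21.JacAdic.formallySmooth_of_isAdicFormallySmooth_of_essFiniteType h1

theorem isGeometricallyRegular_of_smooth_field (k F : Type u) [Field k] [CommRing F] [Algebra k F]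
    [Algebra.Smooth k F] : CAlg.IsGeometricallyRegular k F := by
  intro k' _ _ hfin
  haveI : IsRegularRing k' := inferInstance
  haveI : Algebra.Smooth k' (k' ⊗[k] F) := inferInstance
  exact Groth.Agent.Lib.Helper26.RegularSmooth.isRegularRing_of_smooth k' (k' ⊗[k] F)

theorem S4996_aux (A B : Type u) [CommRing A] [CommRing B]
    [Algebra A B] [Algebra.FinitePresentation A B] :
    Algebra.Smooth A B ↔
      Module.Flat A B ∧ ∀ (p : Ideal A) [p.IsPrime],
        CAlg.IsGeometricallyRegular p.ResidueField (p.Fiber B) := by
  constructor
  · intro h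
    refine ⟨inferInstance, fun p _ => ?_⟩
    haveI : Algebra.Smooth p.ResidueField (p.Fiber B) := inferInstance
    exact isGeometricallyRegular_of_smooth_field p.ResidueField (p.Fiber B)
  · rintro ⟨hflat, h⟩
    apply Algebra.Smooth.of_formallySmooth_fiber
    intro p _
    haveI : Algebra.FinitePresentation p.ResidueField (p.Fiber B) := inferInstance
    exact formallySmooth_of_isGeometricallyRegular p.ResidueField (p.Fiber B) (h p)

end smooth

end Groth.Agent.Lib.Helper21.GeomReg
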