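import Mathlib

/-!
# Helper library (helper21): the image of a finite type ring map contains a neighbourhood of
the generic point of (the closure of) any point in the image.
-/

namespace Groth.Agent.Lib.Helper21.GenericImage

open scoped TensorProduct

section L0

variable {A B L : Type*} [CommRing A] [CommRing B] [CommRing L] [Algebra A B] [Algebra A L]

theorem exists_prime_over (ρ : B →ₐ[A] L) (P : Ideal A) [P.IsPrime]
    (hker : RingHom.ker (algebraMap A L) ≤ P) (y : A) (hy : y ∉ P)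
    (hgen : ∀ b : B, ∃ n : ℕ, IsIntegral A (y ^ n • ρ b)) :
    ∃ Q : Ideal B, Q.IsPrime ∧ Q.comap (algebraMap A B) = P := by
  classical
  have hkerC : RingHom.ker (algebraMap A (integralClosure A L)) ≤ P := by
    intro r hr
    apply hker
    rw [RingHom.mem_ker] at hr ⊢
    have := congrArg (Subtype.val) hr
    simpa using this
  obtain ⟨Q', -, hQ'prime, hQ'⟩ := Ideal.exists_ideal_over_prime_of_isIntegral P
    (⊥ : Ideal (integralClosure A L)) (by rwa [← RingHom.ker_eq_comap_bot])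
  have hIQ : P.map (algebraMap A (integralClosure A L)) ≤ Q' := by
    rw [Ideal.map_le_iff_le_comap, hQ']
  have key : ∀ x ∈ P.map (algebraMap A B), ∃ n : ℕ, ∃ c : integralClosure A L,
      c ∈ P.map (algebraMap A (integralClosure A L)) ∧ (c : L) = y ^ n • ρ x := by
    intro x hx
    unfold Ideal.map at hx
    induction hx using Submodule.span_induction with
    | mem x hx =>
      obtain ⟨p, hp, rfl⟩ := hx
      exact ⟨0, algebraMap A _ p, Ideal.mem_map_of_mem _ hp, by simp⟩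
    | zero => exact ⟨0, 0, zero_mem _, by simp⟩
    | add x z _ _ hx hz =>
      obtain ⟨n, c, hc, hcx⟩ := hx
      obtain ⟨m, d, hd, hdz⟩ := hz
      refine ⟨n + m, algebraMap A _ (y ^ m) * c + algebraMap A _ (y ^ n) * d,
        add_mem (Ideal.mul_mem_left _ _ hc) (Ideal.mul_mem_left _ _ hd), ?_⟩
      simp only [Subalgebra.coe_add, Subalgebra.coe_mul, Subalgebra.coe_algebraMap, hcx, hdz,
        map_add, Algebra.smul_def]
      simp only [map_pow]
      ring
    | smul a x _ hx =>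
      obtain ⟨n, c, hc, hcx⟩ := hx
      obtain ⟨k, hk⟩ := hgen a
      refine ⟨n + k, ⟨_, hk⟩ * c, Ideal.mul_mem_left _ _ hc, ?_⟩
      simp only [Subalgebra.coe_mul, hcx, smul_eq_mul, map_mul, Algebra.smul_def, map_pow]
      ring
  rw [← Ideal.comap_map_eq_self_iff_of_isPrime]
  refine le_antisymm ?_ Ideal.le_comap_map
  intro r hr
  obtain ⟨n, c, hc, hcx⟩ := key _ (Ideal.mem_comap.mp hr)
  have hc' : c = algebraMap A (integralClosure A L) (y ^ n * r) := by
    apply Subtype.ext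
    rw [hcx]
    simp [Algebra.smul_def]
  have : y ^ n * r ∈ P := by
    rw [← hQ', Ideal.mem_comap, ← hc']
    exact hIQ hc
  rcases Ideal.IsPrime.mem_or_mem ‹P.IsPrime› this with h | h
  · exact absurd (Ideal.IsPrime.mem_of_pow_mem ‹P.IsPrime› _ h) hy
  · exact h

/-- If `y • ρ b` is integral for `b` in a generating set, every `ρ b` becomes integral after
multiplying by a power of `y`. -/
theorem exists_pow_smul_isIntegral (ρ : B →ₐ[A] L) (y : A) (s : Set B)
    (hs : Algebra.adjoin A s = ⊤) (hint : ∀ b ∈ s, IsIntegral A (y • ρ b)) (b : B) :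
    ∃ n : ℕ, IsIntegral A (y ^ n • ρ b) := by
  have hb : b ∈ Algebra.adjoin A s := hs ▸ Algebra.mem_top
  induction hb using Algebra.adjoin_induction with
  | mem x hx => exact ⟨1, by simpa using hint x hx⟩
  | algebraMap r => exact ⟨0, by simpa using isIntegral_algebraMap⟩
  | add x z _ _ hx hz =>
    obtain ⟨n, hn⟩ := hx
    obtain ⟨m, hm⟩ := hz
    refine ⟨n + m, ?_⟩
    have : y ^ (n + m) • ρ (x + z) = y ^ m • (y ^ n • ρ x) + y ^ n • (y ^ m • ρ z) := by
      simp only [map_add, smul_add, smul_smul, pow_add]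
      rw [mul_comm (y ^ m)]
    rw [this]
    exact (hn.smul _).add (hm.smul _)
  | mul x z _ _ hx hz =>
    obtain ⟨n, hn⟩ := hx
    obtain ⟨m, hm⟩ := hz
    refine ⟨n + m, ?_⟩
    have : y ^ (n + m) • ρ (x * z) = (y ^ n • ρ x) * (y ^ m • ρ z) := by
      rw [smul_mul_smul_comm, map_mul, pow_add]
    rw [this]
    exact hn.mul hm


end L0

section L1

variable {A B : Type*} [CommRing A] [CommRing B] [Algebra A B]

theorem exists_notMem_forall_mem_range [Algebra.FiniteType A B] (𝔭 : PrimeSpectrum A)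
    (h : 𝔭 ∈ Set.range (PrimeSpectrum.comap (algebraMap A B))) :
    ∃ g : A, g ∉ 𝔭.asIdeal ∧ ∀ P : PrimeSpectrum A, 𝔭 ≤ P → g ∉ P.asIdeal →
      P ∈ Set.range (PrimeSpectrum.comap (algebraMap A B)) := by
  classical
  have hnt : Nontrivial (𝔭.asIdeal.Fiber B) :=
    (PrimeSpectrum.nontrivial_iff_mem_rangeComap 𝔭).mpr h
  obtain ⟨M, hM⟩ := Ideal.exists_maximal (𝔭.asIdeal.Fiber B)
  let : Field (𝔭.asIdeal.Fiber B ⧸ M) := Ideal.Quotient.field M
  have hfin : Module.Finite 𝔭.asIdeal.ResidueField (𝔭.asIdeal.Fiber B ⧸ M) :=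
    finite_of_finite_type_of_isJacobsonRing 𝔭.asIdeal.ResidueField (𝔭.asIdeal.Fiber B ⧸ M)
  have hker : RingHom.ker (algebraMap A (𝔭.asIdeal.Fiber B ⧸ M)) = 𝔭.asIdeal := by
    ext r
    rw [RingHom.mem_ker,
      IsScalarTower.algebraMap_apply A (𝔭.asIdeal.Fiber B) (𝔭.asIdeal.Fiber B ⧸ M),
      Ideal.Quotient.algebraMap_eq, Ideal.Quotient.eq_zero_iff_mem]
    have := Ideal.over_def M 𝔭.asIdeal
    conv_rhs => rw [this]
    rfl
  have hint : ∀ x : 𝔭.asIdeal.Fiber B ⧸ M, ∃ m : 𝔭.asIdeal.primeCompl, IsIntegral A (m • x) := by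
    intro x
    have h1 : IsIntegral 𝔭.asIdeal.ResidueField x := Algebra.IsIntegral.isIntegral x
    have h2 : Algebra.IsIntegral (Localization.AtPrime 𝔭.asIdeal) 𝔭.asIdeal.ResidueField :=
      Algebra.isIntegral_of_surjective IsLocalRing.residue_surjective
    have h3 : IsIntegral (Localization.AtPrime 𝔭.asIdeal) x := isIntegral_trans x h1
    exact IsIntegral.exists_multiple_integral_of_isLocalization 𝔭.asIdeal.primeCompl x h3
  obtain ⟨s, hs⟩ := (Algebra.FiniteType.out : (⊤ : Subalgebra A B).FG)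
  let ρ : B →ₐ[A] (𝔭.asIdeal.Fiber B ⧸ M) :=
    (Ideal.Quotient.mkₐ A M).comp Algebra.TensorProduct.includeRight
  choose m hm using hint
  have hy : (∏ b ∈ s, (m (ρ b) : A)) ∉ 𝔭.asIdeal := fun hy => by
    obtain ⟨b, -, hb⟩ := Ideal.IsPrime.prod_mem_iff.mp hy
    exact (m (ρ b)).2 hb
  have hys : ∀ b ∈ (s : Set B), IsIntegral A ((∏ b ∈ s, (m (ρ b) : A)) • ρ b) := by
    intro b hb
    rw [← Finset.prod_erase_mul _ _ (Finset.mem_coe.mp hb), mul_smul]
    exact (hm (ρ b)).smul _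
  refine ⟨_, hy, fun P hP hyP => ?_⟩
  have := P.isPrime
  obtain ⟨Q, hQ, hQP⟩ := exists_prime_over ρ P.asIdeal (hker.le.trans hP) _ hyP
    (exists_pow_smul_isIntegral ρ _ s hs hys)
  exact ⟨⟨Q, hQ⟩, PrimeSpectrum.ext hQP⟩

end L1

/-- Ring hom version. -/
theorem exists_notMem_forall_mem_range_ringHom {A B : Type*} [CommRing A] [CommRing B]
    (f : A →+* B) (hf : f.FiniteType) (𝔭 : PrimeSpectrum A)
    (h : 𝔭 ∈ Set.range (PrimeSpectrum.comap f)) :
    ∃ g : A, g ∉ 𝔭.asIdeal ∧ ∀ P : PrimeSpectrum A, 𝔭 ≤ P → g ∉ P.asIdeal →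
      P ∈ Set.range (PrimeSpectrum.comap f) := by
  algebraize [f]
  exact exists_notMem_forall_mem_range 𝔭 h

end Groth.Agent.Lib.Helper21.GenericImage
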