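import Mathlib
import Groth.Agent.Lib.Helper21.CohenStructG
import Groth.Agent.Lib.Helper21.SepSmoothD
import Groth.Agent.Lib.Helper9.RegLocal

set_option autoImplicit false
set_option linter.style.haveILetI false

namespace Groth.Agent.Lib.Helper21.CohenStruct

open IsLocalRing
open scoped TensorProduct

universe u

theorem isReduced_of_isRegularRing (R : Type u) [CommRing R] [IsRegularRing R] : IsReduced R := by
  apply isReduced_ofLocalizationMaximal
  intro J hJ
  haveI : IsDomain (Localization.AtPrime J) :=
    Groth.Agent.Lib.Helper9.RegLocal.isDomain_of_isRegularLocalRing _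
  infer_instance

theorem S4513_aux {k A K : Type u} [Field k] [CommRing A]
    [IsLocalRing A] [IsNoetherianRing A] [Algebra k A]
    (h : CAlgX.IsAdicFormallySmooth k A (maximalIdeal A))
    [Field K] [Algebra k K] [Algebra K A] [IsScalarTower k K A] :
    Algebra.IsGeometricallyReduced k K := by
  apply Groth.Agent.Lib.Helper21.SepSmooth.isGeometricallyReduced_of_forall_finite
  intro B hB
  letI : Field B := (Subalgebra.isField_of_algebraic B).toField
  haveI : IsRegularRing (B ⊗[k] A) := isGeometricallyRegular_of_isAdicFormallySmooth k A h B hB
  haveI : IsReduced (B ⊗[k] A) := isReduced_of_isRegularRing _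
  let ι : K →ₐ[k] A := IsScalarTower.toAlgHom k K A
  have hι : Function.Injective ι.toLinearMap := (algebraMap K A).injective
  let f : K ⊗[k] B →ₐ[k] B ⊗[k] A :=
    (Algebra.TensorProduct.map (AlgHom.id k B) ι).comp (Algebra.TensorProduct.comm k K B).toAlgHom
  have hf : Function.Injective f := by
    have h1 : Function.Injective (Algebra.TensorProduct.map (AlgHom.id k B) ι) := by
      have := Module.Flat.lTensor_preserves_injective_linearMap (M := B) ι.toLinearMap hι
      intro x y hxy
      apply this
      exact hxy
    exact h1.comp (Algebra.TensorProduct.comm k K B).injective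
  exact isReduced_of_injective f hf

end Groth.Agent.Lib.Helper21.CohenStruct
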