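import Mathlib
import Groth.Prelude.Def_EGA41
import Groth.Agent.Lib.Helper21.PBasisG

/-!
# Decreasing families of subfields and `p`-independence (helper21)
-/

namespace Groth.Agent.Lib.Helper21.PBasis

open MvPolynomial

universe u

/-- A finite family linearly independent over the intersection of a directed decreasing family of
subfields is linearly independent over one of them. -/
theorem exists_indep_of_iInter {K : Type*} [Field K] {ι : Type*} [Preorder ι]
    [IsDirected ι (· ≤ ·)] [Nonempty ι] (E : ι → Subfield K) (hE : Antitone E) {J : Type*}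
    (v : J → K) (s : Finset J) :
    (∀ c : J → K, (∀ j ∈ s, ∀ i, c j ∈ E i) → ∑ j ∈ s, c j * v j = 0 → ∀ j ∈ s, c j = 0) →
      ∃ i, ∀ c : J → K, (∀ j ∈ s, c j ∈ E i) → ∑ j ∈ s, c j * v j = 0 → ∀ j ∈ s, c j = 0 := by
  classical
  induction s using Finset.induction_on with
  | empty =>
    intro _
    obtain ⟨i⟩ := (inferInstance : Nonempty ι)
    exact ⟨i, fun c _ _ j hj => absurd hj (Finset.notMem_empty j)⟩
  | insert a s' ha ih =>
    intro H
    have H' : ∀ c : J → K, (∀ j ∈ s', ∀ i, c j ∈ E i) → ∑ j ∈ s', c j * v j = 0 →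
        ∀ j ∈ s', c j = 0 := by
      intro c hc hsum j hj
      have h1 := H (Function.update c a 0)
        (by
          intro j' hj' i
          by_cases h : j' = a
          · subst h; simp [zero_mem]
          · rw [Function.update_of_ne h]
            exact hc j' ((Finset.mem_insert.mp hj').resolve_left h) i)
        (by
          rw [Finset.sum_insert ha, Function.update_self, zero_mul, zero_add]
          refine (Finset.sum_congr rfl fun j' hj' => ?_).trans hsum
          rw [Function.update_of_ne (fun h : j' = a => ha (h ▸ hj'))])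
        j (Finset.mem_insert_of_mem hj)
      rwa [Function.update_of_ne (fun h : j = a => ha (h ▸ hj))] at h1
    obtain ⟨i₀, hi₀⟩ := ih H'
    by_contra hne
    push Not at hne
    choose c hc1 hc2 hc3 using hne
    -- for `i ≥ i₀`, the coefficient at `a` is non-zero
    have hca : ∀ i, i₀ ≤ i → c i a ≠ 0 := by
      intro i hi h0
      have hsum := hc2 i
      rw [Finset.sum_insert ha, h0, zero_mul, zero_add] at hsum
      have hz := hi₀ (c i) (fun j hj => hE hi (hc1 i j (Finset.mem_insert_of_mem hj))) hsum
      obtain ⟨j, hj, hjne⟩ := hc3 i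
      rcases Finset.mem_insert.mp hj with rfl | hj'
      · exact hjne h0
      · exact hjne (hz j hj')
    -- normalised coefficients
    have hd : ∀ i, i₀ ≤ i → v a + ∑ j ∈ s', (c i j / c i a) * v j = 0 := by
      intro i hi
      have hsum := hc2 i
      rw [Finset.sum_insert ha] at hsum
      have h1 : v a + ∑ j ∈ s', (c i j / c i a) * v j =
          (c i a)⁻¹ * (c i a * v a + ∑ j ∈ s', c i j * v j) := by
        rw [mul_add, Finset.mul_sum, ← mul_assoc, inv_mul_cancel₀ (hca i hi), one_mul]
        congr 1
        refine Finset.sum_congr rfl fun j _ => ?_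
        rw [div_eq_mul_inv]; ring
      rw [h1, hsum, mul_zero]
    have hdeq : ∀ i, i₀ ≤ i → ∀ j ∈ s', c i j / c i a = c i₀ j / c i₀ a := by
      intro i hi j hj
      have h1 := hd i hi
      have h2 := hd i₀ le_rfl
      have h3 : ∑ j ∈ s', (c i j / c i a - c i₀ j / c i₀ a) * v j = 0 := by
        have : ∑ j ∈ s', (c i j / c i a - c i₀ j / c i₀ a) * v j =
            (v a + ∑ j ∈ s', (c i j / c i a) * v j) - (v a + ∑ j ∈ s', (c i₀ j / c i₀ a) * v j) := by
          rw [add_sub_add_left_eq_sub, ← Finset.sum_sub_distrib]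
          exact Finset.sum_congr rfl fun j _ => sub_mul _ _ _
        rw [this, h1, h2, sub_zero]
      have h4 := hi₀ (fun j => c i j / c i a - c i₀ j / c i₀ a)
        (fun j hj => sub_mem
          (div_mem (hE hi (hc1 i j (Finset.mem_insert_of_mem hj)))
            (hE hi (hc1 i a (Finset.mem_insert_self a s'))))
          (div_mem (hc1 i₀ j (Finset.mem_insert_of_mem hj)) (hc1 i₀ a (Finset.mem_insert_self a s'))))
        h3 j hj
      exact sub_eq_zero.mp h4
    -- the final dependency over the intersection
    have hfin := H (fun j => if j = a then 1 else c i₀ j / c i₀ a)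
      (by
        intro j hj i
        by_cases h : j = a
        · simp [h, one_mem]
        · rw [if_neg h]
          have hj' : j ∈ s' := (Finset.mem_insert.mp hj).resolve_left h
          obtain ⟨i₁, h1, h2⟩ := exists_ge_ge i i₀
          rw [← hdeq i₁ h2 j hj']
          exact hE h1 (div_mem (hc1 i₁ j hj) (hc1 i₁ a (Finset.mem_insert_self a s'))))
      (by
        rw [Finset.sum_insert ha, if_pos rfl, one_mul, ← hd i₀ le_rfl]
        congr 1
        refine Finset.sum_congr rfl fun j hj => ?_
        rw [if_neg (fun h : j = a => ha (h ▸ hj))])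
      a (Finset.mem_insert_self a s')
    simp at hfin

section descent

variable (p : ℕ) [Fact p.Prime] {K : Type u} [Field K] [CharP K p]

theorem inv_mem_Cp (k : Type u) [Field k] [Algebra k K] {x : K}
    (hx : x ∈ EGA41.pPowerSubalgebra p k K) : x⁻¹ ∈ EGA41.pPowerSubalgebra p k K := by
  rw [inv_eq_pow_mul p x]
  exact mul_mem (pow_mem hx _) (pow_mem_Cp p k K _)

/-- `k(K^p)` as a subfield of `K`. -/
def CpField (k : Type u) [Field k] [Algebra k K] : Subfield K :=
  { (EGA41.pPowerSubalgebra p k K).toSubring with
    inv_mem' := fun _ hx => inv_mem_Cp p k hx }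

theorem mem_CpField (k : Type u) [Field k] [Algebra k K] (x : K) :
    x ∈ CpField p k (K := K) ↔ x ∈ EGA41.pPowerSubalgebra p k K := Iff.rfl

/-- Exponent vectors supported in `sK` with all exponents `< p`. -/
noncomputable def Mon (sK : Finset K) : Finset (K →₀ ℕ) :=
  Finset.finsupp sK (fun _ => Finset.range p)

theorem mem_Mon_iff (sK : Finset K) (d : K →₀ ℕ) :
    d ∈ Mon p sK ↔ d.support ⊆ sK ∧ ∀ j, d j < p := by
  have hp : 0 < p := (Fact.out : p.Prime).pos
  rw [Mon, Finset.mem_finsupp_iff]
  constructor
  · rintro ⟨h1, h2⟩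
    refine ⟨h1, fun j => ?_⟩
    by_cases hj : j ∈ sK
    · exact Finset.mem_range.mp (h2 j hj)
    · have : d j = 0 := by
        by_contra h
        exact hj (h1 (Finsupp.mem_support_iff.mpr h))
      rw [this]; exact hp
  · rintro ⟨h1, h2⟩
    exact ⟨h1, fun j _ => Finset.mem_range.mpr (h2 j)⟩

theorem support_subset_Mon {k : Type u} [Field k] [Algebra k K] (sK : Finset K)
    (r : MvPolynomial K ↥(EGA41.pPowerSubalgebra p k K)) (hv : (↑r.vars : Set K) ⊆ ↑sK)
    (hr : IsRed p r) : r.support ⊆ Mon p sK := by
  intro d hd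
  rw [mem_Mon_iff]
  refine ⟨fun j hj => ?_, hr d hd⟩
  exact Finset.mem_coe.mp (hv (Finset.mem_coe.mpr (support_subset_vars_of_mem_support hd hj)))

theorem aeval_id_eq_sum_Mon {k : Type u} [Field k] [Algebra k K] (sK : Finset K)
    (r : MvPolynomial K ↥(EGA41.pPowerSubalgebra p k K)) (hsub : r.support ⊆ Mon p sK) :
    aeval (id : K → K) r = ∑ e ∈ Mon p sK, (coeff e r).1 * mon (id : K → K) e := by
  classical
  have hsum : aeval (id : K → K) r = ∑ d ∈ r.support, coeff d r • mon (id : K → K) d := by
    conv_lhs => rw [r.as_sum, map_sum]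
    exact Finset.sum_congr rfl fun d _ => aeval_monomial_eq d _
  rw [hsum]
  refine (Finset.sum_subset hsub fun d _ hd => ?_).trans (Finset.sum_congr rfl fun d _ => rfl)
  rw [notMem_support_iff.mp hd, zero_smul]

variable {k₀ : Type u} [Field k₀] [Algebra k₀ K]

/-- A finite set which is `p`-independent over `k₀`, where `k₀(K^p)` is the intersection of the
`k_i(K^p)`, is `p`-independent over some `k_i`. -/
theorem exists_pIndSet_of_iInter {ι : Type*} [Preorder ι] [IsDirected ι (· ≤ ·)] [Nonempty ι]
    (k : ι → IntermediateField k₀ K) (hk : Antitone k)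
    (hinter : ∀ x : K, (∀ i, x ∈ EGA41.pPowerSubalgebra p ↥(k i) K) →
      x ∈ EGA41.pPowerSubalgebra p k₀ K)
    (sK : Finset K) (hs : PIndSet p k₀ (↑sK : Set K)) :
    ∃ i, PIndSet p ↥(k i) (↑sK : Set K) := by
  classical
  have hE : Antitone fun i => CpField p ↥(k i) (K := K) := by
    intro i j hij x hx
    rw [mem_CpField] at hx ⊢
    induction hx using Algebra.adjoin_induction with
    | mem y hy =>
      obtain ⟨b, rfl⟩ := hy
      exact pow_mem_Cp p _ K b
    | algebraMap r =>
      have hr : (r : K) ∈ k i := hk hij r.2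
      exact (EGA41.pPowerSubalgebra p ↥(k i) K).algebraMap_mem ⟨(r : K), hr⟩
    | add y z _ _ hy hz => exact add_mem hy hz
    | mul y z _ _ hy hz => exact mul_mem hy hz
  obtain ⟨i, hi⟩ := exists_indep_of_iInter (fun i => CpField p ↥(k i) (K := K)) hE
    (fun e : K →₀ ℕ => mon (id : K → K) e) (Mon p sK) (by
      intro c hc hsum
      have hc0 : ∀ e ∈ Mon p sK, c e ∈ EGA41.pPowerSubalgebra p k₀ K := fun e he =>
        hinter _ (fun i => hc e he i)
      set r : MvPolynomial K ↥(EGA41.pPowerSubalgebra p k₀ K) :=
        ∑ e ∈ (Mon p sK).attach, monomial e.1 ⟨c e.1, hc0 e.1 e.2⟩ with hr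
      have hsupp : r.support ⊆ Mon p sK := by
        intro d hd
        have h1 := support_sum hd
        rw [Finset.mem_biUnion] at h1
        obtain ⟨e', -, he'⟩ := h1
        have := support_monomial_subset he'
        rw [Finset.mem_singleton] at this
        rw [this]
        exact e'.2
      have hred : IsRed p r := fun d hd => ((mem_Mon_iff p sK d).mp (hsupp hd)).2
      have hvars : (↑r.vars : Set K) ⊆ ↑sK := by
        intro j hj
        rw [Finset.mem_coe, mem_vars_iff_mem_support] at hj
        obtain ⟨d, hd, hjd⟩ := hj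
        exact Finset.mem_coe.mpr (((mem_Mon_iff p sK d).mp (hsupp hd)).1 hjd)
      have hcoeff : ∀ e (he : e ∈ Mon p sK), coeff e r = ⟨c e, hc0 e he⟩ := by
        intro e he
        rw [hr, coeff_sum, Finset.sum_eq_single ⟨e, he⟩]
        · rw [coeff_monomial, if_pos rfl]
        · intro e' _ hne
          rw [coeff_monomial, if_neg]
          intro h
          exact hne (Subtype.ext h)
        · intro h; exact absurd (Finset.mem_attach _ _) h
      have h0 : aeval (id : K → K) r = 0 := by
        rw [aeval_id_eq_sum_Mon p sK r hsupp, ← hsum]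
        refine Finset.sum_congr rfl fun e he => ?_
        rw [hcoeff e he]
      have hr0 := hs r hvars hred h0
      intro e he
      have := hcoeff e he
      rw [hr0, coeff_zero] at this
      exact (congrArg Subtype.val this).symm)
  refine ⟨i, ?_⟩
  intro r hv hr h0
  have hsupp := support_subset_Mon p sK r hv hr
  rw [aeval_id_eq_sum_Mon p sK r hsupp] at h0
  have hz := hi (fun e => (coeff e r).1) (fun e _ => (coeff e r).2) h0
  ext d
  rw [coeff_zero]
  by_cases hd : d ∈ r.support
  · exact (hz d (hsupp hd)).trans (ZeroMemClass.coe_zero _).symm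
  · rw [notMem_support_iff.mp hd]

end descent

end Groth.Agent.Lib.Helper21.PBasis
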