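import Mathlib
import Groth.Prelude.Def_EGA41
import Groth.Agent.Lib.Helper21.PBasisH

namespace Groth.Agent.Lib.Helper21.PBasis

open MvPolynomial

universe u

section M

variable (p : ℕ) [Fact p.Prime] {k₀ K : Type u} [Field k₀] [Field K] [Algebra k₀ K] [CharP K p]

theorem mem_adjoin_pow_iff (x : K) :
    x ∈ IntermediateField.adjoin k₀ (Set.range fun y : K => y ^ p) ↔
      x ∈ EGA41.pPowerSubalgebra p k₀ K := by
  constructor
  · intro hx
    have hle : IntermediateField.adjoin k₀ (Set.range fun y : K => y ^ p) ≤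
        Subalgebra.toIntermediateField (EGA41.pPowerSubalgebra p k₀ K)
          (fun x hx => inv_mem_Cp p k₀ hx) := by
      rw [IntermediateField.adjoin_le_iff]
      rintro _ ⟨y, rfl⟩
      exact pow_mem_Cp p k₀ K y
    exact hle hx
  · intro hx
    exact IntermediateField.algebra_adjoin_le_adjoin k₀ _ hx

theorem mem_sup_adjoin_pow_iff (F : IntermediateField k₀ K) (x : K) :
    x ∈ F ⊔ IntermediateField.adjoin k₀ (Set.range fun y : K => y ^ p) ↔
      x ∈ EGA41.pPowerSubalgebra p ↥F K := by
  constructor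
  · intro hx
    have hle : F ⊔ IntermediateField.adjoin k₀ (Set.range fun y : K => y ^ p) ≤
        Subalgebra.toIntermediateField
          ((EGA41.pPowerSubalgebra p ↥F K).restrictScalars k₀)
          (fun x hx => inv_mem_Cp p ↥F hx) := by
      refine sup_le ?_ ?_
      · intro y hy
        exact (EGA41.pPowerSubalgebra p ↥F K).algebraMap_mem ⟨y, hy⟩
      · rw [IntermediateField.adjoin_le_iff]
        rintro _ ⟨y, rfl⟩
        exact pow_mem_Cp p ↥F K y
    exact hle hx
  · intro hx
    induction hx using Algebra.adjoin_induction with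
    | mem y hy =>
      obtain ⟨b, rfl⟩ := hy
      exact (le_sup_right : _ ≤ F ⊔ _) (IntermediateField.subset_adjoin k₀ _ ⟨b, rfl⟩)
    | algebraMap r => exact (le_sup_left : F ≤ F ⊔ _) r.2
    | add y z _ _ hy hz => exact add_mem hy hz
    | mul y z _ _ hy hz => exact mul_mem hy hz

end M

end Groth.Agent.Lib.Helper21.PBasis

namespace Groth.Agent.Lib.Helper21.PBasis

universe u

theorem mem_iInf_iff {F E : Type*} [Field F] [Field E] [Algebra F E] {ι : Sort*}
    (S : ι → IntermediateField F E) (x : E) : x ∈ iInf S ↔ ∀ i, x ∈ S i := by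
  rw [← SetLike.mem_coe, IntermediateField.coe_iInf, Set.mem_iInter]
  rfl

theorem S2475_aux (p : ℕ) [Fact p.Prime] {k₀ K : Type u} [Field k₀] [Field K] [Algebra k₀ K] [CharP K p]
    {ι : Type u} [Preorder ι] [IsDirected ι (· ≤ ·)] [Nonempty ι] (k : ι → IntermediateField k₀ K) (hk : Antitone k) :
    (⨅ i, k i ⊔ IntermediateField.adjoin k₀ (Set.range fun y : K => y ^ p)) = IntermediateField.adjoin k₀ (Set.range fun y : K => y ^ p) ↔
      ∀ ω : Ω[K⁄k₀], (∀ i, KaehlerDifferential.map k₀ (k i) K K ω = 0) → ω = 0 := by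
  classical
  have hmapD : ∀ (i : ι) (x : K), KaehlerDifferential.map k₀ (k i) K K (KaehlerDifferential.D k₀ K x) =
      KaehlerDifferential.D (k i) K x := by
    intro i x
    rw [KaehlerDifferential.map_D]
    rfl
  constructor
  · intro hinter ω hω
    have hinter' : ∀ x : K, (∀ i, x ∈ EGA41.pPowerSubalgebra p ↥(k i) K) →
        x ∈ EGA41.pPowerSubalgebra p k₀ K := by
      intro x hx
      rw [← mem_adjoin_pow_iff, ← hinter, mem_iInf_iff]
      intro i
      rw [mem_sup_adjoin_pow_iff]
      exact hx i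
    obtain ⟨Bs, -, hBs, b, hb⟩ := exists_kaehler_basis_of_pIndSet' p k₀ (pIndSet_empty p k₀ (K := K))
    set c := b.repr ω with hc
    have hωsum : ω = ∑ t ∈ c.support, c t • KaehlerDifferential.D k₀ K t.1 := by
      have h1 := b.linearCombination_repr ω
      rw [Finsupp.linearCombination_apply, Finsupp.sum] at h1
      rw [← h1]
      exact Finset.sum_congr rfl fun t _ => by rw [hb]
    set sK : Finset K := c.support.image Subtype.val with hsK
    have hsKB : (↑sK : Set K) ⊆ Bs := by
      intro y hy
      rw [Finset.mem_coe, hsK, Finset.mem_image] at hy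
      obtain ⟨t, -, rfl⟩ := hy
      exact t.2
    obtain ⟨i, hi⟩ := exists_pIndSet_of_iInter p k hk hinter' sK (PIndSet.mono p k₀ hBs hsKB)
    obtain ⟨Bs', hsub', b', hb'⟩ := exists_kaehler_basis_of_pIndSet p ↥(k i) hi
    have hmem : ∀ t : ↥c.support, t.1.1 ∈ Bs' := fun t =>
      hsub' (Finset.mem_coe.mpr (Finset.mem_image.mpr ⟨t.1, t.2, rfl⟩))
    let g : ↥c.support → ↥Bs' := fun t => ⟨t.1.1, hmem t⟩
    have hg : Function.Injective g := by
      intro t t' h
      have : t.1.1 = t'.1.1 := congrArg (fun z : ↥Bs' => z.1) h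
      exact Subtype.ext (Subtype.ext this)
    have hli := b'.linearIndependent.comp g hg
    have h0 : ∑ t : ↥c.support, c t.1 • (b' ∘ g) t = 0 := by
      have h1 := hω i
      rw [hωsum, map_sum] at h1
      rw [← h1, ← Finset.sum_coe_sort c.support]
      refine Finset.sum_congr rfl fun t _ => ?_
      rw [map_smul, hmapD, Function.comp_apply, hb']
    have hz := Fintype.linearIndependent_iff.mp hli (fun t => c t.1) h0
    have hsupp : c.support = ∅ := by
      rw [Finset.eq_empty_iff_forall_notMem]
      intro t ht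
      exact (Finsupp.mem_support_iff.mp ht) (hz ⟨t, ht⟩)
    rw [hωsum, hsupp, Finset.sum_empty]
  · intro hsep
    apply le_antisymm
    · intro x hx
      rw [mem_iInf_iff] at hx
      rw [mem_adjoin_pow_iff, ← D_eq_zero_iff p k₀ x]
      apply hsep
      intro i
      rw [hmapD, D_eq_zero_iff p ↥(k i) x, ← mem_sup_adjoin_pow_iff]
      exact hx i
    · exact le_iInf fun i => le_sup_right

end Groth.Agent.Lib.Helper21.PBasis
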