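import Mathlib
import Groth.Prelude.Def_EGA41
import Groth.Agent.Lib.Helper21.PBasisI

namespace Groth.Agent.Lib.Helper21.PBasis

open TensorProduct

universe u

section linalg

/-- A downward directed family of subspaces of a finite-dimensional space with trivial intersection
has a trivial member. -/
theorem exists_eq_bot_of_directed {K V : Type*} [Field K] [AddCommGroup V] [Module K V]
    [FiniteDimensional K V] {ι : Type*} [Nonempty ι] (N : ι → Submodule K V)
    (hdir : ∀ i j, ∃ l, N l ≤ N i ∧ N l ≤ N j) (hbot : ∀ v, (∀ i, v ∈ N i) → v = 0) :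
    ∃ i, N i = ⊥ := by
  classical
  have hne : (Set.range fun i => Module.finrank K (N i)).Nonempty := Set.range_nonempty _
  obtain ⟨i, hi⟩ : ∃ i, ∀ j, Module.finrank K (N i) ≤ Module.finrank K (N j) := by
    have hmem := Nat.sInf_mem hne
    obtain ⟨i, hi⟩ := hmem
    refine ⟨i, fun j => ?_⟩
    have hi' : Module.finrank K (N i) = sInf (Set.range fun i => Module.finrank K (N i)) := hi
    rw [hi']
    exact Nat.sInf_le ⟨j, rfl⟩
  refine ⟨i, ?_⟩
  rw [eq_bot_iff]
  intro v hv
  rw [Submodule.mem_bot]
  apply hbot
  intro j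
  obtain ⟨l, hl1, hl2⟩ := hdir i j
  have heq : N l = N i := Submodule.eq_of_le_of_finrank_le hl1 (hi l)
  exact hl2 (heq ▸ hv)

/-- Admissibility lemma: a finitely generated submodule of `L ⊗ V` injects into some `L ⊗ V_i`. -/
theorem exists_injOn_baseChange {K L V : Type*} [Field K] [Field L] [Algebra K L]
    [AddCommGroup V] [Module K V] {ι : Type*} [Nonempty ι] {W : ι → Type*}
    [∀ i, AddCommGroup (W i)] [∀ i, Module K (W i)] (f : ∀ i, V →ₗ[K] W i)
    (hdir : ∀ i j, ∃ l, LinearMap.ker (f l) ≤ LinearMap.ker (f i) ∧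
      LinearMap.ker (f l) ≤ LinearMap.ker (f j))
    (hbot : ∀ v, (∀ i, f i v = 0) → v = 0)
    (Υ : Submodule L (L ⊗[K] V)) (hΥ : Υ.FG) :
    ∃ i, ∀ ω ∈ Υ, (f i).baseChange L ω = 0 → ω = 0 := by
  classical
  obtain ⟨s, hs⟩ := hΥ
  obtain ⟨V', hV'fin, hV'⟩ :=
    TensorProduct.exists_finite_submodule_right_of_setFinite (R := K) (M := L) (N := V)
      (↑s : Set (L ⊗[K] V)) s.finite_toSet
  -- all of `Υ` lies in the range
  have hΥle : Υ ≤ LinearMap.range (V'.subtype.baseChange L) := by
    rw [← hs, Submodule.span_le]
    intro ω hω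
    obtain ⟨ω', hω'⟩ := hV' hω
    exact ⟨ω', by rw [← hω']; rfl⟩
  obtain ⟨i, hi⟩ := exists_eq_bot_of_directed (K := K) (V := V')
    (fun i => LinearMap.ker ((f i).comp V'.subtype))
    (by
      intro i j
      obtain ⟨l, h1, h2⟩ := hdir i j
      refine ⟨l, ?_, ?_⟩
      · intro v hv
        rw [LinearMap.mem_ker, LinearMap.comp_apply] at hv ⊢
        exact h1 hv
      · intro v hv
        rw [LinearMap.mem_ker, LinearMap.comp_apply] at hv ⊢
        exact h2 hv)
    (by
      intro v hv
      apply Subtype.ext
      apply hbot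
      intro i
      exact hv i)
  refine ⟨i, fun ω hω h0 => ?_⟩
  obtain ⟨ω', rfl⟩ := hΥle hω
  have hinj : Function.Injective (((f i).comp V'.subtype).baseChange L) := by
    have h1 : Function.Injective ((f i).comp V'.subtype) := LinearMap.ker_eq_bot.mp hi
    have h2 := Module.Flat.lTensor_preserves_injective_linearMap (M := L) _ h1
    intro a b hab
    apply h2
    exact hab
  have : ((f i).comp V'.subtype).baseChange L ω' = 0 := by
    rw [LinearMap.baseChange_comp, LinearMap.comp_apply]
    exact h0
  rw [(map_eq_zero_iff _ hinj).mp this, map_zero]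

end linalg

end Groth.Agent.Lib.Helper21.PBasis

namespace Groth.Agent.Lib.Helper21.PBasis

open TensorProduct

universe u

section kaehler

variable {k₀ K : Type u} [Field k₀] [Field K] [Algebra k₀ K]

theorem map_D' (F : IntermediateField k₀ K) (x : K) :
    KaehlerDifferential.map k₀ F K K (KaehlerDifferential.D k₀ K x) = KaehlerDifferential.D F K x := by
  rw [KaehlerDifferential.map_D]
  rfl

/-- The kernel of `Ω[K⁄k₀] → Ω[K⁄F]` decreases with `F`. -/
theorem ker_map_le {F₁ F₂ : IntermediateField k₀ K} (h : F₁ ≤ F₂) :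
    LinearMap.ker (KaehlerDifferential.map k₀ F₁ K K) ≤
      LinearMap.ker (KaehlerDifferential.map k₀ F₂ K K) := by
  have hcomp : ∀ η : Ω[F₁⁄k₀],
      KaehlerDifferential.map k₀ F₂ K K (KaehlerDifferential.map k₀ k₀ F₁ K η) = 0 := by
    intro η
    have hη : η ∈ Submodule.span F₁ (Set.range (KaehlerDifferential.D k₀ F₁)) := by
      rw [KaehlerDifferential.span_range_derivation]; trivial
    induction hη using Submodule.span_induction with
    | mem y hy =>
      obtain ⟨c, rfl⟩ := hy
      rw [KaehlerDifferential.map_D, map_D']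
      have : algebraMap F₁ K c = algebraMap F₂ K ⟨c.1, h c.2⟩ := rfl
      rw [this, Derivation.map_algebraMap]
    | zero => simp
    | add y z _ _ hy hz => rw [map_add, map_add, hy, hz, add_zero]
    | smul a y _ hy =>
      rw [map_smul, ← algebraMap_smul K a, map_smul, hy, smul_zero]
  have hcomp2 : ∀ z : K ⊗[F₁] Ω[F₁⁄k₀],
      KaehlerDifferential.map k₀ F₂ K K (KaehlerDifferential.mapBaseChange k₀ F₁ K z) = 0 := by
    intro z
    induction z using TensorProduct.induction_on with
    | zero => simp
    | add z w hz hw => rw [map_add, map_add, hz, hw, add_zero]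
    | tmul b η => rw [KaehlerDifferential.mapBaseChange_tmul, map_smul, hcomp, smul_zero]
  intro ω hω
  rw [LinearMap.mem_ker] at hω ⊢
  obtain ⟨z, rfl⟩ := (KaehlerDifferential.exact_mapBaseChange_map k₀ F₁ K ω).mp hω
  exact hcomp2 z

end kaehler

end Groth.Agent.Lib.Helper21.PBasis

namespace Groth.Agent.Lib.Helper21.PBasis

open TensorProduct

universe u

section fin

variable (k₀ K L : Type u) [Field k₀] [Field K] [Field L] [Algebra k₀ K] [Algebra K L] [Algebra k₀ L]
  [IsScalarTower k₀ K L]

theorem imperfection_finite_of_finite [Module.Finite K L] :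
    Module.Finite L (EGA41.imperfection k₀ K L) := by
  haveI : Algebra.FiniteType K L := inferInstance
  haveI : Algebra.FinitePresentation K L := Algebra.FinitePresentation.of_finiteType.mp inferInstance
  haveI : Module.Finite L (Algebra.H1Cotangent K L) := inferInstance
  have hex := Algebra.H1Cotangent.exact_δ_mapBaseChange k₀ K L
  have hrange : EGA41.imperfection k₀ K L = LinearMap.range (Algebra.H1Cotangent.δ k₀ K L) := by
    unfold EGA41.imperfection
    exact (LinearMap.exact_iff.mp hex)
  rw [hrange]
  exact Module.Finite.range _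

end fin

end Groth.Agent.Lib.Helper21.PBasis

namespace Groth.Agent.Lib.Helper21.PBasis

open TensorProduct

universe u

theorem S4545_aux (p : ℕ) [Fact p.Prime] {k₀ K : Type u}
    [Field k₀] [Field K] [Algebra k₀ K] [CharP K p]
    {ι : Type u} [Preorder ι] [IsDirected ι (· ≤ ·)] [Nonempty ι] (k : ι → IntermediateField k₀ K) (hk : Antitone k) :
    (⨅ i, k i ⊔ IntermediateField.adjoin k₀ (Set.range fun y : K => y ^ p)) =
        IntermediateField.adjoin k₀ (Set.range fun y : K => y ^ p) ↔
      ∀ (L : Type u) [Field L] [Algebra K L] [Algebra k₀ L] [IsScalarTower k₀ K L],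
        Module.Finite L (EGA41.imperfection k₀ K L) →
          ∃ i, ∀ ω ∈ EGA41.imperfection k₀ K L,
            ((KaehlerDifferential.map k₀ (k i) K K).restrictScalars K).baseChange L ω = 0 → ω = 0 := by
  classical
  have hp : 0 < p := (Fact.out : p.Prime).pos
  constructor
  · intro hinter L _ _ _ _ hfin
    have hsep := (S2475_aux p k hk).mp hinter
    have hfg : (EGA41.imperfection k₀ K L).FG := Module.Finite.iff_fg.mp hfin
    obtain ⟨i, hi⟩ := exists_injOn_baseChange (K := K) (L := L) (V := Ω[K⁄k₀])
      (W := fun i => Ω[K⁄k i])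
      (fun i => (KaehlerDifferential.map k₀ (k i) K K).restrictScalars K)
      (by
        intro i j
        obtain ⟨l, hl1, hl2⟩ := exists_ge_ge i j
        exact ⟨l, ker_map_le (hk hl1), ker_map_le (hk hl2)⟩)
      (fun v hv => hsep v hv)
      (EGA41.imperfection k₀ K L) hfg
    exact ⟨i, hi⟩
  · intro hadm
    apply le_antisymm
    · intro x hx
      rw [mem_iInf_iff] at hx
      rw [mem_adjoin_pow_iff, ← D_eq_zero_iff p k₀ x]
      -- the splitting field of `X^p - x`
      let g : Polynomial K := Polynomial.X ^ p - Polynomial.C x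
      let L := Polynomial.SplittingField g
      have hdeg : g.degree ≠ 0 := by
        have : g.degree = p := Polynomial.degree_X_pow_sub_C hp x
        rw [this]
        exact_mod_cast hp.ne'
      obtain ⟨z, hz⟩ := (Polynomial.SplittingField.splits g).exists_eval_eq_zero
        (by rw [Polynomial.degree_map]; exact hdeg)
      have hzp : z ^ p = algebraMap K L x := by
        simp only [g, Polynomial.eval_sub, Polynomial.map_pow, Polynomial.map_X,
          Polynomial.map_C, Polynomial.eval_pow, Polynomial.eval_X, Polynomial.eval_C,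
          Polynomial.map_sub] at hz
        exact sub_eq_zero.mp hz
      haveI : CharP L p := charP_of_injective_algebraMap (algebraMap K L).injective p
      obtain ⟨i, hi⟩ := hadm L (imperfection_finite_of_finite k₀ K L)
      have hmem : (1 : L) ⊗ₜ[K] KaehlerDifferential.D k₀ K x ∈ EGA41.imperfection k₀ K L := by
        unfold EGA41.imperfection
        rw [LinearMap.mem_ker, KaehlerDifferential.mapBaseChange_tmul, one_smul,
          KaehlerDifferential.map_D, ← hzp, Derivation.leibniz_pow, nsmul_eq_zero_of_charP p L]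
      have h0 : ((KaehlerDifferential.map k₀ (k i) K K).restrictScalars K).baseChange L
          ((1 : L) ⊗ₜ[K] KaehlerDifferential.D k₀ K x) = 0 := by
        rw [LinearMap.baseChange_tmul]
        have : ((KaehlerDifferential.map k₀ (k i) K K).restrictScalars K)
            (KaehlerDifferential.D k₀ K x) = KaehlerDifferential.D (k i) K x := map_D' (k i) x
        rw [this]
        have hxi : x ∈ EGA41.pPowerSubalgebra p ↥(k i) K :=
          (mem_sup_adjoin_pow_iff p (k i) x).mp (hx i)
        rw [(D_eq_zero_iff p ↥(k i) x).mpr hxi, TensorProduct.tmul_zero]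
      have h1 := hi _ hmem h0
      have hinj := Module.Flat.tensorProduct_mk_injective K (Ω[K⁄k₀]) L
      apply hinj
      rw [map_zero]
      exact h1
    · exact le_iInf fun i => le_sup_right

end Groth.Agent.Lib.Helper21.PBasis
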