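import Mathlib
import Groth.Prelude.Def_EGA41
import Groth.Agent.Lib.Helper21.PBasisM

namespace Groth.Agent.Lib.Helper21.PBasis

open TensorProduct

universe u

section KS

variable (R A B : Type*) [CommRing R] [CommRing A] [CommRing B] [Algebra R A] [Algebra A B]
  [Algebra R B] [IsScalarTower R A B]

/-- The kernel of `Ω[B⁄R] → Ω[B⁄A]` is spanned by the differentials of elements of `A`. -/
theorem ker_map_eq_span :
    LinearMap.ker (KaehlerDifferential.map R A B B) =
      Submodule.span B (Set.range fun a : A => KaehlerDifferential.D R B (algebraMap A B a)) := by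
  apply le_antisymm
  · have hcomp : ∀ θ : Ω[A⁄R], KaehlerDifferential.map R R A B θ ∈
        Submodule.span B (Set.range fun a : A => KaehlerDifferential.D R B (algebraMap A B a)) := by
      intro θ
      have hθ : θ ∈ Submodule.span A (Set.range (KaehlerDifferential.D R A)) := by
        rw [KaehlerDifferential.span_range_derivation]; trivial
      induction hθ using Submodule.span_induction with
      | mem y hy =>
        obtain ⟨a, rfl⟩ := hy
        rw [KaehlerDifferential.map_D]
        exact Submodule.subset_span ⟨a, rfl⟩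
      | zero => rw [map_zero]; exact zero_mem _
      | add y z _ _ hy hz => rw [map_add]; exact add_mem hy hz
      | smul a y _ hy =>
        rw [map_smul, ← algebraMap_smul B a]
        exact Submodule.smul_mem _ _ hy
    intro ω hω
    rw [LinearMap.mem_ker] at hω
    obtain ⟨z, rfl⟩ := (KaehlerDifferential.exact_mapBaseChange_map R A B ω).mp hω
    clear hω
    induction z using TensorProduct.induction_on with
    | zero => rw [map_zero]; exact zero_mem _
    | add z w hz hw => rw [map_add]; exact add_mem hz hw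
    | tmul b θ =>
      rw [KaehlerDifferential.mapBaseChange_tmul]
      exact Submodule.smul_mem _ _ (hcomp θ)
  · rw [Submodule.span_le]
    rintro _ ⟨a, rfl⟩
    rw [SetLike.mem_coe, LinearMap.mem_ker, KaehlerDifferential.map_D]
    exact Derivation.map_algebraMap _ a

end KS

end Groth.Agent.Lib.Helper21.PBasis

namespace Groth.Agent.Lib.Helper21.PBasis

open TensorProduct

universe u

theorem S4546_aux (p : ℕ) [Fact p.Prime] {k₀ K L : Type u}
    [Field k₀] [Field K] [Field L] [Algebra k₀ K] [Algebra K L] [Algebra k₀ L] [IsScalarTower k₀ K L] [CharP K p] [CharP L p]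
    {ι : Type u} [Preorder ι] [IsDirected ι (· ≤ ·)] [Nonempty ι] (k : ι → IntermediateField k₀ K) (hk : Antitone k)
    (h : (⨅ i, k i ⊔ IntermediateField.adjoin k₀ (Set.range fun y : K => y ^ p)) =
      IntermediateField.adjoin k₀ (Set.range fun y : K => y ^ p))
    [Module.Finite L (EGA41.imperfection k₀ K L)] :
    (⨅ i, (k i).map (IsScalarTower.toAlgHom k₀ K L) ⊔ IntermediateField.adjoin k₀ (Set.range fun y : L => y ^ p)) =
      IntermediateField.adjoin k₀ (Set.range fun y : L => y ^ p) := by
  classical
  have hsep := (S2475_aux p k hk).mp h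
  set φ := IsScalarTower.toAlgHom k₀ K L with hφ
  have hk' : Antitone fun i => (k i).map φ := fun i j hij => IntermediateField.map_mono φ (hk hij)
  refine (S2475_aux p (fun i => (k i).map φ) hk').mpr ?_
  intro ω hω
  -- the kernels `N_i`
  let f : ∀ i, Ω[K⁄k₀] →ₗ[K] Ω[K⁄k i] := fun i =>
    (KaehlerDifferential.map k₀ (k i) K K).restrictScalars K
  have hdir : ∀ i j, ∃ l, LinearMap.ker (f l) ≤ LinearMap.ker (f i) ∧
      LinearMap.ker (f l) ≤ LinearMap.ker (f j) := by
    intro i j
    obtain ⟨l, hl1, hl2⟩ := exists_ge_ge i j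
    exact ⟨l, ker_map_le (hk hl1), ker_map_le (hk hl2)⟩
  -- Claim A
  have claimA : ∀ i, ∃ ν : L ⊗[K] Ω[K⁄k₀], (f i).baseChange L ν = 0 ∧
      KaehlerDifferential.mapBaseChange k₀ K L ν = ω := by
    intro i
    have h1 : ω ∈ LinearMap.ker (KaehlerDifferential.map k₀ ((k i).map φ) L L) :=
      LinearMap.mem_ker.mpr (hω i)
    rw [ker_map_eq_span] at h1
    have h2 : Submodule.span L (Set.range fun a : ↥((k i).map φ) =>
        KaehlerDifferential.D k₀ L (algebraMap ↥((k i).map φ) L a)) ≤
        Submodule.map (KaehlerDifferential.mapBaseChange k₀ K L)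
          (LinearMap.ker ((f i).baseChange L)) := by
      rw [Submodule.span_le]
      rintro _ ⟨⟨c', hc'⟩, rfl⟩
      obtain ⟨c, hc, rfl⟩ := (IntermediateField.mem_map (k i)).mp hc'
      refine ⟨(1 : L) ⊗ₜ[K] KaehlerDifferential.D k₀ K c, ?_, ?_⟩
      · rw [SetLike.mem_coe, LinearMap.mem_ker, LinearMap.baseChange_tmul]
        have : (f i) (KaehlerDifferential.D k₀ K c) = KaehlerDifferential.D (k i) K c :=
          map_D' (k i) c
        rw [this]
        have hc2 : c = algebraMap ↥(k i) K ⟨c, hc⟩ := rfl
        rw [hc2, Derivation.map_algebraMap, TensorProduct.tmul_zero]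
      · rw [KaehlerDifferential.mapBaseChange_tmul, one_smul, KaehlerDifferential.map_D]
        rfl
    obtain ⟨ν, hν1, hν2⟩ := h2 h1
    exact ⟨ν, LinearMap.mem_ker.mp hν1, hν2⟩
  obtain ⟨i₀⟩ := (inferInstance : Nonempty ι)
  obtain ⟨η, -, hη⟩ := claimA i₀
  have hfg : (EGA41.imperfection k₀ K L ⊔ Submodule.span L {η}).FG :=
    (Module.Finite.iff_fg.mp inferInstance).sup (Submodule.fg_span_singleton η)
  obtain ⟨i₁, hi₁⟩ := exists_injOn_baseChange (K := K) (L := L) (V := Ω[K⁄k₀])
    (W := fun i => Ω[K⁄k i]) f hdir (fun v hv => hsep v hv) _ hfg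
  obtain ⟨ν, hν1, hν2⟩ := claimA i₁
  have hdiff : η - ν ∈ EGA41.imperfection k₀ K L := by
    unfold EGA41.imperfection
    rw [LinearMap.mem_ker, map_sub, hη, hν2, sub_self]
  have hνmem : ν ∈ EGA41.imperfection k₀ K L ⊔ Submodule.span L {η} := by
    have : ν = -(η - ν) + η := by abel
    rw [this]
    exact add_mem (Submodule.mem_sup_left (neg_mem hdiff))
      (Submodule.mem_sup_right (Submodule.mem_span_singleton_self η))
  have hν0 := hi₁ ν hνmem hν1
  rw [← hν2, hν0, map_zero]

end Groth.Agent.Lib.Helper21.PBasis
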