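import Mathlib
import Groth.Agent.Lib.Helper21.SepSmoothE
import Groth.Agent.Lib.Helper21.PBasisO
import Groth.Agent.Lib.Helper21.PBasisC

set_option autoImplicit false
set_option linter.style.haveILetI false

namespace Groth.Agent.Lib.Helper21.SepSmooth

open TensorProduct

universe v w

/-- geometric reducedness only depends on the image of the base field -/
theorem isGeometricallyReduced_of_bijective {k : Type v} {k' L : Type w} [Field k] [Field k']
    [Field L] [Algebra k L] [Algebra k' L] [Algebra k k'] [IsScalarTower k k' L]
    (hbij : Function.Bijective (algebraMap k k')) [Algebra.IsGeometricallyReduced k L] :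
    Algebra.IsGeometricallyReduced k' L := by
  rw [Algebra.isGeometricallyReduced_field_iff]
  let Ω' := AlgebraicClosure k'
  haveI : IsScalarTower k k' Ω' := inferInstance
  haveI : Algebra.IsIntegral k k' := Algebra.isIntegral_of_surjective hbij.2
  haveI : Algebra.IsAlgebraic k k' := inferInstance
  haveI : Algebra.IsAlgebraic k Ω' := Algebra.IsAlgebraic.trans k k' Ω'
  haveI : IsReduced (Ω' ⊗[k] L) := inferInstance
  haveI : TensorProduct.CompatibleSMul k k' Ω' L := ⟨fun s m n => by
    obtain ⟨c, rfl⟩ := hbij.2 s
    rw [algebraMap_smul, algebraMap_smul, TensorProduct.smul_tmul]⟩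
  exact isReduced_of_injective (Algebra.TensorProduct.equivOfCompatibleSMul k k' k' Ω' L).toAlgHom
    (AlgEquiv.injective _)

/-- universe-general version: a geometrically reduced field extension is formally smooth -/
theorem formallySmooth_of_geomReduced' {k : Type v} {L : Type w} [Field k] [Field L]
    [Algebra k L] [Algebra.IsGeometricallyReduced k L] : Algebra.FormallySmooth k L := by
  let k' : Subfield L := (algebraMap k L).fieldRange
  letI : Algebra k k' := (algebraMap k L).rangeRestrictField.toAlgebra
  haveI : IsScalarTower k k' L := IsScalarTower.of_algebraMap_eq (fun _ => rfl)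
  have hbij : Function.Bijective (algebraMap k k') := (algebraMap k L).rangeRestrictField_bijective
  haveI : Algebra.IsGeometricallyReduced k' L := isGeometricallyReduced_of_bijective hbij
  haveI : Algebra.FormallySmooth k' L := formallySmooth_of_geomReduced
  haveI : Algebra.FormallySmooth k k' :=
    Algebra.FormallySmooth.of_equiv (AlgEquiv.ofBijective (Algebra.ofId k k') hbij)
  exact Algebra.FormallySmooth.comp k k' L

end Groth.Agent.Lib.Helper21.SepSmooth

namespace Groth.Agent.Lib.Helper21.SepSmooth

open TensorProduct

section Chase

variable {R A B C : Type*} [CommRing R] [CommRing A] [CommRing B] [CommRing C]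
  [Algebra R A] [Algebra R B] [Algebra R C] [Algebra A B] [Algebra A C] [Algebra B C]
  [IsScalarTower R A B] [IsScalarTower R A C] [IsScalarTower R B C] [IsScalarTower A B C]

theorem map_map_eq (ω : Ω[A⁄R]) :
    KaehlerDifferential.map R R B C (KaehlerDifferential.map R R A B ω) =
      KaehlerDifferential.map R R A C ω := by
  have hω : ω ∈ Submodule.span A (Set.range (KaehlerDifferential.D R A)) := by
    rw [KaehlerDifferential.span_range_derivation]; trivial
  induction hω using Submodule.span_induction with
  | mem x hx =>
    obtain ⟨a, rfl⟩ := hx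
    rw [KaehlerDifferential.map_D, KaehlerDifferential.map_D, KaehlerDifferential.map_D,
      ← IsScalarTower.algebraMap_apply]
  | zero => rw [map_zero, map_zero, map_zero]
  | add x y _ _ hx hy => rw [map_add, map_add, map_add, hx, hy]
  | smul a x _ hx =>
    rw [(KaehlerDifferential.map R R A B).map_smul, (KaehlerDifferential.map R R A C).map_smul,
      ← hx, ← algebraMap_smul B a (KaehlerDifferential.map R R A B x),
      (KaehlerDifferential.map R R B C).map_smul, algebraMap_smul]

theorem chase_compat (w : C ⊗[B] (B ⊗[A] Ω[A⁄R])) :
    KaehlerDifferential.mapBaseChange R B C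
        ((KaehlerDifferential.mapBaseChange R A B).lTensor C w) =
      KaehlerDifferential.mapBaseChange R A C
        (TensorProduct.AlgebraTensorModule.cancelBaseChange A B C C (Ω[A⁄R]) w) := by
  induction w using TensorProduct.induction_on with
  | zero => simp only [map_zero]
  | add x y hx hy => simp only [map_add, hx, hy]
  | tmul c y =>
    induction y using TensorProduct.induction_on with
    | zero => simp only [TensorProduct.tmul_zero, map_zero]
    | add x y hx hy => simp only [TensorProduct.tmul_add, map_add, hx, hy]
    | tmul b ω =>
      rw [LinearMap.lTensor_tmul, KaehlerDifferential.mapBaseChange_tmul,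
        KaehlerDifferential.mapBaseChange_tmul,
        TensorProduct.AlgebraTensorModule.cancelBaseChange_tmul,
        KaehlerDifferential.mapBaseChange_tmul, map_smul, map_map_eq, smul_assoc]
      rw [smul_comm]

/-- the diagram chase for admissibility when `C ⊗[A] Ω[A/R] → Ω[C/R]` is injective -/
theorem eq_zero_of_injective (hinj : Function.Injective (KaehlerDifferential.mapBaseChange R A C))
    (z : C ⊗[B] Ω[B⁄R]) (hz : KaehlerDifferential.mapBaseChange R B C z = 0)
    (hz' : (KaehlerDifferential.map R A B B).baseChange C z = 0) : z = 0 := by
  have hex := lTensor_exact C (KaehlerDifferential.exact_mapBaseChange_map R A B)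
    (KaehlerDifferential.map_surjective R A B)
  have hz'' : (KaehlerDifferential.map R A B B).lTensor C z = 0 := hz'
  obtain ⟨w, rfl⟩ := (hex z).mp hz''
  rw [chase_compat] at hz
  have h1 := hinj (hz.trans (map_zero _).symm)
  have h2 : w = 0 := (LinearEquiv.map_eq_zero_iff _).mp h1
  rw [h2, map_zero]

end Chase

end Groth.Agent.Lib.Helper21.SepSmooth

namespace Groth.Agent.Lib.Helper21.SepSmooth

open TensorProduct Groth.Agent.Lib.Helper21.PBasis

universe v w

theorem S5835_aux {k : Type v} {k₀ K L : Type w}
    [Field k₀] [Field k] [Field K] [Field L] [Algebra k₀ k] [Algebra k₀ K] [Algebra k₀ L] [Algebra k K]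
    [Algebra k L] [Algebra K L] [IsScalarTower k₀ k K] [IsScalarTower k₀ k L] [IsScalarTower k₀ K L]
    [IsScalarTower k K L] (p : ℕ) [hexp : ExpChar K p]
    (h : Algebra.IsGeometricallyReduced k L ∨ Algebra.IsGeometricallyReduced K L ∨
      ∀ x : k, algebraMap k K x ∈ EGA41.pPowerSubalgebra p k₀ K) :
    ∀ z : L ⊗[K] Ω[K⁄k₀], z ∈ EGA41.imperfection k₀ K L →
      (KaehlerDifferential.map k₀ k K K).baseChange L z = 0 → z = 0 := by
  intro z hz hz'
  have hz0 : KaehlerDifferential.mapBaseChange k₀ K L z = 0 := hz
  -- case 2 as a lemma
  have case2 : Algebra.IsGeometricallyReduced K L → z = 0 := by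
    intro h2
    haveI : Algebra.FormallySmooth K L := formallySmooth_iff_geomReduced.mpr h2
    exact (mapBaseChange_injective_of_subsingleton_h1 (R := k₀) (S := K) (T := L))
      (hz0.trans (map_zero _).symm)
  rcases h with h1 | h2 | h3
  · haveI : Algebra.FormallySmooth k L := formallySmooth_of_geomReduced'
    exact eq_zero_of_injective (mapBaseChange_injective_of_subsingleton_h1 (R := k₀) (S := k) (T := L))
      z hz0 hz'
  · exact case2 h2
  · cases hexp with
    | zero =>
      haveI : CharZero K := inferInstance
      exact case2 isGeometricallyReduced_of_charZero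
    | prime hprime =>
      haveI : Fact p.Prime := ⟨hprime⟩
      have hker : LinearMap.ker (KaehlerDifferential.map k₀ k K K) = ⊥ := by
        rw [ker_map_eq_span, Submodule.span_eq_bot]
        rintro _ ⟨a, rfl⟩
        exact derivation_eq_zero_of_mem p _ _ (h3 a)
      have hinj : Function.Injective ((KaehlerDifferential.map k₀ k K K).baseChange L) := by
        have := Module.Flat.lTensor_preserves_injective_linearMap (M := L)
          (KaehlerDifferential.map k₀ k K K) (LinearMap.ker_eq_bot.mp hker)
        exact this
      exact hinj (hz'.trans (map_zero _).symm)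

end Groth.Agent.Lib.Helper21.SepSmooth
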