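import Mathlib
import Groth.Prelude.Def_EGA41
import Groth.Agent.Lib.Helper21.SepSmoothF

set_option autoImplicit false
set_option linter.style.haveILetI false

namespace Groth.Agent.Lib.Helper21.SepSmooth

open TensorProduct

universe u

/-- the kernel of a derivation of a field into a module, as a subfield -/
def derKerM {R K M : Type*} [CommRing R] [Field K] [Algebra R K] [AddCommGroup M] [Module K M]
    [Module R M] [IsScalarTower R K M] (d : Derivation R K M) : Subfield K where
  carrier := {y | d y = 0}
  mul_mem' := by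
    intro a b ha hb
    show d (a * b) = 0
    rw [Derivation.leibniz, show d a = 0 from ha, show d b = 0 from hb, smul_zero, smul_zero, add_zero]
  one_mem' := Derivation.map_one_eq_zero _
  add_mem' := by
    intro a b ha hb
    show d (a + b) = 0
    rw [map_add, show d a = 0 from ha, show d b = 0 from hb, add_zero]
  zero_mem' := map_zero _
  neg_mem' := by
    intro a ha
    show d (-a) = 0
    rw [map_neg, show d a = 0 from ha, neg_zero]
  inv_mem' := by
    intro a ha
    show d a⁻¹ = 0
    rw [Derivation.leibniz_inv, show d a = 0 from ha, smul_zero]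

theorem D_int_eq_zero_of_mem_bot {k : Type*} [Field k] (a : k) (ha : a ∈ (⊥ : Subfield k)) :
    KaehlerDifferential.D ℤ k a = 0 := by
  have : (⊥ : Subfield k) ≤ derKerM (KaehlerDifferential.D ℤ k) := bot_le
  exact this ha

section Square

variable {k K : Type*} [Field k] [Field K] [Algebra k K]

/-- `Ω[k/ℤ] → Ω[k/P]` is injective for the prime field `P` -/
theorem map_int_bot_injective :
    Function.Injective (KaehlerDifferential.map ℤ (⊥ : Subfield k) k k) := by
  rw [← LinearMap.ker_eq_bot, Groth.Agent.Lib.Helper21.PBasis.ker_map_eq_span, Submodule.span_eq_bot]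
  rintro _ ⟨a, rfl⟩
  exact D_int_eq_zero_of_mem_bot _ a.2

/-- `Ω[K/ℤ] → Ω[K/P]` is injective for the prime field `P` of a subfield `k` -/
theorem map_int_bot_injective' :
    Function.Injective (KaehlerDifferential.map ℤ (⊥ : Subfield k) K K) := by
  rw [← LinearMap.ker_eq_bot, Groth.Agent.Lib.Helper21.PBasis.ker_map_eq_span, Submodule.span_eq_bot]
  rintro _ ⟨a, rfl⟩
  show KaehlerDifferential.D ℤ K (algebraMap k K (a : k)) = 0
  rw [← KaehlerDifferential.map_D ℤ ℤ k K, D_int_eq_zero_of_mem_bot _ a.2, map_zero]

theorem sq_aux (ω : Ω[k⁄ℤ]) :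
    KaehlerDifferential.map ℤ (⊥ : Subfield k) K K (KaehlerDifferential.map ℤ ℤ k K ω) =
      KaehlerDifferential.map (⊥ : Subfield k) (⊥ : Subfield k) k K
        (KaehlerDifferential.map ℤ (⊥ : Subfield k) k k ω) := by
  have hω : ω ∈ Submodule.span k (Set.range (KaehlerDifferential.D ℤ k)) := by
    rw [KaehlerDifferential.span_range_derivation]; trivial
  induction hω using Submodule.span_induction with
  | mem x hx =>
    obtain ⟨a, rfl⟩ := hx
    rw [KaehlerDifferential.map_D, KaehlerDifferential.map_D, KaehlerDifferential.map_D,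
      KaehlerDifferential.map_D]
    rfl
  | zero => simp only [map_zero]
  | add x y _ _ hx hy => simp only [map_add, hx, hy]
  | smul a x _ hx =>
    rw [(KaehlerDifferential.map ℤ ℤ k K).map_smul,
      (KaehlerDifferential.map ℤ (⊥ : Subfield k) k k).map_smul,
      (KaehlerDifferential.map (⊥ : Subfield k) (⊥ : Subfield k) k K).map_smul, ← hx,
      ← algebraMap_smul K a (KaehlerDifferential.map ℤ ℤ k K x),
      (KaehlerDifferential.map ℤ (⊥ : Subfield k) K K).map_smul, algebraMap_smul]

theorem sq (x : K ⊗[k] Ω[k⁄ℤ]) :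
    KaehlerDifferential.map ℤ (⊥ : Subfield k) K K (KaehlerDifferential.mapBaseChange ℤ k K x) =
      KaehlerDifferential.mapBaseChange (⊥ : Subfield k) k K
        ((KaehlerDifferential.map ℤ (⊥ : Subfield k) k k).lTensor K x) := by
  induction x using TensorProduct.induction_on with
  | zero => simp only [map_zero]
  | add x y hx hy => simp only [map_add, hx, hy]
  | tmul c ω =>
    rw [LinearMap.lTensor_tmul, KaehlerDifferential.mapBaseChange_tmul,
      KaehlerDifferential.mapBaseChange_tmul, map_smul, sq_aux]

theorem mapBaseChange_bot_injective_iff :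
    Function.Injective (KaehlerDifferential.mapBaseChange (⊥ : Subfield k) k K) ↔
      Function.Injective (KaehlerDifferential.mapBaseChange ℤ k K) := by
  constructor
  · intro h
    rw [injective_iff_map_eq_zero]
    intro x hx
    have h1 := sq x
    rw [hx, map_zero] at h1
    have h2 := h (h1.symm.trans (map_zero _).symm)
    exact (Module.Flat.lTensor_preserves_injective_linearMap (M := K) _ map_int_bot_injective)
      (h2.trans (map_zero _).symm)
  · intro h
    rw [injective_iff_map_eq_zero]
    intro y hy
    obtain ⟨x, rfl⟩ := LinearMap.lTensor_surjective K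
      (KaehlerDifferential.map_surjective ℤ (⊥ : Subfield k) k) y
    rw [← sq] at hy
    have h1 := map_int_bot_injective' (hy.trans (map_zero _).symm)
    have h2 := h (h1.trans (map_zero _).symm)
    rw [h2, map_zero]

end Square

end Groth.Agent.Lib.Helper21.SepSmooth

namespace Groth.Agent.Lib.Helper21.SepSmooth

open TensorProduct Groth.Agent.Lib.Helper21.PBasis Groth.Agent.Lib.Helper21.FSmoothField

universe u

theorem formallySmooth_bot' {k K : Type u} [Field k] [Field K] [Algebra k K] :
    Algebra.FormallySmooth (⊥ : Subfield k) K := by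
  obtain ⟨p, hp⟩ := CharP.exists k
  rcases CharP.char_is_prime_or_zero k p with hpp | rfl
  · haveI : Fact p.Prime := ⟨hpp⟩
    haveI : CharP K p := charP_of_injective_algebraMap (algebraMap k K).injective p
    obtain ⟨Bs, hB⟩ := exists_isPBasis p (⊥ : Subfield k) (K := K)
    exact (Groth.Agent.S4541.result p _ hB).1
  · haveI : CharZero k := CharP.charP_to_charZero k
    haveI : CharZero (⊥ : Subfield k) := RingHom.charZero (⊥ : Subfield k).subtype
    obtain ⟨ι, x, hx⟩ := exists_isTranscendenceBasis' (⊥ : Subfield k) K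
    haveI := hx.isAlgebraic_field
    exact Algebra.FormallySmooth.of_algebraicIndependent_of_isSeparable hx.1

theorem geomReduced_iff_injective_int {k K : Type u} [Field k] [Field K] [Algebra k K] :
    Algebra.IsGeometricallyReduced k K ↔
      Function.Injective (KaehlerDifferential.mapBaseChange ℤ k K) := by
  constructor
  · intro h
    haveI : Algebra.FormallySmooth k K := formallySmooth_iff_geomReduced.mpr h
    exact mapBaseChange_injective_of_subsingleton_h1
  · intro h
    have h1 := mapBaseChange_bot_injective_iff.mpr h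
    haveI : Algebra.FormallySmooth (⊥ : Subfield k) K := formallySmooth_bot'
    haveI := subsingleton_h1_of_injective h1
    exact formallySmooth_iff_geomReduced.mp ⟨inferInstance, inferInstance⟩

end Groth.Agent.Lib.Helper21.SepSmooth

namespace Groth.Agent.Lib.Helper21.SepSmooth

open TensorProduct

section Extend

variable {k K : Type*} [Field k] [Field K] [Algebra k K]

theorem extend_of_injective_int
    (h : Function.Injective (KaehlerDifferential.mapBaseChange ℤ k K)) (D : Derivation ℤ k K) :
    ∃ D' : Derivation ℤ K K, ∀ a : k, D' (algebraMap k K a) = D a := by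
  obtain ⟨r, hr⟩ := LinearMap.exists_leftInverse_of_injective
    (KaehlerDifferential.mapBaseChange ℤ k K) (LinearMap.ker_eq_bot.mpr h)
  let φ : Ω[k⁄ℤ] →ₗ[k] K := D.liftKaehlerDifferential
  let φK : K ⊗[k] Ω[k⁄ℤ] →ₗ[K] K := LinearMap.liftBaseChange K φ
  let ψ : Ω[K⁄ℤ] →ₗ[K] K := φK ∘ₗ r
  refine ⟨ψ.compDer (KaehlerDifferential.D ℤ K), fun a => ?_⟩
  have h1 : KaehlerDifferential.D ℤ K (algebraMap k K a) =
      KaehlerDifferential.mapBaseChange ℤ k K ((1 : K) ⊗ₜ[k] KaehlerDifferential.D ℤ k a) := by
    rw [KaehlerDifferential.mapBaseChange_tmul, one_smul, KaehlerDifferential.map_D]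
  show ψ (KaehlerDifferential.D ℤ K (algebraMap k K a)) = D a
  rw [h1]
  show φK (r (KaehlerDifferential.mapBaseChange ℤ k K _)) = D a
  have h2 : r (KaehlerDifferential.mapBaseChange ℤ k K ((1 : K) ⊗ₜ[k] KaehlerDifferential.D ℤ k a)) =
      (1 : K) ⊗ₜ[k] KaehlerDifferential.D ℤ k a := LinearMap.congr_fun hr _
  rw [h2, LinearMap.liftBaseChange_tmul, one_smul]
  exact Derivation.liftKaehlerDifferential_comp_D D a

theorem injective_int_of_extend
    (h : ∀ D : Derivation ℤ k K, ∃ D' : Derivation ℤ K K, ∀ a : k, D' (algebraMap k K a) = D a) :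
    Function.Injective (KaehlerDifferential.mapBaseChange ℤ k K) := by
  rw [injective_iff_map_eq_zero]
  intro x hx
  by_contra hx0
  obtain ⟨f, hf⟩ : ∃ f : Module.Dual K (K ⊗[k] Ω[k⁄ℤ]), f x ≠ 0 := by
    by_contra hall
    push Not at hall
    exact hx0 ((Module.forall_dual_apply_eq_zero_iff K x).mp hall)
  let g : Ω[k⁄ℤ] →ₗ[k] K := (f.restrictScalars k) ∘ₗ (TensorProduct.mk k K (Ω[k⁄ℤ]) 1)
  have hg : ∀ ω, g ω = f ((1 : K) ⊗ₜ[k] ω) := fun ω => rfl
  let D : Derivation ℤ k K := g.compDer (KaehlerDifferential.D ℤ k)
  have hD : ∀ a, D a = f ((1 : K) ⊗ₜ[k] KaehlerDifferential.D ℤ k a) := fun a => rfl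
  obtain ⟨D', hD'⟩ := h D
  let ψ : Ω[K⁄ℤ] →ₗ[K] K := D'.liftKaehlerDifferential
  have hcomp : ∀ y : K ⊗[k] Ω[k⁄ℤ], ψ (KaehlerDifferential.mapBaseChange ℤ k K y) = f y := by
    intro y
    induction y using TensorProduct.induction_on with
    | zero => simp only [map_zero]
    | add y z hy hz => simp only [map_add, hy, hz]
    | tmul c ω =>
      have hω : ω ∈ Submodule.span k (Set.range (KaehlerDifferential.D ℤ k)) := by
        rw [KaehlerDifferential.span_range_derivation]; trivial
      induction hω using Submodule.span_induction with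
      | mem z hz =>
        obtain ⟨a, rfl⟩ := hz
        rw [KaehlerDifferential.mapBaseChange_tmul, map_smul, KaehlerDifferential.map_D]
        have : ψ (KaehlerDifferential.D ℤ K (algebraMap k K a)) = D' (algebraMap k K a) :=
          Derivation.liftKaehlerDifferential_comp_D D' _
        rw [this, hD', hD]
        have : c ⊗ₜ[k] KaehlerDifferential.D ℤ k a = c • ((1 : K) ⊗ₜ[k] KaehlerDifferential.D ℤ k a) := by
          rw [TensorProduct.smul_tmul', smul_eq_mul, mul_one]
        rw [this, map_smul]
      | zero => simp only [TensorProduct.tmul_zero, map_zero]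
      | add y z _ _ hy hz => simp only [TensorProduct.tmul_add, map_add, hy, hz]
      | smul a y _ hy =>
        have e1 : c ⊗ₜ[k] (a • y) = (algebraMap k K a * c) ⊗ₜ[k] y := by
          rw [TensorProduct.tmul_smul, TensorProduct.smul_tmul', Algebra.smul_def]
        have e2 : (algebraMap k K a * c) ⊗ₜ[k] y = algebraMap k K a • (c ⊗ₜ[k] y) := by
          rw [TensorProduct.smul_tmul', smul_eq_mul]
        rw [e1, e2, map_smul, map_smul, map_smul, hy]
  exact hf ((hcomp x).symm.trans (by rw [hx, map_zero]))

end Extend

universe u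

theorem S4523_aux {k K : Type u} [Field k] [Field K] [Algebra k K] :
    (Algebra.IsGeometricallyReduced k K ↔ EGA41.imperfection ℤ k K = ⊥) ∧
    (Algebra.IsGeometricallyReduced k K ↔
      ∀ D : Derivation ℤ k K, ∃ D' : Derivation ℤ K K, ∀ a : k, D' (algebraMap k K a) = D a) := by
  constructor
  · rw [geomReduced_iff_injective_int]
    exact LinearMap.ker_eq_bot.symm
  · rw [geomReduced_iff_injective_int]
    exact ⟨fun h D => extend_of_injective_int h D, injective_int_of_extend⟩

end Groth.Agent.Lib.Helper21.SepSmooth
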