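import Mathlib

set_option autoImplicit false
set_option linter.style.haveILetI false

namespace Groth.Agent.Lib.Helper21.SepFT

open IsLocalRing TensorProduct

universe u v w

section LA

/-- a linear map from a finite module into a free module on a type lands in the part supported
on a finite set -/
theorem exists_finset_supported {R : Type u} [CommRing R] {M : Type v} {N : Type w}
    [AddCommGroup M] [Module R M] [Module.Finite R M] (l₁ : M →ₗ[R] (N →₀ R)) :
    ∃ σ : Finset N, ∀ m : M, l₁ m ∈ Finsupp.supported R R (σ : Set N) := by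
  classical
  obtain ⟨t, ht⟩ := (inferInstance : Module.Finite R M).fg_top
  refine ⟨t.biUnion (fun g => (l₁ g).support), fun m => ?_⟩
  have hm : m ∈ Submodule.span R (t : Set M) := by rw [ht]; trivial
  induction hm using Submodule.span_induction with
  | mem x hx =>
    rw [Finsupp.mem_supported]
    intro a ha
    exact Finset.mem_biUnion.mpr ⟨x, hx, ha⟩
  | zero => rw [map_zero]; exact Submodule.zero_mem _
  | add x y _ _ hx hy => rw [map_add]; exact Submodule.add_mem _ hx hy
  | smul a x _ hx => rw [map_smul]; exact Submodule.smul_mem _ a hx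

/-- a linear map from a finite module into a free module on a type factors through a finite free
direct summand -/
theorem exists_finite_free_factor {R : Type u} [CommRing R] {M : Type v} {N : Type w}
    [AddCommGroup M] [Module R M] [Module.Finite R M] (l₁ : M →ₗ[R] (N →₀ R)) :
    ∃ (σ : Finset N) (l₂ : M →ₗ[R] ((σ : Set N) →₀ R)) (ι : ((σ : Set N) →₀ R) →ₗ[R] (N →₀ R))
      (ρ : (N →₀ R) →ₗ[R] ((σ : Set N) →₀ R)), ρ ∘ₗ ι = LinearMap.id ∧ ι ∘ₗ l₂ = l₁ := by
  classical
  obtain ⟨σ, hσ⟩ := exists_finset_supported l₁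
  let e := Finsupp.supportedEquivFinsupp (M := R) (R := R) (σ : Set N)
  refine ⟨σ, e.toLinearMap ∘ₗ l₁.codRestrict _ hσ,
    (Finsupp.supported R R (σ : Set N)).subtype ∘ₗ e.symm.toLinearMap,
    e.toLinearMap ∘ₗ Finsupp.restrictDom R R (σ : Set N), ?_, ?_⟩
  · refine LinearMap.ext fun x => ?_
    have := LinearMap.congr_fun (Finsupp.restrictDom_comp_subtype (M := R) (R := R) (σ : Set N))
      (e.symm x)
    show e (Finsupp.restrictDom R R (σ : Set N)
      ((Finsupp.supported R R (σ : Set N)).subtype (e.symm x))) = x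
    have h2 : Finsupp.restrictDom R R (σ : Set N)
      ((Finsupp.supported R R (σ : Set N)).subtype (e.symm x)) = e.symm x := this
    rw [h2, LinearEquiv.apply_symm_apply]
  · refine LinearMap.ext fun m => ?_
    show (Finsupp.supported R R (σ : Set N)).subtype (e.symm (e (l₁.codRestrict _ hσ m))) = l₁ m
    rw [LinearEquiv.symm_apply_apply]
    rfl

variable {R : Type u} [CommRing R] [IsLocalRing R] {M : Type v} {N : Type w}
  [AddCommGroup M] [AddCommGroup N] [Module R M] [Module R N]

theorem injective_lTensor_of_comp {M₁ M₂ M₃ : Type*} [AddCommMonoid M₁] [AddCommMonoid M₂]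
    [AddCommMonoid M₃] [Module R M₁] [Module R M₂] [Module R M₃] (f : M₁ →ₗ[R] M₂)
    (g : M₂ →ₗ[R] M₃) (h : Function.Injective ((g ∘ₗ f).lTensor (ResidueField R))) :
    Function.Injective (f.lTensor (ResidueField R)) := by
  rw [LinearMap.lTensor_comp] at h
  exact Function.Injective.of_comp h

theorem injective_lTensor_of_leftInverse {M₂ M₃ : Type*} [AddCommMonoid M₂]
    [AddCommMonoid M₃] [Module R M₂] [Module R M₃] (s : M₂ →ₗ[R] M₃)
    (π : M₃ →ₗ[R] M₂) (h : π ∘ₗ s = LinearMap.id) :
    Function.Injective (s.lTensor (ResidueField R)) := by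
  have h2 : π.lTensor (ResidueField R) ∘ₗ s.lTensor (ResidueField R) = .id := by
    rw [← LinearMap.lTensor_comp, h, LinearMap.lTensor_id]
  exact Function.HasLeftInverse.injective ⟨_, LinearMap.congr_fun h2⟩

/-- a map from a finite module to a projective module over a local ring is a split injection
iff it is injective modulo the maximal ideal -/
theorem split_injective_iff_lTensor_residueField_injective_of_projective
    [Module.Finite R M] [Module.Projective R N] (l : M →ₗ[R] N) :
    (∃ l', l' ∘ₗ l = LinearMap.id) ↔ Function.Injective (l.lTensor (ResidueField R)) := by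
  constructor
  · intro ⟨l', hl⟩
    exact injective_lTensor_of_leftInverse l l' hl
  · intro h
    obtain ⟨s, hs⟩ := Module.projective_def'.mp (inferInstance : Module.Projective R N)
    have hs' := injective_lTensor_of_leftInverse s _ hs
    obtain ⟨σ, l₂, ι, ρ, hρι, hιl⟩ := exists_finite_free_factor (s ∘ₗ l)
    have h1 : Function.Injective ((s ∘ₗ l).lTensor (ResidueField R)) := by
      rw [LinearMap.lTensor_comp]
      exact hs'.comp h
    rw [← hιl] at h1
    have hl₂inj := injective_lTensor_of_comp l₂ ι h1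
    obtain ⟨l₂', hl₂'⟩ :=
      (IsLocalRing.split_injective_iff_lTensor_residueField_injective l₂).mpr hl₂inj
    refine ⟨l₂' ∘ₗ ρ ∘ₗ s, ?_⟩
    calc (l₂' ∘ₗ ρ ∘ₗ s) ∘ₗ l = l₂' ∘ₗ (ρ ∘ₗ (s ∘ₗ l)) := rfl
      _ = l₂' ∘ₗ ((ρ ∘ₗ ι) ∘ₗ l₂) := by rw [← hιl]; rfl
      _ = LinearMap.id := by rw [hρι, LinearMap.id_comp, hl₂']

end LA

end Groth.Agent.Lib.Helper21.SepFT
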