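import Mathlib
import Groth.Prelude.Def_CAlgX
import Groth.Agent.Lib.Helper6.FSAdic

set_option autoImplicit false
set_option linter.style.haveILetI false

namespace Groth.Agent.Lib.Helper21.H1Adic

open KaehlerDifferential Module MvPolynomial TensorProduct Algebra IsLocalRing

universe u

/-- The key lemma on polynomial presentations. -/
theorem key {A B K : Type u} [CommRing A] [CommRing B] [CommRing K] [Algebra A B] [Algebra A K]
    [Algebra B K] [IsScalarTower A B K] (𝔫 : Ideal B)
    (hfs : CAlgX.IsAdicFormallySmooth A B 𝔫)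
    (h𝔫 : ∀ b ∈ 𝔫, algebraMap B K b = 0)
    (evA : MvPolynomial K A →ₐ[A] K) (hevA : ∀ k, evA (X k) = k)
    (evB : MvPolynomial K B →+* K) (hevBC : ∀ b, evB (C b) = algebraMap B K b)
    (hevBX : ∀ k, evB (X k) = k)
    (g : MvPolynomial K A →+* MvPolynomial K B) (hgC : ∀ a, g (C a) = C (algebraMap A B a))
    (hgX : ∀ k, g (X k) = X k)
    (y : MvPolynomial K A) (hy : g y ∈ RingHom.ker evB ^ 2) : y ∈ RingHom.ker evA ^ 2 := by
  classical
  let π : (MvPolynomial K A ⧸ RingHom.ker evA ^ 2) →ₐ[A] K :=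
    Ideal.Quotient.liftₐ (RingHom.ker evA ^ 2) evA
      (fun a ha => Ideal.pow_le_self two_ne_zero ha)
  have hπmk : ∀ q : MvPolynomial K A, π (Ideal.Quotient.mk _ q) = evA q := fun q => rfl
  have hπ : Function.Surjective π := by
    intro k
    exact ⟨Ideal.Quotient.mk _ (X k), by rw [hπmk, hevA]⟩
  have hkerπ : ∀ z ∈ RingHom.ker π, ∃ q ∈ RingHom.ker evA, z = Ideal.Quotient.mk _ q := by
    intro z hz
    obtain ⟨q, rfl⟩ := Ideal.Quotient.mk_surjective z
    exact ⟨q, hz, rfl⟩
  have hsq : RingHom.ker π ^ 2 = ⊥ := by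
    have hpw : RingHom.ker π ^ 2 = RingHom.ker π * RingHom.ker π := pow_two _
    rw [eq_bot_iff, hpw, Ideal.mul_le]
    intro z₁ h₁ z₂ h₂
    obtain ⟨q₁, hq₁, rfl⟩ := hkerπ z₁ h₁
    obtain ⟨q₂, hq₂, rfl⟩ := hkerπ z₂ h₂
    rw [Ideal.mem_bot, ← map_mul, Ideal.Quotient.eq_zero_iff_mem, pow_two]
    exact Ideal.mul_mem_mul hq₁ hq₂
  let u : B →ₐ[A] K := IsScalarTower.toAlgHom A B K
  have hu : ∃ k : ℕ, ∀ x ∈ 𝔫 ^ k, u x = 0 :=
    ⟨1, fun x hx => h𝔫 x (by simpa using hx)⟩
  obtain ⟨σ, hσ⟩ := Groth.Agent.Lib.Helper6.FSAdic.sqZero_exists_lift_of_surjective hfs π hπ hsq u hu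
  have hσ' : ∀ b, π (σ b) = algebraMap B K b := fun b => AlgHom.congr_fun hσ b
  let σt : MvPolynomial K B →+* (MvPolynomial K A ⧸ RingHom.ker evA ^ 2) :=
    MvPolynomial.eval₂Hom (σ : B →+* (MvPolynomial K A ⧸ RingHom.ker evA ^ 2))
      (fun k => Ideal.Quotient.mk _ (X k))
  have hσtC : ∀ b, σt (C b) = σ b := fun b => MvPolynomial.eval₂Hom_C _ _ b
  have hσtX : ∀ k, σt (X k) = Ideal.Quotient.mk _ (X k) := fun k => MvPolynomial.eval₂Hom_X' _ _ k
  have hσt_g : ∀ q : MvPolynomial K A, σt (g q) = Ideal.Quotient.mk _ q := by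
    intro q
    induction q using MvPolynomial.induction_on with
    | C a =>
      rw [hgC, hσtC, σ.commutes]
      rfl
    | add q₁ q₂ h₁ h₂ => rw [map_add, map_add, h₁, h₂, map_add]
    | mul_X q k IH => rw [map_mul, map_mul, IH, hgX, hσtX, map_mul]
  have hπσt : ∀ q : MvPolynomial K B, π (σt q) = evB q := by
    intro q
    have : (π : (MvPolynomial K A ⧸ RingHom.ker evA ^ 2) →+* K).comp σt = evB := by
      apply MvPolynomial.ringHom_ext
      · intro b
        show π (σt (C b)) = _
        rw [hσtC, hσ', hevBC]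
      · intro k
        show π (σt (X k)) = _
        rw [hσtX, hπmk, hevA, hevBX]
    exact RingHom.congr_fun this q
  have hσt_ker : ∀ q ∈ RingHom.ker evB ^ 2, σt q = 0 := by
    intro q hq
    have h1 : (RingHom.ker evB ^ 2).map σt ≤ RingHom.ker π ^ 2 := by
      rw [Ideal.map_pow]
      refine Ideal.pow_right_mono ?_ 2
      rw [Ideal.map_le_iff_le_comap]
      intro z hz
      rw [Ideal.mem_comap, RingHom.mem_ker, hπσt]
      exact hz
    have h2 := h1 (Ideal.mem_map_of_mem σt hq)
    rw [hsq] at h2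
    exact h2
  have h1 := hσt_ker _ hy
  rw [hσt_g] at h1
  exact Ideal.Quotient.eq_zero_iff_mem.mp h1

theorem S9282_aux (A B : Type u) [CommRing A] [CommRing B] [IsLocalRing B] [Algebra A B]
    (hfs : CAlgX.IsAdicFormallySmooth A B (IsLocalRing.maximalIdeal B)) :
    Function.Injective
      (Algebra.H1Cotangent.map A B (IsLocalRing.ResidueField B) (IsLocalRing.ResidueField B)) := by
  classical
  rw [injective_iff_map_eq_zero]
  intro x hx0
  obtain ⟨x, hx⟩ := x
  obtain ⟨⟨y, hy⟩, rfl⟩ := Extension.Cotangent.mk_surjective x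
  have hfy : ((Generators.self A (ResidueField B)).defaultHom
      (Generators.self B (ResidueField B))).toAlgHom y ∈
      (Generators.self B (ResidueField B)).toExtension.ker ^ 2 := by
    have h1 := congrArg Subtype.val hx0
    rw [Algebra.H1Cotangent.map, Extension.H1Cotangent.map_apply_coe] at h1
    have h2 : Extension.Cotangent.map ((Generators.self A (ResidueField B)).defaultHom
        (Generators.self B (ResidueField B))).toExtensionHom (Extension.Cotangent.mk ⟨y, hy⟩) = 0 := h1
    rw [Extension.Cotangent.map_mk, Extension.Cotangent.mk_eq_zero_iff] at h2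
    exact h2
  have hy2 : y ∈ (Generators.self A (ResidueField B)).toExtension.ker ^ 2 := by
    refine key (A := A) (B := B) (K := ResidueField B) (maximalIdeal B) hfs
      (fun b hb => (residue_eq_zero_iff b).mpr hb)
      (IsScalarTower.toAlgHom A (Generators.self A (ResidueField B)).Ring (ResidueField B))
      (fun k => ?_)
      (algebraMap (Generators.self B (ResidueField B)).Ring (ResidueField B))
      (fun b => ?_) (fun k => ?_)
      (((Generators.self A (ResidueField B)).defaultHom
        (Generators.self B (ResidueField B))).toAlgHom : _ →+* _)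
      (fun a => ?_) (fun k => ?_) y hfy
    · show MvPolynomial.aeval _ (X k) = k
      rw [MvPolynomial.aeval_X]; rfl
    · show MvPolynomial.aeval _ (C b) = _
      rw [MvPolynomial.aeval_C]
    · show MvPolynomial.aeval _ (X k) = k
      rw [MvPolynomial.aeval_X]; rfl
    · exact Generators.Hom.toAlgHom_C _ a
    · exact Generators.Hom.toAlgHom_X _ k
  apply Subtype.ext
  exact (Extension.Cotangent.mk_eq_zero_iff _).mpr hy2

end Groth.Agent.Lib.Helper21.H1Adic
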