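import Mathlib
import Groth.Agent.Lib.Helper21.GeomRegE

set_option autoImplicit false
set_option linter.style.haveILetI false

namespace Groth.Agent.Lib.Helper21.ConormalReg

open IsLocalRing TensorProduct

universe u

theorem isGeometricallyRegular_of_isAlgClosed (k C : Type u) [Field k] [IsAlgClosed k]
    [CommRing C] [Algebra k C] [IsRegularRing C] : CAlg.IsGeometricallyRegular k C := by
  intro k' _ _ hfin
  haveI : Module.Finite k k' := hfin
  have hbij : Function.Bijective (algebraMap k k') :=
    IsAlgClosed.algebraMap_bijective_of_isIntegral
  let e : k ≃ₐ[k] k' := AlgEquiv.ofBijective (Algebra.ofId k k') hbij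
  let E : k' ⊗[k] C ≃ₐ[k] C :=
    (Algebra.TensorProduct.congr e.symm AlgEquiv.refl).trans (Algebra.TensorProduct.lid k C)
  exact IsRegularRing.of_ringEquiv E.symm.toRingEquiv

theorem formallySmooth_iff_isRegularRing (k C : Type u) [Field k] [IsAlgClosed k]
    [CommRing C] [Algebra k C] [Algebra.FiniteType k C] :
    Algebra.FormallySmooth k C ↔ IsRegularRing C := by
  haveI : Algebra.FinitePresentation k C := Algebra.FinitePresentation.of_finiteType.mp inferInstance
  constructor
  · intro h
    haveI : Algebra.Smooth k C := ⟨h, inferInstance⟩
    haveI : IsRegularRing k := inferInstance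
    exact Groth.Agent.Lib.Helper26.RegularSmooth.isRegularRing_of_smooth k C
  · intro h
    exact Groth.Agent.Lib.Helper21.GeomReg.formallySmooth_of_isGeometricallyRegular k C
      (isGeometricallyRegular_of_isAlgClosed k C)

theorem S10910_aux (k : Type u) [Field k]
    [IsAlgClosed k] (A B : Type u) [CommRing A] [CommRing B] [Algebra k A] [Algebra.FiniteType k A]
    [IsRegularRing A] [Algebra A B] [Algebra k B] [IsScalarTower k A B]
    (hsurj : Function.Surjective (algebraMap A B)) :
    IsRegularRing B ↔
      (Module.Projective B (Ω[B⁄k]) ∧
        Function.Injective (KaehlerDifferential.kerCotangentToTensor k A B)) := by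
  haveI : Algebra.FiniteType k B :=
    Algebra.FiniteType.of_surjective (IsScalarTower.toAlgHom k A B) hsurj
  haveI : Algebra.FormallySmooth k A := (formallySmooth_iff_isRegularRing k A).mpr inferInstance
  rw [← formallySmooth_iff_isRegularRing k B, Algebra.formallySmooth_iff,
    Algebra.FormallySmooth.kerCotangentToTensor_injective_iff hsurj]

end Groth.Agent.Lib.Helper21.ConormalReg
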