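import Mathlib
import Groth.Agent.Lib.Helper21.CohenStruct
import Groth.Agent.Lib.Helper21.JacAdicA

set_option autoImplicit false
set_option linter.style.haveILetI false

namespace Groth.Agent.Lib.Helper21.KaehlerBasis

open IsLocalRing TensorProduct Module

universe u

theorem sumExtend_inl {K V ι : Type*} [Field K] [AddCommGroup V] [Module K V] {v : ι → V}
    (hs : LinearIndependent K v) (i : ι) : Basis.sumExtend hs (Sum.inl i) = v i := by
  simp only [Basis.sumExtend, Basis.reindex_apply, Basis.coe_extend]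
  rfl

section deriv

variable (A : Type u) [CommRing A] [IsLocalRing A]

local notation "𝔪" => maximalIdeal A
local notation "B" => A ⧸ (maximalIdeal A) ^ 2
local notation "𝔫" => Ideal.map (Ideal.Quotient.mk ((maximalIdeal A) ^ 2)) (maximalIdeal A)

theorem sq_eq_bot : (𝔫) ^ 2 = ⊥ := by
  rw [← Ideal.map_pow, Ideal.map_quotient_self]

/-- a coefficient field of `A/𝔪²` gives a derivation restricting to minus the projection on `𝔪` -/
theorem exists_derivation (p : ℕ) [Fact p.Prime] [CharP A p] : ∃ D : Derivation ℤ A (𝔫),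
    ∀ x ∈ 𝔪, ((D x : 𝔫) : B) = - Ideal.Quotient.mk (𝔪 ^ 2) x := by
  letI : Algebra (ZMod p) A := ZMod.algebra A p
  have hbot : (⊥ : Subfield (ZMod p)) = ⊤ := Subsingleton.elim _ _
  haveI : Algebra.FormallySmooth (ZMod p) (ResidueField A) :=
    Groth.Agent.Lib.Helper21.CohenStruct.formallySmooth_of_bot_eq_top (ZMod p) (ResidueField A) hbot
  let ψ : ResidueField A →ₐ[ZMod p] B ⧸ 𝔫 :=
    Ideal.Quotient.liftₐ 𝔪 ((Ideal.Quotient.mkₐ (ZMod p) 𝔫).comp
      (Ideal.Quotient.mkₐ (ZMod p) (𝔪 ^ 2))) (fun a ha => by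
        show Ideal.Quotient.mk 𝔫 (Ideal.Quotient.mk (𝔪 ^ 2) a) = 0
        exact Ideal.Quotient.eq_zero_iff_mem.mpr (Ideal.mem_map_of_mem _ ha))
  obtain ⟨σ, hσ⟩ := Algebra.FormallySmooth.comp_surjective (ZMod p) (ResidueField A) 𝔫
    (sq_eq_bot A) ψ
  have hσ' : ∀ a : A, Ideal.Quotient.mk 𝔫 (σ (residue A a)) =
      Ideal.Quotient.mk 𝔫 (Ideal.Quotient.mk (𝔪 ^ 2) a) := fun a =>
    congrArg (fun f => f (residue A a)) hσ
  let f : A →ₐ[ℤ] B := ((σ : ResidueField A →+* B).comp (residue A)).toIntAlgHom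
  have e : (Ideal.Quotient.mkₐ ℤ 𝔫).comp f = IsScalarTower.toAlgHom ℤ A (B ⧸ 𝔫) := by
    ext a
    exact hσ' a
  refine ⟨derivationToSquareZeroOfLift 𝔫 (sq_eq_bot A) f e, fun x hx => ?_⟩
  rw [derivationToSquareZeroOfLift_apply]
  have h0 : f x = 0 := by
    show σ (residue A x) = 0
    rw [(residue_eq_zero_iff x).mpr hx, map_zero]
  rw [h0, zero_sub]
  rfl

end deriv

section main

variable {A : Type u} [CommRing A] [IsRegularLocalRing A]

theorem linearIndependent_toCotangent {N : ℕ} (x : Fin N → A)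
    (hxm : ∀ i, x i ∈ maximalIdeal A)
    (hx : Ideal.span (Set.range x) = maximalIdeal A) (hN : ringKrullDim A = (N : WithBot ℕ∞)) :
    LinearIndependent (ResidueField A)
      (fun i => ((maximalIdeal A).toCotangent ⟨x i, hxm i⟩ : CotangentSpace A)) := by
  have hfin : Module.finrank (ResidueField A) (CotangentSpace A) = N := by
    have h1 := (IsRegularLocalRing.iff_finrank_cotangentSpace A).mp inferInstance
    rw [hN] at h1
    exact_mod_cast h1
  apply linearIndependent_of_top_le_span_of_card_eq_finrank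
  · rw [top_le_iff]
    have h2 : Set.range (fun i => ((maximalIdeal A).toCotangent ⟨x i, hxm i⟩ : CotangentSpace A)) =
        (maximalIdeal A).toCotangent '' (Set.range (fun i => (⟨x i, hxm i⟩ : maximalIdeal A))) := by
      rw [← Set.range_comp]; rfl
    rw [h2, IsLocalRing.CotangentSpace.span_image_eq_top_iff]
    apply Submodule.map_injective_of_injective (maximalIdeal A).injective_subtype
    rw [Submodule.map_span, ← Set.range_comp, Submodule.map_top, Submodule.range_subtype]
    exact hx
  · rw [hfin, Fintype.card_fin]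

end main

section key

variable {A : Type u} [CommRing A] [IsRegularLocalRing A]

theorem smul_eq_zero_of_mem (r : A) (hr : r ∈ maximalIdeal A)
    (n : Ideal.map (Ideal.Quotient.mk ((maximalIdeal A) ^ 2)) (maximalIdeal A)) :
    r • n = 0 := by
  apply Subtype.ext
  show r • (n : A ⧸ (maximalIdeal A) ^ 2) = 0
  rw [Algebra.smul_def]
  have h1 : algebraMap A (A ⧸ (maximalIdeal A) ^ 2) r * (n : A ⧸ (maximalIdeal A) ^ 2) ∈
      (Ideal.map (Ideal.Quotient.mk ((maximalIdeal A) ^ 2)) (maximalIdeal A)) *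
      (Ideal.map (Ideal.Quotient.mk ((maximalIdeal A) ^ 2)) (maximalIdeal A)) :=
    Ideal.mul_mem_mul (Ideal.mem_map_of_mem _ hr) n.2
  have h2 : (Ideal.map (Ideal.Quotient.mk ((maximalIdeal A) ^ 2)) (maximalIdeal A)) *
      (Ideal.map (Ideal.Quotient.mk ((maximalIdeal A) ^ 2)) (maximalIdeal A)) = ⊥ :=
    (sq _).symm.trans (sq_eq_bot A)
  rw [h2, Ideal.mem_bot] at h1
  exact h1

theorem linearIndependent_tmul_D (p : ℕ) [Fact p.Prime] [CharP A p] {N : ℕ} (x : Fin N → A)
    (hx : Ideal.span (Set.range x) = maximalIdeal A) (hN : ringKrullDim A = (N : WithBot ℕ∞)) :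
    LinearIndependent (ResidueField A)
      (fun i => (1 : ResidueField A) ⊗ₜ[A] KaehlerDifferential.D ℤ A (x i)) := by
  have hxm : ∀ i, x i ∈ maximalIdeal A := fun i => by
    rw [← hx]; exact Ideal.subset_span ⟨i, rfl⟩
  obtain ⟨D, hD⟩ := exists_derivation A p
  let L := D.liftKaehlerDifferential
  have hL : ∀ a, L (KaehlerDifferential.D ℤ A a) = D a := fun a =>
    Derivation.liftKaehlerDifferential_comp_D D a
  rw [Fintype.linearIndependent_iff]
  intro c hc i
  choose a ha using fun i => residue_surjective (c i)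
  have hterm : ∀ i, c i • ((1 : ResidueField A) ⊗ₜ[A] KaehlerDifferential.D ℤ A (x i)) =
      (1 : ResidueField A) ⊗ₜ[A] (a i • KaehlerDifferential.D ℤ A (x i)) := by
    intro i
    rw [TensorProduct.smul_tmul', smul_eq_mul, mul_one, ← ha i, TensorProduct.tmul_smul,
      TensorProduct.smul_tmul', Algebra.smul_def, mul_one]
    rfl
  have h1 : (1 : ResidueField A) ⊗ₜ[A] (∑ i, a i • KaehlerDifferential.D ℤ A (x i)) = 0 := by
    rw [TensorProduct.tmul_sum, ← hc]
    exact Finset.sum_congr rfl (fun i _ => (hterm i).symm)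
  have hκ : Function.Surjective (algebraMap A (ResidueField A)) := residue_surjective
  have h2 := (Groth.Agent.Lib.Helper21.JacAdic.one_tmul_eq_zero_iff hκ _).mp h1
  have hker : RingHom.ker (algebraMap A (ResidueField A)) = maximalIdeal A := ker_residue
  rw [hker] at h2
  have h3 : L (∑ i, a i • KaehlerDifferential.D ℤ A (x i)) = 0 := by
    refine Submodule.smul_induction_on h2 ?_ ?_
    · intro r hr m _
      rw [map_smul]
      exact smul_eq_zero_of_mem r hr _
    · intro y z hy hz
      rw [map_add, hy, hz, add_zero]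
  have h4 : (∑ i, a i * x i) ∈ maximalIdeal A ^ 2 := by
    rw [map_sum] at h3
    have h5 := congrArg (fun n : Ideal.map (Ideal.Quotient.mk ((maximalIdeal A) ^ 2))
      (maximalIdeal A) => (n : A ⧸ (maximalIdeal A) ^ 2)) h3
    simp only [map_smul, hL] at h5
    rw [← Ideal.Quotient.eq_zero_iff_mem, map_sum]
    have h6 : ∀ i, ((a i • D (x i) : Ideal.map (Ideal.Quotient.mk ((maximalIdeal A) ^ 2))
        (maximalIdeal A)) : A ⧸ (maximalIdeal A) ^ 2) =
        - Ideal.Quotient.mk ((maximalIdeal A) ^ 2) (a i * x i) := by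
      intro i
      show a i • ((D (x i) : Ideal.map (Ideal.Quotient.mk ((maximalIdeal A) ^ 2))
        (maximalIdeal A)) : A ⧸ (maximalIdeal A) ^ 2) = _
      rw [hD (x i) (hxm i), Algebra.smul_def, map_mul]
      show Ideal.Quotient.mk _ (a i) * _ = _
      ring
    rw [Submodule.coe_sum] at h5
    simp only [h6, Finset.sum_neg_distrib, neg_eq_zero, Submodule.coe_zero] at h5
    exact h5
  have h5 : ∑ i, c i • ((maximalIdeal A).toCotangent ⟨x i, hxm i⟩ : CotangentSpace A) = 0 := by
    have h6 : ∀ i, c i • ((maximalIdeal A).toCotangent ⟨x i, hxm i⟩ : CotangentSpace A) =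
        (maximalIdeal A).toCotangent ⟨a i * x i, Ideal.mul_mem_left _ _ (hxm i)⟩ := by
      intro i
      rw [← ha i]
      show (algebraMap A (ResidueField A) (a i)) • _ = _
      rw [algebraMap_smul, ← map_smul]
      rfl
    rw [Finset.sum_congr rfl (fun i _ => h6 i), ← map_sum, Ideal.toCotangent_eq_zero]
    rw [Submodule.coe_sum]
    exact h4
  exact (Fintype.linearIndependent_iff.mp (linearIndependent_toCotangent x hxm hx hN)) c h5 i

end key

section final

theorem S19270_aux (p : ℕ) [Fact p.Prime]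
    {A : Type u} [CommRing A] [IsRegularLocalRing A] [CharP A p]
    [Module.Free A (KaehlerDifferential ℤ A)] [Module.Finite A (KaehlerDifferential ℤ A)]
    {N : ℕ} (x : Fin N → A) (hx : Ideal.span (Set.range x) = maximalIdeal A)
    (hN : ringKrullDim A = (N : WithBot ℕ∞)) :
    ∃ (ι : Type u) (b : Module.Basis ι A (KaehlerDifferential ℤ A)) (e : Fin N ↪ ι),
      ∀ i : Fin N, b (e i) = KaehlerDifferential.D ℤ A (x i) := by
  have hLI := linearIndependent_tmul_D p x hx hN
  let bk := Basis.sumExtend hLI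
  have hκ : Function.Surjective (algebraMap A (ResidueField A)) := residue_surjective
  have hsurj : ∀ z : ResidueField A ⊗[A] (KaehlerDifferential ℤ A),
      ∃ y : KaehlerDifferential ℤ A, z = (1 : ResidueField A) ⊗ₜ[A] y :=
    fun z => Groth.Agent.Lib.Helper21.JacAdic.exists_one_tmul hκ z
  let v : (Fin N ⊕ Basis.sumExtendIndex hLI) → KaehlerDifferential ℤ A :=
    Sum.elim (fun i => KaehlerDifferential.D ℤ A (x i))
      (fun j => (hsurj (bk (Sum.inr j))).choose)
  have hv : ∀ j, (TensorProduct.mk A (ResidueField A) (KaehlerDifferential ℤ A) 1) (v j) = bk j := by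
    rintro (i | j)
    · show (1 : ResidueField A) ⊗ₜ[A] KaehlerDifferential.D ℤ A (x i) = bk (Sum.inl i)
      exact (sumExtend_inl hLI i).symm
    · exact (hsurj (bk (Sum.inr j))).choose_spec.symm
  have hcomp : (TensorProduct.mk A (ResidueField A) (KaehlerDifferential ℤ A) 1 ∘ v) = bk :=
    funext hv
  haveI : Module.FinitePresentation A (KaehlerDifferential ℤ A) :=
    Module.finitePresentation_of_projective _ _
  obtain ⟨b, hb⟩ := Module.exists_basis_of_basis_baseChange v
    (hcomp ▸ bk.linearIndependent) (hcomp ▸ bk.span_eq)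
    (Module.Flat.rTensor_preserves_injective_linearMap _ Subtype.val_injective)
  exact ⟨_, b, ⟨Sum.inl, Sum.inl_injective⟩, fun i => hb (Sum.inl i)⟩

end final

end Groth.Agent.Lib.Helper21.KaehlerBasis
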