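import Mathlib
import Groth.Agent.Lib.Helper21.CohenStruct
import Groth.Agent.Lib.Helper21.JacAdicA
import Groth.Agent.Lib.Helper21.KaehlerBasis
import Groth.Agent.Lib.Helper21.CohenStructE
import Groth.Agent.Lib.Helper21.JacAdicB
import Groth.Agent.Lib.Helper21.SepSmoothE

set_option autoImplicit false
set_option linter.style.haveILetI false

namespace Groth.Agent.Lib.Helper21.CotangentKaehler

open IsLocalRing TensorProduct Module

universe u

section deriv

variable (k : Type u) (A : Type u) [Field k] [CommRing A] [IsLocalRing A] [Algebra k A]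

local notation "𝔪" => maximalIdeal A
local notation "B" => A ⧸ (maximalIdeal A) ^ 2
local notation "𝔫" => Ideal.map (Ideal.Quotient.mk ((maximalIdeal A) ^ 2)) (maximalIdeal A)

theorem sub_algebraMap_mem (hres : Function.Bijective (algebraMap k (ResidueField A))) (a : A) :
    a - algebraMap k A ((RingEquiv.ofBijective _ hres).symm (residue A a)) ∈ 𝔪 := by
  rw [← residue_eq_zero_iff, map_sub, sub_eq_zero]
  have h1 : residue A (algebraMap k A ((RingEquiv.ofBijective _ hres).symm (residue A a))) =
      algebraMap k (ResidueField A) ((RingEquiv.ofBijective _ hres).symm (residue A a)) := rfl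
  rw [h1]
  exact ((RingEquiv.ofBijective _ hres).apply_symm_apply (residue A a)).symm

/-- the coefficient field `k` gives a `k`-derivation restricting to minus the projection on `𝔪` -/
theorem exists_derivation (hres : Function.Bijective (algebraMap k (ResidueField A))) :
    ∃ D : Derivation k A (𝔫), ∀ x ∈ 𝔪, ((D x : 𝔫) : B) = - Ideal.Quotient.mk (𝔪 ^ 2) x := by
  let e : k ≃+* ResidueField A := RingEquiv.ofBijective _ hres
  let f₀ : A →+* B := ((algebraMap k B).comp (e.symm : ResidueField A →+* k)).comp (residue A)
  let f : A →ₐ[k] B :=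
    { f₀ with
      commutes' := fun c => by
        show algebraMap k B (e.symm (residue A (algebraMap k A c))) = algebraMap k B c
        congr 1
        exact e.symm_apply_apply c }
  have hf : ∀ a, f a = algebraMap k B (e.symm (residue A a)) := fun a => rfl
  have he : (Ideal.Quotient.mkₐ k 𝔫).comp f = IsScalarTower.toAlgHom k A (B ⧸ 𝔫) := by
    ext a
    show Ideal.Quotient.mk 𝔫 (f a) = Ideal.Quotient.mk 𝔫 (Ideal.Quotient.mk (𝔪 ^ 2) a)
    rw [hf, eq_comm, Ideal.Quotient.eq]
    have h1 : algebraMap k B (e.symm (residue A a)) =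
        Ideal.Quotient.mk (𝔪 ^ 2) (algebraMap k A (e.symm (residue A a))) := rfl
    rw [h1, ← map_sub]
    exact Ideal.mem_map_of_mem _ (sub_algebraMap_mem k A hres a)
  refine ⟨derivationToSquareZeroOfLift 𝔫 (KaehlerBasis.sq_eq_bot A) f he, fun x hx => ?_⟩
  rw [derivationToSquareZeroOfLift_apply]
  have h0 : f x = 0 := by
    rw [hf, (residue_eq_zero_iff x).mpr hx, map_zero, map_zero]
  rw [h0, zero_sub]
  rfl

end deriv

section key

variable {R : Type u} {A : Type u} [CommRing R] [CommRing A] [IsLocalRing A] [Algebra R A]

theorem smul_eq_zero_of_mem (r : A) (hr : r ∈ maximalIdeal A)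
    (n : Ideal.map (Ideal.Quotient.mk ((maximalIdeal A) ^ 2)) (maximalIdeal A)) :
    r • n = 0 := by
  apply Subtype.ext
  show r • (n : A ⧸ (maximalIdeal A) ^ 2) = 0
  rw [Algebra.smul_def]
  have h1 : algebraMap A (A ⧸ (maximalIdeal A) ^ 2) r * (n : A ⧸ (maximalIdeal A) ^ 2) ∈
      (Ideal.map (Ideal.Quotient.mk ((maximalIdeal A) ^ 2)) (maximalIdeal A)) *
      (Ideal.map (Ideal.Quotient.mk ((maximalIdeal A) ^ 2)) (maximalIdeal A)) :=
    Ideal.mul_mem_mul (Ideal.mem_map_of_mem _ hr) n.2
  have h2 : (Ideal.map (Ideal.Quotient.mk ((maximalIdeal A) ^ 2)) (maximalIdeal A)) *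
      (Ideal.map (Ideal.Quotient.mk ((maximalIdeal A) ^ 2)) (maximalIdeal A)) = ⊥ :=
    (sq _).symm.trans (KaehlerBasis.sq_eq_bot A)
  rw [h2, Ideal.mem_bot] at h1
  exact h1

/-- linear independence in the cotangent space passes to the differentials, given a derivation
restricting to minus the projection on the maximal ideal -/
theorem linearIndependent_tmul_D
    (D : Derivation R A (Ideal.map (Ideal.Quotient.mk ((maximalIdeal A) ^ 2)) (maximalIdeal A)))
    (hD : ∀ x ∈ maximalIdeal A,
      ((D x : Ideal.map (Ideal.Quotient.mk ((maximalIdeal A) ^ 2)) (maximalIdeal A)) :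
        A ⧸ (maximalIdeal A) ^ 2) = - Ideal.Quotient.mk ((maximalIdeal A) ^ 2) x)
    {N : ℕ} (x : Fin N → A) (hxm : ∀ i, x i ∈ maximalIdeal A)
    (hLI : LinearIndependent (ResidueField A)
      (fun i => ((maximalIdeal A).toCotangent ⟨x i, hxm i⟩ : CotangentSpace A))) :
    LinearIndependent (ResidueField A)
      (fun i => (1 : ResidueField A) ⊗ₜ[A] KaehlerDifferential.D R A (x i)) := by
  let L := D.liftKaehlerDifferential
  have hL : ∀ a, L (KaehlerDifferential.D R A a) = D a := fun a =>
    Derivation.liftKaehlerDifferential_comp_D D a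
  rw [Fintype.linearIndependent_iff]
  intro c hc i
  choose a ha using fun i => residue_surjective (c i)
  have hterm : ∀ i, c i • ((1 : ResidueField A) ⊗ₜ[A] KaehlerDifferential.D R A (x i)) =
      (1 : ResidueField A) ⊗ₜ[A] (a i • KaehlerDifferential.D R A (x i)) := by
    intro i
    rw [TensorProduct.smul_tmul', smul_eq_mul, mul_one, ← ha i, TensorProduct.tmul_smul,
      TensorProduct.smul_tmul', Algebra.smul_def, mul_one]
    rfl
  have h1 : (1 : ResidueField A) ⊗ₜ[A] (∑ i, a i • KaehlerDifferential.D R A (x i)) = 0 := by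
    rw [TensorProduct.tmul_sum, ← hc]
    exact Finset.sum_congr rfl (fun i _ => (hterm i).symm)
  have hκ : Function.Surjective (algebraMap A (ResidueField A)) := residue_surjective
  have h2 := (Groth.Agent.Lib.Helper21.JacAdic.one_tmul_eq_zero_iff hκ _).mp h1
  have hker : RingHom.ker (algebraMap A (ResidueField A)) = maximalIdeal A := ker_residue
  rw [hker] at h2
  have h3 : L (∑ i, a i • KaehlerDifferential.D R A (x i)) = 0 := by
    refine Submodule.smul_induction_on h2 ?_ ?_
    · intro r hr m _
      rw [map_smul]
      exact smul_eq_zero_of_mem r hr _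
    · intro y z hy hz
      rw [map_add, hy, hz, add_zero]
  have h4 : (∑ i, a i * x i) ∈ maximalIdeal A ^ 2 := by
    rw [map_sum] at h3
    have h5 := congrArg (fun n : Ideal.map (Ideal.Quotient.mk ((maximalIdeal A) ^ 2))
      (maximalIdeal A) => (n : A ⧸ (maximalIdeal A) ^ 2)) h3
    simp only [map_smul, hL] at h5
    rw [← Ideal.Quotient.eq_zero_iff_mem, map_sum]
    have h6 : ∀ i, ((a i • D (x i) : Ideal.map (Ideal.Quotient.mk ((maximalIdeal A) ^ 2))
        (maximalIdeal A)) : A ⧸ (maximalIdeal A) ^ 2) =
        - Ideal.Quotient.mk ((maximalIdeal A) ^ 2) (a i * x i) := by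
      intro i
      show a i • ((D (x i) : Ideal.map (Ideal.Quotient.mk ((maximalIdeal A) ^ 2))
        (maximalIdeal A)) : A ⧸ (maximalIdeal A) ^ 2) = _
      rw [hD (x i) (hxm i), Algebra.smul_def, map_mul]
      show Ideal.Quotient.mk _ (a i) * _ = _
      ring
    rw [Submodule.coe_sum] at h5
    simp only [h6, Finset.sum_neg_distrib, neg_eq_zero, Submodule.coe_zero] at h5
    exact h5
  have h5 : ∑ i, c i • ((maximalIdeal A).toCotangent ⟨x i, hxm i⟩ : CotangentSpace A) = 0 := by
    have h6 : ∀ i, c i • ((maximalIdeal A).toCotangent ⟨x i, hxm i⟩ : CotangentSpace A) =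
        (maximalIdeal A).toCotangent ⟨a i * x i, Ideal.mul_mem_left _ _ (hxm i)⟩ := by
      intro i
      rw [← ha i]
      show (algebraMap A (ResidueField A) (a i)) • _ = _
      rw [algebraMap_smul, ← map_smul]
      rfl
    rw [Finset.sum_congr rfl (fun i _ => h6 i), ← map_sum, Ideal.toCotangent_eq_zero]
    rw [Submodule.coe_sum]
    exact h4
  exact (Fintype.linearIndependent_iff.mp hLI) c h5 i

end key

section span

variable {k : Type u} {A : Type u} [Field k] [CommRing A] [IsLocalRing A] [Algebra k A]

theorem one_tmul_smul {M : Type*} [AddCommGroup M] [Module A M] (r : A) (y : M) :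
    (1 : ResidueField A) ⊗ₜ[A] (r • y) = residue A r • ((1 : ResidueField A) ⊗ₜ[A] y) := by
  rw [TensorProduct.tmul_smul, TensorProduct.smul_tmul', TensorProduct.smul_tmul',
    Algebra.smul_def, smul_eq_mul]
  rfl

theorem one_tmul_D_mem (hres : Function.Bijective (algebraMap k (ResidueField A)))
    {N : ℕ} (x : Fin N → A) (hx : Ideal.span (Set.range x) = maximalIdeal A) (a : A) :
    (1 : ResidueField A) ⊗ₜ[A] KaehlerDifferential.D k A a ∈ Submodule.span (ResidueField A)
      (Set.range (fun i => (1 : ResidueField A) ⊗ₜ[A] KaehlerDifferential.D k A (x i))) := by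
  have hm := sub_algebraMap_mem k A hres a
  set c := (RingEquiv.ofBijective _ hres).symm (residue A a) with hc
  have h1 : KaehlerDifferential.D k A a = KaehlerDifferential.D k A (a - algebraMap k A c) := by
    rw [map_sub, Derivation.map_algebraMap, sub_zero]
  rw [h1]
  rw [← hx] at hm
  obtain ⟨b, hb⟩ := Ideal.mem_span_range_iff_exists_fun.mp hm
  rw [← hb, map_sum, TensorProduct.tmul_sum]
  refine Submodule.sum_mem _ (fun i _ => ?_)
  rw [Derivation.leibniz, TensorProduct.tmul_add, one_tmul_smul, one_tmul_smul]
  have hxi : residue A (x i) = 0 := by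
    rw [residue_eq_zero_iff, ← hx]
    exact Ideal.subset_span ⟨i, rfl⟩
  rw [hxi, zero_smul, add_zero]
  exact Submodule.smul_mem _ _ (Submodule.subset_span ⟨i, rfl⟩)

theorem span_tmul_D_eq_top (hres : Function.Bijective (algebraMap k (ResidueField A)))
    {N : ℕ} (x : Fin N → A) (hx : Ideal.span (Set.range x) = maximalIdeal A) :
    Submodule.span (ResidueField A)
      (Set.range (fun i => (1 : ResidueField A) ⊗ₜ[A] KaehlerDifferential.D k A (x i))) = ⊤ := by
  rw [eq_top_iff]
  rintro z -
  obtain ⟨y, rfl⟩ := Groth.Agent.Lib.Helper21.JacAdic.exists_one_tmul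
    (residue_surjective (R := A)) z
  have hy : y ∈ Submodule.span A (Set.range (KaehlerDifferential.D k A)) := by
    rw [KaehlerDifferential.span_range_derivation]; trivial
  induction hy using Submodule.span_induction with
  | mem y hy =>
    obtain ⟨a, rfl⟩ := hy
    exact one_tmul_D_mem hres x hx a
  | zero => rw [TensorProduct.tmul_zero]; exact zero_mem _
  | add y z _ _ hy hz => rw [TensorProduct.tmul_add]; exact add_mem hy hz
  | smul r y _ hy =>
    rw [one_tmul_smul]
    exact Submodule.smul_mem _ _ hy

end span

section main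

variable (k : Type u) (A : Type u) [Field k] [CommRing A] [IsLocalRing A] [Algebra k A]

theorem finrank_tensor_eq [IsNoetherianRing A]
    (hres : Function.Bijective (algebraMap k (ResidueField A))) :
    Module.finrank (ResidueField A) (ResidueField A ⊗[A] KaehlerDifferential k A) =
      Module.finrank (ResidueField A) (CotangentSpace A) := by
  set n := Module.finrank (ResidueField A) (CotangentSpace A) with hn
  let b : Basis (Fin n) (ResidueField A) (CotangentSpace A) := Module.finBasis _ _
  choose x' hx' using fun i => (maximalIdeal A).toCotangent_surjective (b i)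
  let x : Fin n → A := fun i => (x' i : A)
  have hxm : ∀ i, x i ∈ maximalIdeal A := fun i => (x' i).2
  have hLI : LinearIndependent (ResidueField A)
      (fun i => ((maximalIdeal A).toCotangent ⟨x i, hxm i⟩ : CotangentSpace A)) := by
    have : (fun i => ((maximalIdeal A).toCotangent ⟨x i, hxm i⟩ : CotangentSpace A)) = b :=
      funext hx'
    rw [this]
    exact b.linearIndependent
  have hspan : Ideal.span (Set.range x) = maximalIdeal A := by
    have h1 : Submodule.span (ResidueField A)
        ((maximalIdeal A).toCotangent '' (Set.range x')) = ⊤ := by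
      rw [← Set.range_comp]
      have : ((maximalIdeal A).toCotangent ∘ x') = b := funext hx'
      rw [this]
      exact b.span_eq
    rw [IsLocalRing.CotangentSpace.span_image_eq_top_iff] at h1
    have h2 := congrArg (Submodule.map (maximalIdeal A).subtype) h1
    rw [Submodule.map_span, ← Set.range_comp, Submodule.map_top, Submodule.range_subtype] at h2
    exact h2
  obtain ⟨D, hD⟩ := exists_derivation k A hres
  have hLI' := linearIndependent_tmul_D D hD x hxm hLI
  have hsp := span_tmul_D_eq_top hres x hspan
  have := Module.finrank_eq_card_basis (Basis.mk hLI' hsp.ge)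
  rw [this, Fintype.card_fin]

end main

section final

theorem S11311_aux (k B : Type u) [Field k] [CommRing B] [Algebra k B]
    [IsLocalRing B] [Algebra.EssFiniteType k B]
    (hres : Function.Bijective (algebraMap k (IsLocalRing.ResidueField B)))
    (d : ℕ) (hd : ringKrullDim B = (d : WithBot ℕ∞)) :
    ((Module.Free B (KaehlerDifferential k B) ∧ Module.finrank B (KaehlerDifferential k B) = d) →
        IsRegularLocalRing B) ∧
      (IsRegularLocalRing B →
        Module.Free B (KaehlerDifferential k B) ∧
          Module.finrank B (KaehlerDifferential k B) = d) := by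
  haveI : IsNoetherianRing B := Algebra.EssFiniteType.isNoetherianRing k B
  have key := finrank_tensor_eq k B hres
  constructor
  · rintro ⟨hfree, hrank⟩
    rw [Module.finrank_baseChange, hrank] at key
    rw [IsRegularLocalRing.iff_finrank_cotangentSpace, hd, ← key]
  · intro hreg
    have hcot : Module.finrank (ResidueField B) (CotangentSpace B) = d := by
      have h1 := (IsRegularLocalRing.iff_finrank_cotangentSpace B).mp hreg
      rw [hd] at h1
      exact_mod_cast h1
    let e : k ≃ₐ[k] ResidueField B := AlgEquiv.ofBijective (Algebra.ofId k (ResidueField B)) hres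
    haveI : Algebra.FormallySmooth k (ResidueField B) := Algebra.FormallySmooth.of_equiv e
    haveI : Algebra.IsGeometricallyReduced k (ResidueField B) :=
      Groth.Agent.Lib.Helper21.SepSmooth.formallySmooth_iff_geomReduced.mp inferInstance
    have hadic : CAlgX.IsAdicFormallySmooth k B (maximalIdeal B) :=
      ((Groth.Agent.Lib.Helper21.CohenStruct.S2453_aux k B).out 3 0).mp hreg
    haveI : Algebra.FormallySmooth k B :=
      Groth.Agent.Lib.Helper21.JacAdic.formallySmooth_of_isAdicFormallySmooth_of_essFiniteType hadic
    haveI : Module.Free B (KaehlerDifferential k B) := Module.free_of_flat_of_isLocalRing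
    refine ⟨inferInstance, ?_⟩
    rw [Module.finrank_baseChange, hcot] at key
    exact key

end final

end Groth.Agent.Lib.Helper21.CotangentKaehler
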