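import Mathlib
import Groth.Agent.Lib.Helper21.SepFTA
import Groth.Agent.Lib.Helper21.JacAdicA
import Groth.Agent.Lib.Helper21.CohenStructD
import Groth.Agent.Lib.Helper14.EssFTLocal

set_option autoImplicit false
set_option linter.style.haveILetI false

namespace Groth.Agent.Lib.Helper21.SepFT

open IsLocalRing TensorProduct KaehlerDifferential

universe u

section jac

variable {R S : Type u} [CommRing R] [CommRing S] [IsLocalRing S] [Algebra R S]

/-- Jacobian criterion without finiteness of the differentials -/
theorem formallySmooth_iff_injective_lTensor_residueField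
    (P : Algebra.Extension.{u} R S) [Algebra.FormallySmooth R P.Ring] (h' : P.ker.FG) :
    Algebra.FormallySmooth R S ↔
      Function.Injective (P.cotangentComplex.lTensor (ResidueField S)) := by
  have : Module.Finite P.Ring P.Cotangent :=
    have : Module.Finite P.Ring P.ker := .of_fg h'
    .of_surjective _ Algebra.Extension.Cotangent.mk_surjective
  have : Module.Finite S P.Cotangent := Module.Finite.of_restrictScalars_finite P.Ring _ _
  haveI : Module.Projective S P.CotangentSpace := inferInstance
  rw [← split_injective_iff_lTensor_residueField_injective_of_projective,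
    P.formallySmooth_iff_split_injection]

theorem formallySmooth_iff_injective_cotangentComplexBaseChange_residueField
    (P : Type u) [CommRing P] [Algebra R P] [Algebra P S]
    [IsScalarTower R P S] [Algebra.FormallySmooth R P]
    (h₁ : Function.Surjective (algebraMap P S)) (h₂ : (RingHom.ker (algebraMap P S)).FG) :
    Algebra.FormallySmooth R S ↔
      Function.Injective (cotangentComplexBaseChange R S P (ResidueField S)) := by
  let P' : Algebra.Extension R S := { Ring := P, σ := _, algebraMap_σ := Function.surjInv_eq h₁ }
  haveI : Algebra.FormallySmooth R P'.Ring := ‹_›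
  rw [formallySmooth_iff_injective_lTensor_residueField P' h₂]
  rw [P'.cotangentComplexBaseChange_eq_lTensor_cotangentComplex (ResidueField S)]
  refine .trans ?_ ((AlgebraTensorModule.cancelBaseChange P'.Ring S _ _
    Ω[P'.Ring⁄R]).comp_injective _).symm
  exact (((AlgebraTensorModule.cancelBaseChange P'.Ring S _ _ P'.ker).symm ≪≫ₗ
    P'.cotangentEquiv.baseChange (A := _)).injective_comp _).symm

/-- adic formal smoothness implies formal smoothness, given a Noetherian formally smooth
presentation -/
theorem formallySmooth_of_isAdicFormallySmooth_of_presentation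
    {P : Type u} [CommRing P] [Algebra R P]
    [Algebra P S] [IsScalarTower R P S] [IsNoetherianRing P]
    [Algebra.FormallySmooth R P]
    (h₁ : Function.Surjective (algebraMap P S))
    (h : CAlgX.IsAdicFormallySmooth R S (maximalIdeal S)) : Algebra.FormallySmooth R S :=
  (formallySmooth_iff_injective_cotangentComplexBaseChange_residueField P h₁
    (IsNoetherian.noetherian _)).mpr
    (Groth.Agent.Lib.Helper21.JacAdic.injective_cotangentComplexBaseChange_of_isAdicFormallySmooth
      h₁ h)

end jac

section essft

open Groth.Agent.Lib.Helper14 in
/-- for local algebras essentially of finite type over a Noetherian ring `k` which is formally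
smooth over `R`, adic formal smoothness over `R` implies formal smoothness over `R` -/
theorem formallySmooth_of_isAdicFormallySmooth_of_essFiniteType
    {R k S : Type u} [CommRing R] [CommRing k] [CommRing S] [Algebra R k] [Algebra k S]
    [Algebra R S] [IsScalarTower R k S] [IsNoetherianRing k] [Algebra.FormallySmooth R k]
    [IsLocalRing S] [Algebra.EssFiniteType k S]
    (h : CAlgX.IsAdicFormallySmooth R S (maximalIdeal S)) : Algebra.FormallySmooth R S := by
  obtain ⟨n, φ₀, hφ₀⟩ := Algebra.FiniteType.iff_quotient_mvPolynomial''.mp
    (inferInstance : Algebra.FiniteType k (Algebra.EssFiniteType.subalgebra k S))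
  let ψ₀ : MvPolynomial (Fin n) k →ₐ[k] S := (Algebra.EssFiniteType.subalgebra k S).val.comp φ₀
  let P := Localization.AtPrime (comapMax ψ₀)
  let ψ : P →ₐ[k] S := atPrimeLift ψ₀
  letI : Algebra P S := ψ.toRingHom.toAlgebra
  haveI : IsScalarTower k P S := IsScalarTower.of_algebraMap_eq (fun r => (ψ.commutes r).symm)
  haveI : IsScalarTower R k P := inferInstance
  haveI : IsScalarTower R P S := IsScalarTower.to₁₃₄ R k P S
  have hsurj : Function.Surjective (algebraMap P S) := by
    apply atPrimeLift_surjective ψ₀
    intro b
    obtain ⟨⟨x, s⟩, hxs⟩ := IsLocalization.surj (Algebra.EssFiniteType.submonoid k S) b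
    obtain ⟨a, ha⟩ := hφ₀ x
    obtain ⟨t, ht⟩ := hφ₀ (s : Algebra.EssFiniteType.subalgebra k S)
    refine ⟨a, t, ?_, ?_⟩
    · show IsUnit ((Algebra.EssFiniteType.subalgebra k S).val (φ₀ t))
      rw [ht]
      exact s.2
    · show b * (Algebra.EssFiniteType.subalgebra k S).val (φ₀ t) =
        (Algebra.EssFiniteType.subalgebra k S).val (φ₀ a)
      rw [ht, ha]
      exact hxs
  haveI : IsNoetherianRing P :=
    IsLocalization.isNoetherianRing (comapMax ψ₀).primeCompl P inferInstance
  haveI : Algebra.FormallySmooth (MvPolynomial (Fin n) k) P :=
    Algebra.FormallySmooth.of_isLocalization (comapMax ψ₀).primeCompl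
  haveI : Algebra.FormallySmooth R (MvPolynomial (Fin n) k) :=
    Algebra.FormallySmooth.comp R k (MvPolynomial (Fin n) k)
  haveI : Algebra.FormallySmooth R P := Algebra.FormallySmooth.comp R (MvPolynomial (Fin n) k) P
  exact formallySmooth_of_isAdicFormallySmooth_of_presentation hsurj h

end essft

end Groth.Agent.Lib.Helper21.SepFT
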