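import Mathlib
import Groth.Agent.Lib.Helper21.SepFTA

set_option autoImplicit false
set_option linter.style.haveILetI false

namespace Groth.Agent.Lib.Helper21.SepFT

open TensorProduct

universe u

section cokernel

variable {C : Type u} [CommRing C] {E M F Ω : Type u} [AddCommGroup E] [AddCommGroup M]
  [AddCommGroup F] [AddCommGroup Ω] [Module C E] [Module C M] [Module C F] [Module C Ω]

/-- the cokernel of `s ∘ l` for a split injection `s` is the cokernel of `l` times the kernel
of the retraction -/
theorem nonempty_cokernel_equiv (l : E →ₗ[C] M) (g : M →ₗ[C] Ω) (hg : Function.Surjective g)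
    (hlg : Function.Exact l g) (s : M →ₗ[C] F) (π : F →ₗ[C] M) (hπs : π ∘ₗ s = LinearMap.id) :
    Nonempty ((F ⧸ LinearMap.range (s ∘ₗ l)) ≃ₗ[C] (Ω × LinearMap.ker π)) := by
  have hπs' : ∀ m, π (s m) = m := fun m => LinearMap.congr_fun hπs m
  let Φ₂ : F →ₗ[C] LinearMap.ker π :=
    (LinearMap.id - s ∘ₗ π).codRestrict (LinearMap.ker π) (fun x => by
      rw [LinearMap.mem_ker]
      simp only [LinearMap.sub_apply, LinearMap.id_coe, id, LinearMap.coe_comp,
        Function.comp_apply, map_sub, hπs', sub_self])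
  let Φ : F →ₗ[C] (Ω × LinearMap.ker π) := (g ∘ₗ π).prod Φ₂
  have hΦ₂ : ∀ x, ((Φ₂ x : LinearMap.ker π) : F) = x - s (π x) := fun x => rfl
  have hΦsurj : Function.Surjective Φ := by
    rintro ⟨ω, n⟩
    obtain ⟨m, rfl⟩ := hg ω
    refine ⟨s m + n, ?_⟩
    have hn : π (n : F) = 0 := n.2
    apply Prod.ext
    · show g (π (s m + n)) = g m
      rw [map_add, hπs', hn, add_zero]
    · apply Subtype.ext
      show ((Φ₂ (s m + n) : LinearMap.ker π) : F) = n
      rw [hΦ₂, map_add, hπs', hn, add_zero]
      abel
  have hΦker : LinearMap.ker Φ = LinearMap.range (s ∘ₗ l) := by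
    ext x
    rw [LinearMap.mem_ker, LinearMap.mem_range]
    constructor
    · intro hx
      have h1 : g (π x) = 0 := congrArg Prod.fst hx
      have h2 : x - s (π x) = 0 := by
        have h3 : ((Φ₂ x : LinearMap.ker π) : F) = 0 :=
          congrArg (fun y : Ω × LinearMap.ker π => ((y.2 : LinearMap.ker π) : F)) hx
        rw [hΦ₂] at h3
        exact h3
      obtain ⟨e, he⟩ := (hlg (π x)).mp h1
      refine ⟨e, ?_⟩
      show s (l e) = x
      rw [he]
      exact (sub_eq_zero.mp h2).symm
    · rintro ⟨e, rfl⟩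
      apply Prod.ext
      · show g (π (s (l e))) = 0
        rw [hπs']
        exact (hlg (l e)).mpr ⟨e, rfl⟩
      · apply Subtype.ext
        show ((Φ₂ (s (l e)) : LinearMap.ker π) : F) = 0
        rw [hΦ₂, hπs', sub_self]
  exact ⟨(Submodule.quotEquivOfEq _ _ hΦker.symm).trans
    (LinearMap.quotKerEquivOfSurjective Φ hΦsurj)⟩

theorem projective_ker_of_split (s : M →ₗ[C] F) (π : F →ₗ[C] M) (hπs : π ∘ₗ s = LinearMap.id)
    [Module.Projective C F] : Module.Projective C (LinearMap.ker π) := by
  have hπs' : ∀ m, π (s m) = m := fun m => LinearMap.congr_fun hπs m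
  let r : F →ₗ[C] LinearMap.ker π :=
    (LinearMap.id - s ∘ₗ π).codRestrict (LinearMap.ker π) (fun x => by
      rw [LinearMap.mem_ker]
      simp only [LinearMap.sub_apply, LinearMap.id_coe, id, LinearMap.coe_comp,
        Function.comp_apply, map_sub, hπs', sub_self])
  refine Module.Projective.of_split (LinearMap.ker π).subtype r ?_
  ext ⟨x, hx⟩
  show x - s (π x) = x
  rw [LinearMap.mem_ker.mp hx, map_zero, sub_zero]

end cokernel

section weaklyFinite

variable {C : Type u} [CommRing C] {E M Ω : Type u} [AddCommGroup E] [AddCommGroup M]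
  [AddCommGroup Ω] [Module C E] [Module C M] [Module C Ω]

/-- the cokernel of a map from a finite module to a projective module is, up to projective
summands, a finite module -/
theorem exists_finite_stably_equiv [Module.Finite C E] [Module.Projective C M]
    (l : E →ₗ[C] M) (g : M →ₗ[C] Ω) (hg : Function.Surjective g) (hlg : Function.Exact l g) :
    ∃ (Q N F'' : Type u) (_ : AddCommGroup Q) (_ : AddCommGroup N) (_ : AddCommGroup F'')
      (_ : Module C Q) (_ : Module C N) (_ : Module C F''),
      Module.Finite C Q ∧ Module.Projective C N ∧ Module.Projective C F'' ∧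
        Nonempty ((Ω × N) ≃ₗ[C] (Q × F'')) := by
  obtain ⟨s, hs⟩ := Module.projective_def'.mp (inferInstance : Module.Projective C M)
  obtain ⟨σ, l₂, ι, ρ, hρι, hιl⟩ := exists_finite_free_factor (s ∘ₗ l)
  obtain ⟨e1⟩ := nonempty_cokernel_equiv l g hg hlg s _ hs
  obtain ⟨e2⟩ := nonempty_cokernel_equiv l₂ (LinearMap.range l₂).mkQ
    (Submodule.mkQ_surjective _) (LinearMap.exact_map_mkQ_range l₂) ι ρ hρι
  rw [hιl] at e2
  refine ⟨_ ⧸ LinearMap.range l₂, LinearMap.ker (Finsupp.linearCombination C id),
    LinearMap.ker ρ, inferInstance, inferInstance, inferInstance, inferInstance, inferInstance,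
    inferInstance, inferInstance, projective_ker_of_split s _ hs,
    projective_ker_of_split ι ρ hρι, ⟨e1.symm.trans e2⟩⟩

end weaklyFinite

section baseChange

variable {C : Type u} [CommRing C] {Ω Q N F'' : Type u} [AddCommGroup Ω] [AddCommGroup Q]
  [AddCommGroup N] [AddCommGroup F''] [Module C Ω] [Module C Q] [Module C N] [Module C F'']

theorem projective_baseChange_iff [Module.Projective C N] [Module.Projective C F'']
    (e : (Ω × N) ≃ₗ[C] (Q × F'')) (C' : Type u) [CommRing C'] [Algebra C C'] :
    Module.Projective C' (C' ⊗[C] Ω) ↔ Module.Projective C' (C' ⊗[C] Q) := by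
  let e' : ((C' ⊗[C] Ω) × (C' ⊗[C] N)) ≃ₗ[C'] ((C' ⊗[C] Q) × (C' ⊗[C] F'')) :=
    (TensorProduct.prodRight C C' C' Ω N).symm.trans
      ((TensorProduct.AlgebraTensorModule.congr (LinearEquiv.refl C' C') e).trans
        (TensorProduct.prodRight C C' C' Q F''))
  constructor
  · intro h
    haveI : Module.Projective C' ((C' ⊗[C] Q) × (C' ⊗[C] F'')) := Module.Projective.of_equiv e'
    exact Module.Projective.of_split (LinearMap.inl C' (C' ⊗[C] Q) (C' ⊗[C] F''))
      (LinearMap.fst C' _ _) (LinearMap.fst_comp_inl C' _ _)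
  · intro h
    haveI : Module.Projective C' ((C' ⊗[C] Ω) × (C' ⊗[C] N)) :=
      Module.Projective.of_equiv e'.symm
    exact Module.Projective.of_split (LinearMap.inl C' (C' ⊗[C] Ω) (C' ⊗[C] N))
      (LinearMap.fst C' _ _) (LinearMap.fst_comp_inl C' _ _)

theorem projective_of_equiv_prod [Module.Projective C Q] [Module.Projective C F'']
    (e : (Ω × N) ≃ₗ[C] (Q × F'')) : Module.Projective C Ω := by
  haveI : Module.Projective C (Ω × N) := Module.Projective.of_equiv e.symm
  exact Module.Projective.of_split (LinearMap.inl C Ω N) (LinearMap.fst C _ _)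
    (LinearMap.fst_comp_inl C _ _)

end baseChange

end Groth.Agent.Lib.Helper21.SepFT
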