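import Mathlib
import Groth.Agent.Lib.Helper21.SepFTB
import Groth.Agent.Lib.Helper21.SepFTC

set_option autoImplicit false
set_option linter.style.haveILetI false

namespace Groth.Agent.Lib.Helper21.SepFT

open TensorProduct IsLocalRing

universe u

section key


theorem exists_extension (k₀ k C : Type u) [Field k₀] [Field k] [Algebra k₀ k]
    [Algebra.FormallySmooth k₀ k] [CommRing C] [Algebra k C] [Algebra k₀ C] [IsScalarTower k₀ k C]
    [Algebra.FiniteType k C] :
    ∃ P : Algebra.Extension.{u} k₀ C, Algebra.FormallySmooth k₀ P.Ring ∧ IsNoetherianRing P.Ring := by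
  obtain ⟨n, f, hf⟩ := Algebra.FiniteType.iff_quotient_mvPolynomial''.mp
    (inferInstance : Algebra.FiniteType k C)
  refine ⟨Algebra.Extension.ofSurjective (f.restrictScalars k₀) hf, ?_, ?_⟩
  · show Algebra.FormallySmooth k₀ (MvPolynomial (Fin n) k)
    exact Algebra.FormallySmooth.comp k₀ k (MvPolynomial (Fin n) k)
  · show IsNoetherianRing (MvPolynomial (Fin n) k)
    infer_instance

theorem finite_h1Cotangent (k₀ k C : Type u) [Field k₀] [Field k] [Algebra k₀ k]
    [Algebra.FormallySmooth k₀ k] [CommRing C] [Algebra k C] [Algebra k₀ C] [IsScalarTower k₀ k C]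
    [Algebra.FiniteType k C] : Module.Finite C (Algebra.H1Cotangent k₀ C) := by
  obtain ⟨P, hP, hN⟩ := exists_extension k₀ k C
  haveI : IsNoetherianRing C := Algebra.FiniteType.isNoetherianRing k C
  have : Module.Finite P.Ring P.Cotangent :=
    have : Module.Finite P.Ring P.ker := .of_fg (IsNoetherian.noetherian _)
    .of_surjective _ Algebra.Extension.Cotangent.mk_surjective
  have : Module.Finite C P.Cotangent := Module.Finite.of_restrictScalars_finite P.Ring _ _
  haveI : Module.Finite C P.H1Cotangent := by
    show Module.Finite C (LinearMap.ker P.cotangentComplex)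
    infer_instance
  exact Module.Finite.equiv P.equivH1CotangentOfFormallySmooth

theorem exists_stably_equiv (k₀ k C : Type u) [Field k₀] [Field k] [Algebra k₀ k]
    [Algebra.FormallySmooth k₀ k] [CommRing C] [Algebra k C] [Algebra k₀ C] [IsScalarTower k₀ k C]
    [Algebra.FiniteType k C] :
    ∃ (Q N F'' : Type u) (_ : AddCommGroup Q) (_ : AddCommGroup N) (_ : AddCommGroup F'')
      (_ : Module C Q) (_ : Module C N) (_ : Module C F''),
      Module.Finite C Q ∧ Module.Projective C N ∧ Module.Projective C F'' ∧
        Nonempty ((Ω[C⁄k₀] × N) ≃ₗ[C] (Q × F'')) := by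
  obtain ⟨P, hP, hN⟩ := exists_extension k₀ k C
  have : Module.Finite P.Ring P.Cotangent :=
    have : Module.Finite P.Ring P.ker := .of_fg (IsNoetherian.noetherian _)
    .of_surjective _ Algebra.Extension.Cotangent.mk_surjective
  have : Module.Finite C P.Cotangent := Module.Finite.of_restrictScalars_finite P.Ring _ _
  haveI : Module.Projective C P.CotangentSpace := inferInstance
  exact exists_finite_stably_equiv P.cotangentComplex P.toKaehler P.toKaehler_surjective
    P.exact_cotangentComplex_toKaehler

theorem exists_finitePresentation_locus (k₀ k C : Type u) [Field k₀] [Field k] [Algebra k₀ k]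
    [Algebra.FormallySmooth k₀ k] [CommRing C] [Algebra k C] [Algebra k₀ C] [IsScalarTower k₀ k C]
    [Algebra.FiniteType k C] :
    ∃ (Q : Type u) (_ : AddCommGroup Q) (_ : Module C Q) (_ : Module.FinitePresentation C Q),
      (∀ p : PrimeSpectrum C, p ∈ Algebra.smoothLocus k₀ C ↔
        p ∉ Module.support C (Algebra.H1Cotangent k₀ C) ∧ p ∈ Module.freeLocus C Q) ∧
      (Subsingleton (Algebra.H1Cotangent k₀ C) → Module.Projective C Q →
        Algebra.FormallySmooth k₀ C) := by
  obtain ⟨Q, N, F'', _, _, _, _, _, _, hQ, hN, hF, ⟨e⟩⟩ := exists_stably_equiv k₀ k C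
  haveI : IsNoetherianRing C := Algebra.FiniteType.isNoetherianRing k C
  haveI : Module.FinitePresentation C Q := Module.finitePresentation_of_finite C Q
  refine ⟨Q, inferInstance, inferInstance, inferInstance, fun p => ?_, fun h1 h2 => ?_⟩
  · show Algebra.FormallySmooth k₀ (Localization.AtPrime p.asIdeal) ↔ _
    rw [Algebra.formallySmooth_iff, and_comm]
    apply and_congr
    · rw [Module.notMem_support_iff]
      exact (IsLocalizedModule.iso p.asIdeal.primeCompl
        (Algebra.H1Cotangent.map k₀ k₀ C (Localization.AtPrime p.asIdeal))).subsingleton_congr.symm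
    · haveI : Algebra.FormallyEtale C (Localization.AtPrime p.asIdeal) :=
        Algebra.FormallyEtale.of_isLocalization p.asIdeal.primeCompl
      let eΩ := KaehlerDifferential.tensorKaehlerEquivOfFormallyEtale k₀ C
        (Localization.AtPrime p.asIdeal)
      rw [Module.mem_freeLocus_iff_tensor p (Localization.AtPrime p.asIdeal)]
      constructor
      · intro h
        haveI : Module.Projective (Localization.AtPrime p.asIdeal)
            (Localization.AtPrime p.asIdeal ⊗[C] Ω[C⁄k₀]) := Module.Projective.of_equiv eΩ.symm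
        haveI : Module.Projective (Localization.AtPrime p.asIdeal)
            (Localization.AtPrime p.asIdeal ⊗[C] Q) :=
          (projective_baseChange_iff e (Localization.AtPrime p.asIdeal)).mp inferInstance
        exact Module.free_of_flat_of_isLocalRing
      · intro h
        haveI : Module.Projective (Localization.AtPrime p.asIdeal)
            (Localization.AtPrime p.asIdeal ⊗[C] Q) := Module.Projective.of_free
        haveI : Module.Projective (Localization.AtPrime p.asIdeal)
            (Localization.AtPrime p.asIdeal ⊗[C] Ω[C⁄k₀]) :=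
          (projective_baseChange_iff e (Localization.AtPrime p.asIdeal)).mpr inferInstance
        exact Module.Projective.of_equiv eΩ
  · rw [Algebra.formallySmooth_iff]
    haveI := h2
    exact ⟨projective_of_equiv_prod e, h1⟩

theorem isOpen_smoothLocus (k₀ k C : Type u) [Field k₀] [Field k] [Algebra k₀ k]
    [Algebra.FormallySmooth k₀ k] [CommRing C] [Algebra k C] [Algebra k₀ C] [IsScalarTower k₀ k C]
    [Algebra.FiniteType k C] : IsOpen (Algebra.smoothLocus k₀ C) := by
  obtain ⟨Q, _, _, _, h1, h2⟩ := exists_finitePresentation_locus k₀ k C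
  haveI := finite_h1Cotangent k₀ k C
  have : Algebra.smoothLocus k₀ C =
      (Module.support C (Algebra.H1Cotangent k₀ C))ᶜ ∩ Module.freeLocus C Q := by
    ext p; exact h1 p
  rw [this]
  apply IsOpen.inter
  · rw [Module.support_eq_zeroLocus]
    exact (PrimeSpectrum.isClosed_zeroLocus _).isOpen_compl
  · exact Module.isOpen_freeLocus

theorem formallySmooth_of_smoothLocus_eq_univ (k₀ k C : Type u) [Field k₀] [Field k]
    [Algebra k₀ k]
    [Algebra.FormallySmooth k₀ k] [CommRing C] [Algebra k C] [Algebra k₀ C] [IsScalarTower k₀ k C]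
    [Algebra.FiniteType k C] (huniv : Algebra.smoothLocus k₀ C = Set.univ) :
    Algebra.FormallySmooth k₀ C := by
  obtain ⟨Q, _, _, _, h1, h2⟩ := exists_finitePresentation_locus k₀ k C
  apply h2
  · rw [← Module.support_eq_empty_iff (R := C)]
    ext p
    simp only [Set.mem_empty_iff_false, iff_false]
    exact ((h1 p).mp (huniv ▸ Set.mem_univ p)).1
  · rw [← Module.freeLocus_eq_univ_iff, Set.eq_univ_iff_forall]
    intro p
    exact ((h1 p).mp (huniv ▸ Set.mem_univ p)).2

theorem formallySmooth_of_forall_maximal (k₀ k C : Type u) [Field k₀] [Field k] [Algebra k₀ k]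
    [Algebra.FormallySmooth k₀ k] [CommRing C] [Algebra k C] [Algebra k₀ C] [IsScalarTower k₀ k C]
    [Algebra.FiniteType k C]
    (h : ∀ (m : Ideal C) [m.IsMaximal], Algebra.FormallySmooth k₀ (Localization.AtPrime m)) :
    Algebra.FormallySmooth k₀ C := by
  apply formallySmooth_of_smoothLocus_eq_univ k₀ k C
  rw [Set.eq_univ_iff_forall]
  intro p
  obtain ⟨m, hm, hpm⟩ := Ideal.exists_le_maximal p.asIdeal p.2.ne_top
  have hmem : (⟨m, hm.isPrime⟩ : PrimeSpectrum C) ∈ Algebra.smoothLocus k₀ C := h m
  have hspec : p ⤳ ⟨m, hm.isPrime⟩ := (PrimeSpectrum.le_iff_specializes _ _).mp hpm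
  exact hspec.mem_open (isOpen_smoothLocus k₀ k C) hmem

end key

end Groth.Agent.Lib.Helper21.SepFT
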