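import Mathlib
import Groth.Agent.Lib.Helper21.CotangentKaehler
import Groth.Agent.Lib.Helper21.ConormalReg
import Groth.Agent.Lib.Helper21.SepFTD
import Groth.Agent.Lib.Helper12.DimFT2
import Groth.Agent.Lib.Helper9.RegLocal

set_option autoImplicit false
set_option linter.style.haveILetI false

namespace Groth.Agent.Lib.Helper21.KaehlerRank

open IsLocalRing TensorProduct Module

universe u

theorem formallySmooth_of_isRegularLocalRing (k B : Type u) [Field k] [CommRing B] [Algebra k B]
    [IsLocalRing B] [Algebra.EssFiniteType k B]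
    (hres : Function.Bijective (algebraMap k (IsLocalRing.ResidueField B)))
    (hreg : IsRegularLocalRing B) : Algebra.FormallySmooth k B := by
  haveI : IsNoetherianRing B := Algebra.EssFiniteType.isNoetherianRing k B
  let e : k ≃ₐ[k] ResidueField B := AlgEquiv.ofBijective (Algebra.ofId k (ResidueField B)) hres
  haveI : Algebra.FormallySmooth k (ResidueField B) := Algebra.FormallySmooth.of_equiv e
  haveI : Algebra.IsGeometricallyReduced k (ResidueField B) :=
    Groth.Agent.Lib.Helper21.SepSmooth.formallySmooth_iff_geomReduced.mp inferInstance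
  have hadic : CAlgX.IsAdicFormallySmooth k B (maximalIdeal B) :=
    ((Groth.Agent.Lib.Helper21.CohenStruct.S2453_aux k B).out 3 0).mp hreg
  exact Groth.Agent.Lib.Helper21.JacAdic.formallySmooth_of_isAdicFormallySmooth_of_essFiniteType hadic

theorem bijective_algebraMap_residueField (k A : Type u) [Field k] [IsAlgClosed k] [CommRing A]
    [Algebra k A] [Algebra.FiniteType k A] (m : Ideal A) [m.IsMaximal] :
    Function.Bijective (algebraMap k (IsLocalRing.ResidueField (Localization.AtPrime m))) := by
  letI : Field (A ⧸ m) := Ideal.Quotient.field m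
  haveI : Algebra.FiniteType k (A ⧸ m) :=
    Algebra.FiniteType.of_surjective (Ideal.Quotient.mkₐ k m) Ideal.Quotient.mk_surjective
  haveI : Module.Finite k (A ⧸ m) := finite_of_finite_type_of_isJacobsonRing k (A ⧸ m)
  have h1 : Function.Bijective (algebraMap k (A ⧸ m)) :=
    IsAlgClosed.algebraMap_bijective_of_isIntegral
  have h2 := Ideal.bijective_algebraMap_quotient_residueField m
  have h3 : (algebraMap k (IsLocalRing.ResidueField (Localization.AtPrime m)) : k → _) =
      (algebraMap (A ⧸ m) m.ResidueField) ∘ (algebraMap k (A ⧸ m)) := by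
    ext c
    rfl
  rw [h3]
  exact h2.comp h1

theorem ringKrullDim_quotient_nilradical (A : Type*) [CommRing A] :
    ringKrullDim (A ⧸ nilradical A) = ringKrullDim A := by
  rw [ringKrullDim_quotient]
  have : PrimeSpectrum.zeroLocus (R := A) (nilradical A) = Set.univ := by
    ext p
    simp only [PrimeSpectrum.mem_zeroLocus, SetLike.coe_subset_coe, Set.mem_univ, iff_true]
    exact nilradical_le_prime p.asIdeal
  rw [this]
  exact Order.krullDim_eq_of_orderIso OrderIso.Set.univ

theorem height_eq_of_isMaximal (k A : Type u) [Field k] [CommRing A] [Algebra k A]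
    [Algebra.FiniteType k A] (hirr : (nilradical A).IsPrime) (n : ℕ) (hn : ringKrullDim A = n)
    (m : Ideal A) [hm : m.IsMaximal] : m.height = n := by
  have hmin : ∀ P ∈ minimalPrimes A, ∀ _ : P.IsPrime, ringKrullDim (A ⧸ P) = n := by
    intro P hP hPp
    have h1 : P = nilradical A := by
      apply le_antisymm
      · exact hP.2 ⟨hirr, bot_le⟩ (nilradical_le_prime P)
      · exact nilradical_le_prime P
    rw [h1, ringKrullDim_quotient_nilradical, hn]
  let y : PrimeSpectrum A := ⟨m, hm.isPrime⟩
  have key := Groth.Agent.Lib.Helper12.DimFT2.height_add_coheight_of_equidim k A n hmin y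
  have hco : Order.coheight y = 0 := by
    rw [Order.coheight_eq_zero]
    intro z hz
    have h1 : m ≤ z.asIdeal := hz
    have h2 : z.asIdeal = m := (hm.eq_of_le z.2.ne_top h1).symm
    exact le_of_eq (PrimeSpectrum.ext h2)
  rw [hco, add_zero] at key
  have := PrimeSpectrum.height_eq_orderHeight y
  rw [key] at this
  exact this

theorem isBaseChange_map (k A : Type u) [Field k] [CommRing A] [Algebra k A]
    (m : Ideal A) [hm : m.IsPrime] :
    IsBaseChange (Localization.AtPrime m)
      (KaehlerDifferential.map k k A (Localization.AtPrime m)) :=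
  (isLocalizedModule_iff_isBaseChange m.primeCompl _ _).mp inferInstance

/-- finrank of Ω at the localization at m equals rankAtStalk -/
theorem finrank_kaehler_localization (k A : Type u) [Field k] [CommRing A] [Algebra k A]
    (m : Ideal A) [hm : m.IsPrime] :
    Module.finrank (Localization.AtPrime m) (Ω[Localization.AtPrime m⁄k]) =
      Module.rankAtStalk (Ω[A⁄k]) ⟨m, hm⟩ := by
  rw [Module.rankAtStalk_eq_finrank_tensorProduct, (isBaseChange_map k A m).equiv.finrank_eq]

theorem S10909_aux (k : Type u) [Field k]
    [IsAlgClosed k] (A : Type u) [CommRing A] [Algebra k A] [Algebra.FiniteType k A]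
    (hirr : (nilradical A).IsPrime) (n : ℕ) (hn : ringKrullDim A = n) :
    (IsReduced A ∧ IsRegularRing A) ↔
      (Module.Projective A (Ω[A⁄k]) ∧
        ∀ (P : Ideal A) [P.IsPrime],
          Module.finrank P.ResidueField (P.ResidueField ⊗[A] Ω[A⁄k]) = n) := by
  have hdim : ∀ (m : Ideal A) [m.IsMaximal],
      ringKrullDim (Localization.AtPrime m) = (n : WithBot ℕ∞) := by
    intro m hm
    rw [IsLocalization.AtPrime.ringKrullDim_eq_height m, height_eq_of_isMaximal k A hirr n hn m]
    rfl
  constructor
  · rintro ⟨-, hreg⟩
    haveI : Algebra.FormallySmooth k A :=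
      (Groth.Agent.Lib.Helper21.ConormalReg.formallySmooth_iff_isRegularRing k A).mpr hreg
    refine ⟨inferInstance, fun P hP => ?_⟩
    obtain ⟨m, hm, hPm⟩ := Ideal.exists_le_maximal P hP.ne_top
    haveI := hm
    have h1 := Ideal.finrank_fiber_eq_rankAtStalk (M := Ω[A⁄k]) P
    refine h1.trans ?_
    rw [Module.rankAtStalk_eq_of_le_of_finite_of_flat' _ hPm, ← finrank_kaehler_localization]
    exact ((Groth.Agent.Lib.Helper21.CotangentKaehler.S11311_aux k (Localization.AtPrime m)
      (bijective_algebraMap_residueField k A m) n (hdim m)).2 inferInstance).2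
  · rintro ⟨hproj, hrank⟩
    have hfs : Algebra.FormallySmooth k A := by
      apply Groth.Agent.Lib.Helper21.SepFT.formallySmooth_of_forall_maximal k k A
      intro m hm
      have hres := bijective_algebraMap_residueField k A m
      apply formallySmooth_of_isRegularLocalRing k _ hres
      apply (Groth.Agent.Lib.Helper21.CotangentKaehler.S11311_aux k (Localization.AtPrime m)
        hres n (hdim m)).1
      haveI : Module.Free (Localization.AtPrime m) (Localization.AtPrime m ⊗[A] Ω[A⁄k]) :=
        Module.free_of_flat_of_isLocalRing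
      refine ⟨Module.Free.of_equiv (isBaseChange_map k A m).equiv, ?_⟩
      rw [finrank_kaehler_localization, ← Ideal.finrank_fiber_eq_rankAtStalk]
      exact hrank m
    have hreg : IsRegularRing A :=
      (Groth.Agent.Lib.Helper21.ConormalReg.formallySmooth_iff_isRegularRing k A).mp hfs
    refine ⟨?_, hreg⟩
    apply isReduced_ofLocalizationMaximal
    intro m hm
    haveI : IsDomain (Localization.AtPrime m) :=
      Groth.Agent.Lib.Helper9.RegLocal.isDomain_of_isRegularLocalRing _
    infer_instance

end Groth.Agent.Lib.Helper21.KaehlerRank
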