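import Mathlib
import Groth.Prelude.Def_DTen6
import Groth.Agent.Lib.Helper18.DTenD

/-!
# Base change for derived hom: `rhomBC` is an isomorphism (helper21)

The monoidal comparison `cmp φ T K : (T ⊗^L K) ⊗^L_R R' ⟶ (T ⊗^L_R R') ⊗^L_{R'} (K ⊗^L_R R')` of derived base
change (the adjunct of the unit in both factors followed by `resPF`) is an isomorphism (computed on
K-projective representatives), and `rhomBC` is then an isomorphism by the Yoneda lemma.
-/

set_option autoImplicit false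
set_option backward.isDefEq.respectTransparency false

universe u
open CategoryTheory CategoryTheory.Limits MonoidalCategory
attribute [local instance] HasDerivedCategory.standard

namespace Groth.Agent.Lib.Helper21.RGo

open DTen Groth.Agent.Lib.Helper18.DR

/-! ### a formal chain of equalities -/

lemma chain {C C' : Type*} [Category C] [Category C'] (G : C' ⥤ C)
    {A T W V : C} {E E' S S' : C'}
    (ι₁ : A ⟶ T) (uT : T ⟶ G.obj E) (θn : E ⟶ E')
    (uA : A ⟶ G.obj S) (eι : S ⟶ E) (D : S ⟶ S') (ι₂ : S' ⟶ E')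
    (uu : A ⟶ W) (μ₀ : W ⟶ G.obj S') (ι₃ : W ⟶ V) (ρ : V ⟶ G.obj E') (m : T ⟶ V)
    (e1 : ι₁ ≫ uT = uA ≫ G.map eι) (e2 : eι ≫ θn = D ≫ ι₂) (e0 : uA ≫ G.map D = uu ≫ μ₀)
    (e3 : ι₃ ≫ ρ = μ₀ ≫ G.map ι₂) (e4 : ι₁ ≫ m = uu ≫ ι₃) :
    ι₁ ≫ (uT ≫ G.map θn) = ι₁ ≫ (m ≫ ρ) :=
  calc ι₁ ≫ (uT ≫ G.map θn) = (ι₁ ≫ uT) ≫ G.map θn := (Category.assoc _ _ _).symm
    _ = (uA ≫ G.map eι) ≫ G.map θn := by rw [e1]
    _ = uA ≫ G.map (eι ≫ θn) := by rw [Category.assoc, G.map_comp]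
    _ = uA ≫ G.map (D ≫ ι₂) := by rw [e2]
    _ = (uA ≫ G.map D) ≫ G.map ι₂ := by rw [G.map_comp, Category.assoc]
    _ = (uu ≫ μ₀) ≫ G.map ι₂ := by rw [e0]
    _ = uu ≫ (ι₃ ≫ ρ) := by rw [Category.assoc, e3]
    _ = (uu ≫ ι₃) ≫ ρ := (Category.assoc _ _ _).symm
    _ = (ι₁ ≫ m) ≫ ρ := by rw [e4]
    _ = ι₁ ≫ (m ≫ ρ) := Category.assoc _ _ _

/-! ### the derived tensor product on maps, and its counit -/

section tm

variable (A : Type u) [CommRing A] [HasLTen A]

/-- the derived tensor product on a pair of maps -/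
noncomputable def tm {X₁ X₂ Y₁ Y₂ : Dual.D A} (a : X₁ ⟶ X₂) (b : Y₁ ⟶ Y₂) :
    (LTen₂ A).obj (X₁, Y₁) ⟶ (LTen₂ A).obj (X₂, Y₂) :=
  (LTen₂ A).map (Prod.mkHom a b)

@[reassoc]
lemma tm_comp {X₁ X₂ X₃ Y₁ Y₂ Y₃ : Dual.D A} (a : X₁ ⟶ X₂) (a' : X₂ ⟶ X₃)
    (b : Y₁ ⟶ Y₂) (b' : Y₂ ⟶ Y₃) :
    tm A a b ≫ tm A a' b' = tm A (a ≫ a') (b ≫ b') := by
  unfold tm
  rw [← Functor.map_comp]
  rfl

lemma isIso_tm {X₁ X₂ Y₁ Y₂ : Dual.D A} (a : X₁ ⟶ X₂) (b : Y₁ ⟶ Y₂) [IsIso a] [IsIso b] :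
    IsIso (tm A a b) := by
  unfold tm
  haveI : IsIso (Prod.mkHom a b) := (isIso_prod_iff _ _).2 ⟨inferInstance, inferInstance⟩
  infer_instance

/-- the counit of the derived tensor product at a pair of complexes -/
noncomputable def ep (X Y : DRing.Cx A) :
    (LTen₂ A).obj (DerivedCategory.Q.obj X, DerivedCategory.Q.obj Y) ⟶
      DerivedCategory.Q.obj (X ⊗ Y) :=
  (ε A).app (X, Y)

@[reassoc]
lemma ep_nat {X X' Y Y' : DRing.Cx A} (f : X ⟶ X') (g : Y ⟶ Y') :
    tm A (DerivedCategory.Q.map f) (DerivedCategory.Q.map g) ≫ ep A X' Y' =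
      ep A X Y ≫ DerivedCategory.Q.map (f ⊗ₘ g) := by
  rw [MonoidalCategory.tensorHom_def f g]
  exact (ε A).naturality (Prod.mkHom f g : ((X, Y) : DRing.Cx A × DRing.Cx A) ⟶ (X', Y'))

lemma isIso_ep (X Y : DRing.Cx A) [X.IsKProjective] [Y.IsKProjective] : IsIso (ep A X Y) :=
  DTenA.isIso_ε_app X Y

end tm

section base

variable {R R' : Type u} [CommRing R] [CommRing R'] (φ : R →+* R')

/-! ### complex-level wrappers -/

/-- `resFactors`, hom component -/
noncomputable def rfh (Y : DRing.Cx R') :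
    (DRing.restrictD φ).obj (DerivedCategory.Q.obj Y) ⟶
      DerivedCategory.Q.obj ((resCx φ).obj Y) :=
  (resFactors φ).hom.app Y

/-- `resFactors`, inv component -/
noncomputable def rfi (Y : DRing.Cx R') :
    DerivedCategory.Q.obj ((resCx φ).obj Y) ⟶
      (DRing.restrictD φ).obj (DerivedCategory.Q.obj Y) :=
  (resFactors φ).inv.app Y

@[reassoc]
lemma rfi_rfh (Y : DRing.Cx R') : rfi φ Y ≫ rfh φ Y = 𝟙 _ := (resFactors φ).inv_hom_id_app Y

@[reassoc]
lemma rfh_rfi (Y : DRing.Cx R') : rfh φ Y ≫ rfi φ Y = 𝟙 _ := (resFactors φ).hom_inv_id_app Y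

@[reassoc]
lemma rfi_nat {Y Y' : DRing.Cx R'} (t : Y ⟶ Y') :
    rfi φ Y ≫ (DRing.restrictD φ).map (DerivedCategory.Q.map t) =
      DerivedCategory.Q.map ((resCx φ).map t) ≫ rfi φ Y' :=
  ((resFactors φ).inv.naturality t).symm

/-- the unit at the complex level -/
noncomputable def uc (P : DRing.Cx R) : P ⟶ (resCx φ).obj ((extCx φ).obj P) := (unitCx φ).app P

/-- the complex-level restriction/tensor comparison -/
noncomputable def rt (Y Y' : DRing.Cx R') :
    (resCx φ).obj Y ⊗ (resCx φ).obj Y' ⟶ (resCx φ).obj (Y ⊗ Y') := resTenCx φ Y Y'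

/-- extension of scalars across the tensor product -/
noncomputable def tht (P P' : DRing.Cx R) :
    (extCx φ).obj (P ⊗ P') ⟶ (extCx φ).obj P ⊗ (extCx φ).obj P' := (extTenCxIso φ P P').hom

instance isIso_tht (P P' : DRing.Cx R) : IsIso (tht φ P P') := by
  unfold tht
  infer_instance

/-- the module-level compatibility of the unit with the monoidal structures -/
lemma star0 (M N : ModuleCat.{u} R) :
    (ModuleCat.extendRestrictScalarsAdj.{u, u, u} φ).unit.app (M ⊗ N) ≫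
        (DTen.resM φ).map (Functor.OplaxMonoidal.δ (extM φ) M N) =
      ((ModuleCat.extendRestrictScalarsAdj.{u, u, u} φ).unit.app M ⊗ₘ
          (ModuleCat.extendRestrictScalarsAdj.{u, u, u} φ).unit.app N) ≫
        resTen₀app φ ((extM φ).obj M) ((extM φ).obj N) := by
  rw [resTen₀app_eq_μ]
  exact (ModuleCat.extendRestrictScalarsAdj.{u, u, u} φ).unit_app_tensor_comp_map_δ M N

/-- the complex-level compatibility of the unit with the monoidal structures -/
lemma star (P P' : DRing.Cx R) :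
    uc φ (P ⊗ P') ≫ (resCx φ).map (tht φ P P') =
      (uc φ P ⊗ₘ uc φ P') ≫ rt φ ((extCx φ).obj P) ((extCx φ).obj P') := by
  refine HomologicalComplex.hom_ext _ _ (fun n => ?_)
  refine HomologicalComplex.mapBifunctor.hom_ext (fun p q h => ?_)
  have e1 : HomologicalComplex.ιTensorObj P P' p q n h ≫ (uc φ (P ⊗ P')).f n =
      (ModuleCat.extendRestrictScalarsAdj.{u, u, u} φ).unit.app (P.X p ⊗ P'.X q) ≫
        (DTen.resM φ).map ((extM φ).map (HomologicalComplex.ιTensorObj P P' p q n h)) :=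
    (ModuleCat.extendRestrictScalarsAdj.{u, u, u} φ).unit.naturality
      (HomologicalComplex.ιTensorObj P P' p q n h)
  have e2 : (extM φ).map (HomologicalComplex.ιTensorObj P P' p q n h) ≫ (tht φ P P').f n =
      Functor.OplaxMonoidal.δ (extM φ) (P.X p) (P'.X q) ≫
        HomologicalComplex.ιTensorObj ((extCx φ).obj P) ((extCx φ).obj P') p q n h :=
    map_ι_extTenCxIso_hom φ P P' p q n h
  have e0 : (ModuleCat.extendRestrictScalarsAdj.{u, u, u} φ).unit.app (P.X p ⊗ P'.X q) ≫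
        (DTen.resM φ).map (Functor.OplaxMonoidal.δ (extM φ) (P.X p) (P'.X q)) =
      ((uc φ P).f p ⊗ₘ (uc φ P').f q) ≫
        resTen₀app φ (((extCx φ).obj P).X p) (((extCx φ).obj P').X q) :=
    star0 φ (P.X p) (P'.X q)
  have e3 : HomologicalComplex.ιTensorObj ((resCx φ).obj ((extCx φ).obj P))
        ((resCx φ).obj ((extCx φ).obj P')) p q n h ≫
        (rt φ ((extCx φ).obj P) ((extCx φ).obj P')).f n =
      resTen₀app φ (((extCx φ).obj P).X p) (((extCx φ).obj P').X q) ≫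
        (DTen.resM φ).map (HomologicalComplex.ιTensorObj ((extCx φ).obj P) ((extCx φ).obj P') p q n h) :=
    ι_resTenCx φ ((extCx φ).obj P) ((extCx φ).obj P') p q n h
  have e4 : HomologicalComplex.ιTensorObj P P' p q n h ≫ (uc φ P ⊗ₘ uc φ P').f n =
      ((uc φ P).f p ⊗ₘ (uc φ P').f q) ≫
        HomologicalComplex.ιTensorObj ((resCx φ).obj ((extCx φ).obj P))
          ((resCx φ).obj ((extCx φ).obj P')) p q n h := by
    have h4 := HomologicalComplex.ι_mapBifunctorMap (uc φ P) (uc φ P')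
      (curriedTensor (ModuleCat.{u} R)) (ComplexShape.up ℤ) p q n h
    rw [MonoidalCategory.tensorHom_def ((uc φ P).f p) ((uc φ P').f q), Category.assoc]
    exact h4
  exact chain (DTen.resM φ) (HomologicalComplex.ιTensorObj P P' p q n h) ((uc φ (P ⊗ P')).f n)
    ((tht φ P P').f n) _ _ _ _ _ _ _ ((rt φ ((extCx φ).obj P) ((extCx φ).obj P')).f n)
    ((uc φ P ⊗ₘ uc φ P').f n) e1 e2 e0 e3 e4

/-! ### derived-level wrappers -/

variable [HasLTen R] [HasLTen R'] [HasLBase φ] [HasResTen φ] [ResLegIso φ]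

/-- the unit of derived base change, with clean source and target -/
noncomputable def un (T : Dual.D R) : T ⟶ (DRing.restrictD φ).obj ((LBase φ).obj T) :=
  (baseAdj φ).unit.app T

@[reassoc]
lemma un_nat {T₁ T : Dual.D R} (u : T₁ ⟶ T) :
    un φ T₁ ≫ (DRing.restrictD φ).map ((LBase φ).map u) = u ≫ un φ T :=
  ((baseAdj φ).unit.naturality u).symm

lemma he_eq {T : Dual.D R} {Y : Dual.D R'} (g : (LBase φ).obj T ⟶ Y) :
    (baseAdj φ).homEquiv T Y g = un φ T ≫ (DRing.restrictD φ).map g := rfl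

/-- the comparison from derived to termwise base change -/
noncomputable def bc (P : DRing.Cx R) :
    (LBase φ).obj (DerivedCategory.Q.obj P) ⟶ DerivedCategory.Q.obj ((extCx φ).obj P) :=
  (baseCmp φ).app P

@[reassoc]
lemma un_bc (P : DRing.Cx R) :
    un φ (DerivedCategory.Q.obj P) ≫ (DRing.restrictD φ).map (bc φ P) =
      DerivedCategory.Q.map (uc φ P) ≫ rfi φ ((extCx φ).obj P) :=
  baseCmp_fac φ P

/-- the lax monoidal comparison of derived restriction -/
noncomputable def pf (E E' : Dual.D R') :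
    (LTen₂ R).obj ((DRing.restrictD φ).obj E, (DRing.restrictD φ).obj E') ⟶
      (DRing.restrictD φ).obj ((LTen₂ R').obj (E, E')) :=
  (resPF φ).app (E, E')

@[reassoc]
lemma pf_nat {E₁ E₂ E₁' E₂' : Dual.D R'} (a : E₁ ⟶ E₂) (b : E₁' ⟶ E₂') :
    tm R ((DRing.restrictD φ).map a) ((DRing.restrictD φ).map b) ≫ pf φ E₂ E₂' =
      pf φ E₁ E₁' ≫ (DRing.restrictD φ).map (tm R' a b) :=
  (resPF φ).naturality (Prod.mkHom a b : ((E₁, E₁') : Dual.D R' × Dual.D R') ⟶ (E₂, E₂'))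

@[reassoc]
lemma pf_fac (Y Y' : DRing.Cx R') :
    pf φ (DerivedCategory.Q.obj Y) (DerivedCategory.Q.obj Y') ≫
        (DRing.restrictD φ).map (ep R' Y Y') =
      tm R (rfh φ Y) (rfh φ Y') ≫ ep R ((resCx φ).obj Y) ((resCx φ).obj Y') ≫
        DerivedCategory.Q.map (rt φ Y Y') ≫ rfi φ (Y ⊗ Y') := by
  have h : pf φ (DerivedCategory.Q.obj Y) (DerivedCategory.Q.obj Y') ≫
      ((DRing.restrictD φ).map (ep R' Y Y') ≫ rfh φ (Y ⊗ Y')) =
      tm R (rfh φ Y) (rfh φ Y') ≫ ep R ((resCx φ).obj Y) ((resCx φ).obj Y') ≫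
        DerivedCategory.Q.map (rt φ Y Y') := resPF_fac φ (Y, Y')
  have h2 : rfh φ (Y ⊗ Y') ≫ rfi φ (Y ⊗ Y') = 𝟙 _ := rfh_rfi φ (Y ⊗ Y')
  calc pf φ (DerivedCategory.Q.obj Y) (DerivedCategory.Q.obj Y') ≫
        (DRing.restrictD φ).map (ep R' Y Y')
      = (pf φ (DerivedCategory.Q.obj Y) (DerivedCategory.Q.obj Y') ≫
          ((DRing.restrictD φ).map (ep R' Y Y') ≫ rfh φ (Y ⊗ Y'))) ≫ rfi φ (Y ⊗ Y') := by
        simp only [Category.assoc, h2, Category.comp_id]
    _ = _ := by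
        rw [h]
        simp only [Category.assoc]

/-! ### the monoidal comparison of derived base change -/

/-- the adjunct of `cmp` -/
noncomputable def cmpCore (T K : Dual.D R) :
    (LTen₂ R).obj (T, K) ⟶
      (DRing.restrictD φ).obj ((LTen₂ R').obj ((LBase φ).obj T, (LBase φ).obj K)) :=
  tm R (un φ T) (un φ K) ≫ pf φ ((LBase φ).obj T) ((LBase φ).obj K)

/-- the monoidal comparison `(T ⊗^L K) ⊗^L_R R' ⟶ (T ⊗^L_R R') ⊗^L_{R'} (K ⊗^L_R R')` -/
noncomputable def cmp (T K : Dual.D R) :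
    (LBase φ).obj ((LTen₂ R).obj (T, K)) ⟶
      (LTen₂ R').obj ((LBase φ).obj T, (LBase φ).obj K) :=
  ((baseAdj φ).homEquiv _ _).symm (cmpCore φ T K)

@[reassoc]
lemma un_cmp (T K : Dual.D R) :
    un φ ((LTen₂ R).obj (T, K)) ≫ (DRing.restrictD φ).map (cmp φ T K) = cmpCore φ T K :=
  ((baseAdj φ).homEquiv _ _).apply_symm_apply (cmpCore φ T K)

lemma cmpCore_nat {T₁ T K₁ K : Dual.D R} (u : T₁ ⟶ T) (v : K₁ ⟶ K) :
    tm R u v ≫ cmpCore φ T K =
      cmpCore φ T₁ K₁ ≫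
        (DRing.restrictD φ).map (tm R' ((LBase φ).map u) ((LBase φ).map v)) := by
  unfold cmpCore
  rw [tm_comp_assoc, ← un_nat, ← un_nat, ← tm_comp_assoc, pf_nat, Category.assoc]

lemma cmp_nat {T₁ T K₁ K : Dual.D R} (u : T₁ ⟶ T) (v : K₁ ⟶ K) :
    (LBase φ).map (tm R u v) ≫ cmp φ T K =
      cmp φ T₁ K₁ ≫ tm R' ((LBase φ).map u) ((LBase φ).map v) := by
  apply ((baseAdj φ).homEquiv _ _).injective
  rw [he_eq, he_eq, Functor.map_comp, Functor.map_comp, un_nat_assoc, un_cmp, un_cmp_assoc]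
  exact cmpCore_nat φ u v

lemma isIso_cmp_of_iso {T₁ T K₁ K : Dual.D R} (e : T₁ ≅ T) (e' : K₁ ≅ K)
    (h : IsIso (cmp φ T₁ K₁)) : IsIso (cmp φ T K) := by
  haveI := h
  haveI : IsIso (tm R e.hom e'.hom) := isIso_tm R _ _
  haveI : IsIso (tm R' ((LBase φ).map e.hom) ((LBase φ).map e'.hom)) := isIso_tm R' _ _
  have hn := cmp_nat φ e.hom e'.hom
  have : cmp φ T K = inv ((LBase φ).map (tm R e.hom e'.hom)) ≫ cmp φ T₁ K₁ ≫
      tm R' ((LBase φ).map e.hom) ((LBase φ).map e'.hom) := by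
    rw [IsIso.eq_inv_comp]
    exact hn
  rw [this]
  infer_instance

/-- the key identity computing `cmp` on images of complexes -/
lemma cmp_key (P P' : DRing.Cx R) :
    cmp φ (DerivedCategory.Q.obj P) (DerivedCategory.Q.obj P') ≫
        tm R' (bc φ P) (bc φ P') ≫ ep R' ((extCx φ).obj P) ((extCx φ).obj P') =
      (LBase φ).map (ep R P P') ≫ bc φ (P ⊗ P') ≫ DerivedCategory.Q.map (tht φ P P') := by
  have hL : un φ ((LTen₂ R).obj (DerivedCategory.Q.obj P, DerivedCategory.Q.obj P')) ≫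
      (DRing.restrictD φ).map (cmp φ (DerivedCategory.Q.obj P) (DerivedCategory.Q.obj P') ≫
        tm R' (bc φ P) (bc φ P') ≫ ep R' ((extCx φ).obj P) ((extCx φ).obj P')) =
      ep R P P' ≫ DerivedCategory.Q.map (uc φ P ⊗ₘ uc φ P') ≫
        DerivedCategory.Q.map (rt φ ((extCx φ).obj P) ((extCx φ).obj P')) ≫
        rfi φ ((extCx φ).obj P ⊗ (extCx φ).obj P') := by
    rw [Functor.map_comp, Functor.map_comp, un_cmp_assoc]
    unfold cmpCore
    rw [Category.assoc, ← pf_nat_assoc, tm_comp_assoc, un_bc, un_bc, pf_fac, tm_comp_assoc]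
    simp only [Category.assoc, rfi_rfh, Category.comp_id]
    rw [ep_nat_assoc]
  have hR : un φ ((LTen₂ R).obj (DerivedCategory.Q.obj P, DerivedCategory.Q.obj P')) ≫
      (DRing.restrictD φ).map ((LBase φ).map (ep R P P') ≫ bc φ (P ⊗ P') ≫
        DerivedCategory.Q.map (tht φ P P')) =
      ep R P P' ≫ DerivedCategory.Q.map (uc φ (P ⊗ P')) ≫
        DerivedCategory.Q.map ((resCx φ).map (tht φ P P')) ≫
        rfi φ ((extCx φ).obj P ⊗ (extCx φ).obj P') := by
    rw [Functor.map_comp, Functor.map_comp, un_nat_assoc, un_bc_assoc, rfi_nat]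
  have hs : DerivedCategory.Q.map (uc φ (P ⊗ P')) ≫
      DerivedCategory.Q.map ((resCx φ).map (tht φ P P')) =
      DerivedCategory.Q.map (uc φ P ⊗ₘ uc φ P') ≫
        DerivedCategory.Q.map (rt φ ((extCx φ).obj P) ((extCx φ).obj P')) := by
    rw [← Functor.map_comp, ← Functor.map_comp, star]
  apply ((baseAdj φ).homEquiv _ _).injective
  rw [he_eq, he_eq]
  refine hL.trans (Eq.trans ?_ hR.symm)
  rw [← Category.assoc (DerivedCategory.Q.map (uc φ (P ⊗ P'))), hs, Category.assoc]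

lemma isIso_cmp_QQ (P P' : DRing.Cx R) [P.IsKProjective] [P'.IsKProjective] :
    IsIso (cmp φ (DerivedCategory.Q.obj P) (DerivedCategory.Q.obj P')) := by
  haveI : ((extCx φ).obj P).IsKProjective := isKProjective_extendScalars φ P
  haveI : ((extCx φ).obj P').IsKProjective := isKProjective_extendScalars φ P'
  haveI : IsIso (bc φ P) := DTenA.isIso_baseCmp_app φ P
  haveI : IsIso (bc φ P') := DTenA.isIso_baseCmp_app φ P'
  haveI : IsIso (ep R' ((extCx φ).obj P) ((extCx φ).obj P')) := isIso_ep R' _ _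
  haveI : IsIso (ep R P P') := isIso_ep R P P'
  haveI : IsIso (bc φ (P ⊗ P')) :=
    DTenC.isIso_baseCmp_app_of_kflat φ (P ⊗ P')
      ((Groth.Agent.Lib.Helper2.Tot.DR.kflat_iff (P ⊗ P')).2
        (DTenD.kflat_tensor (DTenB.kflat_of_isKProjective P) (DTenB.kflat_of_isKProjective P')))
  haveI : IsIso (tm R' (bc φ P) (bc φ P')) := isIso_tm R' _ _
  haveI : IsIso (cmp φ (DerivedCategory.Q.obj P) (DerivedCategory.Q.obj P') ≫
      (tm R' (bc φ P) (bc φ P') ≫ ep R' ((extCx φ).obj P) ((extCx φ).obj P'))) := by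
    rw [cmp_key]
    infer_instance
  exact IsIso.of_isIso_comp_right _
    (tm R' (bc φ P) (bc φ P') ≫ ep R' ((extCx φ).obj P) ((extCx φ).obj P'))

/-- derived base change is monoidal: the comparison is an isomorphism -/
theorem isIso_cmp (T K : Dual.D R) : IsIso (cmp φ T K) := by
  obtain ⟨P, hP, -, ⟨e⟩⟩ := exists_kprojective_resolution T
  obtain ⟨P', hP', -, ⟨e'⟩⟩ := exists_kprojective_resolution K
  haveI := hP
  haveI := hP'
  exact isIso_cmp_of_iso φ e e' (isIso_cmp_QQ φ P P')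

/-! ### base change for derived hom -/

variable [HasRHom R] [HasRHom R']

lemma core_formula (K : Dual.D R) (M : Dual.D R') {T : Dual.D R}
    (g : (LBase φ).obj T ⟶ (RHomR R' ((LBase φ).obj K)).obj M) :
    tm R (un φ T ≫ (DRing.restrictD φ).map g) (𝟙 K) ≫ rhomBCCore φ K M =
      un φ ((LTen₂ R).obj (T, K)) ≫ (DRing.restrictD φ).map
        (cmp φ T K ≫ tm R' g (𝟙 ((LBase φ).obj K)) ≫ ev ((LBase φ).obj K) M) := by
  have e_core : rhomBCCore φ K M =
      tm R (𝟙 ((DRing.restrictD φ).obj ((RHomR R' ((LBase φ).obj K)).obj M))) (un φ K) ≫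
        pf φ ((RHomR R' ((LBase φ).obj K)).obj M) ((LBase φ).obj K) ≫
        (DRing.restrictD φ).map (ev ((LBase φ).obj K) M) := rfl
  have hK : 𝟙 K ≫ un φ K = un φ K ≫ (DRing.restrictD φ).map (𝟙 ((LBase φ).obj K)) := by
    rw [CategoryTheory.Functor.map_id, Category.comp_id, Category.id_comp]
  rw [e_core, tm_comp_assoc, Category.comp_id, hK, ← tm_comp_assoc, pf_nat_assoc,
    Functor.map_comp, Functor.map_comp, un_cmp_assoc]
  unfold cmpCore
  rw [Category.assoc]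

lemma formula (K : Dual.D R) (M : Dual.D R') {T : Dual.D R}
    (g : (LBase φ).obj T ⟶ (RHomR R' ((LBase φ).obj K)).obj M) :
    (baseAdj φ).homEquiv T _ g ≫ rhomBC φ K M =
      (rhomAdj R K).homEquiv T ((DRing.restrictD φ).obj M)
        ((baseAdj φ).homEquiv ((LTen₂ R).obj (T, K)) M (cmp φ T K ≫
          ((rhomAdj R' ((LBase φ).obj K)).homEquiv ((LBase φ).obj T) M).symm g)) := by
  have h0 : (baseAdj φ).homEquiv T _ g ≫ rhomBC φ K M =
      (rhomAdj R K).homEquiv T ((DRing.restrictD φ).obj M)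
        ((tensorRightD R K).map ((baseAdj φ).homEquiv T _ g) ≫ rhomBCCore φ K M) :=
    ((rhomAdj R K).homEquiv_naturality_left _ _).symm
  have h1 : (tensorRightD R K).map ((baseAdj φ).homEquiv T _ g) ≫ rhomBCCore φ K M =
      (baseAdj φ).homEquiv ((LTen₂ R).obj (T, K)) M (cmp φ T K ≫
        ((rhomAdj R' ((LBase φ).obj K)).homEquiv ((LBase φ).obj T) M).symm g) :=
    core_formula φ K M g
  exact h0.trans (congrArg (fun t => (rhomAdj R K).homEquiv T ((DRing.restrictD φ).obj M) t) h1)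

/-- base change for derived hom: `rhomBC` is an isomorphism -/
theorem isIso_rhomBC (K : Dual.D R) (M : Dual.D R') : IsIso (rhomBC φ K M) := by
  apply isIso_of_yoneda_map_bijective
  intro T
  haveI : IsIso (cmp φ T K) := isIso_cmp φ T K
  have hc : Function.Bijective
      (fun h : (LTen₂ R').obj ((LBase φ).obj T, (LBase φ).obj K) ⟶ M => cmp φ T K ≫ h) :=
    ⟨fun a b hab => (cancel_epi (cmp φ T K)).1 hab,
      fun y => ⟨inv (cmp φ T K) ≫ y, IsIso.hom_inv_id_assoc (cmp φ T K) y⟩⟩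
  have hb : Function.Bijective
      ((fun f : T ⟶ (DRing.restrictD φ).obj ((RHomR R' ((LBase φ).obj K)).obj M) =>
          f ≫ rhomBC φ K M) ∘
        ((baseAdj φ).homEquiv T ((RHomR R' ((LBase φ).obj K)).obj M))) := by
    have key : ((fun f : T ⟶ (DRing.restrictD φ).obj ((RHomR R' ((LBase φ).obj K)).obj M) =>
          f ≫ rhomBC φ K M) ∘ ((baseAdj φ).homEquiv T ((RHomR R' ((LBase φ).obj K)).obj M))) =
        ((rhomAdj R K).homEquiv T ((DRing.restrictD φ).obj M)) ∘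
          ((baseAdj φ).homEquiv ((LTen₂ R).obj (T, K)) M) ∘
          (fun h : (LTen₂ R').obj ((LBase φ).obj T, (LBase φ).obj K) ⟶ M => cmp φ T K ≫ h) ∘
          (((rhomAdj R' ((LBase φ).obj K)).homEquiv ((LBase φ).obj T) M).symm) :=
      funext (fun g => formula φ K M g)
    rw [key]
    exact (Equiv.bijective _).comp ((Equiv.bijective _).comp (hc.comp (Equiv.bijective _)))
  exact (Function.Bijective.of_comp_iff _ (Equiv.bijective _)).1 hb

end base

end Groth.Agent.Lib.Helper21.RGo
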