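import Mathlib
import Groth.Agent.Lib.Helper21.RGo
import Groth.Agent.Lib.Helper18.HomCxI
import Groth.Agent.Lib.Helper18.ContraExact
import Groth.Agent.Lib.Helper18.DTenG
import Groth.Agent.S13576

/-!
# Base change for derived hom with perfect source (helper21)

`bcRHom φ K M : RHom_R(K, M) ⊗^L_R R' ⟶ RHom_{R'}(K ⊗^L_R R', M ⊗^L_R R')` is an isomorphism for `K`
perfect: dévissage in `K` (contravariant, helper18's `ContraExact`), the base case `K = R[j]` through
the monoidal comparison `cmp` of derived base change (`RGo`).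
-/

set_option autoImplicit false
set_option linter.style.haveILetI false
set_option linter.unusedSectionVars false

universe u
open CategoryTheory CategoryTheory.Limits CategoryTheory.Pretriangulated MonoidalCategory Opposite
attribute [local instance] HasDerivedCategory.standard

namespace Groth.Agent.Lib.Helper21.RGp

open DTen Groth.Agent.Lib.Helper18.DR Groth.Agent.Lib.Helper18.DR.DistPair
  Groth.Agent.Lib.Helper18.DR.ContraExact Groth.Agent.Lib.Helper18.DR.HomCx
  Groth.Agent.Lib.Helper21.RGo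

/-! ### dévissage with an arbitrary target -/

section devissage

variable {R : Type u} [CommRing R] {D : Type*} [Category D] [Preadditive D]
  {G G' : (Dual.D R)ᵒᵖ ⥤ D} [G.PreservesZeroMorphisms] [G'.PreservesZeroMorphisms]

/-- dévissage, contravariant version, arbitrary preadditive target -/
theorem isIso_app_of_isPerfect' (hG : HomExactOp G) (hG' : HomExactOp G') (τ : G ⟶ G')
    (h₀ : ∀ j : ℤ, IsIso (τ.app (op ((Dual.inD R R)⟦j⟧))))
    (K : Dual.D R) (hK : DRing.IsPerfect R K) : IsIso (τ.app (op K)) := by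
  let Pr : ObjectProperty (Dual.D R) := fun K => ∀ j : ℤ, IsIso (τ.app (op (K⟦j⟧)))
  haveI : Pr.IsClosedUnderIsomorphisms :=
    ⟨fun {X Y} e hX j =>
      ContraExact.isIso_app_of_iso τ ((shiftFunctor (Dual.D R) j).mapIso e) (hX j)⟩
  have hshift : ∀ (K : Dual.D R) (n : ℤ), Pr K → Pr ((shiftFunctor (Dual.D R) n).obj K) := by
    intro K n hK j
    exact ContraExact.isIso_app_of_iso τ
      ((shiftFunctorAdd' (Dual.D R) n j (n + j) rfl).app K) (hK (n + j))
  have main : Pr K := by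
    refine perfect_induction Pr h₀ hshift ?_ ?_ K hK
    · intro Tr hTr h1 h3 j
      have hT' := Triangle.shift_distinguished _ (inv_rot_of_distTriang _ hTr) j
      refine ContraExact.isIso_app_obj₃ hG hG' τ _ hT' ?_ ?_ ?_ ?_
      · exact hshift _ (-1) h3 j
      · exact h1 j
      · exact hshift _ j (hshift _ (-1) h3) 1
      · exact hshift _ j h1 1
    · intro X Y _ hXY j
      refine ContraExact.isIso_app_of_retract τ ((shiftFunctor (Dual.D R) j).map biprod.inl)
        ((shiftFunctor (Dual.D R) j).map biprod.fst) ?_ (hXY j)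
      rw [← Functor.map_comp, biprod.inl_fst, CategoryTheory.Functor.map_id]
  exact ContraExact.isIso_app_of_iso τ ((shiftFunctorZero (Dual.D R) ℤ).app K) (main 0)

end devissage

/-! ### one ring -/

section ring

variable {A : Type u} [CommRing A] [HasLTen A]

/-- `K ⊗^L - ≅ - ⊗^L K`, without the structure binder -/
noncomputable def braidNatIso (K : Dual.D A) : (LTen A).obj K ≅ tensorRightD A K :=
  NatIso.ofComponents
    (fun Y => @asIso _ _ _ _ ((symm A).app (Y, K)) (Groth.Agent.S13576.result A Y K))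
    (fun {Y Y'} m =>
      (symm A).naturality (Prod.mkHom m (𝟙 K) : ((Y, K) : Dual.D A × Dual.D A) ⟶ (Y', K)))

instance isEquivalence_tensorRightD_unit_shift (j : ℤ) :
    (tensorRightD A ((unit A)⟦j⟧)).IsEquivalence :=
  Functor.isEquivalence_of_iso (braidNatIso ((unit A)⟦j⟧))

@[reassoc]
lemma tm_comp_left {X₁ X₂ X₃ : Dual.D A} (a : X₁ ⟶ X₂) (a' : X₂ ⟶ X₃) (K : Dual.D A) :
    tm A (a ≫ a') (𝟙 K) = tm A a (𝟙 K) ≫ tm A a' (𝟙 K) := by
  rw [tm_comp, Category.comp_id]

@[reassoc]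
lemma tm_exchange {X X' Y Y' : Dual.D A} (a : X ⟶ X') (b : Y ⟶ Y') :
    tm A a (𝟙 Y) ≫ tm A (𝟙 X') b = tm A (𝟙 X) b ≫ tm A a (𝟙 Y') := by
  rw [tm_comp, tm_comp, Category.comp_id, Category.id_comp, Category.comp_id, Category.id_comp]

variable [HasRHom A]

lemma tm_zero_left (K : Dual.D A) {Y Y' : Dual.D A} : tm A (0 : Y ⟶ Y') (𝟙 K) = 0 :=
  (tensorRightD A K).map_zero Y Y'

lemma tm_zero_right (K : Dual.D A) {Y Y' : Dual.D A} : tm A (𝟙 K) (0 : Y ⟶ Y') = 0 := by
  haveI : ((LTen A).obj K).IsLeftAdjoint := Functor.isLeftAdjoint_of_iso (braidNatIso K).symm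
  exact ((LTen A).obj K).map_zero Y Y'

@[reassoc]
lemma ev_nat (K : Dual.D A) {M M' : Dual.D A} (v : M ⟶ M') :
    tm A ((RHomR A K).map v) (𝟙 K) ≫ ev K M' = ev K M ≫ v :=
  (rhomAdj A K).counit.naturality v

@[reassoc]
lemma rhom_map_ev {L L' : Dual.D A} (g : L' ⟶ L) (M : Dual.D A) :
    tm A (RHomMap g M) (𝟙 L') ≫ ev L' M = tm A (𝟙 ((RHomR A L).obj M)) g ≫ ev L M :=
  RHom_map_ev g M

lemma adj_symm {T K N : Dual.D A} (g : T ⟶ (RHomR A K).obj N) :
    (rhomHomEquiv T K N).symm g = tm A g (𝟙 K) ≫ ev K N := rfl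

lemma RHomMap_zero (M M' L : Dual.D A) : RHomMap (0 : M' ⟶ M) L = 0 := by
  apply (rhomHomEquiv _ _ _).symm.injective
  rw [adj_symm, adj_symm, rhom_map_ev, tm_zero_right, tm_zero_left, zero_comp, zero_comp]

lemma isDistPair_RHomMap₁₂ (Tr : Triangle (Dual.D A)) (hTr : Tr ∈ distTriang (Dual.D A))
    (L : Dual.D A) : IsDistPair (RHomMap Tr.mor₂ L) (RHomMap Tr.mor₁ L) := by
  have h := isDistPair_RHomMap Tr.invRotate (inv_rot_of_distTriang _ hTr) L
  let κ : Tr.obj₃ ≅ (Tr.obj₃⟦(-1 : ℤ)⟧)⟦(1 : ℤ)⟧ :=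
    ((shiftEquiv (Dual.D A) (1 : ℤ)).counitIso.app Tr.obj₃).symm
  let m₃ : Tr.obj₂ ⟶ (Tr.obj₃⟦(-1 : ℤ)⟧)⟦(1 : ℤ)⟧ := Tr.mor₂ ≫ κ.hom
  have e : m₃ ≫ κ.inv = Tr.mor₂ := by
    change (Tr.mor₂ ≫ κ.hom) ≫ κ.inv = _
    rw [Category.assoc, Iso.hom_inv_id, Category.comp_id]
  have hcomp : RHomMap κ.inv L ≫ RHomMap m₃ L = RHomMap Tr.mor₂ L := by
    rw [← RHomMap_comp, e]
  refine h.of_iso (((RHom A).mapIso κ.symm.op).app L) (Iso.refl _) (Iso.refl _) ?_ ?_
  · change RHomMap Tr.mor₂ L ≫ 𝟙 _ = RHomMap κ.inv L ≫ RHomMap m₃ L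
    rw [hcomp, Category.comp_id]
  · change RHomMap Tr.mor₁ L ≫ 𝟙 _ = 𝟙 _ ≫ RHomMap Tr.mor₁ L
    rw [Category.comp_id, Category.id_comp]

end ring

/-! ### base change -/

section bc

variable {R R' : Type u} [CommRing R] [CommRing R'] (φ : R →+* R')
  [HasLTen R] [HasLTen R'] [HasLBase φ] [HasResTen φ] [ResLegIso φ] [HasRHom R] [HasRHom R']

omit [HasLTen R] [HasLTen R'] [HasResTen φ] [ResLegIso φ] [HasRHom R] [HasRHom R'] in
lemma isDistPair_map_LBase {X Y Z : Dual.D R} {f : X ⟶ Y} {g : Y ⟶ Z} (h : IsDistPair f g) :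
    IsDistPair ((LBase φ).map f) ((LBase φ).map g) := by
  letI := (baseAdj φ).leftAdjointCommShift ℤ
  haveI : (baseAdj φ).CommShift ℤ := (baseAdj φ).commShift_of_rightAdjoint ℤ
  haveI : (LBase φ).IsTriangulated := (baseAdj φ).isTriangulated_leftAdjoint
  obtain ⟨Tr, hTr, a, b, c, e1, e2⟩ := h
  refine ⟨(LBase φ).mapTriangle.obj Tr, (LBase φ).map_distinguished Tr hTr,
    (LBase φ).mapIso a, (LBase φ).mapIso b, (LBase φ).mapIso c, ?_, ?_⟩
  · change (LBase φ).map f ≫ (LBase φ).map b.hom = (LBase φ).map a.hom ≫ (LBase φ).map Tr.mor₁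
    rw [← Functor.map_comp, e1, Functor.map_comp]
  · change (LBase φ).map g ≫ (LBase φ).map c.hom = (LBase φ).map b.hom ≫ (LBase φ).map Tr.mor₂
    rw [← Functor.map_comp, e2, Functor.map_comp]

instance isIso_rhomBC' (K : Dual.D R) (N : Dual.D R') : IsIso (rhomBC φ K N) :=
  isIso_rhomBC φ K N

lemma core_eq (K : Dual.D R) (N : Dual.D R') :
    rhomBCCore φ K N =
      tm R (𝟙 ((DRing.restrictD φ).obj ((RHomR R' ((LBase φ).obj K)).obj N))) (un φ K) ≫
        pf φ ((RHomR R' ((LBase φ).obj K)).obj N) ((LBase φ).obj K) ≫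
        (DRing.restrictD φ).map (ev ((LBase φ).obj K) N) := rfl

@[reassoc]
lemma rhomBC_fac' (K : Dual.D R) (N : Dual.D R') :
    tm R (rhomBC φ K N) (𝟙 K) ≫ ev K ((DRing.restrictD φ).obj N) = rhomBCCore φ K N :=
  rhomBC_fac φ K N

lemma core_nat {K' K : Dual.D R} (u : K' ⟶ K) (N : Dual.D R') :
    tm R (𝟙 ((DRing.restrictD φ).obj ((RHomR R' ((LBase φ).obj K)).obj N))) u ≫
        rhomBCCore φ K N =
      tm R ((DRing.restrictD φ).map (RHomMap ((LBase φ).map u) N)) (𝟙 K') ≫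
        rhomBCCore φ K' N := by
  have hA : tm R (𝟙 ((DRing.restrictD φ).obj ((RHomR R' ((LBase φ).obj K)).obj N))) u ≫
      tm R (𝟙 ((DRing.restrictD φ).obj ((RHomR R' ((LBase φ).obj K)).obj N))) (un φ K) =
      tm R (𝟙 ((DRing.restrictD φ).obj ((RHomR R' ((LBase φ).obj K)).obj N))) (un φ K') ≫
        tm R ((DRing.restrictD φ).map (𝟙 ((RHomR R' ((LBase φ).obj K)).obj N)))
          ((DRing.restrictD φ).map ((LBase φ).map u)) := by
    rw [tm_comp, tm_comp, un_nat, CategoryTheory.Functor.map_id]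
  have hB : tm R ((DRing.restrictD φ).map (RHomMap ((LBase φ).map u) N)) (𝟙 K') ≫
      tm R (𝟙 ((DRing.restrictD φ).obj ((RHomR R' ((LBase φ).obj K')).obj N))) (un φ K') =
      tm R (𝟙 ((DRing.restrictD φ).obj ((RHomR R' ((LBase φ).obj K)).obj N))) (un φ K') ≫
        tm R ((DRing.restrictD φ).map (RHomMap ((LBase φ).map u) N))
          ((DRing.restrictD φ).map (𝟙 ((LBase φ).obj K'))) := by
    simp only [tm_comp, CategoryTheory.Functor.map_id, Category.comp_id, Category.id_comp]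
  rw [core_eq, core_eq, reassoc_of% hA, reassoc_of% hB, pf_nat_assoc, pf_nat_assoc,
    ← Functor.map_comp, ← Functor.map_comp, rhom_map_ev]

lemma rhomBC_nat {K' K : Dual.D R} (u : K' ⟶ K) (N : Dual.D R') :
    rhomBC φ K N ≫ RHomMap u ((DRing.restrictD φ).obj N) =
      (DRing.restrictD φ).map (RHomMap ((LBase φ).map u) N) ≫ rhomBC φ K' N := by
  apply (rhomHomEquiv _ _ _).symm.injective
  rw [adj_symm, adj_symm, tm_comp_left, tm_comp_left, Category.assoc, Category.assoc,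
    rhom_map_ev, rhomBC_fac', tm_exchange_assoc, rhomBC_fac']
  exact core_nat φ u N

@[reassoc]
lemma un_bcRHom (K M : Dual.D R) :
    un φ ((RHomR R K).obj M) ≫ (DRing.restrictD φ).map (bcRHom φ K M) =
      (RHomR R K).map (un φ M) ≫ inv (rhomBC φ K ((LBase φ).obj M)) :=
  bcRHom_fac φ K M

lemma bcRHom_nat {K' K : Dual.D R} (u : K' ⟶ K) (M : Dual.D R) :
    (LBase φ).map (RHomMap u M) ≫ bcRHom φ K' M =
      bcRHom φ K M ≫ RHomMap ((LBase φ).map u) ((LBase φ).obj M) := by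
  have h1 : RHomMap u ((DRing.restrictD φ).obj ((LBase φ).obj M)) ≫
      inv (rhomBC φ K' ((LBase φ).obj M)) =
      inv (rhomBC φ K ((LBase φ).obj M)) ≫
        (DRing.restrictD φ).map (RHomMap ((LBase φ).map u) ((LBase φ).obj M)) := by
    rw [IsIso.comp_inv_eq, Category.assoc, IsIso.eq_inv_comp]
    exact rhomBC_nat φ u _
  have h2 := RHomMap_naturality u (un φ M)
  apply ((baseAdj φ).homEquiv _ _).injective
  rw [he_eq, he_eq, Functor.map_comp, Functor.map_comp, un_nat_assoc, un_bcRHom,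
    un_bcRHom_assoc, ← h1, reassoc_of% h2]

/-- the key identity for the base case -/
lemma cmp_bcRHom_ev (K M : Dual.D R) :
    cmp φ ((RHomR R K).obj M) K ≫ tm R' (bcRHom φ K M) (𝟙 ((LBase φ).obj K)) ≫
        ev ((LBase φ).obj K) ((LBase φ).obj M) =
      (LBase φ).map (ev K M) := by
  apply ((baseAdj φ).homEquiv _ _).injective
  rw [he_eq, he_eq, Functor.map_comp, Functor.map_comp, un_cmp_assoc, un_nat]
  unfold cmpCore
  rw [Category.assoc, ← pf_nat_assoc, tm_comp_assoc, un_bcRHom]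
  have h3 : tm R ((RHomR R K).map (un φ M) ≫ inv (rhomBC φ K ((LBase φ).obj M)))
      (un φ K ≫ (DRing.restrictD φ).map (𝟙 ((LBase φ).obj K))) =
      tm R ((RHomR R K).map (un φ M) ≫ inv (rhomBC φ K ((LBase φ).obj M))) (𝟙 K) ≫
        tm R (𝟙 ((DRing.restrictD φ).obj ((RHomR R' ((LBase φ).obj K)).obj ((LBase φ).obj M))))
          (un φ K) := by
    rw [tm_comp, CategoryTheory.Functor.map_id, Category.comp_id, Category.comp_id,
      Category.id_comp]
  rw [h3, Category.assoc, ← core_eq, ← rhomBC_fac', tm_comp_assoc]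
  simp only [Category.assoc, IsIso.inv_hom_id, Category.comp_id]
  exact ev_nat K (un φ M)

theorem isIso_bcRHom_of_isEquivalence (K M : Dual.D R) [(tensorRightD R K).IsEquivalence]
    [(tensorRightD R' ((LBase φ).obj K)).IsEquivalence] : IsIso (bcRHom φ K M) := by
  haveI : IsIso (ev K M) := inferInstanceAs (IsIso ((rhomAdj R K).counit.app M))
  haveI : IsIso (ev ((LBase φ).obj K) ((LBase φ).obj M)) :=
    inferInstanceAs (IsIso ((rhomAdj R' ((LBase φ).obj K)).counit.app ((LBase φ).obj M)))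
  haveI : IsIso (cmp φ ((RHomR R K).obj M) K) := isIso_cmp φ _ _
  have h := cmp_bcRHom_ev φ K M
  haveI : IsIso (tm R' (bcRHom φ K M) (𝟙 ((LBase φ).obj K))) := by
    have h' : tm R' (bcRHom φ K M) (𝟙 ((LBase φ).obj K)) =
        inv (cmp φ ((RHomR R K).obj M) K) ≫ (LBase φ).map (ev K M) ≫
          inv (ev ((LBase φ).obj K) ((LBase φ).obj M)) := by
      rw [IsIso.eq_inv_comp, ← h, Category.assoc, Category.assoc, IsIso.hom_inv_id,
        Category.comp_id]
    rw [h']
    infer_instance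
  haveI : IsIso ((tensorRightD R' ((LBase φ).obj K)).map (bcRHom φ K M)) :=
    ‹IsIso (tm R' (bcRHom φ K M) (𝟙 ((LBase φ).obj K)))›
  exact isIso_of_reflects_iso (bcRHom φ K M) (tensorRightD R' ((LBase φ).obj K))

/-- extension of scalars of the unit complex -/
noncomputable def extUnitIso : (extCx φ).obj (𝟙_ (DRing.Cx R)) ≅ 𝟙_ (DRing.Cx R') :=
  (HomologicalComplex.singleMapHomologicalComplex (extM φ) (ComplexShape.up ℤ) 0).app
      (𝟙_ (ModuleCat.{u} R)) ≪≫
    (HomologicalComplex.single (ModuleCat.{u} R') (ComplexShape.up ℤ) 0).mapIso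
      (Functor.Monoidal.εIso (extM φ)).symm

/-- derived base change of a shift of the unit -/
noncomputable def LBaseUnitShiftIso (j : ℤ) : (LBase φ).obj ((unit R)⟦j⟧) ≅ (unit R')⟦j⟧ :=
  letI := (baseAdj φ).leftAdjointCommShift ℤ
  ((LBase φ).commShiftIso j).app (unit R) ≪≫
    (shiftFunctor (Dual.D R') j).mapIso
      (@asIso _ _ _ _ (bc φ (𝟙_ (DRing.Cx R))) (DTenA.isIso_baseCmp_app φ _) ≪≫
        DerivedCategory.Q.mapIso (extUnitIso φ))

instance isEquivalence_tensorRightD_LBase_unit_shift (j : ℤ) :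
    (tensorRightD R' ((LBase φ).obj ((unit R)⟦j⟧))).IsEquivalence :=
  Functor.isEquivalence_of_iso ((LTen R').flip.mapIso (LBaseUnitShiftIso φ j).symm)

/-- `K ↦ RHom_R(K, M) ⊗^L_R R'` -/
noncomputable def G₁ (M : Dual.D R) : (Dual.D R)ᵒᵖ ⥤ Dual.D R' := (RHom R).flip.obj M ⋙ LBase φ

/-- `K ↦ RHom_{R'}(K ⊗^L_R R', M ⊗^L_R R')` -/
noncomputable def G₂ (M : Dual.D R) : (Dual.D R)ᵒᵖ ⥤ Dual.D R' :=
  (LBase φ).op ⋙ (RHom R').flip.obj ((LBase φ).obj M)

instance (M : Dual.D R) : (G₁ φ M).PreservesZeroMorphisms :=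
  ⟨fun X Y => by
    change (LBase φ).map (RHomMap (0 : unop Y ⟶ unop X) M) = 0
    rw [RHomMap_zero, CategoryTheory.Functor.map_zero]⟩

instance (M : Dual.D R) : (G₂ φ M).PreservesZeroMorphisms :=
  ⟨fun X Y => by
    change RHomMap ((LBase φ).map (0 : unop Y ⟶ unop X)) ((LBase φ).obj M) = 0
    rw [CategoryTheory.Functor.map_zero, RHomMap_zero]⟩

/-- the base change map as a natural transformation in `K` -/
noncomputable def τ (M : Dual.D R) : G₁ φ M ⟶ G₂ φ M where
  app K := bcRHom φ (unop K) M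
  naturality _ _ u := bcRHom_nat φ u.unop M

lemma homExactOp_G₁ (M : Dual.D R) : HomExactOp (G₁ φ M) := by
  intro Tr hTr T y hy
  exact (isDistPair_map_LBase φ (isDistPair_RHomMap₁₂ Tr hTr M)).coyoneda_exact y hy

lemma homExactOp_G₂ (M : Dual.D R) : HomExactOp (G₂ φ M) := by
  intro Tr hTr T y hy
  letI := (baseAdj φ).leftAdjointCommShift ℤ
  haveI : (baseAdj φ).CommShift ℤ := (baseAdj φ).commShift_of_rightAdjoint ℤ
  haveI : (LBase φ).IsTriangulated := (baseAdj φ).isTriangulated_leftAdjoint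
  exact (isDistPair_RHomMap₁₂ ((LBase φ).mapTriangle.obj Tr)
    ((LBase φ).map_distinguished Tr hTr) ((LBase φ).obj M)).coyoneda_exact y hy

/-- base change for derived hom with perfect source -/
theorem isIso_bcRHom_of_isPerfect (K M : Dual.D R) (hK : DRing.IsPerfect R K) :
    IsIso (bcRHom φ K M) := by
  have h := isIso_app_of_isPerfect' (homExactOp_G₁ φ M) (homExactOp_G₂ φ M) (τ φ M)
    (fun j => by
      change IsIso (bcRHom φ ((unit R)⟦j⟧) M)
      exact isIso_bcRHom_of_isEquivalence φ _ M) K hK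
  exact h

end bc

end Groth.Agent.Lib.Helper21.RGp
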