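import Mathlib
import Groth.Agent.Lib.Helper18.DRExt2

/-!
# Lifting bounded above acyclic complexes along `R → R/I`

Given a class `Pc` of projective modules with (2) `P₁, P₁ ⊕ P₂ ∈ Pc ⇒ P₂ ∈ Pc` and (3) maps in
`Pc` surjective mod `I` are surjective, a bounded above acyclic complex of `R/I`-modules with
terms of the form `P/IP` lifts to a bounded above acyclic complex with terms in `Pc`.
-/

set_option autoImplicit false
universe u
open CategoryTheory CategoryTheory.Limits TensorProduct ChangeOfRings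

namespace Groth.Agent.Lib.Helper21.LiftCx

variable {R : Type u} [CommRing R] (I : Ideal R) (Pc : ObjectProperty (ModuleCat.{u} R))

/-- hypotheses on the class `Pc` -/
structure Hyp : Prop where
  iso : Pc.IsClosedUnderIsomorphisms
  h1 : ∀ X : ModuleCat.{u} R, Pc X → Module.Projective R X
  h2 : ∀ X Y : ModuleCat.{u} R, Pc X → Pc (ModuleCat.of R (X × Y)) → Pc Y
  h3 : ∀ (X Y : ModuleCat.{u} R) (f : X ⟶ Y), Pc X → Pc Y →
      LinearMap.range f.hom ⊔ I • (⊤ : Submodule R Y) = ⊤ → Function.Surjective f.hom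

/-- goodness of a submodule `K ≤ Y` w.r.t. a reduction map `ρ : Y → E` and the next
differential `δ : E → E'` -/
structure Good {Y E E' : Type u} [AddCommGroup Y] [Module R Y] [AddCommGroup E] [Module R E]
    [AddCommGroup E'] [Module R E'] (ρ : Y →ₗ[R] E) (δ : E →ₗ[R] E') (K : Submodule R Y) :
    Prop where
  pc : Pc (ModuleCat.of R K)
  surj : ∀ z : E, δ z = 0 → ∃ k ∈ K, ρ k = z
  cyc : ∀ k ∈ K, δ (ρ k) = 0
  sat : K ⊓ I • ⊤ ≤ I • K

section Step

variable {I Pc}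
variable {Yj Yk Ej Ek El : Type u} [AddCommGroup Yj] [Module R Yj] [AddCommGroup Yk] [Module R Yk]
  [AddCommGroup Ej] [Module R Ej] [AddCommGroup Ek] [Module R Ek] [AddCommGroup El] [Module R El]

theorem step (H : Hyp I Pc) (ρj : Yj →ₗ[R] Ej) (ρk : Yk →ₗ[R] Ek) (δj : Ej →ₗ[R] Ek)
    (δk : Ek →ₗ[R] El)
    (hρj : Function.Surjective ρj) (hkj : LinearMap.ker ρj = I • ⊤)
    (hkk : LinearMap.ker ρk = I • ⊤)
    (hδ : ∀ z, δk (δj z) = 0) (hex : ∀ z, δk z = 0 → ∃ w, δj w = z)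
    (hYj : Pc (ModuleCat.of R Yj)) (K : Submodule R Yk) (hK : Good I Pc ρk δk K) :
    ∃ d : Yj →ₗ[R] Yk, LinearMap.range d = K ∧ ρk ∘ₗ d = δj ∘ₗ ρj ∧
      Good I Pc ρj δj (LinearMap.ker d) := by
  have hprojK : Module.Projective R K := H.h1 _ hK.pc
  have hprojY : Module.Projective R Yj := H.h1 _ hYj
  let Z : Submodule R Ek := LinearMap.ker δk
  let f : K →ₗ[R] Z := (ρk ∘ₗ K.subtype).codRestrict Z (fun k => hK.cyc k.1 k.2)
  let g : Yj →ₗ[R] Z := (δj ∘ₗ ρj).codRestrict Z (fun y => hδ (ρj y))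
  have hf : Function.Surjective f := by
    rintro ⟨z, hz⟩
    obtain ⟨k, hk, hkz⟩ := hK.surj z hz
    exact ⟨⟨k, hk⟩, Subtype.ext hkz⟩
  obtain ⟨d₀, hd₀⟩ := Module.projective_lifting_property f g hf
  have hcomp : ∀ y, ρk (d₀ y : Yk) = δj (ρj y) := fun y =>
    congrArg Subtype.val (LinearMap.congr_fun hd₀ y)
  have hsup : LinearMap.range d₀ ⊔ I • (⊤ : Submodule R K) = ⊤ := by
    rw [eq_top_iff]
    rintro k -
    obtain ⟨w, hw⟩ := hex (ρk k.1) (hK.cyc k.1 k.2)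
    obtain ⟨x, rfl⟩ := hρj w
    have h1 : (k - d₀ x : K) ∈ I • (⊤ : Submodule R K) := by
      rw [Submodule.mem_smul_top_iff]
      apply hK.sat
      refine Submodule.mem_inf.2 ⟨(k - d₀ x).2, ?_⟩
      rw [← hkk, LinearMap.mem_ker]
      show ρk ((k : Yk) - (d₀ x : Yk)) = 0
      rw [map_sub, hcomp, hw, sub_self]
    have h2 : k = d₀ x + (k - d₀ x) := by abel
    rw [h2]
    exact Submodule.add_mem_sup ⟨x, rfl⟩ h1
  have hsurj : Function.Surjective d₀ :=
    H.h3 (ModuleCat.of R Yj) (ModuleCat.of R K) (ModuleCat.ofHom d₀) hYj hK.pc hsup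
  let d : Yj →ₗ[R] Yk := K.subtype ∘ₗ d₀
  have hker : LinearMap.ker d = LinearMap.ker d₀ := by
    ext x
    simp [d]
  obtain ⟨σ, hσ⟩ := Module.projective_lifting_property d₀ LinearMap.id hsurj
  have hσ' : ∀ k, d₀ (σ k) = k := fun k => LinearMap.congr_fun hσ k
  refine ⟨d, ?_, ?_, ?_⟩
  · rw [LinearMap.range_comp, LinearMap.range_eq_top.2 hsurj, Submodule.map_top,
      Submodule.range_subtype]
  · ext y
    exact hcomp y
  · rw [hker]
    refine ⟨?_, ?_, ?_, ?_⟩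
    · let fwd : (K × LinearMap.ker d₀) →ₗ[R] Yj := σ.coprod (LinearMap.ker d₀).subtype
      let bwd : Yj →ₗ[R] (K × LinearMap.ker d₀) :=
        d₀.prod ((LinearMap.id - σ ∘ₗ d₀).codRestrict (LinearMap.ker d₀) (fun x => by
          rw [LinearMap.mem_ker]
          simp [hσ']))
      have e : (K × LinearMap.ker d₀) ≃ₗ[R] Yj := LinearEquiv.ofLinearMap fwd bwd
        (by
          ext x
          simp [fwd, bwd])
        (by
          apply LinearMap.ext
          rintro ⟨k, z⟩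
          have hz : d₀ z.1 = 0 := z.2
          apply Prod.ext
          · simp [fwd, bwd, hσ', hz]
          · apply Subtype.ext
            simp [fwd, bwd, hσ', hz])
      have hprod : Pc (ModuleCat.of R (K × LinearMap.ker d₀)) := by
        have := H.iso
        exact Pc.prop_of_iso e.symm.toModuleIso hYj
      exact H.h2 (ModuleCat.of R K) (ModuleCat.of R (LinearMap.ker d₀)) hK.pc hprod
    · intro z hz
      obtain ⟨x, rfl⟩ := hρj z
      have hx : (d₀ x : Yk) ∈ I • K := by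
        apply hK.sat
        refine Submodule.mem_inf.2 ⟨(d₀ x).2, ?_⟩
        rw [← hkk, LinearMap.mem_ker, hcomp, hz]
      have hx' : d₀ x ∈ I • (⊤ : Submodule R K) := (Submodule.mem_smul_top_iff I K (d₀ x)).2 hx
      have hmap : I • (⊤ : Submodule R K) = Submodule.map d₀ (I • ⊤) := by
        rw [Submodule.map_smul'', Submodule.map_top, LinearMap.range_eq_top.2 hsurj]
      rw [hmap] at hx'
      obtain ⟨x', hx'I, hx'd⟩ := hx'
      refine ⟨x - x', ?_, ?_⟩
      · rw [LinearMap.mem_ker, map_sub, hx'd, sub_self]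
      · have h0 : ρj x' = 0 := by
          rw [← LinearMap.mem_ker, hkj]
          exact hx'I
        rw [map_sub, h0, sub_zero]
    · intro x hx
      have hx0 : d₀ x = 0 := hx
      rw [← hcomp, hx0]
      simp
    · rintro x ⟨hx1, hx2⟩
      have hx0 : d₀ x = 0 := hx1
      let π : Yj →ₗ[R] Yj := LinearMap.id - σ ∘ₗ d₀
      have hπx : π x = x := by simp [π, hx0]
      have hπr : LinearMap.range π ≤ LinearMap.ker d₀ := by
        rintro _ ⟨y, rfl⟩
        rw [LinearMap.mem_ker]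
        simp [π, hσ']
      have hmem : π x ∈ Submodule.map π (I • ⊤) := Submodule.mem_map_of_mem hx2
      rw [Submodule.map_smul'', Submodule.map_top, hπx] at hmem
      exact Submodule.smul_mono le_rfl hπr hmem

end Step

section Rec

variable {I Pc}

/-- hypotheses on the data of the recursion -/
structure Data (I : Ideal R) (Pc : ObjectProperty (ModuleCat.{u} R))
    (Y E : ℤ → ModuleCat.{u} R) (b : ℤ)
    (δ : ∀ i, E i →ₗ[R] E (i + 1)) (ρ : ∀ i, Y i →ₗ[R] E i) : Prop where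
  δδ : ∀ i z, δ (i + 1) (δ i z) = 0
  ex : ∀ i (z : E (i + 1)), δ (i + 1) z = 0 → ∃ w, δ i w = z
  ρs : ∀ i, Function.Surjective (ρ i)
  ρk : ∀ i, LinearMap.ker (ρ i) = I • ⊤
  pc : ∀ i, Pc (Y i)
  Yb : ∀ i, b < i → Subsingleton (Y i)
  Eb : ∀ i, b < i → Subsingleton (E i)

/-- the invariant of the recursion -/
structure Inv (I : Ideal R) (Pc : ObjectProperty (ModuleCat.{u} R))
    (Y E : ℤ → ModuleCat.{u} R) (b : ℤ)
    (δ : ∀ i, E i →ₗ[R] E (i + 1)) (ρ : ∀ i, Y i →ₗ[R] E i)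
    (n : ℕ) (d : ∀ i, Y i →ₗ[R] Y (i + 1)) : Prop where
  good : Good I Pc (ρ (b - n)) (δ (b - n)) (LinearMap.ker (d (b - n)))
  ex : ∀ i, b - n ≤ i → LinearMap.range (d i) = LinearMap.ker (d (i + 1))
  comm : ∀ i, b - n ≤ i → ρ (i + 1) ∘ₗ d i = δ i ∘ₗ ρ i

variable (H : Hyp I Pc) {Y E : ℤ → ModuleCat.{u} R} {b : ℤ}
  {δ : ∀ i, E i →ₗ[R] E (i + 1)} {ρ : ∀ i, Y i →ₗ[R] E i}

lemma good_top (D : Data I Pc Y E b δ ρ) (hiso : Pc.IsClosedUnderIsomorphisms) (j : ℤ)
    (hj : b ≤ j) :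
    Good I Pc (ρ j) (δ j) (LinearMap.ker (0 : Y j →ₗ[R] Y (j + 1))) := by
  have hE : Subsingleton (E (j + 1)) := D.Eb (j + 1) (by omega)
  refine ⟨?_, ?_, ?_, ?_⟩
  · have e : (LinearMap.ker (0 : Y j →ₗ[R] Y (j + 1))) ≃ₗ[R] Y j :=
      LinearEquiv.ofTop _ LinearMap.ker_zero
    exact Pc.prop_of_iso e.symm.toModuleIso (D.pc j)
  · intro z _
    obtain ⟨k, rfl⟩ := D.ρs j z
    exact ⟨k, by simp, rfl⟩
  · intro k _
    exact Subsingleton.elim _ _
  · rw [LinearMap.ker_zero]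
    exact inf_le_right

lemma inv_zero (D : Data I Pc Y E b δ ρ) (hiso : Pc.IsClosedUnderIsomorphisms) :
    Inv I Pc Y E b δ ρ 0 (fun _ => 0) where
  good := good_top D hiso _ (by simp)
  ex := fun i hi => by
    have hb : b ≤ i := by simpa using hi
    have : Subsingleton (Y (i + 1)) := D.Yb (i + 1) (by omega)
    ext x
    simp [Subsingleton.elim x 0]
  comm := fun i hi => by
    have hb : b ≤ i := by simpa using hi
    have : Subsingleton (E (i + 1)) := D.Eb (i + 1) (by omega)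
    exact LinearMap.ext fun x => Subsingleton.elim _ _

include H in
lemma inv_succ_aux (D : Data I Pc Y E b δ ρ) (n : ℕ) (d : ∀ i, Y i →ₗ[R] Y (i + 1))
    (hd : Inv I Pc Y E b δ ρ n d) (j : ℤ) (hj : j + 1 = b - n) :
    ∃ new : Y j →ₗ[R] Y (j + 1),
      Good I Pc (ρ j) (δ j) (LinearMap.ker (Function.update d j new j)) ∧
      (∀ i, j ≤ i → LinearMap.range (Function.update d j new i) =
        LinearMap.ker (Function.update d j new (i + 1))) ∧
      (∀ i, j ≤ i → ρ (i + 1) ∘ₗ Function.update d j new i = δ i ∘ₗ ρ i) := by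
  have g1 : Good I Pc (ρ (j + 1)) (δ (j + 1)) (LinearMap.ker (d (j + 1))) := by
    rw [hj]
    exact hd.good
  obtain ⟨new, hrange, hcomm, hgood⟩ := step H (ρ j) (ρ (j + 1)) (δ j) (δ (j + 1)) (D.ρs j)
    (D.ρk j) (D.ρk (j + 1)) (D.δδ j) (D.ex j) (D.pc j) (LinearMap.ker (d (j + 1))) g1
  have hne : j + 1 ≠ j := by omega
  refine ⟨new, ?_, ?_, ?_⟩
  · rw [Function.update_self]
    exact hgood
  · intro i hi
    rcases eq_or_lt_of_le hi with heq | hlt
    · subst heq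
      rw [Function.update_self, Function.update_of_ne hne]
      exact hrange
    · rw [Function.update_of_ne (ne_of_gt hlt), Function.update_of_ne (by omega)]
      exact hd.ex i (by omega)
  · intro i hi
    rcases eq_or_lt_of_le hi with heq | hlt
    · subst heq
      rw [Function.update_self]
      exact hcomm
    · rw [Function.update_of_ne (ne_of_gt hlt)]
      exact hd.comm i (by omega)

include H in
lemma inv_succ (D : Data I Pc Y E b δ ρ) (n : ℕ) (d : ∀ i, Y i →ₗ[R] Y (i + 1))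
    (hd : Inv I Pc Y E b δ ρ n d) :
    ∃ new : Y (b - ((n + 1 : ℕ) : ℤ)) →ₗ[R] Y (b - ((n + 1 : ℕ) : ℤ) + 1),
      Inv I Pc Y E b δ ρ (n + 1) (Function.update d (b - ((n + 1 : ℕ) : ℤ)) new) := by
  obtain ⟨new, h1, h2, h3⟩ := inv_succ_aux H D n d hd (b - ((n + 1 : ℕ) : ℤ))
    (by push_cast; ring)
  exact ⟨new, ⟨h1, h2, h3⟩⟩

/-- the sequence of partial solutions -/
noncomputable def seq (D : Data I Pc Y E b δ ρ) :
    (n : ℕ) → {d : ∀ i, Y i →ₗ[R] Y (i + 1) // Inv I Pc Y E b δ ρ n d}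
  | 0 => ⟨fun _ => 0, inv_zero D H.iso⟩
  | n + 1 => ⟨Function.update (seq D n).1 (b - ((n + 1 : ℕ) : ℤ))
      (Classical.choose (inv_succ H D n _ (seq D n).2)),
      Classical.choose_spec (inv_succ H D n _ (seq D n).2)⟩

lemma seq_succ_apply_of_ne (D : Data I Pc Y E b δ ρ) (n : ℕ) (i : ℤ)
    (hne : i ≠ b - ((n + 1 : ℕ) : ℤ)) : (seq H D (n + 1)).1 i = (seq H D n).1 i := by
  show Function.update (seq H D n).1 (b - ((n + 1 : ℕ) : ℤ)) _ i = _
  exact Function.update_of_ne hne _ _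

lemma seq_stable (D : Data I Pc Y E b δ ρ) (n m : ℕ) (h : n ≤ m) (i : ℤ) (hi : b - n ≤ i) :
    (seq H D m).1 i = (seq H D n).1 i := by
  induction m, h using Nat.le_induction with
  | base => rfl
  | succ m hm ih =>
    rw [← ih]
    exact seq_succ_apply_of_ne H D m i (by push_cast; omega)

include H in
theorem exists_d (D : Data I Pc Y E b δ ρ) :
    ∃ d : ∀ i, Y i →ₗ[R] Y (i + 1),
      (∀ i, LinearMap.range (d i) = LinearMap.ker (d (i + 1))) ∧
      (∀ i, ρ (i + 1) ∘ₗ d i = δ i ∘ₗ ρ i) := by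
  have key : ∀ i : ℤ, LinearMap.range ((seq H D (b - i).toNat).1 i) =
        LinearMap.ker ((seq H D (b - (i + 1)).toNat).1 (i + 1)) ∧
      ρ (i + 1) ∘ₗ (seq H D (b - i).toNat).1 i = δ i ∘ₗ ρ i := by
    intro i
    have hN : b - ((b - i).toNat : ℤ) ≤ i := by
      have := Int.self_le_toNat (b - i)
      omega
    have hN' : b - ((b - (i + 1)).toNat : ℤ) ≤ i + 1 := by
      have := Int.self_le_toNat (b - (i + 1))
      omega
    have hle : (b - (i + 1)).toNat ≤ (b - i).toNat := Int.toNat_le_toNat (by omega)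
    have hs := seq_stable H D _ _ hle (i + 1) hN'
    refine ⟨?_, (seq H D (b - i).toNat).2.comm i hN⟩
    rw [← hs]
    exact (seq H D (b - i).toNat).2.ex i hN
  exact ⟨fun i => (seq H D (b - i).toNat).1 i, fun i => (key i).1, fun i => (key i).2⟩

end Rec

section Red

/-- the reduction map `x ↦ θ (1 ⊗ x)` -/
noncomputable def red (X : ModuleCat.{u} R) (Z : ModuleCat.{u} (R ⧸ I))
    (θ : TensorProduct R (R ⧸ I) X ≃ₗ[R ⧸ I] Z) :
    X →ₗ[R] ((ModuleCat.restrictScalars.{u} (Ideal.Quotient.mk I)).obj Z) where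
  toFun x := θ ((1 : R ⧸ I) ⊗ₜ[R] (x : X))
  map_add' x y := by
    rw [TensorProduct.tmul_add, map_add]
    rfl
  map_smul' r x := by
    have h1 : (1 : R ⧸ I) ⊗ₜ[R] (r • (x : X)) =
        (Ideal.Quotient.mk I r) • ((1 : R ⧸ I) ⊗ₜ[R] (x : X)) := by
      rw [TensorProduct.tmul_smul, ← algebraMap_smul (R ⧸ I) r ((1 : R ⧸ I) ⊗ₜ[R] (x : X))]
      rfl
    rw [h1, map_smul]
    rfl

lemma red_apply (X : ModuleCat.{u} R) (Z : ModuleCat.{u} (R ⧸ I))
    (θ : TensorProduct R (R ⧸ I) X ≃ₗ[R ⧸ I] Z) (x : X) :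
    red I X Z θ x = θ ((1 : R ⧸ I) ⊗ₜ[R] (x : X)) := rfl

lemma red_surjective (X : ModuleCat.{u} R) (Z : ModuleCat.{u} (R ⧸ I))
    (θ : TensorProduct R (R ⧸ I) X ≃ₗ[R ⧸ I] Z) : Function.Surjective (red I X Z θ) := by
  intro z
  obtain ⟨x, hx⟩ := Submodule.Quotient.mk_surjective _
    (TensorProduct.quotTensorEquivQuotSMul X I (θ.symm (show Z from z)))
  refine ⟨x, ?_⟩
  have h : (1 : R ⧸ I) ⊗ₜ[R] (x : X) = θ.symm (show Z from z) := by
    apply (TensorProduct.quotTensorEquivQuotSMul X I).injective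
    rw [TensorProduct.quotTensorEquivQuotSMul_mk_one_tmul, hx]
  rw [red_apply, h, LinearEquiv.apply_symm_apply]

lemma red_ker (X : ModuleCat.{u} R) (Z : ModuleCat.{u} (R ⧸ I))
    (θ : TensorProduct R (R ⧸ I) X ≃ₗ[R ⧸ I] Z) : LinearMap.ker (red I X Z θ) = I • ⊤ := by
  ext x
  rw [LinearMap.mem_ker, red_apply]
  show θ ((1 : R ⧸ I) ⊗ₜ[R] (x : X)) = 0 ↔ _
  rw [LinearEquiv.map_eq_zero_iff, ← (TensorProduct.quotTensorEquivQuotSMul X I).map_eq_zero_iff,
    TensorProduct.quotTensorEquivQuotSMul_mk_one_tmul, Submodule.Quotient.mk_eq_zero]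

/-- the isomorphism `R/I ⊗ X ≅ Z` in `ModuleCat (R/I)` attached to `θ` -/
noncomputable def Θ (X : ModuleCat.{u} R) (Z : ModuleCat.{u} (R ⧸ I))
    (θ : TensorProduct R (R ⧸ I) X ≃ₗ[R ⧸ I] Z) :
    (ModuleCat.extendScalars.{u, u, u} (Ideal.Quotient.mk I)).obj X ≅ Z :=
  ((Groth.Agent.Lib.Helper18.DR.extMEquiv (A := R) (B := R ⧸ I) X).trans θ).toModuleIso

lemma Θ_hom_apply (X : ModuleCat.{u} R) (Z : ModuleCat.{u} (R ⧸ I))
    (θ : TensorProduct R (R ⧸ I) X ≃ₗ[R ⧸ I] Z) (x : X) :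
    (Θ I X Z θ).hom ((1 : R ⧸ I) ⊗ₜ[R, Ideal.Quotient.mk I] x) = θ ((1 : R ⧸ I) ⊗ₜ[R] (x : X)) :=
  rfl

lemma comm_sq {X X' : ModuleCat.{u} R} {Z Z' : ModuleCat.{u} (R ⧸ I)}
    (θ : TensorProduct R (R ⧸ I) X ≃ₗ[R ⧸ I] Z) (θ' : TensorProduct R (R ⧸ I) X' ≃ₗ[R ⧸ I] Z')
    (d : X ⟶ X') (e : Z ⟶ Z')
    (h : ∀ m : X, θ' ((1 : R ⧸ I) ⊗ₜ[R] (d m : X')) = e (θ ((1 : R ⧸ I) ⊗ₜ[R] (m : X)))) :
    (Θ I X Z θ).hom ≫ e =
      (ModuleCat.extendScalars.{u, u, u} (Ideal.Quotient.mk I)).map d ≫ (Θ I X' Z' θ').hom := by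
  apply ModuleCat.ExtendScalars.hom_ext
  intro m
  exact (h m).symm

end Red

lemma subsingleton_tensor_right (M N : Type u) [AddCommGroup M] [Module R M] [AddCommGroup N]
    [Module R N] [Subsingleton N] : Subsingleton (M ⊗[R] N) :=
  ⟨fun x y => by
    have h : ∀ z : M ⊗[R] N, z = 0 := fun z => by
      induction z using TensorProduct.induction_on with
      | zero => rfl
      | tmul m n => rw [Subsingleton.elim n 0, TensorProduct.tmul_zero]
      | add a b ha hb => rw [ha, hb, add_zero]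
    rw [h x, h y]⟩

theorem main (R : Type u) [CommRing R] (I : Ideal R)
    (Pc : ObjectProperty (ModuleCat.{u} R)) [Pc.IsClosedUnderIsomorphisms]
    (h1 : ∀ X : ModuleCat.{u} R, Pc X → Module.Projective R X)
    (h2 : ∀ X Y : ModuleCat.{u} R, Pc X → Pc (ModuleCat.of R (X × Y)) → Pc Y)
    (h3 : ∀ (X Y : ModuleCat.{u} R) (f : X ⟶ Y), Pc X → Pc Y →
      LinearMap.range f.hom ⊔ I • (⊤ : Submodule R Y) = ⊤ → Function.Surjective f.hom)
    (E : CochainComplex (ModuleCat.{u} (R ⧸ I)) ℤ) (b : ℤ)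
    (hEb : ∀ i : ℤ, b < i → IsZero (E.X i)) (hEa : E.Acyclic)
    (hEt : ∀ i : ℤ, ∃ X : ModuleCat.{u} R, Pc X ∧
      Nonempty (TensorProduct R (R ⧸ I) X ≃ₗ[R ⧸ I] E.X i)) :
    ∃ (P : CochainComplex (ModuleCat.{u} R) ℤ), (∀ i : ℤ, b < i → IsZero (P.X i)) ∧ P.Acyclic ∧
      (∀ i : ℤ, Pc (P.X i)) ∧
      Nonempty ((((ModuleCat.extendScalars (Ideal.Quotient.mk I)).mapHomologicalComplex
        (ComplexShape.up ℤ)).obj P) ≅ E) := by
  classical
  have H : Hyp I Pc := ⟨inferInstance, h1, h2, h3⟩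
  obtain ⟨X₀, hX₀, -⟩ := hEt 0
  have hzero : Pc (ModuleCat.of R PUnit.{u + 1}) := by
    apply h2 X₀ (ModuleCat.of R PUnit.{u + 1}) hX₀
    exact Pc.prop_of_iso
      (LinearEquiv.prodUnique (R := R) (M := X₀) (M₂ := PUnit.{u + 1})).symm.toModuleIso hX₀
  have key : ∀ i : ℤ, ∃ (Yi : ModuleCat.{u} R)
      (_ : TensorProduct R (R ⧸ I) Yi ≃ₗ[R ⧸ I] E.X i), Pc Yi ∧ (b < i → Subsingleton Yi) := by
    intro i
    by_cases hi : b < i
    · have hz : Subsingleton (E.X i) := ModuleCat.subsingleton_of_isZero (hEb i hi)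
      have hs : Subsingleton (TensorProduct R (R ⧸ I) (ModuleCat.of R PUnit.{u + 1})) :=
        subsingleton_tensor_right _ _
      exact ⟨ModuleCat.of R PUnit.{u + 1}, LinearEquiv.ofSubsingleton _ _, hzero,
        fun _ => inferInstance⟩
    · obtain ⟨X, hX, ⟨θ⟩⟩ := hEt i
      exact ⟨X, θ, hX, fun h => absurd h hi⟩
  choose Y θ hYpc hYb using key
  let G := ModuleCat.restrictScalars.{u} (Ideal.Quotient.mk I)
  let E' : ℤ → ModuleCat.{u} R := fun i => G.obj (E.X i)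
  let δ : ∀ i, E' i →ₗ[R] E' (i + 1) := fun i => (G.map (E.d i (i + 1))).hom
  let ρ : ∀ i, Y i →ₗ[R] E' i := fun i => red I (Y i) (E.X i) (θ i)
  have D : Data I Pc Y E' b δ ρ :=
    { δδ := fun i z => by
        have h := congrArg (fun φ => φ.hom (show E.X i from z)) (E.d_comp_d i (i + 1) (i + 1 + 1))
        exact h
      ex := fun i z hz => by
        have h := (E.exactAt_iff' i (i + 1) (i + 1 + 1) (by simp) (by simp)).1 (hEa (i + 1))
        rw [ShortComplex.moduleCat_exact_iff] at h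
        exact h z hz
      ρs := fun i => red_surjective I (Y i) (E.X i) (θ i)
      ρk := fun i => red_ker I (Y i) (E.X i) (θ i)
      pc := hYpc
      Yb := hYb
      Eb := fun i hi => show Subsingleton (E.X i) from ModuleCat.subsingleton_of_isZero (hEb i hi) }
  obtain ⟨d, hd1, hd2⟩ := exists_d H D
  have sq : ∀ n, ModuleCat.ofHom (d n) ≫ ModuleCat.ofHom (d (n + 1)) = 0 := by
    intro n
    rw [← ModuleCat.ofHom_comp]
    apply ModuleCat.hom_ext
    apply LinearMap.ext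
    intro x
    have hx : d n x ∈ LinearMap.ker (d (n + 1)) := by
      rw [← hd1 n]
      exact ⟨x, rfl⟩
    exact hx
  let P : CochainComplex (ModuleCat.{u} R) ℤ :=
    CochainComplex.of Y (fun i => ModuleCat.ofHom (d i)) sq
  have hPd : ∀ i, P.d i (i + 1) = ModuleCat.ofHom (d i) := fun i =>
    CochainComplex.of_d Y (fun i => ModuleCat.ofHom (d i)) i
  refine ⟨P, ?_, ?_, ?_, ⟨?_⟩⟩
  · intro i hi
    have := hYb i hi
    exact ModuleCat.isZero_of_subsingleton (Y i)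
  · intro i
    obtain ⟨j, rfl⟩ : ∃ j, i = j + 1 := ⟨i - 1, by ring⟩
    rw [P.exactAt_iff' j (j + 1) (j + 1 + 1) (by simp) (by simp), ShortComplex.moduleCat_exact_iff]
    intro x hx
    have hx' : (P.d (j + 1) (j + 1 + 1)).hom x = 0 := hx
    rw [hPd] at hx'
    have hmem : x ∈ LinearMap.range (d j) := by
      rw [hd1 j]
      exact hx'
    obtain ⟨w, hw⟩ := hmem
    refine ⟨w, ?_⟩
    show (P.d j (j + 1)).hom w = x
    rw [hPd]
    exact hw
  · intro i
    exact hYpc i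
  · refine HomologicalComplex.Hom.isoOfComponents (fun i => Θ I (Y i) (E.X i) (θ i)) ?_
    rintro i j (rfl : i + 1 = j)
    have h := comm_sq I (θ i) (θ (i + 1)) (ModuleCat.ofHom (d i)) (E.d i (i + 1)) (fun m => by
      have := LinearMap.congr_fun (hd2 i) m
      exact this)
    have hd' : (((ModuleCat.extendScalars (Ideal.Quotient.mk I)).mapHomologicalComplex
        (ComplexShape.up ℤ)).obj P).d i (i + 1) =
        (ModuleCat.extendScalars (Ideal.Quotient.mk I)).map (ModuleCat.ofHom (d i)) := by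
      rw [Functor.mapHomologicalComplex_obj_d, hPd]
    exact h.trans (congrArg
      (fun φ => φ ≫ (Θ I (Y (i + 1)) (E.X (i + 1)) (θ (i + 1))).hom) hd'.symm)

end Groth.Agent.Lib.Helper21.LiftCx
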