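import Mathlib
import Groth.Agent.Lib.Helper21.LiftCx
import Groth.Agent.Lib.Helper18.DRLBC

/-!
# Lifting a complex along `R → R/I` inside a given class in `D(R)`

Given a bounded above complex `Q` with terms in `Pc` and a bounded above complex `E` of
`R/I`-modules with terms of the form `P/IP`, `P ∈ Pc`, isomorphic to `Q ⊗^L R/I` in `D(R/I)`, there
is a bounded above complex `P` with terms in `Pc`, isomorphic to `Q` in `D(R)`, whose reduction is
isomorphic to `E` as a complex.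
-/

set_option autoImplicit false
universe u
open CategoryTheory CategoryTheory.Limits CategoryTheory.Pretriangulated TensorProduct
  ChangeOfRings

attribute [local instance] HasDerivedCategory.standard

namespace Groth.Agent.Lib.Helper21.LiftCx2

open Groth.Agent.Lib.Helper21.LiftCx Groth.Agent.Lib.Helper18.DR

variable {R : Type u} [CommRing R] (I : Ideal R)

/-- extension of scalars along `R → R/I` -/
noncomputable abbrev F : ModuleCat.{u} R ⥤ ModuleCat.{u} (R ⧸ I) :=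
  ModuleCat.extendScalars.{u, u, u} (Ideal.Quotient.mk I)

/-- termwise extension of scalars -/
noncomputable abbrev FF : DRing.Cx R ⥤ DRing.Cx (R ⧸ I) :=
  (F I).mapHomologicalComplex (ComplexShape.up ℤ)

/-- the unit `X → R/I ⊗ X` -/
noncomputable def η (X : ModuleCat.{u} R) :
    X →ₗ[R] ((ModuleCat.restrictScalars.{u} (Ideal.Quotient.mk I)).obj ((F I).obj X)) :=
  red I X ((F I).obj X) (extMEquiv (A := R) (B := R ⧸ I) X).symm

lemma η_apply (X : ModuleCat.{u} R) (x : X) :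
    (η I X x : (F I).obj X) = (1 : R ⧸ I) ⊗ₜ[R, Ideal.Quotient.mk I] x := by
  have h : (extMEquiv (A := R) (B := R ⧸ I) X).symm ((1 : R ⧸ I) ⊗ₜ[R] (x : X)) =
      (1 : R ⧸ I) ⊗ₜ[R, Ideal.Quotient.mk I] x :=
    (LinearEquiv.symm_apply_eq _).2 rfl
  exact h

lemma η_surjective (X : ModuleCat.{u} R) : Function.Surjective (η I X) :=
  red_surjective I X ((F I).obj X) (extMEquiv (A := R) (B := R ⧸ I) X).symm

lemma η_ker (X : ModuleCat.{u} R) : LinearMap.ker (η I X) = I • ⊤ :=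
  red_ker I X ((F I).obj X) (extMEquiv (A := R) (B := R ⧸ I) X).symm

lemma exists_lift (X Y : ModuleCat.{u} R) [Module.Projective R X]
    (gb : (F I).obj X ⟶ (F I).obj Y) : ∃ g : X ⟶ Y, (F I).map g = gb := by
  obtain ⟨g₀, hg₀⟩ := Module.projective_lifting_property (η I Y)
    (((ModuleCat.restrictScalars.{u} (Ideal.Quotient.mk I)).map gb).hom ∘ₗ η I X)
    (η_surjective I Y)
  refine ⟨ModuleCat.ofHom g₀, ?_⟩
  apply ModuleCat.ExtendScalars.hom_ext
  intro m
  have h : (η I Y (g₀ m) : (F I).obj Y) = gb.hom (η I X m) := LinearMap.congr_fun hg₀ m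
  have h1 : (η I Y (g₀ m) : (F I).obj Y) =
      (1 : R ⧸ I) ⊗ₜ[R, Ideal.Quotient.mk I] (g₀ m) := η_apply I Y (g₀ m)
  have h2 : (η I X m : (F I).obj X) = (1 : R ⧸ I) ⊗ₜ[R, Ideal.Quotient.mk I] m :=
    η_apply I X m
  show ((F I).map (ModuleCat.ofHom g₀)).hom ((1 : R ⧸ I) ⊗ₜ[R, Ideal.Quotient.mk I] m) =
    gb.hom ((1 : R ⧸ I) ⊗ₜ[R, Ideal.Quotient.mk I] m)
  exact (h1.symm.trans h).trans (congrArg gb.hom h2)

lemma range_sup_of_map_surjective (X Y : ModuleCat.{u} R) (f : X ⟶ Y)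
    (fb : (F I).obj X ⟶ (F I).obj Y) (hfb : (F I).map f = fb)
    (hs : Function.Surjective fb.hom) :
    LinearMap.range f.hom ⊔ I • (⊤ : Submodule R Y) = ⊤ := by
  subst hfb
  rw [eq_top_iff]
  rintro y -
  obtain ⟨z, hz⟩ := hs (η I Y y)
  obtain ⟨x, hx⟩ := η_surjective I X z
  have e0 : ((F I).map f).hom ((1 : R ⧸ I) ⊗ₜ[R, Ideal.Quotient.mk I] x) =
      (1 : R ⧸ I) ⊗ₜ[R, Ideal.Quotient.mk I] (f.hom x) := rfl
  have e1 : (η I Y (f.hom x) : (F I).obj Y) = ((F I).map f).hom (η I X x) :=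
    ((η_apply I Y (f.hom x)).trans e0.symm).trans
      (congrArg ((F I).map f).hom (η_apply I X x)).symm
  have e2 : (y - f.hom x : Y) ∈ I • (⊤ : Submodule R Y) := by
    rw [← η_ker I Y, LinearMap.mem_ker, map_sub, sub_eq_zero]
    exact (hz.symm.trans (congrArg ((F I).map f).hom hx.symm)).trans e1.symm
  have e3 : y = f.hom x + (y - f.hom x) := by abel
  rw [e3]
  exact Submodule.add_mem_sup ⟨x, rfl⟩ e2

/-! ## derived category facts -/

lemma isZero_toD_of_acyclic {A : Type u} [CommRing A] (K : DRing.Cx A) (h : K.Acyclic) :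
    IsZero (DRing.toD K) := by
  rw [IsZero.iff_id_eq_zero]
  have : IsIso (0 : DRing.toD K ⟶ DRing.toD K) := by
    rw [DerivedCategory.isIso_iff]
    intro n
    have hz : IsZero ((DerivedCategory.homologyFunctor (ModuleCat.{u} A) n).obj (DRing.toD K)) :=
      ((DerivedCategory.homologyFunctorFactors (ModuleCat.{u} A) n).app K).isZero_iff.2
        ((HomologicalComplex.exactAt_iff_isZero_homology K n).1 (h n))
    exact ⟨⟨0, hz.eq_of_src _ _, hz.eq_of_src _ _⟩⟩
  rw [← IsIso.hom_inv_id (0 : DRing.toD K ⟶ DRing.toD K), zero_comp]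

lemma acyclic_of_isZero_toD {A : Type u} [CommRing A] (K : DRing.Cx A)
    (h : IsZero (DRing.toD K)) : K.Acyclic := by
  intro n
  rw [HomologicalComplex.exactAt_iff_isZero_homology]
  have hz : IsZero ((DerivedCategory.homologyFunctor (ModuleCat.{u} A) n).obj (DRing.toD K)) :=
    (DerivedCategory.homologyFunctor (ModuleCat.{u} A) n).map_isZero h
  exact ((DerivedCategory.homologyFunctorFactors (ModuleCat.{u} A) n).app K).isZero_iff.1 hz

lemma acyclic_cone {A : Type u} [CommRing A] {K L : DRing.Cx A} (a : K ⟶ L)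
    (ha : IsIso (DerivedCategory.Q.map a)) : (CochainComplex.mappingCone a).Acyclic := by
  apply acyclic_of_isZero_toD
  have hT := DerivedCategory.mappingCone_triangle_distinguished a
  exact (Triangle.isZero₃_iff_isIso₁ _ hT).2 ha

lemma toD_iso_of_ses {A : Type u} [CommRing A] (S : ShortComplex (DRing.Cx A))
    (hS : S.ShortExact) (h2 : S.X₂.Acyclic) :
    Nonempty (DRing.toD S.X₃ ≅
      (CategoryTheory.shiftFunctor (Dual.D A) (1 : ℤ)).obj (DRing.toD S.X₁)) := by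
  have hT := DerivedCategory.triangleOfSES_distinguished hS
  have hz : IsZero (DerivedCategory.triangleOfSES hS).obj₂ := isZero_toD_of_acyclic S.X₂ h2
  have hiso : IsIso (DerivedCategory.triangleOfSES hS).mor₃ :=
    (Triangle.isZero₂_iff_isIso₃ _ hT).1 hz
  exact ⟨@asIso _ _ _ _ (DerivedCategory.triangleOfSES hS).mor₃ hiso⟩

/-! ## the chain map `F_* Q ⟶ E` -/

lemma exists_a [DRing.HasLBaseChange (Ideal.Quotient.mk I)] (Q : DRing.Cx R) (c : ℤ)
    (hQc : DRing.VanishesAbove Q c) (hQp : ∀ i, Module.Projective R (Q.X i))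
    (E : DRing.Cx (R ⧸ I))
    (eE : DRing.toD E ≅ (DRing.LBaseChange (Ideal.Quotient.mk I)).obj (DRing.toD Q)) :
    ∃ a : (FF I).obj Q ⟶ E, IsIso (DerivedCategory.Q.map a) := by
  have : Q.IsKProjective := isKProjective_of_vanishesAbove Q c hQc hQp
  have : ((FF I).obj Q).IsKProjective := isKProjective_of_vanishesAbove _ c
    (vanishesAbove_mapHC (F I) Q c hQc) (fun i => by
      have := hQp i
      exact projective_extM (A := R) (B := R ⧸ I) (Q.X i))
  obtain ⟨a, ha⟩ := exists_map_eq ((FF I).obj Q) E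
    ((LBaseChangeIso (Ideal.Quotient.mk I) Q).symm ≪≫ eE.symm).hom
  refine ⟨a, ?_⟩
  rw [ha]
  infer_instance

lemma cone_terms (Pc : ObjectProperty (ModuleCat.{u} R))
    (h2' : ∀ X Y : ModuleCat.{u} R, Pc X → Pc Y → Pc (ModuleCat.of R (X × Y)))
    (Q : DRing.Cx R) (hQ : ∀ i : ℤ, Pc (Q.X i)) (E : DRing.Cx (R ⧸ I))
    (hEt : ∀ i : ℤ, ∃ X : ModuleCat.{u} R, Pc X ∧
      Nonempty (TensorProduct R (R ⧸ I) X ≃ₗ[R ⧸ I] E.X i))
    (a : (FF I).obj Q ⟶ E) (i : ℤ) :
    ∃ X : ModuleCat.{u} R, Pc X ∧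
      Nonempty (TensorProduct R (R ⧸ I) X ≃ₗ[R ⧸ I] (CochainComplex.mappingCone a).X i) := by
  obtain ⟨Xi, hXi, ⟨θi⟩⟩ := hEt i
  refine ⟨ModuleCat.of R (Q.X (i + 1) × Xi), h2' _ _ (hQ (i + 1)) hXi, ⟨?_⟩⟩
  let e1 : TensorProduct R (R ⧸ I) (Q.X (i + 1) × Xi) ≃ₗ[R ⧸ I]
      (TensorProduct R (R ⧸ I) (Q.X (i + 1)) × TensorProduct R (R ⧸ I) Xi) :=
    TensorProduct.prodRight R (R ⧸ I) (R ⧸ I) (Q.X (i + 1)) Xi
  let e2 : (TensorProduct R (R ⧸ I) (Q.X (i + 1)) × TensorProduct R (R ⧸ I) Xi) ≃ₗ[R ⧸ I]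
      (((FF I).obj Q).X (i + 1) × E.X i) :=
    LinearEquiv.prodCongr (extMEquiv (A := R) (B := R ⧸ I) (Q.X (i + 1))).symm θi
  let e3 : (((FF I).obj Q).X (i + 1) × E.X i) ≃ₗ[R ⧸ I]
      ↑(((FF I).obj Q).X (i + 1) ⊞ E.X i : ModuleCat.{u} (R ⧸ I)) :=
    (ModuleCat.biprodIsoProd (((FF I).obj Q).X (i + 1)) (E.X i)).symm.toLinearEquiv
  let e4 : ↑(((FF I).obj Q).X (i + 1) ⊞ E.X i : ModuleCat.{u} (R ⧸ I)) ≃ₗ[R ⧸ I]
      (CochainComplex.mappingCone a).X i :=
    (HomologicalComplex.homotopyCofiber.XIsoBiprod a i (i + 1) rfl).symm.toLinearEquiv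
  exact ((e1.trans e2).trans e3).trans e4

/-! ## the kernel of a degreewise split epimorphism and its reduction -/

lemma kernel_part (S : ShortComplex (DRing.Cx R)) (hS : S.ShortExact)
    (hproj3 : ∀ i, Module.Projective R (S.X₃.X i))
    (S' : ShortComplex (DRing.Cx (R ⧸ I))) (hS' : S'.ShortExact)
    (Φ : (FF I).obj S.X₂ ≅ S'.X₂) (cs : (FF I).obj S.X₃ ≅ S'.X₃)
    (comm : (FF I).map S.g ≫ cs.hom = Φ.hom ≫ S'.g) :
    (∀ i, Nonempty (S.X₂.X i ≅ (S.X₃.X i ⊞ S.X₁.X i : ModuleCat.{u} R))) ∧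
      Nonempty ((FF I).obj S.X₁ ≅ S'.X₁) := by
  have hSi : ∀ i, (S.map (HomologicalComplex.eval (ModuleCat.{u} R)
      (ComplexShape.up ℤ) i)).ShortExact := fun i =>
    (HomologicalComplex.shortExact_iff_degreewise_shortExact S).1 hS i
  have hσ : ∀ i, Nonempty (S.map (HomologicalComplex.eval (ModuleCat.{u} R)
      (ComplexShape.up ℤ) i)).Splitting := fun i => by
    have : Projective (S.map (HomologicalComplex.eval (ModuleCat.{u} R)
        (ComplexShape.up ℤ) i)).X₃ := by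
      have := hproj3 i
      exact (IsProjective.iff_projective (R := R) (P := S.X₃.X i)).mp this
    exact ⟨(hSi i).splittingOfProjective⟩
  refine ⟨fun i => ?_, ?_⟩
  · obtain ⟨σ⟩ := hσ i
    exact ⟨σ.isoBinaryBiproduct ≪≫ biprod.braiding _ _⟩
  · have hFS : (S.map (FF I)).ShortExact := by
      apply HomologicalComplex.shortExact_of_degreewise_shortExact
      intro i
      obtain ⟨σ⟩ := hσ i
      exact (σ.map (F I)).shortExact
    have : Mono S'.f := hS'.mono_f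
    have : Mono (S.map (FF I)).f := hFS.mono_f
    have : Mono ((FF I).map S.f) := hFS.mono_f
    have z1 : ((FF I).map S.f ≫ Φ.hom) ≫ S'.g = 0 := by
      rw [Category.assoc, ← comm, ← Category.assoc, ← Functor.map_comp, S.zero,
        Functor.map_zero, zero_comp]
    have z2' : (S'.f ≫ Φ.inv) ≫ (FF I).map S.g = 0 := by
      have e : (FF I).map S.g = Φ.hom ≫ S'.g ≫ cs.inv := by
        rw [← Category.assoc, ← comm, Category.assoc, Iso.hom_inv_id, Category.comp_id]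
      rw [e, Category.assoc, Iso.inv_hom_id_assoc, ← Category.assoc, S'.zero, zero_comp]
    have z2 : (S'.f ≫ Φ.inv) ≫ (S.map (FF I)).g = 0 := z2'
    obtain ⟨Ψ, hΨ⟩ : ∃ Ψ : (FF I).obj S.X₁ ⟶ S'.X₁, Ψ ≫ S'.f = (FF I).map S.f ≫ Φ.hom :=
      ⟨_, hS'.exact.lift_f _ z1⟩
    obtain ⟨Ψ', hΨ'⟩ : ∃ Ψ' : S'.X₁ ⟶ (FF I).obj S.X₁,
        Ψ' ≫ (FF I).map S.f = S'.f ≫ Φ.inv :=
      ⟨_, hFS.exact.lift_f _ z2⟩
    refine ⟨⟨Ψ, Ψ', ?_, ?_⟩⟩
    · rw [← cancel_mono ((FF I).map S.f), Category.assoc, hΨ', ← Category.assoc, hΨ,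
        Category.assoc, Iso.hom_inv_id, Category.comp_id, Category.id_comp]
    · rw [← cancel_mono S'.f, Category.assoc, hΨ, ← Category.assoc, hΨ', Category.assoc,
        Iso.inv_hom_id, Category.comp_id, Category.id_comp]

/-! ## the main construction -/

theorem body (Pc : ObjectProperty (ModuleCat.{u} R)) [Pc.IsClosedUnderIsomorphisms]
    (h1 : ∀ X : ModuleCat.{u} R, Pc X → Module.Projective R X)
    (h2 : ∀ X Y : ModuleCat.{u} R, Pc X → (Pc (ModuleCat.of R (X × Y)) ↔ Pc Y))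
    (h3 : ∀ (X Y : ModuleCat.{u} R) (f : X ⟶ Y), Pc X → Pc Y →
      LinearMap.range f.hom ⊔ I • (⊤ : Submodule R Y) = ⊤ → Function.Surjective f.hom)
    (Ct T : DRing.Cx R) (b : ℤ) (hCtb : DRing.VanishesAbove Ct b) (hCta : Ct.Acyclic)
    (hCtpc : ∀ i, Pc (Ct.X i)) (hT : ∀ i, Pc (T.X i))
    (S' : ShortComplex (DRing.Cx (R ⧸ I))) (hS' : S'.ShortExact)
    (hS'epi : ∀ i, Epi (S'.g.f i))
    (Φ : (FF I).obj Ct ≅ S'.X₂) (cs : (FF I).obj T ≅ S'.X₃) :
    ∃ P : DRing.Cx R, DRing.VanishesAbove P b ∧ (∀ i, Pc (P.X i)) ∧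
      Nonempty (DRing.toD T ≅
        (CategoryTheory.shiftFunctor (Dual.D R) (1 : ℤ)).obj (DRing.toD P)) ∧
      Nonempty ((FF I).obj P ≅ S'.X₁) := by
  classical
  have hproj : ∀ i, Module.Projective R (Ct.X i) := fun i => h1 _ (hCtpc i)
  have : Ct.IsKProjective := isKProjective_of_vanishesAbove Ct b hCtb hproj
  obtain ⟨h⟩ := CochainComplex.IsKProjective.nonempty_homotopy_zero (𝟙 Ct) hCta
  have hid : 𝟙 Ct = Homotopy.nullHomotopicMap h.hom := by
    refine HomologicalComplex.hom_ext _ _ (fun i => ?_)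
    have h1' := h.comm i
    rw [HomologicalComplex.zero_f, add_zero] at h1'
    exact h1'
  obtain ⟨φb, hφb⟩ : ∃ φb : (FF I).obj Ct ⟶ (FF I).obj T, φb = Φ.hom ≫ S'.g ≫ cs.inv :=
    ⟨_, rfl⟩
  have hlift : ∀ i j : ℤ, ∃ g : Ct.X i ⟶ T.X j,
      (F I).map g = (F I).map (h.hom i j) ≫ φb.f j := by
    intro i j
    have := hproj i
    exact exists_lift I (Ct.X i) (T.X j) _
  choose g hg using hlift
  obtain ⟨φ, hφdef⟩ : ∃ φ : Ct ⟶ T, φ = Homotopy.nullHomotopicMap g := ⟨_, rfl⟩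
  have hφ : (FF I).map φ = φb := by
    rw [hφdef]
    have e1 : (FF I).map (Homotopy.nullHomotopicMap g) =
        Homotopy.nullHomotopicMap (fun i j => (F I).map (g i j)) :=
      Homotopy.map_nullHomotopicMap (F I) g
    have e4 : (FF I).map (Homotopy.nullHomotopicMap h.hom) =
        Homotopy.nullHomotopicMap (fun i j => (F I).map (h.hom i j)) :=
      Homotopy.map_nullHomotopicMap (F I) h.hom
    have e2 : φb = Homotopy.nullHomotopicMap (fun i j => (F I).map (h.hom i j) ≫ φb.f j) :=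
      calc φb = (FF I).map (𝟙 Ct) ≫ φb := by
                rw [CategoryTheory.Functor.map_id, Category.id_comp]
        _ = (FF I).map (Homotopy.nullHomotopicMap h.hom) ≫ φb :=
                congrArg (fun x => (FF I).map x ≫ φb) hid
        _ = Homotopy.nullHomotopicMap (fun i j => (F I).map (h.hom i j)) ≫ φb :=
                congrArg (fun x => x ≫ φb) e4
        _ = _ := Homotopy.nullHomotopicMap_comp _ _
    have e5 : (fun i j => (F I).map (g i j)) =
        (fun i j => (F I).map (h.hom i j) ≫ φb.f j) :=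
      funext fun i => funext fun j => hg i j
    exact e1.trans ((congrArg (Homotopy.nullHomotopicMap (C := (FF I).obj Ct)
      (D := (FF I).obj T)) e5).trans e2.symm)
  have hepib : ∀ i, Epi (φb.f i) := fun i => by
    rw [hφb, HomologicalComplex.comp_f, HomologicalComplex.comp_f]
    have := hS'epi i
    infer_instance
  have hsurj : ∀ i, Function.Surjective (φ.f i).hom := by
    intro i
    apply h3 _ _ (φ.f i) (hCtpc i) (hT i)
    refine range_sup_of_map_surjective I (Ct.X i) (T.X i) (φ.f i) (φb.f i) ?_ ?_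
    · exact HomologicalComplex.congr_hom hφ i
    · have := hepib i
      exact (ModuleCat.epi_iff_surjective (φb.f i)).1 inferInstance
  have : ∀ i, Epi (φ.f i) := fun i => (ModuleCat.epi_iff_surjective (φ.f i)).2 (hsurj i)
  have : Epi φ := HomologicalComplex.epi_of_epi_f φ (fun i => inferInstance)
  have hSex : (ShortComplex.kernelSequence φ).ShortExact :=
    ShortComplex.ShortExact.mk' (ShortComplex.kernelSequence_exact φ) inferInstance
      (show Epi φ from inferInstance)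
  have comm : (FF I).map (ShortComplex.kernelSequence φ).g ≫ cs.hom = Φ.hom ≫ S'.g := by
    show (FF I).map φ ≫ cs.hom = Φ.hom ≫ S'.g
    rw [hφ, hφb, Category.assoc, Category.assoc, Iso.inv_hom_id, Category.comp_id]
  obtain ⟨hsplit, hiso⟩ := kernel_part I (ShortComplex.kernelSequence φ) hSex
    (fun i => h1 _ (hT i)) S' hS' Φ cs comm
  refine ⟨(ShortComplex.kernelSequence φ).X₁, ?_, ?_, ?_, hiso⟩
  · intro i hi
    have hSi := (HomologicalComplex.shortExact_iff_degreewise_shortExact _).1 hSex i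
    exact @IsZero.of_mono _ _ _ _ _ _ hSi.mono_f (hCtb i hi)
  · intro i
    obtain ⟨e⟩ := hsplit i
    have h4 : Pc (ModuleCat.of R (T.X i × (ShortComplex.kernelSequence φ).X₁.X i)) :=
      Pc.prop_of_iso (e ≪≫ ModuleCat.biprodIsoProd _ _) (hCtpc i)
    exact (h2 (T.X i) _ (hT i)).1 h4
  · exact toD_iso_of_ses (ShortComplex.kernelSequence φ) hSex hCta

theorem main (R : Type u) [CommRing R] (I : Ideal R)
    [DRing.HasLBaseChange (Ideal.Quotient.mk I)]
    (Pc : ObjectProperty (ModuleCat.{u} R)) [Pc.IsClosedUnderIsomorphisms]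
    (h1 : ∀ X : ModuleCat.{u} R, Pc X → Module.Projective R X)
    (h2 : ∀ X Y : ModuleCat.{u} R, Pc X → (Pc (ModuleCat.of R (X × Y)) ↔ Pc Y))
    (h3 : ∀ (X Y : ModuleCat.{u} R) (f : X ⟶ Y), Pc X → Pc Y →
      LinearMap.range f.hom ⊔ I • (⊤ : Submodule R Y) = ⊤ → Function.Surjective f.hom)
    (Q : DRing.Cx R) (c : ℤ) (hQc : DRing.VanishesAbove Q c) (hQ : ∀ i : ℤ, Pc (Q.X i))
    (E : DRing.Cx (R ⧸ I)) (b : ℤ) (hEb : DRing.VanishesAbove E b)
    (hEt : ∀ i : ℤ, ∃ X : ModuleCat.{u} R, Pc X ∧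
      Nonempty (TensorProduct R (R ⧸ I) X ≃ₗ[R ⧸ I] E.X i))
    (eE : DRing.toD E ≅ (DRing.LBaseChange (Ideal.Quotient.mk I)).obj (DRing.toD Q)) :
    ∃ (P : DRing.Cx R) (b' : ℤ), DRing.VanishesAbove P b' ∧ (∀ i : ℤ, Pc (P.X i)) ∧
      Nonempty (DRing.toD P ≅ DRing.toD Q) ∧
      Nonempty ((((ModuleCat.extendScalars (Ideal.Quotient.mk I)).mapHomologicalComplex
        (ComplexShape.up ℤ)).obj P) ≅ E) := by
  have hQp : ∀ i, Module.Projective R (Q.X i) := fun i => h1 _ (hQ i)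
  obtain ⟨a, ha⟩ := exists_a I Q c hQc hQp E eE
  have hCa : (CochainComplex.mappingCone a).Acyclic := acyclic_cone a ha
  obtain ⟨b'', hb1, hb2⟩ : ∃ b'' : ℤ, c ≤ b'' + 1 ∧ b ≤ b'' :=
    ⟨max c b, by have := le_max_left c b; omega, le_max_right c b⟩
  have hCb : DRing.VanishesAbove (CochainComplex.mappingCone a) b'' :=
    vanishesAbove_cone a (VanishesAbove.mono (vanishesAbove_mapHC (F I) Q c hQc) hb1)
      (VanishesAbove.mono hEb hb2)
  have hCt := cone_terms I Pc (fun X Y hX hY => (h2 X Y hX).2 hY) Q hQ E hEt a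
  obtain ⟨Ct, hCtb, hCta, hCtpc, ⟨Φ⟩⟩ := Groth.Agent.Lib.Helper21.LiftCx.main R I Pc h1
    (fun X Y hX h => (h2 X Y hX).1 h) h3 (CochainComplex.mappingCone a) b'' hCb hCa hCt
  have hS' : (CochainComplex.mappingCone.triangleRotateShortComplex a).ShortExact :=
    HomologicalComplex.shortExact_of_degreewise_shortExact _
      (fun i => (CochainComplex.mappingCone.triangleRotateShortComplexSplitting a i).shortExact)
  obtain ⟨P, hPb, hPpc, ⟨eP⟩, ⟨eFP⟩⟩ := body I Pc h1 h2 h3 Ct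
    ((CategoryTheory.shiftFunctor (CochainComplex (ModuleCat.{u} R) ℤ) (1 : ℤ)).obj Q) b''
    hCtb hCta hCtpc (fun i => hQ (i + 1))
    (CochainComplex.mappingCone.triangleRotateShortComplex a) hS'
    (fun i => (CochainComplex.mappingCone.triangleRotateShortComplexSplitting a i).epi_g)
    Φ (((F I).mapCochainComplexShiftIso (1 : ℤ)).app Q)
  refine ⟨P, b'', hPb, hPpc, ⟨?_⟩, ⟨eFP⟩⟩
  let e1 : (CategoryTheory.shiftFunctor (Dual.D R) (1 : ℤ)).obj (DRing.toD Q) ≅
      (CategoryTheory.shiftFunctor (Dual.D R) (1 : ℤ)).obj (DRing.toD P) :=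
    ((DerivedCategory.Q.commShiftIso (1 : ℤ)).app Q).symm ≪≫ eP
  exact ((CategoryTheory.shiftFunctor (Dual.D R) (1 : ℤ)).preimageIso e1).symm

end Groth.Agent.Lib.Helper21.LiftCx2
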