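import Mathlib
import Groth.Agent.Lib.Helper21.LiftCx2
import Groth.Agent.Lib.Helper10.LiftProj
import Groth.Agent.Lib.Helper4.StablyFree

/-!
# Lifting projective modules along a nilpotent ideal; freeness from the reduction

* `exists_projective_lift`: over a nilpotent ideal every projective `R/I`-module is of the form
  `R/I ⊗ X` with `X` projective.
* `free_of_free_reduction`: if `I` is contained in the Jacobson radical, a finite projective
  module with free reduction is free.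
* `termEquiv`: terms of an isomorphism `F_* P ≅ E`.
-/

set_option autoImplicit false
universe u
open CategoryTheory CategoryTheory.Limits TensorProduct

namespace Groth.Agent.Lib.Helper21.ProjLift

open Groth.Agent.Lib.Helper10 Groth.Agent.Lib.Helper18.DR Groth.Agent.Lib.Helper21.LiftCx2

variable {R : Type u} [CommRing R] (I : Ideal R)

theorem exists_projective_lift (hI : IsNilpotent I) (Z : Type u) [AddCommGroup Z]
    [Module (R ⧸ I) Z] [Module.Projective (R ⧸ I) Z] :
    ∃ (X : ModuleCat.{u} R), Module.Projective R X ∧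
      Nonempty ((R ⧸ I) ⊗[R] X ≃ₗ[R ⧸ I] Z) := by
  classical
  let b' : Module.Basis Z (R ⧸ I) ((R ⧸ I) ⊗[R] (Z →₀ R)) :=
    (Finsupp.basisSingleOne (R := R) (ι := Z)).baseChange (R ⧸ I)
  let q : (R ⧸ I) ⊗[R] (Z →₀ R) →ₗ[R ⧸ I] Z := b'.constr ℕ (fun z => z)
  have hq : Function.Surjective q := fun z => ⟨b' z, b'.constr_basis ℕ (fun z => z) z⟩
  obtain ⟨j, hj⟩ := Module.projective_lifting_property q LinearMap.id hq
  have hqj : ∀ z, q (j z) = z := fun z => LinearMap.congr_fun hj z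
  have heb : IsIdempotentElem (j ∘ₗ q : Module.End (R ⧸ I) ((R ⧸ I) ⊗[R] (Z →₀ R))) := by
    apply LinearMap.ext
    intro x
    show j (q (j (q x))) = j (q x)
    rw [hqj]
  obtain ⟨e, he, he'⟩ := exists_idempotent_lift I
    (fun φ hφ => isNilpotent_end_of_forall_mem_smul I hI φ hφ) (j ∘ₗ q) heb
  refine ⟨ModuleCat.of R (LinearMap.range e), projective_range_of_isIdempotentElem e he,
    ⟨LinearEquiv.ofBijective _ (bijective_comp_baseChange_subtype e he q j hj he'.symm)⟩⟩

variable {I}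

theorem free_of_free_reduction (hI : I ≤ Ideal.jacobson (⊥ : Ideal R)) (P : Type u)
    [AddCommGroup P] [Module R P] [Module.Finite R P] [Module.Projective R P]
    (Z : Type u) [AddCommGroup Z] [Module (R ⧸ I) Z] [Module.Finite (R ⧸ I) Z]
    [Module.Free (R ⧸ I) Z] (e : (R ⧸ I) ⊗[R] P ≃ₗ[R ⧸ I] Z) : Module.Free R P := by
  classical
  obtain ⟨r, ⟨eN⟩⟩ : ∃ r : ℕ, Nonempty (Z ≃ₗ[R ⧸ I] (Fin r → R ⧸ I)) :=
    ⟨_, ⟨(Module.Free.chooseBasis (R ⧸ I) Z).equivFun.trans
      (LinearEquiv.funCongrLeft (R ⧸ I) (R ⧸ I) (Fintype.equivFin _).symm)⟩⟩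
  obtain ⟨e'⟩ := Groth.Agent.Lib.Helper4.nonempty_linearEquiv_of_baseChange hI P (Fin r → R)
    ((e.trans eN).trans (TensorProduct.piScalarRight R (R ⧸ I) (R ⧸ I) (Fin r)).symm)
  exact Module.Free.of_equiv e'.symm

variable (I)

lemma termEquiv (P : DRing.Cx R) (E : DRing.Cx (R ⧸ I)) (Φ : (FF I).obj P ≅ E) (i : ℤ) :
    Nonempty ((R ⧸ I) ⊗[R] (P.X i) ≃ₗ[R ⧸ I] E.X i) :=
  ⟨(extMEquiv (A := R) (B := R ⧸ I) (P.X i)).symm.trans
    ((HomologicalComplex.eval _ _ i).mapIso Φ).toLinearEquiv⟩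

end Groth.Agent.Lib.Helper21.ProjLift
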