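import Mathlib
import Groth.Agent.S7011
import Groth.Agent.Lib.Helper21.LiftCx2
import Groth.Agent.Lib.Helper21.ProjLift
import Groth.Agent.Lib.Helper18.KProjD

/-!
# Minimal free representatives over a local ring

For a maximal ideal `I` contained in the Jacobson radical and a pseudo-coherent `K`, the
cohomology of `K ⊗^L R/I` is finite dimensional and bounded above, there is a bounded above
complex of finite free modules `P` representing `K` with `rank P^i = dim H^i(K ⊗^L R/I)`, and
any two such complexes are isomorphic.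
-/

set_option autoImplicit false
universe u
open CategoryTheory CategoryTheory.Limits TensorProduct

attribute [local instance] HasDerivedCategory.standard

namespace Groth.Agent.Lib.Helper21.MinCx

open Groth.Agent.Lib.Helper18.DR Groth.Agent.Lib.Helper21.LiftCx2

/-! ## complexes with zero differentials -/

section Abelian

variable {C : Type*} [Category C] [Abelian C]

lemma isIso_f_of_quasiIso_of_zeroD {K L : CochainComplex C ℤ} (f : K ⟶ L) [QuasiIso f]
    (hK : ∀ i j, K.d i j = 0) (hL : ∀ i j, L.d i j = 0) (i : ℤ) : IsIso (f.f i) := by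
  have h1 : IsIso (K.iCycles i) := K.isIso_iCycles i (i + 1) (by simp) (hK _ _)
  have h2 : IsIso (L.iCycles i) := L.isIso_iCycles i (i + 1) (by simp) (hL _ _)
  have h3 : IsIso (K.homologyπ i) := K.isIso_homologyπ (i - 1) i (by simp) (hK _ _)
  have h4 : IsIso (L.homologyπ i) := L.isIso_homologyπ (i - 1) i (by simp) (hL _ _)
  have h5 : IsIso (HomologicalComplex.homologyMap f i) := inferInstance
  have h6 : IsIso (HomologicalComplex.cyclesMap f i) := by
    have e : HomologicalComplex.cyclesMap f i =
        K.homologyπ i ≫ HomologicalComplex.homologyMap f i ≫ inv (L.homologyπ i) := by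
      rw [← Category.assoc, HomologicalComplex.homologyπ_naturality, Category.assoc,
        IsIso.hom_inv_id, Category.comp_id]
    rw [e]
    infer_instance
  have e : f.f i = inv (K.iCycles i) ≫ HomologicalComplex.cyclesMap f i ≫ L.iCycles i := by
    rw [HomologicalComplex.cyclesMap_i, IsIso.inv_hom_id_assoc]
  rw [e]
  infer_instance

lemma isZero_homology_of_isZero (K : CochainComplex C ℤ) (i : ℤ) (h : IsZero (K.X i)) :
    IsZero (K.homology i) := by
  have h1 : IsZero (K.cycles i) := IsZero.of_mono (K.iCycles i) h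
  exact IsZero.of_epi (K.homologyπ i) h1

end Abelian

/-! ## complexes of vector spaces -/

section Field

variable {k : Type u} [Field k]

lemma finite_homology (C : CochainComplex (ModuleCat.{u} k) ℤ) (i : ℤ)
    [Module.Finite k (C.X i)] : Module.Finite k (C.homology i) := by
  have h1 : Function.Injective (C.iCycles i).hom :=
    (ModuleCat.mono_iff_injective (C.iCycles i)).1 inferInstance
  have h2 : Function.Surjective (C.homologyπ i).hom :=
    (ModuleCat.epi_iff_surjective (C.homologyπ i)).1 inferInstance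
  have : Module.Finite k (C.cycles i) := Module.Finite.of_injective (C.iCycles i).hom h1
  exact Module.Finite.of_surjective (C.homologyπ i).hom h2

lemma zeroD_of_finrank_eq (C : CochainComplex (ModuleCat.{u} k) ℤ)
    (hfin : ∀ i, Module.Finite k (C.X i))
    (h : ∀ i, Module.finrank k (C.homology i) = Module.finrank k (C.X i)) :
    ∀ i j, C.d i j = 0 := by
  intro i j
  by_cases hij : (ComplexShape.up ℤ).Rel i j
  · have := hfin i
    have h1 : Function.Injective (C.iCycles i).hom :=
      (ModuleCat.mono_iff_injective (C.iCycles i)).1 inferInstance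
    have h2 : Function.Surjective (C.homologyπ i).hom :=
      (ModuleCat.epi_iff_surjective (C.homologyπ i)).1 inferInstance
    have : Module.Finite k (C.cycles i) := Module.Finite.of_injective (C.iCycles i).hom h1
    have e1 : Module.finrank k (C.homology i) ≤ Module.finrank k (C.cycles i) :=
      LinearMap.finrank_le_finrank_of_surjective h2
    have e2 : Module.finrank k (C.cycles i) ≤ Module.finrank k (C.X i) :=
      LinearMap.finrank_le_finrank_of_injective h1
    have e3 : Module.finrank k (C.cycles i) = Module.finrank k (C.X i) :=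
      le_antisymm e2 ((h i).symm.le.trans e1)
    have h3 : Function.Surjective (C.iCycles i).hom :=
      (LinearMap.injective_iff_surjective_of_finrank_eq_finrank e3).1 h1
    have : Epi (C.iCycles i) := (ModuleCat.epi_iff_surjective (C.iCycles i)).2 h3
    rw [← cancel_epi (C.iCycles i), HomologicalComplex.iCycles_d, comp_zero]
  · exact C.shape i j hij

/-- the complex of cohomology modules with zero differentials -/
@[reducible] noncomputable def HCx (C : CochainComplex (ModuleCat.{u} k) ℤ) :
    CochainComplex (ModuleCat.{u} k) ℤ where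
  X i := C.homology i
  d _ _ := 0
  shape _ _ _ := rfl
  d_comp_d' _ _ _ _ _ := zero_comp

lemma exists_section (C : CochainComplex (ModuleCat.{u} k) ℤ) (i : ℤ) :
    ∃ σ : C.homology i ⟶ C.cycles i, σ ≫ C.homologyπ i = 𝟙 _ := by
  have : Projective (C.homology i) := by
    have : Module.Projective k (C.homology i) := Module.Projective.of_free
    exact (IsProjective.iff_projective (R := k) (P := C.homology i)).mp this
  exact ⟨Projective.factorThru (𝟙 _) (C.homologyπ i), Projective.factorThru_comp _ _⟩

/-- a quasi-isomorphism from the cohomology complex -/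
noncomputable def sec (C : CochainComplex (ModuleCat.{u} k) ℤ) : HCx C ⟶ C where
  f i := (exists_section C i).choose ≫ C.iCycles i
  comm' i j _ := by
    show ((exists_section C i).choose ≫ C.iCycles i) ≫ C.d i j = 0 ≫ _
    rw [Category.assoc, HomologicalComplex.iCycles_d, comp_zero, zero_comp]

lemma quasiIso_sec (C : CochainComplex (ModuleCat.{u} k) ℤ) : QuasiIso (sec C) := by
  rw [quasiIso_iff]
  intro i
  rw [quasiIsoAt_iff_isIso_homologyMap]
  have hd : ∀ a b, (HCx C).d a b = 0 := fun _ _ => rfl
  have h1 : IsIso ((HCx C).iCycles i) := (HCx C).isIso_iCycles i (i + 1) (by simp) (hd _ _)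
  have h3 : IsIso ((HCx C).homologyπ i) :=
    (HCx C).isIso_homologyπ (i - 1) i (by simp) (hd _ _)
  have hc : HomologicalComplex.cyclesMap (sec C) i =
      (HCx C).iCycles i ≫ (exists_section C i).choose := by
    rw [← cancel_mono (C.iCycles i), HomologicalComplex.cyclesMap_i, Category.assoc]
    rfl
  have e : (HCx C).homologyπ i ≫ HomologicalComplex.homologyMap (sec C) i =
      (HCx C).iCycles i := by
    rw [HomologicalComplex.homologyπ_naturality, hc, Category.assoc,
      (exists_section C i).choose_spec]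
    exact Category.comp_id _
  have e' : HomologicalComplex.homologyMap (sec C) i =
      inv ((HCx C).homologyπ i) ≫ (HCx C).iCycles i := by
    rw [← e, IsIso.inv_hom_id_assoc]
  rw [e']
  infer_instance

end Field

/-! ## the glue -/

section Glue

variable {R : Type u} [CommRing R] (I : Ideal R) [I.IsMaximal]

/-- the field structure on `R ⧸ I` -/
noncomputable local instance fieldQuot : Field (R ⧸ I) := Ideal.Quotient.field I

lemma nonempty_hdIso [DRing.HasLBaseChange (Ideal.Quotient.mk I)] (K : Dual.D R)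
    (P : DRing.Cx R) [P.IsKProjective] (e : DRing.toD P ≅ K) (i : ℤ) :
    Nonempty ((DerivedCategory.homologyFunctor (ModuleCat.{u} (R ⧸ I)) i).obj
      ((DRing.LBaseChange (Ideal.Quotient.mk I)).obj K) ≅ ((FF I).obj P).homology i) :=
  ⟨(DerivedCategory.homologyFunctor _ i).mapIso
      ((DRing.LBaseChange (Ideal.Quotient.mk I)).mapIso e.symm ≪≫
        LBaseChangeIso (Ideal.Quotient.mk I) P) ≪≫
    (DerivedCategory.homologyFunctorFactors (ModuleCat.{u} (R ⧸ I)) i).app ((FF I).obj P)⟩

lemma finrank_F [Nontrivial R] (X : ModuleCat.{u} R) [Module.Free R X] :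
    Module.finrank (R ⧸ I) ((F I).obj X) = Module.finrank R X :=
  (extMEquiv (A := R) (B := R ⧸ I) X).finrank_eq.trans Module.finrank_baseChange

lemma finite_F (X : ModuleCat.{u} R) [Module.Finite R X] :
    Module.Finite (R ⧸ I) ((F I).obj X) :=
  finite_extM (A := R) (B := R ⧸ I) X

/-- the data of a pseudo-coherent object -/
lemma kproj_of_finiteFree (G : DRing.Cx R) (c : ℤ) (hGc : DRing.VanishesAbove G c)
    (hGff : ∀ i, Module.Free R (G.X i)) : G.IsKProjective :=
  isKProjective_of_vanishesAbove G c hGc (fun i => by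
    have := hGff i
    exact Module.Projective.of_free)

variable [DRing.HasLBaseChange (Ideal.Quotient.mk I)]

theorem finite_HD (K : Dual.D R) (hK : DRing.IsPseudoCoherent' R K) (i : ℤ) :
    Module.Finite (R ⧸ I) (Dual.HD (R ⧸ I) ((DRing.LBaseChange (Ideal.Quotient.mk I)).obj K) i) := by
  obtain ⟨G, c, hGc, hGff, ⟨eG⟩⟩ := hK
  have := kproj_of_finiteFree G c hGc (fun i => (hGff i).2)
  obtain ⟨hd⟩ := nonempty_hdIso I K G eG i
  have : Module.Finite (R ⧸ I) (((FF I).obj G).X i) := by
    have := (hGff i).1
    exact finite_F I (G.X i)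
  have := finite_homology ((FF I).obj G) i
  exact Module.Finite.equiv hd.toLinearEquiv.symm

theorem subsingleton_HD (K : Dual.D R) (hK : DRing.IsPseudoCoherent' R K) :
    ∃ b : ℤ, ∀ i : ℤ, b < i →
      Subsingleton (Dual.HD (R ⧸ I) ((DRing.LBaseChange (Ideal.Quotient.mk I)).obj K) i) := by
  obtain ⟨G, c, hGc, hGff, ⟨eG⟩⟩ := hK
  have := kproj_of_finiteFree G c hGc (fun i => (hGff i).2)
  refine ⟨c, fun i hi => ?_⟩
  obtain ⟨hd⟩ := nonempty_hdIso I K G eG i
  have hz : IsZero (((FF I).obj G).homology i) :=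
    isZero_homology_of_isZero _ i (vanishesAbove_mapHC (F I) G c hGc i hi)
  have := ModuleCat.subsingleton_of_isZero hz
  exact hd.toLinearEquiv.toEquiv.subsingleton

/-- minimality of a complex -/
def Minimal (K : Dual.D R) (P : DRing.Cx R) : Prop :=
  (∃ b : ℤ, DRing.VanishesAbove P b) ∧
    (∀ i : ℤ, Module.Free R (P.X i) ∧ Module.Finite R (P.X i) ∧
      Module.finrank R (P.X i) = Module.finrank (R ⧸ I)
        (Dual.HD (R ⧸ I) ((DRing.LBaseChange (Ideal.Quotient.mk I)).obj K) i)) ∧
    Nonempty (DRing.toD P ≅ K)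

theorem exists_minimal [Nontrivial R] (hI : I ≤ Ideal.jacobson (⊥ : Ideal R)) (K : Dual.D R)
    (hK : DRing.IsPseudoCoherent' R K) : ∃ P : DRing.Cx R, Minimal I K P := by
  have hK' := hK
  obtain ⟨G, c, hGc, hGff, ⟨eG⟩⟩ := hK
  have := kproj_of_finiteFree G c hGc (fun i => (hGff i).2)
  have hEb : DRing.VanishesAbove (HCx ((FF I).obj G)) c := fun i hi =>
    isZero_homology_of_isZero ((FF I).obj G) i (vanishesAbove_mapHC (F I) G c hGc i hi)
  have hEfin : ∀ i, Module.Finite (R ⧸ I) ((HCx ((FF I).obj G)).X i) := fun i => by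
    have : Module.Finite (R ⧸ I) (((FF I).obj G).X i) := by
      have := (hGff i).1
      exact finite_F I (G.X i)
    exact finite_homology ((FF I).obj G) i
  have hEfree : ∀ i, Module.Free (R ⧸ I) ((HCx ((FF I).obj G)).X i) := fun i =>
    Module.Free.of_divisionRing _ _
  have hqi : QuasiIso (sec ((FF I).obj G)) := quasiIso_sec _
  have hiso : IsIso (DerivedCategory.Q.map (sec ((FF I).obj G))) :=
    (DerivedCategory.isIso_Q_map_iff_quasiIso _ _).2 hqi
  obtain ⟨P, b', hPb, hPt, hPK, ⟨Φ⟩, hfree⟩ := Groth.Agent.S7011.result R I hI K hK'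
    (HCx ((FF I).obj G)) c hEb
    (fun i => ⟨hEfin i, by have := hEfree i; infer_instance⟩)
    ⟨@asIso _ _ _ _ (DerivedCategory.Q.map (sec ((FF I).obj G))) hiso ≪≫
      (LBaseChangeIso (Ideal.Quotient.mk I) G).symm ≪≫
      (DRing.LBaseChange (Ideal.Quotient.mk I)).mapIso eG⟩
  refine ⟨P, ⟨b', hPb⟩, fun i => ?_, hPK⟩
  have hfr : Module.Free R (P.X i) := hfree i (hEfree i)
  refine ⟨hfr, (hPt i).1, ?_⟩
  obtain ⟨t⟩ := Groth.Agent.Lib.Helper21.ProjLift.termEquiv I P _ Φ i
  obtain ⟨hd⟩ := nonempty_hdIso I K G eG i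
  have e1 : Module.finrank (R ⧸ I) ((R ⧸ I) ⊗[R] (P.X i)) = Module.finrank R (P.X i) :=
    Module.finrank_baseChange
  have e2 : Module.finrank (R ⧸ I) ((R ⧸ I) ⊗[R] (P.X i)) =
      Module.finrank (R ⧸ I) ((HCx ((FF I).obj G)).X i) := t.finrank_eq
  have e3 : Module.finrank (R ⧸ I)
      (Dual.HD (R ⧸ I) ((DRing.LBaseChange (Ideal.Quotient.mk I)).obj K) i) =
      Module.finrank (R ⧸ I) (((FF I).obj G).homology i) := hd.toLinearEquiv.finrank_eq
  exact e1.symm.trans (e2.trans e3.symm)

theorem unique_minimal [Nontrivial R] (hI : I ≤ Ideal.jacobson (⊥ : Ideal R)) (K : Dual.D R)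
    (P Q : DRing.Cx R) (hP : Minimal I K P) (hQ : Minimal I K Q) : Nonempty (P ≅ Q) := by
  obtain ⟨⟨bP, hPb⟩, hPt, ⟨eP⟩⟩ := hP
  obtain ⟨⟨bQ, hQb⟩, hQt, ⟨eQ⟩⟩ := hQ
  have := kproj_of_finiteFree P bP hPb (fun i => (hPt i).1)
  have := kproj_of_finiteFree Q bQ hQb (fun i => (hQt i).1)
  obtain ⟨f, hf⟩ := exists_map_eq P Q (eP.hom ≫ eQ.inv)
  have hiso : IsIso (DerivedCategory.Q.map f) := by
    rw [hf]
    infer_instance
  have hFiso := isIso_Q_map_mapHC_of_isKProjective (F I) f hiso
  have hqi : QuasiIso ((FF I).map f) := (DerivedCategory.isIso_Q_map_iff_quasiIso _ _).1 hFiso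
  have hz : ∀ (X : DRing.Cx R) [X.IsKProjective] (eX : DRing.toD X ≅ K)
      (hXt : ∀ i : ℤ, Module.Free R (X.X i) ∧ Module.Finite R (X.X i) ∧
      Module.finrank R (X.X i) = Module.finrank (R ⧸ I)
        (Dual.HD (R ⧸ I) ((DRing.LBaseChange (Ideal.Quotient.mk I)).obj K) i)),
      ∀ i j, ((FF I).obj X).d i j = 0 := by
    intro X _ eX hXt
    apply zeroD_of_finrank_eq
    · intro i
      have := (hXt i).2.1
      exact finite_F I (X.X i)
    · intro i
      obtain ⟨hd⟩ := nonempty_hdIso I K X eX i
      have e3 : Module.finrank (R ⧸ I)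
          (Dual.HD (R ⧸ I) ((DRing.LBaseChange (Ideal.Quotient.mk I)).obj K) i) =
          Module.finrank (R ⧸ I) (((FF I).obj X).homology i) := hd.toLinearEquiv.finrank_eq
      have := (hXt i).1
      have e4 : Module.finrank (R ⧸ I) ((F I).obj (X.X i)) = Module.finrank R (X.X i) :=
        finrank_F I (X.X i)
      exact e3.symm.trans ((hXt i).2.2.symm.trans e4.symm)
  have hzP := hz P eP hPt
  have hzQ := hz Q eQ hQt
  have hbij : ∀ i, Function.Bijective (f.f i).hom := by
    intro i
    have hFi : IsIso (((FF I).map f).f i) := isIso_f_of_quasiIso_of_zeroD _ hzP hzQ i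
    have hs0 : Function.Surjective (((FF I).map f).f i).hom :=
      ((ConcreteCategory.isIso_iff_bijective (((FF I).map f).f i)).1 hFi).2
    have hsup := range_sup_of_map_surjective I (P.X i) (Q.X i) (f.f i) (((FF I).map f).f i)
      rfl hs0
    have := (hQt i).2.1
    have := (hPt i).2.1
    have := (hQt i).1
    have := (hPt i).1
    have hsurj : Function.Surjective (f.f i).hom := by
      rw [← LinearMap.range_eq_top, eq_top_iff]
      apply Submodule.le_of_le_smul_of_le_jacobson_bot Module.Finite.fg_top hI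
      exact hsup.ge
    obtain ⟨g⟩ : Nonempty (Q.X i ≃ₗ[R] P.X i) :=
      FiniteDimensional.nonempty_linearEquiv_of_finrank_eq
        ((hQt i).2.2.trans (hPt i).2.2.symm)
    have hinj : Function.Injective (g.toLinearMap ∘ₗ (f.f i).hom) :=
      OrzechProperty.injective_of_surjective_endomorphism _ (g.surjective.comp hsurj)
    exact ⟨Function.Injective.of_comp hinj, hsurj⟩
  have : ∀ i, IsIso (f.f i) := fun i =>
    (ConcreteCategory.isIso_iff_bijective (f.f i)).2 (hbij i)
  have := HomologicalComplex.Hom.isIso_of_components f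
  exact ⟨asIso f⟩

end Glue

end Groth.Agent.Lib.Helper21.MinCx
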