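import Mathlib
import Groth.Prelude.Def_Wider

/-!
# Module-level lemmas for Ext base change of power torsion modules (helper21)
-/

set_option autoImplicit false
set_option linter.style.haveILetI false

open scoped TensorProduct

namespace Groth.Agent.Lib.Helper21.ExtTorsA

universe u

section eta2

variable {A B : Type u} [CommRing A] [CommRing B] [Algebra A B] (I : Ideal A)

lemma exists_sub_mem_map
    (hs : Function.Surjective
      ((Ideal.Quotient.mk (I.map (algebraMap A B))).comp (algebraMap A B)))
    (b : B) : ∃ a : A, b - algebraMap A B a ∈ I.map (algebraMap A B) := by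
  obtain ⟨a, ha⟩ := hs (Ideal.Quotient.mk _ b)
  refine ⟨a, ?_⟩
  have h1 : Ideal.Quotient.mk (I.map (algebraMap A B)) (algebraMap A B a) =
      Ideal.Quotient.mk (I.map (algebraMap A B)) b := ha
  have h2 := Ideal.Quotient.eq.1 h1
  have h3 := (I.map (algebraMap A B)).neg_mem h2
  rwa [neg_sub] at h3

lemma exists_sub_mem_map_pow
    (hs : Function.Surjective
      ((Ideal.Quotient.mk (I.map (algebraMap A B))).comp (algebraMap A B)))
    (n : ℕ) (b : B) : ∃ a : A, b - algebraMap A B a ∈ (I.map (algebraMap A B)) ^ n := by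
  induction n generalizing b with
  | zero => exact ⟨0, by rw [pow_zero, Ideal.one_eq_top]; exact Submodule.mem_top⟩
  | succ n ih =>
    obtain ⟨a, ha⟩ := ih b
    have key : ∀ c ∈ (I.map (algebraMap A B)) ^ n, ∃ a' ∈ I ^ n,
        c - algebraMap A B a' ∈ (I.map (algebraMap A B)) ^ (n + 1) := by
      intro c hc
      rw [← Ideal.map_pow] at hc
      have hc' : c ∈ Submodule.span B ((algebraMap A B) '' ((I ^ n : Ideal A) : Set A)) := hc
      refine Submodule.span_induction (p := fun c _ => ∃ a' ∈ I ^ n,
        c - algebraMap A B a' ∈ (I.map (algebraMap A B)) ^ (n + 1)) ?_ ?_ ?_ ?_ hc'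
      · rintro _ ⟨a₀, ha₀, rfl⟩
        exact ⟨a₀, ha₀, by rw [sub_self]; exact Ideal.zero_mem _⟩
      · exact ⟨0, Ideal.zero_mem _, by rw [map_zero, sub_self]; exact Ideal.zero_mem _⟩
      · rintro c₁ c₂ _ _ ⟨a₁, ha₁, h₁⟩ ⟨a₂, ha₂, h₂⟩
        refine ⟨a₁ + a₂, Ideal.add_mem _ ha₁ ha₂, ?_⟩
        have e : c₁ + c₂ - algebraMap A B (a₁ + a₂) =
            (c₁ - algebraMap A B a₁) + (c₂ - algebraMap A B a₂) := by rw [map_add]; ring
        rw [e]
        exact Ideal.add_mem _ h₁ h₂
      · rintro b' c _ ⟨a', ha', h'⟩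
        obtain ⟨a'', ha''⟩ := exists_sub_mem_map I hs b'
        refine ⟨a'' * a', Ideal.mul_mem_left _ _ ha', ?_⟩
        have e : b' • c - algebraMap A B (a'' * a') =
            b' * (c - algebraMap A B a') + (b' - algebraMap A B a'') * algebraMap A B a' := by
          rw [map_mul, smul_eq_mul]; ring
        rw [e]
        refine Ideal.add_mem _ (Ideal.mul_mem_left _ _ h') ?_
        rw [pow_succ']
        refine Ideal.mul_mem_mul ha'' ?_
        rw [← Ideal.map_pow]
        exact Ideal.mem_map_of_mem _ ha'
    obtain ⟨a', -, ha'⟩ := key _ ha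
    refine ⟨a + a', ?_⟩
    have e : b - algebraMap A B (a + a') = (b - algebraMap A B a) - algebraMap A B a' := by
      rw [map_add]; ring
    rw [e]
    exact ha'

/-- `N → B ⊗ N` is bijective for `I`-power torsion `N` when `A → B` is flat with `A/I ≅ B/IB` -/
theorem mk_one_bijective_of_powerTorsion [Module.Flat A B]
    (hs : Function.Surjective
      ((Ideal.Quotient.mk (I.map (algebraMap A B))).comp (algebraMap A B)))
    (hk : RingHom.ker ((Ideal.Quotient.mk (I.map (algebraMap A B))).comp (algebraMap A B)) = I)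
    (N : Type u) [AddCommGroup N] [Module A N] (hN : LocCoh.IsPowerTorsion I N) :
    Function.Bijective (fun x : N => (1 : B) ⊗ₜ[A] x) := by
  constructor
  · have key : ∀ x : N, (1 : B) ⊗ₜ[A] x = 0 → x = 0 := by
      intro x hx
      have hx' : ∑ i : Unit, (fun _ : Unit => x) i ⊗ₜ[A] (fun _ : Unit => (1 : B)) i =
          (0 : N ⊗[A] B) := by
        rw [Fintype.sum_unique]
        have := congrArg (TensorProduct.comm A B N) hx
        rw [map_zero, TensorProduct.comm_tmul] at this
        exact this
      obtain ⟨k, a, y, hy, ha⟩ :=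
        TensorProduct.vanishesTrivially_of_sum_tmul_eq_zero_of_rTensor_injective A
          (m := fun _ : Unit => x) (n := fun _ : Unit => (1 : B))
          (Module.Flat.rTensor_preserves_injective_linearMap _ (Submodule.injective_subtype _))
          hx'
      choose c hc using fun j => exists_sub_mem_map I hs (y j)
      set a₀ : A := ∑ j, a () j * c j with ha₀
      have h1 : (1 : B) - algebraMap A B a₀ ∈ I.map (algebraMap A B) := by
        have e : (1 : B) - algebraMap A B a₀ =
            ∑ j, algebraMap A B (a () j) * (y j - algebraMap A B (c j)) := by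
          have hy' : (1 : B) = ∑ j, a () j • y j := hy ()
          have e1 : ∑ j, algebraMap A B (a () j) * (y j - algebraMap A B (c j)) =
              (∑ j, a () j • y j) - algebraMap A B a₀ := by
            rw [ha₀, map_sum, ← Finset.sum_sub_distrib]
            refine Finset.sum_congr rfl (fun j _ => ?_)
            rw [Algebra.smul_def, map_mul]; ring
          rw [e1, ← hy']
        rw [e]
        exact Ideal.sum_mem _ (fun j _ => Ideal.mul_mem_left _ _ (hc j))
      have h2 : (1 : A) - a₀ ∈ I := by
        have h2' : (1 : A) - a₀ ∈ RingHom.ker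
            ((Ideal.Quotient.mk (I.map (algebraMap A B))).comp (algebraMap A B)) := by
          rw [RingHom.mem_ker, RingHom.comp_apply, map_sub, map_one,
            Ideal.Quotient.eq_zero_iff_mem]
          exact h1
        rw [hk] at h2'
        exact h2'
      have h3 : a₀ • x = 0 := by
        rw [ha₀, Finset.sum_smul]
        refine Finset.sum_eq_zero (fun j _ => ?_)
        rw [mul_comm, mul_smul]
        have := ha j
        rw [Fintype.sum_unique] at this
        rw [this, smul_zero]
      have h4 : ∀ n : ℕ, (1 - a₀) ^ n • x = x := by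
        intro n
        induction n with
        | zero => rw [pow_zero, one_smul]
        | succ n ih => rw [pow_succ, mul_smul, sub_smul, one_smul, h3, sub_zero, ih]
      obtain ⟨n, hn⟩ := hN x
      rw [← h4 n]
      exact hn _ (Ideal.pow_mem_pow h2 n)
    intro x₁ x₂ h
    have h' : (1 : B) ⊗ₜ[A] x₁ = (1 : B) ⊗ₜ[A] x₂ := h
    have := key (x₁ - x₂) (by rw [TensorProduct.tmul_sub, h', sub_self])
    exact sub_eq_zero.1 this
  · intro z
    induction z using TensorProduct.induction_on with
    | zero => exact ⟨0, TensorProduct.tmul_zero _ _⟩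
    | add z₁ z₂ h₁ h₂ =>
      obtain ⟨x₁, hx₁⟩ := h₁
      obtain ⟨x₂, hx₂⟩ := h₂
      refine ⟨x₁ + x₂, ?_⟩
      change (1 : B) ⊗ₜ[A] (x₁ + x₂) = _
      rw [TensorProduct.tmul_add]
      exact congrArg₂ (· + ·) hx₁ hx₂
    | tmul b x =>
      obtain ⟨n, hn⟩ := hN x
      obtain ⟨a, ha⟩ := exists_sub_mem_map_pow I hs n b
      have hz : ∀ c ∈ (I.map (algebraMap A B)) ^ n, c ⊗ₜ[A] x = (0 : B ⊗[A] N) := by
        intro c hc
        rw [← Ideal.map_pow] at hc
        have hc' : c ∈ Submodule.span B ((algebraMap A B) '' ((I ^ n : Ideal A) : Set A)) := hc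
        refine Submodule.span_induction (p := fun c _ => c ⊗ₜ[A] x = (0 : B ⊗[A] N))
          ?_ ?_ ?_ ?_ hc'
        · rintro _ ⟨a₀, ha₀, rfl⟩
          rw [Algebra.algebraMap_eq_smul_one, TensorProduct.smul_tmul, hn a₀ ha₀,
            TensorProduct.tmul_zero]
        · exact TensorProduct.zero_tmul _ _
        · intro c₁ c₂ _ _ h₁ h₂
          rw [TensorProduct.add_tmul, h₁, h₂, add_zero]
        · intro b' c _ h
          rw [← TensorProduct.smul_tmul', h, smul_zero]
      refine ⟨a • x, ?_⟩
      change (1 : B) ⊗ₜ[A] (a • x) = b ⊗ₜ[A] x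
      have e : b = (b - algebraMap A B a) + a • (1 : B) := by
        rw [← Algebra.algebraMap_eq_smul_one]; ring
      conv_rhs => rw [e, TensorProduct.add_tmul, hz _ ha, zero_add]
      rw [TensorProduct.smul_tmul]

end eta2

section eta1

variable {R : Type u} [CommRing R] (f : R)

/-- `L → R_f ⊗ L` is bijective when `f` acts bijectively on `L` -/
theorem mk_one_bijective_of_bijective_smul (L : Type u) [AddCommGroup L] [Module R L]
    (hf : Function.Bijective (fun x : L => f • x)) :
    Function.Bijective (fun x : L => (1 : Localization.Away f) ⊗ₜ[R] x) := by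
  have hpow : ∀ n : ℕ, Function.Bijective (fun x : L => (f ^ n) • x) := by
    intro n
    induction n with
    | zero =>
      constructor
      · intro a b h
        simpa using h
      · intro y
        exact ⟨y, by simp⟩
    | succ n ih =>
      have e : (fun x : L => (f ^ (n + 1)) • x) =
          (fun x : L => (f ^ n) • x) ∘ (fun x : L => f • x) := by
        funext x
        simp [pow_succ, mul_smul]
      rw [e]
      exact ih.comp hf
  haveI h1 : IsLocalizedModule (Submonoid.powers f) (LinearMap.id : L →ₗ[R] L) := by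
    refine ⟨?_, ?_, ?_⟩
    · rintro ⟨_, n, rfl⟩
      rw [Module.End.isUnit_iff]
      have e : ⇑(algebraMap R (Module.End R L) (f ^ n)) = fun x : L => (f ^ n) • x := by
        funext x
        rfl
      rw [e]
      exact hpow n
    · intro y
      exact ⟨(y, 1), by simp⟩
    · intro x₁ x₂ h
      exact ⟨1, by simpa using h⟩
  haveI h2 : IsLocalizedModule (Submonoid.powers f)
      (TensorProduct.mk R (Localization.Away f) L 1) :=
    (isLocalizedModule_iff_isBaseChange (Submonoid.powers f) (Localization.Away f) _).2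
      (TensorProduct.isBaseChange R L (Localization.Away f))
  have h3 : (fun x : L => (1 : Localization.Away f) ⊗ₜ[R] x) =
      ⇑(IsLocalizedModule.linearEquiv (Submonoid.powers f) (LinearMap.id : L →ₗ[R] L)
        (TensorProduct.mk R (Localization.Away f) L 1)) := by
    funext x
    exact (IsLocalizedModule.linearEquiv_apply (Submonoid.powers f) (LinearMap.id : L →ₗ[R] L)
      (TensorProduct.mk R (Localization.Away f) L 1) x).symm
  rw [h3]
  exact LinearEquiv.bijective _

/-- `R_f ⊗ M = 0` for `f`-power torsion `M` -/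
theorem subsingleton_away_tensor (M : Type u) [AddCommGroup M] [Module R M]
    (h : ∀ m : M, ∃ n : ℕ, f ^ n • m = 0) : Subsingleton (Localization.Away f ⊗[R] M) := by
  haveI : IsLocalizedModule (Submonoid.powers f)
      (TensorProduct.mk R (Localization.Away f) M 1) :=
    (isLocalizedModule_iff_isBaseChange (Submonoid.powers f) (Localization.Away f) _).2
      (TensorProduct.isBaseChange R M (Localization.Away f))
  rw [IsLocalizedModule.subsingleton_iff (Submonoid.powers f)
    (TensorProduct.mk R (Localization.Away f) M 1)]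
  intro m
  obtain ⟨n, hn⟩ := h m
  exact ⟨f ^ n, ⟨n, rfl⟩, hn⟩

end eta1

section tors

variable {A : Type u} [CommRing A]

/-- `g`-power torsion -/
def TorsBy (g : A) (N : Type u) [AddCommGroup N] [Module A N] : Prop :=
  ∀ x : N, ∃ n : ℕ, g ^ n • x = 0

lemma torsBy_of_injective {g : A} {N N' : Type u} [AddCommGroup N] [Module A N]
    [AddCommGroup N'] [Module A N'] (l : N' →ₗ[A] N) (hl : Function.Injective l)
    (h : TorsBy g N) : TorsBy g N' := by
  intro x
  obtain ⟨n, hn⟩ := h (l x)
  exact ⟨n, hl (by rw [map_smul, hn, map_zero])⟩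

lemma torsBy_of_surjective {g : A} {N N' : Type u} [AddCommGroup N] [Module A N]
    [AddCommGroup N'] [Module A N'] (l : N →ₗ[A] N') (hl : Function.Surjective l)
    (h : TorsBy g N) : TorsBy g N' := by
  intro y
  obtain ⟨x, rfl⟩ := hl y
  obtain ⟨n, hn⟩ := h x
  exact ⟨n, by rw [← map_smul, hn, map_zero]⟩

lemma torsBy_localizedModule (g f : A) (N : Type u) [AddCommGroup N] [Module A N]
    (h : TorsBy g N) : TorsBy g (LocalizedModule (Submonoid.powers f) N) := by
  intro z
  refine LocalizedModule.induction_on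
    (β := fun z : LocalizedModule (Submonoid.powers f) N => ∃ n : ℕ, g ^ n • z = 0) ?_ z
  intro x t
  obtain ⟨n, hn⟩ := h x
  exact ⟨n, by rw [LocalizedModule.smul'_mk, hn, LocalizedModule.zero_mk]⟩

lemma torsBy_ker_mkLinearMap (f : A) (N : Type u) [AddCommGroup N] [Module A N] :
    TorsBy f (LinearMap.ker (LocalizedModule.mkLinearMap (Submonoid.powers f) N)) := by
  intro x
  obtain ⟨r, ⟨n, rfl⟩, hr⟩ := LocalizedModule.mem_ker_mkLinearMap_iff.1 x.2
  exact ⟨n, Subtype.ext hr⟩

lemma torsBy_coker_mkLinearMap (f : A) (N : Type u) [AddCommGroup N] [Module A N] :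
    TorsBy f (LocalizedModule (Submonoid.powers f) N ⧸
      LinearMap.range (LocalizedModule.mkLinearMap (Submonoid.powers f) N)) := by
  intro y
  obtain ⟨z, rfl⟩ := Submodule.mkQ_surjective _ y
  refine LocalizedModule.induction_on
    (β := fun z : LocalizedModule (Submonoid.powers f) N => ∃ n : ℕ, f ^ n •
      (LinearMap.range (LocalizedModule.mkLinearMap (Submonoid.powers f) N)).mkQ z = 0) ?_ z
  rintro x ⟨_, n, rfl⟩
  refine ⟨n, ?_⟩
  rw [← map_smul, Submodule.mkQ_apply, Submodule.Quotient.mk_eq_zero]
  refine ⟨x, ?_⟩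
  rw [LocalizedModule.mkLinearMap_apply, LocalizedModule.smul'_mk]
  exact (LocalizedModule.mk_cancel (⟨f ^ n, ⟨n, rfl⟩⟩ : Submonoid.powers f) x).symm

lemma bijective_smul_localizedModule (f : A) (N : Type u) [AddCommGroup N] [Module A N] :
    Function.Bijective (fun y : LocalizedModule (Submonoid.powers f) N => f • y) := by
  have hu := IsLocalizedModule.map_units
    (LocalizedModule.mkLinearMap (Submonoid.powers f) N) ⟨f, Submonoid.mem_powers f⟩
  have h := (Module.End.isUnit_iff _).1 hu
  have e : (fun y : LocalizedModule (Submonoid.powers f) N => f • y) =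
      ⇑(algebraMap A (Module.End A (LocalizedModule (Submonoid.powers f) N)) f) := by
    funext y
    simp
  rw [e]
  exact h

/-- torsion for each generator implies power torsion for the ideal -/
lemma isPowerTorsion_of_torsBy (F : Finset A) (N : Type u) [AddCommGroup N] [Module A N]
    (h : ∀ g ∈ F, TorsBy g N) : LocCoh.IsPowerTorsion (Ideal.span (F : Set A)) N := by
  intro x
  have hle : Ideal.span (F : Set A) ≤ (Ideal.torsionOf A N x).radical := by
    rw [Ideal.span_le]
    intro g hg
    obtain ⟨n, hn⟩ := h g (Finset.mem_coe.1 hg) x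
    exact Ideal.mem_radical_iff.2 ⟨n, (Ideal.mem_torsionOf_iff x _).2 hn⟩
  obtain ⟨n, hn⟩ := Ideal.exists_pow_le_of_le_radical_of_fg hle ⟨F, rfl⟩
  exact ⟨n, fun a ha => (Ideal.mem_torsionOf_iff x a).1 (hn ha)⟩

variable {B : Type u} [CommRing B] [Algebra A B]

lemma torsBy_tensor (f : A) (M : Type u) [AddCommGroup M] [Module A M]
    (h : ∀ m : M, ∃ n : ℕ, f ^ n • m = 0) :
    ∀ y : B ⊗[A] M, ∃ n : ℕ, (algebraMap A B f) ^ n • y = 0 := by
  intro y
  induction y using TensorProduct.induction_on with
  | zero => exact ⟨0, smul_zero _⟩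
  | tmul b m =>
    obtain ⟨n, hn⟩ := h m
    refine ⟨n, ?_⟩
    rw [← map_pow, algebraMap_smul, ← TensorProduct.tmul_smul, hn, TensorProduct.tmul_zero]
  | add y₁ y₂ h₁ h₂ =>
    obtain ⟨n₁, hn₁⟩ := h₁
    obtain ⟨n₂, hn₂⟩ := h₂
    refine ⟨n₁ + n₂, ?_⟩
    have e1 : (algebraMap A B f) ^ (n₁ + n₂) • y₁ = 0 := by
      rw [pow_add, mul_comm, mul_smul, hn₁, smul_zero]
    have e2 : (algebraMap A B f) ^ (n₁ + n₂) • y₂ = 0 := by
      rw [pow_add, mul_smul, hn₂, smul_zero]
    rw [smul_add, e1, e2, add_zero]

lemma bijective_smul_tensor (f : A) (L : Type u) [AddCommGroup L] [Module A L]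
    (hf : Function.Bijective (fun x : L => f • x)) :
    Function.Bijective (fun y : B ⊗[A] L => (algebraMap A B f) • y) := by
  let e₀ : L ≃ₗ[A] L := LinearEquiv.ofBijective (LinearMap.lsmul A L f) hf
  have e : (fun y : B ⊗[A] L => (algebraMap A B f) • y) =
      ⇑(TensorProduct.congr (LinearEquiv.refl A B) e₀) := by
    funext y
    induction y using TensorProduct.induction_on with
    | zero => simp
    | tmul b x =>
      rw [TensorProduct.congr_tmul, algebraMap_smul, ← TensorProduct.tmul_smul]
      rfl
    | add y₁ y₂ h₁ h₂ =>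
      have h₁' : (algebraMap A B f) • y₁ = (TensorProduct.congr (LinearEquiv.refl A B) e₀) y₁ := h₁
      have h₂' : (algebraMap A B f) • y₂ = (TensorProduct.congr (LinearEquiv.refl A B) e₀) y₂ := h₂
      change (algebraMap A B f) • (y₁ + y₂) = _
      rw [smul_add, map_add, h₁', h₂']
  rw [e]
  exact LinearEquiv.bijective _

end tors

end Groth.Agent.Lib.Helper21.ExtTorsA
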