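import Mathlib

/-!
# Bijectivity of a triangulated functor on maps out of a fixed object (helper21)

For a triangulated functor `F` and a fixed object `E`, the objects `X` such that
`F : Hom(E, X⟦i⟧) → Hom(F E, F (X⟦i⟧))` is bijective for all `i` satisfy two-out-of-three in
distinguished triangles (five lemma).  Also: generic facts on units of adjunctions.
-/

set_option autoImplicit false
set_option linter.unusedSectionVars false

open CategoryTheory CategoryTheory.Limits CategoryTheory.Pretriangulated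

namespace Groth.Agent.Lib.Helper21.TriBij

universe v₁ v₂ u₁ u₂

section adj

variable {C : Type u₁} {D : Type u₂} [Category.{v₁} C] [Category.{v₂} D]
  {F : C ⥤ D} {G : D ⥤ C} (adj : F ⊣ G)

/-- invertibility of the unit is invariant under isomorphism -/
lemma isIso_unit_of_iso {X Y : C} (e : X ≅ Y) [IsIso (adj.unit.app X)] :
    IsIso (adj.unit.app Y) := by
  have h : adj.unit.app Y = e.inv ≫ adj.unit.app X ≫ G.map (F.map e.hom) := by
    rw [Iso.eq_inv_comp]
    exact adj.unit.naturality e.hom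
  rw [h]
  infer_instance

/-- if the unit at `X` is invertible then `F` is bijective on maps into `X` -/
lemma bijective_map_of_isIso_unit (E X : C) [IsIso (adj.unit.app X)] :
    Function.Bijective (fun g : E ⟶ X => F.map g) := by
  have h : (fun g : E ⟶ X => F.map g) =
      (adj.homEquiv E (F.obj X)).symm ∘ (fun g : E ⟶ X => g ≫ adj.unit.app X) := by
    funext g
    apply (adj.homEquiv E (F.obj X)).injective
    rw [Function.comp_apply, Equiv.apply_symm_apply, Adjunction.homEquiv_unit]
    exact (adj.unit.naturality g).symm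
  rw [h]
  refine (Equiv.bijective _).comp ⟨fun a b hab => (cancel_mono (adj.unit.app X)).1 hab, fun a => ?_⟩
  exact ⟨a ≫ inv (adj.unit.app X), by simp⟩

end adj

section tri

variable {C : Type u₁} {D : Type u₂} [Category.{v₁} C] [Category.{v₂} D]
  [Preadditive C] [Preadditive D] [HasZeroObject C] [HasZeroObject D]
  [HasShift C ℤ] [HasShift D ℤ]
  [∀ n : ℤ, (shiftFunctor C n).Additive] [∀ n : ℤ, (shiftFunctor D n).Additive]
  [Pretriangulated C] [Pretriangulated D]
  {F : C ⥤ D} [F.CommShift ℤ] [F.IsTriangulated] {E : C}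

lemma injective_of_iso {X Y : C} (e : X ≅ Y)
    (h : Function.Injective (fun g : E ⟶ X => F.map g)) :
    Function.Injective (fun g : E ⟶ Y => F.map g) := by
  intro g₁ g₂ hg
  have hg' : F.map g₁ = F.map g₂ := hg
  have h1 : F.map (g₁ ≫ e.inv) = F.map (g₂ ≫ e.inv) := by
    rw [F.map_comp, F.map_comp, hg']
  have h2 : g₁ ≫ e.inv = g₂ ≫ e.inv := h h1
  exact (cancel_mono e.inv).1 h2

lemma surjective_of_iso {X Y : C} (e : X ≅ Y)
    (h : Function.Surjective (fun g : E ⟶ X => F.map g)) :
    Function.Surjective (fun g : E ⟶ Y => F.map g) := by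
  intro a
  obtain ⟨b, hb⟩ := h (a ≫ F.map e.inv)
  have hb' : F.map b = a ≫ F.map e.inv := hb
  refine ⟨b ≫ e.hom, ?_⟩
  change F.map (b ≫ e.hom) = a
  rw [F.map_comp, hb', Category.assoc, ← F.map_comp, e.inv_hom_id, F.map_id, Category.comp_id]

/-- five lemma -/
lemma bijective_obj₂ (T : Triangle C) (hT : T ∈ distTriang C)
    (h1 : Function.Bijective (fun g : E ⟶ T.obj₁ => F.map g))
    (h3 : Function.Bijective (fun g : E ⟶ T.obj₃ => F.map g))
    (hinj : Function.Injective (fun g : E ⟶ T.obj₁⟦(1 : ℤ)⟧ => F.map g))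
    (hsurj : Function.Surjective (fun g : E ⟶ T.invRotate.obj₁ => F.map g)) :
    Function.Bijective (fun g : E ⟶ T.obj₂ => F.map g) := by
  have hFT : F.mapTriangle.obj T ∈ distTriang D := F.map_distinguished T hT
  have hT' : T.invRotate ∈ distTriang C := inv_rot_of_distTriang T hT
  have hFT' : F.mapTriangle.obj T.invRotate ∈ distTriang D := F.map_distinguished _ hT'
  constructor
  · intro a₁ a₂ ha
    have ha' : F.map a₁ = F.map a₂ := ha
    have h0 : F.map (a₁ - a₂) = 0 := by rw [F.map_sub, ha', sub_self]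
    suffices hz : a₁ - a₂ = 0 from sub_eq_zero.1 hz
    generalize a₁ - a₂ = a at h0 ⊢
    have h2 : a ≫ T.mor₂ = 0 := by
      apply h3.1
      change F.map (a ≫ T.mor₂) = F.map 0
      rw [F.map_comp, h0, zero_comp, F.map_zero]
    obtain ⟨b, hb⟩ := Triangle.coyoneda_exact₂ T hT a h2
    have h4 : F.map b ≫ (F.mapTriangle.obj T.invRotate).mor₂ = 0 := by
      change F.map b ≫ F.map T.mor₁ = 0
      rw [← F.map_comp, ← hb, h0]
    obtain ⟨c', hc'⟩ := Triangle.coyoneda_exact₂ (F.mapTriangle.obj T.invRotate) hFT' (F.map b) h4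
    obtain ⟨c, hc⟩ := hsurj c'
    have hc2 : F.map c = c' := hc
    have hc3 : F.map b = c' ≫ F.map T.invRotate.mor₁ := hc'
    have h5 : b = c ≫ T.invRotate.mor₁ := by
      apply h1.1
      change F.map b = F.map (c ≫ T.invRotate.mor₁)
      rw [F.map_comp, hc2]
      exact hc3
    rw [hb, h5]
    change (c ≫ T.invRotate.mor₁) ≫ T.invRotate.mor₂ = 0
    rw [Category.assoc, comp_distTriang_mor_zero₁₂ T.invRotate hT', comp_zero]
  · intro a'
    obtain ⟨c, hc⟩ := h3.2 (a' ≫ F.map T.mor₂)
    have hc2 : F.map c = a' ≫ F.map T.mor₂ := hc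
    have h6 : c ≫ T.mor₃ = 0 := by
      apply hinj
      change F.map (c ≫ T.mor₃) = F.map 0
      rw [F.map_comp, hc2, Category.assoc, ← F.map_comp, comp_distTriang_mor_zero₂₃ T hT,
        F.map_zero, comp_zero, F.map_zero]
    obtain ⟨b, hb⟩ := Triangle.coyoneda_exact₃ T hT c h6
    have h7 : (a' - F.map b) ≫ (F.mapTriangle.obj T).mor₂ = 0 := by
      change (a' - F.map b) ≫ F.map T.mor₂ = 0
      rw [Preadditive.sub_comp, ← F.map_comp, ← hb, hc2, sub_self]
    obtain ⟨d', hd3⟩ : ∃ d' : F.obj E ⟶ F.obj T.obj₁, a' - F.map b = d' ≫ F.map T.mor₁ :=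
      Triangle.coyoneda_exact₂ (F.mapTriangle.obj T) hFT (a' - F.map b) h7
    obtain ⟨d, hd⟩ := h1.2 d'
    have hd2 : F.map d = d' := hd
    refine ⟨b + d ≫ T.mor₁, ?_⟩
    change F.map (b + d ≫ T.mor₁) = a'
    rw [F.map_add, F.map_comp, hd2, ← hd3]
    abel

variable (F E) in
/-- `F` is bijective on maps from `E` into all shifts of `X` -/
def Good (X : C) : Prop :=
  ∀ i : ℤ, Function.Bijective (fun g : E ⟶ X⟦i⟧ => F.map g)

lemma good_of_iso {X Y : C} (e : X ≅ Y) (h : Good F E X) : Good F E Y := fun i =>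
  ⟨injective_of_iso ((shiftFunctor C i).mapIso e) (h i).1,
    surjective_of_iso ((shiftFunctor C i).mapIso e) (h i).2⟩

lemma good_shift {X : C} (h : Good F E X) (n : ℤ) : Good F E (X⟦n⟧) := fun i => by
  have e : X⟦n + i⟧ ≅ (X⟦n⟧)⟦i⟧ := (shiftFunctorAdd C n i).app X
  exact ⟨injective_of_iso e (h (n + i)).1, surjective_of_iso e (h (n + i)).2⟩

lemma good_obj₂ (T : Triangle C) (hT : T ∈ distTriang C) (h1 : Good F E T.obj₁)
    (h3 : Good F E T.obj₃) : Good F E T.obj₂ := fun i => by
  have hTi : (Triangle.shiftFunctor C i).obj T ∈ distTriang C :=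
    Triangle.shift_distinguished T hT i
  refine bijective_obj₂ ((Triangle.shiftFunctor C i).obj T) hTi (h1 i) (h3 i) ?_ ?_
  · exact injective_of_iso ((shiftFunctorAdd C i 1).app T.obj₁) (h1 (i + 1)).1
  · exact surjective_of_iso ((shiftFunctorAdd C i (-1)).app T.obj₃) (h3 (i + -1)).2

lemma good_obj₃ (T : Triangle C) (hT : T ∈ distTriang C) (h1 : Good F E T.obj₁)
    (h2 : Good F E T.obj₂) : Good F E T.obj₃ :=
  good_obj₂ T.rotate (rot_of_distTriang T hT) h2 (good_shift h1 1)

lemma good_obj₁ (T : Triangle C) (hT : T ∈ distTriang C) (h2 : Good F E T.obj₂)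
    (h3 : Good F E T.obj₃) : Good F E T.obj₁ :=
  good_obj₂ T.invRotate (inv_rot_of_distTriang T hT) (good_shift h3 (-1)) h2

end tri

end Groth.Agent.Lib.Helper21.TriBij
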