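import Mathlib
import Groth.Agent.Lib.Helper18.LBCAdj
import Groth.Agent.Lib.Helper18.DRExt2
import Groth.Agent.Lib.Helper21.TriBij
import Groth.Agent.Lib.Helper21.ExtTorsA

/-!
# Flat extension of scalars on derived categories: units of the adjunction (helper21)

(The adjunction `extAdj` is copied from helper18's `Shr.extAdj`, to keep imports light.)
-/

set_option autoImplicit false
set_option linter.style.haveILetI false
set_option linter.unusedSectionVars false
universe u
open CategoryTheory CategoryTheory.Limits DerivedCategory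
open scoped TensorProduct
open Groth.Agent.Lib.Helper18.DR

attribute [local instance] HasDerivedCategory.standard

namespace Groth.Agent.Lib.Helper21.ExtTorsB

variable (A B : Type u) [CommRing A] [CommRing B] [Algebra A B] [Module.Flat A B]

noncomputable instance catCommSqExtD :
    CatCommSq ((extM (A := A) (B := B)).mapHomologicalComplex (ComplexShape.up ℤ))
      (DerivedCategory.Q : DRing.Cx A ⥤ Dual.D A) (DerivedCategory.Q : DRing.Cx B ⥤ Dual.D B)
      (extD A B) :=
  ⟨((extM (A := A) (B := B)).mapDerivedCategoryFactors).symm⟩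

noncomputable instance catCommSqResD :
    CatCommSq ((ModuleCat.restrictScalars.{u} (algebraMap A B)).mapHomologicalComplex
        (ComplexShape.up ℤ))
      (DerivedCategory.Q : DRing.Cx B ⥤ Dual.D B) (DerivedCategory.Q : DRing.Cx A ⥤ Dual.D A)
      (DRing.restrictD (algebraMap A B)) :=
  ⟨((ModuleCat.restrictScalars.{u} (algebraMap A B)).mapDerivedCategoryFactors).symm⟩

/-- flat extension of scalars is left adjoint to restriction on derived categories -/
noncomputable def extAdj : extD A B ⊣ DRing.restrictD (algebraMap A B) :=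
  (LBCAdj.adjCx (ComplexShape.up ℤ)
    (ModuleCat.extendRestrictScalarsAdj.{u, u, u} (algebraMap A B))).localization
    (DerivedCategory.Q : DRing.Cx A ⥤ Dual.D A)
    (HomologicalComplex.quasiIso (ModuleCat.{u} A) (ComplexShape.up ℤ))
    (DerivedCategory.Q : DRing.Cx B ⥤ Dual.D B)
    (HomologicalComplex.quasiIso (ModuleCat.{u} B) (ComplexShape.up ℤ))
    (extD A B) (DRing.restrictD (algebraMap A B))

/-- the derived unit at a complex whose terms have invertible module-level units -/
lemma isIso_unit_Q (K : DRing.Cx A)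
    (h : ∀ j : ℤ, IsIso ((ModuleCat.extendRestrictScalarsAdj.{u, u, u}
      (algebraMap A B)).unit.app (K.X j))) :
    IsIso ((extAdj A B).unit.app (DerivedCategory.Q.obj K)) := by
  haveI h1 : IsIso ((LBCAdj.adjCx (ComplexShape.up ℤ)
      (ModuleCat.extendRestrictScalarsAdj.{u, u, u} (algebraMap A B))).unit.app K) := by
    haveI : ∀ j : ℤ, IsIso (((LBCAdj.adjCx (ComplexShape.up ℤ)
        (ModuleCat.extendRestrictScalarsAdj.{u, u, u} (algebraMap A B))).unit.app K).f j) := h
    exact HomologicalComplex.Hom.isIso_of_components _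
  have h2 : (extAdj A B).unit.app (DerivedCategory.Q.obj K) = _ :=
    Adjunction.localization_unit_app (LBCAdj.adjCx (ComplexShape.up ℤ)
      (ModuleCat.extendRestrictScalarsAdj.{u, u, u} (algebraMap A B)))
      (DerivedCategory.Q : DRing.Cx A ⥤ Dual.D A)
      (HomologicalComplex.quasiIso (ModuleCat.{u} A) (ComplexShape.up ℤ))
      (DerivedCategory.Q : DRing.Cx B ⥤ Dual.D B)
      (HomologicalComplex.quasiIso (ModuleCat.{u} B) (ComplexShape.up ℤ))
      (extD A B) (DRing.restrictD (algebraMap A B)) K
  rw [h2]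
  infer_instance

/-- module-level unit is invertible when `x ↦ 1 ⊗ x` is bijective -/
lemma isIso_unit_of_bijective (N : ModuleCat.{u} A)
    (h : Function.Bijective (fun x : N => (1 : B) ⊗ₜ[A] x)) :
    IsIso ((ModuleCat.extendRestrictScalarsAdj.{u, u, u} (algebraMap A B)).unit.app N) := by
  have h3 : (fun x : N => (extMEquiv (B := B) N)
      (((ModuleCat.extendRestrictScalarsAdj.{u, u, u} (algebraMap A B)).unit.app N).hom x)) =
      fun x : N => (1 : B) ⊗ₜ[A] x := by
    funext x
    rfl
  have h4 : Function.Bijective (⇑(extMEquiv (B := B) N) ∘ (fun x : N =>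
      (((ModuleCat.extendRestrictScalarsAdj.{u, u, u} (algebraMap A B)).unit.app N).hom x))) := by
    change Function.Bijective (fun x : N => (extMEquiv (B := B) N)
      (((ModuleCat.extendRestrictScalarsAdj.{u, u, u} (algebraMap A B)).unit.app N).hom x))
    rw [h3]
    exact h
  have h5 := ((extMEquiv (B := B) N).bijective.of_comp_iff' _).1 h4
  exact (ConcreteCategory.isIso_iff_bijective _).2 h5

/-- the derived unit at a shifted module -/
lemma isIso_unit_shift_inD (N : Type u) [AddCommGroup N] [Module A N]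
    (h : Function.Bijective (fun x : N => (1 : B) ⊗ₜ[A] x)) (i : ℤ) :
    IsIso ((extAdj A B).unit.app ((Dual.inD A N)⟦i⟧)) := by
  let K₀ : DRing.Cx A :=
    (CochainComplex.singleFunctor (ModuleCat.{u} A) 0).obj (ModuleCat.of A N)
  have hK₀ : ∀ j : ℤ, IsIso ((ModuleCat.extendRestrictScalarsAdj.{u, u, u}
      (algebraMap A B)).unit.app (K₀.X j)) := by
    intro j
    by_cases hj : j = 0
    · subst hj
      haveI := isIso_unit_of_bijective A B (ModuleCat.of A N) h
      exact TriBij.isIso_unit_of_iso _
        (HomologicalComplex.singleObjXSelf (ComplexShape.up ℤ) 0 (ModuleCat.of A N)).symm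
    · have hz : IsZero (K₀.X j) :=
        HomologicalComplex.isZero_single_obj_X (ComplexShape.up ℤ) 0 (ModuleCat.of A N) j hj
      have hz' : IsZero ((ModuleCat.restrictScalars.{u} (algebraMap A B)).obj
          ((ModuleCat.extendScalars.{u, u, u} (algebraMap A B)).obj (K₀.X j))) :=
        Functor.map_isZero _ (Functor.map_isZero _ hz)
      exact ⟨⟨0, hz.eq_of_src _ _, hz'.eq_of_src _ _⟩⟩
  have hK : ∀ j : ℤ, IsIso ((ModuleCat.extendRestrictScalarsAdj.{u, u, u}
      (algebraMap A B)).unit.app ((K₀⟦i⟧).X j)) := fun j => hK₀ (j + i)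
  haveI := isIso_unit_Q A B (K₀⟦i⟧) hK
  let e : DerivedCategory.Q.obj (K₀⟦i⟧) ≅ (Dual.inD A N)⟦i⟧ :=
    (DerivedCategory.Q.commShiftIso i).app K₀ ≪≫ (shiftFunctor (Dual.D A) i).mapIso
      ((DerivedCategory.singleFunctorIsoCompQ (ModuleCat.{u} A) 0).app (ModuleCat.of A N)).symm
  exact TriBij.isIso_unit_of_iso (extAdj A B) e

/-- flat extension of scalars is bijective on maps into a shifted module `N` with `N ≅ B ⊗ N` -/
theorem bijective_map_shift_inD (E : Dual.D A) (N : Type u) [AddCommGroup N] [Module A N]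
    (h : Function.Bijective (fun x : N => (1 : B) ⊗ₜ[A] x)) (i : ℤ) :
    Function.Bijective (fun g : E ⟶ (Dual.inD A N)⟦i⟧ => (extD A B).map g) := by
  haveI := isIso_unit_shift_inD A B N h i
  exact TriBij.bijective_map_of_isIso_unit (extAdj A B) E _

/-- no maps from `M` to shifts of `L` when `B ⊗ M = 0` and `L ≅ B ⊗ L` -/
theorem subsingleton_hom_of_tensor (M L : Type u) [AddCommGroup M] [Module A M]
    [AddCommGroup L] [Module A L] (hM : Subsingleton (B ⊗[A] M))
    (hL : Function.Bijective (fun x : L => (1 : B) ⊗ₜ[A] x)) (i : ℤ) :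
    Subsingleton (Dual.inD A M ⟶ (Dual.inD A L)⟦i⟧) := by
  have hb := bijective_map_shift_inD A B (Dual.inD A M) L hL i
  have hz : IsZero ((extD A B).obj (Dual.inD A M)) := by
    refine IsZero.of_iso ?_ (extDInDIso (B := B) M)
    haveI := hM
    exact Functor.map_isZero _ (ModuleCat.isZero_of_subsingleton _)
  constructor
  intro g₁ g₂
  exact hb.1 (hz.eq_of_src _ _)

/-- flat base change of a shifted module -/
noncomputable def extDShiftInDIso (N : Type u) [AddCommGroup N] [Module A N] (i : ℤ) :
    (extD A B).obj ((Dual.inD A N)⟦i⟧) ≅ (Dual.inD B (B ⊗[A] N))⟦i⟧ :=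
  ((extD A B).commShiftIso i).app (Dual.inD A N) ≪≫
    (shiftFunctor (Dual.D B) i).mapIso (extDInDIso (B := B) N)

end Groth.Agent.Lib.Helper21.ExtTorsB
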