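import Mathlib
import Groth.Prelude.Def_DRing3
import Groth.Agent.Lib.Helper13.KInjCompute
import Groth.Agent.Lib.Helper2.KInj.Main
import Groth.Agent.Lib.Helper18.DRQis

/-!
# `RΓ_I` on `D(A)` computed by K-injective resolutions (helper21)

* `gI I E`, `iotaC I E`: the complex `Γ_I(E)` and its inclusion into `E`.
* `uu I E : Q(Γ_I E) ⟶ RΓ_I(Q E)` (an isomorphism for `E` K-injective) and `uu_eps`: compatibility
  with the canonical map `RΓ_I ⟶ 𝟭`.
* `isZero_Q_obj_of_acyclic`.
-/

set_option autoImplicit false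
set_option linter.style.haveILetI false
set_option linter.unusedSectionVars false
universe u
open CategoryTheory CategoryTheory.Limits DerivedCategory ZeroObject

attribute [local instance] HasDerivedCategory.standard

namespace Groth.Agent.Lib.Helper21.RGa

open Groth.Agent.Lib.Helper13.KInjCompute

lemma hasKInjInj (A : Type u) [CommRing A] : HasKInjInj (ModuleCat.{u} A) := fun K => by
  obtain ⟨E, f, h1, h2, -, h4⟩ := Groth.Agent.Lib.Helper2.KInj.exists_kInjective_resolution K
  exact ⟨E, f, h1, h2, h4⟩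

lemma hasKInj (A : Type u) [CommRing A] : HasKInj (ModuleCat.{u} A) := (hasKInjInj A).hasKInj

variable {A : Type u} [CommRing A] (I : Ideal A)

/-- the complex `Γ_I(E)` -/
noncomputable abbrev gI (E : DRing.Cx A) : DRing.Cx A :=
  ((DRing.gammaI I).mapHomologicalComplex (ComplexShape.up ℤ)).obj E

/-- the inclusion `Γ_I(E) ⟶ E` -/
noncomputable def iotaC (E : DRing.Cx A) : gI I E ⟶ E :=
  (NatTrans.mapHomologicalComplex (DRing.gammaIι I) (ComplexShape.up ℤ)).app E ≫
    (Functor.mapHomologicalComplexIdIso (ModuleCat.{u} A) (ComplexShape.up ℤ)).hom.app E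

lemma iotaC_f (E : DRing.Cx A) (n : ℤ) : (iotaC I E).f n = (DRing.gammaIι I).app (E.X n) := by
  rw [iotaC, HomologicalComplex.comp_f]
  exact Category.comp_id _

lemma iotaC_f_apply (E : DRing.Cx A) (n : ℤ) (x : (gI I E).X n) :
    ((iotaC I E).f n).hom x = (x : DRing.torsionSub I (E.X n)).1 := by
  rw [iotaC_f]
  rfl

@[reassoc]
lemma iotaC_naturality {E E' : DRing.Cx A} (φ : E ⟶ E') :
    ((DRing.gammaI I).mapHomologicalComplex (ComplexShape.up ℤ)).map φ ≫ iotaC I E' =
      iotaC I E ≫ φ := by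
  ext n : 1
  rw [HomologicalComplex.comp_f, HomologicalComplex.comp_f, iotaC_f, iotaC_f]
  exact (DRing.gammaIι I).naturality (φ.f n)

lemma gammaIτ_app (E : DRing.Cx A) :
    (DRing.gammaIτ I).app ((HomotopyCategory.quotient _ _).obj E) =
      DerivedCategory.Q.map (iotaC I E) := by
  change (DRing.gammaIτ0 I).app E = _
  have h1 : ((DRing.gammaI I).mapHomotopyCategoryFactors (ComplexShape.up ℤ)).hom.app E = 𝟙 _ := rfl
  have e2 : ∀ {X Y Z : Dual.D A} (i : X ⟶ X) (_ : i = 𝟙 X) (p : X ⟶ Y) (q : Y ⟶ Z),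
      𝟙 X ≫ (i ≫ (𝟙 X ≫ (p ≫ (q ≫ 𝟙 Z)))) = p ≫ q := by
    intro X Y Z i hi p q
    subst hi
    simp
  rw [iotaC, CategoryTheory.Functor.map_comp]
  exact e2 _ ((congrArg (fun t => Qh.map t) h1).trans (CategoryTheory.Functor.map_id _ _)) _ _

variable [DRing.HasRgammaI I]

/-- the canonical map `Q(Γ_I E) ⟶ RΓ_I(Q E)` -/
noncomputable abbrev uu (E : DRing.Cx A) :
    DerivedCategory.Q.obj (gI I E) ⟶ (DRing.RgammaI I).obj (DerivedCategory.Q.obj E) :=
  u (DRing.gammaI I) E

lemma isIso_uu (E : DRing.Cx A) (hE : E.IsKInjective) : IsIso (uu I E) :=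
  isIso_u (DRing.gammaI I) (hasKInj A) E hE

lemma uu_naturality {E E' : DRing.Cx A} (φ : E ⟶ E') :
    DerivedCategory.Q.map (((DRing.gammaI I).mapHomologicalComplex (ComplexShape.up ℤ)).map φ) ≫
      uu I E' = uu I E ≫ (DRing.RgammaI I).map (DerivedCategory.Q.map φ) :=
  u_naturality (DRing.gammaI I) φ

@[reassoc]
lemma uu_eps (E : DRing.Cx A) :
    uu I E ≫ (DRing.RgammaIε I).app (DerivedCategory.Q.obj E) =
      DerivedCategory.Q.map (iotaC I E) := by
  have h := Functor.rightDerived_fac_app (DRing.RgammaI I)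
    ((DRing.gammaIKh I).totalRightDerivedUnit DerivedCategory.Qh
      (HomotopyCategory.quasiIso (ModuleCat.{u} A) (ComplexShape.up ℤ)))
    (HomotopyCategory.quasiIso (ModuleCat.{u} A) (ComplexShape.up ℤ)) (𝟭 (Dual.D A))
    (DRing.gammaIτ I ≫ (Functor.rightUnitor _).inv)
    ((HomotopyCategory.quotient _ _).obj E)
  rw [NatTrans.comp_app, gammaIτ_app] at h
  refine h.trans ?_
  exact Category.comp_id _

/-- every object of `D(A)` is represented by a K-injective complex with injective terms -/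
lemma exists_model (K : Dual.D A) :
    ∃ E : DRing.Cx A, E.IsKInjective ∧ (∀ n, Injective (E.X n)) ∧
      Nonempty (K ≅ DerivedCategory.Q.obj E) :=
  Groth.Agent.Lib.Helper13.KInjCompute.exists_model (hasKInjInj A) K

omit [DRing.HasRgammaI I] in
lemma isZero_Q_obj_of_acyclic (X : DRing.Cx A) (h : X.Acyclic) :
    IsZero (DerivedCategory.Q.obj X) := by
  haveI : QuasiIso (0 : X ⟶ 0) := ⟨fun n =>
    (quasiIsoAt_iff_exactAt (0 : X ⟶ 0) n (h n)).2
      (HomologicalComplex.acyclic_of_isZero (K := (0 : DRing.Cx A)) (isZero_zero _) n)⟩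
  haveI : IsIso (DerivedCategory.Q.map (0 : X ⟶ 0)) := inferInstance
  exact IsZero.of_iso (Functor.map_isZero DerivedCategory.Q (isZero_zero _))
    (asIso (DerivedCategory.Q.map (0 : X ⟶ 0)))

end Groth.Agent.Lib.Helper21.RGa
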