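import Mathlib
import Groth.Agent.Lib.Helper21.RGa
import Groth.Agent.Lib.Helper21.ExtTorsB
import Groth.Agent.Lib.Helper4.LC5
import Groth.Agent.Lib.Helper18.DRExt

/-!
# `RΓ_I` over a Noetherian ring: torsion cohomology and the coreflection property (helper21)

For a Noetherian ring `A`, an ideal `I` and a complex `E` of injective modules, the inclusion
`Γ_I(E) ⟶ E` induces bijections `Hom(L, Γ_I E) ≃ Hom(L, E)` in `D(A)` for every `L` with
`I`-power torsion cohomology (induction on generators of `I`, localization triangles).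
-/

set_option autoImplicit false
set_option linter.style.haveILetI false
set_option linter.unusedSectionVars false
universe u
open CategoryTheory CategoryTheory.Limits CategoryTheory.Pretriangulated DerivedCategory
open scoped TensorProduct

attribute [local instance] HasDerivedCategory.standard

namespace Groth.Agent.Lib.Helper21.RGb

open Groth.Agent.Lib.Helper21.RGa Groth.Agent.Lib.Helper18.DR
  Groth.Agent.Lib.Helper13.KInjCompute Groth.Agent.Lib.Helper21.ExtTorsA
  Groth.Agent.Lib.Helper4.LC

variable {A : Type u} [CommRing A]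

/-! ### torsion cohomology -/

lemma injective_of_isIso {M N : ModuleCat.{u} A} (φ : M ⟶ N) [IsIso φ] :
    Function.Injective φ.hom :=
  ((ConcreteCategory.isIso_iff_bijective φ).1 inferInstance).1

/-- `b`-power torsion cohomology -/
def TorsAt (b : A) (L : Dual.D A) : Prop := ∀ i : ℤ, TorsBy b (Dual.HD A L i)

lemma torsAt_of_iso {b : A} {L L' : Dual.D A} (e : L ≅ L') (h : TorsAt b L) : TorsAt b L' :=
  fun i => torsBy_of_injective
    ((DerivedCategory.homologyFunctor (ModuleCat.{u} A) i).map e.inv).hom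
    (injective_of_isIso _) (h i)

lemma torsAt_of_isPowerTorsion {I : Ideal A} {b : A} (hb : b ∈ I) {L : Dual.D A}
    (h : ∀ i : ℤ, LocCoh.IsPowerTorsion I (Dual.HD A L i)) : TorsAt b L := fun i x => by
  obtain ⟨n, hn⟩ := h i x
  exact ⟨n, hn _ (Ideal.pow_mem_pow hb n)⟩

lemma torsBy_homology (b : A) (X : DRing.Cx A) (i : ℤ) (h : TorsBy b (X.X i)) :
    TorsBy b (X.homology i) :=
  torsBy_of_surjective (X.homologyπ i).hom ((ModuleCat.epi_iff_surjective _).1 inferInstance)
    (torsBy_of_injective (X.iCycles i).hom ((ModuleCat.mono_iff_injective _).1 inferInstance) h)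

lemma torsAt_Q (b : A) (X : DRing.Cx A) (h : ∀ i, TorsBy b (X.X i)) :
    TorsAt b (DerivedCategory.Q.obj X) := fun i =>
  torsBy_of_injective
    ((DerivedCategory.homologyFunctorFactors (ModuleCat.{u} A) i).hom.app X).hom
    (injective_of_isIso _) (torsBy_homology b X i (h i))

lemma torsBy_gI {I : Ideal A} {b : A} (hb : b ∈ I) (E : DRing.Cx A) (i : ℤ) :
    TorsBy b ((gI I E).X i) := by
  intro x
  obtain ⟨n, hn⟩ := (show ↥(DRing.torsionSub I (E.X i)) from x).2
  exact ⟨n, Subtype.ext (hn _ (Ideal.pow_mem_pow hb n))⟩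

lemma isPowerTorsion_homology (I : Ideal A) (X : DRing.Cx A) (i : ℤ)
    (h : LocCoh.IsPowerTorsion I (X.X i)) : LocCoh.IsPowerTorsion I (X.homology i) :=
  isPowerTorsion_of_surjective I (X.homologyπ i).hom
    ((ModuleCat.epi_iff_surjective _).1 inferInstance)
    (isPowerTorsion_of_injective I (X.iCycles i).hom
      ((ModuleCat.mono_iff_injective _).1 inferInstance) h)

lemma isPowerTorsion_HD_Q (I : Ideal A) (X : DRing.Cx A) (i : ℤ)
    (h : LocCoh.IsPowerTorsion I (X.X i)) :
    LocCoh.IsPowerTorsion I (Dual.HD A (DerivedCategory.Q.obj X) i) :=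
  isPowerTorsion_of_injective I
    ((DerivedCategory.homologyFunctorFactors (ModuleCat.{u} A) i).hom.app X).hom
    (injective_of_isIso _) (isPowerTorsion_homology I X i h)

lemma isPowerTorsion_HD_of_iso (I : Ideal A) {L L' : Dual.D A} (e : L ≅ L') (i : ℤ)
    (h : LocCoh.IsPowerTorsion I (Dual.HD A L i)) : LocCoh.IsPowerTorsion I (Dual.HD A L' i) :=
  isPowerTorsion_of_injective I
    ((DerivedCategory.homologyFunctor (ModuleCat.{u} A) i).map e.inv).hom
    (injective_of_isIso _) h

lemma isPowerTorsion_gI_X (I : Ideal A) (E : DRing.Cx A) (i : ℤ) :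
    LocCoh.IsPowerTorsion I ((gI I E).X i) :=
  isPowerTorsion_torsionSub I (E.X i)

/-- the cohomology of `RΓ_I(K)` is `I`-power torsion -/
theorem isPowerTorsion_HD_RgammaI (I : Ideal A) [DRing.HasRgammaI I] (K : Dual.D A) (i : ℤ) :
    LocCoh.IsPowerTorsion I (Dual.HD A ((DRing.RgammaI I).obj K) i) := by
  obtain ⟨E, hEK, -, ⟨e⟩⟩ := RGa.exists_model K
  haveI := isIso_uu I E hEK
  exact isPowerTorsion_HD_of_iso I
    ((asIso (uu I E)) ≪≫ (DRing.RgammaI I).mapIso e.symm) i
    (isPowerTorsion_HD_Q I _ i (isPowerTorsion_gI_X I E i))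

/-! ### generalities -/

lemma bijective_comp_of_isIso {C : Type*} [Category C] {X Y Z : C} (m : Y ⟶ Z) [IsIso m] :
    Function.Bijective (fun g : X ⟶ Y => g ≫ m) :=
  ⟨fun a b hab => (cancel_mono m).1 hab, fun a => ⟨a ≫ inv m, by simp⟩⟩

lemma isZero_of_forall_isZero_homology (X : Dual.D A)
    (h : ∀ i : ℤ, IsZero ((DerivedCategory.homologyFunctor (ModuleCat.{u} A) i).obj X)) :
    IsZero X := by
  haveI : X.IsLE 0 := by
    rw [DerivedCategory.isLE_iff]; intro i _; exact h i
  haveI : X.IsGE 1 := by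
    rw [DerivedCategory.isGE_iff]; intro i _; exact h i
  exact TStructure.t.isZero X 0 1 (by omega)

section ext

variable {B : Type u} [CommRing B] [Algebra A B] [Module.Flat A B]

lemma subsingleton_hom_of_isZero_extD (L X : Dual.D A) (hL : IsZero ((extD A B).obj L))
    [IsIso ((ExtTorsB.extAdj A B).unit.app X)] : Subsingleton (L ⟶ X) := by
  constructor
  intro g₁ g₂
  rw [← cancel_mono ((ExtTorsB.extAdj A B).unit.app X)]
  have h1 := (ExtTorsB.extAdj A B).unit.naturality g₁
  have h2 := (ExtTorsB.extAdj A B).unit.naturality g₂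
  simp only [Functor.id_map, Functor.comp_map] at h1 h2
  rw [h1, h2, hL.eq_of_src ((extD A B).map g₁) ((extD A B).map g₂)]

end ext

/-! ### localization at one element -/

section single

variable (b : A)

instance isLocalizedModule_mk (M : Type u) [AddCommGroup M] [Module A M] :
    IsLocalizedModule (Submonoid.powers b) (TensorProduct.mk A (Localization.Away b) M 1) :=
  (isLocalizedModule_iff_isBaseChange (Submonoid.powers b) (Localization.Away b) _).2
    (TensorProduct.isBaseChange A M (Localization.Away b))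

lemma one_tmul_eq_zero_iff (M : Type u) [AddCommGroup M] [Module A M] (x : M) :
    (1 : Localization.Away b) ⊗ₜ[A] x = 0 ↔ ∃ n : ℕ, b ^ n • x = 0 := by
  have h := IsLocalizedModule.eq_zero_iff (Submonoid.powers b)
    (TensorProduct.mk A (Localization.Away b) M 1) (m := x)
  rw [TensorProduct.mk_apply] at h
  rw [h]
  constructor
  · rintro ⟨⟨_, n, rfl⟩, hn⟩
    exact ⟨n, hn⟩
  · rintro ⟨n, hn⟩
    exact ⟨⟨b ^ n, n, rfl⟩, hn⟩

lemma exists_one_tmul_eq [IsNoetherianRing A] (M : Type u) [AddCommGroup M] [Module A M]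
    [Module.Injective A M] (y : Localization.Away b ⊗[A] M) :
    ∃ x : M, (1 : Localization.Away b) ⊗ₜ[A] x = y := by
  obtain ⟨⟨x, ⟨_, n, rfl⟩⟩, hx⟩ := IsLocalizedModule.surj (Submonoid.powers b)
    (TensorProduct.mk A (Localization.Away b) M 1) y
  have hx' : b ^ n • y = (1 : Localization.Away b) ⊗ₜ[A] x := hx
  obtain ⟨x', m, hm⟩ := exists_pow_smul_sub_eq_zero M b x n
  have h0 : (1 : Localization.Away b) ⊗ₜ[A] (b ^ n • x' - x) = 0 :=
    (one_tmul_eq_zero_iff b M _).2 ⟨m, hm⟩
  refine ⟨x', ?_⟩
  apply IsLocalizedModule.smul_injective (TensorProduct.mk A (Localization.Away b) M 1)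
    (⟨b ^ n, n, rfl⟩ : Submonoid.powers b)
  change b ^ n • ((1 : Localization.Away b) ⊗ₜ[A] x') = b ^ n • y
  rw [hx', ← TensorProduct.tmul_smul, ← sub_eq_zero, ← TensorProduct.tmul_sub]
  exact h0

lemma mem_torsionSub_span_iff (M : Type u) [AddCommGroup M] [Module A M] (x : M) :
    x ∈ DRing.torsionSub (Ideal.span {b}) M ↔ ∃ n : ℕ, b ^ n • x = 0 := by
  constructor
  · rintro ⟨n, hn⟩
    exact ⟨n, hn _ (Ideal.pow_mem_pow (Ideal.mem_span_singleton_self b) n)⟩
  · rintro ⟨n, hn⟩
    refine ⟨n, fun a ha => ?_⟩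
    rw [Ideal.span_singleton_pow, Ideal.mem_span_singleton'] at ha
    obtain ⟨c, rfl⟩ := ha
    rw [mul_smul, hn, smul_zero]

/-- the adjunction ext ⊣ res for `A → A_b` -/
noncomputable abbrev adjb := ModuleCat.extendRestrictScalarsAdj.{u, u, u}
  (algebraMap A (Localization.Away b))

lemma unit_eq_zero_iff (M : ModuleCat.{u} A) (x : M) :
    ((adjb b).unit.app M).hom x = 0 ↔ ∃ n : ℕ, b ^ n • x = 0 := by
  rw [← one_tmul_eq_zero_iff b M x]
  constructor
  · intro h
    have h2 := congrArg (fun y => extMEquiv (B := Localization.Away b) M y) h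
    exact h2.trans (map_zero _)
  · intro h
    apply (extMEquiv (B := Localization.Away b) M).injective
    exact h.trans (map_zero _).symm

lemma unit_surjective [IsNoetherianRing A] (M : ModuleCat.{u} A) [Module.Injective A M] :
    Function.Surjective ((adjb b).unit.app M).hom := by
  intro z
  obtain ⟨x, hx⟩ := exists_one_tmul_eq b M (extMEquiv (B := Localization.Away b) M z)
  refine ⟨x, ?_⟩
  apply (extMEquiv (B := Localization.Away b) M).injective
  exact hx

/-- `res ∘ ext` on complexes -/
noncomputable abbrev Rb (E : DRing.Cx A) : DRing.Cx A :=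
  ((ModuleCat.restrictScalars.{u} (algebraMap A (Localization.Away b))).mapHomologicalComplex
    (ComplexShape.up ℤ)).obj
    (((ModuleCat.extendScalars.{u, u, u} (algebraMap A (Localization.Away b))).mapHomologicalComplex
      (ComplexShape.up ℤ)).obj E)

/-- the localization map `E ⟶ E_b` -/
noncomputable abbrev etaC (E : DRing.Cx A) : E ⟶ Rb b E := unitHC (adjb b) E

lemma iotaC_etaC (E : DRing.Cx A) : iotaC (Ideal.span {b}) E ≫ etaC b E = 0 := by
  ext n : 1
  rw [HomologicalComplex.comp_f, HomologicalComplex.zero_f]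
  ext x
  change ((adjb b).unit.app (E.X n)).hom (((iotaC (Ideal.span {b}) E).f n).hom x) = 0
  rw [iotaC_f_apply]
  exact (unit_eq_zero_iff b (E.X n) _).2 ((mem_torsionSub_span_iff b _ _).1
    (show ↥(DRing.torsionSub (Ideal.span {b}) (E.X n)) from x).2)

/-- the short complex `Γ_b E ⟶ E ⟶ E_b` -/
noncomputable def Sb (E : DRing.Cx A) : ShortComplex (DRing.Cx A) :=
  ShortComplex.mk (iotaC (Ideal.span {b}) E) (etaC b E) (iotaC_etaC b E)

lemma Sb_shortExact [IsNoetherianRing A] (E : DRing.Cx A)
    (hE : ∀ n, Module.Injective A (E.X n)) : (Sb b E).ShortExact := by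
  apply HomologicalComplex.shortExact_of_degreewise_shortExact
  intro n
  apply ModuleCat.shortComplex_shortExact
  · intro y
    constructor
    · intro hy
      have hy' : ((adjb b).unit.app (E.X n)).hom y = 0 := hy
      have h1 := (unit_eq_zero_iff b (E.X n) y).1 hy'
      refine ⟨(⟨y, (mem_torsionSub_span_iff b _ y).2 h1⟩ :
        ↥(DRing.torsionSub (Ideal.span {b}) (E.X n))), ?_⟩
      exact iotaC_f_apply _ E n _
    · rintro ⟨x, rfl⟩
      have hx := iotaC_f_apply (Ideal.span {b}) E n x
      exact (congrArg (fun t => ((adjb b).unit.app (E.X n)).hom t) hx).trans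
        ((unit_eq_zero_iff b (E.X n) _).2 ((mem_torsionSub_span_iff b _ _).1
          (show ↥(DRing.torsionSub (Ideal.span {b}) (E.X n)) from x).2))
  · intro x y hxy
    have h1 : ((iotaC (Ideal.span {b}) E).f n).hom x = ((iotaC (Ideal.span {b}) E).f n).hom y :=
      hxy
    have hx := iotaC_f_apply (Ideal.span {b}) E n x
    have hy := iotaC_f_apply (Ideal.span {b}) E n y
    exact Subtype.ext (hx.symm.trans (h1.trans hy))
  · haveI := hE n
    exact unit_surjective b (E.X n)

lemma bijective_smul_res (P : ModuleCat.{u} (Localization.Away b)) :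
    Function.Bijective (fun x : (ModuleCat.restrictScalars.{u}
      (algebraMap A (Localization.Away b))).obj P => b • x) := by
  obtain ⟨v, hv⟩ := IsLocalization.Away.algebraMap_isUnit (S := Localization.Away b) b
  have e : ∀ x : P, (b • (show ↑((ModuleCat.restrictScalars.{u}
      (algebraMap A (Localization.Away b))).obj P) from x) : ↑((ModuleCat.restrictScalars.{u}
      (algebraMap A (Localization.Away b))).obj P)) = (v • x : P) := by
    intro x
    rw [Units.smul_def, hv]
    rfl
  constructor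
  · intro x y hxy
    have h1 : (v • (show P from x) : P) = v • (show P from y) := by
      rw [← e, ← e]
      exact hxy
    exact smul_left_cancel v h1
  · intro y
    refine ⟨(v⁻¹ • (show P from y) : P), ?_⟩
    change b • _ = y
    rw [e]
    exact smul_inv_smul v (show P from y)

lemma isIso_unit_res (P : ModuleCat.{u} (Localization.Away b)) :
    IsIso ((adjb b).unit.app ((ModuleCat.restrictScalars.{u}
      (algebraMap A (Localization.Away b))).obj P)) :=
  ExtTorsB.isIso_unit_of_bijective A (Localization.Away b) _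
    (mk_one_bijective_of_bijective_smul b _ (bijective_smul_res b P))

lemma isIso_unit_Rb (E : DRing.Cx A) :
    IsIso ((ExtTorsB.extAdj A (Localization.Away b)).unit.app
      (DerivedCategory.Q.obj (Rb b E))) :=
  ExtTorsB.isIso_unit_Q A (Localization.Away b) (Rb b E) (fun _ => isIso_unit_res b _)

lemma isIso_unit_shift_Rb (E : DRing.Cx A) (i : ℤ) :
    IsIso ((ExtTorsB.extAdj A (Localization.Away b)).unit.app
      ((DerivedCategory.Q.obj (Rb b E))⟦i⟧)) := by
  haveI := ExtTorsB.isIso_unit_Q A (Localization.Away b) ((Rb b E)⟦i⟧)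
    (fun _ => isIso_unit_res b _)
  let e : DerivedCategory.Q.obj ((Rb b E)⟦i⟧) ≅ (DerivedCategory.Q.obj (Rb b E))⟦i⟧ :=
    (DerivedCategory.Q.commShiftIso i).app (Rb b E)
  exact TriBij.isIso_unit_of_iso (ExtTorsB.extAdj A (Localization.Away b)) e

lemma isZero_extD_of_torsAt (L : Dual.D A) (hL : TorsAt b L) :
    IsZero ((extD A (Localization.Away b)).obj L) := by
  apply isZero_of_forall_isZero_homology
  intro i
  refine IsZero.of_iso ?_ (homologyMapDIso (extM (A := A) (B := Localization.Away b)) L i)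
  haveI : Subsingleton (Localization.Away b ⊗[A]
      ((DerivedCategory.homologyFunctor (ModuleCat.{u} A) i).obj L)) :=
    subsingleton_away_tensor b _ (hL i)
  haveI : Subsingleton ((extM (A := A) (B := Localization.Away b)).obj
      ((DerivedCategory.homologyFunctor (ModuleCat.{u} A) i).obj L)) :=
    (extMEquiv (B := Localization.Away b) _).toEquiv.subsingleton
  exact ModuleCat.isZero_of_subsingleton _

/-- one generator: `Hom(L, Γ_b E) ≃ Hom(L, E)` for `L` with `b`-power torsion cohomology -/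
theorem bijective_comp_iotaC_single [IsNoetherianRing A] (E : DRing.Cx A)
    (hE : ∀ n, Module.Injective A (E.X n)) (L : Dual.D A) (hL : TorsAt b L) :
    Function.Bijective (fun g : L ⟶ DerivedCategory.Q.obj (gI (Ideal.span {b}) E) =>
      g ≫ DerivedCategory.Q.map (iotaC (Ideal.span {b}) E)) := by
  have hS := Sb_shortExact b E hE
  have hT : triangleOfSES hS ∈ distTriang (Dual.D A) := triangleOfSES_distinguished hS
  have hz := isZero_extD_of_torsAt b L hL
  have hs0 : Subsingleton (L ⟶ DerivedCategory.Q.obj (Rb b E)) := by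
    haveI := isIso_unit_Rb b E
    exact subsingleton_hom_of_isZero_extD (B := Localization.Away b) L _ hz
  have hs1 : Subsingleton (L ⟶ (DerivedCategory.Q.obj (Rb b E))⟦(-1 : ℤ)⟧) := by
    haveI := isIso_unit_shift_Rb b E (-1)
    exact subsingleton_hom_of_isZero_extD (B := Localization.Away b) L _ hz
  constructor
  · intro g₁ g₂ hg
    have hg' : g₁ ≫ DerivedCategory.Q.map (iotaC (Ideal.span {b}) E) =
        g₂ ≫ DerivedCategory.Q.map (iotaC (Ideal.span {b}) E) := hg
    have h0 : (g₁ - g₂) ≫ (triangleOfSES hS).invRotate.mor₂ = 0 := by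
      change (g₁ - g₂) ≫ DerivedCategory.Q.map (iotaC (Ideal.span {b}) E) = 0
      rw [Preadditive.sub_comp, hg', sub_self]
    obtain ⟨h, hh⟩ : ∃ h : L ⟶ (DerivedCategory.Q.obj (Rb b E))⟦(-1 : ℤ)⟧,
        g₁ - g₂ = h ≫ (triangleOfSES hS).invRotate.mor₁ :=
      Triangle.coyoneda_exact₂ _ (inv_rot_of_distTriang _ hT) (g₁ - g₂) h0
    have h1 : h = 0 := Subsingleton.elim _ _
    subst h1
    exact sub_eq_zero.1 (hh.trans zero_comp)
  · intro g
    have h0 : g ≫ (triangleOfSES hS).mor₂ = 0 := hs0.elim _ _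
    obtain ⟨h, hh⟩ : ∃ h : L ⟶ DerivedCategory.Q.obj (gI (Ideal.span {b}) E),
        g = h ≫ DerivedCategory.Q.map (iotaC (Ideal.span {b}) E) :=
      Triangle.coyoneda_exact₂ _ hT g h0
    exact ⟨h, hh.symm⟩

end single

/-! ### composition of torsion functors -/

section comp

variable (I₁ I₂ I₃ : Ideal A)
  (h : ∀ (M : Type u) [AddCommGroup M] [Module A M] (x : M),
    x ∈ DRing.torsionSub I₃ M ↔ x ∈ DRing.torsionSub I₁ M ∧ x ∈ DRing.torsionSub I₂ M)

/-- `Γ_{I₂}(Γ_{I₁} M) ≃ Γ_{I₃} M` when `I₃`-torsion means `I₁`- and `I₂`-torsion -/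
noncomputable def compEquiv (M : Type u) [AddCommGroup M] [Module A M] :
    DRing.torsionSub I₂ (DRing.torsionSub I₁ M) ≃ₗ[A] DRing.torsionSub I₃ M where
  toFun y := ⟨y.1.1, (h M y.1.1).2 ⟨y.1.2, (mem_torsionSub_subtype_iff I₂ _ y.1).1 y.2⟩⟩
  invFun x := ⟨⟨x.1, ((h M x.1).1 x.2).1⟩,
    (mem_torsionSub_subtype_iff I₂ _ _).2 ((h M x.1).1 x.2).2⟩
  map_add' _ _ := rfl
  map_smul' _ _ := rfl
  left_inv _ := rfl
  right_inv _ := rfl

include h in
lemma exists_gI_comp_iso (E : DRing.Cx A) :
    ∃ θ : gI I₂ (gI I₁ E) ≅ gI I₃ E,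
      θ.hom ≫ iotaC I₃ E = iotaC I₂ (gI I₁ E) ≫ iotaC I₁ E := by
  let θ : gI I₂ (gI I₁ E) ≅ gI I₃ E :=
    HomologicalComplex.Hom.isoOfComponents
      (fun n => (compEquiv I₁ I₂ I₃ h (E.X n)).toModuleIso)
      (fun i j _ => by
        ext y
        apply Subtype.ext
        rfl)
  refine ⟨θ, ?_⟩
  ext n : 1
  simp only [HomologicalComplex.comp_f, iotaC_f]
  rfl

end comp

/-! ### induction on generators -/

lemma isIso_iotaC_of_forall_mem (I : Ideal A) (E : DRing.Cx A)
    (h : ∀ (n : ℤ) (x : E.X n), x ∈ DRing.torsionSub I (E.X n)) : IsIso (iotaC I E) := by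
  haveI : ∀ n, IsIso ((iotaC I E).f n) := fun n => by
    rw [ConcreteCategory.isIso_iff_bijective]
    constructor
    · intro x y hxy
      have h1 : ((iotaC I E).f n).hom x = ((iotaC I E).f n).hom y := hxy
      rw [iotaC_f_apply, iotaC_f_apply] at h1
      exact Subtype.ext h1
    · intro y
      exact ⟨(⟨y, h n y⟩ : ↥(DRing.torsionSub I (E.X n))), iotaC_f_apply I E n _⟩
  exact HomologicalComplex.Hom.isIso_of_components _

theorem bijective_comp_iotaC [IsNoetherianRing A] (s : Finset A) :
    ∀ (E : DRing.Cx A) (_ : ∀ n, Module.Injective A (E.X n)) (L : Dual.D A)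
      (_ : ∀ b ∈ s, TorsAt b L),
      Function.Bijective (fun g : L ⟶ DerivedCategory.Q.obj (gI (Ideal.span (s : Set A)) E) =>
        g ≫ DerivedCategory.Q.map (iotaC (Ideal.span (s : Set A)) E)) := by
  classical
  induction s using Finset.induction_on with
  | empty =>
    intro E hE L hL
    haveI : IsIso (iotaC (Ideal.span ((∅ : Finset A) : Set A)) E) :=
      isIso_iotaC_of_forall_mem _ E (fun n x => ⟨1, fun a ha => by
        rw [pow_one, Finset.coe_empty, Ideal.span_empty, Ideal.mem_bot] at ha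
        rw [ha, zero_smul]⟩)
    exact bijective_comp_of_isIso _
  | insert b s hb ih =>
    intro E hE L hL
    have hmem : ∀ (M : Type u) [AddCommGroup M] [Module A M] (x : M),
        x ∈ DRing.torsionSub (Ideal.span ((insert b s : Finset A) : Set A)) M ↔
          x ∈ DRing.torsionSub (Ideal.span (s : Set A)) M ∧
            x ∈ DRing.torsionSub (Ideal.span {b}) M := by
      intro M _ _ x
      rw [Finset.coe_insert, Ideal.span_insert, mem_torsionSub_sup_iff, and_comm]
    obtain ⟨θ, hθ⟩ := exists_gI_comp_iso (Ideal.span (s : Set A)) (Ideal.span {b})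
      (Ideal.span ((insert b s : Finset A) : Set A)) hmem E
    have hE' : ∀ n, Module.Injective A ((gI (Ideal.span (s : Set A)) E).X n) := fun n => by
      haveI := hE n
      exact injective_torsionSub (Ideal.span (s : Set A)) (E.X n)
    have h1 := ih E hE L (fun c hc => hL c (Finset.mem_insert_of_mem hc))
    have h2 := bijective_comp_iotaC_single b (gI (Ideal.span (s : Set A)) E) hE' L
      (hL b (Finset.mem_insert_self b s))
    have h3 : Function.Bijective
        (fun g : L ⟶ DerivedCategory.Q.obj (gI (Ideal.span ((insert b s : Finset A) : Set A)) E) =>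
          g ≫ DerivedCategory.Q.map θ.inv) := bijective_comp_of_isIso _
    have e : (fun g : L ⟶ DerivedCategory.Q.obj
          (gI (Ideal.span ((insert b s : Finset A) : Set A)) E) =>
        g ≫ DerivedCategory.Q.map (iotaC (Ideal.span ((insert b s : Finset A) : Set A)) E)) =
        (fun g => g ≫ DerivedCategory.Q.map (iotaC (Ideal.span (s : Set A)) E)) ∘
          ((fun g => g ≫ DerivedCategory.Q.map
            (iotaC (Ideal.span {b}) (gI (Ideal.span (s : Set A)) E))) ∘
          (fun g => g ≫ DerivedCategory.Q.map θ.inv)) := by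
      funext g
      simp only [Function.comp_apply, Category.assoc, ← Functor.map_comp]
      rw [← hθ, Iso.inv_hom_id_assoc]
    rw [e]
    exact h1.comp (h2.comp h3)

/-- for a complex of injectives with torsion cohomology, `Γ_I E ⟶ E` is a quasi-isomorphism -/
theorem isIso_Q_map_iotaC [IsNoetherianRing A] (s : Finset A) (E : DRing.Cx A)
    (hE : ∀ n, Module.Injective A (E.X n))
    (hL : ∀ b ∈ s, TorsAt b (DerivedCategory.Q.obj E)) :
    IsIso (DerivedCategory.Q.map (iotaC (Ideal.span (s : Set A)) E)) := by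
  have hX : ∀ b ∈ s, TorsAt b (DerivedCategory.Q.obj (gI (Ideal.span (s : Set A)) E)) :=
    fun b hb => torsAt_Q b _ (fun i => torsBy_gI (Ideal.subset_span hb) E i)
  have hbY := bijective_comp_iotaC s E hE (DerivedCategory.Q.obj E) hL
  have hbX := bijective_comp_iotaC s E hE
    (DerivedCategory.Q.obj (gI (Ideal.span (s : Set A)) E)) hX
  obtain ⟨g, hg⟩ := hbY.2 (𝟙 _)
  have hg' : g ≫ DerivedCategory.Q.map (iotaC (Ideal.span (s : Set A)) E) = 𝟙 _ := hg
  refine ⟨⟨g, ?_, hg'⟩⟩
  apply hbX.1
  change (DerivedCategory.Q.map (iotaC (Ideal.span (s : Set A)) E) ≫ g) ≫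
    DerivedCategory.Q.map (iotaC (Ideal.span (s : Set A)) E) =
    𝟙 _ ≫ DerivedCategory.Q.map (iotaC (Ideal.span (s : Set A)) E)
  rw [Category.assoc, hg', Category.comp_id, Category.id_comp]

/-! ### the canonical map `RΓ_I ⟶ 𝟭` -/

section eps

variable [IsNoetherianRing A] (I : Ideal A) [DRing.HasRgammaI I]

lemma moduleInjective_of_injective (E : DRing.Cx A) (h : ∀ n, Injective (E.X n)) (n : ℤ) :
    Module.Injective A (E.X n) := by
  haveI : Injective (ModuleCat.of A (E.X n)) := h n
  exact Module.injective_module_of_injective_object A (E.X n)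

lemma eps_Q (E : DRing.Cx A) (hE : E.IsKInjective) :
    (DRing.RgammaIε I).app (DerivedCategory.Q.obj E) =
      (haveI := isIso_uu I E hE; inv (uu I E)) ≫ DerivedCategory.Q.map (iotaC I E) := by
  haveI := isIso_uu I E hE
  rw [IsIso.eq_inv_comp]
  exact uu_eps I E

/-- coreflection property of `RΓ_I` over a Noetherian ring -/
theorem bijective_comp_eps (L K : Dual.D A)
    (hL : ∀ i : ℤ, LocCoh.IsPowerTorsion I (Dual.HD A L i)) :
    Function.Bijective (fun g : L ⟶ (DRing.RgammaI I).obj K =>
      g ≫ (DRing.RgammaIε I).app K) := by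
  obtain ⟨s, hs⟩ := (IsNoetherian.noetherian I : I.FG)
  have hs' : Ideal.span (s : Set A) = I := hs
  obtain ⟨E, hEK, hEinj, ⟨e⟩⟩ := RGa.exists_model K
  haveI := isIso_uu I E hEK
  have hb : Function.Bijective (fun g : L ⟶ DerivedCategory.Q.obj (gI I E) =>
      g ≫ DerivedCategory.Q.map (iotaC I E)) := by
    have := bijective_comp_iotaC s E (moduleInjective_of_injective E hEinj) L
      (fun b hb => torsAt_of_isPowerTorsion (hs' ▸ Ideal.subset_span hb) hL)
    rw [hs'] at this
    exact this
  have h1 : Function.Bijective (fun g : L ⟶ (DRing.RgammaI I).obj K =>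
      g ≫ ((DRing.RgammaI I).map e.hom ≫ inv (uu I E))) := bijective_comp_of_isIso _
  have h3 : Function.Bijective (fun g : L ⟶ DerivedCategory.Q.obj E => g ≫ e.inv) :=
    bijective_comp_of_isIso _
  have e' : (fun g : L ⟶ (DRing.RgammaI I).obj K => g ≫ (DRing.RgammaIε I).app K) =
      (fun g : L ⟶ DerivedCategory.Q.obj E => g ≫ e.inv) ∘
        ((fun g : L ⟶ DerivedCategory.Q.obj (gI I E) =>
          g ≫ DerivedCategory.Q.map (iotaC I E)) ∘
        (fun g : L ⟶ (DRing.RgammaI I).obj K =>
          g ≫ ((DRing.RgammaI I).map e.hom ≫ inv (uu I E)))) := by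
    funext g
    have hn := (DRing.RgammaIε I).naturality e.hom
    simp only [Functor.id_map] at hn
    simp only [Function.comp_apply, Category.assoc]
    have h4 : (DRing.RgammaI I).map e.hom ≫ inv (uu I E) ≫
        DerivedCategory.Q.map (iotaC I E) ≫ e.inv = (DRing.RgammaIε I).app K := by
      rw [← Category.assoc (inv (uu I E)), ← eps_Q I E hEK, ← Category.assoc, hn,
        Category.assoc, e.hom_inv_id]
      exact Category.comp_id _
    rw [h4]
  rw [e']
  exact h3.comp (hb.comp h1)

/-- `RΓ_I(K) ⟶ K` is an isomorphism when `K` has `I`-power torsion cohomology -/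
theorem isIso_eps (K : Dual.D A) (hK : ∀ i : ℤ, LocCoh.IsPowerTorsion I (Dual.HD A K i)) :
    IsIso ((DRing.RgammaIε I).app K) := by
  obtain ⟨s, hs⟩ := (IsNoetherian.noetherian I : I.FG)
  have hs' : Ideal.span (s : Set A) = I := hs
  obtain ⟨E, hEK, hEinj, ⟨e⟩⟩ := RGa.exists_model K
  haveI := isIso_uu I E hEK
  rw [NatTrans.isIso_app_iff_of_iso (DRing.RgammaIε I) e, eps_Q I E hEK]
  haveI : IsIso (DerivedCategory.Q.map (iotaC I E)) := by
    have := isIso_Q_map_iotaC s E (moduleInjective_of_injective E hEinj)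
      (fun b hb => torsAt_of_iso e
        (torsAt_of_isPowerTorsion (hs' ▸ Ideal.subset_span hb) hK))
    rw [hs'] at this
    exact this
  infer_instance

end eps

end Groth.Agent.Lib.Helper21.RGb
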