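import Mathlib
import Groth.Agent.Lib.Helper21.RGb

/-!
# `RΓ_J ∘ RΓ_I ≅ RΓ_{I+J}` over a Noetherian ring (helper21)

Uniqueness of coreflections: for a complex `E'` of injective modules, both `Q(Γ_J E')` and
`RΓ_J(Q E')` are coreflections of `Q E'` into the objects with `J`-power torsion cohomology.
-/

set_option autoImplicit false
set_option linter.style.haveILetI false
set_option linter.unusedSectionVars false
universe u
open CategoryTheory CategoryTheory.Limits DerivedCategory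

attribute [local instance] HasDerivedCategory.standard

namespace Groth.Agent.Lib.Helper21.RGd

open Groth.Agent.Lib.Helper21.RGa Groth.Agent.Lib.Helper21.RGb Groth.Agent.Lib.Helper4.LC

lemma exists_iso_of_corefl {C : Type*} [Category C] (P : C → Prop) {X₁ X₂ Y : C}
    (φ₁ : X₁ ⟶ Y) (φ₂ : X₂ ⟶ Y) (h₁ : P X₁) (h₂ : P X₂)
    (b₁ : ∀ L, P L → Function.Bijective (fun g : L ⟶ X₁ => g ≫ φ₁))
    (b₂ : ∀ L, P L → Function.Bijective (fun g : L ⟶ X₂ => g ≫ φ₂)) :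
    ∃ e : X₁ ≅ X₂, e.hom ≫ φ₂ = φ₁ := by
  obtain ⟨a, ha⟩ := (b₂ X₁ h₁).2 φ₁
  obtain ⟨b, hb⟩ := (b₁ X₂ h₂).2 φ₂
  have ha' : a ≫ φ₂ = φ₁ := ha
  have hb' : b ≫ φ₁ = φ₂ := hb
  refine ⟨⟨a, b, ?_, ?_⟩, ha'⟩
  · apply (b₁ X₁ h₁).1
    change (a ≫ b) ≫ φ₁ = 𝟙 _ ≫ φ₁
    rw [Category.assoc, hb', ha', Category.id_comp]
  · apply (b₂ X₂ h₂).1
    change (b ≫ a) ≫ φ₂ = 𝟙 _ ≫ φ₂
    rw [Category.assoc, ha', hb', Category.id_comp]

variable {A : Type u} [CommRing A] [IsNoetherianRing A]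

/-- for a complex `E'` of injectives, `Q(Γ_J E') ≅ RΓ_J(Q E')` -/
theorem exists_iso_Q_gI (J : Ideal A) [DRing.HasRgammaI J] (E' : DRing.Cx A)
    (hE' : ∀ n, Module.Injective A (E'.X n)) :
    ∃ e : DerivedCategory.Q.obj (gI J E') ≅ (DRing.RgammaI J).obj (DerivedCategory.Q.obj E'),
      e.hom ≫ (DRing.RgammaIε J).app (DerivedCategory.Q.obj E') =
        DerivedCategory.Q.map (iotaC J E') := by
  obtain ⟨s, hs⟩ := (IsNoetherian.noetherian J : J.FG)
  have hs' : Ideal.span (s : Set A) = J := hs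
  refine exists_iso_of_corefl
    (fun L : Dual.D A => ∀ i : ℤ, LocCoh.IsPowerTorsion J (Dual.HD A L i)) _ _ ?_ ?_ ?_ ?_
  · exact fun i => isPowerTorsion_HD_Q J _ i (isPowerTorsion_gI_X J E' i)
  · exact fun i => isPowerTorsion_HD_RgammaI J _ i
  · intro L hL
    have := bijective_comp_iotaC s E' hE' L
      (fun b hb => torsAt_of_isPowerTorsion (hs' ▸ Ideal.subset_span hb) hL)
    rw [hs'] at this
    exact this
  · intro L hL
    exact bijective_comp_eps J L _ hL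

/-- `RΓ_J(RΓ_I K) ≅ RΓ_{I+J} K` over a Noetherian ring -/
theorem nonempty_comp_iso (I J : Ideal A) [DRing.HasRgammaI I] [DRing.HasRgammaI J]
    [DRing.HasRgammaI (I ⊔ J)] (K : Dual.D A) :
    Nonempty ((DRing.RgammaI J).obj ((DRing.RgammaI I).obj K) ≅
      (DRing.RgammaI (I ⊔ J)).obj K) := by
  obtain ⟨E, hEK, hEinj, ⟨eK⟩⟩ := RGa.exists_model K
  haveI := isIso_uu I E hEK
  haveI := isIso_uu (I ⊔ J) E hEK
  have hE' : ∀ n, Module.Injective A ((gI I E).X n) := fun n => by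
    haveI := moduleInjective_of_injective E hEinj n
    exact injective_torsionSub I (E.X n)
  obtain ⟨e₁, -⟩ := exists_iso_Q_gI J (gI I E) hE'
  have hmem : ∀ (M : Type u) [AddCommGroup M] [Module A M] (x : M),
      x ∈ DRing.torsionSub (I ⊔ J) M ↔
        x ∈ DRing.torsionSub I M ∧ x ∈ DRing.torsionSub J M := by
    intro M _ _ x
    rw [mem_torsionSub_sup_iff]
  obtain ⟨θ, -⟩ := exists_gI_comp_iso I J (I ⊔ J) hmem E
  exact ⟨(DRing.RgammaI J).mapIso ((DRing.RgammaI I).mapIso eK ≪≫ (asIso (uu I E)).symm) ≪≫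
    e₁.symm ≪≫ DerivedCategory.Q.mapIso θ ≪≫ asIso (uu (I ⊔ J) E) ≪≫
    (DRing.RgammaI (I ⊔ J)).mapIso eK.symm⟩

end Groth.Agent.Lib.Helper21.RGd
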