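import Mathlib
import Groth.Agent.Lib.Helper21.RGd
import Groth.Agent.Lib.Helper18.DCmp8

/-!
# Greenlees–May duality over a Noetherian ring (helper21)

* objects on which some `f ∈ I` acts invertibly have `RΓ_I = 0`, hence receive no maps from objects
  with `I`-power torsion cohomology;
* the cone of `K ⟶ K^∧` is an iterated extension of such objects, so `RΓ_I(K) ≅ RΓ_I(K^∧)`;
* the cone of `RΓ_I(K) ⟶ K` is an iterated extension of objects `E_b` (`b ∈ I`), which have no
  maps to derived complete objects, so `RΓ_I(K)^∧ ≅ K^∧`.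
-/

set_option autoImplicit false
set_option linter.style.haveILetI false
set_option linter.unusedSectionVars false
universe u
open CategoryTheory CategoryTheory.Limits CategoryTheory.Pretriangulated DerivedCategory

attribute [local instance] HasDerivedCategory.standard

namespace Groth.Agent.Lib.Helper21.RGe

open Groth.Agent.Lib.Helper21.RGa Groth.Agent.Lib.Helper21.RGb Groth.Agent.Lib.Helper21.RGd
  Groth.Agent.Lib.Helper4.LC Groth.Agent.Lib.Helper18.DR

lemma bijective_isIso_comp {C : Type*} [Category C] {X Y Z : C} (m : X ⟶ Y) [IsIso m] :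
    Function.Bijective (fun g : Y ⟶ Z => m ≫ g) :=
  ⟨fun _ _ hab => (cancel_epi m).1 hab, fun a => ⟨inv m ≫ a, IsIso.hom_inv_id_assoc m a⟩⟩

variable {A : Type u} [CommRing A]

/-- (extracted from S8933) if `f ∈ I` acts invertibly on `Q E` (`E` K-injective), `Γ_I E` is
acyclic -/
lemma isZero_Q_gI_of_isIso (I : Ideal A) [DRing.HasRgammaI I] (E : DRing.Cx A)
    (hE : E.IsKInjective) (f : A) (hf : f ∈ I)
    (h : IsIso (DerivedCategory.Q.map (f • 𝟙 E))) :
    IsZero (DerivedCategory.Q.obj (gI I E)) := by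
  haveI := isIso_uu I E hE
  apply isZero_Q_obj_of_acyclic
  let φE : E ⟶ E := f • 𝟙 E
  haveI : IsIso (DerivedCategory.Q.map φE) := h
  let ψ := ((DRing.gammaI I).mapHomologicalComplex (ComplexShape.up ℤ)).map φE
  haveI : IsIso (DerivedCategory.Q.map ψ) := by
    have h2 := uu_naturality I φE
    have h3 : DerivedCategory.Q.map ψ = uu I E ≫
        (DRing.RgammaI I).map (DerivedCategory.Q.map φE) ≫ inv (uu I E) := by
      rw [← Category.assoc, ← h2, Category.assoc, IsIso.hom_inv_id, Category.comp_id]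
    rw [h3]
    infer_instance
  have hψ : QuasiIso ψ := (DerivedCategory.isIso_Q_map_iff_quasiIso _ ψ).1 inferInstance
  intro n
  rw [HomologicalComplex.exactAt_iff, ShortComplex.moduleCat_exact_iff]
  have hq := (quasiIsoAt_iff ψ n).1 (hψ.quasiIsoAt n)
  obtain ⟨hinj, -⟩ := shortComplex_elementwise_of_quasiIso _ hq
  have hτ : ∀ x : ((gI I E).sc n).X₂,
      ((HomologicalComplex.shortComplexFunctor _ _ n).map ψ).τ₂ x = f • x := by
    intro x
    rfl
  have key : ∀ (k : ℕ) (z : ((gI I E).sc n).X₂),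
      ((gI I E).sc n).g z = 0 →
      (∃ w, ((gI I E).sc n).f w = f ^ k • z) →
      ∃ w, ((gI I E).sc n).f w = z := by
    intro k
    induction k with
    | zero =>
      rintro z - ⟨w, hw⟩
      exact ⟨w, by rw [hw, pow_zero, one_smul]⟩
    | succ k ih =>
      rintro z hz ⟨w, hw⟩
      apply ih z hz
      apply hinj (f ^ k • z) (by rw [map_smul, hz, smul_zero])
      refine ⟨w, ?_⟩
      rw [hw, hτ, pow_succ', mul_smul]
  intro z hz
  obtain ⟨k, hk⟩ := (show ↥(DRing.torsionSub I (E.X n)) from z).2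
  apply key k z hz
  refine ⟨0, ?_⟩
  rw [map_zero]
  symm
  exact Subtype.ext (hk (f ^ k) (Ideal.pow_mem_pow hf k))

variable [IsNoetherianRing A] (I : Ideal A) [DRing.HasRgammaI I]

/-- `RΓ_I` kills objects on which some `f ∈ I` acts invertibly -/
lemma isZero_RgammaI_of_finv {f : A} (hf : f ∈ I) (N : Dual.D A) (hN : FInv f N) :
    IsZero ((DRing.RgammaI I).obj N) := by
  obtain ⟨E, hEK, -, ⟨e⟩⟩ := RGa.exists_model N
  haveI := isIso_uu I E hEK
  have hQ : FInv f (DerivedCategory.Q.obj E) := hN.of_iso e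
  have h1 : DerivedCategory.Q.map (f • 𝟙 E) = f • 𝟙 (DerivedCategory.Q.obj E) := by
    rw [Functor.map_smul, CategoryTheory.Functor.map_id]
  have h2 : IsIso (DerivedCategory.Q.map (f • 𝟙 E)) := by
    rw [h1]
    exact hQ
  exact IsZero.of_iso (isZero_Q_gI_of_isIso I E hEK f hf h2)
    ((DRing.RgammaI I).mapIso e ≪≫ (asIso (uu I E)).symm)

/-- no maps from torsion objects to objects on which some `f ∈ I` acts invertibly -/
theorem subsingleton_hom_of_finv {f : A} (hf : f ∈ I) (L N : Dual.D A)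
    (hL : ∀ i : ℤ, LocCoh.IsPowerTorsion I (Dual.HD A L i)) (hN : FInv f N) :
    Subsingleton (L ⟶ N) := by
  have hz := isZero_RgammaI_of_finv I hf N hN
  have hb := bijective_comp_eps I L N hL
  constructor
  intro g₁ g₂
  obtain ⟨h₁, hh₁⟩ := hb.2 g₁
  obtain ⟨h₂, hh₂⟩ := hb.2 g₂
  rw [← hh₁, ← hh₂, hz.eq_of_tgt h₁ h₂]

/-! ### derived completion, keeping track of maps from torsion objects -/

theorem exists_fcompletion_toD' {f : A} (hf : f ∈ I) (K : DRing.Cx A) :
    ∃ (Z' : Dual.D A) (η : DRing.toD K ⟶ Z'), FC f Z' ∧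
      (∀ g : A, FC g (DRing.toD K) → FC g Z') ∧
      (∀ L : Dual.D A, FC f L → Function.Bijective (fun φ : Z' ⟶ L => η ≫ φ)) ∧
      (∀ L : Dual.D A, (∀ i : ℤ, LocCoh.IsPowerTorsion I (Dual.HD A L i)) →
        Function.Bijective (fun φ : L ⟶ DRing.toD K => φ ≫ η)) := by
  let D := powDataPCx f K
  have hT₀ := DerivedCategory.mappingCone_triangle_distinguished (θCx f K)
  obtain ⟨ι, hι⟩ : ∃ ι : DRing.toD (PCx K) ⟶ DRing.toD (CochainComplex.mappingCone (θCx f K)),
    ι = (DerivedCategory.Q.mapTriangle.obj (CochainComplex.mappingCone.triangle (θCx f K))).mor₂ :=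
    ⟨_, rfl⟩
  obtain ⟨δ, hδ⟩ : ∃ δ : DRing.toD (CochainComplex.mappingCone (θCx f K)) ⟶
      (DRing.toD (PCx K))⟦(1 : ℤ)⟧,
    δ = (DerivedCategory.Q.mapTriangle.obj (CochainComplex.mappingCone.triangle (θCx f K))).mor₃ :=
    ⟨_, rfl⟩
  have hT : Triangle.mk D.θ ι δ ∈ distTriang (Dual.D A) := by
    rw [hι, hδ]
    exact hT₀
  obtain ⟨Z', η, g, hT'⟩ := distinguished_cocone_triangle₂ (δ ≫ (D.π 0)⟦(1 : ℤ)⟧')
  have hN : FInv f (DRing.toD (CochainComplex.mappingCone (θCx f K))) := by
    refine finv_of_triangle f D.s ι δ ?_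
    rw [← D.θ_eq]
    exact hT
  refine ⟨Z', η, ?_, ?_, ?_, ?_⟩
  · exact fc_of_forall_finv (fun E hE φ => eq_zero_of_finv_of_triangle D ι δ hT η g hT' hE φ)
  · intro g' hZ
    have hX : FC g' (DRing.toD (PCx K)) := fc_of_isProdFam D.isProd hZ
    have hN' : FC g' (DRing.toD (CochainComplex.mappingCone (θCx f K))) := fc_obj₃ _ hT hX hX
    exact fc_obj₂ _ hT' hZ hN'
  · intro L hL
    constructor
    · intro φ ψ hφψ
      have h1 : η ≫ (φ - ψ) = 0 := by
        rw [Preadditive.comp_sub]
        exact sub_eq_zero.2 hφψ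
      obtain ⟨β, hβ⟩ := Triangle.yoneda_exact₂ _ hT' (φ - ψ) h1
      have hβ0 : β = 0 := eq_zero_of_finv_of_fc hN hL β
      rw [hβ0, comp_zero] at hβ
      exact sub_eq_zero.1 hβ
    · intro γ
      have hT'' := inv_rot_of_distTriang _ hT'
      have h1 : (Triangle.mk η g (δ ≫ (D.π 0)⟦(1 : ℤ)⟧')).invRotate.mor₁ ≫ γ = 0 :=
        eq_zero_of_finv_of_fc (hN.shift (-1)) hL _
      obtain ⟨α, hα⟩ := Triangle.yoneda_exact₂ _ hT'' γ h1
      exact ⟨α, hα.symm⟩
  · intro L hL
    have hs0 : Subsingleton (L ⟶ DRing.toD (CochainComplex.mappingCone (θCx f K))) :=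
      subsingleton_hom_of_finv I hf L _ hL hN
    have hs1 : Subsingleton
        (L ⟶ (DRing.toD (CochainComplex.mappingCone (θCx f K)))⟦(-1 : ℤ)⟧) :=
      subsingleton_hom_of_finv I hf L _ hL (hN.shift (-1))
    constructor
    · intro φ ψ hφψ
      have hφψ' : φ ≫ η = ψ ≫ η := hφψ
      have h0 : (φ - ψ) ≫ (Triangle.mk η g (δ ≫ (D.π 0)⟦(1 : ℤ)⟧')).invRotate.mor₂ = 0 := by
        change (φ - ψ) ≫ η = 0
        rw [Preadditive.sub_comp, hφψ', sub_self]
      obtain ⟨h, hh⟩ : ∃ h : L ⟶ (DRing.toD (CochainComplex.mappingCone (θCx f K)))⟦(-1 : ℤ)⟧,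
          φ - ψ = h ≫ (Triangle.mk η g (δ ≫ (D.π 0)⟦(1 : ℤ)⟧')).invRotate.mor₁ :=
        Triangle.coyoneda_exact₂ _ (inv_rot_of_distTriang _ hT') (φ - ψ) h0
      have h1 : h = 0 := hs1.elim _ _
      subst h1
      exact sub_eq_zero.1 (hh.trans zero_comp)
    · intro γ
      have h0 : γ ≫ (Triangle.mk η g (δ ≫ (D.π 0)⟦(1 : ℤ)⟧')).mor₂ = 0 := hs0.elim _ _
      obtain ⟨h, hh⟩ : ∃ h : L ⟶ DRing.toD K, γ = h ≫ η :=
        Triangle.coyoneda_exact₂ _ hT' γ h0
      exact ⟨h, hh.symm⟩

theorem exists_fcompletion' {f : A} (hf : f ∈ I) (Z : Dual.D A) :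
    ∃ (Z' : Dual.D A) (η : Z ⟶ Z'), FC f Z' ∧
      (∀ g : A, FC g Z → FC g Z') ∧
      (∀ L : Dual.D A, FC f L → Function.Bijective (fun φ : Z' ⟶ L => η ≫ φ)) ∧
      (∀ L : Dual.D A, (∀ i : ℤ, LocCoh.IsPowerTorsion I (Dual.HD A L i)) →
        Function.Bijective (fun φ : L ⟶ Z => φ ≫ η)) := by
  obtain ⟨K, ⟨e⟩⟩ : ∃ K : DRing.Cx A, Nonempty (DRing.toD K ≅ Z) :=
    ⟨DerivedCategory.Q.objPreimage Z, ⟨DerivedCategory.Q.objObjPreimageIso Z⟩⟩
  obtain ⟨Z', η, h1, h2, h4, h5⟩ := exists_fcompletion_toD' I hf K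
  refine ⟨Z', e.inv ≫ η, h1, fun g hg => h2 g (hg.of_iso e.symm), fun L hL => ?_,
    fun L hL => ?_⟩
  · obtain ⟨hinj, hsurj⟩ := h4 L hL
    constructor
    · intro φ ψ hφψ
      apply hinj
      change η ≫ φ = η ≫ ψ
      have := congrArg (fun t => e.hom ≫ t) hφψ
      simpa using this
    · intro γ
      obtain ⟨α, hα⟩ := hsurj (e.hom ≫ γ)
      refine ⟨α, ?_⟩
      change (e.inv ≫ η) ≫ α = γ
      change η ≫ α = e.hom ≫ γ at hα
      rw [Category.assoc, hα, Iso.inv_hom_id_assoc]
  · have hb := (h5 L hL).comp (bijective_comp_of_isIso (X := L) e.inv)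
    have e' : (fun φ : L ⟶ Z => φ ≫ e.inv ≫ η) =
        (fun φ : L ⟶ DRing.toD K => φ ≫ η) ∘ (fun φ : L ⟶ Z => φ ≫ e.inv) := by
      funext φ
      simp only [Function.comp_apply, Category.assoc]
    rw [e']
    exact hb

theorem exists_completion' : ∀ (s : Finset A), (∀ f ∈ s, f ∈ I) → ∀ Z : Dual.D A,
    ∃ (Z' : Dual.D A) (η : Z ⟶ Z'),
    (∀ f ∈ s, FC f Z') ∧
    (∀ L : Dual.D A, (∀ f ∈ s, FC f L) → Function.Bijective (fun φ : Z' ⟶ L => η ≫ φ)) ∧
    (∀ L : Dual.D A, (∀ i : ℤ, LocCoh.IsPowerTorsion I (Dual.HD A L i)) →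
        Function.Bijective (fun φ : L ⟶ Z => φ ≫ η)) := by
  classical
  intro s
  induction s using Finset.induction_on with
  | empty =>
    intro _ Z
    refine ⟨Z, 𝟙 Z, fun f hf => absurd hf (Finset.notMem_empty f), fun L _ => ?_, fun L _ => ?_⟩
    · constructor
      · intro φ ψ h
        simpa using h
      · intro γ
        exact ⟨γ, by simp⟩
    · constructor
      · intro φ ψ h
        simpa using h
      · intro γ
        exact ⟨γ, by simp⟩
  | insert f s hfs ih =>
    intro hs Z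
    obtain ⟨Z₁, η₁, h1, h3, h5⟩ := ih (fun g hg => hs g (Finset.mem_insert_of_mem hg)) Z
    obtain ⟨Z₂, η₂, k1, k2, k4, k5⟩ :=
      exists_fcompletion' I (hs f (Finset.mem_insert_self f s)) Z₁
    refine ⟨Z₂, η₁ ≫ η₂, ?_, ?_, ?_⟩
    · intro g hg
      rcases Finset.mem_insert.1 hg with rfl | hg
      · exact k1
      · exact k2 g (h1 g hg)
    · intro L hL
      have b1 := h3 L (fun g hg => hL g (Finset.mem_insert_of_mem hg))
      have b2 := k4 L (hL f (Finset.mem_insert_self f s))
      have : (fun φ : Z₂ ⟶ L => (η₁ ≫ η₂) ≫ φ) =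
          (fun φ : Z₁ ⟶ L => η₁ ≫ φ) ∘ (fun φ : Z₂ ⟶ L => η₂ ≫ φ) := by
        funext φ
        simp
      rw [this]
      exact b1.comp b2
    · intro L hL
      have b1 := h5 L hL
      have b2 := k5 L hL
      have : (fun φ : L ⟶ Z => φ ≫ η₁ ≫ η₂) =
          (fun φ : L ⟶ Z₁ => φ ≫ η₂) ∘ (fun φ : L ⟶ Z => φ ≫ η₁) := by
        funext φ
        simp
      rw [this]
      exact b2.comp b1

/-- maps from torsion objects do not see the derived completion -/
theorem bijective_comp_toDerivedCompletion [DRing.HasDerivedCompletion I] (L K : Dual.D A)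
    (hL : ∀ i : ℤ, LocCoh.IsPowerTorsion I (Dual.HD A L i)) :
    Function.Bijective (fun φ : L ⟶ K => φ ≫ DRing.toDerivedCompletion I K) := by
  obtain ⟨s, hs⟩ := (IsNoetherian.noetherian I : I.FG)
  have hs' : Ideal.span (s : Set A) = I := hs
  subst hs'
  obtain ⟨Z', η, h1, h3, h5⟩ := exists_completion' (Ideal.span (s : Set A)) s
    (fun f hf => Ideal.subset_span hf) K
  obtain ⟨e, he⟩ := nonempty_iso_of_universal
    (P := fun L => DRing.IsDerivedComplete (Ideal.span (s : Set A)) L) η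
    (DRing.toDerivedCompletion (Ideal.span (s : Set A)) K)
    ((isDerivedComplete_span_iff s Z').2 h1)
    ((DRing.derivedCompletion (Ideal.span (s : Set A))).obj K).property
    (fun L hL => h3 L ((isDerivedComplete_span_iff s L).1 hL))
    (fun L hL => bijective_toDerivedCompletion_comp _ K L hL)
  have hb := (bijective_comp_of_isIso (X := L) e.hom).comp (h5 L hL)
  have e' : (fun φ : L ⟶ K => φ ≫ DRing.toDerivedCompletion (Ideal.span (s : Set A)) K) =
      (fun φ : L ⟶ Z' => φ ≫ e.hom) ∘ (fun φ : L ⟶ K => φ ≫ η) := by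
    funext φ
    simp only [Function.comp_apply, Category.assoc, he]
  rw [e']
  exact hb

/-- first half of Greenlees–May: `RΓ_I(K^∧) ≅ RΓ_I(K)` -/
theorem nonempty_iso_RgammaI_completion [DRing.HasDerivedCompletion I] (K : Dual.D A) :
    Nonempty ((DRing.RgammaI I).obj ((DRing.derivedCompletion I).obj K).obj ≅
      (DRing.RgammaI I).obj K) := by
  have hb : ∀ L : Dual.D A, (∀ i : ℤ, LocCoh.IsPowerTorsion I (Dual.HD A L i)) →
      Function.Bijective (fun g : L ⟶ (DRing.RgammaI I).obj K =>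
        g ≫ ((DRing.RgammaIε I).app K ≫ DRing.toDerivedCompletion I K)) := by
    intro L hL
    have hc := (bijective_comp_toDerivedCompletion I L K hL).comp (bijective_comp_eps I L K hL)
    have e' : (fun g : L ⟶ (DRing.RgammaI I).obj K =>
        g ≫ ((DRing.RgammaIε I).app K ≫ DRing.toDerivedCompletion I K)) =
        (fun φ : L ⟶ K => φ ≫ DRing.toDerivedCompletion I K) ∘
          (fun g : L ⟶ (DRing.RgammaI I).obj K => g ≫ (DRing.RgammaIε I).app K) := by
      funext g
      simp only [Function.comp_apply, Category.assoc]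
    rw [e']
    exact hc
  obtain ⟨e, -⟩ := exists_iso_of_corefl
    (fun L : Dual.D A => ∀ i : ℤ, LocCoh.IsPowerTorsion I (Dual.HD A L i))
    ((DRing.RgammaIε I).app K ≫ DRing.toDerivedCompletion I K)
    ((DRing.RgammaIε I).app ((DRing.derivedCompletion I).obj K).obj)
    (fun i => isPowerTorsion_HD_RgammaI I _ i) (fun i => isPowerTorsion_HD_RgammaI I _ i)
    hb (fun L hL => bijective_comp_eps I L _ hL)
  exact ⟨e.symm⟩

/-! ### maps to derived complete objects -/

lemma finv_Q_Rb (b : A) (E : DRing.Cx A) : FInv b (DerivedCategory.Q.obj (Rb b E)) := by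
  unfold FInv
  have h1 : b • 𝟙 (DerivedCategory.Q.obj (Rb b E)) =
      DerivedCategory.Q.map (b • 𝟙 (Rb b E)) := by
    rw [Functor.map_smul, CategoryTheory.Functor.map_id]
  rw [h1]
  haveI : IsIso (b • 𝟙 (Rb b E)) := by
    haveI : ∀ n, IsIso ((b • 𝟙 (Rb b E)).f n) := fun n => by
      rw [ConcreteCategory.isIso_iff_bijective]
      exact bijective_smul_res b ((ModuleCat.extendScalars.{u, u, u}
        (algebraMap A (Localization.Away b))).obj (E.X n))
    exact HomologicalComplex.Hom.isIso_of_components _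
  infer_instance

theorem bijective_iotaC_comp_single (b : A) (E : DRing.Cx A)
    (hE : ∀ n, Module.Injective A (E.X n)) (M : Dual.D A) (hM : FC b M) :
    Function.Bijective (fun g : DerivedCategory.Q.obj E ⟶ M =>
      DerivedCategory.Q.map (iotaC (Ideal.span {b}) E) ≫ g) := by
  have hS := Sb_shortExact b E hE
  have hT : triangleOfSES hS ∈ distTriang (Dual.D A) := triangleOfSES_distinguished hS
  have hR := finv_Q_Rb b E
  constructor
  · intro g₁ g₂ hg
    have hg' : DerivedCategory.Q.map (iotaC (Ideal.span {b}) E) ≫ g₁ =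
        DerivedCategory.Q.map (iotaC (Ideal.span {b}) E) ≫ g₂ := hg
    have h0 : (triangleOfSES hS).mor₁ ≫ (g₁ - g₂) = 0 := by
      change DerivedCategory.Q.map (iotaC (Ideal.span {b}) E) ≫ (g₁ - g₂) = 0
      rw [Preadditive.comp_sub, hg', sub_self]
    obtain ⟨h, hh⟩ : ∃ h : DerivedCategory.Q.obj (Rb b E) ⟶ M,
        g₁ - g₂ = (triangleOfSES hS).mor₂ ≫ h :=
      Triangle.yoneda_exact₂ _ hT (g₁ - g₂) h0
    have h1 : h = 0 := eq_zero_of_finv_of_fc hR hM h
    subst h1
    exact sub_eq_zero.1 (hh.trans comp_zero)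
  · intro γ
    have hT'' := inv_rot_of_distTriang _ hT
    have h1 : (triangleOfSES hS).invRotate.mor₁ ≫ γ = 0 :=
      eq_zero_of_finv_of_fc (hR.shift (-1)) hM _
    obtain ⟨α, hα⟩ := Triangle.yoneda_exact₂ _ hT'' γ h1
    exact ⟨α, hα.symm⟩

theorem bijective_iotaC_comp (s : Finset A) :
    ∀ (E : DRing.Cx A) (_ : ∀ n, Module.Injective A (E.X n)) (M : Dual.D A)
      (_ : ∀ b ∈ s, FC b M),
      Function.Bijective (fun g : DerivedCategory.Q.obj E ⟶ M =>
        DerivedCategory.Q.map (iotaC (Ideal.span (s : Set A)) E) ≫ g) := by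
  classical
  induction s using Finset.induction_on with
  | empty =>
    intro E hE M hM
    haveI : IsIso (iotaC (Ideal.span ((∅ : Finset A) : Set A)) E) :=
      isIso_iotaC_of_forall_mem _ E (fun n x => ⟨1, fun a ha => by
        rw [pow_one, Finset.coe_empty, Ideal.span_empty, Ideal.mem_bot] at ha
        rw [ha, zero_smul]⟩)
    exact bijective_isIso_comp _
  | insert b s hb ih =>
    intro E hE M hM
    have hmem : ∀ (M : Type u) [AddCommGroup M] [Module A M] (x : M),
        x ∈ DRing.torsionSub (Ideal.span ((insert b s : Finset A) : Set A)) M ↔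
          x ∈ DRing.torsionSub (Ideal.span (s : Set A)) M ∧
            x ∈ DRing.torsionSub (Ideal.span {b}) M := by
      intro M _ _ x
      rw [Finset.coe_insert, Ideal.span_insert, mem_torsionSub_sup_iff, and_comm]
    obtain ⟨θ, hθ⟩ := exists_gI_comp_iso (Ideal.span (s : Set A)) (Ideal.span {b})
      (Ideal.span ((insert b s : Finset A) : Set A)) hmem E
    have hE' : ∀ n, Module.Injective A ((gI (Ideal.span (s : Set A)) E).X n) := fun n => by
      haveI := hE n
      exact injective_torsionSub (Ideal.span (s : Set A)) (E.X n)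
    have h1 := ih E hE M (fun c hc => hM c (Finset.mem_insert_of_mem hc))
    have h2 := bijective_iotaC_comp_single b (gI (Ideal.span (s : Set A)) E) hE' M
      (hM b (Finset.mem_insert_self b s))
    have h3 : Function.Bijective
        (fun g : DerivedCategory.Q.obj (gI (Ideal.span {b}) (gI (Ideal.span (s : Set A)) E)) ⟶ M =>
          DerivedCategory.Q.map θ.inv ≫ g) := bijective_isIso_comp _
    have hc := h3.comp (h2.comp h1)
    have h4 : iotaC (Ideal.span ((insert b s : Finset A) : Set A)) E =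
        θ.inv ≫ iotaC (Ideal.span {b}) (gI (Ideal.span (s : Set A)) E) ≫
          iotaC (Ideal.span (s : Set A)) E := by
      rw [← hθ, Iso.inv_hom_id_assoc]
    have e : (fun g : DerivedCategory.Q.obj E ⟶ M =>
        DerivedCategory.Q.map (iotaC (Ideal.span ((insert b s : Finset A) : Set A)) E) ≫ g) =
        (fun g => DerivedCategory.Q.map θ.inv ≫ g) ∘
          ((fun g => DerivedCategory.Q.map
            (iotaC (Ideal.span {b}) (gI (Ideal.span (s : Set A)) E)) ≫ g) ∘
          (fun g => DerivedCategory.Q.map (iotaC (Ideal.span (s : Set A)) E) ≫ g)) := by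
      funext g
      simp only [Function.comp_apply]
      rw [h4, Functor.map_comp, Functor.map_comp, Category.assoc, Category.assoc]
    rw [e]
    exact hc

lemma eps_eq (K : Dual.D A) (E : DRing.Cx A) (hEK : E.IsKInjective)
    (e : K ≅ DerivedCategory.Q.obj E) :
    (DRing.RgammaIε I).app K = (DRing.RgammaI I).map e.hom ≫
      (haveI := isIso_uu I E hEK; inv (uu I E)) ≫ DerivedCategory.Q.map (iotaC I E) ≫ e.inv := by
  haveI := isIso_uu I E hEK
  have hn := (DRing.RgammaIε I).naturality e.hom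
  simp only [Functor.id_map] at hn
  rw [← Category.assoc (inv (uu I E)), ← eps_Q I E hEK, ← Category.assoc, hn,
    Category.assoc, e.hom_inv_id]
  exact (Category.comp_id _).symm

/-- maps to derived complete objects do not see the difference between `K` and `RΓ_I K` -/
theorem bijective_eps_comp (K M : Dual.D A) (hM : DRing.IsDerivedComplete I M) :
    Function.Bijective (fun g : K ⟶ M => (DRing.RgammaIε I).app K ≫ g) := by
  obtain ⟨s, hs⟩ := (IsNoetherian.noetherian I : I.FG)
  have hs' : Ideal.span (s : Set A) = I := hs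
  obtain ⟨E, hEK, hEinj, ⟨e⟩⟩ := RGa.exists_model K
  haveI := isIso_uu I E hEK
  have hb : Function.Bijective (fun g : DerivedCategory.Q.obj E ⟶ M =>
      DerivedCategory.Q.map (iotaC I E) ≫ g) := by
    have := bijective_iotaC_comp s E (moduleInjective_of_injective E hEinj) M
      (fun b hb => (isDerivedComplete_iff_fc I M).1 hM b (hs' ▸ Ideal.subset_span hb))
    rw [hs'] at this
    exact this
  have h1 : Function.Bijective (fun g : DerivedCategory.Q.obj (gI I E) ⟶ M =>
      ((DRing.RgammaI I).map e.hom ≫ inv (uu I E)) ≫ g) := bijective_isIso_comp _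
  have h3 : Function.Bijective (fun g : K ⟶ M => e.inv ≫ g) := bijective_isIso_comp _
  have hc := h1.comp (hb.comp h3)
  have e' : (fun g : K ⟶ M => (DRing.RgammaIε I).app K ≫ g) =
      (fun g : DerivedCategory.Q.obj (gI I E) ⟶ M =>
        ((DRing.RgammaI I).map e.hom ≫ inv (uu I E)) ≫ g) ∘
        ((fun g : DerivedCategory.Q.obj E ⟶ M => DerivedCategory.Q.map (iotaC I E) ≫ g) ∘
          (fun g : K ⟶ M => e.inv ≫ g)) := by
    funext g
    simp only [Function.comp_apply, Category.assoc]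
    rw [eps_eq I K E hEK e]
    simp only [Category.assoc]
  rw [e']
  exact hc

/-- second half of Greenlees–May: `RΓ_I(K)^∧ ≅ K^∧` -/
theorem nonempty_iso_completion_RgammaI [DRing.HasDerivedCompletion I] (K : Dual.D A) :
    Nonempty ((DRing.derivedCompletion I).obj ((DRing.RgammaI I).obj K) ≅
      (DRing.derivedCompletion I).obj K) := by
  have hu : ∀ L : Dual.D A, DRing.IsDerivedComplete I L →
      Function.Bijective (fun φ : ((DRing.derivedCompletion I).obj K).obj ⟶ L =>
        ((DRing.RgammaIε I).app K ≫ DRing.toDerivedCompletion I K) ≫ φ) := by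
    intro L hL
    have hc := (bijective_eps_comp I K L hL).comp (bijective_toDerivedCompletion_comp I K L hL)
    have e' : (fun φ : ((DRing.derivedCompletion I).obj K).obj ⟶ L =>
        ((DRing.RgammaIε I).app K ≫ DRing.toDerivedCompletion I K) ≫ φ) =
        (fun g : K ⟶ L => (DRing.RgammaIε I).app K ≫ g) ∘
          (fun φ : ((DRing.derivedCompletion I).obj K).obj ⟶ L =>
            DRing.toDerivedCompletion I K ≫ φ) := by
      funext φ
      simp only [Function.comp_apply, Category.assoc]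
    rw [e']
    exact hc
  obtain ⟨e, -⟩ := nonempty_iso_of_universal
    (P := fun L => DRing.IsDerivedComplete I L)
    (DRing.toDerivedCompletion I ((DRing.RgammaI I).obj K))
    ((DRing.RgammaIε I).app K ≫ DRing.toDerivedCompletion I K)
    ((DRing.derivedCompletion I).obj ((DRing.RgammaI I).obj K)).property
    ((DRing.derivedCompletion I).obj K).property
    (fun L hL => bijective_toDerivedCompletion_comp I _ L hL) hu
  exact ⟨ObjectProperty.isoMk _ e⟩

end Groth.Agent.Lib.Helper21.RGe
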