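import Mathlib
import Groth.Prelude.Def_DRing3

/-!
# Morphisms from a module to a shifted K-injective complex in `D(A)` (helper21)

For a module `M`, a complex `E` and `q : ℤ`, `gam M f hf : M[0] ⟶ (Q E)⟦q⟧` is the morphism in `D(A)`
attached to `f : M ⟶ E^q` with `f ≫ d = 0`.  If `E` is K-injective, every morphism is of this form, and
`gam f = 0` iff `f` factors through `d : E^{q-1} ⟶ E^q`.
-/

set_option autoImplicit false
set_option linter.unusedSectionVars false
universe u
open CategoryTheory CategoryTheory.Limits DerivedCategory CochainComplex HomComplex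

attribute [local instance] HasDerivedCategory.standard

namespace Groth.Agent.Lib.Helper21.RGf

variable {A : Type u} [CommRing A]

/-- the single complex -/
noncomputable abbrev sC (M : ModuleCat.{u} A) : DRing.Cx A :=
  (CochainComplex.singleFunctor (ModuleCat.{u} A) 0).obj M

/-- the single object of `D(A)` -/
noncomputable abbrev sD (M : ModuleCat.{u} A) : Dual.D A :=
  (DerivedCategory.singleFunctor (ModuleCat.{u} A) 0).obj M

variable (E : DRing.Cx A) (q : ℤ)

/-- from cocycles to morphisms in `D(A)` -/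
noncomputable def beta (M : ModuleCat.{u} A) (z : Cocycle (sC M) E q) :
    sD M ⟶ (DerivedCategory.Q.obj E)⟦q⟧ :=
  (DerivedCategory.singleFunctorIsoCompQ (ModuleCat.{u} A) 0).hom.app M ≫
    DerivedCategory.Q.map (Cocycle.equivHomShift.symm z) ≫
      (DerivedCategory.Q.commShiftIso q).hom.app E

lemma beta_add (M : ModuleCat.{u} A) (z z' : Cocycle (sC M) E q) :
    beta E q M (z + z') = beta E q M z + beta E q M z' := by
  unfold beta
  rw [map_add, Functor.map_add, Preadditive.add_comp, Preadditive.comp_add]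

lemma beta_sub (M : ModuleCat.{u} A) (z z' : Cocycle (sC M) E q) :
    beta E q M (z - z') = beta E q M z - beta E q M z' := by
  unfold beta
  rw [map_sub, Functor.map_sub, Preadditive.sub_comp, Preadditive.comp_sub]

lemma beta_precomp {M' M : ModuleCat.{u} A} (g : M' ⟶ M) (z : Cocycle (sC M) E q) :
    beta E q M' (z.precomp ((CochainComplex.singleFunctor (ModuleCat.{u} A) 0).map g)) =
      (DerivedCategory.singleFunctor (ModuleCat.{u} A) 0).map g ≫ beta E q M z := by
  unfold beta
  rw [Cocycle.equivHomShift_symm_precomp, Functor.map_comp]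
  have h := (DerivedCategory.singleFunctorIsoCompQ (ModuleCat.{u} A) 0).hom.naturality g
  simp only [Functor.comp_map] at h
  simp only [Category.assoc]
  rw [reassoc_of% h]

lemma beta_postcomp {E' : DRing.Cx A} (g : E ⟶ E') (M : ModuleCat.{u} A)
    (z : Cocycle (sC M) E q) :
    beta E' q M (z.postcomp g) = beta E q M z ≫ (DerivedCategory.Q.map g)⟦q⟧' := by
  unfold beta
  rw [Cocycle.equivHomShift_symm_postcomp, Functor.map_comp]
  have h := (DerivedCategory.Q.commShiftIso q).hom.naturality g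
  simp only [Functor.comp_map] at h
  simp only [Category.assoc]
  rw [h]

lemma beta_smul (a : A) (M : ModuleCat.{u} A) (z : Cocycle (sC M) E q) :
    beta E q M (z.postcomp (a • 𝟙 E)) = a • beta E q M z := by
  rw [beta_postcomp, Functor.map_smul, CategoryTheory.Functor.map_id, Functor.map_smul,
    CategoryTheory.Functor.map_id, Linear.comp_smul, Category.comp_id]

section KInj

variable [E.IsKInjective]

lemma beta_surjective (M : ModuleCat.{u} A) (φ : sD M ⟶ (DerivedCategory.Q.obj E)⟦q⟧) :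
    ∃ z, beta E q M z = φ := by
  obtain ⟨ψ, hψ⟩ : ∃ ψ : DerivedCategory.Q.obj (sC M) ⟶ DerivedCategory.Q.obj (E⟦q⟧),
      ψ = (DerivedCategory.singleFunctorIsoCompQ (ModuleCat.{u} A) 0).inv.app M ≫ φ ≫
        (DerivedCategory.Q.commShiftIso q).inv.app E := ⟨_, rfl⟩
  obtain ⟨g, hg⟩ := (CochainComplex.IsKInjective.Qh_map_bijective
    ((HomotopyCategory.quotient _ _).obj (sC M)) (E⟦q⟧)).2 ψ
  obtain ⟨g', rfl⟩ := (HomotopyCategory.quotient _ _).map_surjective g
  refine ⟨Cocycle.equivHomShift g', ?_⟩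
  unfold beta
  rw [AddEquiv.symm_apply_apply]
  have hg' : DerivedCategory.Q.map g' = ψ := hg
  rw [hg', hψ]
  simp only [Category.assoc, Iso.inv_hom_id_app, Iso.hom_inv_id_app_assoc]
  exact Category.comp_id _

lemma beta_eq_zero_iff (M : ModuleCat.{u} A) (z : Cocycle (sC M) E q) :
    beta E q M z = 0 ↔ z ∈ coboundaries (sC M) E q := by
  rw [← CohomologyClass.toHom_mk_eq_zero_iff, CohomologyClass.toHom_mk]
  unfold beta
  constructor
  · intro h
    have h1 : DerivedCategory.Q.map (Cocycle.equivHomShift.symm z) = 0 := by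
      rw [← cancel_epi ((DerivedCategory.singleFunctorIsoCompQ (ModuleCat.{u} A) 0).hom.app M),
        ← cancel_mono ((DerivedCategory.Q.commShiftIso q).hom.app E), Category.assoc, comp_zero,
        zero_comp]
      exact h
    apply (CochainComplex.IsKInjective.Qh_map_bijective _ (E⟦q⟧)).1
    rw [Functor.map_zero]
    exact h1
  · intro h
    have h1 : DerivedCategory.Q.map (Cocycle.equivHomShift.symm z) = 0 :=
      (congrArg (fun t => DerivedCategory.Qh.map t) h).trans (Functor.map_zero _ _ _)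
    rw [h1, zero_comp, comp_zero]

end KInj

/-- the morphism attached to `f : M ⟶ E^q` with `f ≫ d = 0` -/
noncomputable def gam (M : ModuleCat.{u} A) (f : M ⟶ E.X q) (hf : f ≫ E.d q (q + 1) = 0) :
    sD M ⟶ (DerivedCategory.Q.obj E)⟦q⟧ :=
  beta E q M (Cocycle.fromSingleMk f (zero_add q) (q + 1) rfl hf)

lemma gam_congr (M : ModuleCat.{u} A) {f f' : M ⟶ E.X q} (h : f = f')
    (hf : f ≫ E.d q (q + 1) = 0) (hf' : f' ≫ E.d q (q + 1) = 0) :
    gam E q M f hf = gam E q M f' hf' := by
  subst h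
  rfl

lemma gam_add (M : ModuleCat.{u} A) (f f' : M ⟶ E.X q) (hf : f ≫ E.d q (q + 1) = 0)
    (hf' : f' ≫ E.d q (q + 1) = 0) (h : (f + f') ≫ E.d q (q + 1) = 0) :
    gam E q M (f + f') h = gam E q M f hf + gam E q M f' hf' := by
  unfold gam
  rw [Cocycle.fromSingleMk_add f f' (zero_add q) (q + 1) rfl hf hf', beta_add]

lemma gam_sub (M : ModuleCat.{u} A) (f f' : M ⟶ E.X q) (hf : f ≫ E.d q (q + 1) = 0)
    (hf' : f' ≫ E.d q (q + 1) = 0) (h : (f - f') ≫ E.d q (q + 1) = 0) :
    gam E q M (f - f') h = gam E q M f hf - gam E q M f' hf' := by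
  unfold gam
  rw [Cocycle.fromSingleMk_sub f f' (zero_add q) (q + 1) rfl hf hf', beta_sub]

lemma gam_precomp {M' M : ModuleCat.{u} A} (g : M' ⟶ M) (f : M ⟶ E.X q)
    (hf : f ≫ E.d q (q + 1) = 0) (h : (g ≫ f) ≫ E.d q (q + 1) = 0) :
    gam E q M' (g ≫ f) h =
      (DerivedCategory.singleFunctor (ModuleCat.{u} A) 0).map g ≫ gam E q M f hf := by
  unfold gam
  rw [Cocycle.fromSingleMk_precomp g f (zero_add q) (q + 1) rfl hf, beta_precomp]

lemma gam_smul (a : A) (M : ModuleCat.{u} A) (f : M ⟶ E.X q) (hf : f ≫ E.d q (q + 1) = 0)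
    (h : (a • f) ≫ E.d q (q + 1) = 0) :
    gam E q M (a • f) h = a • gam E q M f hf := by
  have e : a • f = f ≫ (a • 𝟙 E).f q := by
    rw [HomologicalComplex.smul_f_apply, HomologicalComplex.id_f, Linear.comp_smul,
      Category.comp_id]
  have h' : (f ≫ (a • 𝟙 E).f q) ≫ E.d q (q + 1) = 0 := by
    rw [← e]
    exact h
  rw [gam_congr E q M e h h']
  unfold gam
  rw [Cocycle.fromSingleMk_postcomp f (zero_add q) (q + 1) rfl hf (a • 𝟙 E), beta_smul]

section KInj

variable [E.IsKInjective]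

lemma gam_surjective (M : ModuleCat.{u} A) (φ : sD M ⟶ (DerivedCategory.Q.obj E)⟦q⟧) :
    ∃ (f : M ⟶ E.X q) (hf : f ≫ E.d q (q + 1) = 0), gam E q M f hf = φ := by
  obtain ⟨z, rfl⟩ := beta_surjective E q M φ
  obtain ⟨f, hf, rfl⟩ := Cocycle.fromSingleMk_surjective z q (zero_add q) (q + 1) rfl
  exact ⟨f, hf, rfl⟩

lemma gam_eq_zero_iff (M : ModuleCat.{u} A) (f : M ⟶ E.X q) (hf : f ≫ E.d q (q + 1) = 0) :
    gam E q M f hf = 0 ↔ ∃ g : M ⟶ E.X (q - 1), g ≫ E.d (q - 1) q = f := by
  unfold gam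
  rw [beta_eq_zero_iff,
    Cocycle.fromSingleMk_mem_coboundaries_iff f (zero_add q) (q + 1) rfl hf (q - 1) (by omega)]

end KInj

end Groth.Agent.Lib.Helper21.RGf
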