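import Mathlib
import Groth.Agent.Lib.Helper21.RGf
import Groth.Agent.Lib.Helper21.RGa
import Groth.Prelude.Def_DualLC

/-!
# `H^q(RΓ_I K) = colim_n Hom(A/I^n, K[q])` (helper21)

For a K-injective complex `E`, `Hom_{D(A)}(A/I^n, (Q E)⟦q⟧)` is the `q`-th cohomology of the subcomplex
of `E` of elements killed by `I^n`; the colimit over `n` is `H^q(Γ_I E)`.
-/

set_option autoImplicit false
set_option linter.style.haveILetI false
set_option linter.unusedSectionVars false
universe w u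
open CategoryTheory CategoryTheory.Limits DerivedCategory Opposite

attribute [local instance] HasDerivedCategory.standard

namespace Groth.Agent.Lib.Helper21.RGg

open Groth.Agent.Lib.Helper21.RGf Groth.Agent.Lib.Helper21.RGa

/-! ### colimits of `ℕᵒᵖᵒᵖ`-indexed diagrams of modules as direct limits -/

section general

variable {R : Type u} [CommRing R] (F : ℕᵒᵖᵒᵖ ⥤ ModuleCat.{w} R)

/-- the modules of the diagram -/
abbrev GF (n : ℕ) : Type w := F.obj (op (op n))

/-- the transition maps -/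
def tF (n m : ℕ) (h : n ≤ m) : GF F n →ₗ[R] GF F m := (F.map (homOfLE h).op.op).hom

/-- the cocone with vertex the direct limit -/
noncomputable def coconeF : Cocone F where
  pt := ModuleCat.of R (Module.DirectLimit (GF F) (tF F))
  ι :=
    { app := fun j => ModuleCat.ofHom (Module.DirectLimit.of R ℕ (GF F) (tF F) j.unop.unop)
      naturality := fun j j' f => by
        have hf : f = (homOfLE (leOfHom f.unop.unop)).op.op := by
          apply Quiver.Hom.unop_inj
          apply Quiver.Hom.unop_inj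
          exact Subsingleton.elim _ _
        ext x
        have h1 : (F.map f).hom x = tF F j.unop.unop j'.unop.unop (leOfHom f.unop.unop) x := by
          conv_lhs => rw [hf]
          rfl
        change Module.DirectLimit.of R ℕ (GF F) (tF F) j'.unop.unop ((F.map f).hom x) =
          Module.DirectLimit.of R ℕ (GF F) (tF F) j.unop.unop x
        rw [h1, Module.DirectLimit.of_f] }

/-- the descent map -/
noncomputable def descLin (s : Cocone F) : Module.DirectLimit (GF F) (tF F) →ₗ[R] s.pt :=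
  Module.DirectLimit.lift R ℕ (GF F) (tF F) (fun n => (s.ι.app (op (op n))).hom)
    (fun i j hij x => by
      have h := s.w (homOfLE hij).op.op
      exact congrArg (fun t => t.hom x) h)

lemma descLin_of (s : Cocone F) (n : ℕ) (x : GF F n) :
    descLin F s (Module.DirectLimit.of R ℕ (GF F) (tF F) n x) = (s.ι.app (op (op n))).hom x :=
  Module.DirectLimit.lift_of _ _ x

/-- the direct limit is the colimit -/
noncomputable def isColimitF : IsColimit (coconeF F) where
  desc s := ModuleCat.ofHom (descLin F s)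
  fac s j := by
    ext x
    exact descLin_of F s j.unop.unop x
  uniq s m hm := by
    apply ModuleCat.hom_ext
    apply Module.DirectLimit.hom_ext
    intro n
    apply LinearMap.ext
    intro x
    have h1 := congrArg (fun t => t.hom x) (hm (op (op n)))
    exact h1.trans (descLin_of F s n x).symm

end general

variable {A : Type u} [CommRing A] (I : Ideal A)

/-! ### maps out of `A/I^n` -/

/-- `A/I^n` -/
noncomputable abbrev Mn (n : ℕ) : ModuleCat.{u} A :=
  (localCohomology.ringModIdeals (localCohomology.idealPowersDiagram I)).obj (op n)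

/-- the class of `1` -/
def one (n : ℕ) : Mn I n := (Submodule.Quotient.mk (1 : A) : A ⧸ (I ^ n : Ideal A))

lemma hom_ext_Mn {n : ℕ} {N : ModuleCat.{u} A} (f g : Mn I n ⟶ N)
    (h : f.hom (one I n) = g.hom (one I n)) : f = g :=
  ModuleCat.hom_ext (Submodule.linearMap_qext _ (LinearMap.ext_ring h))

lemma smul_one_eq_zero {n : ℕ} (a : A) (ha : a ∈ I ^ n) : a • one I n = 0 := by
  change (Submodule.Quotient.mk (a • (1 : A)) : A ⧸ (I ^ n : Ideal A)) = 0
  rw [Submodule.Quotient.mk_eq_zero, smul_eq_mul, mul_one]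
  exact ha

lemma smul_apply_one {n : ℕ} {N : ModuleCat.{u} A} (f : Mn I n ⟶ N) (a : A) (ha : a ∈ I ^ n) :
    a • f.hom (one I n) = 0 := by
  rw [← map_smul, smul_one_eq_zero I a ha, map_zero]

/-- the map `A/I^n ⟶ N`, `1 ↦ x` -/
noncomputable def fx (n : ℕ) {N : ModuleCat.{u} A} (x : N) (hx : ∀ a ∈ I ^ n, a • x = 0) :
    Mn I n ⟶ N :=
  ModuleCat.ofHom (Submodule.liftQ (I ^ n) (LinearMap.toSpanSingleton A N x) (fun a ha => by
    rw [LinearMap.mem_ker, LinearMap.toSpanSingleton_apply]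
    exact hx a ha))

lemma fx_apply_one (n : ℕ) {N : ModuleCat.{u} A} (x : N) (hx : ∀ a ∈ I ^ n, a • x = 0) :
    (fx I n x hx).hom (one I n) = x := by
  change Submodule.liftQ (I ^ n) (LinearMap.toSpanSingleton A N x) _
    (Submodule.Quotient.mk 1) = x
  rw [Submodule.liftQ_apply, LinearMap.toSpanSingleton_apply, one_smul]

lemma fx_eq {n : ℕ} {N : ModuleCat.{u} A} (f : Mn I n ⟶ N) :
    f = fx I n (f.hom (one I n)) (fun a ha => smul_apply_one I f a ha) :=
  hom_ext_Mn I _ _ (fx_apply_one I n _ _).symm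

/-- the projection `A/I^m ⟶ A/I^n` for `n ≤ m` -/
noncomputable abbrev pr (n m : ℕ) (h : n ≤ m) : Mn I m ⟶ Mn I n :=
  (localCohomology.ringModIdeals (localCohomology.idealPowersDiagram I)).map (homOfLE h).op

lemma pr_apply_one (n m : ℕ) (h : n ≤ m) : (pr I n m h).hom (one I m) = one I n := rfl

/-! ### cycles killed by `I^n` -/

variable (E : DRing.Cx A) (q : ℤ)

/-- cycles of degree `q` killed by `I^n` -/
def Zn (n : ℕ) : Submodule A (E.X q) where
  carrier := {x | (∀ a ∈ I ^ n, a • x = 0) ∧ (E.d q (q + 1)).hom x = 0}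
  zero_mem' := ⟨fun a _ => smul_zero a, map_zero _⟩
  add_mem' := by
    rintro x y ⟨hx, hx'⟩ ⟨hy, hy'⟩
    exact ⟨fun a ha => by rw [smul_add, hx a ha, hy a ha, add_zero],
      by rw [map_add, hx', hy', add_zero]⟩
  smul_mem' := by
    rintro c x ⟨hx, hx'⟩
    exact ⟨fun a ha => by rw [smul_comm, hx a ha, smul_zero],
      by rw [map_smul, hx', smul_zero]⟩

lemma fx_comp_d (n : ℕ) (x : Zn I E q n) : fx I n x.1 x.2.1 ≫ E.d q (q + 1) = 0 := by
  apply hom_ext_Mn
  rw [ModuleCat.hom_comp, LinearMap.comp_apply, fx_apply_one, ModuleCat.hom_zero,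
    LinearMap.zero_apply]
  exact x.2.2

/-- `Hom(A/I^n, (Q E)⟦q⟧)` -/
abbrev Tn (n : ℕ) : Type (u + 1) := sD (Mn I n) ⟶ (DerivedCategory.Q.obj E)⟦q⟧

/-- `x ↦` the morphism attached to `1 ↦ x` -/
noncomputable def dn (n : ℕ) : Zn I E q n →ₗ[A] Tn I E q n where
  toFun x := gam E q (Mn I n) (fx I n x.1 x.2.1) (fx_comp_d I E q n x)
  map_add' x y := by
    have e : fx I n (x + y).1 (x + y).2.1 = fx I n x.1 x.2.1 + fx I n y.1 y.2.1 := by
      apply hom_ext_Mn
      rw [fx_apply_one, ModuleCat.hom_add, LinearMap.add_apply, fx_apply_one, fx_apply_one]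
      rfl
    have h' : (fx I n x.1 x.2.1 + fx I n y.1 y.2.1) ≫ E.d q (q + 1) = 0 := by
      rw [Preadditive.add_comp, fx_comp_d, fx_comp_d, add_zero]
    change gam E q (Mn I n) _ _ = gam E q (Mn I n) _ _ + gam E q (Mn I n) _ _
    rw [gam_congr E q _ e _ h']
    exact gam_add E q _ _ _ _ _ _
  map_smul' a x := by
    have e : fx I n (a • x).1 (a • x).2.1 = a • fx I n x.1 x.2.1 := by
      apply hom_ext_Mn
      rw [fx_apply_one, ModuleCat.hom_smul, LinearMap.smul_apply, fx_apply_one]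
      rfl
    have h' : (a • fx I n x.1 x.2.1) ≫ E.d q (q + 1) = 0 := by
      rw [Linear.smul_comp, fx_comp_d, smul_zero]
    change gam E q (Mn I n) _ _ = a • gam E q (Mn I n) _ _
    rw [gam_congr E q _ e _ h']
    exact gam_smul E q a _ _ _ _

lemma dn_trans (n m : ℕ) (h : n ≤ m) (x : Zn I E q n) (x' : Zn I E q m) (hx : x'.1 = x.1) :
    (DerivedCategory.singleFunctor (ModuleCat.{u} A) 0).map (pr I n m h) ≫ dn I E q n x =
      dn I E q m x' := by
  change _ ≫ gam E q (Mn I n) _ _ = gam E q (Mn I m) _ _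
  have h0 : (pr I n m h ≫ fx I n x.1 x.2.1) ≫ E.d q (q + 1) = 0 := by
    rw [Category.assoc, fx_comp_d, comp_zero]
  rw [← gam_precomp E q (pr I n m h) _ (fx_comp_d I E q n x) h0]
  apply gam_congr
  apply hom_ext_Mn
  rw [ModuleCat.hom_comp, LinearMap.comp_apply, pr_apply_one, fx_apply_one, fx_apply_one, hx]

/-! ### the cohomology of `Γ_I E` -/

/-- the short complex computing `H^q(Γ_I E)` -/
noncomputable abbrev SS : ShortComplex (ModuleCat.{u} A) := (gI I E).sc' (q - 1) q (q + 1)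

/-- `H^q(Γ_I E)` as a quotient -/
abbrev PP : Type u :=
  LinearMap.ker (SS I E q).g.hom ⧸ LinearMap.range (SS I E q).moduleCatToCycles

lemma gI_d_val (i j : ℤ) (y : (gI I E).X i) :
    (show ↥(DRing.torsionSub I (E.X j)) from ((gI I E).d i j).hom y).1 =
      (E.d i j).hom (show ↥(DRing.torsionSub I (E.X i)) from y).1 := rfl

lemma gI_X_ext (i : ℤ) (y y' : (gI I E).X i)
    (h : (show ↥(DRing.torsionSub I (E.X i)) from y).1 =
      (show ↥(DRing.torsionSub I (E.X i)) from y').1) : y = y' :=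
  Subtype.ext h

/-- `Z_n → Γ_I(E^q)` -/
noncomputable def toG (n : ℕ) : Zn I E q n →ₗ[A] (gI I E).X q :=
  LinearMap.codRestrict (DRing.torsionSub I (E.X q)) (Zn I E q n).subtype (fun x => ⟨n, x.2.1⟩)

/-- `Z_n → Z^q(Γ_I E)` -/
noncomputable def toK (n : ℕ) : Zn I E q n →ₗ[A] LinearMap.ker (SS I E q).g.hom :=
  LinearMap.codRestrict _ (toG I E q n) (fun x => by
    rw [LinearMap.mem_ker]
    apply gI_X_ext
    exact x.2.2)

/-- `Z_n → H^q(Γ_I E)` -/
noncomputable def toP (n : ℕ) : Zn I E q n →ₗ[A] PP I E q :=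
  (LinearMap.range (SS I E q).moduleCatToCycles).mkQ ∘ₗ toK I E q n

lemma toP_eq_zero_of (n : ℕ) (x : Zn I E q n) (y : E.X (q - 1)) (m : ℕ)
    (hy : ∀ a ∈ I ^ m, a • y = 0) (hyx : (E.d (q - 1) q).hom y = x.1) :
    toP I E q n x = 0 := by
  change Submodule.Quotient.mk (toK I E q n x) = 0
  rw [Submodule.Quotient.mk_eq_zero]
  refine LinearMap.mem_range.2 ⟨(⟨y, ⟨m, hy⟩⟩ : DRing.torsionSub I (E.X (q - 1))), ?_⟩
  apply Subtype.ext
  apply gI_X_ext
  exact hyx

lemma exists_of_toP_eq_zero (n : ℕ) (x : Zn I E q n) (h : toP I E q n x = 0) :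
    ∃ (y : E.X (q - 1)) (m : ℕ), (∀ a ∈ I ^ m, a • y = 0) ∧ (E.d (q - 1) q).hom y = x.1 := by
  have h1 : toK I E q n x ∈ LinearMap.range (SS I E q).moduleCatToCycles :=
    (Submodule.Quotient.mk_eq_zero _).1 h
  obtain ⟨y', hy'⟩ := LinearMap.mem_range.1 h1
  obtain ⟨m, hm⟩ := (show ↥(DRing.torsionSub I (E.X (q - 1))) from y').2
  refine ⟨(show ↥(DRing.torsionSub I (E.X (q - 1))) from y').1, m, hm, ?_⟩
  have := congrArg (fun t : LinearMap.ker (SS I E q).g.hom =>
    (show ↥(DRing.torsionSub I (E.X q)) from t.1).1) hy'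
  exact this

section KInj

variable [E.IsKInjective]

lemma dn_surjective (n : ℕ) : Function.Surjective (dn I E q n) := by
  intro φ
  obtain ⟨f, hf, rfl⟩ := gam_surjective E q (Mn I n) φ
  have hd : (E.d q (q + 1)).hom (f.hom (one I n)) = 0 :=
    congrArg (fun t => t.hom (one I n)) hf
  refine ⟨⟨f.hom (one I n), fun a ha => smul_apply_one I f a ha, hd⟩, ?_⟩
  exact gam_congr E q _ (fx_eq I f).symm _ _

lemma dn_eq_zero_iff (n : ℕ) (x : Zn I E q n) :
    dn I E q n x = 0 ↔
      ∃ y : E.X (q - 1), (∀ a ∈ I ^ n, a • y = 0) ∧ (E.d (q - 1) q).hom y = x.1 := by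
  change gam E q (Mn I n) _ _ = 0 ↔ _
  rw [gam_eq_zero_iff]
  constructor
  · rintro ⟨g, hg⟩
    refine ⟨g.hom (one I n), fun a ha => smul_apply_one I g a ha, ?_⟩
    have := congrArg (fun t => t.hom (one I n)) hg
    exact this.trans (fx_apply_one I n _ _)
  · rintro ⟨y, hy, hyx⟩
    refine ⟨fx I n y hy, ?_⟩
    apply hom_ext_Mn
    rw [ModuleCat.hom_comp, LinearMap.comp_apply, fx_apply_one, fx_apply_one, hyx]

lemma ker_dn_le (n : ℕ) : LinearMap.ker (dn I E q n) ≤ LinearMap.ker (toP I E q n) := by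
  intro x hx
  obtain ⟨y, hy, hyx⟩ := (dn_eq_zero_iff I E q n x).1 (LinearMap.mem_ker.1 hx)
  exact LinearMap.mem_ker.2 (toP_eq_zero_of I E q n x y n hy hyx)

/-- the legs of the cocone -/
noncomputable def leg (n : ℕ) : Tn I E q n →ₗ[A] PP I E q :=
  (Submodule.liftQ (LinearMap.ker (dn I E q n)) (toP I E q n) (ker_dn_le I E q n)) ∘ₗ
    ((dn I E q n).quotKerEquivOfSurjective (dn_surjective I E q n)).symm.toLinearMap

lemma leg_dn (n : ℕ) (x : Zn I E q n) : leg I E q n (dn I E q n x) = toP I E q n x := by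
  have h1 : ((dn I E q n).quotKerEquivOfSurjective (dn_surjective I E q n)).symm (dn I E q n x) =
      Submodule.Quotient.mk x := by
    rw [LinearEquiv.symm_apply_eq]
    exact (LinearMap.quotKerEquivOfSurjective_apply_mk _ _ x).symm
  unfold leg
  rw [LinearMap.comp_apply, LinearEquiv.coe_coe, h1, Submodule.liftQ_apply]

lemma leg_trans (n m : ℕ) (h : n ≤ m) (φ : Tn I E q n) :
    leg I E q m ((DerivedCategory.singleFunctor (ModuleCat.{u} A) 0).map (pr I n m h) ≫ φ) =
      leg I E q n φ := by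
  obtain ⟨x, rfl⟩ := dn_surjective I E q n φ
  rw [dn_trans I E q n m h x
    ⟨x.1, fun a ha => x.2.1 a (Ideal.pow_le_pow_right h ha), x.2.2⟩ rfl, leg_dn, leg_dn]
  rfl

lemma exists_leg_eq (p : PP I E q) : ∃ (n : ℕ) (φ : Tn I E q n), leg I E q n φ = p := by
  obtain ⟨k, rfl⟩ := Submodule.Quotient.mk_surjective _ p
  obtain ⟨n, hn⟩ := (show ↥(DRing.torsionSub I (E.X q)) from k.1).2
  have hk : ((gI I E).d q (q + 1)).hom k.1 = 0 := LinearMap.mem_ker.1 k.2
  have hd : (E.d q (q + 1)).hom (show ↥(DRing.torsionSub I (E.X q)) from k.1).1 = 0 :=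
    (gI_d_val I E q (q + 1) k.1).symm.trans
      (congrArg (fun t : (gI I E).X (q + 1) =>
        (show ↥(DRing.torsionSub I (E.X (q + 1))) from t).1) hk)
  refine ⟨n, dn I E q n ⟨(show ↥(DRing.torsionSub I (E.X q)) from k.1).1, hn, hd⟩, ?_⟩
  rw [leg_dn]
  rfl

lemma exists_trans_eq_zero (n : ℕ) (φ : Tn I E q n) (h : leg I E q n φ = 0) :
    ∃ (m : ℕ) (hm : n ≤ m),
      (DerivedCategory.singleFunctor (ModuleCat.{u} A) 0).map (pr I n m hm) ≫ φ = 0 := by
  obtain ⟨x, rfl⟩ := dn_surjective I E q n φ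
  rw [leg_dn] at h
  obtain ⟨y, m', hy, hyx⟩ := exists_of_toP_eq_zero I E q n x h
  refine ⟨max n m', le_max_left _ _, ?_⟩
  rw [dn_trans I E q n (max n m') (le_max_left _ _) x
    ⟨x.1, fun a ha => x.2.1 a (Ideal.pow_le_pow_right (le_max_left _ _) ha), x.2.2⟩ rfl]
  exact (dn_eq_zero_iff I E q _ _).2
    ⟨y, fun a ha => hy a (Ideal.pow_le_pow_right (le_max_right _ _) ha), hyx⟩

end KInj

/-! ### the colimit -/

/-- the diagram whose colimit is `HDI` -/
noncomputable abbrev FF (K : Dual.D A) : ℕᵒᵖᵒᵖ ⥤ ModuleCat.{u + 1} A :=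
  (localCohomology.ringModIdeals (localCohomology.idealPowersDiagram I) ⋙
      DerivedCategory.singleFunctor (ModuleCat.{u} A) 0).op ⋙
    (linearYoneda A (Dual.D A)).obj (K⟦q⟧)

section KInj

variable [E.IsKInjective]

/-- the comparison map from the direct limit -/
noncomputable def Phi :
    Module.DirectLimit (GF (FF I q (DerivedCategory.Q.obj E)))
      (tF (FF I q (DerivedCategory.Q.obj E))) →ₗ[A] PP I E q :=
  Module.DirectLimit.lift A ℕ _ _ (fun n => leg I E q n)
    (fun n m h φ => leg_trans I E q n m h φ)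

lemma Phi_bijective : Function.Bijective (Phi I E q) := by
  constructor
  · rw [injective_iff_map_eq_zero]
    intro z hz
    obtain ⟨n, φ, rfl⟩ := Module.DirectLimit.exists_of z
    have hz' : leg I E q n φ = 0 := by
      rw [← hz]
      exact (Module.DirectLimit.lift_of _ _ φ).symm
    obtain ⟨m, hm, h0⟩ := exists_trans_eq_zero I E q n φ hz'
    have h1 : tF (FF I q (DerivedCategory.Q.obj E)) n m hm φ = 0 := h0
    rw [← Module.DirectLimit.of_f (i := n) (j := m) (hij := hm) (x := φ), h1, map_zero]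
  · intro p
    obtain ⟨n, φ, rfl⟩ := exists_leg_eq I E q p
    exact ⟨Module.DirectLimit.of A ℕ _ _ n φ, Module.DirectLimit.lift_of _ _ φ⟩

/-- `colim_n Hom(A/I^n, (Q E)⟦q⟧) = H^q(Γ_I E)` -/
noncomputable def colimEquiv :
    (Dual2.HDI A I (DerivedCategory.Q.obj E) q) ≃ₗ[A] PP I E q :=
  (colimit.isoColimitCocone ⟨coconeF (FF I q (DerivedCategory.Q.obj E)),
    isColimitF _⟩).toLinearEquiv ≪≫ₗ
    LinearEquiv.ofBijective (Phi I E q) (Phi_bijective I E q)

end KInj

/-- the homology of `Γ_I E` as a quotient -/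
noncomputable def homologyEquiv : (gI I E).homology q ≃ₗ[A] PP I E q :=
  ((gI I E).homologyIsoSc' (q - 1) q (q + 1) (by simp) (by simp) ≪≫
    (SS I E q).moduleCatHomologyIso).toLinearEquiv

/-- `H^q(RΓ_I K)` is the direct limit of `Hom(A/I^n, K[q])` -/
theorem nonempty_HD_RgammaI_equiv_HDI [DRing.HasRgammaI I] (K : Dual.D A) :
    Nonempty (Dual.HD A ((DRing.RgammaI I).obj K) q ≃ₗ[A] Dual2.HDI A I K q) := by
  obtain ⟨E, hEK, -, ⟨e⟩⟩ := RGa.exists_model K
  haveI := hEK
  haveI := isIso_uu I E hEK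
  let i1 : (DerivedCategory.homologyFunctor (ModuleCat.{u} A) q).obj ((DRing.RgammaI I).obj K) ≅
      (gI I E).homology q :=
    (DerivedCategory.homologyFunctor (ModuleCat.{u} A) q).mapIso
      ((DRing.RgammaI I).mapIso e ≪≫ (asIso (uu I E)).symm) ≪≫
      (DerivedCategory.homologyFunctorFactors (ModuleCat.{u} A) q).app (gI I E)
  let i2 : Dual2.HDI A I K q ≅ Dual2.HDI A I (DerivedCategory.Q.obj E) q :=
    HasColimit.isoOfNatIso (Functor.isoWhiskerLeft _
      ((linearYoneda A (Dual.D A)).mapIso ((shiftFunctor (Dual.D A) q).mapIso e)))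
  exact ⟨i1.toLinearEquiv ≪≫ₗ homologyEquiv I E q ≪≫ₗ (colimEquiv I E q).symm ≪≫ₗ
    i2.symm.toLinearEquiv⟩

end Groth.Agent.Lib.Helper21.RGg
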