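import Mathlib
import Groth.Agent.Lib.Helper21.RGe
import Groth.Agent.Lib.Helper21.RGg
import Groth.Agent.Lib.Helper18.DualFin
import Groth.Agent.Lib.Helper18.DRExt

/-!
# `RΓ_I` and restriction of scalars (helper21)

For a map of Noetherian rings `A → B`, an ideal `I` of `A` and `K` in `D(B)`:
`RΓ_I(K_A) ≅ (RΓ_{IB} K)_A`, hence `H^i_I(K_A) ≅ H^i_{IB}(K)_A`.
-/

set_option autoImplicit false
set_option linter.style.haveILetI false
set_option linter.unusedSectionVars false
universe u
open CategoryTheory CategoryTheory.Limits CategoryTheory.Pretriangulated DerivedCategory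

attribute [local instance] HasDerivedCategory.standard

namespace Groth.Agent.Lib.Helper21.RGh

open Groth.Agent.Lib.Helper21.RGa Groth.Agent.Lib.Helper21.RGb Groth.Agent.Lib.Helper21.RGd
  Groth.Agent.Lib.Helper21.RGe Groth.Agent.Lib.Helper4.LC Groth.Agent.Lib.Helper18.DR

/-- the total right derived functor of `Γ_I` exists -/
lemma hasRgammaI {A : Type u} [CommRing A] (I : Ideal A) : DRing.HasRgammaI I :=
  Groth.Agent.Lib.Helper2.LocalRes.hasRightDerivedFunctor _
    (Groth.Agent.Lib.Helper2.exists_local_resolution (RGa.hasKInj A)) _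

variable {A B : Type u} [CommRing A] [CommRing B] [Algebra A B]

lemma finv_restrictD (a : A) (N : Dual.D B) (hN : FInv (algebraMap A B a) N) :
    FInv a ((DRing.restrictD (algebraMap A B)).obj N) := by
  unfold FInv at hN ⊢
  rw [← restrictD_map_smul_id a N]
  infer_instance

lemma isPowerTorsion_restrictScalars (I : Ideal A) (M : ModuleCat.{u} B)
    (hM : LocCoh.IsPowerTorsion (I.map (algebraMap A B)) M) :
    LocCoh.IsPowerTorsion I
      ((ModuleCat.restrictScalars.{u} (algebraMap A B)).obj M) := by
  intro x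
  obtain ⟨n, hn⟩ := hM x
  refine ⟨n, fun a ha => ?_⟩
  have h1 : algebraMap A B a ∈ (I.map (algebraMap A B)) ^ n := by
    rw [← Ideal.map_pow]
    exact Ideal.mem_map_of_mem _ ha
  exact hn _ h1

lemma isPowerTorsion_HD_restrictD (I : Ideal A) (Y : Dual.D B)
    (hY : ∀ i : ℤ, LocCoh.IsPowerTorsion (I.map (algebraMap A B)) (Dual.HD B Y i)) (i : ℤ) :
    LocCoh.IsPowerTorsion I (Dual.HD A ((DRing.restrictD (algebraMap A B)).obj Y) i) :=
  isPowerTorsion_of_injective I
    (homologyMapDIso (ModuleCat.restrictScalars.{u} (algebraMap A B)) Y i).hom.hom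
    (injective_of_isIso _) (isPowerTorsion_restrictScalars I _ (hY i))

variable [IsNoetherianRing A] [IsNoetherianRing B] (I : Ideal A) [DRing.HasRgammaI I]

/-- one generator -/
theorem bijective_comp_res_iotaC_single (b : A) (hb : b ∈ I) (E : DRing.Cx B)
    (hE : ∀ n, Module.Injective B (E.X n)) (L : Dual.D A)
    (hL : ∀ i : ℤ, LocCoh.IsPowerTorsion I (Dual.HD A L i)) :
    Function.Bijective (fun g : L ⟶ (DRing.restrictD (algebraMap A B)).obj
        (DerivedCategory.Q.obj (gI (Ideal.span {algebraMap A B b}) E)) =>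
      g ≫ (DRing.restrictD (algebraMap A B)).map
        (DerivedCategory.Q.map (iotaC (Ideal.span {algebraMap A B b}) E))) := by
  have hS := Sb_shortExact (algebraMap A B b) E hE
  have hT : triangleOfSES hS ∈ distTriang (Dual.D B) := triangleOfSES_distinguished hS
  have hT' := (DRing.restrictD (algebraMap A B)).map_distinguished _ hT
  have hR := finv_restrictD b _ (finv_Q_Rb (algebraMap A B b) E)
  have hs0 : Subsingleton (L ⟶ (DRing.restrictD (algebraMap A B)).obj
      (DerivedCategory.Q.obj (Rb (algebraMap A B b) E))) :=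
    subsingleton_hom_of_finv I hb L _ hL hR
  have hs1 : Subsingleton (L ⟶ ((DRing.restrictD (algebraMap A B)).obj
      (DerivedCategory.Q.obj (Rb (algebraMap A B b) E)))⟦(-1 : ℤ)⟧) :=
    subsingleton_hom_of_finv I hb L _ hL (hR.shift (-1))
  constructor
  · intro g₁ g₂ hg
    have hg' : g₁ ≫ (DRing.restrictD (algebraMap A B)).map
        (DerivedCategory.Q.map (iotaC (Ideal.span {algebraMap A B b}) E)) =
        g₂ ≫ (DRing.restrictD (algebraMap A B)).map
        (DerivedCategory.Q.map (iotaC (Ideal.span {algebraMap A B b}) E)) := hg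
    have h0 : (g₁ - g₂) ≫ ((DRing.restrictD (algebraMap A B)).mapTriangle.obj
        (triangleOfSES hS)).invRotate.mor₂ = 0 := by
      change (g₁ - g₂) ≫ (DRing.restrictD (algebraMap A B)).map
        (DerivedCategory.Q.map (iotaC (Ideal.span {algebraMap A B b}) E)) = 0
      rw [Preadditive.sub_comp, hg', sub_self]
    obtain ⟨h, hh⟩ : ∃ h : L ⟶ ((DRing.restrictD (algebraMap A B)).obj
        (DerivedCategory.Q.obj (Rb (algebraMap A B b) E)))⟦(-1 : ℤ)⟧,
        g₁ - g₂ = h ≫ ((DRing.restrictD (algebraMap A B)).mapTriangle.obj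
          (triangleOfSES hS)).invRotate.mor₁ :=
      Triangle.coyoneda_exact₂ _ (inv_rot_of_distTriang _ hT') (g₁ - g₂) h0
    have h1 : h = 0 := hs1.elim _ _
    subst h1
    exact sub_eq_zero.1 (hh.trans zero_comp)
  · intro g
    have h0 : g ≫ ((DRing.restrictD (algebraMap A B)).mapTriangle.obj
        (triangleOfSES hS)).mor₂ = 0 := hs0.elim _ _
    obtain ⟨h, hh⟩ : ∃ h : L ⟶ (DRing.restrictD (algebraMap A B)).obj
        (DerivedCategory.Q.obj (gI (Ideal.span {algebraMap A B b}) E)),
        g = h ≫ (DRing.restrictD (algebraMap A B)).map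
          (DerivedCategory.Q.map (iotaC (Ideal.span {algebraMap A B b}) E)) :=
      Triangle.coyoneda_exact₂ _ hT' g h0
    exact ⟨h, hh.symm⟩

/-- finitely many generators -/
theorem bijective_comp_res_iotaC (t : Finset B) :
    ∀ (_ : ∀ b' ∈ t, ∃ b ∈ I, algebraMap A B b = b') (E : DRing.Cx B)
      (_ : ∀ n, Module.Injective B (E.X n)) (L : Dual.D A)
      (_ : ∀ i : ℤ, LocCoh.IsPowerTorsion I (Dual.HD A L i)),
      Function.Bijective (fun g : L ⟶ (DRing.restrictD (algebraMap A B)).obj
          (DerivedCategory.Q.obj (gI (Ideal.span (t : Set B)) E)) =>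
        g ≫ (DRing.restrictD (algebraMap A B)).map
          (DerivedCategory.Q.map (iotaC (Ideal.span (t : Set B)) E))) := by
  classical
  induction t using Finset.induction_on with
  | empty =>
    intro _ E hE L hL
    haveI : IsIso (iotaC (Ideal.span ((∅ : Finset B) : Set B)) E) :=
      isIso_iotaC_of_forall_mem _ E (fun n x => ⟨1, fun a ha => by
        rw [pow_one, Finset.coe_empty, Ideal.span_empty, Ideal.mem_bot] at ha
        rw [ha, zero_smul]⟩)
    exact bijective_comp_of_isIso _
  | insert b' t hb ih =>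
    intro ht E hE L hL
    obtain ⟨b, hbI, rfl⟩ := ht b' (Finset.mem_insert_self b' t)
    have hmem : ∀ (M : Type u) [AddCommGroup M] [Module B M] (x : M),
        x ∈ DRing.torsionSub (Ideal.span ((insert (algebraMap A B b) t : Finset B) : Set B)) M ↔
          x ∈ DRing.torsionSub (Ideal.span (t : Set B)) M ∧
            x ∈ DRing.torsionSub (Ideal.span {algebraMap A B b}) M := by
      intro M _ _ x
      rw [Finset.coe_insert, Ideal.span_insert, mem_torsionSub_sup_iff, and_comm]
    obtain ⟨θ, hθ⟩ := exists_gI_comp_iso (Ideal.span (t : Set B)) (Ideal.span {algebraMap A B b})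
      (Ideal.span ((insert (algebraMap A B b) t : Finset B) : Set B)) hmem E
    have hE' : ∀ n, Module.Injective B ((gI (Ideal.span (t : Set B)) E).X n) := fun n => by
      haveI := hE n
      exact injective_torsionSub (Ideal.span (t : Set B)) (E.X n)
    have h1 := ih (fun c hc => ht c (Finset.mem_insert_of_mem hc)) E hE L hL
    have h2 := bijective_comp_res_iotaC_single I b hbI (gI (Ideal.span (t : Set B)) E) hE' L hL
    have h3 : Function.Bijective
        (fun g : L ⟶ (DRing.restrictD (algebraMap A B)).obj (DerivedCategory.Q.obj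
          (gI (Ideal.span ((insert (algebraMap A B b) t : Finset B) : Set B)) E)) =>
          g ≫ (DRing.restrictD (algebraMap A B)).map (DerivedCategory.Q.map θ.inv)) :=
      bijective_comp_of_isIso _
    have hc := h1.comp (h2.comp h3)
    have h4 : iotaC (Ideal.span ((insert (algebraMap A B b) t : Finset B) : Set B)) E =
        θ.inv ≫ iotaC (Ideal.span {algebraMap A B b}) (gI (Ideal.span (t : Set B)) E) ≫
          iotaC (Ideal.span (t : Set B)) E := by
      rw [← hθ, Iso.inv_hom_id_assoc]
    have e : (fun g : L ⟶ (DRing.restrictD (algebraMap A B)).obj (DerivedCategory.Q.obj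
          (gI (Ideal.span ((insert (algebraMap A B b) t : Finset B) : Set B)) E)) =>
        g ≫ (DRing.restrictD (algebraMap A B)).map (DerivedCategory.Q.map
          (iotaC (Ideal.span ((insert (algebraMap A B b) t : Finset B) : Set B)) E))) =
        (fun g => g ≫ (DRing.restrictD (algebraMap A B)).map
          (DerivedCategory.Q.map (iotaC (Ideal.span (t : Set B)) E))) ∘
          ((fun g => g ≫ (DRing.restrictD (algebraMap A B)).map (DerivedCategory.Q.map
            (iotaC (Ideal.span {algebraMap A B b}) (gI (Ideal.span (t : Set B)) E)))) ∘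
          (fun g => g ≫ (DRing.restrictD (algebraMap A B)).map
            (DerivedCategory.Q.map θ.inv))) := by
      funext g
      simp only [Function.comp_apply]
      rw [h4, Functor.map_comp, Functor.map_comp, Functor.map_comp, Functor.map_comp,
        Category.assoc, Category.assoc]
    rw [e]
    exact hc

/-- `(RΓ_{IB} K)_A ⟶ K_A` is a coreflection into the `I`-power torsion objects -/
theorem bijective_comp_res_eps [DRing.HasRgammaI (I.map (algebraMap A B))] (K : Dual.D B)
    (L : Dual.D A) (hL : ∀ i : ℤ, LocCoh.IsPowerTorsion I (Dual.HD A L i)) :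
    Function.Bijective (fun g : L ⟶ (DRing.restrictD (algebraMap A B)).obj
        ((DRing.RgammaI (I.map (algebraMap A B))).obj K) =>
      g ≫ (DRing.restrictD (algebraMap A B)).map
        ((DRing.RgammaIε (I.map (algebraMap A B))).app K)) := by
  classical
  obtain ⟨s, hs⟩ := (IsNoetherian.noetherian I : I.FG)
  have hs' : Ideal.span (s : Set A) = I := hs
  have hJ : Ideal.span ((s.image (algebraMap A B) : Finset B) : Set B) =
      I.map (algebraMap A B) := by
    rw [Finset.coe_image, ← Ideal.map_span, hs']
  obtain ⟨E, hEK, hEinj, ⟨e⟩⟩ := RGa.exists_model K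
  haveI := isIso_uu (I.map (algebraMap A B)) E hEK
  have hb : Function.Bijective (fun g : L ⟶ (DRing.restrictD (algebraMap A B)).obj
        (DerivedCategory.Q.obj (gI (I.map (algebraMap A B)) E)) =>
      g ≫ (DRing.restrictD (algebraMap A B)).map
        (DerivedCategory.Q.map (iotaC (I.map (algebraMap A B)) E))) := by
    have := bijective_comp_res_iotaC I (s.image (algebraMap A B))
      (fun b' hb' => by
        obtain ⟨b, hb, rfl⟩ := Finset.mem_image.1 hb'
        exact ⟨b, hs' ▸ Ideal.subset_span hb, rfl⟩)
      E (moduleInjective_of_injective E hEinj) L hL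
    rw [hJ] at this
    exact this
  have h1 : Function.Bijective (fun g : L ⟶ (DRing.restrictD (algebraMap A B)).obj
        ((DRing.RgammaI (I.map (algebraMap A B))).obj K) =>
      g ≫ (DRing.restrictD (algebraMap A B)).map
        ((DRing.RgammaI (I.map (algebraMap A B))).map e.hom ≫
          inv (uu (I.map (algebraMap A B)) E))) := bijective_comp_of_isIso _
  have h3 : Function.Bijective (fun g : L ⟶ (DRing.restrictD (algebraMap A B)).obj
        (DerivedCategory.Q.obj E) =>
      g ≫ (DRing.restrictD (algebraMap A B)).map e.inv) := bijective_comp_of_isIso _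
  have hc := h3.comp (hb.comp h1)
  have e' : (fun g : L ⟶ (DRing.restrictD (algebraMap A B)).obj
        ((DRing.RgammaI (I.map (algebraMap A B))).obj K) =>
      g ≫ (DRing.restrictD (algebraMap A B)).map
        ((DRing.RgammaIε (I.map (algebraMap A B))).app K)) =
      (fun g : L ⟶ (DRing.restrictD (algebraMap A B)).obj (DerivedCategory.Q.obj E) =>
        g ≫ (DRing.restrictD (algebraMap A B)).map e.inv) ∘
      ((fun g : L ⟶ (DRing.restrictD (algebraMap A B)).obj
          (DerivedCategory.Q.obj (gI (I.map (algebraMap A B)) E)) =>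
        g ≫ (DRing.restrictD (algebraMap A B)).map
          (DerivedCategory.Q.map (iotaC (I.map (algebraMap A B)) E))) ∘
      (fun g : L ⟶ (DRing.restrictD (algebraMap A B)).obj
          ((DRing.RgammaI (I.map (algebraMap A B))).obj K) =>
        g ≫ (DRing.restrictD (algebraMap A B)).map
          ((DRing.RgammaI (I.map (algebraMap A B))).map e.hom ≫
            inv (uu (I.map (algebraMap A B)) E)))) := by
    funext g
    simp only [Function.comp_apply, Category.assoc, ← Functor.map_comp]
    rw [eps_eq (I.map (algebraMap A B)) K E hEK e]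
  rw [e']
  exact hc

/-- `RΓ_I(K_A) ≅ (RΓ_{IB} K)_A` -/
theorem nonempty_RgammaI_restrictD_iso [DRing.HasRgammaI (I.map (algebraMap A B))]
    (K : Dual.D B) :
    Nonempty ((DRing.RgammaI I).obj ((DRing.restrictD (algebraMap A B)).obj K) ≅
      (DRing.restrictD (algebraMap A B)).obj
        ((DRing.RgammaI (I.map (algebraMap A B))).obj K)) := by
  obtain ⟨e, -⟩ := exists_iso_of_corefl
    (fun L : Dual.D A => ∀ i : ℤ, LocCoh.IsPowerTorsion I (Dual.HD A L i))
    ((DRing.RgammaIε I).app ((DRing.restrictD (algebraMap A B)).obj K))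
    ((DRing.restrictD (algebraMap A B)).map ((DRing.RgammaIε (I.map (algebraMap A B))).app K))
    (fun i => isPowerTorsion_HD_RgammaI I _ i)
    (fun i => isPowerTorsion_HD_restrictD I _
      (fun j => isPowerTorsion_HD_RgammaI (I.map (algebraMap A B)) K j) i)
    (fun L hL => bijective_comp_eps I L _ hL)
    (fun L hL => bijective_comp_res_eps I K L hL)
  exact ⟨e⟩

/-- restriction of scalars of a linear equivalence (across universes) -/
noncomputable def restrictEquiv {M : ModuleCat.{u} B} {N : ModuleCat.{u + 1} B} (e : M ≃ₗ[B] N) :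
    (ModuleCat.restrictScalars.{u} (algebraMap A B)).obj M ≃ₗ[A]
      (ModuleCat.restrictScalars.{u + 1} (algebraMap A B)).obj N :=
  { toFun := fun x => e x
    invFun := fun y => e.symm y
    left_inv := e.left_inv
    right_inv := e.right_inv
    map_add' := e.map_add
    map_smul' := fun a x => e.map_smul (algebraMap A B a) x }

/-- `H^i_I(K_A) ≅ H^i_{IB}(K)_A` -/
theorem nonempty_HDI_restrictD_iso [DRing.HasRgammaI (I.map (algebraMap A B))]
    (K : Dual.D B) (i : ℤ) :
    Nonempty (Dual2.HDI A I ((DRing.restrictD (algebraMap A B)).obj K) i ≅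
      (ModuleCat.restrictScalars (algebraMap A B)).obj
        (Dual2.HDI B (I.map (algebraMap A B)) K i)) := by
  obtain ⟨e0⟩ := nonempty_RgammaI_restrictD_iso I K
  obtain ⟨e1⟩ := RGg.nonempty_HD_RgammaI_equiv_HDI I i
    ((DRing.restrictD (algebraMap A B)).obj K)
  obtain ⟨e4⟩ := RGg.nonempty_HD_RgammaI_equiv_HDI (I.map (algebraMap A B)) i K
  let e2 := ((DerivedCategory.homologyFunctor (ModuleCat.{u} A) i).mapIso e0).toLinearEquiv
  let e3 := (homologyMapDIso (ModuleCat.restrictScalars.{u} (algebraMap A B))
    ((DRing.RgammaI (I.map (algebraMap A B))).obj K) i).toLinearEquiv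
  exact ⟨(e1.symm ≪≫ₗ e2 ≪≫ₗ e3 ≪≫ₗ restrictEquiv e4).toModuleIso⟩

end Groth.Agent.Lib.Helper21.RGh
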