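import Mathlib
import Groth.Agent.Lib.Helper21.RGh
import Groth.Agent.Lib.Helper18.DRInj
import Groth.Agent.Lib.Helper18.DRDC12
import Groth.Agent.Lib.Helper18.DRDC2
import Groth.Agent.Lib.Helper18.DCmp8
import Groth.Agent.Lib.Helper18.DRPC
import Groth.Agent.Lib.Helper18.DRPerf
import Groth.Agent.Lib.Helper15.FiniteComplete
import Groth.Agent.S1718

/-!
# Local duality for complexes (helper21)

If `RΓ_I ω ≅ E[0]` with `E` injective and `ω` is derived `I`-complete, then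
`Hom(K, ω[-i]) ≅ Hom_A(H^i_I(K), E)` for every `K` in `D(A)`.
-/

set_option autoImplicit false
set_option linter.style.haveILetI false
set_option linter.unusedSectionVars false
universe u
open CategoryTheory CategoryTheory.Limits CategoryTheory.Pretriangulated DerivedCategory

attribute [local instance] HasDerivedCategory.standard

namespace Groth.Agent.Lib.Helper21.RGj

open Groth.Agent.Lib.Helper21.RGa Groth.Agent.Lib.Helper21.RGb Groth.Agent.Lib.Helper21.RGd
  Groth.Agent.Lib.Helper21.RGe Groth.Agent.Lib.Helper4.LC Groth.Agent.Lib.Helper18.DR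

/-- transporting a coreflection property along the shift -/
lemma bijective_comp_shift {C : Type*} [Category C] [HasShift C ℤ] {X Y : C} (φ : X ⟶ Y)
    (m n : ℤ) (hmn : m + n = 0) (L : C)
    (h : Function.Bijective (fun g : L⟦m⟧ ⟶ X => g ≫ φ)) :
    Function.Bijective (fun g : L ⟶ X⟦n⟧ => g ≫ φ⟦n⟧') := by
  let e : (L⟦m⟧)⟦n⟧ ≅ L := (shiftFunctorCompIsoId C m n hmn).app L
  constructor
  · intro g₁ g₂ hg
    have hg' : g₁ ≫ φ⟦n⟧' = g₂ ≫ φ⟦n⟧' := hg
    obtain ⟨g₁', h₁⟩ := (shiftFunctor C n).map_surjective (e.hom ≫ g₁)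
    obtain ⟨g₂', h₂⟩ := (shiftFunctor C n).map_surjective (e.hom ≫ g₂)
    have h3 : g₁' ≫ φ = g₂' ≫ φ := by
      apply (shiftFunctor C n).map_injective
      rw [Functor.map_comp, Functor.map_comp, h₁, h₂, Category.assoc, Category.assoc, hg']
    have h4 : g₁' = g₂' := h.1 h3
    rw [h4, h₂] at h₁
    exact (cancel_epi e.hom).1 h₁.symm
  · intro y
    obtain ⟨y', hy'⟩ := (shiftFunctor C n).map_surjective (e.hom ≫ y)
    obtain ⟨g', hg'⟩ := h.2 y'
    refine ⟨e.inv ≫ (shiftFunctor C n).map g', ?_⟩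
    have hg'' : g' ≫ φ = y' := hg'
    change (e.inv ≫ (shiftFunctor C n).map g') ≫ (shiftFunctor C n).map φ = y
    rw [Category.assoc, ← Functor.map_comp, hg'', hy', Iso.inv_hom_id_assoc]

variable {A : Type u} [CommRing A]

/-- the cohomology functors are `A`-linear -/
lemma H_map_smul (a : A) (i : ℤ) {X Y : Dual.D A} (φ : X ⟶ Y) :
    (H A i).map (a • φ) = a • (H A i).map φ := by
  have h1 : a • φ = (a • 𝟙 X) ≫ φ := by rw [Linear.smul_comp, Category.id_comp]
  rw [h1, Functor.map_comp]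
  ext x
  change ((H A i).map φ).hom (((H A i).map (a • 𝟙 X)).hom x) = a • ((H A i).map φ).hom x
  rw [H_map_smul_id_apply, map_smul]

/-- `Hom(K, I[-n]) → Hom(H^n K, I)` as a linear map -/
noncomputable def homToSgLin (n : ℤ) (I : ModuleCat.{u} A) (K : Dual.D A) :
    (K ⟶ Sg n I) →ₗ[A] ((H A n).obj K ⟶ I) where
  toFun φ := (H A n).map φ ≫ (HSg n I).hom
  map_add' φ ψ := by rw [Functor.map_add, Preadditive.add_comp]
  map_smul' a φ := by rw [H_map_smul, Linear.smul_comp, RingHom.id_apply]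

lemma homToSgLin_bijective (n : ℤ) (I : ModuleCat.{u} A) [Injective I] (K : Dual.D A) :
    Function.Bijective (homToSgLin n I K) := by
  constructor
  · rw [injective_iff_map_eq_zero]
    intro φ hφ
    have h0 : (H A n).map φ ≫ (HSg n I).hom = 0 := hφ
    apply hom_to_Sg_eq_zero n I K φ
    rw [← cancel_mono (HSg n I).hom, h0, zero_comp]
  · intro g
    exact exists_hom_to_Sg n I K g

/-- an object with cohomology only in degree `0` is a module in degree `0` -/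
lemma nonempty_iso_Sg_of_HD (X : Dual.D A) (E : Type u) [AddCommGroup E] [Module A E]
    (h0 : Nonempty (Dual.HD A X 0 ≃ₗ[A] E))
    (hz : ∀ q : ℤ, q ≠ 0 → Subsingleton (Dual.HD A X q)) :
    Nonempty (X ≅ Sg 0 (ModuleCat.of A E)) := by
  haveI : X.IsLE 0 := by
    rw [DerivedCategory.isLE_iff]
    intro q hq
    haveI := hz q (by omega)
    exact ModuleCat.isZero_of_subsingleton _
  haveI : X.IsGE 0 := by
    rw [DerivedCategory.isGE_iff]
    intro q hq
    haveI := hz q (by omega)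
    exact ModuleCat.isZero_of_subsingleton _
  obtain ⟨M, ⟨e⟩⟩ := exists_iso_singleFunctor_obj_of_isGE_of_isLE X 0
  obtain ⟨e0⟩ := h0
  let e0' : (H A 0).obj X ≅ ModuleCat.of A E := e0.toModuleIso
  let eM : M ≅ ModuleCat.of A E := (HSg 0 M).symm ≪≫ (H A 0).mapIso e.symm ≪≫ e0'
  exact ⟨e ≪≫ (singleFunctor (ModuleCat.{u} A) 0).mapIso eM⟩

lemma isPowerTorsion_HD_shift (I : Ideal A) (X : Dual.D A) (i : ℤ)
    (hX : ∀ j : ℤ, LocCoh.IsPowerTorsion I (Dual.HD A X j)) (j : ℤ) :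
    LocCoh.IsPowerTorsion I (Dual.HD A (X⟦i⟧) j) :=
  isPowerTorsion_of_injective I ((HShiftIso A i j (i + j) rfl).app X).hom.hom
    (injective_of_isIso _) (hX (i + j))

/-- local duality, abstract form -/
theorem nonempty_hom_equiv_dual_HDI [IsNoetherianRing A] (I : Ideal A) [DRing.HasRgammaI I]
    (ω : Dual.D A) (E : Type u) [AddCommGroup E] [Module A E] [Module.Injective A E]
    (θ : (DRing.RgammaI I).obj ω ≅ Sg 0 (ModuleCat.of A E))
    (hc : DRing.IsDerivedComplete I ω) (K : Dual.D A) (i : ℤ) :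
    Nonempty ((K ⟶ ω⟦-i⟧) ≃ₗ[A] (Dual2.HDI A I K i →ₗ[A] E)) := by
  haveI : Injective (ModuleCat.of A E) := Module.injective_object_of_injective_module A E
  let εK : (DRing.RgammaI I).obj K ⟶ K := (DRing.RgammaIε I).app K
  let εω : (DRing.RgammaI I).obj ω ⟶ ω := (DRing.RgammaIε I).app ω
  have hb1 : Function.Bijective (Linear.leftComp A (ω⟦-i⟧) εK) :=
    bijective_eps_comp I K (ω⟦-i⟧) (isDerivedComplete_shift I hc (-i))
  let α : (Sg 0 (ModuleCat.of A E))⟦-i⟧ ≅ Sg i (ModuleCat.of A E) :=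
    SgShiftIso (-i) i 0 (by omega) (ModuleCat.of A E)
  let ψ : Sg i (ModuleCat.of A E) ⟶ ω⟦-i⟧ := α.inv ≫ (θ.inv)⟦-i⟧' ≫ εω⟦-i⟧'
  have hb2 : Function.Bijective (Linear.rightComp A ((DRing.RgammaI I).obj K) ψ) := by
    have hL : ∀ j : ℤ, LocCoh.IsPowerTorsion I
        (Dual.HD A (((DRing.RgammaI I).obj K)⟦i⟧) j) :=
      isPowerTorsion_HD_shift I _ i (fun j => isPowerTorsion_HD_RgammaI I K j)
    have h1 := bijective_comp_shift εω i (-i) (by omega) ((DRing.RgammaI I).obj K)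
      (bijective_comp_eps I _ ω hL)
    have h2 : Function.Bijective
        (fun g : (DRing.RgammaI I).obj K ⟶ Sg i (ModuleCat.of A E) =>
          g ≫ (α.inv ≫ (θ.inv)⟦-i⟧')) := bijective_comp_of_isIso _
    have e' : (⇑(Linear.rightComp A ((DRing.RgammaI I).obj K) ψ)) =
        (fun g : (DRing.RgammaI I).obj K ⟶ ((DRing.RgammaI I).obj ω)⟦-i⟧ =>
          g ≫ εω⟦-i⟧') ∘
        (fun g : (DRing.RgammaI I).obj K ⟶ Sg i (ModuleCat.of A E) =>
          g ≫ (α.inv ≫ (θ.inv)⟦-i⟧')) := by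
      funext g
      simp only [Function.comp_apply, Linear.rightComp_apply, Category.assoc, ψ]
    rw [e']
    exact h1.comp h2
  have hb3 := homToSgLin_bijective i (ModuleCat.of A E) ((DRing.RgammaI I).obj K)
  let L1 : (K ⟶ ω⟦-i⟧) ≃ₗ[A] ((DRing.RgammaI I).obj K ⟶ ω⟦-i⟧) :=
    LinearEquiv.ofBijective (Linear.leftComp A (ω⟦-i⟧) εK) hb1
  let L2 : ((DRing.RgammaI I).obj K ⟶ Sg i (ModuleCat.of A E)) ≃ₗ[A]
      ((DRing.RgammaI I).obj K ⟶ ω⟦-i⟧) :=
    LinearEquiv.ofBijective (Linear.rightComp A ((DRing.RgammaI I).obj K) ψ) hb2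
  let L3 : ((DRing.RgammaI I).obj K ⟶ Sg i (ModuleCat.of A E)) ≃ₗ[A]
      ((H A i).obj ((DRing.RgammaI I).obj K) ⟶ ModuleCat.of A E) :=
    LinearEquiv.ofBijective
      (homToSgLin i (ModuleCat.of A E) ((DRing.RgammaI I).obj K)) hb3
  obtain ⟨e5⟩ := RGg.nonempty_HD_RgammaI_equiv_HDI I i K
  let L4 : ((H A i).obj ((DRing.RgammaI I).obj K) ⟶ ModuleCat.of A E) ≃ₗ[A]
      (Dual.HD A ((DRing.RgammaI I).obj K) i →ₗ[A] E) := ModuleCat.homLinearEquiv
  let L5 : (Dual.HD A ((DRing.RgammaI I).obj K) i →ₗ[A] E) ≃ₗ[A]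
      (Dual2.HDI A I K i →ₗ[A] E) := LinearEquiv.arrowCongr e5 (LinearEquiv.refl A E)
  let L12 : (K ⟶ ω⟦-i⟧) ≃ₗ[A] ((DRing.RgammaI I).obj K ⟶ Sg i (ModuleCat.of A E)) :=
    L1.trans L2.symm
  let L123 : (K ⟶ ω⟦-i⟧) ≃ₗ[A]
      ((H A i).obj ((DRing.RgammaI I).obj K) ⟶ ModuleCat.of A E) := L12.trans L3
  let L1234 : (K ⟶ ω⟦-i⟧) ≃ₗ[A] (Dual.HD A ((DRing.RgammaI I).obj K) i →ₗ[A] E) :=
    L123.trans L4
  exact ⟨L1234.trans L5⟩

/-- local duality for complexes over a complete Noetherian local ring -/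
theorem local_duality_complete_complex [IsLocalRing A] [IsNoetherianRing A]
    [IsAdicComplete (IsLocalRing.maximalIdeal A) A] (ω : Dual.D A) (hω : Dual.IsDualizing A ω)
    (hn : Dual.IsNormalized A ω) (E : Type u) [AddCommGroup E] [Module A E]
    (f : IsLocalRing.ResidueField A →ₗ[A] E) (hf : InjHull.IsInjectiveHull f)
    (K : Dual.D A) (i : ℤ) :
    Nonempty ((K ⟶ ω⟦(-i)⟧) ≃ₗ[A]
      (Dual2.HDI A (IsLocalRing.maximalIdeal A) K i →ₗ[A] E)) := by
  haveI := RGh.hasRgammaI (IsLocalRing.maximalIdeal A)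
  haveI : Module.Injective A E := hf.isInjective
  obtain ⟨⟨e0⟩, hz⟩ := Groth.Agent.S1718.result A ω hω hn E f hf
  have h0 : Nonempty (Dual.HD A ((DRing.RgammaI (IsLocalRing.maximalIdeal A)).obj ω) 0
      ≃ₗ[A] E) := by
    obtain ⟨e⟩ := RGg.nonempty_HD_RgammaI_equiv_HDI (IsLocalRing.maximalIdeal A) 0 ω
    exact ⟨e ≪≫ₗ e0⟩
  have hz' : ∀ q : ℤ, q ≠ 0 → Subsingleton
      (Dual.HD A ((DRing.RgammaI (IsLocalRing.maximalIdeal A)).obj ω) q) := fun q hq => by
    obtain ⟨e⟩ := RGg.nonempty_HD_RgammaI_equiv_HDI (IsLocalRing.maximalIdeal A) q ω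
    haveI := hz q hq
    exact e.toEquiv.subsingleton
  obtain ⟨θ⟩ := nonempty_iso_Sg_of_HD _ E h0 hz'
  have hc : DRing.IsDerivedComplete (IsLocalRing.maximalIdeal A) ω :=
    (isDerivedComplete_iff_cohomology (IsLocalRing.maximalIdeal A) ω).2 (fun j => by
      haveI := hω.finite_cohomology j
      haveI := Groth.Agent.Lib.Helper15.FiniteComplete.isAdicComplete_of_finite A
        (Dual.HD A ω j)
      exact isDerivedComplete_of_isAdicComplete (IsLocalRing.maximalIdeal A))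
  exact nonempty_hom_equiv_dual_HDI (IsLocalRing.maximalIdeal A) ω E θ hc K i

end Groth.Agent.Lib.Helper21.RGj
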