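import Mathlib
import Groth.Agent.Lib.Helper14.KoszulFun
import Groth.Agent.Lib.Helper4.Koszul
import Groth.Agent.Lib.Helper18.DRBase
import Groth.Agent.Lib.Helper18.KosA

/-!
# The Koszul complex with coefficients in a complex (helper21)

`KosC l X` is the iterated cone of multiplication by the elements of the list `l` on the complex
`X`.  We provide the canonical map `kosι : X ⟶ KosC l X`, functoriality `kosMap` (preserving
quasi-isomorphisms), the factorisation `kosDesc` of a map `X ⟶ Y` through `KosC l X` when the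
elements of `l` kill `Y`, and the fact that the ideal generated by `l` kills the cohomology of
`KosC l X`.
-/

set_option autoImplicit false
set_option linter.style.haveILetI false
universe u

open CategoryTheory CategoryTheory.Limits CochainComplex HomComplex

attribute [local instance] HasDerivedCategory.standard

namespace Groth.Agent.Lib.Helper21.RGt

open Groth.Agent.Lib.Helper14.KoszulFun

variable {A : Type u} [CommRing A]

/-- Koszul complex with coefficients in a complex. -/
noncomputable def KosC : List A → DRing.Cx A → DRing.Cx A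
  | [], X => X
  | f :: fs, X => T f (KosC fs X)

lemma kosC_nil (X : DRing.Cx A) : KosC ([] : List A) X = X := rfl

lemma kosC_cons (f : A) (fs : List A) (X : DRing.Cx A) :
    KosC (f :: fs) X = T f (KosC fs X) := rfl

/-- the canonical map `X ⟶ KosC l X` -/
noncomputable def kosι : ∀ (l : List A) (X : DRing.Cx A), X ⟶ KosC l X
  | [], X => 𝟙 X
  | f :: fs, X => kosι fs X ≫ mappingCone.inr (f • 𝟙 (KosC fs X))

/-- functoriality -/
noncomputable def kosMap : ∀ (l : List A) {X Y : DRing.Cx A} (_ : X ⟶ Y), KosC l X ⟶ KosC l Y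
  | [], _, _, φ => φ
  | f :: fs, _, _, φ => coneMap f (kosMap fs φ)

lemma inr_comp_coneMap' (g : A) {X Y : DRing.Cx A} (φ : X ⟶ Y) :
    mappingCone.inr (g • 𝟙 X) ≫ coneMap g φ = φ ≫ mappingCone.inr (g • 𝟙 Y) := by
  ext p : 1
  exact inr_coneMap g φ p

lemma kosι_naturality : ∀ (l : List A) {X Y : DRing.Cx A} (φ : X ⟶ Y),
    kosι l X ≫ kosMap l φ = φ ≫ kosι l Y
  | [], X, Y, φ => by
    change 𝟙 X ≫ φ = φ ≫ 𝟙 Y
    rw [Category.id_comp, Category.comp_id]
  | f :: fs, X, Y, φ => by
    change (kosι fs X ≫ mappingCone.inr (f • 𝟙 (KosC fs X))) ≫ coneMap f (kosMap fs φ) =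
      φ ≫ (kosι fs Y ≫ mappingCone.inr (f • 𝟙 (KosC fs Y)))
    rw [Category.assoc, inr_comp_coneMap', ← Category.assoc, kosι_naturality fs φ,
      Category.assoc]

/-- a map to a complex killed by `f` factors through the cone of `f` -/
noncomputable def coneDesc (f : A) {X Y : DRing.Cx A} (γ : X ⟶ Y) (hf : f • 𝟙 Y = 0) :
    T f X ⟶ Y :=
  mappingCone.desc (f • 𝟙 X) (0 : Cochain X Y (-1)) γ (by
    have h1 : (f • 𝟙 X) ≫ γ = 0 := by
      have h2 : f • γ = γ ≫ (f • 𝟙 Y) := by rw [Linear.comp_smul, Category.comp_id]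
      rw [Linear.smul_comp, Category.id_comp, h2, hf, comp_zero]
    rw [h1, Cochain.ofHom_zero, δ_zero])

lemma inr_coneDesc (f : A) {X Y : DRing.Cx A} (γ : X ⟶ Y) (hf : f • 𝟙 Y = 0) :
    mappingCone.inr (f • 𝟙 X) ≫ coneDesc f γ hf = γ :=
  mappingCone.inr_desc _ _ _ _

/-- a map to a complex killed by all elements of `l` factors through `KosC l` -/
noncomputable def kosDesc : ∀ (l : List A) {X Y : DRing.Cx A} (_ : X ⟶ Y)
    (_ : ∀ f ∈ l, f • 𝟙 Y = 0), KosC l X ⟶ Y
  | [], _, _, β, _ => β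
  | f :: fs, _, _, β, hY =>
    coneDesc f (kosDesc fs β (fun g hg => hY g (List.mem_cons_of_mem _ hg)))
      (hY f List.mem_cons_self)

lemma kosι_desc : ∀ (l : List A) {X Y : DRing.Cx A} (β : X ⟶ Y)
    (hY : ∀ f ∈ l, f • 𝟙 Y = 0), kosι l X ≫ kosDesc l β hY = β
  | [], _, _, β, _ => Category.id_comp β
  | f :: fs, X, Y, β, hY => by
    change (kosι fs X ≫ mappingCone.inr (f • 𝟙 (KosC fs X))) ≫
      coneDesc f (kosDesc fs β (fun g hg => hY g (List.mem_cons_of_mem _ hg)))
        (hY f List.mem_cons_self) = β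
    rw [Category.assoc, inr_coneDesc, kosι_desc fs β]

/-! ### quasi-isomorphisms -/

lemma isIso_Q_map_coneMap (g : A) {X Y : DRing.Cx A} (φ : X ⟶ Y)
    (hφ : IsIso (DerivedCategory.Q.map φ)) :
    IsIso (DerivedCategory.Q.map (coneMap g φ)) := by
  have comm : (g • 𝟙 X) ≫ φ = φ ≫ (g • 𝟙 Y) := by simp
  have h1 : IsIso (DerivedCategory.Q.mapTriangle.map
      (mappingCone.triangleMap (g • 𝟙 X) (g • 𝟙 Y) φ φ comm)).hom₁ := hφ
  have h2 : IsIso (DerivedCategory.Q.mapTriangle.map
      (mappingCone.triangleMap (g • 𝟙 X) (g • 𝟙 Y) φ φ comm)).hom₂ := hφ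
  exact Pretriangulated.isIso₃_of_isIso₁₂ (DerivedCategory.Q.mapTriangle.map
      (mappingCone.triangleMap (g • 𝟙 X) (g • 𝟙 Y) φ φ comm))
    (DerivedCategory.mappingCone_triangle_distinguished _)
    (DerivedCategory.mappingCone_triangle_distinguished _) h1 h2

lemma isIso_Q_map_kosMap : ∀ (l : List A) {X Y : DRing.Cx A} (φ : X ⟶ Y)
    (_ : IsIso (DerivedCategory.Q.map φ)), IsIso (DerivedCategory.Q.map (kosMap l φ))
  | [], _, _, _, hφ => hφ
  | f :: fs, _, _, φ, hφ => isIso_Q_map_coneMap f (kosMap fs φ) (isIso_Q_map_kosMap fs φ hφ)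

/-! ### termwise properties -/

lemma kosC_finite : ∀ (l : List A) (X : DRing.Cx A) (_ : ∀ i, Module.Finite A (X.X i)) (i : ℤ),
    Module.Finite A ((KosC l X).X i)
  | [], _, hX, i => hX i
  | f :: fs, X, hX, i =>
    (Groth.Agent.Lib.Helper18.DR.finiteProp A).cone (f • 𝟙 (KosC fs X)) (kosC_finite fs X hX)
      (kosC_finite fs X hX) i

lemma kosC_isZero : ∀ (l : List A) (X : DRing.Cx A) (a b : ℤ)
    (_ : ∀ i, i < a ∨ b < i → IsZero (X.X i)) (i : ℤ),
    i < a - l.length ∨ b < i → IsZero ((KosC l X).X i)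
  | [], X, a, b, hX, i, hi => hX i (by simpa using hi)
  | f :: fs, X, a, b, hX, i, hi => by
    simp only [List.length_cons, Nat.cast_add, Nat.cast_one] at hi
    change IsZero ((mappingCone (f • 𝟙 (KosC fs X))).X i)
    rw [mappingCone.isZero_X_iff]
    exact ⟨kosC_isZero fs X a b hX (i + 1) (by omega), kosC_isZero fs X a b hX i (by omega)⟩

/-! ### the ideal generated by `l` kills the cohomology -/

theorem kosC_smul_homotopic_zero_of_mem (X : DRing.Cx A) :
    ∀ (xs : List A) (x : A), x ∈ xs → Nonempty (Homotopy (x • 𝟙 (KosC xs X)) 0) := by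
  intro xs
  induction xs with
  | nil => intro x hx; exact absurd hx List.not_mem_nil
  | cons y ys ih =>
    intro x hx
    rcases List.mem_cons.mp hx with rfl | hx'
    · exact ⟨Groth.Agent.Lib.Helper4.mappingConeSMulHomotopy (KosC ys X) x⟩
    · obtain ⟨s⟩ := ih x hx'
      exact ⟨Groth.Agent.Lib.Helper4.mappingConeHomotopyOfHomotopy (KosC ys X) y x s⟩

theorem kosC_smul_homotopic_zero (X : DRing.Cx A) (xs : List A) (a : A)
    (ha : a ∈ Ideal.span {x | x ∈ xs}) :
    Nonempty (Homotopy (a • 𝟙 (KosC xs X)) 0) := by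
  induction ha using Submodule.span_induction with
  | mem x hx => exact kosC_smul_homotopic_zero_of_mem X xs x hx
  | zero => exact ⟨Homotopy.ofEq (zero_smul _ _)⟩
  | add a b _ _ ha hb =>
    obtain ⟨sa⟩ := ha
    obtain ⟨sb⟩ := hb
    exact ⟨(Homotopy.ofEq (add_smul a b _)).trans ((sa.add sb).trans (Homotopy.ofEq (add_zero 0)))⟩
  | smul c a _ ha =>
    obtain ⟨sa⟩ := ha
    exact ⟨(Homotopy.ofEq (by rw [smul_eq_mul, mul_smul])).trans
      ((sa.smul c).trans (Homotopy.ofEq (smul_zero c)))⟩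

lemma kosC_homology_smul (X : DRing.Cx A) (xs : List A) (a : A)
    (ha : a ∈ Ideal.span {x | x ∈ xs}) (q : ℤ) (c : ↑((KosC xs X).homology q)) :
    a • c = 0 := by
  obtain ⟨h⟩ := kosC_smul_homotopic_zero X xs a ha
  have e := Groth.Agent.Lib.Helper18.DR.Kos.homologyMap_smul_id_apply (KosC xs X) a q c
  rw [← e, h.homologyMap_eq, HomologicalComplex.homologyMap_zero]
  rfl

end Groth.Agent.Lib.Helper21.RGt
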