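import Mathlib

/-!
# Exactness of adic completion under an Artin–Rees condition (helper21)

`ARCond I f`: there is `c` with `I^(n+c) F ∩ range f ⊆ f (I^n K)` for all `n`.
Under this condition (and injectivity of `f`), `AdicCompletion.map I f` is injective, and a
short exact sequence stays exact after completion.  No finiteness hypotheses.
-/

set_option autoImplicit false

open LinearMap

namespace Groth.Agent.Lib.Helper21.RHe

variable {R : Type*} [CommRing R] (I : Ideal R)
variable {K F M : Type*} [AddCommGroup K] [Module R K] [AddCommGroup F] [Module R F]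
  [AddCommGroup M] [Module R M]

/-- Artin–Rees-type condition for a linear map -/
def ARCond (f : K →ₗ[R] F) : Prop :=
  ∃ c : ℕ, ∀ n : ℕ, (I ^ (n + c) • ⊤ : Submodule R F) ⊓ LinearMap.range f ≤
    Submodule.map f (I ^ n • ⊤ : Submodule R K)

/-- the classical Artin–Rees lemma gives the condition -/
theorem arCond_of_noetherian [IsNoetherianRing R] [Module.Finite R F] (f : K →ₗ[R] F) :
    ARCond I f := by
  obtain ⟨k, hk⟩ := Ideal.exists_pow_inf_eq_pow_smul I (LinearMap.range f)
  refine ⟨k, fun n => ?_⟩
  rw [hk (n + k) (by omega), show n + k - k = n by omega]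
  refine le_trans (smul_mono_right _ inf_le_right) ?_
  rw [Submodule.map_smul'', Submodule.map_top]

variable {I}

theorem map_injective_of_AR {f : K →ₗ[R] F} (hf : Function.Injective f) (h : ARCond I f) :
    Function.Injective (AdicCompletion.map I f) := by
  obtain ⟨c, hc⟩ := h
  rw [← LinearMap.ker_eq_bot, LinearMap.ker_eq_bot']
  intro x
  apply AdicCompletion.induction_on I K x (fun a => ?_)
  intro hx
  refine AdicCompletion.mk_zero_of _ _ _ ⟨0, fun n _ => ⟨n + c, by omega, n, le_rfl, ?_⟩⟩
  have h1 : f (a (n + c)) ∈ (I ^ (n + c) • ⊤ : Submodule R F) := by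
    simpa using congrArg (fun x => x.val (n + c)) hx
  obtain ⟨y, hy, hy'⟩ := hc n ⟨h1, ⟨a (n + c), rfl⟩⟩
  rwa [← hf hy']

theorem map_exact_of_AR {f : K →ₗ[R] F} {g : F →ₗ[R] M} (hf : Function.Injective f)
    (hfg : Function.Exact f g) (hg : Function.Surjective g) (h : ARCond I f) :
    Function.Exact (AdicCompletion.map I f) (AdicCompletion.map I g) := by
  obtain ⟨c, hc⟩ := h
  refine LinearMap.exact_of_comp_eq_zero_of_ker_le_range ?_ (fun y => ?_)
  · rw [AdicCompletion.map_comp, hfg.linearMap_comp_eq_zero, AdicCompletion.map_zero]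
  · apply AdicCompletion.induction_on I F y (fun b => ?_)
    intro hz
    have hb : ∀ n : ℕ, g (b n) ∈ (I ^ n • ⊤ : Submodule R M) := fun n => by
      simpa using congrArg (fun x => x.val n) hz
    have h1 : ∀ n : ℕ, ∃ z : F, z ∈ (I ^ n • ⊤ : Submodule R F) ∧ g z = g (b n) := fun n => by
      have : g (b n) ∈ Submodule.map g (I ^ n • ⊤ : Submodule R F) := by
        rw [Submodule.map_smul'', Submodule.map_top, LinearMap.range_eq_top.2 hg]
        exact hb n
      obtain ⟨z, hz, hz'⟩ := this
      exact ⟨z, hz, hz'⟩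
    choose z hz hgz using h1
    have h2 : ∀ n : ℕ, ∃ k : K, f k = b n - z n := fun n => by
      apply (hfg (b n - z n)).1
      rw [map_sub, hgz, sub_self]
    choose k hk using h2
    have h3 : ∀ n : ℕ, k (n + c) ≡ k (n + c + 1) [SMOD (I ^ n • ⊤ : Submodule R K)] := fun n => by
      rw [SModEq.sub_mem]
      have h4 : f (k (n + c) - k (n + c + 1)) ∈ (I ^ (n + c) • ⊤ : Submodule R F) := by
        rw [map_sub, hk, hk]
        have e : b (n + c) - z (n + c) - (b (n + c + 1) - z (n + c + 1)) =
            (b (n + c) - b (n + c + 1)) - z (n + c) + z (n + c + 1) := by abel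
        rw [e]
        refine Submodule.add_mem _ (Submodule.sub_mem _ ?_ (hz (n + c))) ?_
        · rw [← SModEq.sub_mem]
          exact b.property (Nat.le_succ (n + c))
        · exact Submodule.smul_mono_left (Ideal.pow_le_pow_right (Nat.le_succ _))
            (hz (n + c + 1))
      obtain ⟨y, hy, hy'⟩ := hc n ⟨h4, ⟨_, rfl⟩⟩
      rwa [← hf hy']
    have h3' : ∀ n : ℕ, k (n + c) ≡ k (n + 1 + c) [SMOD (I ^ n • ⊤ : Submodule R K)] := fun n => by
      rw [show n + 1 + c = n + c + 1 by omega]
      exact h3 n
    refine ⟨AdicCompletion.mk I K (AdicCompletion.AdicCauchySequence.mk I K (fun n => k (n + c)) h3'), ?_⟩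
    refine AdicCompletion.ext (fun n => ?_)
    change Submodule.Quotient.mk (p := (I ^ n • ⊤ : Submodule R F)) (f (k (n + c))) =
      Submodule.Quotient.mk (p := (I ^ n • ⊤ : Submodule R F)) (b n)
    rw [hk, Submodule.Quotient.eq]
    have e : b (n + c) - z (n + c) - b n = -(b n - b (n + c)) - z (n + c) := by abel
    rw [e]
    refine Submodule.sub_mem _ (Submodule.neg_mem _ ?_) ?_
    · rw [← SModEq.sub_mem]
      exact b.property (Nat.le_add_right n c)
    · exact Submodule.smul_mono_left (Ideal.pow_le_pow_right (Nat.le_add_right n c)) (hz (n + c))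

end Groth.Agent.Lib.Helper21.RHe
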