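import Mathlib
import Groth.Agent.Lib.Helper21.RHe

/-!
# Adic completion of `N ⊗ M` for a flat module `N` over a Noetherian ring (helper21)

For a Noetherian ring `A`, an ideal `I`, a flat `A`-module `N` (no finiteness) and finite modules `M`:
* `M ↦ (N ⊗ M)^` is exact (`cmap_injective`, `cmap_exact`);
* `tau : N^ ⊗ M → (N ⊗ M)^` is bijective (`tau_bijective`);
* `N^` is flat (`flat_completion`);
* for an `I`-power torsion module `T`, `N ⊗ T → N^ ⊗ T` is bijective
  (`rTensor_of_bijective_of_powerTorsion`).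
-/

set_option autoImplicit false
set_option linter.style.haveILetI false
set_option linter.unusedSectionVars false

universe u

open TensorProduct LinearMap

namespace Groth.Agent.Lib.Helper21.RHf

open Groth.Agent.Lib.Helper21.RHe

variable {A : Type u} [CommRing A] (I : Ideal A)
variable (N : Type u) [AddCommGroup N] [Module A N]

section smulTop

variable {M : Type u} [AddCommGroup M] [Module A M]

lemma tmul_mem_smul_top (J : Ideal A) (y : N) {m : M} (hm : m ∈ (J • ⊤ : Submodule A M)) :
    y ⊗ₜ[A] m ∈ (J • ⊤ : Submodule A (N ⊗[A] M)) := by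
  refine Submodule.smul_induction_on hm (fun a ha m' _ => ?_) (fun x y' hx hy => ?_)
  · rw [TensorProduct.tmul_smul]
    exact Submodule.smul_mem_smul ha Submodule.mem_top
  · rw [TensorProduct.tmul_add]
    exact Submodule.add_mem _ hx hy

lemma range_lTensor_subtype_le (J : Ideal A) (V : Submodule A M)
    (hV : V ≤ (J • ⊤ : Submodule A M)) :
    LinearMap.range (lTensor N V.subtype) ≤ (J • ⊤ : Submodule A (N ⊗[A] M)) := by
  rintro _ ⟨t, rfl⟩
  induction t using TensorProduct.induction_on with
  | zero => rw [map_zero]; exact Submodule.zero_mem _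
  | tmul y v =>
    rw [LinearMap.lTensor_tmul]
    exact tmul_mem_smul_top N J y (hV v.2)
  | add a b ha hb =>
    rw [map_add]
    exact Submodule.add_mem _ ha hb

lemma smul_top_le_ker_lTensor_mkQ (J : Ideal A) (U : Submodule A M)
    (hU : (J • ⊤ : Submodule A M) ≤ U) :
    (J • ⊤ : Submodule A (N ⊗[A] M)) ≤ LinearMap.ker (lTensor N U.mkQ) := by
  rw [Submodule.smul_le]
  rintro a ha t -
  rw [LinearMap.mem_ker, map_smul]
  induction t using TensorProduct.induction_on with
  | zero => rw [map_zero, smul_zero]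
  | tmul y m =>
    rw [LinearMap.lTensor_tmul, ← TensorProduct.tmul_smul, ← map_smul, Submodule.mkQ_apply,
      (Submodule.Quotient.mk_eq_zero U).2 (hU (Submodule.smul_mem_smul ha Submodule.mem_top)),
      TensorProduct.tmul_zero]
  | add x y hx hy => rw [map_add, smul_add, hx, hy, add_zero]

end smulTop

section AR

variable [IsNoetherianRing A] [Module.Flat A N]
variable {M₁ M₂ M₃ : Type u} [AddCommGroup M₁] [Module A M₁] [AddCommGroup M₂] [Module A M₂]
  [AddCommGroup M₃] [Module A M₃] [Module.Finite A M₂]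

theorem arCond_lTensor (f : M₁ →ₗ[A] M₂) (hf : Function.Injective f) :
    ARCond I (lTensor N f) := by
  obtain ⟨k, hk⟩ := Ideal.exists_pow_inf_eq_pow_smul I (LinearMap.range f)
  refine ⟨k, fun n => ?_⟩
  rintro z ⟨hz1, ⟨w, rfl⟩⟩
  have h1 : lTensor N ((I ^ (n + k) • ⊤ : Submodule A M₂).mkQ ∘ₗ f) w = 0 := by
    rw [LinearMap.lTensor_comp, LinearMap.comp_apply]
    exact smul_top_le_ker_lTensor_mkQ N (I ^ (n + k)) _ le_rfl hz1
  have hex := Module.Flat.lTensor_exact N
    (LinearMap.exact_subtype_ker_map ((I ^ (n + k) • ⊤ : Submodule A M₂).mkQ ∘ₗ f))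
  obtain ⟨w', hw'⟩ := (hex w).1 h1
  have hV : LinearMap.ker ((I ^ (n + k) • ⊤ : Submodule A M₂).mkQ ∘ₗ f) ≤
      (I ^ n • ⊤ : Submodule A M₁) := by
    intro m hm
    rw [LinearMap.mem_ker, LinearMap.comp_apply, Submodule.mkQ_apply,
      Submodule.Quotient.mk_eq_zero] at hm
    have h2 : f m ∈ I ^ (n + k) • ⊤ ⊓ LinearMap.range f := ⟨hm, ⟨m, rfl⟩⟩
    rw [hk (n + k) (by omega), show n + k - k = n by omega] at h2
    have h3 : f m ∈ Submodule.map f (I ^ n • ⊤ : Submodule A M₁) := by
      rw [Submodule.map_smul'', Submodule.map_top]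
      exact (smul_mono_right (I ^ n) inf_le_right :
        I ^ n • (I ^ k • ⊤ ⊓ LinearMap.range f) ≤ I ^ n • LinearMap.range f) h2
    obtain ⟨y, hy, hy'⟩ := h3
    rwa [← hf hy']
  refine ⟨w, ?_, rfl⟩
  rw [← hw']
  exact range_lTensor_subtype_le N (I ^ n) _ hV ⟨w', rfl⟩

end AR

/-- the `A`-linear map induced on completions -/
noncomputable def cmapA {X Y : Type u} [AddCommGroup X] [Module A X] [AddCommGroup Y] [Module A Y]
    (f : X →ₗ[A] Y) : AdicCompletion I X →ₗ[A] AdicCompletion I Y :=
  (AdicCompletion.map I f).restrictScalars A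

section cmap

variable {X Y Z : Type u} [AddCommGroup X] [Module A X] [AddCommGroup Y] [Module A Y]
  [AddCommGroup Z] [Module A Z]

@[simp] lemma cmapA_apply (f : X →ₗ[A] Y) (x : AdicCompletion I X) :
    cmapA I f x = AdicCompletion.map I f x := rfl

lemma cmap_val (f : X →ₗ[A] Y) (a : AdicCompletion.AdicCauchySequence I X) (n : ℕ) :
    (AdicCompletion.map I f (AdicCompletion.mk I X a)).val n =
      Submodule.Quotient.mk (p := (I ^ n • ⊤ : Submodule A Y)) (f (a n)) := rfl

lemma cmap_add (f g : X →ₗ[A] Y) (x : AdicCompletion I X) :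
    AdicCompletion.map I (f + g) x = AdicCompletion.map I f x + AdicCompletion.map I g x := by
  apply AdicCompletion.induction_on I X x (fun a => ?_)
  refine AdicCompletion.ext (fun n => ?_)
  rw [AdicCompletion.val_add_apply, cmap_val, cmap_val, cmap_val, LinearMap.add_apply,
    Submodule.Quotient.mk_add]

lemma cmap_smul (c : A) (f : X →ₗ[A] Y) (x : AdicCompletion I X) :
    AdicCompletion.map I (c • f) x = c • AdicCompletion.map I f x := by
  apply AdicCompletion.induction_on I X x (fun a => ?_)
  refine AdicCompletion.ext (fun n => ?_)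
  rw [AdicCompletion.val_smul_apply, cmap_val, cmap_val, LinearMap.smul_apply,
    Submodule.Quotient.mk_smul]

end cmap

section tau

variable (M : Type u) [AddCommGroup M] [Module A M]

/-- `y ↦ y ⊗ m` -/
noncomputable def rmk : M →ₗ[A] N →ₗ[A] N ⊗[A] M := (TensorProduct.mk A N M).flip

@[simp] lemma rmk_apply (m : M) (y : N) : rmk N M m y = y ⊗ₜ[A] m := rfl

/-- the bilinear map underlying `tau` -/
noncomputable def tauB : AdicCompletion I N →ₗ[A] M →ₗ[A] AdicCompletion I (N ⊗[A] M) :=
  LinearMap.mk₂ A (fun x m => AdicCompletion.map I (rmk N M m) x)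
    (fun x x' m => map_add _ x x')
    (fun c x m => LinearMap.map_smul_of_tower _ c x)
    (fun x m m' => by
      rw [show rmk N M (m + m') = rmk N M m + rmk N M m' from map_add _ m m', cmap_add])
    (fun c x m => by
      rw [show rmk N M (c • m) = c • rmk N M m from map_smul _ c m, cmap_smul])

/-- the comparison map `N^ ⊗ M → (N ⊗ M)^` -/
noncomputable def tau : AdicCompletion I N ⊗[A] M →ₗ[A] AdicCompletion I (N ⊗[A] M) :=
  TensorProduct.lift (tauB I N M)

lemma tau_tmul (x : AdicCompletion I N) (m : M) :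
    tau I N M (x ⊗ₜ[A] m) = AdicCompletion.map I (rmk N M m) x := rfl

lemma tau_of_tmul (y : N) (m : M) :
    tau I N M (AdicCompletion.of I N y ⊗ₜ[A] m) = AdicCompletion.of I (N ⊗[A] M) (y ⊗ₜ[A] m) := by
  rw [tau_tmul, AdicCompletion.map_of]
  rfl

lemma tau_rTensor_of (z : N ⊗[A] M) :
    tau I N M (rTensor M (AdicCompletion.of I N) z) = AdicCompletion.of I (N ⊗[A] M) z := by
  induction z using TensorProduct.induction_on with
  | zero => rw [map_zero, map_zero, map_zero]
  | tmul y m => rw [LinearMap.rTensor_tmul, tau_of_tmul]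
  | add a b ha hb => rw [map_add, map_add, ha, hb, map_add]

variable {M}

lemma tau_naturality {M' : Type u} [AddCommGroup M'] [Module A M'] (h : M →ₗ[A] M')
    (z : AdicCompletion I N ⊗[A] M) :
    AdicCompletion.map I (lTensor N h) (tau I N M z) =
      tau I N M' (lTensor (AdicCompletion I N) h z) := by
  induction z using TensorProduct.induction_on with
  | zero => rw [map_zero, map_zero, map_zero, map_zero]
  | tmul x m =>
    rw [tau_tmul, LinearMap.lTensor_tmul, tau_tmul, AdicCompletion.map_comp_apply]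
    have e : lTensor N h ∘ₗ rmk N M m = rmk N M' (h m) := by
      ext y
      simp
    rw [e]
  | add a b ha hb => rw [map_add, map_add, ha, hb, map_add, map_add]

end tau

section chase

variable {X₁ X₂ X₃ Y₁ Y₂ Y₃ : Type*} [AddCommGroup X₁] [Module A X₁] [AddCommGroup X₂]
  [Module A X₂] [AddCommGroup X₃] [Module A X₃] [AddCommGroup Y₁] [Module A Y₁]
  [AddCommGroup Y₂] [Module A Y₂] [AddCommGroup Y₃] [Module A Y₃]
  {a₁ : X₁ →ₗ[A] X₂} {a₂ : X₂ →ₗ[A] X₃} {b₁ : Y₁ →ₗ[A] Y₂} {b₂ : Y₂ →ₗ[A] Y₃}
  {t₁ : X₁ →ₗ[A] Y₁} {t₂ : X₂ →ₗ[A] Y₂} {t₃ : X₃ →ₗ[A] Y₃}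

lemma chase_surj_mid (c₁ : ∀ x, t₂ (a₁ x) = b₁ (t₁ x)) (c₂ : ∀ x, t₃ (a₂ x) = b₂ (t₂ x))
    (hb : Function.Exact b₁ b₂) (ha₂ : Function.Surjective a₂)
    (h₁ : Function.Surjective t₁) (h₃ : Function.Surjective t₃) : Function.Surjective t₂ := by
  intro y
  obtain ⟨x₃, hx₃⟩ := h₃ (b₂ y)
  obtain ⟨x₂, rfl⟩ := ha₂ x₃
  have h : b₂ (y - t₂ x₂) = 0 := by rw [map_sub, ← c₂, hx₃, sub_self]
  obtain ⟨y₁, hy₁⟩ := (hb _).1 h
  obtain ⟨x₁, rfl⟩ := h₁ y₁
  refine ⟨x₂ + a₁ x₁, ?_⟩
  rw [map_add, c₁, hy₁]
  abel

lemma chase_inj_mid (c₁ : ∀ x, t₂ (a₁ x) = b₁ (t₁ x)) (c₂ : ∀ x, t₃ (a₂ x) = b₂ (t₂ x))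
    (ha : Function.Exact a₁ a₂) (hb₁ : Function.Injective b₁)
    (h₁ : Function.Injective t₁) (h₃ : Function.Injective t₃) : Function.Injective t₂ := by
  rw [injective_iff_map_eq_zero]
  intro x hx
  have h : a₂ x = 0 := by
    apply h₃
    rw [c₂, hx, map_zero, map_zero]
  obtain ⟨x₁, rfl⟩ := (ha _).1 h
  have h' : t₁ x₁ = 0 := by
    apply hb₁
    rw [← c₁, hx, map_zero]
  have h'' : x₁ = 0 := h₁ (by rw [h', map_zero])
  rw [h'', map_zero]

lemma chase_inj_right (c₁ : ∀ x, t₂ (a₁ x) = b₁ (t₁ x)) (c₂ : ∀ x, t₃ (a₂ x) = b₂ (t₂ x))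
    (ha₂ : Function.Surjective a₂) (hba : ∀ x, a₂ (a₁ x) = 0) (hb : Function.Exact b₁ b₂)
    (h₁ : Function.Surjective t₁) (h₂ : Function.Injective t₂) : Function.Injective t₃ := by
  rw [injective_iff_map_eq_zero]
  intro x₃ hx
  obtain ⟨x₂, rfl⟩ := ha₂ x₃
  have h : b₂ (t₂ x₂) = 0 := by rw [← c₂, hx]
  obtain ⟨y₁, hy₁⟩ := (hb _).1 h
  obtain ⟨x₁, rfl⟩ := h₁ y₁
  have h' : x₂ = a₁ x₁ := h₂ (by rw [c₁, hy₁])
  rw [h', hba]

lemma chase_surj_right (c₂ : ∀ x, t₃ (a₂ x) = b₂ (t₂ x))
    (hb₂ : Function.Surjective b₂) (h₂ : Function.Surjective t₂) : Function.Surjective t₃ := by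
  intro y
  obtain ⟨y₂, rfl⟩ := hb₂ y
  obtain ⟨x₂, rfl⟩ := h₂ y₂
  exact ⟨a₂ x₂, c₂ x₂⟩

end chase

lemma subsingleton_tensor_right (Y X : Type u) [AddCommGroup Y] [Module A Y] [AddCommGroup X]
    [Module A X] [Subsingleton X] : Subsingleton (Y ⊗[A] X) := by
  refine ⟨fun a b => ?_⟩
  have h : ∀ t : Y ⊗[A] X, t = 0 := fun t => by
    induction t using TensorProduct.induction_on with
    | zero => rfl
    | tmul y x => rw [Subsingleton.elim x 0, TensorProduct.tmul_zero]
    | add a b ha hb => rw [ha, hb, add_zero]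
  rw [h a, h b]

lemma subsingleton_completion (X : Type u) [AddCommGroup X] [Module A X] [Subsingleton X] :
    Subsingleton (AdicCompletion I X) := by
  refine ⟨fun a b => ?_⟩
  have h : ∀ t : AdicCompletion I X, t = 0 := fun t => by
    apply AdicCompletion.induction_on I X t (fun s => ?_)
    have : s = 0 := by
      ext n
      exact Subsingleton.elim _ _
    rw [this, map_zero]
  rw [h a, h b]

section exactness

variable [IsNoetherianRing A] [Module.Flat A N]
variable {M₁ M₂ M₃ : Type u} [AddCommGroup M₁] [Module A M₁] [AddCommGroup M₂] [Module A M₂]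
  [AddCommGroup M₃] [Module A M₃] [Module.Finite A M₂]
  {f : M₁ →ₗ[A] M₂} {g : M₂ →ₗ[A] M₃}

theorem cmap_injective (hf : Function.Injective f) :
    Function.Injective (cmapA I (lTensor N f)) :=
  map_injective_of_AR (Module.Flat.lTensor_preserves_injective_linearMap f hf)
    (arCond_lTensor I N f hf)

theorem cmap_exact (hf : Function.Injective f) (hfg : Function.Exact f g)
    (hg : Function.Surjective g) :
    Function.Exact (cmapA I (lTensor N f)) (cmapA I (lTensor N g)) :=
  map_exact_of_AR (Module.Flat.lTensor_preserves_injective_linearMap f hf)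
    (Module.Flat.lTensor_exact N hfg) (LinearMap.lTensor_surjective N hg)
    (arCond_lTensor I N f hf)

omit [IsNoetherianRing A] [Module.Flat A N] [Module.Finite A M₂] in
theorem cmap_surjective (hg : Function.Surjective g) :
    Function.Surjective (cmapA I (lTensor N g)) :=
  AdicCompletion.map_surjective I (LinearMap.lTensor_surjective N hg)

end exactness

section main

variable [IsNoetherianRing A] [Module.Flat A N]

theorem tau_self_bijective : Function.Bijective (tau I N A) := by
  have h : ∀ z, tau I N A z = (AdicCompletion.congr I (TensorProduct.rid A N).symm)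
      (TensorProduct.rid A (AdicCompletion I N) z) := by
    intro z
    induction z using TensorProduct.induction_on with
    | zero => rw [map_zero, map_zero, map_zero]
    | tmul x a =>
      rw [tau_tmul, TensorProduct.rid_tmul, AdicCompletion.congr_apply,
        LinearMap.map_smul_of_tower, ← cmap_smul]
      have e : rmk N A a = a • ((TensorProduct.rid A N).symm : N →ₗ[A] N ⊗[A] A) := by
        ext y
        simp [TensorProduct.smul_tmul']
        rw [TensorProduct.smul_tmul, smul_eq_mul, mul_one]
      rw [e]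
    | add a b ha hb => rw [map_add, ha, hb, map_add, map_add]
  have h' : ⇑(tau I N A) = ⇑(AdicCompletion.congr I (TensorProduct.rid A N).symm) ∘
      ⇑(TensorProduct.rid A (AdicCompletion I N)) := funext h
  rw [h']
  exact (LinearEquiv.bijective _).comp (LinearEquiv.bijective _)

theorem tau_surjective (M : Type u) [AddCommGroup M] [Module A M] [Module.Finite A M] :
    Function.Surjective (tau I N M) := by
  induction ‹Module.Finite A M› using
    IsNoetherianRing.induction_on_isQuotientEquivQuotientPrime A with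
  | subsingleton X =>
    haveI := subsingleton_tensor_right (A := A) N X
    haveI := subsingleton_completion I (N ⊗[A] X)
    intro y
    exact ⟨0, Subsingleton.elim _ _⟩
  | quotient X p e =>
    have hπ : Function.Surjective (e.symm.toLinearMap ∘ₗ (Submodule.mkQ p.asIdeal)) :=
      e.symm.surjective.comp (Submodule.mkQ_surjective _)
    exact chase_surj_right (a₂ := lTensor (AdicCompletion I N) _)
      (b₂ := cmapA I (lTensor N (e.symm.toLinearMap ∘ₗ (Submodule.mkQ p.asIdeal))))
      (t₂ := tau I N A) (t₃ := tau I N X)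
      (fun z => (tau_naturality I N _ z).symm) (cmap_surjective I N hπ)
      (tau_self_bijective I N).2
  | exact X₁ X₂ X₃ f g hf hg hfg h₁ h₃ =>
    exact chase_surj_mid (a₁ := lTensor (AdicCompletion I N) f)
      (a₂ := lTensor (AdicCompletion I N) g)
      (b₁ := cmapA I (lTensor N f)) (b₂ := cmapA I (lTensor N g))
      (t₁ := tau I N X₁) (t₂ := tau I N X₂) (t₃ := tau I N X₃)
      (fun z => (tau_naturality I N f z).symm) (fun z => (tau_naturality I N g z).symm)
      (cmap_exact I N hf hfg hg) (LinearMap.lTensor_surjective _ hg) h₁ h₃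

theorem tau_bijective (M : Type u) [AddCommGroup M] [Module A M] [Module.Finite A M] :
    Function.Bijective (tau I N M) := by
  refine ⟨?_, tau_surjective I N M⟩
  induction ‹Module.Finite A M› using
    IsNoetherianRing.induction_on_isQuotientEquivQuotientPrime A with
  | subsingleton X =>
    haveI := subsingleton_tensor_right (A := A) (AdicCompletion I N) X
    intro a b _
    exact Subsingleton.elim _ _
  | quotient X p e =>
    have hπ : Function.Surjective (e.symm.toLinearMap ∘ₗ (Submodule.mkQ p.asIdeal)) :=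
      e.symm.surjective.comp (Submodule.mkQ_surjective _)
    have hex : Function.Exact (Submodule.subtype p.asIdeal)
        (e.symm.toLinearMap ∘ₗ (Submodule.mkQ p.asIdeal)) := by
      intro y
      rw [LinearMap.comp_apply, LinearEquiv.coe_coe, LinearEquiv.map_eq_zero_iff]
      exact LinearMap.exact_subtype_mkQ p.asIdeal y
    exact chase_inj_right (a₁ := lTensor (AdicCompletion I N) (Submodule.subtype p.asIdeal))
      (a₂ := lTensor (AdicCompletion I N) (e.symm.toLinearMap ∘ₗ (Submodule.mkQ p.asIdeal)))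
      (b₁ := cmapA I (lTensor N (Submodule.subtype p.asIdeal)))
      (b₂ := cmapA I (lTensor N (e.symm.toLinearMap ∘ₗ (Submodule.mkQ p.asIdeal))))
      (t₁ := tau I N p.asIdeal) (t₂ := tau I N A) (t₃ := tau I N X)
      (fun z => (tau_naturality I N _ z).symm) (fun z => (tau_naturality I N _ z).symm)
      (LinearMap.lTensor_surjective _ hπ)
      (fun z => (_root_.lTensor_exact (AdicCompletion I N) hex hπ).apply_apply_eq_zero z)
      (cmap_exact I N (Submodule.injective_subtype _) hex hπ)
      (tau_surjective I N p.asIdeal) (tau_self_bijective I N).1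
  | exact X₁ X₂ X₃ f g hf hg hfg h₁ h₃ =>
    exact chase_inj_mid (a₁ := lTensor (AdicCompletion I N) f)
      (a₂ := lTensor (AdicCompletion I N) g)
      (b₁ := cmapA I (lTensor N f)) (b₂ := cmapA I (lTensor N g))
      (t₁ := tau I N X₁) (t₂ := tau I N X₂) (t₃ := tau I N X₃)
      (fun z => (tau_naturality I N f z).symm) (fun z => (tau_naturality I N g z).symm)
      (_root_.lTensor_exact (AdicCompletion I N) hfg hg) (cmap_injective I N hf) h₁ h₃

/-- the completion of a flat module over a Noetherian ring is flat -/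
theorem flat_completion : Module.Flat A (AdicCompletion I N) := by
  rw [Module.Flat.iff_lTensor_injective']
  intro J
  have h1 : Function.Injective (tau I N J) := (tau_bijective I N J).1
  have h2 : Function.Injective (cmapA I (lTensor N (Submodule.subtype J))) :=
    cmap_injective I N (Submodule.injective_subtype J)
  intro z z' hzz'
  apply h1
  apply h2
  rw [cmapA_apply, cmapA_apply, tau_naturality, tau_naturality, hzz']

end main

section torsion

lemma of_bijective_of_killed (X : Type u) [AddCommGroup X] [Module A X] (k : ℕ)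
    (hk : ∀ a ∈ I ^ k, ∀ x : X, a • x = 0) : Function.Bijective (AdicCompletion.of I X) := by
  have hbot : (I ^ k • ⊤ : Submodule A X) = ⊥ := by
    rw [eq_bot_iff, Submodule.smul_le]
    intro a ha x _
    rw [hk a ha x]
    exact Submodule.zero_mem _
  rw [AdicCompletion.of_bijective_iff]
  have h1 : IsHausdorff I X := ⟨fun x hx => by
    have := hx k
    rw [SModEq.sub_mem, hbot, Submodule.mem_bot, sub_zero] at this
    exact this⟩
  have h2 : IsPrecomplete I X := ⟨fun f hf => ⟨f k, fun n => by
    rcases le_total n k with h | h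
    · exact hf h
    · have := hf h
      rw [SModEq.sub_mem, hbot, Submodule.mem_bot, sub_eq_zero] at this
      rw [this]⟩⟩
  exact { toIsHausdorff := h1, toIsPrecomplete := h2 }

variable [IsNoetherianRing A] [Module.Flat A N]

theorem rTensor_of_bijective_of_killed (T : Type u) [AddCommGroup T] [Module A T]
    [Module.Finite A T] (k : ℕ) (hk : ∀ a ∈ I ^ k, ∀ t : T, a • t = 0) :
    Function.Bijective (rTensor T (AdicCompletion.of I N)) := by
  have h1 : Function.Bijective (tau I N T) := tau_bijective I N T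
  have h2 : Function.Bijective (AdicCompletion.of I (N ⊗[A] T)) :=
    of_bijective_of_killed I _ k (fun a ha x => by
      induction x using TensorProduct.induction_on with
      | zero => rw [smul_zero]
      | tmul y t => rw [← TensorProduct.tmul_smul, hk a ha t, TensorProduct.tmul_zero]
      | add x y hx hy => rw [smul_add, hx, hy, add_zero])
  have h3 : ⇑(tau I N T) ∘ ⇑(rTensor T (AdicCompletion.of I N)) =
      ⇑(AdicCompletion.of I (N ⊗[A] T)) := funext (fun z => tau_rTensor_of I N T z)
  exact (Function.Bijective.of_comp_iff' h1 _).1 (h3 ▸ h2)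

lemma exists_pow_kill_of_fg {T : Type u} [AddCommGroup T] [Module A T] (T' : Submodule A T)
    (hfg : T'.FG) (hT : ∀ t : T, ∃ k : ℕ, ∀ a ∈ I ^ k, a • t = 0) :
    ∃ k : ℕ, ∀ a ∈ I ^ k, ∀ t ∈ T', a • t = 0 := by
  classical
  obtain ⟨S, rfl⟩ := hfg
  choose kf hkf using hT
  refine ⟨S.sup kf, fun a ha t ht => ?_⟩
  refine Submodule.span_induction (p := fun t _ => a • t = 0) ?_ ?_ ?_ ?_ ht
  · intro s hs
    exact hkf s a (Ideal.pow_le_pow_right (Finset.le_sup hs) ha)
  · exact smul_zero a
  · intro x y _ _ hx hy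
    rw [smul_add, hx, hy, add_zero]
  · intro c x _ hx
    rw [smul_comm, hx, smul_zero]

lemma comm_sq {T' T : Type u} [AddCommGroup T] [Module A T] [AddCommGroup T'] [Module A T']
    (i : T' →ₗ[A] T) (w : N ⊗[A] T') :
    lTensor (AdicCompletion I N) i (rTensor T' (AdicCompletion.of I N) w) =
      rTensor T (AdicCompletion.of I N) (lTensor N i w) := by
  induction w using TensorProduct.induction_on with
  | zero => rw [map_zero, map_zero, map_zero, map_zero]
  | tmul y t =>
    rw [LinearMap.rTensor_tmul, LinearMap.lTensor_tmul, LinearMap.lTensor_tmul,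
      LinearMap.rTensor_tmul]
  | add a b ha hb => rw [map_add, map_add, ha, hb, map_add, map_add]

theorem rTensor_of_bijective_of_powerTorsion (T : Type u) [AddCommGroup T] [Module A T]
    (hT : ∀ t : T, ∃ k : ℕ, ∀ a ∈ I ^ k, a • t = 0) :
    Function.Bijective (rTensor T (AdicCompletion.of I N)) := by
  haveI := flat_completion I N
  have key : ∀ T' : Submodule A T, Module.Finite A T' →
      Function.Bijective (rTensor T' (AdicCompletion.of I N)) := by
    intro T' hfin
    obtain ⟨k, hk⟩ := exists_pow_kill_of_fg I T' (Module.Finite.iff_fg.1 hfin) hT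
    exact rTensor_of_bijective_of_killed I N T' k (fun a ha t => by
      apply Subtype.ext
      rw [Submodule.coe_smul, hk a ha t.1 t.2]
      rfl)
  constructor
  · rw [injective_iff_map_eq_zero]
    intro w hw
    obtain ⟨T', hfin, hsub⟩ :=
      TensorProduct.exists_finite_submodule_right_of_setFinite {w} (Set.finite_singleton w)
    obtain ⟨w', rfl⟩ := hsub (Set.mem_singleton w)
    have h1 : lTensor (AdicCompletion I N) T'.subtype
        (rTensor T' (AdicCompletion.of I N) w') = 0 := by
      rw [comm_sq, hw]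
    have h2 : rTensor T' (AdicCompletion.of I N) w' = 0 := by
      apply Module.Flat.lTensor_preserves_injective_linearMap (M := AdicCompletion I N)
        T'.subtype (Submodule.injective_subtype _)
      rw [h1, map_zero]
    have h3 : w' = 0 := (key T' hfin).1 (by rw [h2, map_zero])
    rw [h3, map_zero]
  · intro z
    obtain ⟨T', hfin, hsub⟩ :=
      TensorProduct.exists_finite_submodule_right_of_setFinite {z} (Set.finite_singleton z)
    obtain ⟨z', rfl⟩ := hsub (Set.mem_singleton z)
    obtain ⟨w', rfl⟩ := (key T' hfin).2 z'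
    exact ⟨lTensor N T'.subtype w', (comm_sq I N T'.subtype w').symm⟩

end torsion

end Groth.Agent.Lib.Helper21.RHf
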