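import Mathlib
import Groth.Agent.Lib.Helper18.DCAdicE
import Groth.Agent.Lib.Helper21.RHf

/-!
# Derived completion of `M ⊗ N`, `M` finite, `N` flat, over a Noetherian ring (helper21)

The map `(M ⊗ N)[0] ⟶ ((M ⊗ N)^)[0]` is universal among maps to derived complete objects
(`preBij_completion`), hence the derived completion of `(M ⊗ N)[0]` is `((M ⊗ N)^)[0]` (`main`).
-/

set_option autoImplicit false
set_option linter.style.haveILetI false
set_option linter.unusedSectionVars false

universe u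

open CategoryTheory CategoryTheory.Limits CategoryTheory.Pretriangulated HomologicalComplex
  DerivedCategory MonoidalCategory
open scoped TensorProduct

attribute [local instance] HasDerivedCategory.standard

namespace Groth.Agent.Lib.Helper21.RHg

open Groth.Agent.Lib.Helper18.DR Groth.Agent.Lib.Helper18.DR.DCAdic
open Groth.Agent.Lib.Helper2.PRes Groth.Agent.Lib.Helper18.DR.RHomCmp Groth.Agent.Lib.Helper2.Tot
  Groth.Agent.Lib.Helper2.Tot.DR Groth.Agent.Lib.Helper18.DR.Cech
  Groth.Agent.Lib.Helper18.DR.TotSingleR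
open Groth.Agent.Lib.Helper21

section general

lemma comp_inv_hom_aux {C : Type*} [Category C] {X Y Z T : C} (a : X ⟶ Y) (u : Z ≅ Y)
    (r : Y ⟶ T) : (a ≫ u.inv) ≫ u.hom ≫ r = a ≫ r := by simp

lemma singleMap_naturality {V W : Type*} [Category V] [Category W] [Preadditive V]
    [Preadditive W] [HasZeroObject V] [HasZeroObject W]
    {F G : V ⥤ W} [F.Additive] [G.Additive] (α : F ⟶ G) (M : V) :
    (NatTrans.mapHomologicalComplex α (ComplexShape.up ℤ)).app
        ((HomologicalComplex.single V (ComplexShape.up ℤ) 0).obj M) ≫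
      (HomologicalComplex.singleMapHomologicalComplex G (ComplexShape.up ℤ) 0).hom.app M =
    (HomologicalComplex.singleMapHomologicalComplex F (ComplexShape.up ℤ) 0).hom.app M ≫
      (HomologicalComplex.single W (ComplexShape.up ℤ) 0).map (α.app M) := by
  apply HomologicalComplex.to_single_hom_ext
  have hn := α.naturality_assoc (HomologicalComplex.singleObjXSelf (ComplexShape.up ℤ) 0 M).hom
    (HomologicalComplex.singleObjXSelf (ComplexShape.up ℤ) 0 (G.obj M)).inv
  simp only [HomologicalComplex.comp_f, NatTrans.mapHomologicalComplex_app_f,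
    HomologicalComplex.singleMapHomologicalComplex_hom_app_self,
    HomologicalComplex.single_map_f_self]
  refine hn.symm.trans ?_
  exact (comp_inv_hom_aux _ _ _).symm

end general

variable {A : Type u} [CommRing A]

section chain

/-- `X ⊗ (M[0])` termwise is `(X ⊗ M)[0]` -/
noncomputable def smIso (X M : ModuleCat.{u} A) : (GLf X).obj (S0 M) ≅ S0 (X ⊗ M) :=
  (HomologicalComplex.singleMapHomologicalComplex (tensorLeft X) (ComplexShape.up ℤ) 0).app M

lemma smIso_naturality {X X' : ModuleCat.{u} A} (o : X ⟶ X') (M : ModuleCat.{u} A) :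
    (GLfmap o).app (S0 M) ≫ (smIso X' M).hom = (smIso X M).hom ≫ S0map (o ▷ M) :=
  singleMap_naturality ((T A).map o) M

/-- `X[0] ⊗ P ⟶ (X ⊗ M)[0]` induced by `p : P ⟶ M[0]` -/
noncomputable def wMap (X M : ModuleCat.{u} A) {P : DRing.Cx A} (p : P ⟶ S0 M) :
    S0 X ⊗ P ⟶ S0 (X ⊗ M) :=
  (tsIso X P).inv ≫ (GLf X).map p ≫ (smIso X M).hom

instance quasiIso_wMap (X M : ModuleCat.{u} A) {P : DRing.Cx A} (p : P ⟶ S0 M)
    [(tensorLeft X).PreservesHomology] [QuasiIso p] : QuasiIso (wMap X M p) := by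
  unfold wMap
  haveI : QuasiIso ((GLf X).map p) := inferInstance
  infer_instance

lemma wMap_naturality {X X' : ModuleCat.{u} A} (o : X ⟶ X') (M : ModuleCat.{u} A)
    {P : DRing.Cx A} (p : P ⟶ S0 M) :
    (S0map o ▷ P) ≫ wMap X' M p = wMap X M p ≫ S0map (o ▷ M) := by
  unfold wMap
  have h1 := tsIso_inv_naturality o P
  have h2 := (GLfmap o).naturality p
  have h3 := smIso_naturality o M
  calc (S0map o ▷ P) ≫ (tsIso X' P).inv ≫ (GLf X').map p ≫ (smIso X' M).hom
      = ((S0map o ▷ P) ≫ (tsIso X' P).inv) ≫ (GLf X').map p ≫ (smIso X' M).hom := by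
        simp only [Category.assoc]
    _ = ((tsIso X P).inv ≫ (GLfmap o).app P) ≫ (GLf X').map p ≫ (smIso X' M).hom := by rw [h1]
    _ = (tsIso X P).inv ≫ ((GLfmap o).app P ≫ (GLf X').map p) ≫ (smIso X' M).hom := by
        simp only [Category.assoc]
    _ = (tsIso X P).inv ≫ ((GLf X).map p ≫ (GLfmap o).app (S0 M)) ≫ (smIso X' M).hom := by
        rw [h2]
    _ = (tsIso X P).inv ≫ (GLf X).map p ≫ ((GLfmap o).app (S0 M) ≫ (smIso X' M).hom) := by
        simp only [Category.assoc]
    _ = (tsIso X P).inv ≫ (GLf X).map p ≫ ((smIso X M).hom ≫ S0map (o ▷ M)) := by rw [h3]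
    _ = ((tsIso X P).inv ≫ (GLf X).map p ≫ (smIso X M).hom) ≫ S0map (o ▷ M) := by
        simp only [Category.assoc]

end chain

section modules

variable (I : Ideal A) (N : Type u) [AddCommGroup N] [Module A N]

/-- `N` as an object -/
noncomputable abbrev Nm (A : Type u) [CommRing A] (N : Type u) [AddCommGroup N] [Module A N] :
    ModuleCat.{u} A := ModuleCat.of A N

/-- `N^` as an object -/
noncomputable abbrev Nc : ModuleCat.{u} A := ModuleCat.of A (AdicCompletion I N)

/-- the completion map `N ⟶ N^` -/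
noncomputable def oN : Nm A N ⟶ Nc I N := ModuleCat.ofHom (AdicCompletion.of I N)

lemma oN_whiskerRight_hom (T : ModuleCat.{u} A) :
    (oN I N ▷ T).hom = LinearMap.rTensor T (AdicCompletion.of I N) := by
  apply TensorProduct.ext'
  intro y t
  rw [ModuleCat.MonoidalCategory.whiskerRight_apply]
  rfl

variable [IsNoetherianRing A] [Module.Flat A N]

lemma isIso_oN_whiskerRight (T : ModuleCat.{u} A) (hT : LocCoh.IsPowerTorsion I T) :
    IsIso (oN I N ▷ T) := by
  rw [ConcreteCategory.isIso_iff_bijective]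
  have h := RHf.rTensor_of_bijective_of_powerTorsion I N T hT
  have e : ⇑(ConcreteCategory.hom (oN I N ▷ T)) =
      ⇑(LinearMap.rTensor T (AdicCompletion.of I N)) := by
    funext t
    exact congrArg (fun f => f t) (oN_whiskerRight_hom I N T)
  rw [e]
  exact h

instance flat_Nm : Module.Flat A (Nm A N) := inferInstanceAs (Module.Flat A N)

instance flat_Nc : Module.Flat A (Nc I N) := RHf.flat_completion I N

instance preservesHomology_tensorLeft_Nm : (tensorLeft (Nm A N)).PreservesHomology := by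
  haveI : PreservesFiniteLimits (tensorLeft (Nm A N)) := inferInstance
  infer_instance

instance preservesHomology_tensorLeft_Nc : (tensorLeft (Nc I N)).PreservesHomology := by
  haveI : PreservesFiniteLimits (tensorLeft (Nc I N)) := inferInstance
  infer_instance

/-- `N[0] ⊗ Č ⟶ N^[0] ⊗ Č` is a quasi-isomorphism -/
instance quasiIso_S0map_oN_extCech (l : List A) :
    QuasiIso (S0map (oN (Ideal.span {x : A | x ∈ l}) N) ▷
      DerCA.extCech (ModuleCat.of A A) l) := by
  rw [quasiIso_iff]
  intro n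
  rw [quasiIsoAt_iff_isIso_homologyMap]
  have hnat := ζ_naturality (Nm A N) (Nc (Ideal.span {x : A | x ∈ l}) N)
    (oN (Ideal.span {x : A | x ∈ l}) N) (DerCA.extCech (ModuleCat.of A A) l) n
  haveI : IsIso (oN (Ideal.span {x : A | x ∈ l}) N ▷
      (DerCA.extCech (ModuleCat.of A A) l).homology n) :=
    isIso_oN_whiskerRight _ N _
      (isPowerTorsion_of_forall_mem l _ (fun x g hg =>
        Groth.Agent.Lib.Helper20.CechKill.exists_pow_smul_eq_zero (ModuleCat.of A A) l n x g hg))
  have h : HomologicalComplex.homologyMap (S0map (oN (Ideal.span {x : A | x ∈ l}) N) ▷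
      DerCA.extCech (ModuleCat.of A A) l) n =
      (ζ (Nm A N) (DerCA.extCech (ModuleCat.of A A) l) n).hom ≫
        (oN (Ideal.span {x : A | x ∈ l}) N ▷ (DerCA.extCech (ModuleCat.of A A) l).homology n) ≫
          (ζ (Nc (Ideal.span {x : A | x ∈ l}) N) (DerCA.extCech (ModuleCat.of A A) l) n).inv := by
    rw [← Category.assoc, ← hnat, Category.assoc, Iso.hom_inv_id, Category.comp_id]
  rw [h]
  infer_instance

variable (M : Type u) [AddCommGroup M] [Module A M] [Module.Finite A M]

/-- the swap `N ⊗ M ⟶ M ⊗ N` -/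
noncomputable def cM :
    (Nm A N ⊗ ModuleCat.of A M : ModuleCat.{u} A) ⟶ ModuleCat.of A (M ⊗[A] N) :=
  ModuleCat.ofHom (TensorProduct.comm A N M).toLinearMap

/-- `N^ ⊗ M ⟶ (M ⊗ N)^` -/
noncomputable def tM :
    (Nc I N ⊗ ModuleCat.of A M : ModuleCat.{u} A) ⟶
      ModuleCat.of A (AdicCompletion I (M ⊗[A] N)) :=
  ModuleCat.ofHom ((RHf.cmapA I (TensorProduct.comm A N M).toLinearMap) ∘ₗ RHf.tau I N M)

/-- the completion map of `M ⊗ N` -/
noncomputable def uM : ModuleCat.of A (M ⊗[A] N) ⟶ ModuleCat.of A (AdicCompletion I (M ⊗[A] N)) :=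
  ModuleCat.ofHom (AdicCompletion.of I (M ⊗[A] N))

instance isIso_cM : IsIso (cM (A := A) N M) := by
  rw [ConcreteCategory.isIso_iff_bijective]
  exact (TensorProduct.comm A N M).bijective

instance isIso_tM : IsIso (tM I N M) := by
  rw [ConcreteCategory.isIso_iff_bijective]
  have h1 : Function.Bijective (RHf.tau I N M) := RHf.tau_bijective I N M
  have h2 : Function.Bijective (RHf.cmapA I (TensorProduct.comm A N M).toLinearMap) :=
    (AdicCompletion.congr I (TensorProduct.comm A N M)).bijective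
  exact h2.comp h1

lemma module_square : (oN I N ▷ ModuleCat.of A M) ≫ tM I N M = cM (A := A) N M ≫ uM I N M := by
  apply ModuleCat.hom_ext
  apply TensorProduct.ext'
  intro y m
  change (tM I N M).hom ((oN I N ▷ ModuleCat.of A M).hom (y ⊗ₜ m)) =
    (uM I N M).hom ((cM (A := A) N M).hom (y ⊗ₜ m))
  rw [oN_whiskerRight_hom, LinearMap.rTensor_tmul]
  change RHf.cmapA I (TensorProduct.comm A N M).toLinearMap
    (RHf.tau I N M (AdicCompletion.of I N y ⊗ₜ[A] m)) =
      AdicCompletion.of I (M ⊗[A] N) ((TensorProduct.comm A N M) (y ⊗ₜ[A] m))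
  rw [RHf.tau_of_tmul, RHf.cmapA_apply, AdicCompletion.map_of]
  rfl

end modules

section universal

variable [IsNoetherianRing A] (N : Type u) [AddCommGroup N] [Module A N] [Module.Flat A N]
  (M : Type u) [AddCommGroup M] [Module A M] [Module.Finite A M]

/-- chain-level universality -/
theorem preBij_S0map_uM (l : List A) (E : Dual.D A) (hE : ∀ g ∈ l, FC g E) :
    PreBij E (DerivedCategory.Q.map (S0map (uM (Ideal.span {x : A | x ∈ l}) N M))) := by
  obtain ⟨P, p, hP, hp⟩ := DTenB.exists_kprojective_quasiIso (S0 (ModuleCat.of A M))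
  haveI := hP
  haveI := hp
  have b1 : PreBij E (DerivedCategory.Q.map
      (S0map (oN (Ideal.span {x : A | x ∈ l}) N) ▷ P)) :=
    preBij_whiskerRight (S0map (oN (Ideal.span {x : A | x ∈ l}) N)) l P E hE
  let W : S0 (Nm A N) ⊗ P ⟶ S0 (ModuleCat.of A (M ⊗[A] N)) :=
    wMap (Nm A N) (ModuleCat.of A M) p ≫ S0map (cM (A := A) N M)
  let W' : S0 (Nc (Ideal.span {x : A | x ∈ l}) N) ⊗ P ⟶
      S0 (ModuleCat.of A (AdicCompletion (Ideal.span {x : A | x ∈ l}) (M ⊗[A] N))) :=
    wMap (Nc (Ideal.span {x : A | x ∈ l}) N) (ModuleCat.of A M) p ≫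
      S0map (tM (Ideal.span {x : A | x ∈ l}) N M)
  haveI : QuasiIso W := by
    haveI : IsIso (S0map (cM (A := A) N M)) := inferInstance
    exact inferInstanceAs (QuasiIso (wMap (Nm A N) (ModuleCat.of A M) p ≫ S0map (cM (A := A) N M)))
  haveI : QuasiIso W' := by
    haveI : IsIso (S0map (tM (Ideal.span {x : A | x ∈ l}) N M)) := inferInstance
    exact inferInstanceAs (QuasiIso (wMap (Nc (Ideal.span {x : A | x ∈ l}) N)
      (ModuleCat.of A M) p ≫ S0map (tM (Ideal.span {x : A | x ∈ l}) N M)))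
  have sq : (S0map (oN (Ideal.span {x : A | x ∈ l}) N) ▷ P) ≫ W' =
      W ≫ S0map (uM (Ideal.span {x : A | x ∈ l}) N M) := by
    change (S0map (oN (Ideal.span {x : A | x ∈ l}) N) ▷ P) ≫
      wMap (Nc (Ideal.span {x : A | x ∈ l}) N) (ModuleCat.of A M) p ≫
        S0map (tM (Ideal.span {x : A | x ∈ l}) N M) =
      (wMap (Nm A N) (ModuleCat.of A M) p ≫ S0map (cM (A := A) N M)) ≫
        S0map (uM (Ideal.span {x : A | x ∈ l}) N M)
    rw [← Category.assoc, wMap_naturality, Category.assoc, Category.assoc,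
      ← Functor.map_comp, ← Functor.map_comp, module_square]
  haveI : IsIso (DerivedCategory.Q.map W) := inferInstance
  haveI : IsIso (DerivedCategory.Q.map W') := inferInstance
  have e : DerivedCategory.Q.map (S0map (uM (Ideal.span {x : A | x ∈ l}) N M)) =
      inv (DerivedCategory.Q.map W) ≫ DerivedCategory.Q.map
        (S0map (oN (Ideal.span {x : A | x ∈ l}) N) ▷ P) ≫ DerivedCategory.Q.map W' := by
    rw [IsIso.eq_inv_comp, ← Functor.map_comp, ← Functor.map_comp, sq]
  rw [e]
  exact (PreBij.of_isIso E _).comp (b1.comp (PreBij.of_isIso E _))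

/-- universality of `(M ⊗ N)[0] ⟶ (M ⊗ N)^[0]` in `D(A)` -/
theorem preBij_completion (l : List A) (E : Dual.D A) (hE : ∀ g ∈ l, FC g E) :
    PreBij E ((DerivedCategory.singleFunctor (ModuleCat.{u} A) 0).map
      (uM (Ideal.span {x : A | x ∈ l}) N M)) := by
  have h := (DerivedCategory.singleFunctorIsoCompQ (ModuleCat.{u} A) 0).hom.naturality
    (uM (Ideal.span {x : A | x ∈ l}) N M)
  simp only [Functor.comp_map] at h
  let isoX : Sg 0 (ModuleCat.of A (M ⊗[A] N)) ≅
      DerivedCategory.Q.obj (S0 (ModuleCat.of A (M ⊗[A] N))) :=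
    (DerivedCategory.singleFunctorIsoCompQ (ModuleCat.{u} A) 0).app _
  let isoY : Sg 0 (ModuleCat.of A (AdicCompletion (Ideal.span {x : A | x ∈ l}) (M ⊗[A] N))) ≅
      DerivedCategory.Q.obj
        (S0 (ModuleCat.of A (AdicCompletion (Ideal.span {x : A | x ∈ l}) (M ⊗[A] N)))) :=
    (DerivedCategory.singleFunctorIsoCompQ (ModuleCat.{u} A) 0).app _
  have h' : (DerivedCategory.singleFunctor (ModuleCat.{u} A) 0).map
      (uM (Ideal.span {x : A | x ∈ l}) N M) ≫ isoY.hom =
      isoX.hom ≫ DerivedCategory.Q.map (S0map (uM (Ideal.span {x : A | x ∈ l}) N M)) := h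
  have e : (DerivedCategory.singleFunctor (ModuleCat.{u} A) 0).map
      (uM (Ideal.span {x : A | x ∈ l}) N M) =
      isoX.hom ≫ DerivedCategory.Q.map (S0map (uM (Ideal.span {x : A | x ∈ l}) N M)) ≫
        isoY.inv := by
    rw [← Category.assoc, ← h', Category.assoc, Iso.hom_inv_id, Category.comp_id]
  rw [e]
  exact (PreBij.of_isIso E _).comp ((preBij_S0map_uM N M l E hE).comp (PreBij.of_isIso E _))

end universal

section final

variable [IsNoetherianRing A]

/-- **S7061** -/
theorem main (I : Ideal A) [DRing.HasDerivedCompletion I]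
    (M N : Type u) [AddCommGroup M] [Module A M] [Module.Finite A M] [AddCommGroup N]
    [Module A N] [Module.Flat A N] :
    (∀ i : ℤ, i ≠ 0 → Subsingleton (Dual.HD A
        ((DRing.derivedCompletion I).obj (Dual.inD A (M ⊗[A] N))).obj i)) ∧
      ∃ e : Dual.HD A ((DRing.derivedCompletion I).obj (Dual.inD A (M ⊗[A] N))).obj 0 ≃ₗ[A]
          AdicCompletion I (M ⊗[A] N),
        ∀ x : M ⊗[A] N,
          e ((((DerivedCategory.singleFunctorCompHomologyFunctorIso (ModuleCat.{u} A) 0).inv.app
                (ModuleCat.of A (M ⊗[A] N))) ≫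
              (DerivedCategory.homologyFunctor (ModuleCat.{u} A) 0).map
                (DRing.toDerivedCompletion I (Dual.inD A (M ⊗[A] N)))).hom x) =
            AdicCompletion.of I (M ⊗[A] N) x := by
  classical
  obtain ⟨s, hs⟩ := (IsNoetherian.noetherian I : I.FG)
  have hl : Ideal.span {x : A | x ∈ s.toList} = I := by
    rw [← hs]
    congr 1
    ext x
    simp
  subst hl
  let l : List A := s.toList
  let X : ModuleCat.{u} A := ModuleCat.of A (M ⊗[A] N)
  let Xc : ModuleCat.{u} A :=
    ModuleCat.of A (AdicCompletion (Ideal.span {x : A | x ∈ l}) (M ⊗[A] N))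
  let η₂ : Sg 0 X ⟶ Sg 0 Xc :=
    (DerivedCategory.singleFunctor (ModuleCat.{u} A) 0).map
      (uM (Ideal.span {x : A | x ∈ l}) N M)
  haveI : IsAdicComplete (Ideal.span {x : A | x ∈ l})
      (AdicCompletion (Ideal.span {x : A | x ∈ l}) (M ⊗[A] N)) :=
    AdicCompletion.isAdicComplete (span_list_fg l)
  have hcomp : DRing.IsDerivedComplete (Ideal.span {x : A | x ∈ l}) (Sg 0 Xc) :=
    isDerivedComplete_of_isAdicComplete
      (M := AdicCompletion (Ideal.span {x : A | x ∈ l}) (M ⊗[A] N))
      (Ideal.span {x : A | x ∈ l})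
  have huniv : ∀ E : Dual.D A, DRing.IsDerivedComplete (Ideal.span {x : A | x ∈ l}) E →
      PreBij E η₂ := by
    intro E hE
    have hE' : ∀ g ∈ l, FC g E := fun g hg =>
      (isDerivedComplete_iff_fc _ E).1 hE g (Ideal.subset_span hg)
    exact preBij_completion N M l E hE'
  obtain ⟨d, hd⟩ := nonempty_iso_of_universal
    (P := fun L => DRing.IsDerivedComplete (Ideal.span {x : A | x ∈ l}) L)
    (DRing.toDerivedCompletion (Ideal.span {x : A | x ∈ l}) (Sg 0 X)) η₂
    ((DRing.derivedCompletion (Ideal.span {x : A | x ∈ l})).obj (Sg 0 X)).property hcomp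
    (fun L' hL' => bijective_toDerivedCompletion_comp _ (Sg 0 X) L' hL') huniv
  constructor
  · intro i hi
    have h0 : IsZero ((H A i).obj (Sg 0 Xc)) := by
      rcases lt_or_gt_of_ne hi with h | h
      · exact isZero_of_isGE (Sg 0 Xc) 0 i h
      · exact isZero_of_isLE (Sg 0 Xc) 0 i h
    exact ModuleCat.subsingleton_of_isZero (h0.of_iso ((H A i).mapIso d))
  · refine ⟨((H A 0).mapIso d ≪≫ HSg 0 Xc).toLinearEquiv, fun x => ?_⟩
    have key : (HSg 0 X).inv ≫ (H A 0).map
        (DRing.toDerivedCompletion (Ideal.span {x : A | x ∈ l}) (Sg 0 X)) ≫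
        ((H A 0).mapIso d ≪≫ HSg 0 Xc).hom = uM (Ideal.span {x : A | x ∈ l}) N M := by
      rw [Iso.trans_hom, Functor.mapIso_hom, ← Category.assoc ((H A 0).map _),
        ← Functor.map_comp, hd, HSg_naturality, Iso.inv_hom_id_assoc]
    exact congrArg (fun f => f.hom x) key

end final

end Groth.Agent.Lib.Helper21.RHg
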