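import Mathlib
import Groth.Agent.Lib.Helper21.FlatSmoothC
import Groth.Agent.Lib.Helper21.SepSmoothE
import Groth.Agent.Lib.Helper21.CohenStructF
import Groth.Agent.Lib.Helper9.RegLocal
import Groth.Prelude.Def_EtRam

set_option autoImplicit false
set_option linter.style.haveILetI false

namespace Groth.Agent.Lib.Helper21.AdicFS

open IsLocalRing TensorProduct Groth.Agent.Lib.Helper21.FlatSmooth

universe u

section flatcase

variable {A B : Type u} [CommRing A] [IsLocalRing A] [CommRing B] [IsLocalRing B]
  [Algebra A B] [IsLocalHom (algebraMap A B)]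

/-- flat, unramified with separable residue extension implies adic formal smoothness -/
theorem isAdicFormallySmooth_of_flat_of_residue [Module.Flat A B]
    (hm : (maximalIdeal A).map (algebraMap A B) = maximalIdeal B)
    [Algebra.IsGeometricallyReduced (ResidueField A) (ResidueField B)] :
    CAlgX.IsAdicFormallySmooth A B (maximalIdeal B) := by
  haveI : Algebra.FormallySmooth (ResidueField A) (ResidueField B) :=
    Groth.Agent.Lib.Helper21.SepSmooth.formallySmooth_of_geomReduced
  have H0 := fibreLifts_of_residueField hm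
  intro C _ _ J hJ ψ hψ
  obtain ⟨m, hm'⟩ := hψ
  have hker : RingHom.ker (Ideal.Quotient.mkₐ A J) = J := Ideal.Quotient.mkₐ_ker A J
  have hmem : ∀ a ∈ maximalIdeal A ^ m, algebraMap A C a ∈ J := by
    intro a ha
    have h1 : algebraMap A B a ∈ maximalIdeal B ^ m := by
      have := Ideal.mem_map_of_mem (algebraMap A B) ha
      rw [Ideal.map_pow, hm] at this
      exact this
    have h2 := hm' _ h1
    rw [ψ.commutes] at h2
    exact Ideal.Quotient.eq_zero_iff_mem.mp h2
  apply lifts_of_flat_of_pow (maximalIdeal A) H0 m (Ideal.Quotient.mkₐ A J)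
    (Ideal.Quotient.mkₐ_surjective A J) (by rw [hker]; exact hJ)
  intro a ha y hy
  rw [hker] at hy
  have h3 : algebraMap A C a * y ∈ J ^ 2 := by
    rw [pow_two]
    exact Ideal.mul_mem_mul (hmem a ha) hy
  rw [hJ, Ideal.mem_bot] at h3
  rw [Algebra.smul_def]
  exact h3

end flatcase

section basechange

variable {R S : Type u} [CommRing R] [CommRing S] [Algebra R S] (𝔫 : Ideal S)
  (R' S' : Type u) [CommRing R'] [CommRing S'] [Algebra R R'] [Algebra S S'] [Algebra R' S']
  [Algebra R S'] [IsScalarTower R R' S'] [IsScalarTower R S S']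

include R' in
/-- base change of adic formal smoothness along a quotient of the base -/
theorem isAdicFormallySmooth_quotient (h : CAlgX.IsAdicFormallySmooth R S 𝔫)
    (hR : Function.Surjective (algebraMap R R')) (hS : Function.Surjective (algebraMap S S'))
    (hker : RingHom.ker (algebraMap S S') ≤
      (RingHom.ker (algebraMap R R')).map (algebraMap R S)) :
    CAlgX.IsAdicFormallySmooth R' S' (𝔫.map (algebraMap S S')) := by
  intro C _ _ J hJ ψ hψ
  obtain ⟨m, hm⟩ := hψ
  letI : Algebra R C := Algebra.compHom C (algebraMap R R')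
  haveI : IsScalarTower R R' C := IsScalarTower.of_algebraMap_eq (fun _ => rfl)
  haveI : IsScalarTower R R' (C ⧸ J) := IsScalarTower.of_algebraMap_eq (fun _ => rfl)
  let ψ' : S →ₐ[R] C ⧸ J := (ψ.restrictScalars R).comp (IsScalarTower.toAlgHom R S S')
  have hψ' : ∀ x ∈ 𝔫 ^ m, ψ' x = 0 := by
    intro x hx
    show ψ (algebraMap S S' x) = 0
    apply hm
    rw [← Ideal.map_pow]
    exact Ideal.mem_map_of_mem _ hx
  obtain ⟨χ', hχ'⟩ := h C J hJ ψ' ⟨m, hψ'⟩
  have hkill : RingHom.ker (algebraMap S S') ≤ RingHom.ker (χ' : S →+* C) := by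
    refine le_trans hker ?_
    rw [Ideal.map_le_iff_le_comap]
    intro a ha
    rw [Ideal.mem_comap, RingHom.mem_ker]
    show χ' (algebraMap R S a) = 0
    rw [χ'.commutes, IsScalarTower.algebraMap_apply R R' C, (RingHom.mem_ker).mp ha, map_zero]
  let χ₀ : S' →+* C := (algebraMap S S').liftOfSurjective hS ⟨(χ' : S →+* C), hkill⟩
  have hχ₀ : ∀ x, χ₀ (algebraMap S S' x) = χ' x := fun x =>
    RingHom.liftOfSurjective_comp_apply (algebraMap S S') hS ⟨(χ' : S →+* C), hkill⟩ x
  let χ : S' →ₐ[R'] C :=
    { χ₀ with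
      commutes' := fun r' => by
        obtain ⟨r, rfl⟩ := hR r'
        show χ₀ (algebraMap R' S' (algebraMap R R' r)) = algebraMap R' C (algebraMap R R' r)
        rw [← IsScalarTower.algebraMap_apply R R' S', IsScalarTower.algebraMap_apply R S S',
          hχ₀, χ'.commutes, IsScalarTower.algebraMap_apply R R' C] }
  refine ⟨χ, ?_⟩
  ext y
  obtain ⟨x, rfl⟩ := hS y
  show Ideal.Quotient.mk J (χ₀ (algebraMap S S' x)) = ψ (algebraMap S S' x)
  rw [hχ₀]
  exact AlgHom.congr_fun hχ' x

end basechange

section dvr

variable (A B : Type u) [CommRing A] [IsDomain A] [IsDiscreteValuationRing A] [CommRing B]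
  [IsDomain B] [IsDiscreteValuationRing B] [Algebra A B]
  (hinj : Function.Injective (algebraMap A B)) [IsLocalHom (algebraMap A B)]

include hinj in
omit [IsDiscreteValuationRing B] [IsLocalHom (algebraMap A B)] in
theorem flat_of_injective : Module.Flat A B := by
  haveI : Module.IsTorsionFree A B := by
    apply Module.IsTorsionFree.of_smul_eq_zero
    intro r m h
    rw [Algebra.smul_def, mul_eq_zero] at h
    rcases h with h | h
    · left
      exact (injective_iff_map_eq_zero (algebraMap A B)).mp hinj r h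
    · right
      exact h
  infer_instance

include hinj in
omit [IsDomain B] [IsDiscreteValuationRing B] [IsLocalHom (algebraMap A B)] in
theorem map_maximalIdeal_ne_bot : (maximalIdeal A).map (algebraMap A B) ≠ ⊥ := by
  intro h
  have h1 : maximalIdeal A ≠ ⊥ := IsDiscreteValuationRing.not_a_field A
  obtain ⟨a, ha, ha0⟩ := Submodule.exists_mem_ne_zero_of_ne_bot h1
  have h2 := Ideal.mem_map_of_mem (algebraMap A B) ha
  rw [h, Ideal.mem_bot] at h2
  exact ha0 ((injective_iff_map_eq_zero (algebraMap A B)).mp hinj a h2)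

omit [IsDomain A] [IsDiscreteValuationRing A] [IsDomain B] [IsDiscreteValuationRing B] in
theorem map_maximalIdeal_le [IsLocalRing A] [IsLocalRing B] :
    (maximalIdeal A).map (algebraMap A B) ≤ maximalIdeal B := by
  rw [Ideal.map_le_iff_le_comap]
  exact le_of_eq (IsLocalRing.maximalIdeal_comap _).symm

local notation "IAB" => Ideal.map (algebraMap A B) (maximalIdeal A)

include hinj in
theorem weaklyUnramified_of_isAdicFormallySmooth
    (h : CAlgX.IsAdicFormallySmooth A B (maximalIdeal B)) :
    (maximalIdeal A).map (algebraMap A B) = maximalIdeal B := by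
  have hI : IAB ≤ maximalIdeal B := map_maximalIdeal_le A B
  have hIne : IAB ≠ ⊤ := fun h' => (maximalIdeal.isMaximal B).ne_top (top_le_iff.mp (h' ▸ hI))
  haveI : Nontrivial (B ⧸ IAB) := Ideal.Quotient.nontrivial_iff.mpr hIne
  haveI : IsLocalRing (B ⧸ IAB) :=
    IsLocalRing.of_surjective' (Ideal.Quotient.mk IAB) Ideal.Quotient.mk_surjective
  letI : Algebra (ResidueField A) (B ⧸ IAB) :=
    inferInstanceAs (Algebra (A ⧸ maximalIdeal A) (B ⧸ (maximalIdeal A).map (algebraMap A B)))
  haveI : IsScalarTower A (ResidueField A) (B ⧸ IAB) :=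
    inferInstanceAs (IsScalarTower A (A ⧸ maximalIdeal A)
      (B ⧸ (maximalIdeal A).map (algebraMap A B)))
  have h1 : CAlgX.IsAdicFormallySmooth (ResidueField A) (B ⧸ IAB)
      ((maximalIdeal B).map (algebraMap B (B ⧸ IAB))) := by
    apply isAdicFormallySmooth_quotient (maximalIdeal B) (ResidueField A) (B ⧸ IAB) h
      Ideal.Quotient.mk_surjective Ideal.Quotient.mk_surjective
    have hk1 : RingHom.ker (algebraMap B (B ⧸ IAB)) = IAB := Ideal.mk_ker
    have hk2 : RingHom.ker (algebraMap A (ResidueField A)) = maximalIdeal A := Ideal.mk_ker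
    rw [hk1, hk2]
  have h2 : (maximalIdeal B).map (algebraMap B (B ⧸ IAB)) = maximalIdeal (B ⧸ IAB) := by
    apply IsLocalRing.eq_maximalIdeal
    have := Ideal.map_eq_top_or_isMaximal_of_surjective (algebraMap B (B ⧸ IAB))
      Ideal.Quotient.mk_surjective (maximalIdeal.isMaximal B)
    rcases this with h3 | h3
    · exfalso
      have h4 : (1 : B ⧸ IAB) ∈ (maximalIdeal B).map (algebraMap B (B ⧸ IAB)) := by
        rw [h3]; trivial
      rw [Ideal.mem_map_iff_of_surjective (algebraMap B (B ⧸ IAB))
        Ideal.Quotient.mk_surjective] at h4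
      obtain ⟨b, hb, hb1⟩ := h4
      have h5 : b - 1 ∈ IAB := by
        rw [← Ideal.Quotient.eq_zero_iff_mem, map_sub, map_one]
        exact sub_eq_zero.mpr hb1
      have h6 : (1 : B) ∈ maximalIdeal B := by
        have := Ideal.sub_mem _ hb (hI h5)
        rwa [sub_sub_cancel] at this
      exact (maximalIdeal.isMaximal B).ne_top ((Ideal.eq_top_iff_one _).mpr h6)
    · exact h3
  rw [h2] at h1
  have hreg := (Groth.Agent.Lib.Helper21.CohenStruct.regular_of_isAdicFormallySmooth
    (ResidueField A) (B ⧸ IAB) h1).1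
  haveI : IsDomain (B ⧸ IAB) := Groth.Agent.Lib.Helper9.RegLocal.isDomain_of_isRegularLocalRing _
  have hprime : (IAB).IsPrime := (Ideal.Quotient.isDomain_iff_prime IAB).mp inferInstance
  have hmax : (IAB).IsMaximal := hprime.isMaximal (map_maximalIdeal_ne_bot A B hinj)
  exact IsLocalRing.eq_maximalIdeal hmax

include hinj in
theorem formallySmooth_residue_of_isAdicFormallySmooth
    (h : CAlgX.IsAdicFormallySmooth A B (maximalIdeal B)) :
    Algebra.FormallySmooth (ResidueField A) (ResidueField B) := by
  have hw := weaklyUnramified_of_isAdicFormallySmooth A B hinj h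
  have h1 : CAlgX.IsAdicFormallySmooth (ResidueField A) (ResidueField B)
      ((maximalIdeal B).map (algebraMap B (ResidueField B))) := by
    apply isAdicFormallySmooth_quotient (maximalIdeal B) (ResidueField A) (ResidueField B) h
      residue_surjective residue_surjective
    have hk1 : RingHom.ker (algebraMap B (ResidueField B)) = maximalIdeal B := Ideal.mk_ker
    have hk2 : RingHom.ker (algebraMap A (ResidueField A)) = maximalIdeal A := Ideal.mk_ker
    rw [hk1, hk2, hw]
  have hbot : (maximalIdeal B).map (algebraMap B (ResidueField B)) = ⊥ := by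
    apply le_bot_iff.mp
    rw [Ideal.map_le_iff_le_comap]
    intro x hx
    rw [Ideal.mem_comap, Ideal.mem_bot]
    exact (residue_eq_zero_iff x).mpr hx
  apply Algebra.FormallySmooth.of_comp_surjective
  intro C _ _ J hJ ψ
  obtain ⟨χ, hχ⟩ := h1 C J hJ ψ ⟨1, fun x hx => by
    rw [pow_one, hbot, Ideal.mem_bot] at hx
    rw [hx, map_zero]⟩
  exact ⟨χ, hχ⟩

include hinj in
theorem S7134_aux :
    CAlgX.IsAdicFormallySmooth A B (IsLocalRing.maximalIdeal B) ↔
      EtRam.IsWeaklyUnramified A B ∧
        Algebra.IsGeometricallyReduced (IsLocalRing.ResidueField A) (IsLocalRing.ResidueField B) := by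
  constructor
  · intro h
    refine ⟨weaklyUnramified_of_isAdicFormallySmooth A B hinj h, ?_⟩
    haveI := formallySmooth_residue_of_isAdicFormallySmooth A B hinj h
    exact Groth.Agent.Lib.Helper21.SepSmooth.formallySmooth_iff_geomReduced.mp inferInstance
  · rintro ⟨hw, hg⟩
    haveI := hg
    haveI := flat_of_injective A B hinj
    exact isAdicFormallySmooth_of_flat_of_residue hw

end dvr

end Groth.Agent.Lib.Helper21.AdicFS
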