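import Mathlib
import Groth.Prelude.Def_CAlgX

set_option autoImplicit false
set_option linter.style.haveILetI false

namespace Groth.Agent.Lib.Helper21.AdicLoc

universe u

section loc

variable {R R' S : Type u} [CommRing R] [CommRing R'] [CommRing S] [Algebra R R'] [Algebra R' S]
  [Algebra R S] [IsScalarTower R R' S] (M : Submonoid R) [IsLocalization M R'] (𝔫 : Ideal S)

include M in
/-- adic formal smoothness over a localization of the base implies it over the base -/
theorem isAdicFormallySmooth_of_localization (h : CAlgX.IsAdicFormallySmooth R' S 𝔫) :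
    CAlgX.IsAdicFormallySmooth R S 𝔫 := by
  intro E _ _ N hN ψ hψ
  have hunit : ∀ x : M, IsUnit (algebraMap R E x) := by
    intro x
    apply (IsNilpotent.isUnit_quotient_mk_iff (I := N) ⟨2, hN⟩).mp
    have h1 : IsUnit (algebraMap R' S (algebraMap R R' x)) :=
      (IsLocalization.map_units R' x).map (algebraMap R' S)
    have h2 := h1.map ψ
    rw [← IsScalarTower.algebraMap_apply R R' S, AlgHom.commutes] at h2
    exact h2
  letI : Algebra R' E := (IsLocalization.lift hunit).toAlgebra
  haveI : IsScalarTower R R' E := IsScalarTower.of_algebraMap_eq (fun r =>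
    (IsLocalization.lift_eq hunit r).symm)
  have hψ' : ∀ r : R', ψ (algebraMap R' S r) = algebraMap R' (E ⧸ N) r := by
    intro r
    have : (ψ : S →+* E ⧸ N).comp (algebraMap R' S) = algebraMap R' (E ⧸ N) := by
      apply IsLocalization.ringHom_ext M
      ext r
      simp only [RingHom.coe_comp, RingHom.coe_coe, Function.comp_apply]
      rw [← IsScalarTower.algebraMap_apply R R' S, AlgHom.commutes,
        ← IsScalarTower.algebraMap_apply R R' (E ⧸ N)]
    exact RingHom.congr_fun this r
  let ψ' : S →ₐ[R'] E ⧸ N := { (ψ : S →+* E ⧸ N) with commutes' := hψ' }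
  obtain ⟨χ', hχ'⟩ := h E N hN ψ' hψ
  let χ : S →ₐ[R] E :=
    { (χ' : S →+* E) with
      commutes' := fun r => by
        show χ' (algebraMap R S r) = algebraMap R E r
        rw [IsScalarTower.algebraMap_apply R R' S, AlgHom.commutes,
          ← IsScalarTower.algebraMap_apply R R' E] }
  refine ⟨χ, ?_⟩
  ext x
  exact congrArg (fun g => g x) hχ'

include M in
/-- adic formal smoothness over the base implies it over a localization of the base -/
theorem isAdicFormallySmooth_localization (h : CAlgX.IsAdicFormallySmooth R S 𝔫) :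
    CAlgX.IsAdicFormallySmooth R' S 𝔫 := by
  intro E _ _ N hN ψ hψ
  letI : Algebra R E := ((algebraMap R' E).comp (algebraMap R R')).toAlgebra
  haveI : IsScalarTower R R' E := IsScalarTower.of_algebraMap_eq (fun r => rfl)
  haveI : IsScalarTower R R' (E ⧸ N) := IsScalarTower.of_algebraMap_eq (fun r => rfl)
  let ψ₀ : S →ₐ[R] E ⧸ N := ψ.restrictScalars R
  obtain ⟨χ₀, hχ₀⟩ := h E N hN ψ₀ hψ
  have hχ : ∀ r : R', χ₀ (algebraMap R' S r) = algebraMap R' E r := by
    intro r
    have : (χ₀ : S →+* E).comp (algebraMap R' S) = algebraMap R' E := by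
      apply IsLocalization.ringHom_ext M
      ext r
      simp only [RingHom.coe_comp, RingHom.coe_coe, Function.comp_apply]
      rw [← IsScalarTower.algebraMap_apply R R' S, AlgHom.commutes,
        ← IsScalarTower.algebraMap_apply R R' E]
    exact RingHom.congr_fun this r
  let χ : S →ₐ[R'] E := { (χ₀ : S →+* E) with commutes' := hχ }
  refine ⟨χ, ?_⟩
  ext x
  exact congrArg (fun g => g x) hχ₀

end loc

end Groth.Agent.Lib.Helper21.AdicLoc
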