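import Mathlib
import Groth.Prelude.Def_CAlgX
import Groth.Agent.Lib.Helper6.FSAdic

set_option autoImplicit false
set_option linter.style.haveILetI false

namespace Groth.Agent.Lib.Helper21.AdicQuot

open TensorProduct KaehlerDifferential

universe u

section generic

/-- descend a linear map along a surjection -/
theorem exists_comp_eq_of_surjective {R : Type*} [CommRing R] {N N' X : Type*} [AddCommGroup N]
    [AddCommGroup N'] [AddCommGroup X] [Module R N] [Module R N'] [Module R X]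
    (f : N →ₗ[R] N') (hf : Function.Surjective f) (F : N →ₗ[R] X)
    (h : LinearMap.ker f ≤ LinearMap.ker F) :
    ∃ F' : N' →ₗ[R] X, ∀ n, F' (f n) = F n := by
  refine ⟨((LinearMap.ker f).liftQ F h) ∘ₗ (f.quotKerEquivOfSurjective hf).symm.toLinearMap,
    fun n => ?_⟩
  have h1 : (f.quotKerEquivOfSurjective hf).symm (f n) = Submodule.Quotient.mk n := by
    rw [LinearEquiv.symm_apply_eq, LinearMap.quotKerEquivOfSurjective_apply_mk]
  rw [LinearMap.comp_apply, LinearEquiv.coe_coe, h1, Submodule.liftQ_apply]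

/-- a `B`-linear map into a module killed by `ker (B → R')` extends to `R' ⊗ M`. -/
theorem exists_tensor_lift {B : Type*} [CommRing B] (R' : Type*) [CommRing R'] [Algebra B R']
    (hsurj : Function.Surjective (algebraMap B R')) {M X : Type*} [AddCommGroup M]
    [AddCommGroup X] [Module B M] [Module B X]
    (hX : ∀ b : B, algebraMap B R' b = 0 → ∀ x : X, b • x = 0) (φ : M →ₗ[B] X) :
    ∃ φ' : R' ⊗[B] M →ₗ[B] X, ∀ m, φ' (1 ⊗ₜ m) = φ m := by
  let F : B →ₗ[B] (M →ₗ[B] X) := LinearMap.toSpanSingleton B (M →ₗ[B] X) φ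
  have hker : LinearMap.ker (Algebra.linearMap B R') ≤ LinearMap.ker F := by
    intro b hb
    rw [LinearMap.mem_ker] at hb ⊢
    ext m
    simp only [F, LinearMap.toSpanSingleton_apply, LinearMap.smul_apply, LinearMap.zero_apply]
    exact hX b (by simpa using hb) (φ m)
  obtain ⟨F', hF'⟩ := exists_comp_eq_of_surjective (Algebra.linearMap B R') hsurj F hker
  refine ⟨TensorProduct.lift F', fun m => ?_⟩
  rw [TensorProduct.lift.tmul]
  have h1 : F' 1 = F 1 := by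
    rw [← hF' 1]; simp
  rw [h1]
  simp [F]

end generic

variable {A B : Type u} [CommRing A] [CommRing B] [Algebra A B] (I J : Ideal B)
  (Q : Ideal (B ⧸ J))

theorem mem_kerJ_iff (b : B) : b ∈ RingHom.ker (algebraMap B (B ⧸ J)) ↔ b ∈ J := by
  rw [Ideal.Quotient.algebraMap_eq, Ideal.mk_ker]

theorem mem_kerQ_iff (b : B) :
    b ∈ RingHom.ker (algebraMap B ((B ⧸ J) ⧸ Q)) ↔ Ideal.Quotient.mk J b ∈ Q := by
  rw [RingHom.mem_ker]
  have : algebraMap B ((B ⧸ J) ⧸ Q) b = Ideal.Quotient.mk Q (Ideal.Quotient.mk J b) := rfl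
  rw [this, Ideal.Quotient.eq_zero_iff_mem]

theorem surjective_algebraMap_quotQ : Function.Surjective (algebraMap B ((B ⧸ J) ⧸ Q)) := by
  intro r
  obtain ⟨c, rfl⟩ := Ideal.Quotient.mk_surjective r
  obtain ⟨b, rfl⟩ := Ideal.Quotient.mk_surjective c
  exact ⟨b, rfl⟩

section converse

variable (hB : CAlgX.IsAdicFormallySmooth A B I)
  (g : ((B ⧸ J) ⧸ Q) ⊗[B] ((B ⧸ J) ⊗[B] Ω[B⁄A]) →ₗ[(B ⧸ J) ⧸ Q]
          ((B ⧸ J) ⧸ Q) ⊗[B] (RingHom.ker (algebraMap B (B ⧸ J))).Cotangent)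
  (hg : g ∘ₗ LinearMap.baseChange ((B ⧸ J) ⧸ Q)
      (KaehlerDifferential.kerCotangentToTensor A B (B ⧸ J)) = LinearMap.id)

include hB hg in
/-- one lifting step: the kernel of `π` is killed by `Q`. -/
theorem exists_lift_one_step
    {D D' : Type u} [CommRing D] [CommRing D'] [Algebra A D] [Algebra A D']
    (π : D →ₐ[A] D') (hπ : Function.Surjective π) (hsq : RingHom.ker π ^ 2 = ⊥)
    (ψ : (B ⧸ J) →ₐ[A] D')
    (hψ : ∃ k : ℕ, ∀ x ∈ (I.map (Ideal.Quotient.mk J)) ^ k, ψ x = 0)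
    (hQ : ∀ c ∈ Q, ∀ d : D, π d = ψ c → ∀ l ∈ RingHom.ker π, d * l = 0) :
    ∃ χ : (B ⧸ J) →ₐ[A] D, π.comp χ = ψ := by
  classical
  -- Step 1: lift `ψ ∘ mk` to `v : B → D`
  let φ : B →ₐ[A] D' := ψ.comp (Ideal.Quotient.mkₐ A J)
  have hφ : ∃ k : ℕ, ∀ x ∈ I ^ k, φ x = 0 := by
    obtain ⟨k, hk⟩ := hψ
    refine ⟨k, fun x hx => hk _ ?_⟩
    rw [← Ideal.map_pow]; exact Ideal.mem_map_of_mem _ hx
  obtain ⟨v, hv⟩ := Groth.Agent.Lib.Helper6.FSAdic.sqZero_exists_lift_of_surjective hB π hπ hsq φ hφ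
  have hv' : ∀ b, π (v b) = ψ (Ideal.Quotient.mk J b) := fun b => AlgHom.congr_fun hv b
  letI algBD : Algebra B D := v.toRingHom.toAlgebra
  haveI : IsScalarTower A B D := IsScalarTower.of_algebraMap_eq (fun a => (v.commutes a).symm)
  have halg : ∀ b, algebraMap B D b = v b := fun b => rfl
  have hJL : ∀ x ∈ RingHom.ker (algebraMap B (B ⧸ J)), v x ∈ RingHom.ker π := by
    intro x hx
    rw [RingHom.mem_ker, hv']
    have : Ideal.Quotient.mk J x = 0 := hx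
    rw [this, map_zero]
  have hQL : ∀ b : B, algebraMap B ((B ⧸ J) ⧸ Q) b = 0 → ∀ l : RingHom.ker π, b • l = 0 := by
    intro b hb l
    apply Subtype.ext
    rw [Submodule.coe_smul_of_tower, Algebra.smul_def, halg]
    exact hQ (Ideal.Quotient.mk J b) ((mem_kerQ_iff J Q b).mp hb) (v b) (hv' b) l l.2
  let h : RingHom.ker (algebraMap B (B ⧸ J)) →ₗ[B] RingHom.ker π :=
    { toFun := fun x => ⟨v x, hJL x x.2⟩
      map_add' := fun x y => Subtype.ext (by simp)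
      map_smul' := fun b x => Subtype.ext (by
        simp only [SetLike.val_smul, smul_eq_mul, map_mul, RingHom.id_apply,
          Submodule.coe_smul_of_tower]
        rw [Algebra.smul_def, halg]) }
  have hh : ∀ x y : RingHom.ker (algebraMap B (B ⧸ J)), h (x * y) = 0 := by
    intro x y
    apply Subtype.ext
    have h1 : v (x : B) * v (y : B) ∈ RingHom.ker π ^ 2 := by
      rw [pow_two]; exact Ideal.mul_mem_mul (hJL x x.2) (hJL y y.2)
    rw [hsq] at h1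
    show v ((x : B) * (y : B)) = 0
    rw [map_mul]; exact h1
  let hbar : (RingHom.ker (algebraMap B (B ⧸ J))).Cotangent →ₗ[B] RingHom.ker π :=
    Ideal.Cotangent.lift h hh
  obtain ⟨φ', hφ'⟩ := exists_tensor_lift ((B ⧸ J) ⧸ Q) (surjective_algebraMap_quotQ J Q) hQL hbar
  let ι₂ : Ω[B⁄A] →ₗ[B] ((B ⧸ J) ⧸ Q) ⊗[B] ((B ⧸ J) ⊗[B] Ω[B⁄A]) :=
    (TensorProduct.mk B ((B ⧸ J) ⧸ Q) ((B ⧸ J) ⊗[B] Ω[B⁄A]) 1) ∘ₗ
      (TensorProduct.mk B (B ⧸ J) Ω[B⁄A] 1)
  let δ' : Ω[B⁄A] →ₗ[B] RingHom.ker π := φ' ∘ₗ (g.restrictScalars B) ∘ₗ ι₂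
  have hδ' : ∀ x : RingHom.ker (algebraMap B (B ⧸ J)), δ' (KaehlerDifferential.D A B (x : B)) = h x := by
    intro x
    have h1 : ι₂ (KaehlerDifferential.D A B (x : B)) = LinearMap.baseChange ((B ⧸ J) ⧸ Q)
        (kerCotangentToTensor A B (B ⧸ J)) (1 ⊗ₜ (Ideal.toCotangent _ x)) := by
      rw [LinearMap.baseChange_tmul, kerCotangentToTensor_toCotangent]; rfl
    have h2 : g (ι₂ (KaehlerDifferential.D A B (x : B))) = 1 ⊗ₜ (Ideal.toCotangent _ x) := by
      rw [h1]; exact LinearMap.congr_fun hg _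
    show φ' (g (ι₂ (KaehlerDifferential.D A B (x : B)))) = h x
    rw [h2, hφ']; rfl
  let δ : Derivation A B (RingHom.ker π) := δ'.compDer (KaehlerDifferential.D A B)
  have hδ : ∀ b, δ b = δ' (KaehlerDifferential.D A B b) := fun b => rfl
  let χ₀ : B →ₐ[A] D := liftOfDerivationToSquareZero (RingHom.ker π) hsq (-δ)
  have hχ₀ : ∀ x ∈ J, χ₀ x = 0 := by
    intro x hx
    have hx' : x ∈ RingHom.ker (algebraMap B (B ⧸ J)) := (mem_kerJ_iff J x).mpr hx
    have h1 : δ x = h ⟨x, hx'⟩ := by rw [hδ]; exact hδ' ⟨x, hx'⟩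
    rw [liftOfDerivationToSquareZero_apply, Derivation.neg_apply, Submodule.coe_neg, h1, halg]
    show -(v x) + v x = 0
    exact neg_add_cancel _
  let χ : (B ⧸ J) →ₐ[A] D := Ideal.Quotient.liftₐ J χ₀ hχ₀
  refine ⟨χ, ?_⟩
  apply AlgHom.ext
  intro c
  obtain ⟨b, rfl⟩ := Ideal.Quotient.mk_surjective c
  show π (χ₀ b) = ψ (Ideal.Quotient.mk J b)
  rw [liftOfDerivationToSquareZero_apply, map_add, halg, hv']
  have h0 : π (((-δ) b : RingHom.ker π) : D) = 0 := (RingHom.mem_ker).mp ((-δ) b).2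
  rw [h0, zero_add]

include hB hg in
theorem exists_lift_pow : ∀ (i : ℕ) {D D' : Type u} [CommRing D] [CommRing D'] [Algebra A D]
    [Algebra A D'] (π : D →ₐ[A] D'), Function.Surjective π → RingHom.ker π ^ 2 = ⊥ →
    ∀ (ψ : (B ⧸ J) →ₐ[A] D'),
    (∃ k : ℕ, ∀ x ∈ (I.map (Ideal.Quotient.mk J)) ^ k, ψ x = 0) →
    (∀ c ∈ Q ^ i, ∀ d : D, π d = ψ c → ∀ l ∈ RingHom.ker π, d * l = 0) →
    ∃ χ : (B ⧸ J) →ₐ[A] D, π.comp χ = ψ := by
  intro i
  induction i with
  | zero =>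
    intro D D' _ _ _ _ π hπ hsq ψ hψ hQ
    have hinj : Function.Injective π := by
      rw [injective_iff_map_eq_zero]
      intro l hl
      have := hQ 1 (by simp) 1 (by simp) l hl
      simpa using this
    let e := AlgEquiv.ofBijective π ⟨hinj, hπ⟩
    refine ⟨e.symm.toAlgHom.comp ψ, ?_⟩
    apply AlgHom.ext
    intro c
    show π (e.symm (ψ c)) = ψ c
    exact e.apply_symm_apply (ψ c)
  | succ i ih =>
    intro D D' _ _ _ _ π hπ hsq ψ hψ hQ
    let L' : Ideal D := Ideal.span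
      {x | ∃ c ∈ Q ^ i, ∃ d : D, π d = ψ c ∧ ∃ l ∈ RingHom.ker π, x = d * l}
    have hL'L : L' ≤ RingHom.ker π := by
      rw [Ideal.span_le]
      rintro _ ⟨c, hc, d, hd, l, hl, rfl⟩
      exact Ideal.mul_mem_left _ _ hl
    let π' : (D ⧸ L') →ₐ[A] D' := Ideal.Quotient.liftₐ L' π (fun a ha => hL'L ha)
    have hπ'mk : ∀ d, π' (Ideal.Quotient.mk L' d) = π d := fun d => rfl
    have hπ' : Function.Surjective π' := fun d' => by
      obtain ⟨d, rfl⟩ := hπ d'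
      exact ⟨Ideal.Quotient.mk _ d, rfl⟩
    have hkerπ' : ∀ y ∈ RingHom.ker π', ∃ l ∈ RingHom.ker π, y = Ideal.Quotient.mk L' l := by
      intro y hy
      obtain ⟨d, rfl⟩ := Ideal.Quotient.mk_surjective y
      exact ⟨d, hy, rfl⟩
    have hsq' : RingHom.ker π' ^ 2 = ⊥ := by
      rw [eq_bot_iff, pow_two, Ideal.mul_le]
      intro y₁ h₁ y₂ h₂
      obtain ⟨l₁, hl₁, rfl⟩ := hkerπ' y₁ h₁
      obtain ⟨l₂, hl₂, rfl⟩ := hkerπ' y₂ h₂
      rw [Ideal.mem_bot, ← map_mul]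
      have h3 : l₁ * l₂ ∈ RingHom.ker π ^ 2 := by
        rw [pow_two]; exact Ideal.mul_mem_mul hl₁ hl₂
      rw [hsq] at h3
      rw [(Ideal.mem_bot).mp h3, map_zero]
    obtain ⟨χ', hχ'⟩ := ih π' hπ' hsq' ψ hψ (by
      intro c hc d' hd' l' hl'
      obtain ⟨d, rfl⟩ := Ideal.Quotient.mk_surjective d'
      obtain ⟨l, hl, rfl⟩ := hkerπ' l' hl'
      rw [← map_mul, Ideal.Quotient.eq_zero_iff_mem]
      exact Ideal.subset_span ⟨c, hc, d, hd', l, hl, rfl⟩)
    have hχ'' : ∀ c, π' (χ' c) = ψ c := fun c => AlgHom.congr_fun hχ' c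
    have hker_mk : RingHom.ker (Ideal.Quotient.mkₐ A L') = L' := by
      ext x; simp [RingHom.mem_ker, Ideal.Quotient.eq_zero_iff_mem]
    have hcont : ∃ k : ℕ, ∀ x ∈ (I.map (Ideal.Quotient.mk J)) ^ k, χ' x = 0 := by
      obtain ⟨k, hk⟩ := hψ
      exact ⟨k * 2, Groth.Agent.Lib.Helper6.FSAdic.kills_pow_of_comp π' 2 hsq' χ' _ k
        (fun x hx => by rw [hχ'']; exact hk x hx)⟩
    obtain ⟨χ, hχ⟩ := exists_lift_one_step I J Q hB g hg (Ideal.Quotient.mkₐ A L')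
      (Ideal.Quotient.mkₐ_surjective A L')
      (by rw [hker_mk, eq_bot_iff, ← hsq]; exact Ideal.pow_right_mono hL'L 2) χ' hcont (by
        intro c hc d hd l hl
        rw [hker_mk] at hl
        have hπd : π d = ψ c := by
          rw [← hπ'mk]
          have hd2 : Ideal.Quotient.mk L' d = χ' c := hd
          rw [hd2, hχ'']
        refine Submodule.span_induction (p := fun l _ => d * l = 0) ?_ ?_ ?_ ?_ hl
        · rintro _ ⟨c₁, hc₁, d₁, hd₁, l₁, hl₁, rfl⟩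
          rw [← mul_assoc]
          refine hQ (c * c₁) ?_ (d * d₁) ?_ l₁ hl₁
          · rw [pow_succ']; exact Ideal.mul_mem_mul hc hc₁
          · rw [map_mul, map_mul, hd₁, hπd]
        · exact mul_zero d
        · intro x y _ _ hx hy; rw [mul_add, hx, hy, add_zero]
        · intro a x _ hx; rw [smul_eq_mul, mul_left_comm, hx, mul_zero])
    refine ⟨χ, ?_⟩
    apply AlgHom.ext
    intro c
    have h1 : Ideal.Quotient.mk L' (χ c) = χ' c := AlgHom.congr_fun hχ c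
    show π (χ c) = ψ c
    rw [← hχ'' c, ← h1, hπ'mk]

include hB hg in
theorem isAdicFormallySmooth_of_retraction
    (hQ' : ∃ m : ℕ, Q ^ m ≤ I.map (Ideal.Quotient.mk J)) :
    CAlgX.IsAdicFormallySmooth A (B ⧸ J) (I.map (Ideal.Quotient.mk J)) := by
  intro D _ _ L hL ψ hψ
  obtain ⟨m, hm⟩ := hQ'
  obtain ⟨k, hk⟩ := hψ
  have hker : RingHom.ker (Ideal.Quotient.mkₐ A L) = L := by
    ext x; simp [RingHom.mem_ker, Ideal.Quotient.eq_zero_iff_mem]
  refine exists_lift_pow I J Q hB g hg (m * k) (Ideal.Quotient.mkₐ A L)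
    (Ideal.Quotient.mkₐ_surjective A L) (by rw [hker]; exact hL) ψ ⟨k, hk⟩ ?_
  intro c hc d hd l hl
  rw [hker] at hl
  have hc' : c ∈ (I.map (Ideal.Quotient.mk J)) ^ k := by
    rw [pow_mul] at hc
    exact Ideal.pow_right_mono hm k hc
  have hd0 : d ∈ L := by
    rw [← hker, RingHom.mem_ker, hd, hk c hc']
  have h2 : d * l ∈ L ^ 2 := by rw [pow_two]; exact Ideal.mul_mem_mul hd0 hl
  rw [hL] at h2; exact h2

end converse

end Groth.Agent.Lib.Helper21.AdicQuot
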