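import Mathlib
import Groth.Prelude.Def_CAlgX
import Groth.Agent.Lib.Helper6.FSAdic
import Groth.Agent.Lib.Helper21.AdicQuot

set_option autoImplicit false
set_option linter.style.haveILetI false

namespace Groth.Agent.Lib.Helper21.AdicQuot

open TensorProduct KaehlerDifferential

universe u

variable {A B : Type u} [CommRing A] [CommRing B] [Algebra A B] (I J : Ideal B)
  (Q : Ideal (B ⧸ J))

section forward

/-- elements of `Q' * J'` die in `R' ⊗ J'/J'^2`. -/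
theorem one_tmul_toCotangent_eq_zero (x : RingHom.ker (algebraMap B (B ⧸ J)))
    (hx : (x : B) ∈ RingHom.ker (algebraMap B ((B ⧸ J) ⧸ Q)) * RingHom.ker (algebraMap B (B ⧸ J))) :
    (1 : (B ⧸ J) ⧸ Q) ⊗ₜ[B] (RingHom.ker (algebraMap B (B ⧸ J))).toCotangent x = 0 := by
  let s : RingHom.ker (algebraMap B (B ⧸ J)) →ₗ[B]
      ((B ⧸ J) ⧸ Q) ⊗[B] (RingHom.ker (algebraMap B (B ⧸ J))).Cotangent :=
    (TensorProduct.mk B ((B ⧸ J) ⧸ Q) (RingHom.ker (algebraMap B (B ⧸ J))).Cotangent 1) ∘ₗ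
      (RingHom.ker (algebraMap B (B ⧸ J))).toCotangent
  have hle : RingHom.ker (algebraMap B ((B ⧸ J) ⧸ Q)) * RingHom.ker (algebraMap B (B ⧸ J)) ≤
      Submodule.map (RingHom.ker (algebraMap B (B ⧸ J))).subtype (LinearMap.ker s) := by
    rw [Ideal.mul_le]
    intro q hq j hj
    refine ⟨q • ⟨j, hj⟩, ?_, rfl⟩
    rw [SetLike.mem_coe, LinearMap.mem_ker, map_smul]
    show q • ((1 : (B ⧸ J) ⧸ Q) ⊗ₜ[B] _) = 0
    have h0 : (q • (1 : (B ⧸ J) ⧸ Q)) = algebraMap B ((B ⧸ J) ⧸ Q) q :=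
      (Algebra.algebraMap_eq_smul_one q).symm
    rw [TensorProduct.smul_tmul', h0, (RingHom.mem_ker).mp hq, zero_tmul]
  obtain ⟨x', hx', hxx'⟩ := hle hx
  have : x' = x := Subtype.ext hxx'
  rw [this] at hx'
  exact hx'

variable [IsNoetherianRing B]

theorem exists_retraction
    (hC : CAlgX.IsAdicFormallySmooth A (B ⧸ J) (I.map (Ideal.Quotient.mk J)))
    (hQ : ∃ n : ℕ, (I.map (Ideal.Quotient.mk J)) ^ n ≤ Q) :
    ∃ g : ((B ⧸ J) ⧸ Q) ⊗[B] ((B ⧸ J) ⊗[B] Ω[B⁄A]) →ₗ[(B ⧸ J) ⧸ Q]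
          ((B ⧸ J) ⧸ Q) ⊗[B] (RingHom.ker (algebraMap B (B ⧸ J))).Cotangent,
      g ∘ₗ LinearMap.baseChange ((B ⧸ J) ⧸ Q)
        (KaehlerDifferential.kerCotangentToTensor A B (B ⧸ J)) = LinearMap.id := by
  classical
  -- Artin–Rees
  obtain ⟨k₀, hk₀⟩ := Ideal.exists_pow_inf_eq_pow_smul
    (RingHom.ker (algebraMap B ((B ⧸ J) ⧸ Q)))
    (RingHom.ker (algebraMap B (B ⧸ J)) : Submodule B B)
  have hJQ : RingHom.ker (algebraMap B (B ⧸ J)) ≤ RingHom.ker (algebraMap B ((B ⧸ J) ⧸ Q)) := by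
    intro b hb
    rw [mem_kerQ_iff]
    have : Ideal.Quotient.mk J b = 0 := hb
    rw [this]; exact Q.zero_mem
  have hAR : ∀ x ∈ RingHom.ker (algebraMap B ((B ⧸ J) ⧸ Q)) ^ (k₀ + 1),
      x ∈ RingHom.ker (algebraMap B (B ⧸ J)) →
      x ∈ RingHom.ker (algebraMap B ((B ⧸ J) ⧸ Q)) * RingHom.ker (algebraMap B (B ⧸ J)) := by
    intro x hx1 hx2
    have h1 : x ∈ ((RingHom.ker (algebraMap B ((B ⧸ J) ⧸ Q))) ^ (k₀ + 1) • (⊤ : Submodule B B) ⊓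
        (RingHom.ker (algebraMap B (B ⧸ J)) : Submodule B B)) :=
      ⟨by simpa using hx1, hx2⟩
    rw [hk₀ (k₀ + 1) (Nat.le_succ _), Nat.add_sub_cancel_left, pow_one] at h1
    exact Submodule.smul_mono le_rfl inf_le_right h1
  set n := k₀ + 1 with hn
  let 𝔞 : Ideal B := RingHom.ker (algebraMap B ((B ⧸ J) ⧸ Q)) * RingHom.ker (algebraMap B (B ⧸ J)) ⊔
    RingHom.ker (algebraMap B ((B ⧸ J) ⧸ Q)) ^ n
  have h𝔞1 : RingHom.ker (algebraMap B ((B ⧸ J) ⧸ Q)) * RingHom.ker (algebraMap B (B ⧸ J)) ≤ 𝔞 :=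
    le_sup_left
  have h𝔞2 : RingHom.ker (algebraMap B ((B ⧸ J) ⧸ Q)) ^ n ≤ 𝔞 := le_sup_right
  let f₀ : B →ₐ[A] (B ⧸ J) ⧸ Q ^ n :=
    (Ideal.Quotient.mkₐ A (Q ^ n)).comp (Ideal.Quotient.mkₐ A J)
  have hf₀ : ∀ b, f₀ b = Ideal.Quotient.mk (Q ^ n) (Ideal.Quotient.mk J b) := fun b => rfl
  have hmapQ : (RingHom.ker (algebraMap B ((B ⧸ J) ⧸ Q)) ^ n).map (Ideal.Quotient.mk J) ≤ Q ^ n := by
    rw [Ideal.map_pow]
    exact Ideal.pow_right_mono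
      (Ideal.map_le_iff_le_comap.mpr (fun b hb => (mem_kerQ_iff J Q b).mp hb)) n
  have hQmap : Q ^ n ≤ (RingHom.ker (algebraMap B ((B ⧸ J) ⧸ Q)) ^ n).map (Ideal.Quotient.mk J) := by
    rw [Ideal.map_pow]
    refine Ideal.pow_right_mono ?_ n
    intro c hc
    obtain ⟨b, rfl⟩ := Ideal.Quotient.mk_surjective c
    exact Ideal.mem_map_of_mem _ ((mem_kerQ_iff J Q b).mpr hc)
  have h𝔞f₀ : ∀ a ∈ 𝔞, f₀ a = 0 := by
    intro a ha
    obtain ⟨y, hy, z, hz, rfl⟩ := Submodule.mem_sup.mp ha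
    rw [map_add]
    have hy0 : f₀ y = 0 := by
      have : Ideal.Quotient.mk J y = 0 := Ideal.mul_le_right hy
      rw [hf₀, this, map_zero]
    have hz0 : f₀ z = 0 := by
      rw [hf₀, Ideal.Quotient.eq_zero_iff_mem]
      exact hmapQ (Ideal.mem_map_of_mem _ hz)
    rw [hy0, hz0, add_zero]
  let π : (B ⧸ 𝔞) →ₐ[A] (B ⧸ J) ⧸ Q ^ n := Ideal.Quotient.liftₐ 𝔞 f₀ h𝔞f₀
  have hπmk : ∀ b, π (Ideal.Quotient.mk 𝔞 b) = f₀ b := fun b => rfl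
  have hπ : Function.Surjective π := by
    intro r
    obtain ⟨c, rfl⟩ := Ideal.Quotient.mk_surjective r
    obtain ⟨b, rfl⟩ := Ideal.Quotient.mk_surjective c
    exact ⟨Ideal.Quotient.mk 𝔞 b, rfl⟩
  have hkerπ : ∀ y ∈ RingHom.ker π, ∃ x ∈ RingHom.ker (algebraMap B (B ⧸ J)),
      y = Ideal.Quotient.mk 𝔞 x := by
    intro y hy
    obtain ⟨b, rfl⟩ := Ideal.Quotient.mk_surjective y
    rw [RingHom.mem_ker, hπmk, hf₀, Ideal.Quotient.eq_zero_iff_mem] at hy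
    obtain ⟨z, hz, hzb⟩ := (Ideal.mem_map_iff_of_surjective (Ideal.Quotient.mk J)
      Ideal.Quotient.mk_surjective).mp (hQmap hy)
    refine ⟨b - z, ?_, ?_⟩
    · rw [RingHom.mem_ker, Ideal.Quotient.algebraMap_eq, map_sub, hzb, sub_self]
    · rw [map_sub, Ideal.Quotient.eq_zero_iff_mem.mpr (h𝔞2 hz), sub_zero]
  have hJker : ∀ x ∈ RingHom.ker (algebraMap B (B ⧸ J)), Ideal.Quotient.mk 𝔞 x ∈ RingHom.ker π := by
    intro x hx
    have : Ideal.Quotient.mk J x = 0 := hx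
    rw [RingHom.mem_ker, hπmk, hf₀, this, map_zero]
  have hsq : RingHom.ker π ^ 2 = ⊥ := by
    rw [eq_bot_iff, pow_two, Ideal.mul_le]
    intro y₁ h₁ y₂ h₂
    obtain ⟨x₁, hx₁, rfl⟩ := hkerπ y₁ h₁
    obtain ⟨x₂, hx₂, rfl⟩ := hkerπ y₂ h₂
    rw [Ideal.mem_bot, ← map_mul, Ideal.Quotient.eq_zero_iff_mem]
    exact h𝔞1 (Ideal.mul_mem_mul (hJQ hx₁) hx₂)
  -- the lift
  obtain ⟨n₀, hn₀⟩ := hQ
  have hcont : ∃ k : ℕ, ∀ x ∈ (I.map (Ideal.Quotient.mk J)) ^ k,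
      (Ideal.Quotient.mkₐ A (Q ^ n)) x = 0 := by
    refine ⟨n₀ * n, fun x hx => ?_⟩
    rw [pow_mul] at hx
    exact Ideal.Quotient.eq_zero_iff_mem.mpr (Ideal.pow_right_mono hn₀ n hx)
  obtain ⟨χ, hχ⟩ := Groth.Agent.Lib.Helper6.FSAdic.sqZero_exists_lift_of_surjective hC π hπ hsq
    (Ideal.Quotient.mkₐ A (Q ^ n)) hcont
  have hχ' : ∀ c, π (χ c) = Ideal.Quotient.mk (Q ^ n) c := fun c => AlgHom.congr_fun hχ c
  -- the derivation
  have he : (Ideal.Quotient.mkₐ A (RingHom.ker π)).comp (χ.comp (Ideal.Quotient.mkₐ A J)) =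
      IsScalarTower.toAlgHom A B ((B ⧸ 𝔞) ⧸ RingHom.ker π) := by
    apply AlgHom.ext
    intro b
    show Ideal.Quotient.mk (RingHom.ker π) (χ (Ideal.Quotient.mk J b)) =
      Ideal.Quotient.mk (RingHom.ker π) (Ideal.Quotient.mk 𝔞 b)
    rw [Ideal.Quotient.eq, RingHom.mem_ker, map_sub, hχ', hπmk, hf₀, sub_self]
  let d : Derivation A B (RingHom.ker π) :=
    derivationToSquareZeroOfLift (RingHom.ker π) hsq (χ.comp (Ideal.Quotient.mkₐ A J)) he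
  have hd : ∀ x ∈ RingHom.ker (algebraMap B (B ⧸ J)),
      (((-d) x : RingHom.ker π) : B ⧸ 𝔞) = Ideal.Quotient.mk 𝔞 x := by
    intro x hx
    have hx0 : Ideal.Quotient.mk J x = 0 := hx
    rw [Derivation.neg_apply, Submodule.coe_neg, derivationToSquareZeroOfLift_apply]
    show -(χ (Ideal.Quotient.mk J x) - Ideal.Quotient.mk 𝔞 x) = _
    rw [hx0, map_zero, zero_sub, neg_neg]
  -- `ρ : ker π → R' ⊗ Cot`
  let pJ : RingHom.ker (algebraMap B (B ⧸ J)) →ₗ[B] RingHom.ker π :=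
    { toFun := fun x => ⟨Ideal.Quotient.mk 𝔞 (x : B), hJker x x.2⟩
      map_add' := fun x y => Subtype.ext (by simp)
      map_smul' := fun b x => Subtype.ext (by
        simp only [SetLike.val_smul, smul_eq_mul, map_mul, RingHom.id_apply,
          Submodule.coe_smul_of_tower]
        rw [Algebra.smul_def]; rfl) }
  have hpJ : Function.Surjective pJ := by
    intro y
    obtain ⟨x, hx, hyx⟩ := hkerπ y y.2
    exact ⟨⟨x, hx⟩, Subtype.ext hyx.symm⟩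
  let s : RingHom.ker (algebraMap B (B ⧸ J)) →ₗ[B]
      ((B ⧸ J) ⧸ Q) ⊗[B] (RingHom.ker (algebraMap B (B ⧸ J))).Cotangent :=
    (TensorProduct.mk B ((B ⧸ J) ⧸ Q) (RingHom.ker (algebraMap B (B ⧸ J))).Cotangent 1) ∘ₗ
      (RingHom.ker (algebraMap B (B ⧸ J))).toCotangent
  have hs : ∀ x, s x = (1 : (B ⧸ J) ⧸ Q) ⊗ₜ[B] (RingHom.ker (algebraMap B (B ⧸ J))).toCotangent x :=
    fun x => rfl
  have hkers : LinearMap.ker pJ ≤ LinearMap.ker s := by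
    intro x hx
    rw [LinearMap.mem_ker] at hx ⊢
    have hx1 : Ideal.Quotient.mk 𝔞 (x : B) = 0 := congrArg Subtype.val hx
    rw [Ideal.Quotient.eq_zero_iff_mem] at hx1
    obtain ⟨y, hy, z, hz, hyz⟩ := Submodule.mem_sup.mp hx1
    have hyJ : y ∈ RingHom.ker (algebraMap B (B ⧸ J)) := Ideal.mul_le_right hy
    have hzJ : z ∈ RingHom.ker (algebraMap B (B ⧸ J)) := by
      have : z = (x : B) - y := by rw [← hyz]; ring
      rw [this]; exact Ideal.sub_mem _ x.2 hyJ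
    have hxQJ : (x : B) ∈ RingHom.ker (algebraMap B ((B ⧸ J) ⧸ Q)) *
        RingHom.ker (algebraMap B (B ⧸ J)) := by
      rw [← hyz]; exact Ideal.add_mem _ hy (hAR z hz hzJ)
    rw [hs]
    exact one_tmul_toCotangent_eq_zero J Q x hxQJ
  obtain ⟨ρ, hρ⟩ := exists_comp_eq_of_surjective pJ hpJ s hkers
  let gB : Ω[B⁄A] →ₗ[B] ((B ⧸ J) ⧸ Q) ⊗[B] (RingHom.ker (algebraMap B (B ⧸ J))).Cotangent :=
    ρ ∘ₗ (-d).liftKaehlerDifferential
  have hgB : ∀ x : RingHom.ker (algebraMap B (B ⧸ J)), gB (KaehlerDifferential.D A B (x : B)) =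
      (1 : (B ⧸ J) ⧸ Q) ⊗ₜ[B] (RingHom.ker (algebraMap B (B ⧸ J))).toCotangent x := by
    intro x
    show ρ ((-d).liftKaehlerDifferential (KaehlerDifferential.D A B (x : B))) = _
    rw [Derivation.liftKaehlerDifferential_comp_D]
    have : (-d) (x : B) = pJ x := Subtype.ext (hd x x.2)
    rw [this, hρ, hs]
  let g₁ : (B ⧸ J) ⊗[B] Ω[B⁄A] →ₗ[B ⧸ J]
      ((B ⧸ J) ⧸ Q) ⊗[B] (RingHom.ker (algebraMap B (B ⧸ J))).Cotangent :=
    LinearMap.liftBaseChange (B ⧸ J) gB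
  let g : ((B ⧸ J) ⧸ Q) ⊗[B] ((B ⧸ J) ⊗[B] Ω[B⁄A]) →ₗ[(B ⧸ J) ⧸ Q]
      ((B ⧸ J) ⧸ Q) ⊗[B] (RingHom.ker (algebraMap B (B ⧸ J))).Cotangent :=
    LinearMap.liftBaseChange ((B ⧸ J) ⧸ Q) (g₁.restrictScalars B)
  refine ⟨g, ?_⟩
  apply TensorProduct.AlgebraTensorModule.ext
  intro r t
  obtain ⟨x, rfl⟩ := Ideal.toCotangent_surjective _ t
  rw [LinearMap.comp_apply, LinearMap.baseChange_tmul, kerCotangentToTensor_toCotangent,
    LinearMap.id_apply]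
  show r • (g₁ ((1 : B ⧸ J) ⊗ₜ[B] KaehlerDifferential.D A B (x : B))) = _
  have h1 : g₁ ((1 : B ⧸ J) ⊗ₜ[B] KaehlerDifferential.D A B (x : B)) =
      gB (KaehlerDifferential.D A B (x : B)) := by
    show (1 : B ⧸ J) • gB (KaehlerDifferential.D A B (x : B)) = _
    rw [one_smul]
  rw [h1, hgB, TensorProduct.smul_tmul', smul_eq_mul, mul_one]

end forward

theorem S12136_aux [IsNoetherianRing B] (hB : CAlgX.IsAdicFormallySmooth A B I)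
    (hQ : ∃ n : ℕ, (I.map (Ideal.Quotient.mk J)) ^ n ≤ Q)
    (hQ' : ∃ m : ℕ, Q ^ m ≤ I.map (Ideal.Quotient.mk J)) :
    CAlgX.IsAdicFormallySmooth A (B ⧸ J) (I.map (Ideal.Quotient.mk J)) ↔
      ∃ g : ((B ⧸ J) ⧸ Q) ⊗[B] ((B ⧸ J) ⊗[B] Ω[B⁄A]) →ₗ[(B ⧸ J) ⧸ Q]
          ((B ⧸ J) ⧸ Q) ⊗[B] (RingHom.ker (algebraMap B (B ⧸ J))).Cotangent,
        g ∘ₗ LinearMap.baseChange ((B ⧸ J) ⧸ Q)
          (KaehlerDifferential.kerCotangentToTensor A B (B ⧸ J)) = LinearMap.id :=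
  ⟨fun h => exists_retraction I J Q h hQ,
    fun ⟨g, hg⟩ => isAdicFormallySmooth_of_retraction I J Q hB g hg hQ'⟩

end Groth.Agent.Lib.Helper21.AdicQuot
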