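import Mathlib
import Groth.Prelude
import Groth.Agent.Lib.Helper24.HensGlobal

/-!
# L2 for helper28 (S18070): a morphism from `G × G₁` to an affine scheme factors through `G`
when `G₁` is anti-affine of finite type over a field (helper21)
-/

set_option autoImplicit false
set_option linter.style.haveILetI false
universe u

open CategoryTheory CategoryTheory.Limits AlgebraicGeometry MonoidalCategory
  CartesianMonoidalCategory MonObj

namespace Groth.Agent.Lib.Helper21.AntiAffProd

/-- the statement over an affine piece `T` of `A` -/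
theorem local_eq {k : Type u} [Field k] {A B N T : Scheme.{u}}
    (a : A ⟶ Spec (CommRingCat.of k)) (b : B ⟶ Spec (CommRingCat.of k))
    [LocallyOfFiniteType b] [QuasiCompact b]
    (hB : Function.Bijective ((Scheme.ΓSpecIso (CommRingCat.of k)).inv ≫ b.appTop).hom)
    [IsAffine N] [IsAffine T] (σ : A ⟶ pullback a b) (hσ : σ ≫ pullback.fst a b = 𝟙 A)
    (φ : pullback a b ⟶ N) (inc : T ⟶ A) (j : pullback (inc ≫ a) b ⟶ pullback a b)
    (hj1 : j ≫ pullback.fst a b = pullback.fst (inc ≫ a) b ≫ inc)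
    (hj2 : j ≫ pullback.snd a b = pullback.snd (inc ≫ a) b) :
    j ≫ φ = j ≫ pullback.fst a b ≫ σ ≫ φ := by
  haveI : IsDomain ↑(CommRingCat.of k) := inferInstanceAs (IsDomain k)
  haveI : Subsingleton ↥(Spec (CommRingCat.of k)) :=
    inferInstanceAs (Subsingleton (PrimeSpectrum k))
  haveI : IsNoetherianRing ↑(CommRingCat.of k) := inferInstanceAs (IsNoetherianRing k)
  haveI : IsLocallyNoetherian B := LocallyOfFiniteType.isLocallyNoetherian b
  haveI : CompactSpace B := QuasiCompact.compactSpace_of_compactSpace b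
  haveI : QuasiSeparatedSpace B := inferInstance
  haveI hbiso : IsIso b.appTop := by
    have h1 : IsIso ((Scheme.ΓSpecIso (CommRingCat.of k)).inv ≫ b.appTop) :=
      (ConcreteCategory.isIso_iff_bijective _).mpr hB
    exact IsIso.of_isIso_comp_left (Scheme.ΓSpecIso (CommRingCat.of k)).inv b.appTop
  let σi : T ⟶ pullback (inc ≫ a) b :=
    pullback.lift (𝟙 _) (inc ≫ σ ≫ pullback.snd a b) (by
      rw [Category.id_comp, Category.assoc, Category.assoc, ← pullback.condition,
        ← Category.assoc σ, hσ, Category.id_comp])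
  have hσi1 : σi ≫ pullback.fst (inc ≫ a) b = 𝟙 _ := pullback.lift_fst _ _ _
  have hσij : σi ≫ j = inc ≫ σ := by
    apply pullback.hom_ext
    · rw [Category.assoc, hj1, ← Category.assoc, hσi1, Category.id_comp, Category.assoc, hσ,
        Category.comp_id]
    · rw [Category.assoc, hj2, pullback.lift_snd, Category.assoc]
  have hq : IsIso (pullback.fst (inc ≫ a) b).appTop := by
    have H : IsPullback (pullback.snd (inc ≫ a) b) (pullback.fst (inc ≫ a) b) b (inc ≫ a) :=
      (IsPullback.of_hasPullback (inc ≫ a) b).flip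
    haveI : Flat (inc ≫ a) := inferInstance
    have hp := Groth.Agent.Lib.Helper24.HensGlobal.isPushout_appTop_of_flat H
    exact hp.isIso_inr_of_isIso
  have key : ∀ ψ : pullback (inc ≫ a) b ⟶ N, ψ = pullback.fst (inc ≫ a) b ≫ σi ≫ ψ := by
    intro ψ
    apply ext_of_isAffine
    have h1 : (pullback.fst (inc ≫ a) b).appTop ≫ σi.appTop = 𝟙 _ := by
      rw [← Scheme.Hom.comp_appTop, hσi1]
      rfl
    have h2 : σi.appTop ≫ (pullback.fst (inc ≫ a) b).appTop = 𝟙 _ := by
      have h3 : σi.appTop = inv (pullback.fst (inc ≫ a) b).appTop := by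
        rw [← cancel_epi (pullback.fst (inc ≫ a) b).appTop, h1, IsIso.hom_inv_id]
      rw [h3, IsIso.inv_hom_id]
    rw [Scheme.Hom.comp_appTop, Scheme.Hom.comp_appTop, Category.assoc, h2, Category.comp_id]
  calc j ≫ φ = pullback.fst (inc ≫ a) b ≫ σi ≫ j ≫ φ := key (j ≫ φ)
    _ = pullback.fst (inc ≫ a) b ≫ (inc ≫ σ) ≫ φ := by rw [← Category.assoc σi, hσij]
    _ = j ≫ pullback.fst a b ≫ σ ≫ φ := by
      rw [Category.assoc, ← Category.assoc (pullback.fst (inc ≫ a) b), ← hj1, Category.assoc]

/-- scheme-level statement: if `Γ(B) = k`, every morphism from `A ×_k B` to an affine scheme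
factors through the first projection (composed with any section of it). -/
theorem comp_section_eq {k : Type u} [Field k] {A B N : Scheme.{u}}
    (a : A ⟶ Spec (CommRingCat.of k)) (b : B ⟶ Spec (CommRingCat.of k))
    [LocallyOfFiniteType b] [QuasiCompact b]
    (hB : Function.Bijective ((Scheme.ΓSpecIso (CommRingCat.of k)).inv ≫ b.appTop).hom)
    [IsAffine N] (σ : A ⟶ pullback a b) (hσ : σ ≫ pullback.fst a b = 𝟙 A)
    (φ : pullback a b ⟶ N) :
    φ = pullback.fst a b ≫ σ ≫ φ := by
  refine (Scheme.Pullback.openCoverOfLeft A.affineCover a b).hom_ext _ _ fun i => ?_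
  haveI : IsAffine (A.affineCover.X (i : A.affineCover.I₀)) := Scheme.isAffine_affineCover A i
  exact local_eq a b hB σ hσ φ (A.affineCover.f (i : A.affineCover.I₀))
    ((Scheme.Pullback.openCoverOfLeft A.affineCover a b).f i)
    (pullback.lift_fst _ _ _) ((pullback.lift_snd _ _ _).trans (Category.comp_id _))

/-- L2: a morphism from `G × G₁` to an affine `k`-scheme factors through `G` when `Γ(G₁) = k`. -/
theorem comp_eq_fst_comp_of_antiAffine (k : Type u) [Field k]
    (G G₁ : Over (Spec (CommRingCat.of k))) [GrpObj G₁]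
    [LocallyOfFiniteType G₁.hom] [QuasiCompact G₁.hom]
    (hG₁ : Function.Bijective ((Scheme.ΓSpecIso (CommRingCat.of k)).inv ≫ G₁.hom.appTop).hom)
    (N : Over (Spec (CommRingCat.of k))) [IsAffine N.left] (F : G ⊗ G₁ ⟶ N) :
    F = fst G G₁ ≫ lift (𝟙 G) (toUnit G ≫ η[G₁]) ≫ F := by
  apply Over.OverMorphism.ext
  have hσ : (lift (𝟙 G) (toUnit G ≫ η[G₁])).left ≫ pullback.fst G.hom G₁.hom = 𝟙 G.left := by
    have h1 : lift (𝟙 G) (toUnit G ≫ η[G₁]) ≫ fst G G₁ = 𝟙 G := lift_fst _ _
    exact congrArg (fun m => m.left) h1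
  exact comp_section_eq G.hom G₁.hom hG₁ (lift (𝟙 G) (toUnit G ≫ η[G₁])).left hσ F.left

end Groth.Agent.Lib.Helper21.AntiAffProd
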