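import Mathlib
import Groth.Agent.Lib.Helper21.CohenStructF
import Groth.Agent.Lib.Helper9.RegLocal

/-! Artinian local algebras formally smooth over a field are fields (any universes). -/

namespace Groth.Agent.Lib.Helper21.ArtinFS

open IsLocalRing TensorProduct

universe u w

/-- same-universe version -/
theorem isField_of_formallySmooth_artinian' (κ T : Type u) [Field κ] [CommRing T] [Algebra κ T]
    [IsLocalRing T] [IsArtinianRing T] [Algebra.FormallySmooth κ T] : IsField T := by
  have h1 : CAlgX.IsAdicFormallySmooth κ T (maximalIdeal T) :=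
    Groth.Agent.Lib.Helper21.CohenStruct.isAdicFormallySmooth_of_formallySmooth _
  have := (Groth.Agent.Lib.Helper21.CohenStruct.regular_of_isAdicFormallySmooth κ T h1).1
  have : IsDomain T := Groth.Agent.Lib.Helper9.RegLocal.isDomain_of_isRegularLocalRing T
  exact IsArtinianRing.isField_of_isDomain T

attribute [local instance] ULift.algebra' in
/-- universe-polymorphic version -/
theorem isField_of_formallySmooth_artinian (κ : Type u) (T : Type (max u w)) [Field κ] [CommRing T]
    [Algebra κ T] [IsLocalRing T] [IsArtinianRing T] [Algebra.FormallySmooth κ T] : IsField T := by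
  haveI : IsScalarTower (ULift.{w} κ) κ T := inferInstance
  haveI : Algebra.FormallySmooth (ULift.{w} κ) κ :=
    Algebra.FormallySmooth.of_equiv
      (AlgEquiv.ofRingEquiv (f := (ULift.ringEquiv : ULift.{w} κ ≃+* κ)) (fun _ => rfl))
  haveI : Algebra.FormallySmooth (ULift.{w} κ) T := Algebra.FormallySmooth.comp _ κ T
  exact isField_of_formallySmooth_artinian' (ULift.{w} κ) T

universe v

theorem isLocalHom_of_artinian (A : Type u) (B : Type v) [CommRing A] [CommRing B]
    [IsLocalRing A] [IsLocalRing B] [IsArtinianRing A] [Algebra A B] :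
    IsLocalHom (algebraMap A B) := by
  constructor
  intro a ha
  by_contra hna
  have hmem : a ∈ maximalIdeal A := hna
  obtain ⟨n, hn⟩ := IsArtinianRing.isNilpotent_jacobson_bot (R := A)
  rw [IsLocalRing.jacobson_eq_maximalIdeal ⊥ bot_ne_top] at hn
  have h0 : a ^ n = 0 := by
    have : a ^ n ∈ maximalIdeal A ^ n := Ideal.pow_mem_pow hmem n
    rwa [hn] at this
  have h1 : IsUnit ((algebraMap A B a) ^ n) := ha.pow n
  rw [← map_pow, h0, map_zero] at h1
  exact not_isUnit_zero h1

theorem S18056_aux (A : Type u) (B : Type v) [CommRing A] [CommRing B]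
    [IsLocalRing A] [IsLocalRing B] [IsArtinianRing A] [IsArtinianRing B] [Algebra A B]
    [Module.Flat A B] [Algebra.FormallySmooth A B] :
    Module.length A A = Module.length B B := by
  haveI : IsLocalHom (algebraMap A B) := isLocalHom_of_artinian A B
  let I : Ideal B := (maximalIdeal A).map (algebraMap A B)
  have hI : I ≤ maximalIdeal B := by
    rw [Ideal.map_le_iff_le_comap]
    intro a ha
    exact (IsLocalRing.mem_maximalIdeal _).mpr (fun h => ha (isUnit_of_map_unit _ _ h))
  -- the fibre
  let T := (ResidueField A) ⊗[A] B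
  haveI : Algebra.FormallySmooth (ResidueField A) T := inferInstance
  let e : (B ⧸ I) ≃ₐ[B] B ⊗[A] (A ⧸ maximalIdeal A) :=
    Algebra.TensorProduct.quotIdealMapEquivTensorQuot B (maximalIdeal A)
  let e' : (B ⧸ I) ≃+* T :=
    e.toRingEquiv.trans (show B ⊗[A] (A ⧸ maximalIdeal A) ≃+* T from
      (Algebra.TensorProduct.comm A B (ResidueField A)).toRingEquiv)
  haveI : Nontrivial (B ⧸ I) :=
    Ideal.Quotient.nontrivial_iff.mpr (fun h => (maximalIdeal.isMaximal B).ne_top (top_le_iff.mp (h ▸ hI)))
  haveI : IsLocalRing (B ⧸ I) := IsLocalRing.of_surjective' _ Ideal.Quotient.mk_surjective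
  haveI : IsLocalRing T := e'.isLocalRing
  haveI : IsArtinianRing (B ⧸ I) := inferInstance
  haveI : IsArtinianRing T := e'.surjective.isArtinianRing
  have hf : IsField T := isField_of_formallySmooth_artinian.{u, v} (ResidueField A) T
  have hf' : IsField (B ⧸ I) := e'.toMulEquiv.isField hf
  have hmax : I.IsMaximal := Ideal.Quotient.maximal_of_isField I hf'
  have hIeq : I = maximalIdeal B := IsLocalRing.eq_maximalIdeal hmax
  have h1 : Module.length B (B ⧸ I) = 1 := by
    rw [hIeq]
    haveI : IsSimpleModule B (B ⧸ maximalIdeal B) := by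
      rw [isSimpleModule_iff_isCoatom]
      exact Ideal.isMaximal_def.1 (maximalIdeal.isMaximal B)
    exact Module.length_eq_one B _
  have h2 := IsLocalRing.length_baseChange A B A
  rw [h1, mul_one] at h2
  rw [← h2]
  exact (TensorProduct.AlgebraTensorModule.rid A B B).length_eq

end Groth.Agent.Lib.Helper21.ArtinFS
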