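import Mathlib
import Groth.Prelude

/-!
# (F) for helper1 (S14335): dimension of a stalk = height of the prime in an affine chart (helper21)
-/

set_option autoImplicit false
set_option linter.style.haveILetI false
universe u

open CategoryTheory CategoryTheory.Limits AlgebraicGeometry Opposite

namespace Groth.Agent.Lib.Helper21.CIDimF

/-- (F) dimension of the stalk = height of the prime in an affine chart. -/
theorem ringKrullDim_stalk_eq_height {P : Scheme.{u}} (V : P.affineOpens) (ξ : P) (hξ : ξ ∈ V.1) :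
    ringKrullDim (P.presheaf.stalk ξ) = (V.2.primeIdealOf ⟨ξ, hξ⟩).asIdeal.height := by
  letI alg : Algebra Γ(P, V.1) (P.presheaf.stalk ξ) :=
    TopCat.Presheaf.algebra_section_stalk P.presheaf (⟨ξ, hξ⟩ : V.1)
  haveI : IsLocalization.AtPrime (P.presheaf.stalk ξ) (V.2.primeIdealOf ⟨ξ, hξ⟩).asIdeal :=
    V.2.isLocalization_stalk ⟨ξ, hξ⟩
  exact IsLocalization.AtPrime.ringKrullDim_eq_height (V.2.primeIdealOf ⟨ξ, hξ⟩).asIdeal
    (P.presheaf.stalk ξ)

end Groth.Agent.Lib.Helper21.CIDimF
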