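import Mathlib

/-!
# The Čech nerve of a surjection of sets is a trivial Kan fibration over the constant
simplicial set
-/

set_option autoImplicit false
universe u
open CategoryTheory Simplicial Opposite Limits

namespace Groth.Agent.Lib.Helper21.CechTKF

open SSet

variable {A B : Type u} (f : A ⟶ B)

/-- the Čech nerve -/
noncomputable abbrev Cf : SSet.{u} := (Arrow.mk f).cechNerve

/-- the augmentation -/
noncomputable abbrev aug : Cf f ⟶ (SimplicialObject.const (Type u)).obj B :=
  (Arrow.mk f).augmentedCechNerve.hom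

/-- value of a simplex of the standard simplex at a vertex -/
def ev {n : ℕ} {m : SimplexCategoryᵒᵖ} (x : (Δ[n] : SSet.{u}).obj m) (j : Fin (m.unop.len + 1)) :
    Fin (n + 1) :=
  (stdSimplex.objEquiv x).toOrderHom j

lemma ev_map {n : ℕ} {m m' : SimplexCategoryᵒᵖ} (g : m ⟶ m') (x : (Δ[n] : SSet.{u}).obj m)
    (j : Fin (m'.unop.len + 1)) :
    ev ((Δ[n] : SSet.{u}).map g x) j = ev x (g.unop.toOrderHom j) := rfl

lemma Cf_map_π {m m' : SimplexCategoryᵒᵖ} (g : m ⟶ m') (i : Fin (m'.unop.len + 1)) :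
    (Cf f).map g ≫ WidePullback.π (fun _ => (Arrow.mk f).hom) i =
      WidePullback.π (fun _ => (Arrow.mk f).hom) (g.unop.toOrderHom i) := by
  dsimp only [Cf, Arrow.cechNerve]
  exact WidePullback.lift_π _ _ _ _ _

lemma Cf_map_base {m m' : SimplexCategoryᵒᵖ} (g : m ⟶ m') :
    (Cf f).map g ≫ WidePullback.base (fun _ => (Arrow.mk f).hom) =
      WidePullback.base (fun _ => (Arrow.mk f).hom) := by
  dsimp only [Cf, Arrow.cechNerve]
  exact WidePullback.lift_base _ _ _ _

/-- the simplex of the Čech nerve with given vertices -/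
noncomputable def liftOfVertices (n : ℕ) (a : Fin (n + 1) → A) (b₀ : B) (ha : ∀ j, f (a j) = b₀) :
    (Δ[n] : SSet.{u}) ⟶ Cf f where
  app m := WidePullback.lift (↾fun _ => b₀) (fun i => ↾fun θ => a (ev θ i)) (by
    intro i
    ext θ
    exact ha _)
  naturality m m' g := by
    apply WidePullback.hom_ext
    · intro i
      rw [Category.assoc, WidePullback.lift_π, Category.assoc, Cf_map_π, WidePullback.lift_π]
      rfl
    · rw [Category.assoc, WidePullback.lift_base, Category.assoc, Cf_map_base,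
        WidePullback.lift_base]
      rfl

lemma liftOfVertices_app_π (n : ℕ) (a : Fin (n + 1) → A) (b₀ : B) (ha : ∀ j, f (a j) = b₀)
    (m : SimplexCategoryᵒᵖ) (i : Fin (m.unop.len + 1)) :
    (liftOfVertices f n a b₀ ha).app m ≫ WidePullback.π (fun _ => (Arrow.mk f).hom) i =
      ↾fun θ => a (ev θ i) :=
  WidePullback.lift_π _ _ _ _ _

lemma liftOfVertices_app_base (n : ℕ) (a : Fin (n + 1) → A) (b₀ : B) (ha : ∀ j, f (a j) = b₀)
    (m : SimplexCategoryᵒᵖ) :
    (liftOfVertices f n a b₀ ha).app m ≫ WidePullback.base (fun _ => (Arrow.mk f).hom) =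
      ↾fun _ => b₀ :=
  WidePullback.lift_base _ _ _ _

theorem main (hf : Function.Surjective f) : SSet.modelCategoryQuillen.I.rlp (aug f) := by
  rintro _ _ _ ⟨n⟩
  constructor
  intro t b sq
  let b₀ : B := b.app (op ⦋n⦌) (stdSimplex.objEquiv.symm (𝟙 _))
  have hb : ∀ (m : SimplexCategoryᵒᵖ) (θ : (Δ[n] : SSet.{u}).obj m), b.app m θ = b₀ := by
    intro m θ
    have := ConcreteCategory.congr_hom (b.naturality (stdSimplex.objEquiv θ).op)
      (stdSimplex.objEquiv.symm (𝟙 _))
    have e : (Δ[n] : SSet.{u}).map (stdSimplex.objEquiv θ).op (stdSimplex.objEquiv.symm (𝟙 _)) =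
        θ := by
      rw [stdSimplex.map_apply]
      simp
    change b.app m ((Δ[n] : SSet.{u}).map (stdSimplex.objEquiv θ).op
      (stdSimplex.objEquiv.symm (𝟙 _))) = b₀ at this
    rw [e] at this
    exact this
  have ht : ∀ (m : SimplexCategoryᵒᵖ) (θ : (∂Δ[n] : SSet.{u}).obj m),
      WidePullback.base (fun _ => (Arrow.mk f).hom) (t.app m θ) = b₀ := by
    intro m θ
    have := ConcreteCategory.congr_hom (congr_app sq.w m) θ
    exact this.trans (hb m θ.1)
  obtain ⟨a, ha, hta⟩ : ∃ a : Fin (n + 1) → A, (∀ j, f (a j) = b₀) ∧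
      ∀ (m : SimplexCategoryᵒᵖ) (θ : (∂Δ[n] : SSet.{u}).obj m) (i : Fin (m.unop.len + 1)),
        WidePullback.π (fun _ => (Arrow.mk f).hom) i (t.app m θ) = a (ev θ.1 i) := by
    cases n with
    | zero =>
      obtain ⟨a₀, ha₀⟩ := hf b₀
      refine ⟨fun _ => a₀, fun _ => ha₀, ?_⟩
      intro m θ i
      exfalso
      apply θ.2
      intro y
      refine ⟨0, ?_⟩
      have h1 := (stdSimplex.asOrderHom θ.1 0).isLt
      have h2 := y.isLt
      exact Fin.ext (by omega)
    | succ n =>
      have hv : ∀ j : Fin (n + 2),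
          stdSimplex.objEquiv.symm (SimplexCategory.const ⦋0⦌ ⦋n + 1⦌ j) ∈
            (∂Δ[n + 1] : (Δ[n + 1] : SSet.{u}).Subcomplex).obj (op ⦋0⦌) := by
        intro j
        rw [boundary_obj_eq_univ 0 (n + 1) (by omega)]
        exact Set.mem_univ _
      let v : Fin (n + 2) → (∂Δ[n + 1] : SSet.{u}).obj (op ⦋0⦌) := fun j => ⟨_, hv j⟩
      have key : ∀ (m : SimplexCategoryᵒᵖ) (θ : (∂Δ[n + 1] : SSet.{u}).obj m)
          (i : Fin (m.unop.len + 1)),
          WidePullback.π (fun _ => (Arrow.mk f).hom) i (t.app m θ) =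
            WidePullback.π (fun _ => (Arrow.mk f).hom) 0 (t.app (op ⦋0⦌) (v (ev θ.1 i))) := by
        intro m θ i
        let g : m ⟶ op ⦋0⦌ := (SimplexCategory.const ⦋0⦌ m.unop i).op
        have h1 := ConcreteCategory.congr_hom (t.naturality g) θ
        have h2 : (∂Δ[n + 1] : SSet.{u}).map g θ = v (ev θ.1 i) := by
          apply Subtype.ext
          rfl
        have h3 := ConcreteCategory.congr_hom (Cf_map_π f g 0) (t.app m θ)
        change (t.app (op ⦋0⦌)) ((∂Δ[n + 1] : SSet.{u}).map g θ) =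
          (Cf f).map g (t.app m θ) at h1
        rw [h2] at h1
        rw [h1]
        exact h3.symm
      refine ⟨fun j => WidePullback.π (fun _ => (Arrow.mk f).hom) 0 (t.app (op ⦋0⦌) (v j)),
        ?_, key⟩
      intro j
      have h4 := ConcreteCategory.congr_hom
        (WidePullback.π_arrow
          (fun _ : Fin ((unop (op ⦋0⦌ : SimplexCategoryᵒᵖ)).len + 1) => (Arrow.mk f).hom) 0)
        (t.app (op ⦋0⦌) (v j))
      exact h4.trans (ht (op ⦋0⦌) (v j))
  refine ⟨⟨{ l := liftOfVertices f n a b₀ ha, fac_left := ?_, fac_right := ?_ }⟩⟩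
  · apply NatTrans.ext
    funext m
    apply WidePullback.hom_ext
    · intro i
      rw [NatTrans.comp_app, Category.assoc, liftOfVertices_app_π]
      ext θ
      exact (hta m θ i).symm
    · rw [NatTrans.comp_app, Category.assoc, liftOfVertices_app_base]
      ext θ
      exact (ht m θ).symm
  · apply NatTrans.ext
    funext m
    rw [NatTrans.comp_app]
    change (liftOfVertices f n a b₀ ha).app m ≫ WidePullback.base _ = _
    rw [liftOfVertices_app_base]
    ext θ
    exact (hb m θ).symm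

end Groth.Agent.Lib.Helper21.CechTKF
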