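import Mathlib

/-!
# Exact linear functors on modules commute with tensoring with finitely presented modules
-/

set_option autoImplicit false
universe u
open CategoryTheory CategoryTheory.Limits TensorProduct

namespace Groth.Agent.Lib.Helper21.ExactTensor

variable {Λ : Type u} [CommRing Λ] (T : ModuleCat.{u} Λ ⥤ ModuleCat.{u} Λ)

section Tm

variable {N N' N'' : Type u} [AddCommGroup N] [Module Λ N] [AddCommGroup N'] [Module Λ N']
  [AddCommGroup N''] [Module Λ N'']

/-- The action of `T` on linear maps. -/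
noncomputable def Tm (f : N →ₗ[Λ] N') :
    T.obj (ModuleCat.of Λ N) →ₗ[Λ] T.obj (ModuleCat.of Λ N') :=
  (T.map (ModuleCat.ofHom f)).hom

lemma Tm_comp (g : N' →ₗ[Λ] N'') (f : N →ₗ[Λ] N') : Tm T (g ∘ₗ f) = Tm T g ∘ₗ Tm T f := by
  unfold Tm
  rw [ModuleCat.ofHom_comp, T.map_comp, ModuleCat.hom_comp]

lemma Tm_id : Tm T (LinearMap.id : N →ₗ[Λ] N) = LinearMap.id := by
  unfold Tm
  rw [ModuleCat.ofHom_id, T.map_id, ModuleCat.hom_id]

lemma Tm_bijective_of_equiv (e : N ≃ₗ[Λ] N') : Function.Bijective (Tm T e.toLinearMap) := by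
  have h1 : Tm T e.symm.toLinearMap ∘ₗ Tm T e.toLinearMap = LinearMap.id := by
    rw [← Tm_comp, LinearEquiv.symm_comp, Tm_id]
  have h2 : Tm T e.toLinearMap ∘ₗ Tm T e.symm.toLinearMap = LinearMap.id := by
    rw [← Tm_comp, LinearEquiv.comp_symm, Tm_id]
  refine ⟨fun x y h => ?_, fun y => ⟨Tm T e.symm.toLinearMap y, ?_⟩⟩
  · have := congrArg (Tm T e.symm.toLinearMap) h
    rwa [← LinearMap.comp_apply, ← LinearMap.comp_apply, h1] at this
  · rw [← LinearMap.comp_apply, h2]
    rfl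

variable [T.Additive]

lemma Tm_add (f g : N →ₗ[Λ] N') : Tm T (f + g) = Tm T f + Tm T g := by
  unfold Tm
  rw [ModuleCat.ofHom_add, T.map_add, ModuleCat.hom_add]

lemma Tm_zero : Tm T (0 : N →ₗ[Λ] N') = 0 := by
  unfold Tm
  rw [ModuleCat.ofHom_zero, T.map_zero, ModuleCat.hom_zero]

lemma Tm_sum {α : Type*} (s : Finset α) (f : α → (N →ₗ[Λ] N')) :
    Tm T (∑ a ∈ s, f a) = ∑ a ∈ s, Tm T (f a) := by
  classical
  induction s using Finset.induction_on with
  | empty => simp [Tm_zero]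
  | insert a s ha ih => rw [Finset.sum_insert ha, Finset.sum_insert ha, Tm_add, ih]

lemma Tm_smul (hlin : ∀ {X Y : ModuleCat.{u} Λ} (r : Λ) (f : X ⟶ Y), T.map (r • f) = r • T.map f)
    (r : Λ) (f : N →ₗ[Λ] N') : Tm T (r • f) = r • Tm T f := by
  unfold Tm
  have h1 : ModuleCat.ofHom (r • f) = r • ModuleCat.ofHom f := rfl
  rw [h1, hlin, ModuleCat.hom_smul]

lemma Tm_surjective [PreservesFiniteColimits T] (f : N →ₗ[Λ] N') (hf : Function.Surjective f) :
    Function.Surjective (Tm T f) := by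
  haveI : Epi (ModuleCat.ofHom f) := (ModuleCat.epi_iff_surjective _).2 hf
  haveI : Epi (T.map (ModuleCat.ofHom f)) := inferInstance
  exact (ModuleCat.epi_iff_surjective _).1 this

lemma Tm_injective [PreservesFiniteLimits T] (f : N →ₗ[Λ] N') (hf : Function.Injective f) :
    Function.Injective (Tm T f) := by
  haveI : Mono (ModuleCat.ofHom f) := (ModuleCat.mono_iff_injective _).2 hf
  haveI : Mono (T.map (ModuleCat.ofHom f)) := inferInstance
  exact (ModuleCat.mono_iff_injective _).1 this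

lemma Tm_exact [PreservesFiniteLimits T] [PreservesFiniteColimits T]
    (f : N →ₗ[Λ] N') (g : N' →ₗ[Λ] N'') (h : Function.Exact f g) :
    Function.Exact (Tm T f) (Tm T g) := by
  have hzero : ModuleCat.ofHom f ≫ ModuleCat.ofHom g = 0 := by
    ext x
    exact h.apply_apply_eq_zero x
  let S : ShortComplex (ModuleCat.{u} Λ) := ShortComplex.mk _ _ hzero
  have hS : S.Exact := (ShortComplex.ShortExact.moduleCat_exact_iff_function_exact S).2 h
  have hS' : (S.map T).Exact := hS.map T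
  exact (ShortComplex.ShortExact.moduleCat_exact_iff_function_exact (S.map T)).1 hS'

end Tm

section theta

variable [T.Additive]
  (hlin : ∀ {X Y : ModuleCat.{u} Λ} (r : Λ) (f : X ⟶ Y), T.map (r • f) = r • T.map f)
  (M : Type u) [AddCommGroup M] [Module Λ M]

/-- `q ↦ T(m ↦ m ⊗ q)`. -/
noncomputable def Φ (Q : Type u) [AddCommGroup Q] [Module Λ Q] :
    Q →ₗ[Λ] (T.obj (ModuleCat.of Λ M) →ₗ[Λ] T.obj (ModuleCat.of Λ (M ⊗[Λ] Q))) where
  toFun q := Tm T ((TensorProduct.mk Λ M Q).flip q)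
  map_add' q q' := by rw [map_add, Tm_add]
  map_smul' r q := by
    rw [map_smul, Tm_smul T hlin]
    rfl

/-- The comparison map `T(M) ⊗ Q → T(M ⊗ Q)`. -/
noncomputable def θ (Q : Type u) [AddCommGroup Q] [Module Λ Q] :
    (T.obj (ModuleCat.of Λ M)) ⊗[Λ] Q →ₗ[Λ] T.obj (ModuleCat.of Λ (M ⊗[Λ] Q)) :=
  TensorProduct.lift (Φ T hlin M Q).flip

lemma θ_tmul (Q : Type u) [AddCommGroup Q] [Module Λ Q] (s : T.obj (ModuleCat.of Λ M)) (q : Q) :
    θ T hlin M Q (s ⊗ₜ q) = Tm T ((TensorProduct.mk Λ M Q).flip q) s := by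
  unfold θ
  rw [TensorProduct.lift.tmul]
  rfl

variable {Q Q' : Type u} [AddCommGroup Q] [Module Λ Q] [AddCommGroup Q'] [Module Λ Q']

lemma θ_natural (g : Q →ₗ[Λ] Q') :
    Tm T (LinearMap.lTensor M g) ∘ₗ θ T hlin M Q =
      θ T hlin M Q' ∘ₗ LinearMap.lTensor (T.obj (ModuleCat.of Λ M)) g := by
  apply TensorProduct.ext'
  intro s q
  rw [LinearMap.comp_apply, LinearMap.comp_apply, θ_tmul, LinearMap.lTensor_tmul, θ_tmul,
    ← LinearMap.comp_apply, ← Tm_comp]
  congr 2

lemma θ_natural_apply (g : Q →ₗ[Λ] Q') (x : (T.obj (ModuleCat.of Λ M)) ⊗[Λ] Q) :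
    θ T hlin M Q' (LinearMap.lTensor (T.obj (ModuleCat.of Λ M)) g x) =
      Tm T (LinearMap.lTensor M g) (θ T hlin M Q x) :=
  (LinearMap.congr_fun (θ_natural T hlin M g) x).symm

lemma θ_self_bijective : Function.Bijective (θ T hlin M Λ) := by
  have h : θ T hlin M Λ = Tm T (TensorProduct.rid Λ M).symm.toLinearMap ∘ₗ
      (TensorProduct.rid Λ (T.obj (ModuleCat.of Λ M))).toLinearMap := by
    apply TensorProduct.ext'
    intro s r
    rw [θ_tmul, LinearMap.comp_apply, LinearEquiv.coe_coe, TensorProduct.rid_tmul, map_smul]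
    have h1 : (TensorProduct.mk Λ M Λ).flip r = r • (TensorProduct.rid Λ M).symm.toLinearMap := by
      ext m
      change m ⊗ₜ[Λ] r = r • (m ⊗ₜ[Λ] (1 : Λ))
      rw [← TensorProduct.tmul_smul, smul_eq_mul, mul_one]
    rw [h1, Tm_smul T hlin]
    rfl
  rw [h]
  exact (Tm_bijective_of_equiv T _).comp (LinearEquiv.bijective _)

lemma θ_pi_bijective (k : ℕ) : Function.Bijective (θ T hlin M (Fin k → Λ)) := by
  classical
  let p : ∀ a : Fin k, (Fin k → Λ) →ₗ[Λ] Λ := fun a => LinearMap.proj a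
  let i : ∀ a : Fin k, Λ →ₗ[Λ] (Fin k → Λ) := fun a => LinearMap.single Λ (fun _ => Λ) a
  have hsum : ∑ a, (i a) ∘ₗ (p a) = LinearMap.id := by
    ext x b
    simp [p, i, LinearMap.sum_apply, Finset.sum_apply, Pi.single_apply]
  let θΛ := LinearEquiv.ofBijective (θ T hlin M Λ) (θ_self_bijective T hlin M)
  have hθΛ : ∀ x, θΛ x = θ T hlin M Λ x := fun _ => rfl
  let TM := T.obj (ModuleCat.of Λ M)
  let inv : T.obj (ModuleCat.of Λ (M ⊗[Λ] (Fin k → Λ))) → TM ⊗[Λ] (Fin k → Λ) := fun y =>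
    ∑ a, LinearMap.lTensor TM (i a) (θΛ.symm (Tm T (LinearMap.lTensor M (p a)) y))
  rw [Function.bijective_iff_has_inverse]
  refine ⟨inv, ?_, ?_⟩
  · intro x
    change ∑ a, LinearMap.lTensor TM (i a) (θΛ.symm (Tm T (LinearMap.lTensor M (p a))
      (θ T hlin M (Fin k → Λ) x))) = x
    have h1 : ∀ a, LinearMap.lTensor TM (i a) (θΛ.symm (Tm T (LinearMap.lTensor M (p a))
        (θ T hlin M (Fin k → Λ) x))) = LinearMap.lTensor TM ((i a) ∘ₗ (p a)) x := by
      intro a
      rw [← θ_natural_apply, ← hθΛ, LinearEquiv.symm_apply_apply, LinearMap.lTensor_comp]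
      rfl
    simp_rw [h1]
    rw [← LinearMap.sum_apply, ← LinearMap.coe_lTensorHom, ← map_sum, hsum,
      LinearMap.coe_lTensorHom, LinearMap.lTensor_id]
    rfl
  · intro y
    change θ T hlin M (Fin k → Λ) (∑ a, LinearMap.lTensor TM (i a)
      (θΛ.symm (Tm T (LinearMap.lTensor M (p a)) y))) = y
    rw [map_sum]
    have h1 : ∀ a, θ T hlin M (Fin k → Λ) (LinearMap.lTensor TM (i a)
        (θΛ.symm (Tm T (LinearMap.lTensor M (p a)) y))) =
        Tm T (LinearMap.lTensor M ((i a) ∘ₗ (p a))) y := by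
      intro a
      rw [θ_natural_apply, ← hθΛ, LinearEquiv.apply_symm_apply, LinearMap.lTensor_comp, Tm_comp]
      rfl
    simp_rw [h1]
    rw [← LinearMap.sum_apply, ← Tm_sum]
    have h2 : ∑ a, LinearMap.lTensor M ((i a) ∘ₗ (p a)) = LinearMap.id := by
      rw [← LinearMap.coe_lTensorHom, ← map_sum, hsum, LinearMap.coe_lTensorHom,
        LinearMap.lTensor_id]
    rw [h2, Tm_id]
    rfl

theorem θ_bijective [PreservesFiniteLimits T] [PreservesFiniteColimits T]
    (Q : Type u) [AddCommGroup Q] [Module Λ Q] [Module.FinitePresentation Λ Q] :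
    Function.Bijective (θ T hlin M Q) := by
  obtain ⟨n, m, p, g, hp, hex⟩ := Module.FinitePresentation.exists_fin' Λ Q
  let TM := T.obj (ModuleCat.of Λ M)
  have hn := θ_pi_bijective T hlin M n
  have hm := θ_pi_bijective T hlin M m
  have hA : Function.Exact (LinearMap.lTensor TM g) (LinearMap.lTensor TM p) :=
    lTensor_exact TM hex hp
  have hAs : Function.Surjective (LinearMap.lTensor TM p) := LinearMap.lTensor_surjective TM hp
  have hB0 : Function.Exact (LinearMap.lTensor M g) (LinearMap.lTensor M p) :=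
    lTensor_exact M hex hp
  have hB : Function.Exact (Tm T (LinearMap.lTensor M g)) (Tm T (LinearMap.lTensor M p)) :=
    Tm_exact T _ _ hB0
  have hBs : Function.Surjective (Tm T (LinearMap.lTensor M p)) :=
    Tm_surjective T _ (LinearMap.lTensor_surjective M hp)
  constructor
  · rw [injective_iff_map_eq_zero]
    intro x hx
    obtain ⟨y, rfl⟩ := hAs x
    have h1 : Tm T (LinearMap.lTensor M p) (θ T hlin M (Fin n → Λ) y) = 0 := by
      rw [← θ_natural_apply]
      exact hx
    obtain ⟨z, hz⟩ := (hB _).1 h1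
    obtain ⟨w, rfl⟩ := hm.2 z
    have h2 : θ T hlin M (Fin n → Λ) (LinearMap.lTensor TM g w) = θ T hlin M (Fin n → Λ) y := by
      rw [θ_natural_apply]
      exact hz
    have h3 := hn.1 h2
    rw [← h3]
    exact hA.apply_apply_eq_zero w
  · intro y
    obtain ⟨y', rfl⟩ := hBs y
    obtain ⟨x', rfl⟩ := hn.2 y'
    exact ⟨LinearMap.lTensor TM p x', θ_natural_apply T hlin M p x'⟩

include hlin in
/-- An exact linear functor sends flat modules to flat modules over a coherent ring. -/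
theorem flat_obj [PreservesFiniteLimits T] [PreservesFiniteColimits T]
    (hΛ : ∀ I : Ideal Λ, I.FG → Module.FinitePresentation Λ I) [Module.Flat Λ M] :
    Module.Flat Λ (T.obj (ModuleCat.of Λ M)) := by
  rw [Module.Flat.iff_lTensor_injective]
  intro I hI
  haveI := hΛ I hI
  have hI' := θ_bijective T hlin M I
  have hΛ' := θ_self_bijective T hlin M
  have hinj : Function.Injective (Tm T (LinearMap.lTensor M I.subtype)) :=
    Tm_injective T _ (Module.Flat.lTensor_preserves_injective_linearMap _ Subtype.val_injective)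
  intro x y hxy
  apply hI'.1
  apply hinj
  rw [← θ_natural_apply, ← θ_natural_apply, hxy]

end theta

end Groth.Agent.Lib.Helper21.ExactTensor
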