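import Mathlib
import Groth.Agent.S19540

/-!
# Sites with a basis of weakly contractible objects: epimorphisms and products
-/

set_option autoImplicit false
open CategoryTheory CategoryTheory.Limits Opposite
universe w v u

namespace Groth.Agent.Lib.Helper21.WCBasis

variable {C : Type u} [Category.{v} C] (J : GrothendieckTopology C)
  [HasSheafify J AddCommGrpCat.{w}] [J.WEqualsLocallyBijective AddCommGrpCat.{w}]

/-- sections over `U` -/
abbrev Γ (U : C) : Sheaf J AddCommGrpCat.{w} ⥤ AddCommGrpCat.{w} :=
  sheafToPresheaf J AddCommGrpCat.{w} ⋙ (evaluation Cᵒᵖ AddCommGrpCat.{w}).obj (op U)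

variable (B : C → Prop)
  (hB : ∀ U : C, B U → ∀ (P Q : Sheaf J (Type w)) (ψ : P ⟶ Q), Epi ψ →
    Function.Surjective (ψ.hom.app (op U)))
  (hcov : ∀ V : C, ∃ S : Sieve V, S ∈ J V ∧ ∀ ⦃W : C⦄ (f : W ⟶ V), S.arrows f →
    ∃ (U : C) (g : W ⟶ U) (h : U ⟶ V), B U ∧ g ≫ h = f)

include hB hcov in
/-- A morphism of abelian sheaves is an epimorphism iff it is surjective on sections over the
weakly contractible basis. -/
theorem epi_iff_sections {F G : Sheaf J AddCommGrpCat.{w}} (ψ : F ⟶ G) :
    Epi ψ ↔ ∀ U, B U → Epi ((Γ J U).map ψ) := by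
  let S : ShortComplex (Sheaf J AddCommGrpCat.{w}) :=
    ShortComplex.mk ψ (0 : G ⟶ G) comp_zero
  have h := Groth.Agent.S19540.result J B hB hcov S
  rw [S.exact_iff_epi rfl] at h
  rw [h]
  refine forall_congr' (fun U => forall_congr' (fun _ => ?_))
  exact (S.map (Γ J U)).exact_iff_epi ((Γ J U).map_zero _ _)

/-- A left exact functor between abelian categories which preserves epimorphisms is exact. -/
lemma preservesFiniteColimits_of_preservesEpi {A A' : Type*} [Category A] [Category A']
    [Abelian A] [Abelian A'] (F : A ⥤ A') [PreservesFiniteLimits F]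
    (h : ∀ {X Y : A} (f : X ⟶ Y), Epi f → Epi (F.map f)) : PreservesFiniteColimits F := by
  have : F.Additive := Functor.additive_of_preserves_binary_products _
  rw [Functor.preservesFiniteColimits_iff_forall_exact_map_and_epi]
  intro S hS
  have := hS.epi_g
  exact ⟨((Functor.preservesFiniteLimits_iff_forall_exact_map_and_mono F).1 inferInstance S hS).1,
    h S.g inferInstance⟩

include hB hcov in
/-- Products of abelian sheaves are exact on a site with a weakly contractible basis. -/
theorem hasExactLimitsOfShape_discrete (α : Type w)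
    [HasLimitsOfShape (Discrete α) (Sheaf J AddCommGrpCat.{w})] :
    HasExactLimitsOfShape (Discrete α) (Sheaf J AddCommGrpCat.{w}) := by
  constructor
  apply preservesFiniteColimits_of_preservesEpi
  intro F G φ hφ
  rw [epi_iff_sections J B hB hcov]
  intro U hU
  have hφ' : ∀ j, Epi (φ.app j) := fun j => inferInstance
  have hθ : Epi (Functor.whiskerRight φ (Γ J U)) := by
    haveI : ∀ j, Epi ((Functor.whiskerRight φ (Γ J U)).app j) := fun j =>
      ((epi_iff_sections J B hB hcov (φ.app j)).1 (hφ' j)) U hU
    exact NatTrans.epi_of_epi_app _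
  haveI : PreservesFiniteColimits (lim : (Discrete α ⥤ AddCommGrpCat.{w}) ⥤ AddCommGrpCat.{w}) :=
    HasExactLimitsOfShape.preservesFiniteColimits
  have h1 : Epi (limMap (Functor.whiskerRight φ (Γ J U))) :=
    preserves_epi_of_preservesColimit
      (lim : (Discrete α ⥤ AddCommGrpCat.{w}) ⥤ AddCommGrpCat.{w}) _
  have e1 : (Γ J U).map (limMap φ) ≫ (preservesLimitIso (Γ J U) G).hom =
      (preservesLimitIso (Γ J U) F).hom ≫ limMap (Functor.whiskerRight φ (Γ J U)) := by
    apply limit.hom_ext
    intro j
    simp only [Category.assoc, preservesLimitIso_hom_π, limMap_π, preservesLimitIso_hom_π_assoc,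
      Functor.whiskerRight_app, ← Functor.map_comp]
  have h2 : Epi ((Γ J U).map (limMap φ) ≫ (preservesLimitIso (Γ J U) G).hom) := by
    rw [e1]
    infer_instance
  have h3 : (Γ J U).map (limMap φ) =
      ((Γ J U).map (limMap φ) ≫ (preservesLimitIso (Γ J U) G).hom) ≫
        (preservesLimitIso (Γ J U) G).inv := by
    rw [Category.assoc, Iso.hom_inv_id, Category.comp_id]
  change Epi ((Γ J U).map (limMap φ))
  rw [h3]
  infer_instance

end Groth.Agent.Lib.Helper21.WCBasis
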