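import Mathlib
import Groth.Agent.Lib.Helper21.WCBasis
import Groth.Agent.Lib.Helper21.ExactTensor

/-!
# Sections of constant sheaves of modules: an exact linear functor
-/

set_option autoImplicit false
universe u
open CategoryTheory CategoryTheory.Limits Opposite

namespace Groth.Agent.Lib.Helper21.ConstMod

variable {C : Type u} [SmallCategory C] (J : GrothendieckTopology C) (Λ : Type u) [CommRing Λ]

/-- A surjective linear map induces a morphism of constant sheaves whose underlying morphism of
sheaves of sets has a section. -/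
theorem exists_section {B C' : ModuleCat.{u} Λ} (f : B ⟶ C')
    (hf : Function.Surjective f.hom) :
    ∃ ψ : (sheafCompose J (forget (ModuleCat.{u} Λ))).obj
            ((constantSheaf J (ModuleCat.{u} Λ)).obj C') ⟶
          (sheafCompose J (forget (ModuleCat.{u} Λ))).obj
            ((constantSheaf J (ModuleCat.{u} Λ)).obj B),
      ψ ≫ (sheafCompose J (forget (ModuleCat.{u} Λ))).map
        ((constantSheaf J (ModuleCat.{u} Λ)).map f) = 𝟙 _ := by
  let e := constantCommuteCompose J (forget (ModuleCat.{u} Λ))
  obtain ⟨σ, hσ⟩ := hf.hasRightInverse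
  let σ' : (forget (ModuleCat.{u} Λ)).obj C' ⟶ (forget (ModuleCat.{u} Λ)).obj B := TypeCat.ofHom σ
  have hσ' : σ' ≫ (forget (ModuleCat.{u} Λ)).map f = 𝟙 _ := by
    ext x
    exact hσ x
  refine ⟨e.hom.app C' ≫ (constantSheaf J (Type u)).map σ' ≫ e.inv.app B, ?_⟩
  have nat := e.inv.naturality f
  simp only [Functor.comp_map] at nat
  rw [Category.assoc, Category.assoc, ← nat, ← CategoryTheory.Functor.map_comp_assoc, hσ',
    CategoryTheory.Functor.map_id, Category.id_comp, Iso.hom_inv_id_app]
  rfl

/-- Sections of constant sheaves of modules preserve surjections. -/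
theorem surjective_app {B C' : ModuleCat.{u} Λ} (f : B ⟶ C')
    (hf : Function.Surjective f.hom) (U : C) :
    Function.Surjective (((constantSheaf J (ModuleCat.{u} Λ)).map f).hom.app (op U)).hom := by
  obtain ⟨ψ, hψ⟩ := exists_section J Λ f hf
  intro s
  refine ⟨ψ.hom.app (op U) s, ?_⟩
  have h := congr_arg (fun k => k.hom.app (op U)) hψ
  exact ConcreteCategory.congr_hom h s

/-- Sections over `U` of the constant sheaf of modules. -/
noncomputable abbrev T (U : C) : ModuleCat.{u} Λ ⥤ ModuleCat.{u} Λ :=
  constantSheaf J (ModuleCat.{u} Λ) ⋙ (sheafSections J (ModuleCat.{u} Λ)).obj (op U)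

noncomputable instance (U : C) : PreservesFiniteLimits (T J Λ U) := by
  haveI : PreservesFiniteLimits (constantSheaf J (ModuleCat.{u} Λ)) := by
    unfold constantSheaf
    infer_instance
  haveI : PreservesFiniteLimits ((sheafSections J (ModuleCat.{u} Λ)).obj (op U)) :=
    preservesFiniteLimits_of_natIso
      (sheafSectionsNatIsoEvaluation (J := J) (A := ModuleCat.{u} Λ) (X := U)).symm
  infer_instance

instance (U : C) : (T J Λ U).Additive := Functor.additive_of_preserves_binary_products _

noncomputable instance (U : C) : PreservesFiniteColimits (T J Λ U) := by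
  apply Groth.Agent.Lib.Helper21.WCBasis.preservesFiniteColimits_of_preservesEpi
  intro X Y f hf
  rw [ModuleCat.epi_iff_surjective] at hf ⊢
  exact surjective_app J Λ f hf U

/-- A left adjoint of a linear functor is linear. -/
lemma left_adjoint_map_smul {A B : Type*} [Category A] [Category B] [Preadditive A]
    [Preadditive B] [Linear Λ A] [Linear Λ B] {L : A ⥤ B} {R : B ⥤ A} (adj : L ⊣ R)
    [R.Additive] [R.Linear Λ] {X Y : A} (r : Λ) (f : X ⟶ Y) :
    L.map (r • f) = r • L.map f := by
  apply (adj.homEquiv X (L.obj Y)).injective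
  rw [adj.homEquiv_unit, adj.homEquiv_unit, adj.unit_naturality, Functor.map_smul,
    Linear.comp_smul, adj.unit_naturality, Linear.smul_comp]

lemma T_map_smul (U : C) {X Y : ModuleCat.{u} Λ} (r : Λ) (f : X ⟶ Y) :
    (T J Λ U).map (r • f) = r • (T J Λ U).map f := by
  have h1 : (Functor.const Cᵒᵖ).map (r • f) = r • (Functor.const Cᵒᵖ).map f := by
    ext V
    rfl
  have h2 : (constantSheaf J (ModuleCat.{u} Λ)).map (r • f) =
      r • (constantSheaf J (ModuleCat.{u} Λ)).map f := by
    change (presheafToSheaf J (ModuleCat.{u} Λ)).map ((Functor.const Cᵒᵖ).map (r • f)) =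
      r • (presheafToSheaf J (ModuleCat.{u} Λ)).map ((Functor.const Cᵒᵖ).map f)
    rw [h1]
    exact left_adjoint_map_smul Λ (sheafificationAdjunction J (ModuleCat.{u} Λ)) r _
  change ((constantSheaf J (ModuleCat.{u} Λ)).map (r • f)).hom.app (op U) =
    r • ((constantSheaf J (ModuleCat.{u} Λ)).map f).hom.app (op U)
  rw [h2]
  rfl

end Groth.Agent.Lib.Helper21.ConstMod
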