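import Mathlib

/-!
# Constant sheaves: a surjection of groups induces a map of constant sheaves which is split
as a map of sheaves of sets
-/

set_option autoImplicit false
universe u
open CategoryTheory CategoryTheory.Limits Opposite

namespace Groth.Agent.Lib.Helper21.ConstSheafSplit

variable {C : Type u} [SmallCategory C] (J : GrothendieckTopology C)

/-- A surjective homomorphism of abelian groups induces a morphism of constant sheaves whose
underlying morphism of sheaves of sets has a section. -/
theorem exists_section {B C' : AddCommGrpCat.{u}} (f : B ⟶ C')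
    (hf : Function.Surjective f.hom) :
    ∃ ψ : (sheafCompose J (forget AddCommGrpCat.{u})).obj
            ((constantSheaf J AddCommGrpCat.{u}).obj C') ⟶
          (sheafCompose J (forget AddCommGrpCat.{u})).obj
            ((constantSheaf J AddCommGrpCat.{u}).obj B),
      ψ ≫ (sheafCompose J (forget AddCommGrpCat.{u})).map
        ((constantSheaf J AddCommGrpCat.{u}).map f) = 𝟙 _ := by
  let e := constantCommuteCompose J (forget AddCommGrpCat.{u})
  obtain ⟨σ, hσ⟩ := hf.hasRightInverse
  let σ' : (forget AddCommGrpCat.{u}).obj C' ⟶ (forget AddCommGrpCat.{u}).obj B := TypeCat.ofHom σ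
  have hσ' : σ' ≫ (forget AddCommGrpCat.{u}).map f = 𝟙 _ := by
    ext x
    exact hσ x
  refine ⟨e.hom.app C' ≫ (constantSheaf J (Type u)).map σ' ≫ e.inv.app B, ?_⟩
  have nat := e.inv.naturality f
  simp only [Functor.comp_map] at nat
  rw [Category.assoc, Category.assoc, ← nat, ← CategoryTheory.Functor.map_comp_assoc, hσ', CategoryTheory.Functor.map_id,
    Category.id_comp, Iso.hom_inv_id_app]
  rfl

/-- Sections of constant sheaves preserve surjections. -/
theorem surjective_app {B C' : AddCommGrpCat.{u}} (f : B ⟶ C')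
    (hf : Function.Surjective f.hom) (U : C) :
    Function.Surjective (((constantSheaf J AddCommGrpCat.{u}).map f).hom.app (op U)).hom := by
  obtain ⟨ψ, hψ⟩ := exists_section J f hf
  intro s
  refine ⟨ψ.hom.app (op U) s, ?_⟩
  have h := congr_arg (fun k => k.hom.app (op U)) hψ
  exact ConcreteCategory.congr_hom h s

/-- The constant presheaf on `ℤ`. -/
abbrev Zp : Cᵒᵖ ⥤ AddCommGrpCat.{u} :=
  (Functor.const Cᵒᵖ).obj (AddCommGrpCat.of (ULift.{u} ℤ))

/-- The constant sheaf on `ℤ`. -/
noncomputable abbrev Zs : Sheaf J AddCommGrpCat.{u} :=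
  (constantSheaf J AddCommGrpCat.{u}).obj (AddCommGrpCat.of (ULift.{u} ℤ))

theorem exists_lift' {B C' : AddCommGrpCat.{u}} (f : B ⟶ C')
    (hf : Function.Surjective f.hom)
    (s : (presheafToSheaf J AddCommGrpCat.{u}).obj (Zp (C := C)) ⟶
      (constantSheaf J AddCommGrpCat.{u}).obj C') :
    ∃ t : (presheafToSheaf J AddCommGrpCat.{u}).obj (Zp (C := C)) ⟶
        (constantSheaf J AddCommGrpCat.{u}).obj B,
      t ≫ (constantSheaf J AddCommGrpCat.{u}).map f = s := by
  obtain ⟨ψ, hψ⟩ := exists_section J f hf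
  let adj := sheafificationAdjunction J AddCommGrpCat.{u}
  let Bs := (constantSheaf J AddCommGrpCat.{u}).obj B
  let Cs := (constantSheaf J AddCommGrpCat.{u}).obj C'
  let fs : Bs ⟶ Cs := (constantSheaf J AddCommGrpCat.{u}).map f
  let P : Cᵒᵖ ⥤ AddCommGrpCat.{u} := Zp
  let s' : P ⟶ Cs.obj := adj.homEquiv P Cs s
  let ψU : ∀ U : Cᵒᵖ, Cs.obj.obj U → Bs.obj.obj U := fun U z => ψ.hom.app U z
  have hψU : ∀ (U : Cᵒᵖ) (z : Cs.obj.obj U), (fs.hom.app U).hom (ψU U z) = z := by
    intro U z
    have h := congr_arg (fun k => k.hom.app U) hψ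
    exact ConcreteCategory.congr_hom h z
  have hψnat : ∀ {U V : Cᵒᵖ} (h : U ⟶ V) (z : Cs.obj.obj U),
      (Bs.obj.map h).hom (ψU U z) = ψU V ((Cs.obj.map h).hom z) := by
    intro U V h z
    exact (NatTrans.naturality_apply ψ.hom h z).symm
  let one : ULift.{u} ℤ := ⟨1⟩
  let t' : P ⟶ Bs.obj :=
    { app := fun U => AddCommGrpCat.ofHom
        ((zmultiplesHom _ (ψU U ((s'.app U).hom one))).comp
          AddEquiv.ulift.toAddMonoidHom)
      naturality := by
        intro U V h
        ext n
        change n.down • ψU V ((s'.app V).hom one) =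
          (Bs.obj.map h).hom (n.down • ψU U ((s'.app U).hom one))
        rw [map_zsmul, hψnat]
        congr 2
        exact NatTrans.naturality_apply s' h one }
  refine ⟨(adj.homEquiv P Bs).symm t', ?_⟩
  apply (adj.homEquiv P Cs).injective
  rw [adj.homEquiv_naturality_right, Equiv.apply_symm_apply]
  ext U n
  change (fs.hom.app U).hom (n.down • ψU U ((s'.app U).hom one)) = (s'.app U).hom n
  rw [map_zsmul, hψU, ← map_zsmul]
  congr 1
  refine ULift.ext _ _ ?_
  change n.down • (1 : ℤ) = n.down
  rw [smul_eq_mul, mul_one]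

/-- Global sections (morphisms from the constant sheaf `ℤ`) of constant sheaves lift along
surjections of groups. -/
theorem exists_lift {B C' : AddCommGrpCat.{u}} (f : B ⟶ C')
    (hf : Function.Surjective f.hom) (s : Zs J ⟶ (constantSheaf J AddCommGrpCat.{u}).obj C') :
    ∃ t : Zs J ⟶ (constantSheaf J AddCommGrpCat.{u}).obj B,
      t ≫ (constantSheaf J AddCommGrpCat.{u}).map f = s :=
  exists_lift' J f hf s

end Groth.Agent.Lib.Helper21.ConstSheafSplit
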