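import Mathlib

namespace Groth.Agent.Lib.Helper21.CosepInj

open CategoryTheory CategoryTheory.Limits

universe v₁ u₁

section
variable {E : Type u₁} [Category.{v₁} E] {ι : Type v₁} (G : ι → E)
  [∀ t, HasBinaryCoproduct (G t) (G t)]

/-- the relation type: pairs of maps from generators into `G t ⨿ G t` -/
abbrev Rel (t : ι) : Type v₁ := Set (Σ t' : ι, (G t' ⟶ G t ⨿ G t) × (G t' ⟶ G t ⨿ G t))

/-- the pairs identified by a map out of `G t ⨿ G t` -/
def relOf {t : ι} {Y : E} (e : G t ⨿ G t ⟶ Y) : Rel G t := {x | x.2.1 ≫ e = x.2.2 ≫ e}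

/-- the index type of the coseparating family -/
abbrev Idx : Type v₁ := Σ t : ι, Rel G t

/-- existence of an effective quotient with prescribed relation -/
def Good (k : Idx G) : Prop :=
  ∃ (Y : E) (e : G k.1 ⨿ G k.1 ⟶ Y), EffectiveEpi e ∧ relOf G e = k.2

variable [EnoughInjectives E]

open Classical in
/-- the family of injectives -/
noncomputable def H (k : Idx G) : E :=
  if h : Good G k then Injective.under h.choose else Injective.under (G k.1)

instance (k : Idx G) : Injective (H G k) := by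
  unfold H
  split_ifs <;> infer_instance

theorem main (hG : (ObjectProperty.ofObj G).IsSeparating)
    (hfac : ∀ (t : ι) (X : E) (f : G t ⨿ G t ⟶ X),
      ∃ (Y : E) (e : G t ⨿ G t ⟶ Y) (m : Y ⟶ X), EffectiveEpi e ∧ Mono m ∧ e ≫ m = f) :
    ∀ (T X : E), (ObjectProperty.ofObj G) T → ∀ (u v : T ⟶ X), u ≠ v →
      ∃ (I : E) (_ : (ObjectProperty.ofObj (H G)) I) (w : X ⟶ I), u ≫ w ≠ v ≫ w := by
  rintro _ X ⟨t⟩ u v huv
  obtain ⟨Y, e, m, he, hm, hem⟩ := hfac t X (coprod.desc u v)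
  let k : Idx G := ⟨t, relOf G e⟩
  have hgood : Good G k := ⟨Y, e, he, rfl⟩
  have hH : H G k = Injective.under hgood.choose := by
    unfold H; rw [dif_pos hgood]
  let Y' : E := hgood.choose
  obtain ⟨e', he', hrel⟩ : ∃ (e' : G t ⨿ G t ⟶ Y'), EffectiveEpi e' ∧ relOf G e' = relOf G e :=
    hgood.choose_spec
  haveI := he
  haveI := he'
  haveI := hm
  have hdesc : ∀ {Z : E} (g₁ g₂ : Z ⟶ G t ⨿ G t), g₁ ≫ e = g₂ ≫ e → g₁ ≫ e' = g₂ ≫ e' := by
    intro Z g₁ g₂ hg
    apply hG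
    rintro _ ⟨t'⟩ c
    have hmem : (⟨t', (c ≫ g₁, c ≫ g₂)⟩ : Σ t' : ι, (G t' ⟶ G t ⨿ G t) × (G t' ⟶ G t ⨿ G t)) ∈
        relOf G e := by
      show (c ≫ g₁) ≫ e = (c ≫ g₂) ≫ e
      rw [Category.assoc, Category.assoc, hg]
    have hrel' : relOf G e' = relOf G e := hrel
    rw [← hrel'] at hmem
    have : (c ≫ g₁) ≫ e' = (c ≫ g₂) ≫ e' := hmem
    simpa only [Category.assoc] using this
  let d : Y ⟶ Y' := EffectiveEpi.desc e e' hdesc
  have hd : e ≫ d = e' := EffectiveEpi.fac e e' hdesc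
  let w₀ : X ⟶ Injective.under Y' := Injective.factorThru (d ≫ Injective.ι Y') m
  have hw₀ : m ≫ w₀ = d ≫ Injective.ι Y' := Injective.comp_factorThru _ _
  refine ⟨H G k, ⟨k⟩, w₀ ≫ eqToHom hH.symm, ?_⟩
  intro hcon
  have hcon' : u ≫ w₀ = v ≫ w₀ := by
    have := congrArg (fun x => x ≫ eqToHom hH) hcon
    simpa only [Category.assoc, eqToHom_trans, eqToHom_refl, Category.comp_id] using this
  have hu : u = coprod.inl ≫ e ≫ m := by rw [hem, coprod.inl_desc]
  have hv : v = coprod.inr ≫ e ≫ m := by rw [hem, coprod.inr_desc]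
  have h1 : (coprod.inl ≫ e') ≫ Injective.ι Y' = (coprod.inr ≫ e') ≫ Injective.ι Y' := by
    rw [← hd]
    have : u ≫ w₀ = coprod.inl ≫ e ≫ d ≫ Injective.ι Y' := by
      rw [hu, Category.assoc, Category.assoc, hw₀]
    have h' : v ≫ w₀ = coprod.inr ≫ e ≫ d ≫ Injective.ι Y' := by
      rw [hv, Category.assoc, Category.assoc, hw₀]
    rw [this, h'] at hcon'
    simpa only [Category.assoc] using hcon'
  have h2 : coprod.inl ≫ e' = coprod.inr ≫ e' := (cancel_mono (Injective.ι Y')).1 h1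
  have hmem : (⟨t, (coprod.inl, coprod.inr)⟩ :
      Σ t' : ι, (G t' ⟶ G t ⨿ G t) × (G t' ⟶ G t ⨿ G t)) ∈ relOf G e' := h2
  have hrel' : relOf G e' = relOf G e := hrel
  rw [hrel'] at hmem
  have h3 : coprod.inl ≫ e = coprod.inr ≫ e := hmem
  apply huv
  rw [hu, hv, ← Category.assoc, h3, Category.assoc]

end

end Groth.Agent.Lib.Helper21.CosepInj
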