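import Mathlib
import Groth.Agent.Lib.Helper1.TruncKan

/-!
# Maps of `n`-coskeletal simplicial sets which are bijective below `n` and surjective in
degree `n` are trivial Kan fibrations
-/

set_option autoImplicit false
universe u
open CategoryTheory Simplicial Opposite

namespace Groth.Agent.Lib.Helper21.CoskTKF

open SSet SimplexCategory Groth.Agent.Lib.Helper1.TruncKan

/-- the inclusion of the opposite truncated simplex category -/
abbrev L (n : ℕ) : (SimplexCategory.Truncated n)ᵒᵖ ⥤ SimplexCategoryᵒᵖ := (Truncated.inclusion n).op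

lemma isPRKE_of_isCoskeletal (U : SSet.{u}) (n : ℕ) [SimplicialObject.IsCoskeletal U n] :
    IsPRKE (L n) U := by
  haveI := hasPointwiseRightKanExtension n ((Truncated.inclusion n).op ⋙ U)
  have h1 := Functor.isPointwiseRightKanExtensionOfIsRightKanExtension U
    (𝟙 ((Truncated.inclusion n).op ⋙ U))
  exact IsPRKE.of_isPointwise _ _ h1

section elt

variable {n : ℕ} {X : SSet.{u}} (hX : IsPRKE (L n) X)

include hX in
lemma elt_ext {d : SimplexCategoryᵒᵖ} (x y : X.obj d)
    (h : ∀ g : StructuredArrow d (L n), X.map g.hom x = X.map g.hom y) : x = y := by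
  have := hX.hom_ext d (Z := PUnit.{u + 1}) (↾fun _ => x) (↾fun _ => y) (by
    intro g
    ext z
    exact h g)
  exact ConcreteCategory.congr_hom this PUnit.unit

include hX in
lemma elt_lift {d : SimplexCategoryᵒᵖ} (p : ∀ g : StructuredArrow d (L n), X.obj ((L n).obj g.right))
    (hp : ∀ (g₁ g₂ : StructuredArrow d (L n)) (φ : g₁ ⟶ g₂),
      X.map ((L n).map φ.right) (p g₁) = p g₂) :
    ∃ x : X.obj d, ∀ g, X.map g.hom x = p g := by
  obtain ⟨l, hl⟩ := hX.exists_lift d PUnit.{u + 1} (fun g => ↾fun _ => p g) (by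
    intro g₁ g₂ φ
    ext z
    exact hp g₁ g₂ φ)
  exact ⟨l PUnit.unit, fun g => ConcreteCategory.congr_hom (hl g) PUnit.unit⟩

end elt

/-- a structured arrow from a morphism of the simplex category -/
def sa {n : ℕ} {J K : SimplexCategory} (φ : J ⟶ K) (hJ : J.len ≤ n) :
    StructuredArrow (op K) (L n) :=
  StructuredArrow.mk (Y := op (⟨J, hJ⟩ : SimplexCategory.Truncated n)) φ.op

/-- boundary simplex from a non-surjective map -/
def bd {k : ℕ} {J : SimplexCategory} (φ : J ⟶ ⦋k⦌) (hφ : ¬ Function.Surjective φ.toOrderHom) :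
    (∂Δ[k] : SSet.{u}).obj (op J) := ⟨stdSimplex.objEquiv.symm φ, hφ⟩

lemma not_surj_comp {k : ℕ} {J J' : SimplexCategory} (ψ : J' ⟶ J) (φ : J ⟶ ⦋k⦌)
    (hφ : ¬ Function.Surjective φ.toOrderHom) : ¬ Function.Surjective (ψ ≫ φ).toOrderHom :=
  fun h => hφ (Function.Surjective.of_comp h)

lemma t_nat {V : SSet.{u}} {k : ℕ} (t : (∂Δ[k] : SSet.{u}) ⟶ V) {J J' : SimplexCategory}
    (ψ : J' ⟶ J) (φ : J ⟶ ⦋k⦌) (hφ : ¬ Function.Surjective φ.toOrderHom) :
    V.map ψ.op (t.app _ (bd φ hφ)) = t.app _ (bd (ψ ≫ φ) (not_surj_comp ψ φ hφ)) := by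
  have := ConcreteCategory.congr_hom (t.naturality ψ.op) (bd φ hφ)
  exact this.symm

lemma not_surj_of_lt {k : ℕ} {J : SimplexCategory} (φ : J ⟶ ⦋k⦌) (h : J.len < k) :
    ¬ Function.Surjective φ.toOrderHom := by
  intro hs
  have := Fintype.card_le_of_surjective _ hs
  simp at this
  omega

/-- the map from the standard simplex classified by a simplex -/
def ofElt {V : SSet.{u}} {k : ℕ} (x : V.obj (op ⦋k⦌)) : (Δ[k] : SSet.{u}) ⟶ V where
  app m := ↾fun s => V.map (stdSimplex.objEquiv s).op x
  naturality m m' g := by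
    ext s
    change V.map (stdSimplex.objEquiv ((Δ[k] : SSet.{u}).map g s)).op x =
      V.map g (V.map (stdSimplex.objEquiv s).op x)
    rw [stdSimplex.map_apply, Equiv.apply_symm_apply, op_comp, Quiver.Hom.op_unop,
      Functor.map_comp]
    rfl

section main

variable {U V : SSet.{u}} (f : V ⟶ U) (n : ℕ) (hU : IsPRKE (L n) U) (hV : IsPRKE (L n) V)

include hV in
lemma hasLift_of_elt {k : ℕ} (t : (∂Δ[k] : SSet.{u}) ⟶ V) (b : (Δ[k] : SSet.{u}) ⟶ U)
    (sq : CommSq t ∂Δ[k].ι f b) (x : V.obj (op ⦋k⦌))
    (hx1 : f.app _ x = b.app (op ⦋k⦌) (stdSimplex.objEquiv.symm (𝟙 _)))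
    (hx2 : ∀ (J : SimplexCategory) (_ : J.len ≤ n) (φ : J ⟶ ⦋k⦌)
      (hφ : ¬ Function.Surjective φ.toOrderHom), V.map φ.op x = t.app _ (bd φ hφ)) :
    sq.HasLift := by
  have hx3 : ∀ (J : SimplexCategory) (φ : J ⟶ ⦋k⦌)
      (hφ : ¬ Function.Surjective φ.toOrderHom), V.map φ.op x = t.app _ (bd φ hφ) := by
    intro J φ hφ
    apply elt_ext hV
    intro g
    have e1 : V.map g.hom (V.map φ.op x) = V.map (g.hom.unop ≫ φ).op x := by
      rw [op_comp, Quiver.Hom.op_unop, Functor.map_comp]
      rfl
    rw [e1, hx2 _ g.right.unop.property (g.hom.unop ≫ φ) (not_surj_comp _ _ hφ)]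
    exact (t_nat t g.hom.unop φ hφ).symm
  refine ⟨⟨{ l := ofElt x, fac_left := ?_, fac_right := ?_ }⟩⟩
  · apply NatTrans.ext
    funext m
    ext θ
    induction m using Opposite.rec with
    | op J =>
    exact hx3 J (stdSimplex.objEquiv θ.1) θ.2
  · apply NatTrans.ext
    funext m
    ext s
    change f.app m (V.map (stdSimplex.objEquiv s).op x) = b.app m s
    have e1 := ConcreteCategory.congr_hom (f.naturality (stdSimplex.objEquiv s).op) x
    have e2 := ConcreteCategory.congr_hom (b.naturality (stdSimplex.objEquiv s).op)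
      (stdSimplex.objEquiv.symm (𝟙 _))
    have e3 : (Δ[k] : SSet.{u}).map (stdSimplex.objEquiv s).op (stdSimplex.objEquiv.symm (𝟙 _)) =
        s := by
      rw [stdSimplex.map_apply]
      simp
    change f.app m (V.map (stdSimplex.objEquiv s).op x) =
      U.map (stdSimplex.objEquiv s).op (f.app _ x) at e1
    change b.app m ((Δ[k] : SSet.{u}).map (stdSimplex.objEquiv s).op
      (stdSimplex.objEquiv.symm (𝟙 _))) = U.map (stdSimplex.objEquiv s).op
        (b.app _ (stdSimplex.objEquiv.symm (𝟙 _))) at e2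
    rw [e1, hx1, ← e2, e3]

include hU hV in
theorem main (h1 : ∀ i : ℕ, i < n → Function.Bijective (f.app (op (SimplexCategory.mk i))))
    (h2 : Function.Surjective (f.app (op (SimplexCategory.mk n)))) :
    SSet.modelCategoryQuillen.I.rlp f := by
  rintro _ _ _ ⟨k⟩
  constructor
  intro t b sq
  have hsq : ∀ (J : SimplexCategory) (φ : J ⟶ ⦋k⦌) (hφ : ¬ Function.Surjective φ.toOrderHom),
      f.app _ (t.app _ (bd φ hφ)) =
        U.map φ.op (b.app (op ⦋k⦌) (stdSimplex.objEquiv.symm (𝟙 _))) := by
    intro J φ hφ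
    have e := ConcreteCategory.congr_hom (congr_app sq.w (op J)) (bd φ hφ)
    have e2 := ConcreteCategory.congr_hom (b.naturality φ.op) (stdSimplex.objEquiv.symm (𝟙 _))
    have e3 : (Δ[k] : SSet.{u}).map φ.op (stdSimplex.objEquiv.symm (𝟙 _)) =
        stdSimplex.objEquiv.symm φ := by
      rw [stdSimplex.map_apply]
      simp
    change b.app (op J) ((Δ[k] : SSet.{u}).map φ.op (stdSimplex.objEquiv.symm (𝟙 _))) =
      U.map φ.op (b.app _ (stdSimplex.objEquiv.symm (𝟙 _))) at e2
    rw [e3] at e2
    exact e.trans e2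
  by_cases hk : k ≤ n
  · obtain ⟨x, hx⟩ : ∃ x, f.app _ x = b.app (op ⦋k⦌) (stdSimplex.objEquiv.symm (𝟙 _)) := by
      rcases lt_or_eq_of_le hk with h | h
      · exact (h1 k h).2 _
      · subst h
        exact h2 _
    have hA : ∀ (J : SimplexCategory) (_ : J.len < n) (φ : J ⟶ ⦋k⦌)
        (hφ : ¬ Function.Surjective φ.toOrderHom), V.map φ.op x = t.app _ (bd φ hφ) := by
      intro J hJ φ hφ
      induction J using SimplexCategory.rec with
      | _ j =>
      apply (h1 j hJ).1
      have e1 := ConcreteCategory.congr_hom (f.naturality φ.op) x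
      change f.app _ (V.map φ.op x) = U.map φ.op (f.app _ x) at e1
      rw [e1, hx, hsq]
    apply hasLift_of_elt f n hV t b sq x hx
    intro J hJ φ hφ
    rcases lt_or_eq_of_le hJ with h | h
    · exact hA J h φ hφ
    · induction J using SimplexCategory.rec with
      | _ j =>
      have hj : j = n := h
      subst hj
      have hni : ¬ Function.Injective φ.toOrderHom := by
        intro hi
        apply hφ
        have hc := Fintype.card_le_of_injective _ hi
        simp only [SimplexCategory.len_mk, Fintype.card_fin] at hc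
        have hbij := (Fintype.bijective_iff_injective_and_card φ.toOrderHom).2
          ⟨hi, by simp only [SimplexCategory.len_mk, Fintype.card_fin]; omega⟩
        exact hbij.2
      cases j with
      | zero =>
        refine absurd (fun a b _ => ?_) hni
        have ha := a.isLt
        have hb := b.isLt
        simp only [SimplexCategory.len_mk] at ha hb
        exact Fin.ext (by omega)
      | succ n' =>
        obtain ⟨i, φ', rfl⟩ := eq_σ_comp_of_not_injective φ hni
        have hφ' : ¬ Function.Surjective φ'.toOrderHom := by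
          intro hs
          apply hφ
          rw [comp_toOrderHom]
          have hσ : Function.Surjective (σ i).toOrderHom := by
            rw [← SimplexCategory.epi_iff_surjective]
            infer_instance
          exact hs.comp hσ
        have h3 := hA ⦋n'⦌ (by simp) φ' hφ'
        rw [op_comp, Functor.map_comp]
        change V.map (σ i).op (V.map φ'.op x) = _
        rw [h3, t_nat]
  · push Not at hk
    obtain ⟨x, hx⟩ := elt_lift hV (d := op ⦋k⦌)
      (fun g => t.app _ (bd g.hom.unop
        (not_surj_of_lt _ (lt_of_le_of_lt g.right.unop.property hk)))) (by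
      intro g₁ g₂ φ
      have hw : g₂.hom.unop = ((L n).map φ.right).unop ≫ g₁.hom.unop := by
        rw [← unop_comp, StructuredArrow.w φ]
      have := t_nat t ((L n).map φ.right).unop g₁.hom.unop
        (not_surj_of_lt _ (lt_of_le_of_lt g₁.right.unop.property hk))
      rw [Quiver.Hom.op_unop] at this
      rw [this]
      congr 1
      apply Subtype.ext
      change stdSimplex.objEquiv.symm _ = stdSimplex.objEquiv.symm _
      rw [hw])
    apply hasLift_of_elt f n hV t b sq x ?_ ?_
    · apply elt_ext hU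
      intro g
      have e1 := ConcreteCategory.congr_hom (f.naturality g.hom) x
      change f.app _ (V.map g.hom x) = U.map g.hom (f.app _ x) at e1
      rw [← e1, hx g, hsq]
      rfl
    · intro J hJ φ hφ
      exact hx (sa φ hJ)

end main

end Groth.Agent.Lib.Helper21.CoskTKF
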