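import Mathlib

namespace Groth.Agent.Lib.Helper21

open Polynomial IsLocalRing

universe u

/-- an algebra generated by one nilpotent element is a truncated polynomial ring -/
theorem exists_algEquiv_truncPoly_of_aeval_surjective {k B : Type u} [Field k] [CommRing B] [Algebra k B]
    (t : B) (hnil : IsNilpotent t) (hsurj : Function.Surjective (aeval (R := k) t)) :
    ∃ j : ℕ, Nonempty (B ≃ₐ[k] (k[X] ⧸ Ideal.span {(X : k[X]) ^ j})) := by
  obtain ⟨r, hr⟩ := hnil
  set φ : k[X] →ₐ[k] B := aeval t with hφ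
  obtain ⟨f, hf⟩ : ∃ f, RingHom.ker φ = Ideal.span {f} :=
    (IsPrincipalIdealRing.principal (RingHom.ker φ)).principal
  have hX : (X : k[X]) ^ r ∈ RingHom.ker φ := by
    rw [RingHom.mem_ker, map_pow, hφ, aeval_X, hr]
  rw [hf, Ideal.mem_span_singleton] at hX
  obtain ⟨j, _, hj⟩ := (dvd_prime_pow Polynomial.prime_X r).1 hX
  have hker : RingHom.ker φ = Ideal.span {(X : k[X]) ^ j} := by
    rw [hf]; exact Ideal.span_singleton_eq_span_singleton.2 hj
  exact ⟨j, ⟨(Ideal.quotientKerAlgEquivOfSurjective hsurj).symm.trans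
    (Ideal.quotientEquivAlgOfEq k hker)⟩⟩

theorem exists_sub_mem_maximalIdeal {k B : Type u} [Field k] [IsAlgClosed k]
    [CommRing B] [IsLocalRing B] [Algebra k B] [Module.Finite k B] (b : B) :
    ∃ c : k, b - algebraMap k B c ∈ maximalIdeal B := by
  have hfin : Module.Finite k (ResidueField B) :=
    Module.Finite.of_surjective (IsScalarTower.toAlgHom k B (ResidueField B)).toLinearMap
      IsLocalRing.residue_surjective
  have : Algebra.IsIntegral k (ResidueField B) := Algebra.IsIntegral.of_finite k _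
  obtain ⟨c, hc⟩ := (IsAlgClosed.algebraMap_bijective_of_isIntegral (k := k)
    (K := ResidueField B)).2 (residue B b)
  refine ⟨c, ?_⟩
  rw [← IsLocalRing.residue_eq_zero_iff, map_sub, ← hc, sub_eq_zero,
    IsScalarTower.algebraMap_apply k B (ResidueField B)]
  rfl

theorem aeval_surjective_of_maximalIdeal_eq_span {k B : Type u} [Field k] [IsAlgClosed k]
    [CommRing B] [IsLocalRing B] [Algebra k B] [Module.Finite k B] (t : B)
    (ht : maximalIdeal B = Ideal.span {t}) (hnil : IsNilpotent t) :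
    Function.Surjective (aeval (R := k) t) := by
  obtain ⟨r, hr⟩ := hnil
  have key : ∀ j : ℕ, ∀ b : B, ∃ p : k[X], b - aeval t p ∈ Ideal.span {t ^ j} := by
    intro j
    induction j with
    | zero => intro b; exact ⟨0, by simp⟩
    | succ j ih =>
      intro b
      obtain ⟨p, hp⟩ := ih b
      obtain ⟨b', hb'⟩ := Ideal.mem_span_singleton'.1 hp
      obtain ⟨c, hc⟩ := exists_sub_mem_maximalIdeal (k := k) b'
      rw [ht] at hc
      obtain ⟨b'', hb''⟩ := Ideal.mem_span_singleton'.1 hc
      refine ⟨p + C c * X ^ j, Ideal.mem_span_singleton'.2 ⟨b'', ?_⟩⟩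
      simp only [map_add, map_mul, aeval_C, map_pow, aeval_X]
      rw [pow_succ]
      linear_combination t ^ j * hb'' + hb'
  intro b
  obtain ⟨p, hp⟩ := key r b
  rw [hr, Ideal.span_singleton_eq_bot.2 rfl, Ideal.mem_bot, sub_eq_zero] at hp
  exact ⟨p, hp.symm⟩

theorem nonempty_algEquiv_truncPoly_of_maximalIdeal_principal {k B : Type u} [Field k] [IsAlgClosed k]
    [CommRing B] [IsLocalRing B] [Algebra k B] [Module.Finite k B]
    (h : (maximalIdeal B).IsPrincipal) :
    Nonempty (B ≃ₐ[k] (k[X] ⧸ Ideal.span {(X : k[X]) ^ Module.finrank k B})) := by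
  obtain ⟨t, ht⟩ := h.principal
  have hart : IsArtinianRing B := IsArtinianRing.of_finite k B
  have hnil : IsNilpotent t := by
    have h1 : IsNilpotent (Ideal.jacobson (⊥ : Ideal B)) := IsArtinianRing.isNilpotent_jacobson_bot
    rw [IsLocalRing.jacobson_eq_maximalIdeal ⊥ bot_ne_top] at h1
    obtain ⟨r, hr⟩ := h1
    refine ⟨r, ?_⟩
    have : t ^ r ∈ maximalIdeal B ^ r := Ideal.pow_mem_pow (by rw [ht]; exact Submodule.mem_span_singleton_self t) r
    rw [hr] at this
    exact this
  have hsurj := aeval_surjective_of_maximalIdeal_eq_span (k := k) t ht hnil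
  obtain ⟨j, ⟨e⟩⟩ := exists_algEquiv_truncPoly_of_aeval_surjective (k := k) t hnil hsurj
  have hfin : Module.finrank k B = j := by
    rw [e.toLinearEquiv.finrank_eq, finrank_quotient_span_eq_natDegree, natDegree_X_pow]
  rw [hfin]
  exact ⟨e⟩

/-- if every element is a scalar plus a multiple of the nilpotent `t`, then `k[t]` is everything -/
theorem aeval_surjective_of_decomp {k B : Type u} [Field k] [CommRing B] [Algebra k B] (t : B)
    (hnil : IsNilpotent t) (hdec : ∀ b : B, ∃ c : k, ∃ b' : B, b = algebraMap k B c + t * b') :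
    Function.Surjective (aeval (R := k) t) := by
  obtain ⟨r, hr⟩ := hnil
  have key : ∀ j : ℕ, ∀ b : B, ∃ p : k[X], ∃ b' : B, b = aeval t p + t ^ j * b' := by
    intro j
    induction j with
    | zero => intro b; exact ⟨0, b, by simp⟩
    | succ j ih =>
      intro b
      obtain ⟨p, b', hp⟩ := ih b
      obtain ⟨c, b'', hc⟩ := hdec b'
      refine ⟨p + C c * X ^ j, b'', ?_⟩
      simp only [map_add, map_mul, aeval_C, map_pow, aeval_X]
      rw [hp, hc, pow_succ]
      ring
  intro b
  obtain ⟨p, b', hp⟩ := key r b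
  rw [hr, zero_mul, add_zero] at hp
  exact ⟨p, hp.symm⟩

section
variable {k B : Type u} [Field k] [CommRing B] [Algebra k B] (x : B)
  (hx : IsNilpotent x) (hB : ∀ b : B, ∃ c : k, ∃ b' : B, b = algebraMap k B c + x * b')

include hx hB

theorem isUnit_or_dvd (b : B) : IsUnit b ∨ x ∣ b := by
  obtain ⟨c, b', hb⟩ := hB b
  by_cases hc : c = 0
  · right
    rw [hb, hc, map_zero, zero_add]
    exact dvd_mul_right x b'
  · left
    rw [hb]
    refine IsNilpotent.isUnit_add_left_of_commute ?_ ?_ (Commute.all _ _)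
    · exact (Commute.all x b').isNilpotent_mul_right hx
    · exact (IsUnit.mk0 c hc).map (algebraMap k B)

theorem eq_zero_or_eq_pow_mul_unit (b : B) :
    b = 0 ∨ ∃ (j : ℕ) (w : B), IsUnit w ∧ b = x ^ j * w := by
  obtain ⟨n, hn⟩ := hx
  have key : ∀ d i : ℕ, n ≤ i + d → ∀ b₁ : B,
      x ^ i * b₁ = 0 ∨ ∃ (j : ℕ) (w : B), IsUnit w ∧ x ^ i * b₁ = x ^ j * w := by
    intro d
    induction d with
    | zero =>
      intro i hi b₁
      left
      rw [show i = n + (i - n) by omega, pow_add, hn, zero_mul, zero_mul]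
    | succ d ih =>
      intro i hi b₁
      rcases isUnit_or_dvd x ⟨n, hn⟩ hB b₁ with h | ⟨b₂, rfl⟩
      · right; exact ⟨i, b₁, h, rfl⟩
      · have := ih (i + 1) (by omega) b₂
        rw [pow_succ, mul_assoc] at this
        exact this
  have := key n 0 (by omega) b
  simpa using this

variable (A : Subalgebra k B)

theorem isUnit_of_isUnit_val (v : A) (hv : IsUnit (v : B)) : IsUnit v := by
  obtain ⟨c, b', hb⟩ := hB (v : B)
  by_cases hc : c = 0
  · -- then `v` is nilpotent and a unit: the ring is trivial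
    have hnil : IsNilpotent (v : B) := by
      rw [hb, hc, map_zero, zero_add]
      exact (Commute.all x b').isNilpotent_mul_right hx
    have h01 : (1 : B) = 0 := by
      obtain ⟨r, hr⟩ := hnil
      have := hv.pow r
      rw [hr] at this
      exact (isUnit_zero_iff.mp this).symm
    have : Subsingleton A := by
      refine ⟨fun p q => Subtype.ext ?_⟩
      rw [← mul_one (p : B), ← mul_one (q : B), h01, mul_zero, mul_zero]
    exact isUnit_of_subsingleton v
  · have hν : IsNilpotent (v - algebraMap k A c) := by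
      obtain ⟨r, hr⟩ := (Commute.all x b').isNilpotent_mul_right hx
      refine ⟨r, Subtype.ext ?_⟩
      have : ((v - algebraMap k A c : A) : B) = x * b' := by
        push_cast
        rw [hb]
        simp
      rw [Subalgebra.coe_pow, this, hr]
      rfl
    have : v = algebraMap k A c + (v - algebraMap k A c) := by ring
    rw [this]
    exact IsNilpotent.isUnit_add_left_of_commute hν ((IsUnit.mk0 c hc).map (algebraMap k A))
      (Commute.all _ _)

theorem exists_generator :
    ∃ u : A, x ∣ (u : B) ∧ ∀ a : A, x ∣ (a : B) → (u : B) ∣ (a : B) := by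
  classical
  obtain ⟨n, hn⟩ := hx
  have hP : ∃ j : ℕ, ∃ u : A, x ∣ (u : B) ∧ (u : B) ∣ x ^ j :=
    ⟨n, 0, by simp, by simp [hn]⟩
  obtain ⟨u, hu1, hu2⟩ := Nat.find_spec hP
  refine ⟨u, hu1, fun a ha => ?_⟩
  rcases eq_zero_or_eq_pow_mul_unit x ⟨n, hn⟩ hB (a : B) with h0 | ⟨i, w, hw, hi⟩
  · rw [h0]; exact dvd_zero _
  · have hai : (a : B) ∣ x ^ i := by
      obtain ⟨w', hw'⟩ := hw.exists_right_inv
      exact ⟨w', by rw [hi, mul_assoc, hw', mul_one]⟩
    have hle : Nat.find hP ≤ i := Nat.find_min' hP ⟨a, ha, hai⟩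
    calc (u : B) ∣ x ^ Nat.find hP := hu2
      _ ∣ x ^ i := pow_dvd_pow x hle
      _ ∣ (a : B) := ⟨w, hi⟩

theorem exists_eq_mul_of_flat [Module.Flat A B] (u a : A) (_hu : x ∣ (u : B)) (b : B)
    (hab : (a : B) = (u : B) * b) : ∃ a' : A, a = u * a' := by
  have hrel : ∑ i : Fin 2, (![a, -u] i) • (![1, b] i : B) = 0 := by
    simp [Fin.sum_univ_two, Subalgebra.smul_def, hab]
  obtain ⟨κ, c, y, h1, h2⟩ := Module.Flat.isTrivialRelation_of_sum_smul_eq_zero hrel
  have h10 := h1 0
  have h20 := h2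
  simp only [Fin.sum_univ_two, Matrix.cons_val_zero, Matrix.cons_val_one] at h10 h20
  by_cases hex : ∃ j, IsUnit ((c 0 j : A) : B)
  · obtain ⟨j, hj⟩ := hex
    obtain ⟨v, hv⟩ := (isUnit_of_isUnit_val x hx hB A (c 0 j) hj).exists_right_inv
    refine ⟨c 1 j * v, ?_⟩
    have := h20 j
    have h3 : a * c 0 j = u * c 1 j := by linear_combination this
    calc a = a * (c 0 j * v) := by rw [hv, mul_one]
      _ = (a * c 0 j) * v := by ring
      _ = u * (c 1 j * v) := by rw [h3]; ring
  · simp only [not_exists] at hex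
    have hdvd : x ∣ (1 : B) := by
      rw [h10]
      refine Finset.dvd_sum fun j _ => ?_
      rw [Subalgebra.smul_def]
      exact Dvd.dvd.mul_right ((isUnit_or_dvd x hx hB _).resolve_left (hex j)) _
    have h01 : (1 : B) = 0 := by
      obtain ⟨r, hr⟩ := hx
      have hu : IsUnit x := isUnit_of_dvd_one hdvd
      have := hu.pow r
      rw [hr] at this
      exact (isUnit_zero_iff.mp this).symm
    have : Subsingleton A := by
      refine ⟨fun p q => Subtype.ext ?_⟩
      rw [← mul_one (p : B), ← mul_one (q : B), h01, mul_zero, mul_zero]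
    exact ⟨0, Subsingleton.elim _ _⟩

theorem exists_algEquiv_truncPoly_of_flat_subalgebra [Module.Flat A B] :
    ∃ m : ℕ, Nonempty (A ≃ₐ[k] (k[X] ⧸ Ideal.span {(X : k[X]) ^ m})) := by
  obtain ⟨u, hu, hgen⟩ := exists_generator x hx hB A
  have hunil : IsNilpotent u := by
    obtain ⟨r, hr⟩ := hx
    obtain ⟨b, hb⟩ := hu
    refine ⟨r, Subtype.ext ?_⟩
    rw [Subalgebra.coe_pow, hb, mul_pow, hr, zero_mul]
    rfl
  have hdec : ∀ a : A, ∃ c : k, ∃ a' : A, a = algebraMap k A c + u * a' := by
    intro a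
    obtain ⟨c, b', hb⟩ := hB (a : B)
    have hxa : x ∣ ((a - algebraMap k A c : A) : B) := by
      refine ⟨b', ?_⟩
      push_cast
      rw [hb]
      simp
    obtain ⟨b, hb2⟩ := hgen _ hxa
    obtain ⟨a', ha'⟩ := exists_eq_mul_of_flat x hx hB A u (a - algebraMap k A c) hu b hb2
    exact ⟨c, a', by rw [← ha']; ring⟩
  exact exists_algEquiv_truncPoly_of_aeval_surjective (k := k) u hunil
    (aeval_surjective_of_decomp u hunil hdec)

end

end Groth.Agent.Lib.Helper21
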