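import Mathlib

/-!
# Right exact functors and cycles of acyclic complexes

If `K` is an acyclic complex, `T` a right exact additive functor and `T K` is acyclic, then
`T (Z^n K) ⟶ T (K^n)` is a monomorphism for every `n`.
-/

set_option autoImplicit false

open CategoryTheory CategoryTheory.Limits

namespace Groth.Agent.Lib.Helper21.CyclesMono

variable {A B : Type*} [Category A] [Category B] [Abelian A] [Abelian B]

theorem mono_map_iCycles (T : A ⥤ B) [T.Additive] [PreservesFiniteColimits T]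
    (K : CochainComplex A ℤ) (hK : K.Acyclic)
    (hTK : ((T.mapHomologicalComplex (ComplexShape.up ℤ)).obj K).Acyclic) (n : ℤ) :
    Mono (T.map (K.iCycles n)) := by
  have hm : (ComplexShape.up ℤ).prev n = n - 1 := by simp
  have hl : (ComplexShape.up ℤ).prev (n - 1) = n - 2 := by
    rw [CochainComplex.prev]; omega
  have hn : (ComplexShape.up ℤ).next (n - 1) = n := by
    rw [CochainComplex.next]; omega
  have hn' : (ComplexShape.up ℤ).next n = n + 1 := by simp
  -- `K.toCycles (n-1) n` is an epimorphism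
  have hepi : Epi (K.toCycles (n - 1) n) := by
    have h1 : (K.sc' (n - 1) n (n + 1)).Exact := (K.exactAt_iff' (n - 1) n (n + 1) hm hn').1 (hK n)
    have h2 := (K.sc' (n - 1) n (n + 1)).exact_iff_epi_toCycles.1 h1
    rw [← K.toCycles_cyclesIsoSc'_hom (n - 1) n (n + 1) hm hn'] at h2
    have h3 : K.toCycles (n - 1) n = (K.toCycles (n - 1) n ≫
        (K.cyclesIsoSc' (n - 1) n (n + 1) hm hn').hom) ≫
        (K.cyclesIsoSc' (n - 1) n (n + 1) hm hn').inv := by
      rw [Category.assoc, Iso.hom_inv_id, Category.comp_id]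
    rw [h3]
    exact @epi_comp _ _ _ _ _ _ h2 _ inferInstance
  -- the short complex `K^{n-2} ⟶ K^{n-1} ⟶ Z^n`
  let S₁ : ShortComplex A := ShortComplex.mk (K.d (n - 2) (n - 1)) (K.toCycles (n - 1) n)
    (K.d_toCycles _ _ _)
  let S₁' : ShortComplex A := ShortComplex.mk (K.d (n - 2) (n - 1)) (K.d (n - 1) n)
    (K.d_comp_d _ _ _)
  have hS₁' : S₁'.Exact := (K.exactAt_iff' (n - 2) (n - 1) n hl hn).1 (hK (n - 1))
  let φ : S₁ ⟶ S₁' :=
    { τ₁ := 𝟙 _
      τ₂ := 𝟙 _
      τ₃ := K.iCycles n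
      comm₁₂ := (Category.id_comp _).trans (Category.comp_id _).symm
      comm₂₃ := (Category.id_comp _).trans (K.toCycles_i _ _).symm }
  have hS₁ : S₁.Exact := by
    haveI : Epi φ.τ₁ := inferInstanceAs (Epi (𝟙 _))
    haveI : IsIso φ.τ₂ := inferInstanceAs (IsIso (𝟙 _))
    haveI : Mono φ.τ₃ := inferInstanceAs (Mono (K.iCycles n))
    exact (ShortComplex.exact_iff_of_epi_of_isIso_of_mono φ).2 hS₁'
  haveI : Epi S₁.g := hepi
  have hc : IsColimit (CokernelCofork.ofπ S₁.g S₁.zero) := hS₁.gIsCokernel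
  have hc' := CokernelCofork.mapIsColimit _ hc T
  -- exactness of `T K` at `n - 1`
  let f₂ : T.obj (K.X (n - 2)) ⟶ T.obj (K.X (n - 1)) := T.map (K.d (n - 2) (n - 1))
  let g₂ : T.obj (K.X (n - 1)) ⟶ T.obj (K.X n) := T.map (K.d (n - 1) n)
  have w₂ : f₂ ≫ g₂ = 0 := by
    rw [← T.map_comp, K.d_comp_d, T.map_zero]
  have hS₂ : (ShortComplex.mk f₂ g₂ w₂).Exact :=
    (((T.mapHomologicalComplex (ComplexShape.up ℤ)).obj K).exactAt_iff' (n - 2) (n - 1) n hl hn).1
      (hTK (n - 1))
  have hmono : Mono (cokernel.desc f₂ g₂ w₂) := hS₂.mono_cokernelDesc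
  let e : T.obj (K.cycles n) ≅ cokernel f₂ :=
    hc'.coconePointUniqueUpToIso (colimit.isColimit (parallelPair f₂ 0))
  have he : T.map (K.toCycles (n - 1) n) ≫ e.hom = cokernel.π f₂ :=
    hc'.comp_coconePointUniqueUpToIso_hom (colimit.isColimit (parallelPair f₂ 0))
      WalkingParallelPair.one
  have hepi' : Epi (T.map (K.toCycles (n - 1) n)) := Cofork.IsColimit.epi hc'
  have hfac : T.map (K.iCycles n) = e.hom ≫ cokernel.desc f₂ g₂ w₂ := by
    rw [← cancel_epi (T.map (K.toCycles (n - 1) n)), ← Category.assoc, he, cokernel.π_desc,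
      ← T.map_comp, K.toCycles_i]
  rw [hfac]
  exact mono_comp _ _

end Groth.Agent.Lib.Helper21.CyclesMono
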