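import Mathlib

open CategoryTheory Limits Triangulated Pretriangulated DerivedCategory

universe w v u

namespace Groth.Agent.Lib.Helper21

variable {C : Type u} [Category.{v} C] [Abelian C] [HasDerivedCategory.{w} C]

theorem dcat_eq_zero_of_heart (b : ℤ) {X Y : DerivedCategory C}
    [X.IsGE b] [X.IsLE b] [Y.IsGE b] [Y.IsLE b] (f : X ⟶ Y)
    (hf : (homologyFunctor C b).map f = 0) : f = 0 := by
  obtain ⟨A, ⟨eX⟩⟩ := exists_iso_singleFunctor_obj_of_isGE_of_isLE X b
  obtain ⟨B, ⟨eY⟩⟩ := exists_iso_singleFunctor_obj_of_isGE_of_isLE Y b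
  obtain ⟨φ, hφ⟩ := (singleFunctor C b).map_surjective (eX.inv ≫ f ≫ eY.hom)
  have hφ0 : φ = 0 := by
    have h1 : (homologyFunctor C b).map ((singleFunctor C b).map φ) = 0 := by
      rw [hφ, Functor.map_comp, Functor.map_comp, hf, zero_comp, comp_zero]
    have nat := (singleFunctorCompHomologyFunctorIso C b).hom.naturality φ
    simp only [Functor.comp_map, Functor.id_map] at nat
    rw [h1, zero_comp] at nat
    exact (cancel_epi ((singleFunctorCompHomologyFunctorIso C b).hom.app A)).1
      (by rw [← nat, comp_zero])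
  have h2 : eX.inv ≫ f ≫ eY.hom = 0 := by rw [← hφ, hφ0, Functor.map_zero]
  calc f = eX.hom ≫ (eX.inv ≫ f ≫ eY.hom) ≫ eY.inv := by simp
    _ = 0 := by rw [h2]; simp

theorem dcat_eq_zero_of_heart_of_isGE (b : ℤ) {X Y : DerivedCategory C}
    [X.IsGE b] [X.IsLE b] [Y.IsGE b] (f : X ⟶ Y)
    (hf : (homologyFunctor C b).map f = 0) : f = 0 := by
  let t := DerivedCategory.TStructure.t (C := C)
  have hι : Mono ((homologyFunctor C b).map ((t.truncLTι (b + 1)).app Y)) := by
    have := (HomologySequence.mono_homologyMap_mor₁_iff ((t.triangleLTGE (b + 1)).obj Y)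
      (t.triangleLTGE_distinguished (b + 1) Y) (b - 1) b (by omega)).2
      ((isZero_of_isGE ((t.truncGE (b + 1)).obj Y) (b + 1) (b - 1) (by omega)).eq_of_src _ _)
    exact this
  have hfac : t.liftTruncLT f b (b + 1) rfl ≫ (t.truncLTι (b + 1)).app Y = f :=
    t.liftTruncLT_ι f b (b + 1) rfl
  have h0 : t.liftTruncLT f b (b + 1) rfl = 0 := by
    apply dcat_eq_zero_of_heart b
    rw [← cancel_mono ((homologyFunctor C b).map ((t.truncLTι (b + 1)).app Y)),
      ← Functor.map_comp, hfac, hf, zero_comp]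
  rw [← hfac, h0, zero_comp]

theorem dcat_eq_zero_of_isLE_of_isGE (b : ℤ) {X Y : DerivedCategory C}
    [X.IsLE b] [Y.IsGE b] (f : X ⟶ Y)
    (hf : (homologyFunctor C b).map f = 0) : f = 0 := by
  let t := DerivedCategory.TStructure.t (C := C)
  have hπ : Epi ((homologyFunctor C b).map ((t.truncGEπ b).app X)) := by
    have := (HomologySequence.epi_homologyMap_mor₂_iff ((t.triangleLTGE b).obj X)
      (t.triangleLTGE_distinguished b X) b (b + 1) rfl).2
      ((isZero_of_isLE ((t.truncLT b).obj X) (b - 1) (b + 1) (by omega)).eq_of_tgt _ _)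
    exact this
  have hfac : (t.truncGEπ b).app X ≫ t.descTruncGE f b = f := t.π_descTruncGE f b
  have h0 : t.descTruncGE f b = 0 := by
    apply dcat_eq_zero_of_heart_of_isGE b
    rw [← cancel_epi ((homologyFunctor C b).map ((t.truncGEπ b).app X)),
      ← Functor.map_comp, hfac, hf, comp_zero]
  rw [← hfac, h0, comp_zero]

end Groth.Agent.Lib.Helper21
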