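import Mathlib

/-!
# The total complex `Tot F(G[0], K)` is `F(G, -)` applied termwise to `K`; consequences for
the cokernels of the differentials (generic bifunctor)
-/

set_option autoImplicit false

namespace Groth.Agent.Lib.Helper21.SingleLeft

open CategoryTheory Limits Category HomologicalComplex

section Generic

variable {A : Type*} [Category A] [Abelian A] {ι : Type*} {c : ComplexShape ι}

lemma opcyclesMap_fromOpcycles {K L : HomologicalComplex A c} (φ : K ⟶ L) (j k : ι) :
    opcyclesMap φ j ≫ L.fromOpcycles j k = K.fromOpcycles j k ≫ φ.f k := by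
  rw [← cancel_epi (K.pOpcycles j), p_opcyclesMap_assoc, p_fromOpcycles, p_fromOpcycles_assoc,
    Hom.comm]

/-- A morphism of complexes which is a monomorphism on `H^j` and in degree `next j` is a
monomorphism on the cokernels of the differentials into degree `j`. -/
lemma mono_opcyclesMap {K L : HomologicalComplex A c} (φ : K ⟶ L) (j k : ι)
    (hk : c.next j = k) [Mono (homologyMap φ j)] [Mono (φ.f k)] : Mono (opcyclesMap φ j) := by
  apply Preadditive.mono_of_cancel_zero
  intro P x hx
  have h1 : x ≫ K.fromOpcycles j k = 0 := by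
    rw [← cancel_mono (φ.f k), assoc, ← opcyclesMap_fromOpcycles, reassoc_of% hx, zero_comp,
      zero_comp]
  obtain ⟨y, hy⟩ := KernelFork.IsLimit.lift' (K.homologyIsKernel j k hk) x h1
  have hy' : y ≫ K.homologyι j = x := hy
  have h2 : y ≫ homologyMap φ j = 0 := by
    rw [← cancel_mono (L.homologyι j), assoc, homologyι_naturality, reassoc_of% hy', hx,
      zero_comp]
  have h3 : y = 0 := by
    rw [← cancel_mono (homologyMap φ j), h2, zero_comp]
  rw [← hy', h3, zero_comp]

lemma mono_homologyMap {K L : HomologicalComplex A c} (φ : K ⟶ L) (j : ι)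
    [Mono (opcyclesMap φ j)] : Mono (homologyMap φ j) := by
  haveI : Mono (homologyMap φ j ≫ L.homologyι j) := by
    rw [homologyι_naturality]
    infer_instance
  exact mono_of_mono (homologyMap φ j) (L.homologyι j)

end Generic

variable {C₁ C₂ D : Type*} [Category C₁] [Category C₂] [Category D]
  [Abelian C₁] [Abelian C₂] [Abelian D]
  (F : C₁ ⥤ C₂ ⥤ D) [F.Additive] [∀ X₁, (F.obj X₁).Additive]
  [∀ (K₁ : CochainComplex C₁ ℤ) (K₂ : CochainComplex C₂ ℤ),
    HasMapBifunctor K₁ K₂ F (ComplexShape.up ℤ)]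

local notation "cc" => ComplexShape.up ℤ

/-- The complex `G[0]`. -/
noncomputable abbrev sgl (G : C₁) : CochainComplex C₁ ℤ := (single C₁ cc 0).obj G

lemma pi_zero (n : ℤ) : ComplexShape.π cc cc cc ((0 : ℤ), n) = n := by simp

instance additive_flip_obj' (Y : C₂) : (F.flip.obj Y).Additive := { }

/-- The termwise comparison map. -/
noncomputable def homX (G : C₁) (K : CochainComplex C₂ ℤ) (n : ℤ) :
    (F.obj G).obj (K.X n) ⟶ (mapBifunctor (sgl G) K F cc).X n :=
  (F.map (singleObjXSelf cc 0 G).inv).app (K.X n) ≫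
    ιMapBifunctor (sgl G) K F cc 0 n n (pi_zero n)

/-- The termwise inverse. -/
noncomputable def invX (G : C₁) (K : CochainComplex C₂ ℤ) (n : ℤ) :
    (mapBifunctor (sgl G) K F cc).X n ⟶ (F.obj G).obj (K.X n) :=
  mapBifunctorDesc (fun p q hpq =>
    if hp : p = 0 then
      (F.map (singleObjXIsoOfEq cc 0 G p hp).hom).app (K.X q) ≫
        eqToHom (by
          subst hp
          have : q = n := by simpa using hpq
          rw [this])
    else 0)

lemma homX_invX (G : C₁) (K : CochainComplex C₂ ℤ) (n : ℤ) :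
    homX F G K n ≫ invX F G K n = 𝟙 _ := by
  unfold homX invX
  rw [assoc, ι_mapBifunctorDesc, dif_pos rfl]
  simp only [eqToHom_refl, comp_id]
  rw [← NatTrans.comp_app, ← Functor.map_comp]
  change (F.map ((singleObjXSelf cc 0 G).inv ≫ (singleObjXSelf cc 0 G).hom)).app _ = _
  rw [Iso.inv_hom_id, CategoryTheory.Functor.map_id, NatTrans.id_app]

lemma invX_homX (G : C₁) (K : CochainComplex C₂ ℤ) (n : ℤ) :
    invX F G K n ≫ homX F G K n = 𝟙 _ := by
  apply mapBifunctor.hom_ext
  intro p q hpq
  unfold invX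
  rw [ι_mapBifunctorDesc_assoc, comp_id]
  by_cases hp : p = 0
  · subst hp
    have hq : q = n := by simpa using hpq
    subst hq
    rw [dif_pos rfl]
    simp only [eqToHom_refl, comp_id]
    unfold homX
    rw [← NatTrans.comp_app_assoc, ← Functor.map_comp]
    change (F.map ((singleObjXSelf cc 0 G).hom ≫ (singleObjXSelf cc 0 G).inv)).app _ ≫ _ = _
    rw [Iso.hom_inv_id, CategoryTheory.Functor.map_id, NatTrans.id_app, id_comp]
  · apply IsZero.eq_of_src
    exact Functor.map_isZero (F.flip.obj (K.X q)) (isZero_single_obj_X cc 0 G p hp)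

/-- The termwise isomorphism. -/
noncomputable def isoX (G : C₁) (K : CochainComplex C₂ ℤ) (n : ℤ) :
    (F.obj G).obj (K.X n) ≅ (mapBifunctor (sgl G) K F cc).X n where
  hom := homX F G K n
  inv := invX F G K n
  hom_inv_id := homX_invX F G K n
  inv_hom_id := invX_homX F G K n

lemma homX_d (G : C₁) (K : CochainComplex C₂ ℤ) (n : ℤ) :
    homX F G K n ≫ (mapBifunctor (sgl G) K F cc).d n (n + 1) =
      (F.obj G).map (K.d n (n + 1)) ≫ homX F G K (n + 1) := by
  unfold homX
  rw [assoc, mapBifunctor.d_eq, Preadditive.comp_add, mapBifunctor.ι_D₁, mapBifunctor.ι_D₂,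
    mapBifunctor.d₁_eq (sgl G) K F cc (show (ComplexShape.up ℤ).Rel 0 1 from rfl) n (n + 1)
      (by simp; omega),
    mapBifunctor.d₂_eq (sgl G) K F cc 0 (show (ComplexShape.up ℤ).Rel n (n + 1) from rfl)
      (n + 1) (pi_zero (n + 1))]
  simp only [single_obj_d, CategoryTheory.Functor.map_zero, zero_comp, smul_zero, zero_add,
    NatTrans.app_zero]
  have hε : ComplexShape.ε₂ (ComplexShape.up ℤ) (ComplexShape.up ℤ) (ComplexShape.up ℤ)
      ((0 : ℤ), n) = 1 := by simp [ComplexShape.ε₂]
  rw [hε, one_smul, ← assoc, ← (F.map (singleObjXSelf cc 0 G).inv).naturality, assoc]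

lemma homX_naturality {G' G : C₁} (a : G' ⟶ G) (K : CochainComplex C₂ ℤ) (n : ℤ) :
    (F.map a).app (K.X n) ≫ homX F G K n =
      homX F G' K n ≫ (mapBifunctorMap ((single C₁ cc 0).map a) (𝟙 K) F cc).f n := by
  unfold homX
  rw [assoc, ι_mapBifunctorMap]
  simp only [HomologicalComplex.id_f, CategoryTheory.Functor.map_id, id_comp]
  rw [← NatTrans.comp_app_assoc, ← NatTrans.comp_app_assoc, ← Functor.map_comp,
    ← Functor.map_comp, single_map_f_self, Iso.inv_hom_id_assoc]

section Opcycles

variable [∀ G : C₁, PreservesFiniteColimits (F.obj G)]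

/-- `F(G, coker d) ≅ coker` of the differential of `Tot F(G[0], K)`. -/
noncomputable def opcyclesIso (G : C₁) (K : CochainComplex C₂ ℤ) (p : ℤ) :
    (F.obj G).obj (cokernel (K.d p (p + 1))) ≅ (mapBifunctor (sgl G) K F cc).opcycles (p + 1) :=
  PreservesCokernel.iso (F.obj G) (K.d p (p + 1)) ≪≫
    cokernel.mapIso ((F.obj G).map (K.d p (p + 1))) ((mapBifunctor (sgl G) K F cc).d p (p + 1))
      (isoX F G K p) (isoX F G K (p + 1)) (homX_d F G K p).symm ≪≫
    IsColimit.coconePointUniqueUpToIso (cokernelIsCokernel _)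
      ((mapBifunctor (sgl G) K F cc).opcyclesIsCokernel p (p + 1) (by simp))

lemma π_opcyclesIso_hom (G : C₁) (K : CochainComplex C₂ ℤ) (p : ℤ) :
    (F.obj G).map (cokernel.π (K.d p (p + 1))) ≫ (opcyclesIso F G K p).hom =
      homX F G K (p + 1) ≫ (mapBifunctor (sgl G) K F cc).pOpcycles (p + 1) := by
  unfold opcyclesIso
  simp only [Iso.trans_hom, PreservesCokernel.π_iso_hom_assoc, cokernel.mapIso_hom,
    cokernel.π_desc_assoc, assoc]
  congr 1
  exact IsColimit.comp_coconePointUniqueUpToIso_hom (cokernelIsCokernel _)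
    ((mapBifunctor (sgl G) K F cc).opcyclesIsCokernel p (p + 1) (by simp))
    WalkingParallelPair.one

lemma opcyclesIso_naturality {G' G : C₁} (a : G' ⟶ G) (K : CochainComplex C₂ ℤ) (p : ℤ) :
    (F.map a).app (cokernel (K.d p (p + 1))) ≫ (opcyclesIso F G K p).hom =
      (opcyclesIso F G' K p).hom ≫
        opcyclesMap (mapBifunctorMap ((single C₁ cc 0).map a) (𝟙 K) F cc) (p + 1) := by
  rw [← cancel_epi ((F.obj G').map (cokernel.π (K.d p (p + 1))))]
  rw [(F.map a).naturality_assoc, π_opcyclesIso_hom, reassoc_of% (π_opcyclesIso_hom F G' K p),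
    p_opcyclesMap, reassoc_of% (homX_naturality F a K (p + 1))]

end Opcycles

end Groth.Agent.Lib.Helper21.SingleLeft
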