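import Mathlib
import Groth.Prelude.Def_DRing4
import Groth.Agent.Lib.Helper18.LTCxC
import Groth.Agent.Lib.Helper21.SingleLeft
import Groth.Agent.Lib.Helper2.Tot.DRingFlat

/-!
# Tor amplitude `≥ a` over a ring through K-flat representatives
-/

set_option autoImplicit false
universe u
open CategoryTheory CategoryTheory.Limits MonoidalCategory HomologicalComplex

attribute [local instance] HasDerivedCategory.standard

namespace Groth.Agent.Lib.Helper21.DRingTorGE

open Groth.Agent.Lib.Helper2.Tot Groth.Agent.Lib.Helper2.Tot.DR Groth.Agent.Lib.Helper18.DR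

variable {R : Type u} [CommRing R]

/-- `M[0]`. -/
noncomputable abbrev sg (M : ModuleCat.{u} R) : DRing.Cx R :=
  (CochainComplex.singleFunctor (ModuleCat.{u} R) 0).obj M

/-- `M ⊗^L K` is computed by `M[0] ⊗ P` for `P` K-flat representing `K`. -/
theorem nonempty_iso_single (K : DRing.Cx R) [DRing.HasLTensorCx R K] (M : ModuleCat.{u} R)
    (P : DRing.Cx R) (hP : KFlat (T R) P) (e : DRing.toD P ≅ DRing.toD K) :
    Nonempty ((DRing.LTensorCx R K).obj (DRing.toD (sg M)) ≅
      DerivedCategory.Q.obj (sg M ⊗ P)) := by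
  obtain ⟨F, f, hF, hf⟩ := DTenB.exists_kprojective_quasiIso (sg M)
  obtain ⟨F', f', hF', hf'⟩ := DTenB.exists_kprojective_quasiIso K
  haveI := hF
  haveI := hF'
  haveI := hf
  haveI := hf'
  haveI : IsIso (DerivedCategory.Q.map f) :=
    (DerivedCategory.isIso_Q_map_iff_quasiIso _ f).2 inferInstance
  haveI : IsIso (DerivedCategory.Q.map f') :=
    (DerivedCategory.isIso_Q_map_iff_quasiIso _ f').2 inferInstance
  obtain ⟨i⟩ := LTCx.nonempty_LTensorCx_iso K (DRing.toD (sg M)) F F'
    (asIso (DerivedCategory.Q.map f)) (asIso (DerivedCategory.Q.map f'))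
  obtain ⟨g, hg⟩ := exists_map_eq F' P (DerivedCategory.Q.map f' ≫ e.inv)
  haveI : IsIso (DerivedCategory.Q.map g) := by rw [hg]; infer_instance
  haveI : QuasiIso g := (DerivedCategory.isIso_Q_map_iff_quasiIso _ g).1 inferInstance
  haveI h1 : QuasiIso (F ◁ g) := inferInstance
  haveI h2 : QuasiIso (f ▷ P) := quasiIso_map₁_of_kflat hP f
  haveI : IsIso (DerivedCategory.Q.map (F ◁ g)) :=
    (DerivedCategory.isIso_Q_map_iff_quasiIso _ _).2 h1
  haveI : IsIso (DerivedCategory.Q.map (f ▷ P)) :=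
    (DerivedCategory.isIso_Q_map_iff_quasiIso _ _).2 h2
  exact ⟨i ≪≫ asIso (DerivedCategory.Q.map (F ◁ g)) ≪≫ asIso (DerivedCategory.Q.map (f ▷ P))⟩

/-- The cohomology modules of `M ⊗^L K` through a K-flat representative. -/
theorem subsingleton_HD_iff (K : DRing.Cx R) [DRing.HasLTensorCx R K] (M : ModuleCat.{u} R)
    (P : DRing.Cx R) (hP : KFlat (T R) P) (e : DRing.toD P ≅ DRing.toD K) (i : ℤ) :
    Subsingleton (Dual.HD R ((DRing.LTensorCx R K).obj (DRing.toD (sg M))) i) ↔
      IsZero ((sg M ⊗ P).homology i) := by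
  obtain ⟨j⟩ := nonempty_iso_single K M P hP e
  have j2 : (DerivedCategory.homologyFunctor (ModuleCat.{u} R) i).obj
      ((DRing.LTensorCx R K).obj (DRing.toD (sg M))) ≅ (sg M ⊗ P).homology i :=
    (DerivedCategory.homologyFunctor (ModuleCat.{u} R) i).mapIso j ≪≫
      (DerivedCategory.homologyFunctorFactors (ModuleCat.{u} R) i).app (sg M ⊗ P)
  rw [← ModuleCat.isZero_iff_subsingleton]
  exact ⟨fun h => h.of_iso j2.symm, fun h => h.of_iso j2⟩

section Terms

variable {C₁ C₂ D : Type*} [Category C₁] [Category C₂] [Category D]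
  [Abelian C₁] [Abelian C₂] [Abelian D]
  (F : C₁ ⥤ C₂ ⥤ D) [F.Additive] [∀ X₁, (F.obj X₁).Additive]
  [∀ (K₁ : CochainComplex C₁ ℤ) (K₂ : CochainComplex C₂ ℤ),
    HasMapBifunctor K₁ K₂ F (ComplexShape.up ℤ)]

instance additive_flip_obj'' (Y : C₂) : (F.flip.obj Y).Additive := { }

theorem isZero_tot_X (K₁ : CochainComplex C₁ ℤ) (K₂ : CochainComplex C₂ ℤ) (k : ℤ)
    (h : ∀ i j : ℤ, i + j = k → IsZero (K₁.X i) ∨ IsZero (K₂.X j)) :
    IsZero ((mapBifunctor K₁ K₂ F (ComplexShape.up ℤ)).X k) := by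
  rw [IsZero.iff_id_eq_zero]
  apply mapBifunctor.hom_ext
  intro i j hij
  apply IsZero.eq_of_src
  rcases h i j hij with h1 | h1
  · exact Functor.map_isZero (F.flip.obj (K₂.X j)) h1
  · exact Functor.map_isZero (F.obj (K₁.X i)) h1

end Terms

lemma isZero_homology_of_isZero_X {A : Type*} [Category A] [Abelian A]
    (K : CochainComplex A ℤ) (i : ℤ) (h : IsZero (K.X i)) : IsZero (K.homology i) := by
  rw [← exactAt_iff_isZero_homology, exactAt_iff]
  exact ShortComplex.exact_of_isZero_X₂ _ h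

/-- The easy direction. -/
theorem subsingleton_of_representative (K : DRing.Cx R) [DRing.HasLTensorCx R K] (a : ℤ)
    (E : DRing.Cx R)
    (hE : ∀ L : DRing.Cx R, (∀ i : ℤ, IsZero (L.homology i)) →
      ∀ i : ℤ, IsZero ((L ⊗ E).homology i))
    (hEa : ∀ i : ℤ, i < a → IsZero (E.X i)) (e : DRing.toD E ≅ DRing.toD K)
    (M : ModuleCat.{u} R) (i : ℤ) (hi : i < a) :
    Subsingleton (Dual.HD R ((DRing.LTensorCx R K).obj (DRing.toD (sg M))) i) := by
  rw [subsingleton_HD_iff K M E ((kflat_iff E).1 hE) e i]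
  apply isZero_homology_of_isZero_X
  refine isZero_tot_X (T R) (sg M) E i (fun p q hpq => ?_)
  by_cases hp : p = 0
  · right
    apply hEa
    omega
  · left
    exact isZero_single_obj_X (ComplexShape.up ℤ) 0 M p hp


section Forward

open Groth.Agent.Lib.Helper13 Groth.Agent.Lib.Helper21

/-- In a short exact sequence of modules with flat middle and right terms, the left term is
flat. -/
theorem flat_X₁ (S : ShortComplex (ModuleCat.{u} R)) (hS : S.ShortExact)
    (h₂ : Module.Flat R S.X₂) (h₃ : Module.Flat R S.X₃) : Module.Flat R S.X₁ := by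
  rw [Module.Flat.iff_preservesFiniteLimits_tensorRight]
  apply ModSiteFlatGen.preservesFiniteLimits_of_preservesMono
  intro G' G a ha
  have e1 := shortExact_of_flat_module S hS h₃ G'
  haveI : Mono (G' ◁ S.f) := e1.mono_f
  haveI : Mono (a ▷ S.X₂) := inferInstanceAs (Mono ((tensorRight S.X₂).map a))
  have hex : a ▷ S.X₁ ≫ G ◁ S.f = G' ◁ S.f ≫ a ▷ S.X₂ := (whisker_exchange a S.f).symm
  haveI : Mono (a ▷ S.X₁ ≫ G ◁ S.f) := by
    rw [hex]
    infer_instance
  exact mono_of_mono (a ▷ S.X₁) (G ◁ S.f)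

variable (P : DRing.Cx R) (hflat : ∀ n : ℤ, Module.Flat R (P.X n))

include hflat in
lemma shortExact_tot (S : ShortComplex (ModuleCat.{u} R)) (hS : S.ShortExact) :
    ((S.map (HomologicalComplex.single (ModuleCat.{u} R) (ComplexShape.up ℤ) 0)).map
      (((T R).map₂CochainComplex).flip.obj P)).ShortExact := by
  have hS' : (S.map (HomologicalComplex.single (ModuleCat.{u} R)
      (ComplexShape.up ℤ) 0)).ShortExact := hS.map_of_exact _
  refine shortExact_map₁ (T R) P _ (fun p q => ?_)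
  have h1 : ((S.map (HomologicalComplex.single (ModuleCat.{u} R) (ComplexShape.up ℤ) 0)).map
      (eval _ _ p)).ShortExact := hS'.map_of_exact _
  haveI : Module.Flat R (P.X q) := hflat q
  haveI : PreservesFiniteLimits ((T R).flip.obj (P.X q)) :=
    (Module.Flat.iff_preservesFiniteLimits_tensorRight (R := R) (P.X q)).1 inferInstance
  haveI : PreservesFiniteColimits ((T R).flip.obj (P.X q)) := ⟨fun J _ _ => inferInstance⟩
  exact h1.map_of_exact ((T R).flip.obj (P.X q))

include hflat in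
/-- If `H^{a'}(M[0] ⊗ P) = 0` for all `M`, then `coker(P^{a'} → P^{a'+1})` is flat. -/
theorem flat_cokernel (a' : ℤ) (hvan : ∀ M : ModuleCat.{u} R, IsZero ((sg M ⊗ P).homology a')) :
    Module.Flat R (cokernel (P.d a' (a' + 1)) : ModuleCat.{u} R) := by
  rw [Module.Flat.iff_preservesFiniteLimits_tensorRight]
  apply ModSiteFlatGen.preservesFiniteLimits_of_preservesMono
  intro M' M f hf
  haveI := hf
  let S : ShortComplex (ModuleCat.{u} R) :=
    ShortComplex.mk f (cokernel.π f) (cokernel.condition f)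
  have hS : S.ShortExact := { exact := ShortComplex.exact_cokernel f }
  have hS2 := shortExact_tot P hflat S hS
  have hδ : hS2.δ a' (a' + 1) rfl = 0 := (hvan S.X₃).eq_of_src _ _
  haveI h1 : Mono (homologyMap (mapBifunctorMap
      ((single (ModuleCat.{u} R) (ComplexShape.up ℤ) 0).map f) (𝟙 P) (T R)
      (ComplexShape.up ℤ)) (a' + 1)) := (hS2.homology_exact₁ a' (a' + 1) rfl).mono_g hδ
  haveI h2 : Mono ((mapBifunctorMap
      ((single (ModuleCat.{u} R) (ComplexShape.up ℤ) 0).map f) (𝟙 P) (T R)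
      (ComplexShape.up ℤ)).f (a' + 1 + 1)) := by
    have hn := SingleLeft.homX_naturality (T R) f P (a' + 1 + 1)
    haveI : Module.Flat R (P.X (a' + 1 + 1)) := hflat _
    haveI : Mono (((T R).map f).app (P.X (a' + 1 + 1))) :=
      inferInstanceAs (Mono ((tensorRight (P.X (a' + 1 + 1))).map f))
    have h3 : (mapBifunctorMap ((single (ModuleCat.{u} R) (ComplexShape.up ℤ) 0).map f) (𝟙 P)
        (T R) (ComplexShape.up ℤ)).f (a' + 1 + 1) =
        (SingleLeft.isoX (T R) M' P (a' + 1 + 1)).inv ≫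
          ((T R).map f).app (P.X (a' + 1 + 1)) ≫
            (SingleLeft.isoX (T R) M P (a' + 1 + 1)).hom := by
      rw [← cancel_epi (SingleLeft.isoX (T R) M' P (a' + 1 + 1)).hom, Iso.hom_inv_id_assoc]
      exact hn.symm
    rw [h3]
    infer_instance
  haveI h4 : Mono (opcyclesMap (mapBifunctorMap
      ((single (ModuleCat.{u} R) (ComplexShape.up ℤ) 0).map f) (𝟙 P) (T R)
      (ComplexShape.up ℤ)) (a' + 1)) :=
    SingleLeft.mono_opcyclesMap _ (a' + 1) (a' + 1 + 1) (by simp)
  have hn := SingleLeft.opcyclesIso_naturality (T R) f P a'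
  have h5 : (tensorRight (cokernel (P.d a' (a' + 1)))).map f =
      (SingleLeft.opcyclesIso (T R) M' P a').hom ≫
        opcyclesMap (mapBifunctorMap
          ((single (ModuleCat.{u} R) (ComplexShape.up ℤ) 0).map f) (𝟙 P) (T R)
          (ComplexShape.up ℤ)) (a' + 1) ≫
          (SingleLeft.opcyclesIso (T R) M P a').inv := by
    rw [← Category.assoc, ← hn, Category.assoc, Iso.hom_inv_id, Category.comp_id]
    rfl
  rw [h5]
  infer_instance

end Forward


section Trunc

open Groth.Agent.Lib.Helper13 Groth.Agent.Lib.Helper21 ComplexShape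

lemma mono_πTruncGE_f {A : Type*} [Category A] [Abelian A] (K : CochainComplex A ℤ) (n i : ℤ)
    (hi : n < i) : Mono ((K.πTruncGE n).f i) := by
  obtain ⟨k, hk⟩ : ∃ k : ℕ, (embeddingUpIntGE n).f k = i :=
    ⟨(i - n).toNat, by simp [embeddingUpIntGE]; omega⟩
  haveI := HomologicalComplex.isIso_restrictionToTruncGE' K (embeddingUpIntGE n) k (by
    rw [boundaryGE_embeddingUpIntGE_iff]
    rintro rfl
    simp [embeddingUpIntGE] at hk
    omega)
  exact ((embeddingUpIntGE n).mono_liftExtend_f_iff (K.restrictionToTruncGE' (embeddingUpIntGE n))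
    (K.restrictionToTruncGE'_hasLift (embeddingUpIntGE n)) hk).2 inferInstance

lemma flat_of_iso {M N : ModuleCat.{u} R} (e : M ≅ N) (h : Module.Flat R M) : Module.Flat R N :=
  Module.Flat.of_linearEquiv e.toLinearEquiv.symm

lemma flat_of_isZero {M : ModuleCat.{u} R} (h : IsZero M) : Module.Flat R M := by
  haveI : Subsingleton M := ModuleCat.subsingleton_of_isZero h
  infer_instance

variable (P : DRing.Cx R) (hflat : ∀ n : ℤ, Module.Flat R (P.X n))

include hflat in
lemma flat_truncGE_X (a' : ℤ)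
    (hW : Module.Flat R (cokernel (P.d a' (a' + 1)) : ModuleCat.{u} R)) (i : ℤ) :
    Module.Flat R ((P.truncGE (a' + 1)).X i) := by
  rcases lt_trichotomy i (a' + 1) with h | h | h
  · exact flat_of_isZero (CochainComplex.isZero_of_isStrictlyGE (P.truncGE (a' + 1)) (a' + 1) i h)
  · subst h
    have e1 : (cokernel (P.d a' (a' + 1)) : ModuleCat.{u} R) ≅ P.opcycles (a' + 1) :=
      IsColimit.coconePointUniqueUpToIso (cokernelIsCokernel _)
        (P.opcyclesIsCokernel a' (a' + 1) (by simp))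
    exact flat_of_iso (e1 ≪≫ (P.truncGEXIsoOpcycles (a' + 1)).symm) hW
  · exact flat_of_iso (P.truncGEXIso (a' + 1) i h).symm (hflat i)

include hflat in
theorem kflat_truncGE (hP : KFlat (T R) P) (a' : ℤ)
    (hW : Module.Flat R (cokernel (P.d a' (a' + 1)) : ModuleCat.{u} R)) :
    KFlat (T R) (P.truncGE (a' + 1)) := by
  haveI : Epi (P.πTruncGE (a' + 1)) := by
    dsimp [CochainComplex.πTruncGE]
    infer_instance
  let S : ShortComplex (DRing.Cx R) :=
    ShortComplex.mk (kernel.ι (P.πTruncGE (a' + 1))) (P.πTruncGE (a' + 1)) (kernel.condition _)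
  have hS : S.ShortExact := { exact := ShortComplex.exact_kernel _ }
  have hE : DRing.TermwiseFlat S.X₃ := flat_truncGE_X P hflat a' hW
  have hSi : ∀ i : ℤ, (S.map (eval (ModuleCat.{u} R) (ComplexShape.up ℤ) i)).ShortExact :=
    fun i => hS.map_of_exact _
  have hNflat : ∀ i : ℤ, Module.Flat R (S.X₁.X i) := fun i =>
    flat_X₁ _ (hSi i) (hflat i) (hE i)
  haveI : S.X₁.IsStrictlyLE (a' + 1) := by
    rw [CochainComplex.isStrictlyLE_iff]
    intro i hi
    have hg : Mono (S.map (eval (ModuleCat.{u} R) (ComplexShape.up ℤ) i)).g :=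
      mono_πTruncGE_f P (a' + 1) i hi
    have hf : Mono (S.map (eval (ModuleCat.{u} R) (ComplexShape.up ℤ) i)).f := (hSi i).mono_f
    have hz : (S.map (eval (ModuleCat.{u} R) (ComplexShape.up ℤ) i)).f = 0 := by
      rw [← cancel_mono (S.map (eval (ModuleCat.{u} R) (ComplexShape.up ℤ) i)).g,
        ShortComplex.zero, zero_comp]
    exact @IsZero.of_mono_eq_zero _ _ _ _ _
      (S.map (eval (ModuleCat.{u} R) (ComplexShape.up ℤ) i)).f hf hz
  have hN : KFlat (T R) S.X₁ := kflat_of_isStrictlyLE S.X₁ (a' + 1) hNflat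
  exact kflat_X₃ S (fun X q => shortExact_of_flat S hS hE X q) hN hP

end Trunc

/-- The forward direction. -/
theorem exists_representative (K : DRing.Cx R) [DRing.HasLTensorCx R K] (a : ℤ)
    (h : ∀ (M : ModuleCat.{u} R) (i : ℤ), i < a →
      Subsingleton (Dual.HD R ((DRing.LTensorCx R K).obj (DRing.toD (sg M))) i)) :
    ∃ E : DRing.Cx R, (∀ L : DRing.Cx R, (∀ i : ℤ, IsZero (L.homology i)) →
        ∀ i : ℤ, IsZero ((L ⊗ E).homology i)) ∧
      DRing.TermwiseFlat E ∧ (∀ i : ℤ, i < a → IsZero (E.X i)) ∧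
      Nonempty (DRing.toD E ≅ DRing.toD K) := by
  obtain ⟨P, s, hP1, -, hPflat, hs, -⟩ := exists_resolution K
  haveI := hs
  haveI : IsIso (DerivedCategory.Q.map s) :=
    (DerivedCategory.isIso_Q_map_iff_quasiIso _ s).2 inferInstance
  have e : DRing.toD P ≅ DRing.toD K := asIso (DerivedCategory.Q.map s)
  have hvan : ∀ (M : ModuleCat.{u} R) (i : ℤ), i < a → IsZero ((sg M ⊗ P).homology i) :=
    fun M i hi => (subsingleton_HD_iff K M P hP1 e i).1 (h M i hi)
  obtain ⟨a', rfl⟩ : ∃ a' : ℤ, a = a' + 1 := ⟨a - 1, by ring⟩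
  have hW := flat_cokernel P hPflat a' (fun M => hvan M a' (by omega))
  haveI : P.IsGE (a' + 1) := by
    rw [CochainComplex.isGE_iff]
    intro i hi
    rw [exactAt_iff_isZero_homology]
    have h1 := hvan (𝟙_ (ModuleCat.{u} R)) i hi
    exact h1.of_iso ((homologyFunctor (ModuleCat.{u} R) (ComplexShape.up ℤ) i).mapIso (λ_ P)).symm
  haveI : IsIso (DerivedCategory.Q.map (P.πTruncGE (a' + 1))) :=
    (DerivedCategory.isIso_Q_map_iff_quasiIso _ _).2 inferInstance
  refine ⟨P.truncGE (a' + 1), (kflat_iff _).2 (kflat_truncGE P hPflat hP1 a' hW),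
    flat_truncGE_X P hPflat a' hW, fun i hi =>
      CochainComplex.isZero_of_isStrictlyGE (P.truncGE (a' + 1)) (a' + 1) i hi,
    ⟨(asIso (DerivedCategory.Q.map (P.πTruncGE (a' + 1)))).symm ≪≫ e⟩⟩

end Groth.Agent.Lib.Helper21.DRingTorGE
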