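import Mathlib

/-!
# Derivations and dimension in characteristic zero
-/

namespace Groth.Agent.Lib.Helper21.DerivDim

open IsLocalRing Pointwise

universe u

section Seidenberg

variable {R : Type*} [CommRing R]

theorem step (D : Derivation ℤ R R) (a x y : R) (e : ℕ) (h : a * x ^ (e + 1) * y = 0) :
    ((e + 1 : ℕ) : R) * (a ^ 2 * x ^ e * (y ^ 2 * D x)) = 0 := by
  have hD : D (a * x ^ (e + 1) * y) = 0 := by rw [h, map_zero]
  rw [Derivation.leibniz, Derivation.leibniz, Derivation.leibniz_pow] at hD
  simp only [smul_eq_mul, nsmul_eq_mul, Nat.add_sub_cancel] at hD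
  push_cast at hD ⊢
  linear_combination (a * y) * hD - (D a * y + a * D y) * h

theorem deriv_mem_aux (hQ : ∀ m : ℕ, 0 < m → IsUnit ((m : ℕ) : R)) (D : Derivation ℤ R R)
    (p : Ideal R) [p.IsPrime] (x : R) :
    ∀ (e : ℕ) (a y : R), a ∉ p → (y ∈ p → D x ∈ p) → a * x ^ e * y = 0 → D x ∈ p := by
  intro e
  induction e with
  | zero =>
    intro a y ha hy h
    rw [pow_zero, mul_one] at h
    have : a * y ∈ p := by rw [h]; exact p.zero_mem
    exact hy ((Ideal.IsPrime.mem_or_mem inferInstance this).resolve_left ha)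
  | succ e ih =>
    intro a y ha hy h
    have h1 := step D a x y e h
    have h2 : a ^ 2 * x ^ e * (y ^ 2 * D x) = 0 := (hQ (e + 1) (by lia)).mul_right_eq_zero.mp h1
    refine ih (a ^ 2) (y ^ 2 * D x) (fun h => ha (Ideal.IsPrime.mem_of_pow_mem inferInstance _ h))
      (fun h => ?_) h2
    rcases Ideal.IsPrime.mem_or_mem inferInstance h with h | h
    · exact hy (Ideal.IsPrime.mem_of_pow_mem inferInstance _ h)
    · exact h

theorem deriv_mem_of_mem_minimalPrimes (hQ : ∀ m : ℕ, 0 < m → IsUnit ((m : ℕ) : R))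
    (D : Derivation ℤ R R) (p : Ideal R) (hp : p ∈ minimalPrimes R) {x : R} (hx : x ∈ p) :
    D x ∈ p := by
  haveI : p.IsPrime := hp.1.1
  -- x is nilpotent in the localization at p
  have hnil : IsNilpotent (algebraMap R (Localization.AtPrime p) x) := by
    have h1 : algebraMap R (Localization.AtPrime p) x ∈
        nilradical (Localization.AtPrime p) := by
      rw [nilradical_eq_sInf, Ideal.mem_sInf]
      intro q hq
      have hq' : q.IsPrime := hq
      have hle : q.comap (algebraMap R (Localization.AtPrime p)) ≤ p := by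
        have := (IsLocalization.AtPrime.orderIsoOfPrime (Localization.AtPrime p) p ⟨q, hq'⟩).2.2
        exact this
      have heq : q.comap (algebraMap R (Localization.AtPrime p)) = p :=
        le_antisymm hle (hp.2 ⟨inferInstance, bot_le⟩ hle)
      have : x ∈ q.comap (algebraMap R (Localization.AtPrime p)) := by rw [heq]; exact hx
      exact this
    exact h1
  obtain ⟨m, hm⟩ := hnil
  rw [← map_pow, IsLocalization.map_eq_zero_iff p.primeCompl] at hm
  obtain ⟨s, hs⟩ := hm
  exact deriv_mem_aux hQ D p x m s 1 s.2 (fun h => absurd h (p.ne_top_iff_one.mp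
    (Ideal.IsPrime.ne_top inferInstance))) (by rw [mul_one]; exact hs)

end Seidenberg

section Dim

theorem dim_quot_succ_le {R : Type*} [CommRing R] (x : R)
    (hn : ∀ p ∈ minimalPrimes R, x ∉ p) :
    ringKrullDim (R ⧸ Ideal.span {x}) + 1 ≤ ringKrullDim R := by
  have h : Ideal.span {x} = x • (⊤ : Ideal R) := by
    simp [← Submodule.ideal_span_singleton_smul]
  rw [ringKrullDim_eq_of_ringEquiv (Ideal.quotientEquivAlgOfEq R h).toRingEquiv,
    ← Module.supportDim_quotient_eq_ringKrullDim, ← Module.supportDim_self_eq_ringKrullDim]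
  refine Module.supportDim_quotSMulTop_succ_le_of_notMem_minimalPrimes (M := R) ?_
  intro p hp
  rw [Module.annihilator_eq_bot.mpr inferInstance] at hp
  exact hn p hp

theorem dim_ge : ∀ (n : ℕ) (R : Type u) [CommRing R] [IsLocalRing R] [IsNoetherianRing R]
    (_ : ∀ m : ℕ, 0 < m → IsUnit ((m : ℕ) : R)) (x : Fin n → R)
    (_ : ∀ i, x i ∈ maximalIdeal R) (D : Fin n → Derivation ℤ R R)
    (_ : ∀ i j, D i (x j) = if i = j then 1 else 0), ((n : ℕ∞) : WithBot ℕ∞) ≤ ringKrullDim R := by
  intro n
  induction n with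
  | zero =>
    intro R _ _ _ _ _ _ _ _
    exact ringKrullDim_nonneg_of_nontrivial
  | succ n ih =>
    intro R _ _ _ hQ x hx D hD
    set y := x (Fin.last n) with hy
    have hymin : ∀ p ∈ minimalPrimes R, y ∉ p := by
      intro p hp hyp
      have h1 := deriv_mem_of_mem_minimalPrimes hQ (D (Fin.last n)) p hp hyp
      rw [hy, hD, if_pos rfl] at h1
      exact hp.1.1.ne_top ((Ideal.eq_top_iff_one p).mpr h1)
    have hne : Ideal.span {y} ≠ ⊤ := by
      intro h
      have : Ideal.span {y} ≤ maximalIdeal R := by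
        rw [Ideal.span_singleton_le_iff_mem]; exact hx _
      exact (maximalIdeal.isMaximal R).ne_top (top_le_iff.mp (h ▸ this))
    haveI : Nontrivial (R ⧸ Ideal.span {y}) := Ideal.Quotient.nontrivial_iff.mpr hne
    haveI : IsLocalRing (R ⧸ Ideal.span {y}) :=
      IsLocalRing.of_surjective' (Ideal.Quotient.mk _) Ideal.Quotient.mk_surjective
    have hsurj : Function.Surjective (Ideal.Quotient.mk (Ideal.span {y})).toIntAlgHom :=
      Ideal.Quotient.mk_surjective
    have hd : ∀ i : Fin n, ∀ z, (Ideal.Quotient.mk (Ideal.span {y})).toIntAlgHom z = 0 →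
        (Ideal.Quotient.mk (Ideal.span {y})).toIntAlgHom (D i.castSucc z) = 0 := by
      intro i z hz
      have hz' : z ∈ Ideal.span {y} := Ideal.Quotient.eq_zero_iff_mem.mp hz
      obtain ⟨a, rfl⟩ := Ideal.mem_span_singleton'.mp hz'
      refine Ideal.Quotient.eq_zero_iff_mem.mpr ?_
      rw [Derivation.leibniz, hy, hD, if_neg (Fin.castSucc_lt_last i).ne, smul_zero, zero_add,
        smul_eq_mul]
      exact Ideal.mul_mem_right _ _ (Ideal.mem_span_singleton_self _)
    have hyle : Ideal.span {y} ≤ Ideal.jacobson ⊥ := by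
      rw [IsLocalRing.jacobson_eq_maximalIdeal ⊥ bot_ne_top, Ideal.span_singleton_le_iff_mem]
      exact hx _
    haveI : IsLocalHom (Ideal.Quotient.mk (Ideal.span {y})) :=
      isLocalHom_of_le_jacobson_bot _ hyle
    have key := ih (R ⧸ Ideal.span {y})
      (fun m hm => by
        have := (hQ m hm).map (Ideal.Quotient.mk (Ideal.span {y}))
        rwa [map_natCast] at this)
      (fun i => Ideal.Quotient.mk _ (x i.castSucc))
      (fun i => by
        rw [IsLocalRing.mem_maximalIdeal, mem_nonunits_iff]
        intro h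
        exact (IsLocalRing.mem_maximalIdeal _).mp (hx i.castSucc)
          (isUnit_of_map_unit (Ideal.Quotient.mk (Ideal.span {y})) _ h))
      (fun i => Derivation.liftOfSurjective hsurj (hd i))
      (fun i j => by
        have := Derivation.liftOfSurjective_apply hsurj (hd i) (x j.castSucc)
        refine this.trans ?_
        rw [hD]
        simp only [Fin.castSucc_inj]
        split_ifs <;> simp)
    have h2 := dim_quot_succ_le y hymin
    refine le_trans ?_ h2
    have : ((n + 1 : ℕ) : ℕ∞) = (n : ℕ∞) + 1 := by push_cast; rfl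
    rw [this, WithBot.coe_add, WithBot.coe_one]
    exact add_le_add_left key 1

end Dim

end Groth.Agent.Lib.Helper21.DerivDim
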