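import Mathlib

/-!
# Dimension shifting along an exact chain complex
-/

set_option autoImplicit false
universe w v u
open CategoryTheory CategoryTheory.Limits CategoryTheory.Abelian

namespace Groth.Agent.Lib.Helper21.DimShift

variable {A : Type u} [Category.{v} A] [Abelian A] [HasExt.{w} A] (Z : A)
  (F : ChainComplex A ℕ)

/-- cycles in degree `n + 1` -/
noncomputable abbrev Zc (n : ℕ) : A := kernel (F.d (n + 1) n)

/-- the short complex `Z_{n+2} → F_{n+2} → Z_{n+1}` -/
noncomputable abbrev T (n : ℕ) : ShortComplex A :=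
  ShortComplex.mk (kernel.ι (F.d (n + 2) (n + 1)))
    (kernel.lift (F.d (n + 1) n) (F.d (n + 2) (n + 1)) (F.d_comp_d _ _ _))
    (by
      rw [← cancel_mono (kernel.ι (F.d (n + 1) n)), Category.assoc, kernel.lift_ι,
        kernel.condition, zero_comp])

lemma T_shortExact (n : ℕ) (h : F.ExactAt (n + 1)) : (T F n).ShortExact := by
  have h' : (F.sc' (n + 2) (n + 1) n).Exact :=
    (F.exactAt_iff' (n + 2) (n + 1) n (by simp) (by simp)).1 h
  have hepi : Epi (T F n).g := (ShortComplex.exact_iff_epi_kernel_lift _).1 h'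
  have hmono : Mono (T F n).f := inferInstanceAs (Mono (kernel.ι _))
  refine ⟨?_⟩
  apply ShortComplex.exact_of_f_is_kernel
  refine KernelFork.IsLimit.ofι _ _
    (fun {W} k hk => kernel.lift _ k (by
      have : k ≫ (T F n).g ≫ kernel.ι (F.d (n + 1) n) = 0 := by
        rw [← Category.assoc, hk, zero_comp]
      simpa only [T, kernel.lift_ι] using this))
    (fun {W} k hk => kernel.lift_ι _ _ _)
    (fun {W} k hk m hm => by
      apply (cancel_mono (kernel.ι (F.d (n + 2) (n + 1)))).1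
      rw [kernel.lift_ι]
      exact hm)

/-- the short complex `Z_1 → F_1 → F_0` -/
noncomputable abbrev T₀ : ShortComplex A :=
  ShortComplex.mk (kernel.ι (F.d 1 0)) (F.d 1 0) (kernel.condition _)

lemma T₀_shortExact (h : Epi (F.d 1 0)) : (T₀ F).ShortExact where
  exact := ShortComplex.exact_kernel _
  mono_f := inferInstanceAs (Mono (kernel.ι _))
  epi_g := h

lemma subsingleton_ext_of_isZero {K : A} (hK : IsZero K) (n : ℕ) :
    Subsingleton (Ext.{w} Z K n) := by
  refine ⟨fun x y => ?_⟩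
  have h : ∀ z : Ext.{w} Z K n, z = 0 := by
    intro z
    have h1 : z = z.comp (Ext.mk₀ (𝟙 K)) (add_zero n) := (Ext.comp_mk₀_id z).symm
    rw [h1, hK.eq_of_src (𝟙 K) 0, Ext.mk₀_zero, Ext.comp_zero]
  rw [h x, h y]

variable (r : ℕ)
  (hmono : Mono (F.d r (r - 1)))
  (hex : ∀ j : ℕ, 1 ≤ j → j < r → F.ExactAt j)
  (hvan : ∀ j : ℕ, 2 ≤ j → j ≤ r → Subsingleton (Ext.{w} Z (F.X j) (j - 1)))

include hmono hex hvan in
lemma subsingleton_ext_Zc : ∀ (k n : ℕ), n + 1 + k = r →
    Subsingleton (Ext.{w} Z (Zc F n) (n + 1)) := by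
  intro k
  induction k with
  | zero =>
    intro n hn
    obtain rfl : r = n + 1 := by omega
    haveI : Mono (F.d (n + 1) n) := hmono
    apply subsingleton_ext_of_isZero
    have h0 : kernel.ι (F.d (n + 1) n) = 0 := by
      rw [← cancel_mono (F.d (n + 1) n), kernel.condition, zero_comp]
    exact (IsZero.iff_id_eq_zero _).2 (by
      rw [← cancel_mono (kernel.ι (F.d (n + 1) n)), h0, comp_zero, comp_zero])
  | succ k ih =>
    intro n hn
    haveI := ih (n + 1) (by omega)
    have hS := T_shortExact F n (hex (n + 1) (by omega) (by omega))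
    haveI : Subsingleton (Ext.{w} Z (F.X (n + 2)) (n + 1)) := hvan (n + 2) (by omega) (by omega)
    refine ⟨fun x y => ?_⟩
    have h : ∀ z : Ext.{w} Z (Zc F n) (n + 1), z = 0 := by
      intro z
      obtain ⟨x₂, hx₂⟩ := Ext.covariant_sequence_exact₃ Z hS z (n₁ := n + 2) rfl
        (Subsingleton.elim _ _)
      rw [← hx₂, Subsingleton.elim x₂ 0, Ext.zero_comp]
    rw [h x, h y]

include hmono hex hvan in
theorem exists_lift (hr : 1 ≤ r) (hepi : Epi (F.d 1 0)) (x : Z ⟶ F.X 0) :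
    ∃ y : Z ⟶ F.X 1, y ≫ F.d 1 0 = x := by
  haveI := subsingleton_ext_Zc Z F r hmono hex hvan (r - 1) 0 (by omega)
  have hS := T₀_shortExact F hepi
  obtain ⟨x₂, hx₂⟩ := Ext.covariant_sequence_exact₃ Z hS (Ext.mk₀ x) (n₁ := 1) rfl
    (Subsingleton.elim _ _)
  obtain ⟨y, rfl⟩ := (Ext.mk₀_bijective _ _).2 x₂
  refine ⟨y, ?_⟩
  have h1 : (Ext.mk₀ y).comp (Ext.mk₀ (F.d 1 0)) (add_zero 0) = Ext.mk₀ x := hx₂
  rw [Ext.mk₀_comp_mk₀] at h1
  exact (Ext.mk₀_bijective _ _).1 h1

end Groth.Agent.Lib.Helper21.DimShift
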