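import Mathlib
import Groth.Prelude.Def_DRing4

/-!
# Dualizable complexes of modules are bounded with finite projective terms

If `N` is a dual of `M` for the tensor product of cochain complexes of `R`-modules, then `M` and `N`
are bounded and their terms are finite projective.  The proof unwinds the two triangle identities
summand by summand.
-/

set_option autoImplicit false
universe u
open CategoryTheory CategoryTheory.Limits MonoidalCategory HomologicalComplex TensorProduct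

namespace Groth.Agent.Lib.Helper21.DualCx

variable {R : Type u} [CommRing R]

/-! ## summand inclusions -/

/-- the inclusion of a summand in a tensor product of complexes -/
noncomputable def inc (K₁ K₂ : DRing.Cx R) (p q j : ℤ) (h : p + q = j) :
    K₁.X p ⊗ K₂.X q ⟶ (K₁ ⊗ K₂).X j :=
  ιTensorObj K₁ K₂ p q j h

lemma inc_hom_ext {K₁ K₂ : DRing.Cx R} {j : ℤ} {Y : ModuleCat.{u} R}
    {f g : (K₁ ⊗ K₂).X j ⟶ Y}
    (h : ∀ (p q : ℤ) (hpq : p + q = j), inc K₁ K₂ p q j hpq ≫ f = inc K₁ K₂ p q j hpq ≫ g) :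
    f = g :=
  mapBifunctor.hom_ext (K₁ := K₁) (K₂ := K₂) (F := curriedTensor (ModuleCat.{u} R))
    (c := ComplexShape.up ℤ) (fun p q hpq => h p q hpq)

@[reassoc]
lemma inc_tensorHom {K₁ L₁ K₂ L₂ : DRing.Cx R} (f₁ : K₁ ⟶ L₁) (f₂ : K₂ ⟶ L₂) (p q j : ℤ)
    (h : p + q = j) :
    inc K₁ K₂ p q j h ≫ (f₁ ⊗ₘ f₂).f j = (f₁.f p ⊗ₘ f₂.f q) ≫ inc L₁ L₂ p q j h := by
  have e := ι_mapBifunctorMap f₁ f₂ (curriedTensor (ModuleCat.{u} R)) (ComplexShape.up ℤ) p q j h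
  refine e.trans ?_
  rw [← Category.assoc]
  exact congrArg (fun t => t ≫ inc L₁ L₂ p q j h) (tensorHom_def (f₁.f p) (f₂.f q)).symm

@[reassoc]
lemma inc_whiskerRight {K₁ L₁ : DRing.Cx R} (f : K₁ ⟶ L₁) (K₂ : DRing.Cx R) (p q j : ℤ)
    (h : p + q = j) :
    inc K₁ K₂ p q j h ≫ (f ▷ K₂).f j = (f.f p ▷ K₂.X q) ≫ inc L₁ K₂ p q j h := by
  have e := inc_tensorHom f (𝟙 K₂) p q j h
  rw [tensorHom_id] at e
  rw [e, HomologicalComplex.id_f, tensorHom_id]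

@[reassoc]
lemma inc_whiskerLeft (K₁ : DRing.Cx R) {K₂ L₂ : DRing.Cx R} (g : K₂ ⟶ L₂) (p q j : ℤ)
    (h : p + q = j) :
    inc K₁ K₂ p q j h ≫ (K₁ ◁ g).f j = (K₁.X p ◁ g.f q) ≫ inc K₁ L₂ p q j h := by
  have e := inc_tensorHom (𝟙 K₁) g p q j h
  rw [id_tensorHom] at e
  rw [e, HomologicalComplex.id_f, id_tensorHom]

@[reassoc]
lemma inc_assoc_hom (K₁ K₂ K₃ : DRing.Cx R) (p q r pq qr j : ℤ) (h₁ : p + q = pq)
    (h₂ : pq + r = j) (h₃ : q + r = qr) (h₄ : p + qr = j) :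
    (inc K₁ K₂ p q pq h₁ ▷ K₃.X r) ≫ inc (K₁ ⊗ K₂) K₃ pq r j h₂ ≫ (α_ K₁ K₂ K₃).hom.f j =
      (α_ (K₁.X p) (K₂.X q) (K₃.X r)).hom ≫ (K₁.X p ◁ inc K₂ K₃ q r qr h₃) ≫
        inc K₁ (K₂ ⊗ K₃) p qr j h₄ := by
  subst h₁ h₃
  have hr : ComplexShape.r (ComplexShape.up ℤ) (ComplexShape.up ℤ) (ComplexShape.up ℤ)
      (ComplexShape.up ℤ) (ComplexShape.up ℤ) (p, q, r) = j := h₂
  have e1 := mapBifunctor₁₂.ι_eq (curriedTensor (ModuleCat.{u} R))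
    (curriedTensor (ModuleCat.{u} R)) K₁ K₂ K₃ (ComplexShape.up ℤ) (ComplexShape.up ℤ)
    p q r (p + q) j rfl h₂
  have e2 := mapBifunctor₂₃.ι_eq (curriedTensor (ModuleCat.{u} R))
    (curriedTensor (ModuleCat.{u} R)) K₁ K₂ K₃ (ComplexShape.up ℤ) (ComplexShape.up ℤ)
    (ComplexShape.up ℤ) p q r (q + r) j rfl h₄
  have e3 := ι_mapBifunctorAssociatorX_hom (curriedAssociatorNatIso (ModuleCat.{u} R)) K₁ K₂ K₃
    (ComplexShape.up ℤ) (ComplexShape.up ℤ) (ComplexShape.up ℤ) p q r j hr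
  rw [e1, e2] at e3
  exact (Category.assoc _ _ _).symm.trans e3

@[reassoc]
lemma inc_assoc_inv (K₁ K₂ K₃ : DRing.Cx R) (p q r pq qr j : ℤ) (h₁ : p + q = pq)
    (h₂ : pq + r = j) (h₃ : q + r = qr) (h₄ : p + qr = j) :
    (K₁.X p ◁ inc K₂ K₃ q r qr h₃) ≫ inc K₁ (K₂ ⊗ K₃) p qr j h₄ ≫ (α_ K₁ K₂ K₃).inv.f j =
      (α_ (K₁.X p) (K₂.X q) (K₃.X r)).inv ≫ (inc K₁ K₂ p q pq h₁ ▷ K₃.X r) ≫
        inc (K₁ ⊗ K₂) K₃ pq r j h₂ := by
  have h := inc_assoc_hom K₁ K₂ K₃ p q r pq qr j h₁ h₂ h₃ h₄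
  have hα : (α_ K₁ K₂ K₃).hom.f j ≫ (α_ K₁ K₂ K₃).inv.f j = 𝟙 _ := by
    rw [← HomologicalComplex.comp_f, Iso.hom_inv_id, HomologicalComplex.id_f]
  calc (K₁.X p ◁ inc K₂ K₃ q r qr h₃) ≫ inc K₁ (K₂ ⊗ K₃) p qr j h₄ ≫ (α_ K₁ K₂ K₃).inv.f j
      = (α_ (K₁.X p) (K₂.X q) (K₃.X r)).inv ≫ ((α_ (K₁.X p) (K₂.X q) (K₃.X r)).hom ≫
          (K₁.X p ◁ inc K₂ K₃ q r qr h₃) ≫ inc K₁ (K₂ ⊗ K₃) p qr j h₄) ≫
            (α_ K₁ K₂ K₃).inv.f j := by
        simp only [Category.assoc, Iso.inv_hom_id_assoc]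
    _ = (α_ (K₁.X p) (K₂.X q) (K₃.X r)).inv ≫ ((inc K₁ K₂ p q pq h₁ ▷ K₃.X r) ≫
          inc (K₁ ⊗ K₂) K₃ pq r j h₂ ≫ (α_ K₁ K₂ K₃).hom.f j) ≫ (α_ K₁ K₂ K₃).inv.f j := by
        rw [h]
    _ = _ := by
        simp only [Category.assoc, hα, Category.comp_id]

/-! ## the unit complex -/

/-- the unit complex in degree `0` is `R` -/
noncomputable def sIso : (𝟙_ (DRing.Cx R)).X 0 ≅ 𝟙_ (ModuleCat.{u} R) :=
  singleObjXSelf (ComplexShape.up ℤ) 0 (𝟙_ (ModuleCat.{u} R))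

lemma isZero_unit_X (k : ℤ) (hk : k ≠ 0) : IsZero ((𝟙_ (DRing.Cx R)).X k) :=
  isZero_single_obj_X (ComplexShape.up ℤ) 0 (𝟙_ (ModuleCat.{u} R)) k hk

lemma leftUnitor_inv_f (K : DRing.Cx R) (n : ℤ) :
    (λ_ K).inv.f n = (λ_ (K.X n)).inv ≫ ((sIso (R := R)).inv ▷ K.X n) ≫
      inc (𝟙_ (DRing.Cx R)) K 0 n n (zero_add n) :=
  HomologicalComplex.leftUnitor'_inv K n

lemma rightUnitor_inv_f (K : DRing.Cx R) (n : ℤ) :
    (ρ_ K).inv.f n = (ρ_ (K.X n)).inv ≫ (K.X n ◁ (sIso (R := R)).inv) ≫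
      inc K (𝟙_ (DRing.Cx R)) n 0 n (add_zero n) :=
  HomologicalComplex.rightUnitor'_inv K n

lemma inc_rightUnitor_hom (K : DRing.Cx R) (n : ℤ) :
    inc K (𝟙_ (DRing.Cx R)) n 0 n (add_zero n) ≫ (ρ_ K).hom.f n =
      (K.X n ◁ (sIso (R := R)).hom) ≫ (ρ_ (K.X n)).hom := by
  have h1 : (ρ_ K).inv.f n ≫ (ρ_ K).hom.f n = 𝟙 _ := by
    rw [← HomologicalComplex.comp_f, Iso.inv_hom_id, HomologicalComplex.id_f]
  have h' : inc K (𝟙_ (DRing.Cx R)) n 0 n (add_zero n) =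
      (K.X n ◁ (sIso (R := R)).hom) ≫ (ρ_ (K.X n)).hom ≫ (ρ_ K).inv.f n := by
    rw [rightUnitor_inv_f]
    simp
  rw [h', Category.assoc, Category.assoc, h1, Category.comp_id]

lemma inc_leftUnitor_hom (K : DRing.Cx R) (n : ℤ) :
    inc (𝟙_ (DRing.Cx R)) K 0 n n (zero_add n) ≫ (λ_ K).hom.f n =
      ((sIso (R := R)).hom ▷ K.X n) ≫ (λ_ (K.X n)).hom := by
  have h1 : (λ_ K).inv.f n ≫ (λ_ K).hom.f n = 𝟙 _ := by
    rw [← HomologicalComplex.comp_f, Iso.inv_hom_id, HomologicalComplex.id_f]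
  have h' : inc (𝟙_ (DRing.Cx R)) K 0 n n (zero_add n) =
      ((sIso (R := R)).hom ▷ K.X n) ≫ (λ_ (K.X n)).hom ≫ (λ_ K).inv.f n := by
    rw [leftUnitor_inv_f]
    simp
  rw [h', Category.assoc, Category.assoc, h1, Category.comp_id]

/-! ## pure tensors span -/

/-- the pure tensors in degree `j` -/
def pureSet (K₁ K₂ : DRing.Cx R) (j : ℤ) : Set ((K₁ ⊗ K₂).X j) :=
  {z | ∃ (p q : ℤ) (h : p + q = j) (x : K₁.X p) (y : K₂.X q),
    z = (inc K₁ K₂ p q j h).hom (x ⊗ₜ[R] y)}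

lemma span_pureSet (K₁ K₂ : DRing.Cx R) (j : ℤ) :
    Submodule.span R (pureSet K₁ K₂ j) = ⊤ := by
  let S := Submodule.span R (pureSet K₁ K₂ j)
  let π : (K₁ ⊗ K₂).X j ⟶ ModuleCat.of R (((K₁ ⊗ K₂).X j) ⧸ S) := ModuleCat.ofHom S.mkQ
  have hπ : π = 0 := by
    apply inc_hom_ext
    intro p q h
    rw [comp_zero]
    apply ModuleCat.MonoidalCategory.tensor_ext
    intro x y
    have hmem : (inc K₁ K₂ p q j h).hom (x ⊗ₜ[R] y) ∈ S :=
      Submodule.subset_span ⟨p, q, h, x, y, rfl⟩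
    exact (Submodule.Quotient.mk_eq_zero S).2 hmem
  rw [eq_top_iff]
  intro z _
  have h0 : S.mkQ z = 0 := congrArg (fun φ => φ.hom z) hπ
  exact (Submodule.Quotient.mk_eq_zero S).1 h0

/-! ## pure algebra -/

lemma finite_projective_of_decomp {X : Type u} [AddCommGroup X] [Module R X] (r : ℕ)
    (c : Fin r → R) (f : Fin r → (X →ₗ[R] R)) (g : Fin r → (R →ₗ[R] X))
    (h : ∀ m : X, m = ∑ i, c i • g i (f i m)) :
    Module.Finite R X ∧ Module.Projective R X := by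
  let ι : X →ₗ[R] (Fin r → R) := LinearMap.pi f
  let π : (Fin r → R) →ₗ[R] X := ∑ i, c i • ((g i).comp (LinearMap.proj i))
  have hπι : π.comp ι = LinearMap.id := by
    apply LinearMap.ext
    intro m
    have h1 : π (ι m) = ∑ i, c i • g i (f i m) := by
      simp only [π, ι, LinearMap.sum_apply, LinearMap.smul_apply, LinearMap.comp_apply,
        LinearMap.proj_apply, LinearMap.pi_apply]
    exact h1.trans (h m).symm
  have hsurj : Function.Surjective π := fun m => ⟨ι m, LinearMap.congr_fun hπι m⟩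
  exact ⟨Module.Finite.of_surjective π hsurj, Module.Projective.of_split ι π hπι⟩

theorem bounded_fp_of_decomp (K : DRing.Cx R) (r : ℕ) (c : Fin r → R) (ps : Fin r → ℤ)
    (H : ∀ n : ℤ, ∃ (f : Fin r → (K.X n →ₗ[R] R)) (g : Fin r → (R →ₗ[R] K.X n)),
      (∀ i, ps i ≠ n → g i = 0) ∧ ∀ m : K.X n, m = ∑ i, c i • g i (f i m)) :
    (∃ a b : ℤ, DRing.VanishesOutside K a b) ∧ DRing.TermwiseFiniteProjective K := by
  constructor
  · refine ⟨-(∑ i, |ps i|), ∑ i, |ps i|, fun n hn => ?_⟩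
    obtain ⟨f, g, hg, hfg⟩ := H n
    have hne : ∀ i, ps i ≠ n := fun i => by
      have h1 : |ps i| ≤ ∑ j, |ps j| :=
        Finset.single_le_sum (f := fun j => |ps j|) (fun j _ => abs_nonneg (ps j))
          (Finset.mem_univ i)
      have h2 := abs_le.1 h1
      intro h3
      rcases hn with hn | hn <;> omega
    have hz : ∀ m : K.X n, m = 0 := fun m =>
      (hfg m).trans (Finset.sum_eq_zero fun i _ => by
        rw [hg i (hne i), LinearMap.zero_apply, smul_zero])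
    have : Subsingleton (K.X n) := ⟨fun a b => (hz a).trans (hz b).symm⟩
    exact ModuleCat.isZero_of_subsingleton _
  · intro n
    obtain ⟨f, g, _, hfg⟩ := H n
    exact finite_projective_of_decomp r c f g hfg

/-! ## the first triangle identity -/

section Pairing

variable (M N : DRing.Cx R) [ExactPairing M N]

/-- the image of `1` under the coevaluation -/
noncomputable def w₀ : (M ⊗ N).X 0 := ((sIso (R := R)).inv ≫ (η_ M N).f 0).hom (1 : R)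

/-- contraction of `(M ⊗ N)⁰ ⊗ Mⁿ` to `Mⁿ` -/
noncomputable def A (n : ℤ) : (M ⊗ N).X 0 ⊗ M.X n ⟶ M.X n :=
  inc (M ⊗ N) M 0 n n (zero_add n) ≫ (α_ M N M).hom.f n ≫ (M ◁ ε_ M N).f n ≫ (ρ_ M).hom.f n

lemma A_identity (n : ℤ) :
    (λ_ (M.X n)).inv ≫ (((sIso (R := R)).inv ≫ (η_ M N).f 0) ▷ M.X n) ≫ A M N n =
      𝟙 (M.X n) := by
  have H := HomologicalComplex.congr_hom (ExactPairing.evaluation_coevaluation M N) n
  simp only [HomologicalComplex.comp_f] at H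
  have h1 : (λ_ M).inv.f n ≫ (λ_ M).hom.f n = 𝟙 _ := by
    rw [← HomologicalComplex.comp_f, Iso.inv_hom_id, HomologicalComplex.id_f]
  have h2 : (ρ_ M).inv.f n ≫ (ρ_ M).hom.f n = 𝟙 _ := by
    rw [← HomologicalComplex.comp_f, Iso.inv_hom_id, HomologicalComplex.id_f]
  calc (λ_ (M.X n)).inv ≫ (((sIso (R := R)).inv ≫ (η_ M N).f 0) ▷ M.X n) ≫ A M N n
      = (λ_ M).inv.f n ≫ ((η_ M N ▷ M).f n ≫ (α_ M N M).hom.f n ≫ (M ◁ ε_ M N).f n) ≫
          (ρ_ M).hom.f n := by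
        rw [leftUnitor_inv_f, A, comp_whiskerRight]
        simp only [Category.assoc]
        rw [inc_whiskerRight_assoc]
    _ = 𝟙 _ := by
        rw [H, Category.assoc, h2, Category.comp_id, h1]

lemma A_inc (n p q k : ℤ) (h : p + q = 0) (hk : q + n = k) (hpk : p + k = n) :
    (inc M N p q 0 h ▷ M.X n) ≫ A M N n =
      (α_ (M.X p) (N.X q) (M.X n)).hom ≫ (M.X p ◁ (inc N M q n k hk ≫ (ε_ M N).f k)) ≫
        inc M (𝟙_ (DRing.Cx R)) p k n hpk ≫ (ρ_ M).hom.f n := by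
  rw [A, inc_assoc_hom_assoc M N M p q n 0 k n h (zero_add n) hk hpk, inc_whiskerLeft_assoc]
  simp only [whiskerLeft_comp, Category.assoc]

lemma A_inc_eq_zero (n p q : ℤ) (h : p + q = 0) (hpn : p ≠ n) :
    (inc M N p q 0 h ▷ M.X n) ≫ A M N n = 0 := by
  have hk0 : q + n ≠ 0 := by omega
  rw [A_inc M N n p q (q + n) h rfl (by omega)]
  have h0 : inc N M q n (q + n) rfl ≫ (ε_ M N).f (q + n) = 0 :=
    (isZero_unit_X (R := R) (q + n) hk0).eq_of_tgt _ _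
  rw [h0, MonoidalPreadditive.whiskerLeft_zero, zero_comp, comp_zero]

lemma A_inc_self (n q : ℤ) (h : n + q = 0) (hk : q + n = 0) :
    (inc M N n q 0 h ▷ M.X n) ≫ A M N n =
      (α_ (M.X n) (N.X q) (M.X n)).hom ≫
        (M.X n ◁ (inc N M q n 0 hk ≫ (ε_ M N).f 0 ≫ (sIso (R := R)).hom)) ≫
          (ρ_ (M.X n)).hom := by
  rw [A_inc M N n n q 0 h hk (add_zero n), inc_rightUnitor_hom]
  simp only [whiskerLeft_comp, Category.assoc]

lemma A_w₀ (n : ℤ) (m : M.X n) : (A M N n).hom (w₀ M N ⊗ₜ[R] m) = m :=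
  congrArg (fun φ => φ.hom m) (A_identity M N n)

lemma A_pure_self (n q : ℤ) (h : n + q = 0) (hk : q + n = 0) (x : M.X n) (y : N.X q)
    (m : M.X n) :
    (A M N n).hom (((inc M N n q 0 h).hom (x ⊗ₜ[R] y)) ⊗ₜ[R] m) =
      ((inc N M q n 0 hk ≫ (ε_ M N).f 0 ≫ (sIso (R := R)).hom).hom (y ⊗ₜ[R] m)) • x :=
  congrArg (fun φ => φ.hom ((x ⊗ₜ[R] y) ⊗ₜ[R] m)) (A_inc_self M N n q h hk)

lemma A_pure_ne (n p q : ℤ) (h : p + q = 0) (hpn : p ≠ n) (x : M.X p) (y : N.X q)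
    (m : M.X n) :
    (A M N n).hom (((inc M N p q 0 h).hom (x ⊗ₜ[R] y)) ⊗ₜ[R] m) = 0 :=
  congrArg (fun φ => φ.hom ((x ⊗ₜ[R] y) ⊗ₜ[R] m)) (A_inc_eq_zero M N n p q h hpn)

lemma single_term_M (n p q : ℤ) (h : p + q = 0) (x : M.X p) (y : N.X q) :
    ∃ (f : M.X n →ₗ[R] R) (g : R →ₗ[R] M.X n), (p ≠ n → g = 0) ∧
      ∀ m : M.X n,
        (A M N n).hom (((inc M N p q 0 h).hom (x ⊗ₜ[R] y)) ⊗ₜ[R] m) = g (f m) := by
  by_cases hp : p = n
  · subst hp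
    have hk : q + p = 0 := by omega
    refine ⟨(inc N M q p 0 hk ≫ (ε_ M N).f 0 ≫ (sIso (R := R)).hom).hom ∘ₗ
        (TensorProduct.mk R (N.X q) (M.X p) y),
      LinearMap.toSpanSingleton R (M.X p) x, fun hne => absurd rfl hne, fun m => ?_⟩
    exact A_pure_self M N p q h hk x y m
  · refine ⟨0, 0, fun _ => rfl, fun m => ?_⟩
    rw [A_pure_ne M N n p q h hp x y m]
    rfl

include N in
theorem decomp_M : ∃ (r : ℕ) (c : Fin r → R) (ps : Fin r → ℤ), ∀ n : ℤ,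
    ∃ (f : Fin r → (M.X n →ₗ[R] R)) (g : Fin r → (R →ₗ[R] M.X n)),
      (∀ i, ps i ≠ n → g i = 0) ∧ ∀ m : M.X n, m = ∑ i, c i • g i (f i m) := by
  have hw : w₀ M N ∈ Submodule.span R (pureSet M N 0) := by
    rw [span_pureSet]
    trivial
  obtain ⟨r, c, z, hz⟩ := Submodule.mem_span_set'.1 hw
  have hz' : ∀ i, ∃ (p q : ℤ) (h : p + q = 0) (x : M.X p) (y : N.X q),
      (z i : (M ⊗ N).X 0) = (inc M N p q 0 h).hom (x ⊗ₜ[R] y) := fun i => (z i).2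
  choose p q h x y hzi using hz'
  refine ⟨r, c, p, fun n => ?_⟩
  have hst := fun i => single_term_M M N n (p i) (q i) (h i) (x i) (y i)
  choose f g hg hfg using hst
  refine ⟨f, g, hg, fun m => ?_⟩
  have hid := A_w₀ M N n m
  rw [← hz, TensorProduct.sum_tmul, map_sum] at hid
  refine hid.symm.trans (Finset.sum_congr rfl (fun i _ => ?_))
  rw [← TensorProduct.smul_tmul', map_smul, hzi i, hfg i m]

/-! ## the second triangle identity -/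

/-- contraction of `Nⁿ ⊗ (M ⊗ N)⁰` to `Nⁿ` -/
noncomputable def B (n : ℤ) : N.X n ⊗ (M ⊗ N).X 0 ⟶ N.X n :=
  inc N (M ⊗ N) n 0 n (add_zero n) ≫ (α_ N M N).inv.f n ≫ (ε_ M N ▷ N).f n ≫ (λ_ N).hom.f n

lemma B_identity (n : ℤ) :
    (ρ_ (N.X n)).inv ≫ (N.X n ◁ ((sIso (R := R)).inv ≫ (η_ M N).f 0)) ≫ B M N n =
      𝟙 (N.X n) := by
  have H := HomologicalComplex.congr_hom (ExactPairing.coevaluation_evaluation M N) n
  simp only [HomologicalComplex.comp_f] at H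
  have h1 : (λ_ N).inv.f n ≫ (λ_ N).hom.f n = 𝟙 _ := by
    rw [← HomologicalComplex.comp_f, Iso.inv_hom_id, HomologicalComplex.id_f]
  have h2 : (ρ_ N).inv.f n ≫ (ρ_ N).hom.f n = 𝟙 _ := by
    rw [← HomologicalComplex.comp_f, Iso.inv_hom_id, HomologicalComplex.id_f]
  calc (ρ_ (N.X n)).inv ≫ (N.X n ◁ ((sIso (R := R)).inv ≫ (η_ M N).f 0)) ≫ B M N n
      = (ρ_ N).inv.f n ≫ ((N ◁ η_ M N).f n ≫ (α_ N M N).inv.f n ≫ (ε_ M N ▷ N).f n) ≫
          (λ_ N).hom.f n := by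
        rw [rightUnitor_inv_f, B, whiskerLeft_comp]
        simp only [Category.assoc]
        rw [inc_whiskerLeft_assoc]
    _ = 𝟙 _ := by
        rw [H, Category.assoc, h1, Category.comp_id, h2]

lemma B_inc (n p q k : ℤ) (h : p + q = 0) (hk : n + p = k) (hkq : k + q = n) :
    (N.X n ◁ inc M N p q 0 h) ≫ B M N n =
      (α_ (N.X n) (M.X p) (N.X q)).inv ≫ ((inc N M n p k hk ≫ (ε_ M N).f k) ▷ N.X q) ≫
        inc (𝟙_ (DRing.Cx R)) N k q n hkq ≫ (λ_ N).hom.f n := by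
  rw [B, inc_assoc_inv_assoc N M N n p q k 0 n hk hkq h (add_zero n), inc_whiskerRight_assoc]
  simp only [comp_whiskerRight, Category.assoc]

lemma B_inc_eq_zero (n p q : ℤ) (h : p + q = 0) (hqn : q ≠ n) :
    (N.X n ◁ inc M N p q 0 h) ≫ B M N n = 0 := by
  have hk0 : n + p ≠ 0 := by omega
  rw [B_inc M N n p q (n + p) h rfl (by omega)]
  have h0 : inc N M n p (n + p) rfl ≫ (ε_ M N).f (n + p) = 0 :=
    (isZero_unit_X (R := R) (n + p) hk0).eq_of_tgt _ _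
  rw [h0, MonoidalPreadditive.zero_whiskerRight, zero_comp, comp_zero]

lemma B_inc_self (n p : ℤ) (h : p + n = 0) (hk : n + p = 0) :
    (N.X n ◁ inc M N p n 0 h) ≫ B M N n =
      (α_ (N.X n) (M.X p) (N.X n)).inv ≫
        ((inc N M n p 0 hk ≫ (ε_ M N).f 0 ≫ (sIso (R := R)).hom) ▷ N.X n) ≫
          (λ_ (N.X n)).hom := by
  rw [B_inc M N n p n 0 h hk (zero_add n), inc_leftUnitor_hom]
  simp only [comp_whiskerRight, Category.assoc]

lemma B_w₀ (n : ℤ) (y' : N.X n) : (B M N n).hom (y' ⊗ₜ[R] w₀ M N) = y' :=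
  congrArg (fun φ => φ.hom y') (B_identity M N n)

lemma B_pure_self (n p : ℤ) (h : p + n = 0) (hk : n + p = 0) (x : M.X p) (y : N.X n)
    (y' : N.X n) :
    (B M N n).hom (y' ⊗ₜ[R] ((inc M N p n 0 h).hom (x ⊗ₜ[R] y))) =
      ((inc N M n p 0 hk ≫ (ε_ M N).f 0 ≫ (sIso (R := R)).hom).hom (y' ⊗ₜ[R] x)) • y :=
  congrArg (fun φ => φ.hom (y' ⊗ₜ[R] (x ⊗ₜ[R] y))) (B_inc_self M N n p h hk)

lemma B_pure_ne (n p q : ℤ) (h : p + q = 0) (hqn : q ≠ n) (x : M.X p) (y : N.X q)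
    (y' : N.X n) :
    (B M N n).hom (y' ⊗ₜ[R] ((inc M N p q 0 h).hom (x ⊗ₜ[R] y))) = 0 :=
  congrArg (fun φ => φ.hom (y' ⊗ₜ[R] (x ⊗ₜ[R] y))) (B_inc_eq_zero M N n p q h hqn)

lemma single_term_N (n p q : ℤ) (h : p + q = 0) (x : M.X p) (y : N.X q) :
    ∃ (f : N.X n →ₗ[R] R) (g : R →ₗ[R] N.X n), (q ≠ n → g = 0) ∧
      ∀ y' : N.X n,
        (B M N n).hom (y' ⊗ₜ[R] ((inc M N p q 0 h).hom (x ⊗ₜ[R] y))) = g (f y') := by
  by_cases hq : q = n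
  · subst hq
    have hk : q + p = 0 := by omega
    refine ⟨(inc N M q p 0 hk ≫ (ε_ M N).f 0 ≫ (sIso (R := R)).hom).hom ∘ₗ
        ((TensorProduct.mk R (N.X q) (M.X p)).flip x),
      LinearMap.toSpanSingleton R (N.X q) y, fun hne => absurd rfl hne, fun y' => ?_⟩
    exact B_pure_self M N q p h hk x y y'
  · refine ⟨0, 0, fun _ => rfl, fun y' => ?_⟩
    rw [B_pure_ne M N n p q h hq x y y']
    rfl

include M in
theorem decomp_N : ∃ (r : ℕ) (c : Fin r → R) (qs : Fin r → ℤ), ∀ n : ℤ,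
    ∃ (f : Fin r → (N.X n →ₗ[R] R)) (g : Fin r → (R →ₗ[R] N.X n)),
      (∀ i, qs i ≠ n → g i = 0) ∧ ∀ m : N.X n, m = ∑ i, c i • g i (f i m) := by
  have hw : w₀ M N ∈ Submodule.span R (pureSet M N 0) := by
    rw [span_pureSet]
    trivial
  obtain ⟨r, c, z, hz⟩ := Submodule.mem_span_set'.1 hw
  have hz' : ∀ i, ∃ (p q : ℤ) (h : p + q = 0) (x : M.X p) (y : N.X q),
      (z i : (M ⊗ N).X 0) = (inc M N p q 0 h).hom (x ⊗ₜ[R] y) := fun i => (z i).2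
  choose p q h x y hzi using hz'
  refine ⟨r, c, q, fun n => ?_⟩
  have hst := fun i => single_term_N M N n (p i) (q i) (h i) (x i) (y i)
  choose f g hg hfg using hst
  refine ⟨f, g, hg, fun m => ?_⟩
  have hid := B_w₀ M N n m
  rw [← hz, TensorProduct.tmul_sum, map_sum] at hid
  refine hid.symm.trans (Finset.sum_congr rfl (fun i _ => ?_))
  rw [TensorProduct.tmul_smul, map_smul, hzi i, hfg i m]

theorem main : (∃ a b : ℤ, DRing.VanishesOutside M a b) ∧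
    (∃ a b : ℤ, DRing.VanishesOutside N a b) ∧
    DRing.TermwiseFiniteProjective M ∧ DRing.TermwiseFiniteProjective N := by
  obtain ⟨r, c, ps, H⟩ := decomp_M M N
  obtain ⟨r', c', qs, H'⟩ := decomp_N M N
  have h1 := bounded_fp_of_decomp M r c ps H
  have h2 := bounded_fp_of_decomp N r' c' qs H'
  exact ⟨h1.1, h2.1, h1.2, h2.2⟩

end Pairing

end Groth.Agent.Lib.Helper21.DualCx
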