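import Mathlib

namespace Groth.Agent.Lib.Helper21.Eisen

open MvPolynomial IsLocalRing

universe u

theorem eisenstein_local {A : Type u} [CommRing A] [IsLocalRing A]
    (hm : maximalIdeal A ^ 2 = ⊥) {r : ℕ} (d : Fin r → ℕ) (hd : ∀ i, 2 ≤ d i) (c : Fin r → ℕ → A)
    (hc : ∀ i k, c i k ∈ maximalIdeal A) :
    let F : Fin r → MvPolynomial (Fin r) A := fun i =>
      MvPolynomial.X i ^ d i + (Finset.range (d i)).sum fun k => MvPolynomial.C (c i k) * MvPolynomial.X i ^ k
    ∃ _ : IsLocalRing (MvPolynomial (Fin r) A ⧸ Ideal.span (Set.range F)),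
      Function.Surjective ((Ideal.Quotient.mk (maximalIdeal (MvPolynomial (Fin r) A ⧸ Ideal.span (Set.range F)))).comp
        (algebraMap A (MvPolynomial (Fin r) A ⧸ Ideal.span (Set.range F)))) ∧
      maximalIdeal A ⊓ Ideal.comap (algebraMap A (MvPolynomial (Fin r) A ⧸ Ideal.span (Set.range F)))
          (maximalIdeal (MvPolynomial (Fin r) A ⧸ Ideal.span (Set.range F)) ^ 2) =
        Ideal.span (Set.range fun i => c i 0) := by
  classical
  intro F
  set I := Ideal.span (Set.range F) with hI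
  set J : Ideal A := Ideal.span (Set.range fun i => c i 0) with hJ
  have hJm : J ≤ maximalIdeal A := by
    rw [hJ, Ideal.span_le]
    rintro _ ⟨i, rfl⟩
    exact hc i 0
  have hdpos : ∀ i, 0 < d i := fun i => lt_of_lt_of_le (by norm_num) (hd i)
  -- constant coefficient of `F i`
  have hF0 : ∀ i, constantCoeff (F i) = c i 0 := by
    intro i
    simp only [F, map_add, map_pow, constantCoeff_X, map_sum, map_mul, constantCoeff_C]
    rw [zero_pow (hdpos i).ne', zero_add,
      Finset.sum_eq_single 0]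
    · rw [pow_zero, mul_one]
    · intro k _ hk
      rw [zero_pow hk, mul_zero]
    · intro h
      exact absurd (Finset.mem_range.mpr (hdpos i)) h
  let π := Ideal.Quotient.mk I
  have halg : ∀ a : A, algebraMap A (MvPolynomial (Fin r) A ⧸ I) a = π (C a) := fun a => rfl
  -- the two evaluation maps
  have hIρ : ∀ g ∈ I, ((residue A).comp constantCoeff) g = 0 := by
    intro g hg
    induction hg using Submodule.span_induction with
    | mem g hg =>
      obtain ⟨i, rfl⟩ := hg
      rw [RingHom.comp_apply, hF0, residue_eq_zero_iff]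
      exact hc i 0
    | zero => exact map_zero _
    | add g g' _ _ h h' => rw [map_add, h, h', add_zero]
    | smul a g _ h => rw [smul_eq_mul, map_mul, h, mul_zero]
  have hIε : ∀ g ∈ I, ((Ideal.Quotient.mk J).comp constantCoeff) g = 0 := by
    intro g hg
    induction hg using Submodule.span_induction with
    | mem g hg =>
      obtain ⟨i, rfl⟩ := hg
      rw [RingHom.comp_apply, hF0, Ideal.Quotient.eq_zero_iff_mem]
      exact Ideal.subset_span ⟨i, rfl⟩
    | zero => exact map_zero _
    | add g g' _ _ h h' => rw [map_add, h, h', add_zero]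
    | smul a g _ h => rw [smul_eq_mul, map_mul, h, mul_zero]
  let ρ : (MvPolynomial (Fin r) A ⧸ I) →+* ResidueField A :=
    Ideal.Quotient.lift I ((residue A).comp constantCoeff) hIρ
  let ε : (MvPolynomial (Fin r) A ⧸ I) →+* A ⧸ J :=
    Ideal.Quotient.lift I ((Ideal.Quotient.mk J).comp constantCoeff) hIε
  have hρ : ∀ g, ρ (π g) = residue A (constantCoeff g) := fun g => rfl
  have hε : ∀ g, ε (π g) = Ideal.Quotient.mk J (constantCoeff g) := fun g => rfl
  set mQ := (maximalIdeal A).map (algebraMap A (MvPolynomial (Fin r) A ⧸ I)) with hmQ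
  set XQ : Ideal (MvPolynomial (Fin r) A ⧸ I) := Ideal.span (Set.range fun i => π (X i)) with hXQ
  have hmQ2 : ∀ n ∈ mQ, n * n = 0 := by
    intro n hn
    have h1 : n * n ∈ mQ ^ 2 := by
      rw [pow_two]; exact Ideal.mul_mem_mul hn hn
    rw [hmQ, ← Ideal.map_pow, hm, Ideal.map_bot] at h1
    exact h1
  have hmQρ : ∀ n ∈ mQ, ρ n = 0 := by
    intro n hn
    have h2 : ρ n * ρ n = 0 := by rw [← map_mul, hmQ2 n hn, map_zero]
    exact mul_self_eq_zero.mp h2
  have hXρ : ∀ n ∈ XQ, ρ n = 0 := by
    intro n hn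
    induction hn using Submodule.span_induction with
    | mem g hg =>
      obtain ⟨i, rfl⟩ := hg
      rw [hρ, constantCoeff_X, map_zero]
    | zero => exact map_zero _
    | add g g' _ _ h h' => rw [map_add, h, h', add_zero]
    | smul a g _ h => rw [smul_eq_mul, map_mul, h, mul_zero]
  -- relation in the quotient
  have hrel : ∀ i, π (X i) ^ d i = -∑ k ∈ Finset.range (d i), π (C (c i k)) * π (X i) ^ k := by
    intro i
    have h1 : π (F i) = 0 := Ideal.Quotient.eq_zero_iff_mem.mpr (Ideal.subset_span ⟨i, rfl⟩)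
    simp only [F, map_add, map_pow, map_sum, map_mul] at h1
    exact eq_neg_of_add_eq_zero_left h1
  have hCm : ∀ a ∈ maximalIdeal A, π (C a) ∈ mQ := fun a ha => Ideal.mem_map_of_mem _ ha
  have hxpow : ∀ i, π (X i) ^ d i ∈ mQ := by
    intro i
    rw [hrel]
    exact neg_mem (Ideal.sum_mem _ fun k _ => Ideal.mul_mem_right _ _ (hCm _ (hc i k)))
  have hnilX : ∀ i, IsNilpotent (π (X i)) := by
    intro i
    refine ⟨d i + d i, ?_⟩
    rw [pow_add]
    exact hmQ2 _ (hxpow i)
  have hNnil : mQ ⊔ XQ ≤ nilradical (MvPolynomial (Fin r) A ⧸ I) := by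
    refine sup_le ?_ ?_
    · intro n hn
      exact ⟨2, by rw [pow_two]; exact hmQ2 n hn⟩
    · rw [hXQ, Ideal.span_le]
      rintro _ ⟨i, rfl⟩
      exact hnilX i
  -- kernel of `ρ`
  have hker : ∀ z, ρ z = 0 → z ∈ mQ ⊔ XQ := by
    intro z hz
    obtain ⟨g, rfl⟩ := Ideal.Quotient.mk_surjective z
    rw [hρ, residue_eq_zero_iff] at hz
    have hsplit : g = C (constantCoeff g) + (g - C (constantCoeff g)) := by ring
    have h2 : g - C (constantCoeff g) ∈ Ideal.span (X '' (Set.univ : Set (Fin r)) :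
        Set (MvPolynomial (Fin r) A)) := by
      rw [mem_ideal_span_X_image]
      intro m hm
      have hm0 : m ≠ 0 := by
        rintro rfl
        rw [mem_support_iff, coeff_sub, coeff_C, if_pos rfl] at hm
        exact hm (sub_self _)
      obtain ⟨i, hi⟩ : ∃ i, m i ≠ 0 := by
        by_contra hcon
        push Not at hcon
        exact hm0 (Finsupp.ext hcon)
      exact ⟨i, Set.mem_univ i, hi⟩
    have h3 : π (g - C (constantCoeff g)) ∈ XQ := by
      have h4 : Ideal.map π (Ideal.span (X '' (Set.univ : Set (Fin r)) :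
          Set (MvPolynomial (Fin r) A))) ≤ XQ := by
        rw [Ideal.map_span, Ideal.span_le]
        rintro _ ⟨_, ⟨i, -, rfl⟩, rfl⟩
        exact Ideal.subset_span ⟨i, rfl⟩
      exact h4 (Ideal.mem_map_of_mem _ h2)
    rw [hsplit, map_add]
    exact add_mem (Submodule.mem_sup_left (hCm _ hz)) (Submodule.mem_sup_right h3)
  have hkerρ : ∀ z, z ∈ mQ ⊔ XQ → ρ z = 0 := by
    intro z hz
    obtain ⟨n, hn, w, hw, rfl⟩ := Submodule.mem_sup.mp hz
    rw [map_add, hmQρ n hn, hXρ w hw, add_zero]
  -- units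
  have hunit : ∀ z, ρ z ≠ 0 → IsUnit z := by
    intro z hz
    obtain ⟨a, ha⟩ := residue_surjective (ρ z)
    have haunit : IsUnit a := (residue_ne_zero_iff_isUnit a).mp (by rw [ha]; exact hz)
    have hρa : ρ (algebraMap A (MvPolynomial (Fin r) A ⧸ I) a) = ρ z := by
      rw [halg, hρ, constantCoeff_C, ha]
    have hnil : IsNilpotent (z - algebraMap A (MvPolynomial (Fin r) A ⧸ I) a) :=
      hNnil (hker _ (by rw [map_sub, hρa, sub_self]))
    have h2 := hnil.isUnit_add_left_of_commute (haunit.map (algebraMap A _)) (Commute.all _ _)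
    have h3 : algebraMap A (MvPolynomial (Fin r) A ⧸ I) a +
        (z - algebraMap A (MvPolynomial (Fin r) A ⧸ I) a) = z := by ring
    rwa [h3] at h2
  haveI : Nontrivial (MvPolynomial (Fin r) A ⧸ I) := ρ.domain_nontrivial
  have hnonunit : ∀ z : MvPolynomial (Fin r) A ⧸ I,
      z ∈ nonunits (MvPolynomial (Fin r) A ⧸ I) ↔ ρ z = 0 := by
    intro z
    constructor
    · intro hz
      by_contra h
      exact hz (hunit z h)
    · intro hz hzu
      exact (hzu.map ρ).ne_zero hz
  have hloc : IsLocalRing (MvPolynomial (Fin r) A ⧸ I) := by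
    apply IsLocalRing.of_nonunits_add
    intro z w hz hw
    rw [hnonunit] at hz hw ⊢
    rw [map_add, hz, hw, add_zero]
  refine ⟨hloc, ?_, ?_⟩
  · -- surjectivity onto the residue field
    intro q
    obtain ⟨z, rfl⟩ := Ideal.Quotient.mk_surjective q
    obtain ⟨a, ha⟩ := residue_surjective (ρ z)
    refine ⟨a, ?_⟩
    rw [RingHom.comp_apply, Ideal.Quotient.eq, IsLocalRing.mem_maximalIdeal, hnonunit, map_sub,
      halg, hρ, constantCoeff_C, ha, sub_self]
  · -- the kernel statement
    have hmaxle : maximalIdeal (MvPolynomial (Fin r) A ⧸ I) ≤ mQ ⊔ XQ := by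
      intro z hz
      rw [IsLocalRing.mem_maximalIdeal, hnonunit] at hz
      exact hker z hz
    have hmaxge : mQ ⊔ XQ ≤ maximalIdeal (MvPolynomial (Fin r) A ⧸ I) := by
      intro z hz
      rw [IsLocalRing.mem_maximalIdeal, hnonunit]
      exact hkerρ z hz
    apply le_antisymm
    · rintro a ⟨ha1, ha2⟩
      have ha3 : algebraMap A (MvPolynomial (Fin r) A ⧸ I) a ∈
          maximalIdeal (MvPolynomial (Fin r) A ⧸ I) ^ 2 := ha2
      -- apply `ε`
      have hεmax : Ideal.map ε (maximalIdeal (MvPolynomial (Fin r) A ⧸ I)) ≤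
          Ideal.map (Ideal.Quotient.mk J) (maximalIdeal A) := by
        rw [Ideal.map_le_iff_le_comap]
        refine hmaxle.trans (sup_le ?_ ?_)
        · rw [hmQ, Ideal.map_le_iff_le_comap]
          intro m hm'
          rw [Ideal.mem_comap, Ideal.mem_comap, halg, hε, constantCoeff_C]
          exact Ideal.mem_map_of_mem _ hm'
        · rw [hXQ, Ideal.span_le]
          rintro _ ⟨i, rfl⟩
          rw [SetLike.mem_coe, Ideal.mem_comap, hε, constantCoeff_X, map_zero]
          exact zero_mem _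
      have h1 : ε (algebraMap A (MvPolynomial (Fin r) A ⧸ I) a) ∈
          Ideal.map ε (maximalIdeal (MvPolynomial (Fin r) A ⧸ I) ^ 2) :=
        Ideal.mem_map_of_mem _ ha3
      rw [Ideal.map_pow] at h1
      have h2 : Ideal.map ε (maximalIdeal (MvPolynomial (Fin r) A ⧸ I)) ^ 2 ≤
          Ideal.map (Ideal.Quotient.mk J) (maximalIdeal A) ^ 2 := Ideal.pow_right_mono hεmax 2
      have h3 := h2 h1
      rw [← Ideal.map_pow, hm, Ideal.map_bot, Ideal.mem_bot, halg, hε, constantCoeff_C,
        Ideal.Quotient.eq_zero_iff_mem] at h3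
      exact h3
    · rw [hJ, Ideal.span_le]
      rintro _ ⟨i, rfl⟩
      refine ⟨hc i 0, ?_⟩
      rw [SetLike.mem_coe, Ideal.mem_comap, halg]
      -- `c i 0 = -(x^d + Σ_{k≥1} c_k x^k)`
      have h0 : π (C (c i 0)) = -(π (X i) ^ d i +
          ∑ k ∈ Finset.Ico 1 (d i), π (C (c i k)) * π (X i) ^ k) := by
        have h1 := hrel i
        rw [Finset.range_eq_Ico, Finset.sum_eq_sum_Ico_succ_bot (hdpos i), pow_zero, mul_one] at h1
        rw [zero_add] at h1
        linear_combination h1
      rw [h0]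
      have hXmax : ∀ j, π (X j) ∈ maximalIdeal (MvPolynomial (Fin r) A ⧸ I) := fun j =>
        hmaxge (Submodule.mem_sup_right (Ideal.subset_span ⟨j, rfl⟩))
      have hCmax : ∀ a ∈ maximalIdeal A, π (C a) ∈ maximalIdeal (MvPolynomial (Fin r) A ⧸ I) :=
        fun a ha => hmaxge (Submodule.mem_sup_left (hCm a ha))
      refine neg_mem (add_mem ?_ (Ideal.sum_mem _ fun k hk => ?_))
      · exact Ideal.pow_le_pow_right (hd i) (Ideal.pow_mem_pow (hXmax i) (d i))
      · rw [pow_two]
        have hk1 : 1 ≤ k := (Finset.mem_Ico.mp hk).1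
        obtain ⟨k', rfl⟩ : ∃ k', k = k' + 1 := ⟨k - 1, by omega⟩
        rw [pow_succ]
        have : π (C (c i (k' + 1))) * (π (X i) ^ k' * π (X i)) =
            π (C (c i (k' + 1))) * (π (X i) * π (X i) ^ k') := by ring
        rw [this, ← mul_assoc]
        exact Ideal.mul_mem_right _ _ (Ideal.mul_mem_mul (hCmax _ (hc i _)) (hXmax i))

end Groth.Agent.Lib.Helper21.Eisen
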