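import Mathlib

open PowerSeries

namespace Groth.Agent.Lib.Helper21.ExpLaurent

/-- uniqueness: same logarithmic derivative and constant term 1 -/
theorem eq_of_derivative_mul_eq (F G : PowerSeries ℚ) (hF : constantCoeff F = 1)
    (hG : constantCoeff G = 1)
    (h : PowerSeries.derivative ℚ F * G = F * PowerSeries.derivative ℚ G) : F = G := by
  have hG0 : constantCoeff G ≠ 0 := by rw [hG]; exact one_ne_zero
  have hGinv : G * G⁻¹ = 1 := PowerSeries.mul_inv_cancel G hG0
  have hd : PowerSeries.derivative ℚ (F * G⁻¹) = PowerSeries.derivative ℚ 1 := by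
    rw [Derivation.leibniz, PowerSeries.derivative_inv', PowerSeries.derivative_one]
    simp only [smul_eq_mul]
    have : F * (-G⁻¹ ^ 2 * PowerSeries.derivative ℚ G) + G⁻¹ * PowerSeries.derivative ℚ F =
        G⁻¹ ^ 2 * (PowerSeries.derivative ℚ F * G - F * PowerSeries.derivative ℚ G) +
          G⁻¹ * PowerSeries.derivative ℚ F * (1 - G * G⁻¹) := by ring
    rw [this, h, hGinv]; ring
  have hc : constantCoeff (F * G⁻¹) = constantCoeff (1 : PowerSeries ℚ) := by
    rw [map_mul, PowerSeries.constantCoeff_inv, hF, hG]; simp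
  have := PowerSeries.derivative.ext hd hc
  calc F = F * (G * G⁻¹) := by rw [hGinv, mul_one]
    _ = (F * G⁻¹) * G := by ring
    _ = G := by rw [this, one_mul]

/-- the geometric series -/
noncomputable def geo (a : ℚ) : PowerSeries ℚ := PowerSeries.mk fun v => a ^ v

theorem lin_mul_geo (a : ℚ) : (1 - PowerSeries.C a * PowerSeries.X) * geo a = 1 := by
  have h := congrArg (PowerSeries.rescale a) (PowerSeries.mk_one_mul_one_sub_eq_one ℚ)
  rw [map_mul, map_sub, map_one, PowerSeries.rescale_X, PowerSeries.rescale_mk] at h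
  rw [mul_comm]
  convert h using 2
  ext v; simp [geo]

theorem derivative_lin (a : ℚ) :
    PowerSeries.derivative ℚ (1 - PowerSeries.C a * PowerSeries.X) = - PowerSeries.C a := by
  rw [map_sub, PowerSeries.derivative_one, Derivation.leibniz, PowerSeries.derivative_C,
    PowerSeries.derivative_X]
  simp

theorem derivative_lin_pow (a : ℚ) (e : ℕ) :
    PowerSeries.derivative ℚ ((1 - PowerSeries.C a * PowerSeries.X) ^ e) =
      (1 - PowerSeries.C a * PowerSeries.X) ^ e * ((e : PowerSeries ℚ) * (- PowerSeries.C a) * geo a) := by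
  rw [PowerSeries.derivative_pow, derivative_lin]
  cases e with
  | zero => simp
  | succ k =>
    rw [Nat.add_sub_cancel, pow_succ]
    have := lin_mul_geo a
    calc ((k + 1 : ℕ) : PowerSeries ℚ) * (1 - C a * X) ^ k * -C a
        = ((k + 1 : ℕ) : PowerSeries ℚ) * (1 - C a * X) ^ k * -C a * ((1 - C a * X) * geo a) := by
          rw [this, mul_one]
      _ = _ := by ring

theorem derivative_prod {ι : Type*} (s : Finset ι) (a : ι → ℚ) (e : ι → ℕ) :
    PowerSeries.derivative ℚ (∏ n ∈ s, (1 - PowerSeries.C (a n) * PowerSeries.X) ^ e n) =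
      (∏ n ∈ s, (1 - PowerSeries.C (a n) * PowerSeries.X) ^ e n) *
        ∑ n ∈ s, ((e n : PowerSeries ℚ) * (- PowerSeries.C (a n)) * geo (a n)) := by
  classical
  induction s using Finset.induction_on with
  | empty => simp
  | insert i s hi ih =>
    rw [Finset.prod_insert hi, Finset.sum_insert hi, Derivation.leibniz, ih, derivative_lin_pow]
    simp only [smul_eq_mul]
    ring


theorem constantCoeff_exp_subst (L : PowerSeries ℚ) (hL : constantCoeff L = 0) :
    constantCoeff ((PowerSeries.exp ℚ).subst L) = 1 := by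
  have hs : HasSubst L := HasSubst.of_constantCoeff_zero' hL
  rw [← coeff_zero_eq_constantCoeff_apply, coeff_subst' hs, finsum_eq_single _ 0]
  · simp
  · intro d hd
    rw [coeff_zero_eq_constantCoeff_apply, map_pow, hL, zero_pow hd, smul_zero]

theorem derivative_exp_subst (L : PowerSeries ℚ) (hL : constantCoeff L = 0) :
    PowerSeries.derivative ℚ ((PowerSeries.exp ℚ).subst L) =
      (PowerSeries.exp ℚ).subst L * PowerSeries.derivative ℚ L := by
  have hs : HasSubst L := HasSubst.of_constantCoeff_zero' hL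
  rw [derivative_subst hs, derivative_exp]

theorem constantCoeff_prod {ι : Type*} (s : Finset ι) (a : ι → ℚ) (e : ι → ℕ) :
    constantCoeff (∏ n ∈ s, (1 - PowerSeries.C (a n) * PowerSeries.X) ^ e n) = 1 := by
  rw [map_prod]
  apply Finset.prod_eq_one
  intro i _
  simp

theorem main {ι : Type*} (s : Finset ι) (a : ι → ℚ) (c : ι → ℤ) :
    (PowerSeries.exp ℚ).subst
        (PowerSeries.mk fun v : ℕ => if v = 0 then (0 : ℚ)
          else (∑ n ∈ s, (c n : ℚ) * a n ^ v) / (v : ℚ))
      * ∏ n ∈ s, (1 - PowerSeries.C (a n) * PowerSeries.X) ^ (c n).toNat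
    = ∏ n ∈ s, (1 - PowerSeries.C (a n) * PowerSeries.X) ^ (-(c n)).toNat := by
  set L : PowerSeries ℚ := PowerSeries.mk fun v : ℕ => if v = 0 then (0 : ℚ)
          else (∑ n ∈ s, (c n : ℚ) * a n ^ v) / (v : ℚ) with hLdef
  have hL : constantCoeff L = 0 := by
    rw [← coeff_zero_eq_constantCoeff_apply, hLdef, coeff_mk]; simp
  have hdL : PowerSeries.derivative ℚ L =
      ∑ n ∈ s, ((((-(c n)).toNat : ℕ) : PowerSeries ℚ) * (- PowerSeries.C (a n)) * geo (a n))
      - ∑ n ∈ s, ((((c n).toNat : ℕ) : PowerSeries ℚ) * (- PowerSeries.C (a n)) * geo (a n)) := by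
    rw [← Finset.sum_sub_distrib]
    ext v
    rw [coeff_derivative, hLdef, coeff_mk, if_neg (Nat.succ_ne_zero v), map_sum]
    have hv : ((v + 1 : ℕ) : ℚ) ≠ 0 := by positivity
    rw [div_mul_eq_mul_div]
    push_cast
    rw [mul_div_assoc, div_self (by exact_mod_cast hv), mul_one]
    apply Finset.sum_congr rfl
    intro n _
    have hc : (c n : ℚ) = (((c n).toNat : ℕ) : ℚ) - (((-(c n)).toNat : ℕ) : ℚ) := by
      have := Int.toNat_sub_toNat_neg (c n)
      have h2 := congrArg (Int.cast : ℤ → ℚ) this
      rw [Int.cast_sub, Int.cast_natCast, Int.cast_natCast] at h2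
      exact h2.symm
    have e1 : ∀ (k : ℕ), coeff v ((k : PowerSeries ℚ) * (- PowerSeries.C (a n)) * geo (a n))
        = - ((k : ℚ) * a n ^ (v + 1)) := by
      intro k
      have : (k : PowerSeries ℚ) * (- PowerSeries.C (a n)) * geo (a n)
          = PowerSeries.C (-(k : ℚ) * a n) * geo (a n) := by
        rw [map_mul, map_neg, map_natCast]; ring
      rw [this, coeff_C_mul, geo, coeff_mk]; ring
    rw [map_sub, e1, e1, hc]; ring
  apply eq_of_derivative_mul_eq
  · rw [map_mul, constantCoeff_exp_subst L hL, constantCoeff_prod, one_mul]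
  · exact constantCoeff_prod _ _ _
  · rw [Derivation.leibniz, derivative_prod, derivative_prod, derivative_exp_subst L hL, hdL]
    simp only [smul_eq_mul]
    ring

end Groth.Agent.Lib.Helper21.ExpLaurent
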