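import Mathlib
import Groth.Agent.Lib.Helper21.FlatSmoothH

/-!
# Helper library (helper21): derivations and adic formal smoothness over a non-field base

`Λ → A → B`, `J` an ideal of `B`.  If `B` is `J`-adically formally smooth over `A` then every
`Λ`-derivation of `A` into a `B ⧸ J`-module extends to `B`; hence
`Ω_{A/Λ} ⊗_A B/J → Ω_{B/Λ} ⊗_B B/J` has a left inverse.
-/

set_option autoImplicit false

namespace Groth.Agent.Lib.Helper21.JacAdicF

open TensorProduct KaehlerDifferential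

universe u

section tw

variable {Λ A K N : Type*} [CommRing Λ] [CommRing A] [CommRing K] [Algebra Λ A] [Algebra A K]
  [AddCommGroup N] [Module K N] [Module Kᵐᵒᵖ N] [IsCentralScalar K N] [Module A N]
  [IsScalarTower A K N] [Module Λ N]

theorem snd_mul' (z w : TrivSqZeroExt K N) :
    TrivSqZeroExt.snd (z * w) = z.fst • w.snd + w.fst • z.snd := by
  rw [TrivSqZeroExt.snd_mul, op_smul_eq_smul]

theorem mul_eq_zero' (z w : TrivSqZeroExt K N) (hz : z.fst = 0) (hw : w.fst = 0) : z * w = 0 := by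
  apply TrivSqZeroExt.ext
  · rw [TrivSqZeroExt.fst_mul, hz, zero_mul, TrivSqZeroExt.fst_zero]
  · rw [snd_mul', hz, hw, zero_smul, zero_smul, add_zero, TrivSqZeroExt.snd_zero]

/-- the ring hom `x ↦ x + δ(x) ε` -/
def twHom (δ : Derivation Λ A N) : A →+* TrivSqZeroExt K N where
  toFun x := TrivSqZeroExt.inl (algebraMap A K x) + TrivSqZeroExt.inr (δ x)
  map_one' := by
    apply TrivSqZeroExt.ext
    · simp only [TrivSqZeroExt.fst_add, TrivSqZeroExt.fst_inl, TrivSqZeroExt.fst_inr, map_one,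
        add_zero, TrivSqZeroExt.fst_one]
    · simp only [TrivSqZeroExt.snd_add, TrivSqZeroExt.snd_inl, TrivSqZeroExt.snd_inr,
        Derivation.map_one_eq_zero, add_zero, TrivSqZeroExt.snd_one]
  map_mul' x y := by
    apply TrivSqZeroExt.ext
    · simp only [TrivSqZeroExt.fst_add, TrivSqZeroExt.fst_inl, TrivSqZeroExt.fst_inr, map_mul,
        add_zero, TrivSqZeroExt.fst_mul]
    · rw [snd_mul']
      simp only [TrivSqZeroExt.snd_add, TrivSqZeroExt.snd_inl, TrivSqZeroExt.snd_inr,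
        Derivation.leibniz, zero_add, TrivSqZeroExt.fst_add,
        TrivSqZeroExt.fst_inl, TrivSqZeroExt.fst_inr, add_zero, algebraMap_smul]
  map_zero' := by
    apply TrivSqZeroExt.ext
    · simp only [TrivSqZeroExt.fst_add, TrivSqZeroExt.fst_inl, TrivSqZeroExt.fst_inr, map_zero,
        add_zero, TrivSqZeroExt.fst_zero]
    · simp only [TrivSqZeroExt.snd_add, TrivSqZeroExt.snd_inl, TrivSqZeroExt.snd_inr,
        map_zero, add_zero, TrivSqZeroExt.snd_zero]
  map_add' x y := by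
    apply TrivSqZeroExt.ext
    · simp only [TrivSqZeroExt.fst_add, TrivSqZeroExt.fst_inl, TrivSqZeroExt.fst_inr, map_add,
        add_zero]
    · simp only [TrivSqZeroExt.snd_add, TrivSqZeroExt.snd_inl, TrivSqZeroExt.snd_inr,
        map_add, zero_add]

theorem fst_twHom (δ : Derivation Λ A N) (x : A) :
    TrivSqZeroExt.fst (twHom (K := K) δ x) = algebraMap A K x := by
  show TrivSqZeroExt.fst (TrivSqZeroExt.inl (algebraMap A K x) + TrivSqZeroExt.inr (δ x)) = _
  simp only [TrivSqZeroExt.fst_add, TrivSqZeroExt.fst_inl, TrivSqZeroExt.fst_inr, add_zero]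

theorem snd_twHom (δ : Derivation Λ A N) (x : A) :
    TrivSqZeroExt.snd (twHom (K := K) δ x) = δ x := by
  show TrivSqZeroExt.snd (TrivSqZeroExt.inl (algebraMap A K x) + TrivSqZeroExt.inr (δ x)) = _
  simp only [TrivSqZeroExt.snd_add, TrivSqZeroExt.snd_inl, TrivSqZeroExt.snd_inr, zero_add]

end tw

section ext

open Groth.Agent.Lib.Helper21.FlatSmooth

variable {Λ A B : Type u} [CommRing Λ] [CommRing A] [CommRing B] [Algebra Λ A] [Algebra A B]
  [Algebra Λ B] [IsScalarTower Λ A B] {J : Ideal B}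

/-- adic formal smoothness of `B` over `A`: derivations of `A` into `B ⧸ J`-modules extend -/
theorem exists_derivation_of_isAdicFormallySmooth
    (h : CAlgX.IsAdicFormallySmooth A B J)
    (N : Type u) [AddCommGroup N] [Module (B ⧸ J) N] [Module (B ⧸ J)ᵐᵒᵖ N]
    [IsCentralScalar (B ⧸ J) N] [Module B N] [IsScalarTower B (B ⧸ J) N] [Module A N]
    [IsScalarTower A B N] [IsScalarTower A (B ⧸ J) N] [Module Λ N] [IsScalarTower Λ A N]
    (δ : Derivation Λ A N) :
    ∃ D : Derivation Λ B N, ∀ x, D (algebraMap A B x) = δ x := by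
  let K := B ⧸ J
  let twAlg : Algebra A (TrivSqZeroExt K N) := (twHom (K := K) δ).toAlgebra
  have halg : ∀ a, algebraMap A (TrivSqZeroExt K N) a = twHom (K := K) δ a := fun a => rfl
  let π : TrivSqZeroExt K N →ₐ[A] K :=
    { toFun := TrivSqZeroExt.fst
      map_one' := TrivSqZeroExt.fst_one
      map_mul' := TrivSqZeroExt.fst_mul
      map_zero' := TrivSqZeroExt.fst_zero
      map_add' := TrivSqZeroExt.fst_add
      commutes' := fun x => fst_twHom δ x }
  have hπ : Function.Surjective π := fun c => ⟨TrivSqZeroExt.inl c, TrivSqZeroExt.fst_inl N c⟩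
  have hsq : RingHom.ker π ^ 2 = ⊥ := by
    apply le_bot_iff.mp
    have hpw : RingHom.ker π ^ 2 = RingHom.ker π * RingHom.ker π := pow_two _
    rw [hpw, Ideal.mul_le]
    intro z hz w hw
    rw [Ideal.mem_bot]
    exact mul_eq_zero' z w hz hw
  let φ : B →ₐ[A] K := IsScalarTower.toAlgHom A B K
  have hφ : ∃ m : ℕ, ∀ x ∈ J ^ m, φ x = 0 :=
    ⟨1, fun x hx => by rw [pow_one] at hx; exact Ideal.Quotient.eq_zero_iff_mem.mpr hx⟩
  obtain ⟨χ, hχ⟩ := lifts_of_isAdicFormallySmooth h π hπ hsq φ hφ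
  have hfst : ∀ b, (χ b).fst = algebraMap B K b := fun b => AlgHom.congr_fun hχ b
  let D : Derivation Λ B N := Derivation.mk'
    { toFun := fun b => (χ b).snd
      map_add' := fun a b => by rw [map_add, TrivSqZeroExt.snd_add]
      map_smul' := fun l b => by
        show (χ (l • b)).snd = l • (χ b).snd
        rw [Algebra.smul_def l b, IsScalarTower.algebraMap_apply Λ A B, map_mul, χ.commutes, halg,
          snd_mul', fst_twHom, snd_twHom, Derivation.map_algebraMap, smul_zero, add_zero,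
          algebraMap_smul, algebraMap_smul] }
    (fun a b => by
      show (χ (a * b)).snd = a • (χ b).snd + b • (χ a).snd
      rw [map_mul, snd_mul', hfst, hfst, algebraMap_smul, algebraMap_smul])
  refine ⟨D, fun x => ?_⟩
  show (χ (algebraMap A B x)).snd = δ x
  rw [χ.commutes]
  exact snd_twHom δ x

variable (Λ A B) in
/-- adic formal smoothness of `B` over `A`: the map on differentials has a left inverse mod `J` -/
theorem exists_leftInverse_of_isAdicFormallySmooth (h : CAlgX.IsAdicFormallySmooth A B J) :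
    ∃ ρ : (B ⧸ J) ⊗[B] Ω[B⁄Λ] →ₗ[B ⧸ J] (B ⧸ J) ⊗[B] (B ⊗[A] Ω[A⁄Λ]),
      ρ ∘ₗ (mapBaseChange Λ A B).baseChange (B ⧸ J) = LinearMap.id := by
  let K := B ⧸ J
  let N₀ := K ⊗[B] (B ⊗[A] Ω[A⁄Λ])
  let g₀ : Ω[A⁄Λ] →ₗ[A] N₀ :=
    ((TensorProduct.mk B K (B ⊗[A] Ω[A⁄Λ]) 1).restrictScalars A) ∘ₗ (TensorProduct.mk A B Ω[A⁄Λ] 1)
  let δ : Derivation Λ A N₀ := g₀.compDer (KaehlerDifferential.D Λ A)
  obtain ⟨D, hD⟩ := exists_derivation_of_isAdicFormallySmooth h N₀ δ
  let ρ : K ⊗[B] Ω[B⁄Λ] →ₗ[K] N₀ := LinearMap.liftBaseChange K D.liftKaehlerDifferential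
  refine ⟨ρ, ?_⟩
  apply (LinearMap.liftBaseChangeEquiv K).symm.injective
  apply (LinearMap.liftBaseChangeEquiv B).symm.injective
  apply Derivation.liftKaehlerDifferential_unique
  ext x
  show ρ ((mapBaseChange Λ A B).baseChange K
      ((1 : K) ⊗ₜ[B] ((1 : B) ⊗ₜ[A] KaehlerDifferential.D Λ A x))) =
    (1 : K) ⊗ₜ[B] ((1 : B) ⊗ₜ[A] KaehlerDifferential.D Λ A x)
  rw [LinearMap.baseChange_tmul, KaehlerDifferential.mapBaseChange_tmul, one_smul,
    KaehlerDifferential.map_D, LinearMap.liftBaseChange_tmul, one_smul,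
    Derivation.liftKaehlerDifferential_comp_D, hD]
  rfl

variable (Λ A B) in
theorem injective_lTensor_of_isAdicFormallySmooth (h : CAlgX.IsAdicFormallySmooth A B J) :
    Function.Injective ((mapBaseChange Λ A B).lTensor (B ⧸ J)) := by
  obtain ⟨ρ, hρ⟩ := exists_leftInverse_of_isAdicFormallySmooth Λ A B h
  have hfun : ((mapBaseChange Λ A B).baseChange (B ⧸ J) :
        (B ⧸ J) ⊗[B] (B ⊗[A] Ω[A⁄Λ]) → (B ⧸ J) ⊗[B] Ω[B⁄Λ]) =
      (mapBaseChange Λ A B).lTensor (B ⧸ J) :=
    LinearMap.baseChange_eq_ltensor _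
  rw [← hfun]
  exact Function.LeftInverse.injective (g := ρ) (fun x => LinearMap.congr_fun hρ x)

end ext

section conv

open Groth.Agent.Lib.Helper21.FlatSmooth

variable {Λ A B : Type u} [CommRing Λ] [CommRing A] [CommRing B] [Algebra Λ A] [Algebra A B]
  [Algebra Λ B] [IsScalarTower Λ A B] {J : Ideal B}

variable (Λ A B J) in
/-- left inverse from injectivity and projectivity of the cokernel -/
theorem exists_leftInverse_of_injective
    (hinj : Function.Injective ((mapBaseChange Λ A B).lTensor (B ⧸ J)))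
    [Module.Projective (B ⧸ J) ((B ⧸ J) ⊗[B] Ω[B⁄A])] :
    ∃ ρ : (B ⧸ J) ⊗[B] Ω[B⁄Λ] →ₗ[B ⧸ J] (B ⧸ J) ⊗[B] (B ⊗[A] Ω[A⁄Λ]),
      ρ ∘ₗ (mapBaseChange Λ A B).baseChange (B ⧸ J) = LinearMap.id := by
  let K := B ⧸ J
  let f : K ⊗[B] (B ⊗[A] Ω[A⁄Λ]) →ₗ[K] K ⊗[B] Ω[B⁄Λ] := (mapBaseChange Λ A B).baseChange K
  let g : K ⊗[B] Ω[B⁄Λ] →ₗ[K] K ⊗[B] Ω[B⁄A] := (KaehlerDifferential.map Λ A B B).baseChange K
  have hf' : (f : K ⊗[B] (B ⊗[A] Ω[A⁄Λ]) → K ⊗[B] Ω[B⁄Λ]) =
      (mapBaseChange Λ A B).lTensor K := LinearMap.baseChange_eq_ltensor _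
  have hg' : (g : K ⊗[B] Ω[B⁄Λ] → K ⊗[B] Ω[B⁄A]) =
      (KaehlerDifferential.map Λ A B B).lTensor K := LinearMap.baseChange_eq_ltensor _
  have hf : Function.Injective f := by rw [hf']; exact hinj
  have hg : Function.Surjective g := by
    rw [hg']
    exact LinearMap.lTensor_surjective K (KaehlerDifferential.map_surjective Λ A B)
  have hex : Function.Exact f g := by
    rw [hf', hg']
    exact lTensor_exact K (KaehlerDifferential.exact_mapBaseChange_map Λ A B)
      (KaehlerDifferential.map_surjective Λ A B)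
  obtain ⟨s, hs⟩ := Module.projective_lifting_property g LinearMap.id hg
  have hsplit : ∃ l, g ∘ₗ l = LinearMap.id := ⟨s, hs⟩
  have htfae := hex.split_tfae hf hg
  exact (htfae.out 0 1).mp hsplit

/-- extension of derivations into modules killed by `J`, from a left inverse of the map on
differentials -/
theorem exists_derivation_of_leftInverse
    (ρ : (B ⧸ J) ⊗[B] Ω[B⁄Λ] →ₗ[B ⧸ J] (B ⧸ J) ⊗[B] (B ⊗[A] Ω[A⁄Λ]))
    (hρ : ρ ∘ₗ (mapBaseChange Λ A B).baseChange (B ⧸ J) = LinearMap.id)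
    (N : Type u) [AddCommGroup N] [Module B N] [Module A N] [Module Λ N] [IsScalarTower A B N]
    [IsScalarTower Λ A N] [IsScalarTower Λ B N]
    (hN : ∀ b ∈ J, ∀ n : N, b • n = 0) (d : Derivation Λ A N) :
    ∃ D : Derivation Λ B N, ∀ x, D (algebraMap A B x) = d x := by
  have htors : Module.IsTorsionBySet B N (J : Set B) := by
    intro n a
    exact hN a.1 a.2 n
  let : Module (B ⧸ J) N := htors.module
  have : IsScalarTower B (B ⧸ J) N := htors.isScalarTower
  let K := B ⧸ J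
  let φK : K ⊗[B] (B ⊗[A] Ω[A⁄Λ]) →ₗ[K] K ⊗[B] Ω[B⁄Λ] := (mapBaseChange Λ A B).baseChange K
  let ℓ₀ : B ⊗[A] Ω[A⁄Λ] →ₗ[B] N := LinearMap.liftBaseChange B d.liftKaehlerDifferential
  let ℓ : K ⊗[B] (B ⊗[A] Ω[A⁄Λ]) →ₗ[K] N := LinearMap.liftBaseChange K ℓ₀
  let DW : Derivation Λ B (K ⊗[B] Ω[B⁄Λ]) :=
    (TensorProduct.mk B K Ω[B⁄Λ] 1).compDer (KaehlerDifferential.D Λ B)
  let g : K ⊗[B] Ω[B⁄Λ] →ₗ[B] N := (ℓ ∘ₗ ρ).restrictScalars B
  refine ⟨g.compDer DW, fun x => ?_⟩
  show ℓ (ρ ((1 : K) ⊗ₜ[B] KaehlerDifferential.D Λ B (algebraMap A B x))) = d x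
  have h1 : (1 : K) ⊗ₜ[B] KaehlerDifferential.D Λ B (algebraMap A B x) =
      φK ((1 : K) ⊗ₜ[B] ((1 : B) ⊗ₜ[A] KaehlerDifferential.D Λ A x)) := by
    rw [LinearMap.baseChange_tmul, KaehlerDifferential.mapBaseChange_tmul, one_smul,
      KaehlerDifferential.map_D]
  rw [h1]
  have h2 : ρ (φK ((1 : K) ⊗ₜ[B] ((1 : B) ⊗ₜ[A] KaehlerDifferential.D Λ A x))) =
      (1 : K) ⊗ₜ[B] ((1 : B) ⊗ₜ[A] KaehlerDifferential.D Λ A x) :=
    LinearMap.congr_fun hρ _
  rw [h2]
  show ℓ ((1 : K) ⊗ₜ[B] ((1 : B) ⊗ₜ[A] KaehlerDifferential.D Λ A x)) = d x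
  rw [LinearMap.liftBaseChange_tmul, one_smul, LinearMap.liftBaseChange_tmul, one_smul,
    Derivation.liftKaehlerDifferential_comp_D]

theorem exists_lift_of_leftInverse
    (hP : CAlgX.IsAdicFormallySmooth Λ B J)
    (ρ : (B ⧸ J) ⊗[B] Ω[B⁄Λ] →ₗ[B ⧸ J] (B ⧸ J) ⊗[B] (B ⊗[A] Ω[A⁄Λ]))
    (hρ : ρ ∘ₗ (mapBaseChange Λ A B).baseChange (B ⧸ J) = LinearMap.id) :
    ∀ (i : ℕ) (C E : Type u) [CommRing C] [CommRing E] [Algebra A C] [Algebra A E]
      [Algebra Λ C] [Algebra Λ E] [IsScalarTower Λ A C] [IsScalarTower Λ A E]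
      (π : C →ₐ[A] E) (_ : Function.Surjective π) (_ : RingHom.ker π ^ 2 = ⊥)
      (φ : B →ₐ[A] E) (_ : ∃ m : ℕ, ∀ x ∈ J ^ m, φ x = 0),
      (Ideal.comap π (Ideal.map φ J)) ^ i * RingHom.ker π = ⊥ →
      ∃ χ : B →ₐ[A] C, π.comp χ = φ := by
  intro i
  induction i with
  | zero =>
    intro C E _ _ _ _ _ _ _ _ π hπ hsq φ hφ h0
    rw [pow_zero, one_mul] at h0
    have hinjπ : Function.Injective π := (RingHom.injective_iff_ker_eq_bot _).mpr h0
    let e : C ≃ₐ[A] E := AlgEquiv.ofBijective π ⟨hinjπ, hπ⟩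
    refine ⟨e.symm.toAlgHom.comp φ, ?_⟩
    ext a
    exact e.apply_symm_apply (φ a)
  | succ i ih =>
    intro C E _ _ _ _ _ _ _ _ π hπ hsq φ hφ hi
    have hJ2 : ∀ x ∈ RingHom.ker π, ∀ y ∈ RingHom.ker π, x * y = 0 := by
      intro x hx y hy
      have : x * y ∈ RingHom.ker π ^ 2 := by
        rw [pow_two]; exact Ideal.mul_mem_mul hx hy
      rwa [hsq] at this
    let J' : Ideal C := (Ideal.comap π (Ideal.map φ J)) ^ i * RingHom.ker π
    have hJ'J : J' ≤ RingHom.ker π := Ideal.mul_le_right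
    let π' : (C ⧸ J') →ₐ[A] E := Ideal.Quotient.liftₐ J' π (fun c hc => hJ'J hc)
    have hπ'mk : ∀ c, π' (Ideal.Quotient.mk J' c) = π c := fun c => rfl
    have hπ' : Function.Surjective π' := by
      intro y
      obtain ⟨c, hc⟩ := hπ y
      exact ⟨Ideal.Quotient.mk J' c, hc⟩
    have hker' : RingHom.ker π' ≤ (RingHom.ker π).map (Ideal.Quotient.mk J') := by
      intro z hz
      obtain ⟨c, rfl⟩ := Ideal.Quotient.mk_surjective z
      exact Ideal.mem_map_of_mem _ (by rw [RingHom.mem_ker] at hz ⊢; rwa [hπ'mk] at hz)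
    have hsq' : RingHom.ker π' ^ 2 = ⊥ := by
      apply le_bot_iff.mp
      calc RingHom.ker π' ^ 2 ≤ ((RingHom.ker π).map (Ideal.Quotient.mk J')) ^ 2 :=
            Ideal.pow_right_mono hker' 2
        _ = (RingHom.ker π ^ 2).map (Ideal.Quotient.mk J') := (Ideal.map_pow _ _ _).symm
        _ = ⊥ := by rw [hsq, Ideal.map_bot]
    have h𝔞' : Ideal.comap π' (Ideal.map φ J) ≤
        (Ideal.comap π (Ideal.map φ J)).map (Ideal.Quotient.mk J') := by
      intro z hz
      obtain ⟨c, rfl⟩ := Ideal.Quotient.mk_surjective z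
      exact Ideal.mem_map_of_mem _ (by rw [Ideal.mem_comap] at hz ⊢; rwa [hπ'mk] at hz)
    have hi' : (Ideal.comap π' (Ideal.map φ J)) ^ i * RingHom.ker π' = ⊥ := by
      apply le_bot_iff.mp
      calc (Ideal.comap π' (Ideal.map φ J)) ^ i * RingHom.ker π'
          ≤ ((Ideal.comap π (Ideal.map φ J)).map (Ideal.Quotient.mk J')) ^ i *
              (RingHom.ker π).map (Ideal.Quotient.mk J') :=
            Ideal.mul_mono (Ideal.pow_right_mono h𝔞' i) hker'
        _ = J'.map (Ideal.Quotient.mk J') := by rw [Ideal.map_mul, Ideal.map_pow]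
        _ = ⊥ := Ideal.map_quotient_self _
    obtain ⟨χ', hχ'⟩ := ih (C ⧸ J') E π' hπ' hsq' φ hφ hi'
    have hχ'a : ∀ a, π' (χ' a) = φ a := fun a => AlgHom.congr_fun hχ' a
    obtain ⟨m, hm⟩ := hφ
    have hcont : ∃ n : ℕ, ∀ x ∈ J ^ n, (χ'.restrictScalars Λ) x = 0 := by
      refine ⟨m + m, fun x hx => ?_⟩
      rw [pow_add] at hx
      refine Submodule.mul_induction_on hx ?_ ?_
      · intro a ha b hb
        have h1 : χ' a ∈ RingHom.ker π' := by rw [RingHom.mem_ker, hχ'a]; exact hm a ha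
        have h2 : χ' b ∈ RingHom.ker π' := by rw [RingHom.mem_ker, hχ'a]; exact hm b hb
        have : χ' a * χ' b ∈ RingHom.ker π' ^ 2 := by
          rw [pow_two]; exact Ideal.mul_mem_mul h1 h2
        rw [hsq'] at this
        show χ' (a * b) = 0
        rw [map_mul]; exact this
      · intro a b ha hb
        show χ' (a + b) = 0
        rw [map_add]
        change χ' a = 0 at ha
        change χ' b = 0 at hb
        rw [ha, hb, add_zero]
    have hkermk : RingHom.ker (Ideal.Quotient.mkₐ Λ J') = J' := Ideal.Quotient.mkₐ_ker Λ J'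
    have hJ'sq : J' ^ 2 = ⊥ := by
      apply le_bot_iff.mp
      rw [← hsq]
      exact Ideal.pow_right_mono hJ'J 2
    obtain ⟨χ₁, hχ₁⟩ := lifts_of_isAdicFormallySmooth hP
      (Ideal.Quotient.mkₐ Λ J') (Ideal.Quotient.mkₐ_surjective _ J')
      (by rw [hkermk]; exact hJ'sq) (χ'.restrictScalars Λ) hcont
    have hχ₁' : ∀ a, Ideal.Quotient.mk J' (χ₁ a) = χ' a := fun a => AlgHom.congr_fun hχ₁ a
    have hπχ₁ : ∀ a, π (χ₁ a) = φ a := by
      intro a
      rw [← hπ'mk, hχ₁', hχ'a]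
    have hχ₁𝔞 : ∀ a ∈ J, χ₁ a ∈ Ideal.comap π (Ideal.map φ J) := by
      intro a ha
      rw [Ideal.mem_comap, hπχ₁]
      exact Ideal.mem_map_of_mem _ ha
    have hd : ∀ x : A, χ₁ (algebraMap A B x) - algebraMap A C x ∈ J' := by
      intro x
      rw [← Ideal.Quotient.eq, hχ₁', AlgHom.commutes]
      rfl
    have hJ'2 : ∀ x ∈ J', ∀ y ∈ J', x * y = 0 := fun x hx y hy => hJ2 x (hJ'J hx) y (hJ'J hy)
    let algBC : Algebra B C := χ₁.toRingHom.toAlgebra
    have halg : ∀ a, algebraMap B C a = χ₁ a := fun a => rfl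
    have : IsScalarTower Λ B C := IsScalarTower.of_algebraMap_eq (fun l => (χ₁.commutes l).symm)
    have : IsScalarTower A B J' := by
      constructor
      intro x a n
      apply Subtype.ext
      show (x • a) • (n : C) = x • (a • (n : C))
      rw [Algebra.smul_def, Algebra.smul_def, Algebra.smul_def, Algebra.smul_def, halg, halg,
        map_mul]
      have := hJ'2 _ (hd x) _ (J'.mul_mem_left (χ₁ a) n.2)
      linear_combination this
    let d : Derivation Λ A J' := Derivation.mk'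
      { toFun := fun x => ⟨χ₁ (algebraMap A B x) - algebraMap A C x, hd x⟩
        map_add' := fun x y => by apply Subtype.ext; simp; ring
        map_smul' := fun l x => by
          apply Subtype.ext
          show χ₁ (algebraMap A B (l • x)) - algebraMap A C (l • x) =
            l • (χ₁ (algebraMap A B x) - algebraMap A C x)
          rw [Algebra.smul_def l x, map_mul, map_mul, map_mul,
            ← IsScalarTower.algebraMap_apply Λ A B, ← IsScalarTower.algebraMap_apply Λ A C,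
            χ₁.commutes, Algebra.smul_def]
          ring }
      (fun x y => by
        apply Subtype.ext
        show χ₁ (algebraMap A B (x * y)) - algebraMap A C (x * y) =
          x • (χ₁ (algebraMap A B y) - algebraMap A C y) +
          y • (χ₁ (algebraMap A B x) - algebraMap A C x)
        rw [Algebra.smul_def, Algebra.smul_def, map_mul, map_mul, map_mul]
        have := hJ'2 _ (hd x) _ (hd y)
        linear_combination this)
    have hdval : ∀ x, ((d x : J') : C) = χ₁ (algebraMap A B x) - algebraMap A C x := fun x => rfl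
    have hN : ∀ a ∈ J, ∀ n : J', a • n = 0 := by
      intro a ha n
      apply Subtype.ext
      show a • (n : C) = 0
      rw [Algebra.smul_def, halg]
      have : χ₁ a * (n : C) ∈ (Ideal.comap π (Ideal.map φ J)) ^ (i + 1) * RingHom.ker π := by
        rw [pow_succ', mul_assoc]
        exact Ideal.mul_mem_mul (hχ₁𝔞 a ha) n.2
      rwa [hi] at this
    obtain ⟨D, hD⟩ := exists_derivation_of_leftInverse ρ hρ J' hN d
    let χ₀ : B →ₐ[Λ] C := liftOfDerivationToSquareZero J' hJ'sq (-D)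
    have hχ₀ : ∀ a, χ₀ a = -((D a : J') : C) + χ₁ a := by
      intro a
      show (((-D) a : J') : C) + algebraMap B C a = _
      rw [Derivation.neg_apply, halg]
      rfl
    let χ : B →ₐ[A] C :=
      { toRingHom := χ₀.toRingHom
        commutes' := fun x => by
          show χ₀ (algebraMap A B x) = algebraMap A C x
          rw [hχ₀, hD, hdval]
          ring }
    refine ⟨χ, ?_⟩
    ext a
    show π (χ₀ a) = φ a
    rw [hχ₀, map_add, map_neg, hπχ₁]
    have : π ((D a : J') : C) = 0 := hJ'J (D a).2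
    rw [this, neg_zero, zero_add]

/-- (i) of the Jacobian criterion: from smoothness over `Λ` and a left inverse on differentials -/
theorem isAdicFormallySmooth_of_leftInverse
    (hP : CAlgX.IsAdicFormallySmooth Λ B J)
    (ρ : (B ⧸ J) ⊗[B] Ω[B⁄Λ] →ₗ[B ⧸ J] (B ⧸ J) ⊗[B] (B ⊗[A] Ω[A⁄Λ]))
    (hρ : ρ ∘ₗ (mapBaseChange Λ A B).baseChange (B ⧸ J) = LinearMap.id) :
    CAlgX.IsAdicFormallySmooth A B J := by
  intro C _ _ I hI ψ hψ
  let : Algebra Λ C := Algebra.compHom C (algebraMap Λ A)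
  have : IsScalarTower Λ A C := IsScalarTower.of_algebraMap_eq (fun _ => rfl)
  obtain ⟨m, hm⟩ := hψ
  have hker : RingHom.ker (Ideal.Quotient.mkₐ A I) = I := Ideal.Quotient.mkₐ_ker A I
  apply exists_lift_of_leftInverse hP ρ hρ m C (C ⧸ I) (Ideal.Quotient.mkₐ A I)
    (Ideal.Quotient.mkₐ_surjective A I) (by rw [hker]; exact hI) ψ ⟨m, hm⟩
  rw [hker]
  apply le_bot_iff.mp
  have hmap : Ideal.map ψ (J ^ m) = ⊥ := by
    apply le_bot_iff.mp
    rw [Ideal.map_le_iff_le_comap]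
    intro x hx
    rw [Ideal.mem_comap, Ideal.mem_bot]
    exact hm x hx
  have h1 : (Ideal.comap (Ideal.Quotient.mkₐ A I) (Ideal.map ψ J)) ^ m ≤ I := by
    calc (Ideal.comap (Ideal.Quotient.mkₐ A I) (Ideal.map ψ J)) ^ m
        ≤ Ideal.comap (Ideal.Quotient.mkₐ A I) ((Ideal.map ψ J) ^ m) :=
          Ideal.le_comap_pow _ _
      _ = Ideal.comap (Ideal.Quotient.mkₐ A I) ⊥ := by rw [← Ideal.map_pow, hmap]
      _ = I := hker
  calc (Ideal.comap (Ideal.Quotient.mkₐ A I) (Ideal.map ψ J)) ^ m * I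
      ≤ I * I := Ideal.mul_mono_left h1
    _ = I ^ 2 := (pow_two I).symm
    _ = ⊥ := hI

end conv

end Groth.Agent.Lib.Helper21.JacAdicF
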