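import Mathlib

/-!
# Helper library (helper21): filtered ring maps, graded injectivity / surjectivity
-/

set_option autoImplicit false

namespace Groth.Agent.Lib.Helper21.SymGr

variable {S T : Type*} [CommRing S] [CommRing T] (Θ : S →+* T) (I : Ideal S) (K : Ideal T)

/-- `Θ` is injective on the `m`-th graded pieces. -/
def GrInj (m : ℕ) : Prop := ∀ x ∈ I ^ m, Θ x ∈ K ^ (m + 1) → x ∈ I ^ (m + 1)

/-- `Θ` is surjective on the `m`-th graded pieces. -/
def GrSurj (m : ℕ) : Prop := ∀ y ∈ K ^ m, ∃ x ∈ I ^ m, y - Θ x ∈ K ^ (m + 1)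

variable {Θ I K}

theorem mem_pow_of_grInj (n : ℕ) (h : ∀ m < n, GrInj Θ I K m) (x : S) (hx : Θ x ∈ K ^ n) :
    x ∈ I ^ n := by
  have key : ∀ m ≤ n, x ∈ I ^ m := by
    intro m
    induction m with
    | zero => intro _; simp
    | succ m ih =>
      intro hm
      exact h m hm x (ih (Nat.le_of_succ_le hm)) (Ideal.pow_le_pow_right hm hx)
  exact key n le_rfl

theorem map_pow_le (hΘ : I.map Θ ≤ K) (m : ℕ) : (I ^ m).map Θ ≤ K ^ m := by
  rw [Ideal.map_pow]
  exact Ideal.pow_right_mono hΘ m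

theorem apply_mem_pow (hΘ : I.map Θ ≤ K) {m : ℕ} {x : S} (hx : x ∈ I ^ m) : Θ x ∈ K ^ m :=
  map_pow_le hΘ m (Ideal.mem_map_of_mem Θ hx)

theorem grSurj_all (hΘ : I.map Θ ≤ K) (h0 : GrSurj Θ I K 0) (h1 : GrSurj Θ I K 1) :
    ∀ m, GrSurj Θ I K m := by
  intro m
  induction m with
  | zero => exact h0
  | succ m ih =>
    intro y hy
    rw [pow_succ] at hy
    refine Submodule.mul_induction_on hy ?_ ?_
    · intro b hb a ha
      obtain ⟨β, hβ, hbβ⟩ := ih b hb
      obtain ⟨α, hα, haα⟩ := h1 a (by simpa using ha)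
      refine ⟨β * α, by rw [pow_succ]; exact Ideal.mul_mem_mul hβ (by simpa using hα), ?_⟩
      have hΘα : Θ α ∈ K := by simpa using apply_mem_pow hΘ hα
      have e : b * a - Θ (β * α) = b * (a - Θ α) + (b - Θ β) * Θ α := by
        rw [map_mul]; ring
      rw [e]
      apply add_mem
      · have : b * (a - Θ α) ∈ K ^ m * K ^ (1 + 1) := Ideal.mul_mem_mul hb haα
        rwa [← pow_add] at this
      · have : (b - Θ β) * Θ α ∈ K ^ (m + 1) * K := Ideal.mul_mem_mul hbβ hΘα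
        rwa [← pow_succ] at this
    · rintro y₁ y₂ ⟨x₁, hx₁, h₁⟩ ⟨x₂, hx₂, h₂⟩
      refine ⟨x₁ + x₂, add_mem hx₁ hx₂, ?_⟩
      have e : y₁ + y₂ - Θ (x₁ + x₂) = (y₁ - Θ x₁) + (y₂ - Θ x₂) := by rw [map_add]; ring
      rw [e]
      exact add_mem h₁ h₂

theorem exists_sub_mem_pow (h : ∀ m, GrSurj Θ I K m) (n m : ℕ) (y : T) (hy : y ∈ K ^ m) :
    ∃ x ∈ I ^ m, y - Θ x ∈ K ^ (m + n) := by
  induction n with
  | zero => exact ⟨0, zero_mem _, by simpa using hy⟩
  | succ n ih =>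
    obtain ⟨x₀, hx₀, h₀⟩ := ih
    obtain ⟨x₁, hx₁, h₁⟩ := h (m + n) _ h₀
    refine ⟨x₀ + x₁, add_mem hx₀ (Ideal.pow_le_pow_right (Nat.le_add_right m n) hx₁), ?_⟩
    have e : y - Θ (x₀ + x₁) = y - Θ x₀ - Θ x₁ := by rw [map_add]; ring
    rw [e]
    exact h₁

/-- Congruence of products: if `a i ≡ b i mod L²` with all `a i, b i ∈ L`, then the products over a
finset `s` are congruent modulo `L ^ (card s + 1)`. -/
theorem prod_sub_prod_mem {R : Type*} [CommRing R] (L : Ideal R) {ι : Type*} (s : Finset ι)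
    (a b : ι → R) (ha : ∀ i ∈ s, a i ∈ L) (hb : ∀ i ∈ s, b i ∈ L)
    (hab : ∀ i ∈ s, a i - b i ∈ L ^ 2) :
    ∏ i ∈ s, a i - ∏ i ∈ s, b i ∈ L ^ (s.card + 1) := by
  classical
  induction s using Finset.induction_on with
  | empty => simp
  | insert j s hj ih =>
    rw [Finset.prod_insert hj, Finset.prod_insert hj, Finset.card_insert_of_notMem hj]
    have ihs := ih (fun i hi => ha i (Finset.mem_insert_of_mem hi))
      (fun i hi => hb i (Finset.mem_insert_of_mem hi))
      (fun i hi => hab i (Finset.mem_insert_of_mem hi))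
    have hbs : ∏ i ∈ s, b i ∈ L ^ s.card := by
      have := Ideal.prod_mem_prod (s := s) (I := fun _ => L) (x := b)
        (fun i hi => hb i (Finset.mem_insert_of_mem hi))
      simpa using this
    have e : a j * ∏ i ∈ s, a i - b j * ∏ i ∈ s, b i =
        a j * (∏ i ∈ s, a i - ∏ i ∈ s, b i) + (a j - b j) * ∏ i ∈ s, b i := by ring
    rw [e]
    apply add_mem
    · have : a j * (∏ i ∈ s, a i - ∏ i ∈ s, b i) ∈ L * L ^ (s.card + 1) :=
        Ideal.mul_mem_mul (ha j (Finset.mem_insert_self j s)) ihs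
      rwa [← pow_succ'] at this
    · have : (a j - b j) * ∏ i ∈ s, b i ∈ L ^ 2 * L ^ s.card :=
        Ideal.mul_mem_mul (hab j (Finset.mem_insert_self j s)) hbs
      rw [← pow_add] at this
      convert this using 2
      ring

end Groth.Agent.Lib.Helper21.SymGr
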