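import Mathlib

/-!
# Helper library (helper21): universal property of `SymmetricPower`
-/

set_option autoImplicit false

namespace Groth.Agent.Lib.Helper21.SymPow

open TensorProduct

universe u v w

variable {R ι : Type u} [CommRing R] {M : Type v} [AddCommGroup M] [Module R M]
  {N : Type w} [AddCommGroup N] [Module R N]

/-- The additive map out of a symmetric power induced by a symmetric multilinear map. -/
noncomputable def liftAddHom (f : MultilinearMap R (fun _ : ι => M) N)
    (hf : ∀ (e : Equiv.Perm ι) (v : ι → M), f (fun i => v (e i)) = f v) :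
    SymmetricPower R ι M →+ N :=
  AddCon.lift _ ((PiTensorProduct.lift f).toAddMonoidHom) (by
    rw [AddCon.addConGen_le]
    intro x y hxy
    cases hxy with
    | perm e v =>
      rw [AddCon.ker_rel]
      simp only [LinearMap.toAddMonoidHom_coe, PiTensorProduct.lift.tprod]
      exact (hf e v).symm)

theorem liftAddHom_mk (f : MultilinearMap R (fun _ : ι => M) N)
    (hf : ∀ (e : Equiv.Perm ι) (v : ι → M), f (fun i => v (e i)) = f v) (x : ⨂[R] _ : ι, M) :
    liftAddHom f hf (SymmetricPower.mk R ι M x) = PiTensorProduct.lift f x := rfl

theorem mk_surjective : Function.Surjective (SymmetricPower.mk R ι M) :=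
  AddCon.mk'_surjective

/-- The linear map out of a symmetric power induced by a symmetric multilinear map. -/
noncomputable def lift (f : MultilinearMap R (fun _ : ι => M) N)
    (hf : ∀ (e : Equiv.Perm ι) (v : ι → M), f (fun i => v (e i)) = f v) :
    SymmetricPower R ι M →ₗ[R] N where
  toFun := liftAddHom f hf
  map_add' x y := map_add _ x y
  map_smul' r x := by
    obtain ⟨x, rfl⟩ := mk_surjective x
    rw [← map_smul, liftAddHom_mk, liftAddHom_mk, map_smul, RingHom.id_apply]

theorem lift_tprod (f : MultilinearMap R (fun _ : ι => M) N)
    (hf : ∀ (e : Equiv.Perm ι) (v : ι → M), f (fun i => v (e i)) = f v) (v : ι → M) :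
    lift f hf (SymmetricPower.tprod R v) = f v := by
  change liftAddHom f hf (SymmetricPower.mk R ι M (PiTensorProduct.tprod R v)) = _
  rw [liftAddHom_mk, PiTensorProduct.lift.tprod]

theorem linearMap_ext {f g : SymmetricPower R ι M →ₗ[R] N}
    (h : ∀ v : ι → M, f (SymmetricPower.tprod R v) = g (SymmetricPower.tprod R v)) : f = g := by
  apply LinearMap.ext_on_range (SymmetricPower.span_tprod_eq_top R ι M)
  exact h

/-- A scalar multiple of a pure tensor is a pure tensor (nonempty index). -/
theorem smul_tprod [DecidableEq ι] (i : ι) (r : R) (v : ι → M) :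
    r • SymmetricPower.tprod R v = SymmetricPower.tprod R (Function.update v i (r • v i)) := by
  rw [MultilinearMap.map_update_smul, Function.update_eq_self]

/-- Two additive maps out of a symmetric power (nonempty index) agreeing on pure tensors agree. -/
theorem addHom_ext [Nonempty ι] {G : Type*} [AddCommMonoid G] (f g : SymmetricPower R ι M →+ G)
    (h : ∀ v : ι → M, f (SymmetricPower.tprod R v) = g (SymmetricPower.tprod R v)) : f = g := by
  classical
  ext x
  have hx : x ∈ Submodule.span R (Set.range (SymmetricPower.tprod R (ι := ι) (M := M))) := by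
    rw [SymmetricPower.span_tprod_eq_top]; trivial
  have key : ∀ r : R, f (r • x) = g (r • x) := by
    induction hx using Submodule.span_induction with
    | mem x hx =>
      obtain ⟨v, rfl⟩ := hx
      intro r
      rw [smul_tprod (Classical.arbitrary ι)]
      exact h _
    | zero => intro r; rw [smul_zero, map_zero, map_zero]
    | add x y _ _ hx hy => intro r; rw [smul_add, map_add, map_add, hx, hy]
    | smul s x _ hx => intro r; rw [smul_smul]; exact hx _
  simpa using key 1

/-- If `r` kills `M`, it kills the symmetric power (nonempty index). -/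
theorem smul_eq_zero_of_forall [Nonempty ι] (r : R) (hr : ∀ m : M, r • m = 0)
    (x : SymmetricPower R ι M) : r • x = 0 := by
  classical
  have hx : x ∈ Submodule.span R (Set.range (SymmetricPower.tprod R (ι := ι) (M := M))) := by
    rw [SymmetricPower.span_tprod_eq_top]; trivial
  induction hx using Submodule.span_induction with
  | mem x hx =>
    obtain ⟨v, rfl⟩ := hx
    rw [smul_tprod (Classical.arbitrary ι), hr]
    exact MultilinearMap.map_update_zero _ _ _
  | zero => simp
  | add x y _ _ hx hy => rw [smul_add, hx, hy, add_zero]
  | smul s x _ hx => rw [smul_comm, hx, smul_zero]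

end Groth.Agent.Lib.Helper21.SymPow
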