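import Mathlib
import Groth.Prelude.Def_PP16
import Groth.Agent.Lib.Helper21.SymPowA
import Groth.Agent.Lib.Helper21.SymGrB

/-!
# Helper library (helper21): the canonical map `Sym^n(J/J²) → J^n/J^(n+1)`
-/

set_option autoImplicit false

namespace Groth.Agent.Lib.Helper21.SymGr

open TensorProduct
open scoped Pointwise

universe u

variable {R : Type u} [CommRing R]

theorem span_pow_card {ι : Type*} [Fintype ι] (G : Set R) :
    Ideal.span G ^ (Fintype.card ι) =
      Ideal.span {y | ∃ f : ι → R, (∀ i, f i ∈ G) ∧ ∏ i, f i = y} := by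
  have h1 : Ideal.span G ^ (Fintype.card ι) = Ideal.span (G ^ (Fintype.card ι)) :=
    Submodule.span_pow G _
  rw [h1]
  congr 1
  ext y
  rw [Set.mem_pow_iff_prod]
  constructor
  · rintro ⟨f, hf, rfl⟩
    refine ⟨fun i => f (Fintype.equivFin ι i), fun i => hf _, ?_⟩
    exact Equiv.prod_comp (Fintype.equivFin ι) f
  · rintro ⟨f, hf, rfl⟩
    refine ⟨fun i => f ((Fintype.equivFin ι).symm i), fun i => hf _, ?_⟩
    exact Equiv.prod_comp (Fintype.equivFin ι).symm f

variable (J : Ideal R)

/-- The inclusion of the graded piece `J^n/J^(n+1)` into `R/J^(n+1)`. -/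
noncomputable def grIncl (n : ℕ) : PP16.grJ R J n →ₗ[R] R ⧸ J ^ (n + 1) :=
  Submodule.liftQ _ ((Submodule.mkQ (J ^ (n + 1))).comp (J ^ n).subtype) (by
    intro x hx
    rw [Submodule.mem_comap] at hx
    rw [LinearMap.mem_ker, LinearMap.comp_apply, Submodule.mkQ_apply,
      Submodule.Quotient.mk_eq_zero]
    exact hx)

theorem grIncl_mk (n : ℕ) (x : ↥(J ^ n)) :
    grIncl J n (Submodule.Quotient.mk x) = Ideal.Quotient.mk (J ^ (n + 1)) (x : R) := rfl

theorem grIncl_injective (n : ℕ) : Function.Injective (grIncl J n) := by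
  rw [← LinearMap.ker_eq_bot]
  apply Submodule.ker_liftQ_eq_bot
  intro x hx
  rw [LinearMap.mem_ker, LinearMap.comp_apply, Submodule.mkQ_apply,
    Submodule.Quotient.mk_eq_zero] at hx
  exact hx

theorem grIncl_zetaJ {ι : Type u} [Fintype ι] (x : ι → ↥J) :
    grIncl J _ (PP16.zetaJ R J x) = Ideal.Quotient.mk _ (∏ i, (x i : R)) := rfl

theorem zetaJ_congr {ι : Type u} [Fintype ι] (x x' : ι → ↥J)
    (h : ∀ i, J.toCotangent (x i) = J.toCotangent (x' i)) :
    PP16.zetaJ R J x = PP16.zetaJ R J x' := by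
  apply grIncl_injective
  rw [grIncl_zetaJ, grIncl_zetaJ, Ideal.Quotient.eq]
  have := prod_sub_prod_mem J Finset.univ (fun i => (x i : R)) (fun i => (x' i : R))
    (fun i _ => (x i).2) (fun i _ => (x' i).2)
    (fun i _ => (Ideal.toCotangent_eq J).mp (h i))
  rwa [Finset.card_univ] at this

/-- The product map on `ι`-tuples of elements of `J`, as a multilinear map to `J^n/J^(n+1)`. -/
noncomputable def zetaMultiJ (ι : Type u) [Fintype ι] :
    MultilinearMap R (fun _ : ι => ↥J) (PP16.grJ R J (Fintype.card ι)) :=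
  (Submodule.mkQ _).compMultilinearMap
    (((MultilinearMap.mkPiAlgebra R ι R).compLinearMap (fun _ => J.subtype)).codRestrict
      (J ^ Fintype.card ι) (fun x => by
        simpa using PP16.prod_mem_pow J Finset.univ (fun i => (x i : R)) (fun i _ => (x i).2)))

theorem zetaMultiJ_apply {ι : Type u} [Fintype ι] (x : ι → ↥J) :
    zetaMultiJ J ι x = PP16.zetaJ R J x := rfl

/-- A set-theoretic section of `J → J/J²`. -/
noncomputable def sec (v : J.Cotangent) : ↥J := Function.surjInv J.toCotangent_surjective v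

theorem toCotangent_sec (v : J.Cotangent) : J.toCotangent (sec J v) = v :=
  Function.surjInv_eq _ v

theorem zetaJ_sec_update {ι : Type u} [Fintype ι] [DecidableEq ι] (v : ι → J.Cotangent) (i : ι)
    (c : J.Cotangent) (d : ↥J) (hd : J.toCotangent d = c) :
    PP16.zetaJ R J (fun j => sec J (Function.update v i c j)) =
      zetaMultiJ J ι (Function.update (fun j => sec J (v j)) i d) := by
  rw [zetaMultiJ_apply]
  apply zetaJ_congr
  intro j
  by_cases hj : j = i
  · subst hj
    rw [Function.update_self, Function.update_self, toCotangent_sec, hd]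
  · rw [Function.update_of_ne hj, Function.update_of_ne hj]

/-- The product map on `ι`-tuples of elements of `J/J²`, as a multilinear map to `J^n/J^(n+1)`. -/
noncomputable def zetaMulti (ι : Type u) [Fintype ι] :
    MultilinearMap R (fun _ : ι => J.Cotangent) (PP16.grJ R J (Fintype.card ι)) where
  toFun v := PP16.zetaJ R J (fun i => sec J (v i))
  map_update_add' := by
    intro _ v i a b
    rw [zetaJ_sec_update J v i (a + b) (sec J a + sec J b)
        (by rw [map_add, toCotangent_sec, toCotangent_sec]),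
      zetaJ_sec_update J v i a (sec J a) (toCotangent_sec J a),
      zetaJ_sec_update J v i b (sec J b) (toCotangent_sec J b)]
    exact (zetaMultiJ J ι).map_update_add _ _ _ _
  map_update_smul' := by
    intro _ v i r a
    rw [zetaJ_sec_update J v i (r • a) (r • sec J a)
        (by rw [map_smul, toCotangent_sec]),
      zetaJ_sec_update J v i a (sec J a) (toCotangent_sec J a)]
    exact (zetaMultiJ J ι).map_update_smul _ _ _ _

theorem zetaMulti_apply {ι : Type u} [Fintype ι] (v : ι → J.Cotangent) :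
    zetaMulti J ι v = PP16.zetaJ R J (fun i => sec J (v i)) := rfl

theorem zetaMulti_toCotangent {ι : Type u} [Fintype ι] (x : ι → ↥J) :
    zetaMulti J ι (fun i => J.toCotangent (x i)) = PP16.zetaJ R J x := by
  rw [zetaMulti_apply]
  exact zetaJ_congr J _ _ (fun i => toCotangent_sec J _)

theorem zetaMulti_perm {ι : Type u} [Fintype ι] (e : Equiv.Perm ι) (v : ι → J.Cotangent) :
    zetaMulti J ι (fun i => v (e i)) = zetaMulti J ι v := by
  rw [zetaMulti_apply, zetaMulti_apply]
  apply grIncl_injective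
  rw [grIncl_zetaJ, grIncl_zetaJ]
  congr 1
  exact Equiv.prod_comp e (fun i => ((sec J (v i) : ↥J) : R))

/-- The canonical map `Sym^ι(J/J²) → J^n/J^(n+1)`. -/
noncomputable def canon (ι : Type u) [Fintype ι] :
    SymmetricPower R ι J.Cotangent →ₗ[R] PP16.grJ R J (Fintype.card ι) :=
  SymPow.lift (zetaMulti J ι) (zetaMulti_perm J)

theorem canon_tprod {ι : Type u} [Fintype ι] (x : ι → ↥J) :
    canon J ι (SymmetricPower.tprod R (fun i => J.toCotangent (x i))) = PP16.zetaJ R J x := by
  rw [canon, SymPow.lift_tprod, zetaMulti_toCotangent]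

theorem canon_surjective (ι : Type u) [Fintype ι] : Function.Surjective (canon J ι) := by
  have hspan : J ^ Fintype.card ι =
      Ideal.span {y | ∃ f : ι → R, (∀ i, f i ∈ (J : Set R)) ∧ ∏ i, f i = y} := by
    conv_lhs => rw [← Ideal.span_eq J]
    exact span_pow_card (J : Set R)
  have key : ∀ y ∈ Ideal.span {y | ∃ f : ι → R, (∀ i, f i ∈ (J : Set R)) ∧ ∏ i, f i = y},
      ∀ hy : y ∈ J ^ Fintype.card ι,
        (Submodule.Quotient.mk ⟨y, hy⟩ : PP16.grJ R J (Fintype.card ι)) ∈
          LinearMap.range (canon J ι) := by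
    intro y hy
    induction hy using Submodule.span_induction with
    | mem y hy =>
      obtain ⟨f, hf, rfl⟩ := hy
      intro hy'
      exact ⟨_, canon_tprod J (fun i => ⟨f i, hf i⟩)⟩
    | zero => intro hy'; exact ⟨0, by rw [map_zero]; rfl⟩
    | add y₁ y₂ h₁ h₂ ih₁ ih₂ =>
      intro hy'
      have hy₁ : y₁ ∈ J ^ Fintype.card ι := hspan ▸ h₁
      have hy₂ : y₂ ∈ J ^ Fintype.card ι := hspan ▸ h₂
      exact add_mem (ih₁ hy₁) (ih₂ hy₂)
    | smul r y h ih =>
      intro hy'
      have hy₁ : y ∈ J ^ Fintype.card ι := hspan ▸ h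
      exact Submodule.smul_mem _ r (ih hy₁)
  intro z
  obtain ⟨⟨y, hy⟩, rfl⟩ := Submodule.Quotient.mk_surjective _ z
  exact key y (hspan ▸ hy) hy

theorem symGrBijective_iff :
    PP16.SymGrBijective R J ↔
      ∀ (ι : Type u) [Fintype ι] [Nonempty ι], Function.Injective (canon J ι) := by
  constructor
  · intro h ι _ _
    obtain ⟨φ, hφ, hbij⟩ := h ι
    have : φ = canon J ι := by
      apply SymPow.linearMap_ext
      intro v
      have hv : v = fun i => J.toCotangent (sec J (v i)) := by
        funext i; rw [toCotangent_sec]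
      rw [hv, hφ, canon_tprod]
    exact this ▸ hbij.1
  · intro h ι _ _
    exact ⟨canon J ι, canon_tprod J, h ι, canon_surjective J ι⟩

/-- The canonical additive map `Sym^ι(J/J²) → R/J^(n+1)`. -/
noncomputable def Phi (ι : Type u) [Fintype ι] :
    SymmetricPower R ι J.Cotangent →ₗ[R] R ⧸ J ^ (Fintype.card ι + 1) :=
  (grIncl J _).comp (canon J ι)

theorem Phi_tprod {ι : Type u} [Fintype ι] (x : ι → ↥J) :
    Phi J ι (SymmetricPower.tprod R (fun i => J.toCotangent (x i))) =
      Ideal.Quotient.mk _ (∏ i, (x i : R)) := by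
  rw [Phi, LinearMap.comp_apply, canon_tprod, grIncl_zetaJ]

theorem Phi_injective_iff (ι : Type u) [Fintype ι] :
    Function.Injective (Phi J ι) ↔ Function.Injective (canon J ι) := by
  rw [Phi, LinearMap.coe_comp]
  exact (grIncl_injective J _).of_comp_iff _

end Groth.Agent.Lib.Helper21.SymGr
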