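import Mathlib
import Groth.Agent.Lib.Helper21.SymPowA
import Groth.Agent.Lib.Helper21.SymGrA

/-!
# Helper library (helper21): the augmentation filtration of a symmetric algebra and the maps
`Sym^n V → SymmetricAlgebra V`
-/

set_option autoImplicit false

namespace Groth.Agent.Lib.Helper21.SymAlg

open TensorProduct

universe u

variable (R C V : Type u) [CommRing R] [CommRing C] [Algebra R C] [AddCommGroup V] [Module C V]
  [Module R V] [IsScalarTower R C V]

/-- The augmentation ideal of the symmetric algebra, generated by `V`. -/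
def augIdeal : Ideal (SymmetricAlgebra C V) := Ideal.span (Set.range (SymmetricAlgebra.ι C V))

variable {C V}

theorem ι_mem (v : V) : SymmetricAlgebra.ι C V v ∈ augIdeal C V :=
  Ideal.subset_span ⟨v, rfl⟩

theorem algebraMapInv_eq_zero {x : SymmetricAlgebra C V} (hx : x ∈ augIdeal C V) :
    SymmetricAlgebra.algebraMapInv x = 0 := by
  have : augIdeal C V ≤ RingHom.ker (SymmetricAlgebra.algebraMapInv (R := C) (M := V)) := by
    rw [augIdeal, Ideal.span_le]
    rintro _ ⟨v, rfl⟩
    exact SymmetricAlgebra.algebraMapInv_ι v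
  exact this hx

theorem sub_algebraMap_mem (x : SymmetricAlgebra C V) :
    x - algebraMap C (SymmetricAlgebra C V) (SymmetricAlgebra.algebraMapInv x) ∈ augIdeal C V := by
  induction x using SymmetricAlgebra.induction with
  | algebraMap r =>
    rw [AlgHom.commutes]
    simp
  | ι v =>
    rw [SymmetricAlgebra.algebraMapInv_ι, map_zero, sub_zero]
    exact ι_mem v
  | mul a b ha hb =>
    have e : a * b - algebraMap C (SymmetricAlgebra C V) (SymmetricAlgebra.algebraMapInv (a * b)) =
        a * (b - algebraMap C _ (SymmetricAlgebra.algebraMapInv b)) +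
          (a - algebraMap C _ (SymmetricAlgebra.algebraMapInv a)) *
            algebraMap C _ (SymmetricAlgebra.algebraMapInv b) := by
      rw [map_mul, map_mul]; ring
    rw [e]
    exact add_mem (Ideal.mul_mem_left _ _ hb) (Ideal.mul_mem_right _ _ ha)
  | add a b ha hb =>
    have e : a + b - algebraMap C (SymmetricAlgebra C V) (SymmetricAlgebra.algebraMapInv (a + b)) =
        (a - algebraMap C _ (SymmetricAlgebra.algebraMapInv a)) +
          (b - algebraMap C _ (SymmetricAlgebra.algebraMapInv b)) := by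
      rw [map_add, map_add]; ring
    rw [e]
    exact add_mem ha hb

theorem mem_augIdeal_iff (x : SymmetricAlgebra C V) :
    x ∈ augIdeal C V ↔ SymmetricAlgebra.algebraMapInv x = 0 := by
  refine ⟨algebraMapInv_eq_zero, fun h => ?_⟩
  have := sub_algebraMap_mem x
  rwa [h, map_zero, sub_zero] at this

variable (C V)

/-- The multilinear map `(v_i) ↦ ∏ v_i` into the symmetric algebra. -/
noncomputable def tauMulti (ι : Type u) [Fintype ι] :
    MultilinearMap R (fun _ : ι => V) (SymmetricAlgebra C V) :=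
  (MultilinearMap.mkPiAlgebra R ι (SymmetricAlgebra C V)).compLinearMap
    (fun _ => (SymmetricAlgebra.ι C V).restrictScalars R)

theorem tauMulti_apply {ι : Type u} [Fintype ι] (v : ι → V) :
    tauMulti R C V ι v = ∏ i, SymmetricAlgebra.ι C V (v i) := rfl

/-- The map `Sym^ι V → SymmetricAlgebra V`. -/
noncomputable def tau (ι : Type u) [Fintype ι] :
    SymmetricPower R ι V →ₗ[R] SymmetricAlgebra C V :=
  SymPow.lift (tauMulti R C V ι) (fun e v => by
    rw [tauMulti_apply, tauMulti_apply]
    exact Equiv.prod_comp e (fun i => SymmetricAlgebra.ι C V (v i)))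

theorem tau_tprod {ι : Type u} [Fintype ι] (v : ι → V) :
    tau R C V ι (SymmetricPower.tprod R v) = ∏ i, SymmetricAlgebra.ι C V (v i) := by
  rw [tau, SymPow.lift_tprod, tauMulti_apply]

theorem pow_card_eq_span (ι : Type u) [Fintype ι] :
    augIdeal C V ^ Fintype.card ι =
      Ideal.span {y | ∃ f : ι → SymmetricAlgebra C V,
        (∀ i, f i ∈ Set.range (SymmetricAlgebra.ι C V)) ∧ ∏ i, f i = y} :=
  SymGr.span_pow_card _

theorem exists_tau_sub_mem (hRC : Function.Surjective (algebraMap R C)) (ι : Type u) [Fintype ι]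
    (x : SymmetricAlgebra C V) (hx : x ∈ augIdeal C V ^ Fintype.card ι) :
    ∃ ξ : SymmetricPower R ι V, x - tau R C V ι ξ ∈ augIdeal C V ^ (Fintype.card ι + 1) := by
  rw [pow_card_eq_span] at hx
  induction hx using Submodule.span_induction with
  | mem y hy =>
    obtain ⟨f, hf, rfl⟩ := hy
    choose v hv using hf
    refine ⟨SymmetricPower.tprod R v, ?_⟩
    rw [tau_tprod]
    simp only [hv, sub_self, zero_mem]
  | zero => exact ⟨0, by simp⟩
  | add y₁ y₂ _ _ ih₁ ih₂ =>
    obtain ⟨ξ₁, h₁⟩ := ih₁
    obtain ⟨ξ₂, h₂⟩ := ih₂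
    refine ⟨ξ₁ + ξ₂, ?_⟩
    have e : y₁ + y₂ - tau R C V ι (ξ₁ + ξ₂) = (y₁ - tau R C V ι ξ₁) + (y₂ - tau R C V ι ξ₂) := by
      rw [map_add]; ring
    rw [e]
    exact add_mem h₁ h₂
  | smul t y hy ih =>
    obtain ⟨ξ, hξ⟩ := ih
    have hy' : y ∈ augIdeal C V ^ Fintype.card ι := by rw [pow_card_eq_span]; exact hy
    obtain ⟨r, hr⟩ := hRC (SymmetricAlgebra.algebraMapInv t)
    refine ⟨r • ξ, ?_⟩
    have hrs : r • tau R C V ι ξ =
        algebraMap C (SymmetricAlgebra C V) (SymmetricAlgebra.algebraMapInv t) * tau R C V ι ξ := by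
      rw [Algebra.smul_def, IsScalarTower.algebraMap_apply R C (SymmetricAlgebra C V), hr]
    have e : t • y - tau R C V ι (r • ξ) =
        (t - algebraMap C _ (SymmetricAlgebra.algebraMapInv t)) * y +
          algebraMap C _ (SymmetricAlgebra.algebraMapInv t) * (y - tau R C V ι ξ) := by
      rw [map_smul, hrs, smul_eq_mul]; ring
    rw [e]
    apply add_mem
    · rw [pow_succ']
      exact Ideal.mul_mem_mul (sub_algebraMap_mem t) hy'
    · exact Ideal.mul_mem_left _ _ hξ

end Groth.Agent.Lib.Helper21.SymAlg
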