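import Mathlib
import Groth.Agent.Lib.Helper21.SymGrC

/-!
# Helper library (helper21): the symmetric algebra model of `R/J^n`

Given a section `R/J → R/J^n` (encoded as an algebra structure) and `J/J²` projective, we build
`Θ : Sym_{R/J}(J/J²) → R/J^n` and study its graded behaviour.
-/

set_option autoImplicit false

namespace Groth.Agent.Lib.Helper21.SymModel

open TensorProduct
open Groth.Agent.Lib.Helper21.SymGr Groth.Agent.Lib.Helper21.SymAlg

universe u

variable {R : Type u} [CommRing R] (J : Ideal R) (n : ℕ)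

/-- The ideal `J · R/J^n`. -/
def K : Ideal (R ⧸ J ^ n) := J.map (Ideal.Quotient.mk (J ^ n))

theorem K_pow (j : ℕ) : K J n ^ j = (J ^ j).map (Ideal.Quotient.mk (J ^ n)) :=
  (Ideal.map_pow _ _ _).symm

theorem K_pow_self : K J n ^ n = ⊥ := by
  rw [K_pow, Ideal.map_quotient_self]

theorem mk_mem_K_pow_iff {j : ℕ} (hj : j ≤ n) (r : R) :
    Ideal.Quotient.mk (J ^ n) r ∈ K J n ^ j ↔ r ∈ J ^ j := by
  rw [K_pow, Ideal.mem_quotient_iff_mem (Ideal.pow_le_pow_right hj)]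

theorem exists_mk_eq_of_mem_K_pow {j : ℕ} {t : R ⧸ J ^ n} (ht : t ∈ K J n ^ j) :
    ∃ r ∈ J ^ j, Ideal.Quotient.mk (J ^ n) r = t := by
  rw [K_pow] at ht
  exact (Ideal.mem_map_iff_of_surjective _ Ideal.Quotient.mk_surjective).mp ht

theorem factor_eq_zero {j : ℕ} (hj : j ≤ n) {t : R ⧸ J ^ n} (ht : t ∈ K J n ^ j) :
    Ideal.Quotient.factor (Ideal.pow_le_pow_right hj) t = 0 := by
  obtain ⟨r, hr, rfl⟩ := exists_mk_eq_of_mem_K_pow J n ht
  rw [Ideal.Quotient.factor_mk, Ideal.Quotient.eq_zero_iff_mem]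
  exact hr

/-- The natural `R`-linear map `J/J² → (R/J^n)/K²`. -/
noncomputable def natR : J.Cotangent →ₗ[R] (R ⧸ J ^ n) ⧸ K J n ^ 2 :=
  Ideal.Cotangent.lift
    (((Ideal.Quotient.mkₐ R (K J n ^ 2)).toLinearMap ∘ₗ Algebra.linearMap R (R ⧸ J ^ n)) ∘ₗ
      J.subtype) (by
    intro x y
    change Ideal.Quotient.mk (K J n ^ 2) (Ideal.Quotient.mk (J ^ n) ((x * y : ↥J) : R)) = 0
    rw [Ideal.Quotient.eq_zero_iff_mem, pow_two]
    have : ((x * y : ↥J) : R) = (x : R) * (y : R) := rfl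
    rw [this, map_mul]
    exact Ideal.mul_mem_mul (Ideal.mem_map_of_mem _ x.2) (Ideal.mem_map_of_mem _ y.2))

theorem natR_toCotangent (x : ↥J) :
    natR J n (J.toCotangent x) =
      Ideal.Quotient.mk (K J n ^ 2) (Ideal.Quotient.mk (J ^ n) (x : R)) := rfl

variable [Algebra (R ⧸ J) (R ⧸ J ^ n)]

/-- The natural map `J/J² → (R/J^n)/K²` is linear over `R/J` acting through the section. -/
noncomputable def nat
    (hσ : ∀ r : R, algebraMap (R ⧸ J) (R ⧸ J ^ n) (Ideal.Quotient.mk J r) -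
      Ideal.Quotient.mk (J ^ n) r ∈ K J n) :
    J.Cotangent →ₗ[R ⧸ J] (R ⧸ J ^ n) ⧸ K J n ^ 2 where
  toFun := natR J n
  map_add' := map_add _
  map_smul' c v := by
    obtain ⟨r, rfl⟩ := Ideal.Quotient.mk_surjective c
    obtain ⟨x, rfl⟩ := J.toCotangent_surjective v
    have h1 : (Ideal.Quotient.mk J r) • J.toCotangent x = r • J.toCotangent x :=
      IsScalarTower.algebraMap_smul (R ⧸ J) r (J.toCotangent x)
    rw [h1, map_smul, RingHom.id_apply, natR_toCotangent, Algebra.smul_def, Algebra.smul_def]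
    rw [← sub_eq_zero, ← sub_mul]
    change (Ideal.Quotient.mk (K J n ^ 2) (Ideal.Quotient.mk (J ^ n) r) -
      Ideal.Quotient.mk (K J n ^ 2) (algebraMap (R ⧸ J) (R ⧸ J ^ n) (Ideal.Quotient.mk J r))) *
        Ideal.Quotient.mk (K J n ^ 2) (Ideal.Quotient.mk (J ^ n) (x : R)) = 0
    rw [← map_sub, ← map_mul, Ideal.Quotient.eq_zero_iff_mem, pow_two]
    refine Ideal.mul_mem_mul ?_ (Ideal.mem_map_of_mem _ x.2)
    have := (K J n).neg_mem (hσ r)
    rwa [neg_sub] at this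


section model

variable (hσ : ∀ r : R, algebraMap (R ⧸ J) (R ⧸ J ^ n) (Ideal.Quotient.mk J r) -
      Ideal.Quotient.mk (J ^ n) r ∈ K J n) [Module.Projective (R ⧸ J) J.Cotangent]

theorem exists_splitting :
    ∃ s : J.Cotangent →ₗ[R ⧸ J] (R ⧸ J ^ n),
      ∀ v, Ideal.Quotient.mk (K J n ^ 2) (s v) = nat J n hσ v := by
  obtain ⟨s, hs⟩ := Module.projective_lifting_property
    ((Ideal.Quotient.mkₐ (R ⧸ J) (K J n ^ 2)).toLinearMap) (nat J n hσ)
    Ideal.Quotient.mk_surjective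
  exact ⟨s, fun v => LinearMap.congr_fun hs v⟩

/-- A chosen `R/J`-linear splitting `J/J² → R/J^n`. -/
noncomputable def spl : J.Cotangent →ₗ[R ⧸ J] (R ⧸ J ^ n) := (exists_splitting J n hσ).choose

theorem mk_spl (v : J.Cotangent) :
    Ideal.Quotient.mk (K J n ^ 2) (spl J n hσ v) = nat J n hσ v :=
  (exists_splitting J n hσ).choose_spec v

theorem spl_toCotangent_sub_mem (x : ↥J) :
    spl J n hσ (J.toCotangent x) - Ideal.Quotient.mk (J ^ n) (x : R) ∈ K J n ^ 2 := by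
  rw [← Ideal.Quotient.eq, mk_spl]
  rfl

theorem spl_mem (v : J.Cotangent) : spl J n hσ v ∈ K J n := by
  obtain ⟨x, rfl⟩ := J.toCotangent_surjective v
  have h1 := spl_toCotangent_sub_mem J n hσ x
  have h2 : Ideal.Quotient.mk (J ^ n) (x : R) ∈ K J n := Ideal.mem_map_of_mem _ x.2
  have := add_mem (Ideal.pow_le_self two_ne_zero h1) h2
  rwa [sub_add_cancel] at this

/-- The comparison map from the symmetric algebra. -/
noncomputable def Theta : SymmetricAlgebra (R ⧸ J) J.Cotangent →ₐ[R ⧸ J] (R ⧸ J ^ n) :=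
  SymmetricAlgebra.lift (spl J n hσ)

theorem Theta_ι (v : J.Cotangent) :
    Theta J n hσ (SymmetricAlgebra.ι (R ⧸ J) J.Cotangent v) = spl J n hσ v :=
  SymmetricAlgebra.lift_ι_apply _ _

theorem map_augIdeal_le :
    (augIdeal (R ⧸ J) J.Cotangent).map (Theta J n hσ).toRingHom ≤ K J n := by
  rw [augIdeal, Ideal.map_span, Ideal.span_le]
  rintro _ ⟨_, ⟨v, rfl⟩, rfl⟩
  change Theta J n hσ _ ∈ K J n
  rw [Theta_ι]
  exact spl_mem J n hσ v

theorem grSurj_zero :
    GrSurj (Theta J n hσ).toRingHom (augIdeal (R ⧸ J) J.Cotangent) (K J n) 0 := by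
  intro y _
  obtain ⟨r, rfl⟩ := Ideal.Quotient.mk_surjective y
  refine ⟨algebraMap (R ⧸ J) _ (Ideal.Quotient.mk J r), by simp, ?_⟩
  change _ - Theta J n hσ _ ∈ _
  rw [AlgHom.commutes, zero_add, pow_one]
  have := (K J n).neg_mem (hσ r)
  rwa [neg_sub] at this

theorem grSurj_one :
    GrSurj (Theta J n hσ).toRingHom (augIdeal (R ⧸ J) J.Cotangent) (K J n) 1 := by
  intro y hy
  obtain ⟨r, hr, rfl⟩ := exists_mk_eq_of_mem_K_pow J n hy
  rw [pow_one] at hr
  refine ⟨SymmetricAlgebra.ι (R ⧸ J) J.Cotangent (J.toCotangent ⟨r, hr⟩), by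
    rw [pow_one]; exact ι_mem _, ?_⟩
  change _ - Theta J n hσ _ ∈ _
  rw [Theta_ι]
  have := (K J n ^ 2).neg_mem (spl_toCotangent_sub_mem J n hσ ⟨r, hr⟩)
  rwa [neg_sub] at this

theorem grSurj (m : ℕ) :
    GrSurj (Theta J n hσ).toRingHom (augIdeal (R ⧸ J) J.Cotangent) (K J n) m :=
  grSurj_all (map_augIdeal_le J n hσ) (grSurj_zero J n hσ) (grSurj_one J n hσ) m

theorem Theta_surjective : Function.Surjective (Theta J n hσ) := by
  intro y
  obtain ⟨x, -, hx⟩ := exists_sub_mem_pow (grSurj J n hσ) n 0 y (by simp)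
  rw [zero_add, K_pow_self, Ideal.mem_bot, sub_eq_zero] at hx
  exact ⟨x, hx.symm⟩

theorem grInj_zero (hn : n ≠ 0) :
    GrInj (Theta J n hσ).toRingHom (augIdeal (R ⧸ J) J.Cotangent) (K J n) 0 := by
  intro x _ hx
  rw [zero_add, pow_one] at hx ⊢
  change Theta J n hσ x ∈ K J n at hx
  have h1 := sub_algebraMap_mem x
  have h2 : Theta J n hσ (x - algebraMap (R ⧸ J) _ (SymmetricAlgebra.algebraMapInv x)) ∈ K J n :=
    map_augIdeal_le J n hσ (Ideal.mem_map_of_mem _ h1)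
  rw [map_sub, AlgHom.commutes] at h2
  have h3 : algebraMap (R ⧸ J) (R ⧸ J ^ n) (SymmetricAlgebra.algebraMapInv x) ∈ K J n := by
    have := sub_mem hx h2
    rwa [sub_sub_cancel] at this
  obtain ⟨r, hr⟩ := Ideal.Quotient.mk_surjective (SymmetricAlgebra.algebraMapInv x)
  rw [← hr] at h3
  have h4 : Ideal.Quotient.mk (J ^ n) r ∈ K J n := by
    have := sub_mem h3 (hσ r)
    rwa [sub_sub_cancel] at this
  have h5 : r ∈ J := by
    have := (mk_mem_K_pow_iff J n (j := 1) (Nat.one_le_iff_ne_zero.mpr hn) r).mp (by simpa using h4)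
    simpa using this
  rw [mem_augIdeal_iff, ← hr, Ideal.Quotient.eq_zero_iff_mem]
  exact h5

end model

end Groth.Agent.Lib.Helper21.SymModel
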