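import Mathlib
import Groth.Agent.Lib.Helper21.SymGrD

/-!
# Helper library (helper21): graded injectivity of the symmetric algebra model from `SymGrBijective`
-/

set_option autoImplicit false

namespace Groth.Agent.Lib.Helper21.SymModel

open TensorProduct
open Groth.Agent.Lib.Helper21.SymGr Groth.Agent.Lib.Helper21.SymAlg

universe u

variable {R : Type u} [CommRing R] (J : Ideal R)

/-- A ring map from the symmetric algebra to `R/J^(m+1)` which is the identity on `J/J²` up to `J²`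
is computed on `Sym^m` by the canonical map. -/
theorem map_tau_eq_Phi {ι : Type u} [Fintype ι] [Nonempty ι]
    (Θ' : SymmetricAlgebra (R ⧸ J) J.Cotangent →+* R ⧸ J ^ (Fintype.card ι + 1))
    (h : ∀ x : ↥J, Θ' (SymmetricAlgebra.ι (R ⧸ J) J.Cotangent (J.toCotangent x)) -
        Ideal.Quotient.mk _ (x : R) ∈
          (J ^ 2).map (Ideal.Quotient.mk (J ^ (Fintype.card ι + 1))))
    (ξ : SymmetricPower R ι J.Cotangent) :
    Θ' (tau R (R ⧸ J) J.Cotangent ι ξ) = Phi J ι ξ := by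
  have key := SymPow.addHom_ext
    (Θ'.toAddMonoidHom.comp (tau R (R ⧸ J) J.Cotangent ι).toAddMonoidHom)
    (Phi J ι).toAddMonoidHom ?_
  · exact DFunLike.congr_fun key ξ
  intro v
  have hv : v = fun i => J.toCotangent (sec J (v i)) := by
    funext i; rw [toCotangent_sec]
  rw [hv]
  change Θ' (tau R (R ⧸ J) J.Cotangent ι (SymmetricPower.tprod R _)) =
    Phi J ι (SymmetricPower.tprod R _)
  rw [tau_tprod, Phi_tprod, map_prod, map_prod, ← sub_eq_zero]
  have hmem := prod_sub_prod_mem (J.map (Ideal.Quotient.mk (J ^ (Fintype.card ι + 1))))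
    Finset.univ
    (fun i => Θ' (SymmetricAlgebra.ι (R ⧸ J) J.Cotangent (J.toCotangent (sec J (v i)))))
    (fun i => Ideal.Quotient.mk (J ^ (Fintype.card ι + 1)) ((sec J (v i) : ↥J) : R))
    (fun i _ => by
      have h1 := h (sec J (v i))
      rw [Ideal.map_pow] at h1
      have h2 : Ideal.Quotient.mk (J ^ (Fintype.card ι + 1)) ((sec J (v i) : ↥J) : R) ∈
          J.map (Ideal.Quotient.mk (J ^ (Fintype.card ι + 1))) :=
        Ideal.mem_map_of_mem _ (sec J (v i)).2
      have := add_mem (Ideal.pow_le_self two_ne_zero h1) h2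
      rwa [sub_add_cancel] at this)
    (fun i _ => Ideal.mem_map_of_mem _ (sec J (v i)).2)
    (fun i _ => by
      have h1 := h (sec J (v i))
      rwa [Ideal.map_pow] at h1)
  rw [Finset.card_univ, ← Ideal.map_pow, Ideal.map_quotient_self, Ideal.mem_bot] at hmem
  exact hmem

variable (n : ℕ) [Algebra (R ⧸ J) (R ⧸ J ^ n)]
  (hσ : ∀ r : R, algebraMap (R ⧸ J) (R ⧸ J ^ n) (Ideal.Quotient.mk J r) -
      Ideal.Quotient.mk (J ^ n) r ∈ K J n) [Module.Projective (R ⧸ J) J.Cotangent]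

theorem grInj_of_card (hcanon : ∀ (ι : Type u) [Fintype ι] [Nonempty ι],
      Function.Injective (canon J ι)) (ι : Type u) [Fintype ι] [Nonempty ι]
    (hm : Fintype.card ι + 1 ≤ n) :
    GrInj (Theta J n hσ).toRingHom (augIdeal (R ⧸ J) J.Cotangent) (K J n) (Fintype.card ι) := by
  intro x hx hΘx
  obtain ⟨ξ, hξ⟩ := exists_tau_sub_mem R (R ⧸ J) J.Cotangent Ideal.Quotient.mk_surjective ι x hx
  let Θ' : SymmetricAlgebra (R ⧸ J) J.Cotangent →+* R ⧸ J ^ (Fintype.card ι + 1) :=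
    (Ideal.Quotient.factor (Ideal.pow_le_pow_right hm)).comp (Theta J n hσ).toRingHom
  have hΘ'x : Θ' x = 0 := factor_eq_zero J n hm hΘx
  have hΘ'y : Θ' (x - tau R (R ⧸ J) J.Cotangent ι ξ) = 0 :=
    factor_eq_zero J n hm (apply_mem_pow (map_augIdeal_le J n hσ) hξ)
  have hΘ'τ : Θ' (tau R (R ⧸ J) J.Cotangent ι ξ) = 0 := by
    rw [map_sub, hΘ'x, zero_sub, neg_eq_zero] at hΘ'y
    exact hΘ'y
  have hG := map_tau_eq_Phi J Θ' (fun y => by
    have h0 : Θ' (SymmetricAlgebra.ι (R ⧸ J) J.Cotangent (J.toCotangent y)) =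
        Ideal.Quotient.factor (Ideal.pow_le_pow_right hm) (spl J n hσ (J.toCotangent y)) := by
      change Ideal.Quotient.factor (Ideal.pow_le_pow_right hm) (Theta J n hσ _) = _
      rw [Theta_ι]
    have h1 := spl_toCotangent_sub_mem J n hσ y
    obtain ⟨r, hr, hr'⟩ := exists_mk_eq_of_mem_K_pow J n h1
    have h2 : Ideal.Quotient.factor (Ideal.pow_le_pow_right hm) (spl J n hσ (J.toCotangent y)) -
        Ideal.Quotient.mk (J ^ (Fintype.card ι + 1)) (y : R) =
        Ideal.Quotient.mk (J ^ (Fintype.card ι + 1)) r := by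
      rw [← Ideal.Quotient.factor_mk (Ideal.pow_le_pow_right hm) (y : R), ← map_sub, ← hr',
        Ideal.Quotient.factor_mk]
    rw [h0, h2]
    exact Ideal.mem_map_of_mem _ hr) ξ
  rw [hΘ'τ] at hG
  have hξ0 : ξ = 0 := by
    apply (Phi_injective_iff J ι).mpr (hcanon ι)
    rw [← hG, map_zero]
  rw [hξ0, map_zero, sub_zero] at hξ
  exact hξ

theorem grInj (hn : n ≠ 0) (hcanon : ∀ (ι : Type u) [Fintype ι] [Nonempty ι],
      Function.Injective (canon J ι)) (m : ℕ) (hm : m + 1 ≤ n) :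
    GrInj (Theta J n hσ).toRingHom (augIdeal (R ⧸ J) J.Cotangent) (K J n) m := by
  rcases Nat.eq_zero_or_pos m with rfl | hpos
  · exact grInj_zero J n hσ hn
  · have : Nonempty (ULift.{u} (Fin m)) := ⟨⟨⟨0, hpos⟩⟩⟩
    have hc : Fintype.card (ULift.{u} (Fin m)) = m := by simp
    have := grInj_of_card J n hσ hcanon (ULift.{u} (Fin m)) (by rw [hc]; exact hm)
    rwa [hc] at this

theorem mem_pow_of_Theta_eq_zero (hn : n ≠ 0) (hcanon : ∀ (ι : Type u) [Fintype ι] [Nonempty ι],
      Function.Injective (canon J ι)) (x : SymmetricAlgebra (R ⧸ J) J.Cotangent)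
    (hx : Theta J n hσ x = 0) : x ∈ augIdeal (R ⧸ J) J.Cotangent ^ n :=
  mem_pow_of_grInj n (fun m hm => grInj J n hσ hn hcanon m hm) x (by
    change Theta J n hσ x ∈ _
    rw [hx]; exact zero_mem _)

end Groth.Agent.Lib.Helper21.SymModel
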