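import Mathlib
import Groth.Prelude.Def_CAlgX
import Groth.Agent.Lib.Helper21.SymGrE

/-!
# Helper library (helper21): `J/J²` projective and `Sym(J/J²) ≅ gr_J(R)` imply adic formal smoothness
-/

set_option autoImplicit false

namespace Groth.Agent.Lib.Helper21.SymSmooth

open TensorProduct
open Groth.Agent.Lib.Helper21.SymGr Groth.Agent.Lib.Helper21.SymAlg
open Groth.Agent.Lib.Helper21.SymModel

universe u

theorem formallySmooth_symmetricAlgebra (C : Type u) [CommRing C] (V : Type u) [AddCommGroup V]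
    [Module C V] [Module.Projective C V] : Algebra.FormallySmooth C (SymmetricAlgebra C V) := by
  refine Algebra.FormallySmooth.of_comp_surjective ?_
  intro D _ _ I hI g
  obtain ⟨l, hl⟩ := Module.projective_lifting_property
    ((Ideal.Quotient.mkₐ C I).toLinearMap) (g.toLinearMap ∘ₗ SymmetricAlgebra.ι C V)
    Ideal.Quotient.mk_surjective
  refine ⟨SymmetricAlgebra.lift l, ?_⟩
  apply SymmetricAlgebra.algHom_ext
  ext x
  have := LinearMap.congr_fun hl x
  simpa using this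

variable {A R : Type u} [CommRing A] [CommRing R] [Algebra A R] (J : Ideal R)

instance isScalarTower_cotangent : IsScalarTower A (R ⧸ J) J.Cotangent :=
  IsScalarTower.of_algebraMap_smul (fun a v => by
    rw [IsScalarTower.algebraMap_apply A R (R ⧸ J), IsScalarTower.algebraMap_smul,
      IsScalarTower.algebraMap_smul])

theorem isAdicFormallySmooth_of_symGr [Algebra.FormallySmooth A (R ⧸ J)]
    [Module.Projective (R ⧸ J) J.Cotangent] (hSym : PP16.SymGrBijective R J) :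
    CAlgX.IsAdicFormallySmooth A R J := by
  intro E _ _ N hN ψ hψ
  obtain ⟨k, hk⟩ := hψ
  have hcanon := (symGrBijective_iff J).mp hSym
  obtain ⟨n, hn_def⟩ : ∃ n, n = 2 * (k + 1) := ⟨_, rfl⟩
  have hn : n ≠ 0 := by omega
  have hle : J ^ n ≤ J := Ideal.pow_le_self hn
  let q : (R ⧸ J ^ n) →ₐ[A] (R ⧸ J) :=
    Ideal.Quotient.liftₐ (J ^ n) (Ideal.Quotient.mkₐ A J) (fun r hr => by
      rw [Ideal.Quotient.mkₐ_eq_mk, Ideal.Quotient.eq_zero_iff_mem]
      exact hle hr)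
  have hq_mk : ∀ r, q (Ideal.Quotient.mk _ r) = Ideal.Quotient.mk _ r := fun r => rfl
  have hqsurj : Function.Surjective q := by
    intro c
    obtain ⟨r, rfl⟩ := Ideal.Quotient.mk_surjective c
    exact ⟨Ideal.Quotient.mk _ r, hq_mk r⟩
  have hkerq : RingHom.ker (q : (R ⧸ J ^ n) →+* (R ⧸ J)) ≤ K J n := by
    intro t ht
    obtain ⟨r, rfl⟩ := Ideal.Quotient.mk_surjective t
    rw [RingHom.mem_ker] at ht
    have h1 : Ideal.Quotient.mk J r = 0 := ht
    exact Ideal.mem_map_of_mem _ (Ideal.Quotient.eq_zero_iff_mem.mp h1)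
  have hnil : IsNilpotent (RingHom.ker (q : (R ⧸ J ^ n) →+* (R ⧸ J))) := ⟨n, by
    rw [Ideal.zero_eq_bot, ← le_bot_iff, ← K_pow_self J n]
    exact Ideal.pow_right_mono hkerq n⟩
  let σ : (R ⧸ J) →ₐ[A] (R ⧸ J ^ n) :=
    Algebra.FormallySmooth.liftOfSurjective (AlgHom.id A _) q hqsurj hnil
  have hσq : ∀ c, q (σ c) = c := fun c =>
    Algebra.FormallySmooth.liftOfSurjective_apply _ _ _ _ c
  let algCT : Algebra (R ⧸ J) (R ⧸ J ^ n) := σ.toRingHom.toAlgebra
  have hσ : ∀ r : R, algebraMap (R ⧸ J) (R ⧸ J ^ n) (Ideal.Quotient.mk J r) -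
      Ideal.Quotient.mk (J ^ n) r ∈ K J n := by
    intro r
    apply hkerq
    rw [RingHom.mem_ker, map_sub]
    change q (σ _) - q (Ideal.Quotient.mk _ r) = 0
    rw [hσq, hq_mk, sub_self]
  have : IsScalarTower A (R ⧸ J) (R ⧸ J ^ n) :=
    IsScalarTower.of_algebraMap_eq (fun a => (σ.commutes a).symm)
  let ΘA : SymmetricAlgebra (R ⧸ J) J.Cotangent →ₐ[A] (R ⧸ J ^ n) :=
    (Theta J n hσ).restrictScalars A
  have hΘA : ∀ x, ΘA x = Theta J n hσ x := fun x => rfl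
  have hΘsurj : Function.Surjective ΘA := Theta_surjective J n hσ
  have hkn : k ≤ n := by omega
  let ψbar : (R ⧸ J ^ n) →ₐ[A] E ⧸ N :=
    Ideal.Quotient.liftₐ (J ^ n) ψ (fun r hr => hk r (Ideal.pow_le_pow_right hkn hr))
  have hψbar : ∀ r, ψbar (Ideal.Quotient.mk _ r) = ψ r := fun r => rfl
  have : Algebra.FormallySmooth (R ⧸ J) (SymmetricAlgebra (R ⧸ J) J.Cotangent) :=
    formallySmooth_symmetricAlgebra _ _
  have : Algebra.FormallySmooth A (SymmetricAlgebra (R ⧸ J) J.Cotangent) :=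
    Algebra.FormallySmooth.comp A (R ⧸ J) _
  have hNnil : IsNilpotent N := ⟨2, hN⟩
  let χ₀ := Algebra.FormallySmooth.lift N hNnil (ψbar.comp ΘA)
  have hχ₀ : ∀ x, Ideal.Quotient.mk N (χ₀ x) = ψbar (ΘA x) := fun x =>
    Algebra.FormallySmooth.mk_lift N hNnil _ x
  have h1 : ∀ x ∈ augIdeal (R ⧸ J) J.Cotangent ^ (k + 1), χ₀ x ∈ N := by
    intro x hx
    rw [← Ideal.Quotient.eq_zero_iff_mem, hχ₀]
    have hmem : ΘA x ∈ K J n ^ (k + 1) := apply_mem_pow (map_augIdeal_le J n hσ) hx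
    obtain ⟨r, hr, hr'⟩ := exists_mk_eq_of_mem_K_pow J n hmem
    rw [← hr', hψbar]
    exact hk r (Ideal.pow_le_pow_right (Nat.le_succ k) hr)
  have h2 : ∀ x ∈ augIdeal (R ⧸ J) J.Cotangent ^ n, χ₀ x = 0 := by
    intro x hx
    have hpow : augIdeal (R ⧸ J) J.Cotangent ^ n =
        augIdeal (R ⧸ J) J.Cotangent ^ (k + 1) * augIdeal (R ⧸ J) J.Cotangent ^ (k + 1) := by
      rw [← pow_add]; congr 1; omega
    rw [hpow] at hx
    have hmem : χ₀ x ∈ N * N := by
      refine Submodule.mul_induction_on hx (fun a ha b hb => ?_) (fun a b ha hb => ?_)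
      · rw [map_mul]; exact Ideal.mul_mem_mul (h1 a ha) (h1 b hb)
      · rw [map_add]; exact add_mem ha hb
    rw [← pow_two, hN] at hmem
    exact hmem
  have hker : ∀ x ∈ RingHom.ker ΘA, χ₀ x = 0 := fun x hx =>
    h2 x (mem_pow_of_Theta_eq_zero J n hσ hn hcanon x hx)
  let e := Ideal.quotientKerAlgEquivOfSurjective hΘsurj
  let χ₁ : (SymmetricAlgebra (R ⧸ J) J.Cotangent ⧸ RingHom.ker ΘA) →ₐ[A] E :=
    Ideal.Quotient.liftₐ _ χ₀ hker
  refine ⟨(χ₁.comp e.symm.toAlgHom).comp (Ideal.Quotient.mkₐ A (J ^ n)), ?_⟩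
  ext r
  obtain ⟨x, hx⟩ := hΘsurj (Ideal.Quotient.mk (J ^ n) r)
  have he : e.symm (Ideal.Quotient.mk (J ^ n) r) = Ideal.Quotient.mk _ x := by
    rw [← hx]
    exact Ideal.quotientKerAlgEquivOfSurjective_symm_apply hΘsurj x
  change Ideal.Quotient.mk N (χ₁ (e.symm (Ideal.Quotient.mk (J ^ n) r))) = ψ r
  rw [he]
  change Ideal.Quotient.mk N (χ₀ x) = ψ r
  rw [hχ₀, hx, hψbar]

end Groth.Agent.Lib.Helper21.SymSmooth
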