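import Mathlib
import Groth.Prelude.Def_CAlgX
import Groth.Agent.Lib.Helper21.SymGrF
import Groth.Agent.Lib.Helper6.FSAdic
import Groth.Agent.Lib.Helper6.TrivExtDer

/-!
# Helper library (helper21): the derivation `R → J/J²` splitting the conormal sequence when `R/J`
is formally smooth, and projectivity of `J/J²` for adically formally smooth `R`.
-/

set_option autoImplicit false

namespace Groth.Agent.Lib.Helper21.SymSmooth

open TensorProduct

universe u

variable {A R : Type u} [CommRing A] [CommRing R] [Algebra A R] (J : Ideal R)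

theorem exists_derivation [Algebra.FormallySmooth A (R ⧸ J)] :
    ∃ D : Derivation A R J.Cotangent, ∀ x : ↥J, D (x : R) = J.toCotangent x := by
  have hle : J ^ 2 ≤ J := Ideal.pow_le_self two_ne_zero
  let q : (R ⧸ J ^ 2) →ₐ[A] (R ⧸ J) :=
    Ideal.Quotient.liftₐ (J ^ 2) (Ideal.Quotient.mkₐ A J) (fun r hr => by
      rw [Ideal.Quotient.mkₐ_eq_mk, Ideal.Quotient.eq_zero_iff_mem]
      exact hle hr)
  have hq_mk : ∀ r, q (Ideal.Quotient.mk _ r) = Ideal.Quotient.mk _ r := fun r => rfl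
  have hqsurj : Function.Surjective q := by
    intro c
    obtain ⟨r, rfl⟩ := Ideal.Quotient.mk_surjective c
    exact ⟨Ideal.Quotient.mk _ r, hq_mk r⟩
  have hkerq : RingHom.ker (q : (R ⧸ J ^ 2) →+* (R ⧸ J)) ≤ J.cotangentIdeal := by
    intro t ht
    obtain ⟨r, rfl⟩ := Ideal.Quotient.mk_surjective t
    rw [RingHom.mem_ker] at ht
    have h1 : Ideal.Quotient.mk J r = 0 := ht
    exact Ideal.mk_mem_cotangentIdeal.mpr (Ideal.Quotient.eq_zero_iff_mem.mp h1)
  have hnil : IsNilpotent (RingHom.ker (q : (R ⧸ J ^ 2) →+* (R ⧸ J))) := ⟨2, by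
    rw [Ideal.zero_eq_bot, ← le_bot_iff, ← J.cotangentIdeal_square]
    exact Ideal.pow_right_mono hkerq 2⟩
  let σ : (R ⧸ J) →ₐ[A] (R ⧸ J ^ 2) :=
    Algebra.FormallySmooth.liftOfSurjective (AlgHom.id A _) q hqsurj hnil
  have hσq : ∀ c, q (σ c) = c := fun c =>
    Algebra.FormallySmooth.liftOfSurjective_apply _ _ _ _ c
  let ε : R → R ⧸ J ^ 2 := fun r => Ideal.Quotient.mk (J ^ 2) r - σ (Ideal.Quotient.mk J r)
  have hε : ∀ r, ε r ∈ J.cotangentIdeal := by
    intro r
    apply hkerq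
    rw [RingHom.mem_ker]
    change q (Ideal.Quotient.mk (J ^ 2) r - σ (Ideal.Quotient.mk J r)) = 0
    rw [map_sub, hσq, hq_mk, sub_self]
  have hεmul : ∀ r r', ε (r * r') = Ideal.Quotient.mk (J ^ 2) r * ε r' +
      Ideal.Quotient.mk (J ^ 2) r' * ε r := by
    intro r r'
    have h0 : ε r * ε r' = 0 := by
      have : ε r * ε r' ∈ J.cotangentIdeal ^ 2 := by
        have hpw : J.cotangentIdeal ^ 2 = J.cotangentIdeal * J.cotangentIdeal := pow_two _
        rw [hpw]; exact Ideal.mul_mem_mul (hε r) (hε r')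
      rwa [J.cotangentIdeal_square, Ideal.mem_bot] at this
    have e : ε (r * r') = Ideal.Quotient.mk (J ^ 2) r * ε r' +
        Ideal.Quotient.mk (J ^ 2) r' * ε r - ε r * ε r' := by
      simp only [ε, map_mul]
      ring
    rw [e, h0, sub_zero]
  let D₀ : R → J.Cotangent := fun r => J.cotangentEquivIdeal.symm ⟨ε r, hε r⟩
  have hD₀ : ∀ r, J.cotangentToQuotientSquare (D₀ r) = ε r := by
    intro r
    rw [← Ideal.cotangentEquivIdeal_apply, LinearEquiv.apply_symm_apply]
  have hinj := J.cotangentToQuotientSquare_injective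
  have hsmul : ∀ (r : R) (v : J.Cotangent), J.cotangentToQuotientSquare (r • v) =
      Ideal.Quotient.mk (J ^ 2) r * J.cotangentToQuotientSquare v := by
    intro r v
    rw [map_smul, Algebra.smul_def]
    rfl
  let Dlin : R →ₗ[A] J.Cotangent :=
    { toFun := D₀
      map_add' := fun r r' => by
        apply hinj
        rw [map_add, hD₀, hD₀, hD₀]
        simp only [ε, map_add]
        ring
      map_smul' := fun a r => by
        apply hinj
        rw [RingHom.id_apply, ← IsScalarTower.algebraMap_smul R a (D₀ r), hsmul, hD₀, hD₀,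
          Algebra.smul_def]
        simp only [ε, map_mul]
        rw [← Ideal.Quotient.algebraMap_eq, ← IsScalarTower.algebraMap_apply A R (R ⧸ J ^ 2),
          ← Ideal.Quotient.algebraMap_eq, ← IsScalarTower.algebraMap_apply A R (R ⧸ J),
          σ.commutes]
        ring }
  refine ⟨Derivation.mk' Dlin (fun r r' => ?_), fun x => ?_⟩
  · apply hinj
    change J.cotangentToQuotientSquare (D₀ (r * r')) =
      J.cotangentToQuotientSquare (r • D₀ r' + r' • D₀ r)
    rw [map_add, hsmul, hsmul, hD₀, hD₀, hD₀, hεmul]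
  · apply hinj
    change J.cotangentToQuotientSquare (D₀ (x : R)) = _
    rw [hD₀, Ideal.toCotangent_to_quotient_square]
    simp only [ε]
    rw [Ideal.Quotient.eq_zero_iff_mem.mpr x.2, map_zero, sub_zero]
    rfl


theorem projective_cotangent [Algebra.FormallySmooth A (R ⧸ J)]
    (h : CAlgX.IsAdicFormallySmooth A R J) : Module.Projective (R ⧸ J) J.Cotangent := by
  obtain ⟨D, hD⟩ := exists_derivation (A := A) J
  have hproj : Module.Projective (R ⧸ J) ((R ⧸ J) ⊗[R] Ω[R⁄A]) :=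
    Groth.Agent.Lib.Helper6.TrivExtDer.projective_tensor_kaehler (⊥ : Ideal A) J ⟨1, by simp⟩
      (Groth.Agent.Lib.Helper6.FSAdic.isFormallySmoothAdic_bot_of_isAdicFormallySmooth h) J
      ⟨1, by simp⟩
  have hzero : ∀ (x : ↥J) (w : Ω[R⁄A]), (1 : R ⧸ J) ⊗ₜ[R] ((x : R) • w) = 0 := by
    intro x w
    rw [← smul_tmul, Algebra.smul_def, mul_one, Ideal.Quotient.algebraMap_eq,
      Ideal.Quotient.eq_zero_iff_mem.mpr x.2, zero_tmul]
  let iJ : ↥J →ₗ[R] (R ⧸ J) ⊗[R] Ω[R⁄A] :=
    { toFun := fun x => (1 : R ⧸ J) ⊗ₜ[R] KaehlerDifferential.D A R (x : R)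
      map_add' := fun x y => by
        change (1 : R ⧸ J) ⊗ₜ[R] KaehlerDifferential.D A R ((x : R) + (y : R)) = _
        rw [map_add, tmul_add]
      map_smul' := fun r x => by
        change (1 : R ⧸ J) ⊗ₜ[R] KaehlerDifferential.D A R (r * (x : R)) = _
        rw [Derivation.leibniz, tmul_add, hzero, add_zero, RingHom.id_apply, tmul_smul] }
  let iR : J.Cotangent →ₗ[R] (R ⧸ J) ⊗[R] Ω[R⁄A] := Ideal.Cotangent.lift iJ (fun x y => by
    change (1 : R ⧸ J) ⊗ₜ[R] KaehlerDifferential.D A R ((x : R) * (y : R)) = 0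
    rw [Derivation.leibniz, tmul_add, hzero, hzero, add_zero])
  let i : J.Cotangent →ₗ[R ⧸ J] (R ⧸ J) ⊗[R] Ω[R⁄A] :=
    iR.extendScalarsOfSurjective Ideal.Quotient.mk_surjective
  let ρ : (R ⧸ J) ⊗[R] Ω[R⁄A] →ₗ[R ⧸ J] J.Cotangent :=
    LinearMap.liftBaseChange (R ⧸ J) D.liftKaehlerDifferential
  refine Module.Projective.of_split i ρ ?_
  ext v
  obtain ⟨x, rfl⟩ := J.toCotangent_surjective v
  change ρ ((1 : R ⧸ J) ⊗ₜ[R] KaehlerDifferential.D A R (x : R)) = J.toCotangent x
  rw [LinearMap.liftBaseChange_tmul, one_smul, Derivation.liftKaehlerDifferential_comp_D, hD]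

end Groth.Agent.Lib.Helper21.SymSmooth
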