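import Mathlib
import Groth.Agent.Lib.Helper21.SymPowA

/-!
# Helper library (helper21): functoriality of `SymmetricPower`, multilinear extensionality
-/

set_option autoImplicit false

namespace Groth.Agent.Lib.Helper21.SymPow

open TensorProduct

universe u v w

variable {R ι : Type u} [CommRing R] {M : Type v} [AddCommGroup M] [Module R M]
  {N : Type w} [AddCommGroup N] [Module R N]

/-- Functoriality of the symmetric power. -/
noncomputable def map (g : M →ₗ[R] N) : SymmetricPower R ι M →ₗ[R] SymmetricPower R ι N :=
  lift ((SymmetricPower.tprod R).compLinearMap (fun _ => g))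
    (fun e v => SymmetricPower.tprod_equiv e (fun i => g (v i)))

theorem map_tprod (g : M →ₗ[R] N) (v : ι → M) :
    map g (SymmetricPower.tprod R v) = SymmetricPower.tprod R (fun i => g (v i)) := by
  exact lift_tprod _ _ v

theorem map_map_of_comp_eq_id (g : M →ₗ[R] N) (g' : N →ₗ[R] M) (h : g' ∘ₗ g = LinearMap.id)
    (ξ : SymmetricPower R ι M) : map g' (map g ξ) = ξ := by
  have : (map g').comp (map g) = (LinearMap.id : SymmetricPower R ι M →ₗ[R] _) := by
    apply linearMap_ext
    intro v
    rw [LinearMap.comp_apply, map_tprod, map_tprod, LinearMap.id_apply]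
    congr 1
    funext i
    exact LinearMap.congr_fun h (v i)
  exact LinearMap.congr_fun this ξ

/-- Two `R`-multilinear maps on a module with a basis over a quotient ring `C` of `R` agree if they
agree on basis vectors. -/
theorem multilinear_ext_of_basis {C : Type*} [CommRing C] [Algebra R C]
    (hRC : Function.Surjective (algebraMap R C)) [Module C M] [IsScalarTower R C M]
    {κ : Type*} (b : Module.Basis κ C M) [Finite ι]
    {f g : MultilinearMap R (fun _ : ι => M) N}
    (h : ∀ a : ι → κ, f (fun i => b (a i)) = g (fun i => b (a i))) : f = g := by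
  cases nonempty_fintype ι
  classical
  ext m
  have hm : m = fun i => ∑ k ∈ (b.repr (m i)).support,
      (Function.surjInv hRC (b.repr (m i) k)) • b k := by
    funext i
    conv_lhs => rw [← b.linearCombination_repr (m i), Finsupp.linearCombination_apply, Finsupp.sum]
    refine Finset.sum_congr rfl (fun k _ => ?_)
    rw [← IsScalarTower.algebraMap_smul C (Function.surjInv hRC (b.repr (m i) k)) (b k),
      Function.surjInv_eq hRC]
  rw [hm]
  simp_rw [MultilinearMap.map_sum_finset, MultilinearMap.map_smul_univ, h]

end Groth.Agent.Lib.Helper21.SymPow
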