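import Mathlib
import Groth.Agent.Lib.Helper21.SymPowB
import Groth.Agent.Lib.Helper21.SymGrC
import Groth.Agent.Lib.Helper21.AdicQuot

/-!
# Helper library (helper21): `Sym^n V → SymmetricAlgebra V / I^(n+1)` is injective for projective `V`
-/

set_option autoImplicit false

namespace Groth.Agent.Lib.Helper21.SymAlg

open TensorProduct

universe u

section combi

variable {ι κ : Type*} [Fintype ι]

/-- The exponent vector of a tuple of indices. -/
noncomputable def expo (a : ι → κ) : κ →₀ ℕ := ∑ i, Finsupp.single (a i) 1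

theorem expo_apply [DecidableEq κ] (a : ι → κ) (k : κ) :
    expo a k = (Finset.univ.filter (fun i => a i = k)).card := by
  rw [expo, Finsupp.finsetSum_apply, Finset.card_filter]
  refine Finset.sum_congr rfl (fun i _ => ?_)
  rw [Finsupp.single_apply]

theorem degree_expo (a : ι → κ) : (expo a).degree = Fintype.card ι := by
  rw [expo, map_sum]
  simp

theorem exists_perm_of_expo_eq (a a' : ι → κ) (h : expo a = expo a') :
    ∃ σ : Equiv.Perm ι, ∀ i, a (σ i) = a' i := by
  classical
  have hcard : ∀ k, Fintype.card {i // a' i = k} = Fintype.card {i // a i = k} := by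
    intro k
    have := DFunLike.congr_fun h k
    rw [expo_apply, expo_apply] at this
    rw [Fintype.card_subtype, Fintype.card_subtype]
    exact this.symm
  let e : ∀ k, {i // a' i = k} ≃ {i // a i = k} := fun k => Fintype.equivOfCardEq (hcard k)
  let σ : ι ≃ ι := (Equiv.sigmaFiberEquiv a').symm.trans
    ((Equiv.sigmaCongrRight e).trans (Equiv.sigmaFiberEquiv a))
  refine ⟨σ, fun i => ?_⟩
  exact (e (a' i) ⟨i, rfl⟩).2

end combi

section free

variable (R : Type u) {C : Type u} [CommRing R] [CommRing C] [Algebra R C]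
  {F : Type u} [AddCommGroup F] [Module C F] [Module R F] [IsScalarTower R C F]
  {κ : Type u} (b : Module.Basis κ C F)
  {ι : Type u} [Fintype ι]

theorem equiv_tau_tprod (a : ι → κ) :
    SymmetricAlgebra.equivMvPolynomial b
      (tau R C F ι (SymmetricPower.tprod R (fun i => b (a i)))) =
        MvPolynomial.monomial (expo a) 1 := by
  rw [tau_tprod, map_prod]
  simp only [SymmetricAlgebra.equivMvPolynomial_ι_apply]
  rw [expo, MvPolynomial.monomial_sum_one]
  rfl

theorem map_augIdeal_le :
    (augIdeal C F).map (SymmetricAlgebra.equivMvPolynomial b).toAlgHom.toRingHom ≤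
      MvPolynomial.idealOfVars κ C := by
  rw [augIdeal, Ideal.map_span, Ideal.span_le]
  rintro _ ⟨_, ⟨f, rfl⟩, rfl⟩
  change SymmetricAlgebra.equivMvPolynomial b (SymmetricAlgebra.ι C F f) ∈ _
  rw [← b.linearCombination_repr f, Finsupp.linearCombination_apply, Finsupp.sum, map_sum,
    map_sum]
  refine Ideal.sum_mem _ (fun k _ => ?_)
  rw [map_smul, map_smul, SymmetricAlgebra.equivMvPolynomial_ι_apply]
  exact Submodule.smul_of_tower_mem _ _ (Ideal.subset_span ⟨k, rfl⟩)

theorem coeff_equiv_eq_zero {x : SymmetricAlgebra C F} {m : ℕ}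
    (hx : x ∈ augIdeal C F ^ (m + 1)) (μ : κ →₀ ℕ) (hμ : μ.degree ≤ m) :
    (SymmetricAlgebra.equivMvPolynomial b x).coeff μ = 0 := by
  have h1 : SymmetricAlgebra.equivMvPolynomial b x ∈ MvPolynomial.idealOfVars κ C ^ (m + 1) := by
    have := Ideal.mem_map_of_mem (SymmetricAlgebra.equivMvPolynomial b).toAlgHom.toRingHom hx
    rw [Ideal.map_pow] at this
    exact Ideal.pow_right_mono (map_augIdeal_le b) _ this
  exact (MvPolynomial.mem_pow_idealOfVars_iff' _ _).mp h1 μ (Nat.lt_succ_of_le hμ)


variable (hRC : Function.Surjective (algebraMap R C)) [Nonempty ι]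

omit [Fintype ι] in
include hRC in
theorem exists_act : ∃ act : C →ₗ[R] Module.End R (SymmetricPower R ι F),
    ∀ r, act (algebraMap R C r) = r • (LinearMap.id : SymmetricPower R ι F →ₗ[R] _) := by
  have hker : LinearMap.ker (Algebra.linearMap R C) ≤
      LinearMap.ker (LinearMap.toSpanSingleton R (Module.End R (SymmetricPower R ι F)) 1) := by
    intro r hr
    rw [LinearMap.mem_ker, Algebra.linearMap_apply] at hr
    rw [LinearMap.mem_ker, LinearMap.toSpanSingleton_apply]
    ext ξ
    rw [LinearMap.smul_apply, Module.End.one_apply, LinearMap.zero_apply]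
    apply SymPow.smul_eq_zero_of_forall
    intro f
    rw [← IsScalarTower.algebraMap_smul C r f, hr, zero_smul]
  obtain ⟨act, hact⟩ := Groth.Agent.Lib.Helper21.AdicQuot.exists_comp_eq_of_surjective
    (Algebra.linearMap R C) hRC _ hker
  exact ⟨act, fun r => by
    have := hact r
    rw [Algebra.linearMap_apply, LinearMap.toSpanSingleton_apply] at this
    rw [this]; rfl⟩

/-- The chosen pure tensor of basis vectors with a given exponent vector. -/
noncomputable def E (μ : κ →₀ ℕ) : SymmetricPower R ι F :=
  open Classical in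
  if h : ∃ a : ι → κ, expo a = μ then SymmetricPower.tprod R (fun i => b (h.choose i)) else 0

omit [Algebra R C] [IsScalarTower R C F] [Nonempty ι] in
theorem E_expo (a : ι → κ) : E R b (expo a) = SymmetricPower.tprod R (fun i => b (a i)) := by
  have h : ∃ a' : ι → κ, expo a' = expo a := ⟨a, rfl⟩
  rw [E, dif_pos h]
  obtain ⟨σ, hσ⟩ := exists_perm_of_expo_eq a h.choose h.choose_spec.symm
  have : (fun i => b (h.choose i)) = fun i => (fun j => b (a j)) (σ i) := by
    funext i
    change b (h.choose i) = b (a (σ i))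
    rw [hσ]
  rw [this]
  exact SymmetricPower.tprod_equiv σ (fun j => b (a j))

omit [Algebra R C] [IsScalarTower R C F] [Nonempty ι] in
theorem E_eq_zero (μ : κ →₀ ℕ) (hμ : μ.degree ≠ Fintype.card ι) : E R b μ = (0 : SymmetricPower R ι F) := by
  rw [E, dif_neg]
  rintro ⟨a, rfl⟩
  exact hμ (degree_expo a)


include hRC b in
/-- Free case: `Sym^ι F → SymmetricAlgebra F / I^(n+1)` is injective. -/
theorem eq_zero_of_tau_mem_of_basis (ξ : SymmetricPower R ι F)
    (hξ : tau R C F ι ξ ∈ augIdeal C F ^ (Fintype.card ι + 1)) : ξ = 0 := by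
  obtain ⟨act, hact⟩ := exists_act R (F := F) (ι := ι) hRC
  let g : (κ →₀ ℕ) → C →ₗ[R] SymmetricPower R ι F := fun μ =>
    (LinearMap.applyₗ (E R b μ)).comp act
  have hg : ∀ μ (r : R), g μ (algebraMap R C r) = r • E R b μ := by
    intro μ r
    change (act (algebraMap R C r)) (E R b μ) = _
    rw [hact]; rfl
  let Ψ : SymmetricAlgebra C F →ₗ[R] SymmetricPower R ι F :=
    (Finsupp.lsum ℕ g).comp
      (((MvPolynomial.basisMonomials κ C).repr.toLinearMap.restrictScalars R).comp
        ((SymmetricAlgebra.equivMvPolynomial b).toLinearMap.restrictScalars R))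
  have hΨ : ∀ x, Ψ x = ((MvPolynomial.basisMonomials κ C).repr
      (SymmetricAlgebra.equivMvPolynomial b x)).sum (fun μ c => g μ c) := fun x => rfl
  -- Ψ kills I^(m+1)
  have hΨ0 : ∀ x ∈ augIdeal C F ^ (Fintype.card ι + 1), Ψ x = 0 := by
    intro x hx
    rw [hΨ]
    apply Finset.sum_eq_zero
    intro μ _
    by_cases hμ : μ.degree = Fintype.card ι
    · have : (MvPolynomial.basisMonomials κ C).repr (SymmetricAlgebra.equivMvPolynomial b x) μ =
          (SymmetricAlgebra.equivMvPolynomial b x).coeff μ := rfl
      rw [this, coeff_equiv_eq_zero b hx μ hμ.le]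
      exact map_zero (g μ)
    · change (act _) (E R b μ) = 0
      rw [E_eq_zero R b μ hμ, map_zero]
  -- Ψ ∘ tau = id
  have hΨτ : Ψ.comp (tau R C F ι) = LinearMap.id := by
    apply SymPow.linearMap_ext
    have hmulti : (Ψ.comp (tau R C F ι)).compMultilinearMap (SymmetricPower.tprod R) =
        (SymmetricPower.tprod R : MultilinearMap R (fun _ : ι => F) _) := by
      apply SymPow.multilinear_ext_of_basis hRC b
      intro a
      change Ψ (tau R C F ι (SymmetricPower.tprod R (fun i => b (a i)))) = _
      rw [hΨ, equiv_tau_tprod]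
      have hrepr : (MvPolynomial.basisMonomials κ C).repr (MvPolynomial.monomial (expo a) 1) =
          Finsupp.single (expo a) 1 := by
        have := (MvPolynomial.basisMonomials κ C).repr_self (expo a)
        rwa [MvPolynomial.coe_basisMonomials] at this
      have hsum : (Finsupp.single (expo a) (1 : C)).sum (fun μ c => g μ c) = g (expo a) 1 :=
        Finsupp.sum_single_index (map_zero (g (expo a)))
      rw [hrepr, hsum]
      have h1 : (1 : C) = algebraMap R C 1 := (map_one _).symm
      rw [h1, hg, one_smul, E_expo]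
    intro v
    exact congrFun (congrArg DFunLike.coe hmulti) v
  have := LinearMap.congr_fun hΨτ ξ
  rw [LinearMap.comp_apply, hΨ0 _ hξ, LinearMap.id_apply] at this
  exact this.symm

end free


section functoriality

variable (R : Type u) (C : Type u) [CommRing R] [CommRing C] [Algebra R C]
  {V W : Type u} [AddCommGroup V] [Module C V] [Module R V] [IsScalarTower R C V]
  [AddCommGroup W] [Module C W] [Module R W] [IsScalarTower R C W]

/-- Functoriality of the symmetric algebra. -/
noncomputable def Smap (g : V →ₗ[C] W) : SymmetricAlgebra C V →ₐ[C] SymmetricAlgebra C W :=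
  SymmetricAlgebra.lift ((SymmetricAlgebra.ι C W) ∘ₗ g)

theorem Smap_ι (g : V →ₗ[C] W) (v : V) :
    Smap C g (SymmetricAlgebra.ι C V v) = SymmetricAlgebra.ι C W (g v) := by
  rw [Smap, SymmetricAlgebra.lift_ι_apply]
  rfl

theorem Smap_mem_pow (g : V →ₗ[C] W) {k : ℕ} {x : SymmetricAlgebra C V}
    (hx : x ∈ augIdeal C V ^ k) : Smap C g x ∈ augIdeal C W ^ k := by
  have h1 : (augIdeal C V).map (Smap C g).toRingHom ≤ augIdeal C W := by
    rw [augIdeal, Ideal.map_span, Ideal.span_le]
    rintro _ ⟨_, ⟨v, rfl⟩, rfl⟩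
    change Smap C g _ ∈ _
    rw [Smap_ι]
    exact ι_mem _
  have h2 := Ideal.mem_map_of_mem (Smap C g).toRingHom hx
  rw [Ideal.map_pow] at h2
  exact Ideal.pow_right_mono h1 k h2

theorem Smap_tau (g : V →ₗ[C] W) {ι : Type u} [Fintype ι] (ξ : SymmetricPower R ι V) :
    Smap C g (tau R C V ι ξ) = tau R C W ι (SymPow.map (g.restrictScalars R) ξ) := by
  have : ((Smap C g).toLinearMap.restrictScalars R).comp (tau R C V ι) =
      (tau R C W ι).comp (SymPow.map (g.restrictScalars R)) := by
    apply SymPow.linearMap_ext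
    intro v
    change Smap C g (tau R C V ι (SymmetricPower.tprod R v)) =
      tau R C W ι (SymPow.map (g.restrictScalars R) (SymmetricPower.tprod R v))
    rw [tau_tprod, SymPow.map_tprod, tau_tprod, map_prod]
    simp only [Smap_ι]
    rfl
  exact LinearMap.congr_fun this ξ

end functoriality

section projective

variable (R : Type u) {C : Type u} [CommRing R] [CommRing C] [Algebra R C]
  (hRC : Function.Surjective (algebraMap R C))
  {V : Type u} [AddCommGroup V] [Module C V] [Module R V] [IsScalarTower R C V]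
  [Module.Projective C V] {ι : Type u} [Fintype ι] [Nonempty ι]

include hRC in
/-- Projective case: `Sym^ι V → SymmetricAlgebra V / I^(n+1)` is injective. -/
theorem eq_zero_of_tau_mem (ξ : SymmetricPower R ι V)
    (hξ : tau R C V ι ξ ∈ augIdeal C V ^ (Fintype.card ι + 1)) : ξ = 0 := by
  obtain ⟨s, hs⟩ := (Module.projective_def' (R := C) (P := V)).mp inferInstance
  have h1 : tau R C (V →₀ C) ι (SymPow.map (s.restrictScalars R) ξ) ∈
      augIdeal C (V →₀ C) ^ (Fintype.card ι + 1) := by
    rw [← Smap_tau]
    exact Smap_mem_pow C s hξ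
  have h2 := eq_zero_of_tau_mem_of_basis R (Finsupp.basisSingleOne (R := C) (ι := V)) hRC _ h1
  have h3 := SymPow.map_map_of_comp_eq_id (ι := ι) (s.restrictScalars R)
    ((Finsupp.linearCombination C (id : V → V)).restrictScalars R) (by
      ext v
      exact LinearMap.congr_fun hs v) ξ
  rw [← h3, h2, map_zero]

end projective

end Groth.Agent.Lib.Helper21.SymAlg
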