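import Mathlib
import Groth.Agent.Lib.Helper21.SymGrG
import Groth.Agent.Lib.Helper21.SymGrH

/-!
# Helper library (helper21): adic formal smoothness implies `Sym(J/J²) ≅ gr_J(R)`
-/

set_option autoImplicit false

namespace Groth.Agent.Lib.Helper21.SymSmooth

open TensorProduct
open Groth.Agent.Lib.Helper21.SymGr Groth.Agent.Lib.Helper21.SymAlg

universe u

section abstract

variable {A R : Type u} [CommRing A] [CommRing R] [Algebra A R] (J : Ideal R)
  {S : Type u} [CommRing S] [Algebra (R ⧸ J) S] [Algebra A S] [IsScalarTower A (R ⧸ J) S]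
  (ιS : J.Cotangent →ₗ[R ⧸ J] S) (I : Ideal S) (hιI : ∀ v, ιS v ∈ I)

include hιI in
omit [Algebra A R] [Algebra A S] [IsScalarTower A (R ⧸ J) S] in
theorem ι_mul_ι_mem (v w : J.Cotangent) : ιS v * ιS w ∈ I ^ 2 := by
  rw [pow_two]
  exact Ideal.mul_mem_mul (hιI v) (hιI w)

include hιI in
theorem exists_lambda_two [Algebra.FormallySmooth A (R ⧸ J)] :
    ∃ l : R →ₐ[A] (S ⧸ I ^ 2),
      ∀ x : ↥J, l (x : R) = Ideal.Quotient.mk _
        (ιS (J.toCotangent x)) := by
  obtain ⟨D, hD⟩ := exists_derivation (A := A) J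
  have hιsmul : ∀ (r : R) (v : J.Cotangent), ιS (r • v) =
      algebraMap (R ⧸ J) _ (Ideal.Quotient.mk J r) * ιS v := by
    intro r v
    rw [← IsScalarTower.algebraMap_smul (R ⧸ J) r v, map_smul, Algebra.smul_def]
    rfl
  let l₀ : R → S := fun r =>
    algebraMap (R ⧸ J) _ (Ideal.Quotient.mk J r) + ιS (D r)
  refine ⟨{ toFun := fun r => Ideal.Quotient.mk _ (l₀ r)
            map_one' := ?_
            map_mul' := ?_
            map_zero' := ?_
            map_add' := ?_
            commutes' := ?_ }, ?_⟩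
  · simp only [l₀]
    rw [Derivation.map_one_eq_zero, map_zero, add_zero, map_one, map_one, map_one]
  · intro r r'
    rw [← map_mul, Ideal.Quotient.eq]
    have e : l₀ (r * r') - l₀ r * l₀ r' =
        -(ιS (D r) *
          ιS (D r')) := by
      simp only [l₀]
      rw [Derivation.leibniz, map_add, hιsmul, hιsmul, map_mul, map_mul]
      ring
    rw [e]
    exact neg_mem (ι_mul_ι_mem J ιS I hιI _ _)
  · simp only [l₀]
    rw [map_zero, map_zero, map_zero, map_zero, add_zero, map_zero]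
  · intro r r'
    rw [← map_add]
    congr 1
    simp only [l₀, map_add]
    ring
  · intro a
    simp only [l₀]
    rw [Derivation.map_algebraMap, map_zero, add_zero, ← Ideal.Quotient.mk_algebraMap,
      IsScalarTower.algebraMap_apply A (R ⧸ J) (S),
      IsScalarTower.algebraMap_apply A R (R ⧸ J)]
    rfl
  · intro x
    change Ideal.Quotient.mk _ (l₀ (x : R)) = _
    simp only [l₀]
    rw [hD, Ideal.Quotient.eq_zero_iff_mem.mpr x.2, map_zero, zero_add]


include hιI in
theorem exists_lambda [Algebra.FormallySmooth A (R ⧸ J)] (h : CAlgX.IsAdicFormallySmooth A R J)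
    (m : ℕ) (hm : 1 ≤ m) :
    ∃ l : R →ₐ[A] (S ⧸
        I ^ (m + 1)),
      ∀ x : ↥J, l (x : R) - Ideal.Quotient.mk _
        (ιS (J.toCotangent x)) ∈
          (I ^ 2).map
            (Ideal.Quotient.mk (I ^ (m + 1))) := by
  obtain ⟨l₂, hl₂⟩ := exists_lambda_two (A := A) J ιS I hιI
  have hle : I ^ (m + 1) ≤ I ^ 2 :=
    Ideal.pow_le_pow_right (by omega)
  let π : (S ⧸ I ^ (m + 1)) →ₐ[A]
      (S ⧸ I ^ 2) :=
    Ideal.Quotient.liftₐ _ (Ideal.Quotient.mkₐ A _) (fun s hs => by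
      rw [Ideal.Quotient.mkₐ_eq_mk, Ideal.Quotient.eq_zero_iff_mem]
      exact hle hs)
  have hπ_mk : ∀ s, π (Ideal.Quotient.mk _ s) = Ideal.Quotient.mk _ s := fun s => rfl
  have hπsurj : Function.Surjective π := by
    intro t
    obtain ⟨s, rfl⟩ := Ideal.Quotient.mk_surjective t
    exact ⟨Ideal.Quotient.mk _ s, hπ_mk s⟩
  have hkerπ : RingHom.ker π ≤ (I ^ 2).map
      (Ideal.Quotient.mk (I ^ (m + 1))) := by
    intro t ht
    obtain ⟨s, rfl⟩ := Ideal.Quotient.mk_surjective t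
    rw [RingHom.mem_ker] at ht
    have h1 : Ideal.Quotient.mk (I ^ 2) s = 0 := ht
    exact Ideal.mem_map_of_mem _ (Ideal.Quotient.eq_zero_iff_mem.mp h1)
  have hkerpow : RingHom.ker π ^ (m + 1) = ⊥ := by
    rw [← le_bot_iff]
    calc RingHom.ker π ^ (m + 1)
        ≤ ((I ^ 2).map
            (Ideal.Quotient.mk (I ^ (m + 1)))) ^ (m + 1) :=
          Ideal.pow_right_mono hkerπ _
      _ = ((I ^ 2) ^ (m + 1)).map
            (Ideal.Quotient.mk (I ^ (m + 1))) :=
          (Ideal.map_pow _ _ _).symm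
      _ ≤ (I ^ (m + 1)).map
            (Ideal.Quotient.mk (I ^ (m + 1))) := by
          apply Ideal.map_mono
          rw [← pow_mul]
          exact Ideal.pow_le_pow_right (by omega)
      _ = ⊥ := Ideal.map_quotient_self _
  have hl₂kill : ∀ x ∈ J ^ 2, l₂ x = 0 := by
    intro x hx
    have hpw : J ^ 2 = J * J := pow_two J
    rw [hpw] at hx
    refine Submodule.mul_induction_on hx (fun a ha b hb => ?_) (fun a b ha hb => ?_)
    · rw [map_mul, hl₂ ⟨a, ha⟩, hl₂ ⟨b, hb⟩, ← map_mul, Ideal.Quotient.eq_zero_iff_mem]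
      exact ι_mul_ι_mem J ιS I hιI _ _
    · rw [map_add, ha, hb, add_zero]
  obtain ⟨l, hl⟩ := Groth.Agent.Lib.Helper6.FSAdic.nilp_exists_lift_of_surjective h (m + 1) π
    hπsurj hkerpow l₂ ⟨2, hl₂kill⟩
  refine ⟨l, fun x => ?_⟩
  apply hkerπ
  rw [RingHom.mem_ker]
  change π (l (x : R) - _) = 0
  rw [map_sub, hπ_mk]
  have : π (l (x : R)) = l₂ (x : R) := AlgHom.congr_fun hl (x : R)
  rw [this, hl₂, sub_self]

include hιI in
theorem apply_mem_of_canon_eq_zero [Algebra.FormallySmooth A (R ⧸ J)]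
    (h : CAlgX.IsAdicFormallySmooth A R J) {ι : Type u} [Fintype ι] [Nonempty ι]
    (T : SymmetricPower R ι J.Cotangent →+ S)
    (hT : ∀ v : ι → J.Cotangent, T (SymmetricPower.tprod R v) = ∏ i, ιS (v i))
    (ξ : SymmetricPower R ι J.Cotangent) (hξ : canon J ι ξ = 0) :
    T ξ ∈ I ^ (Fintype.card ι + 1) := by
  obtain ⟨l, hl⟩ := exists_lambda J ιS I hιI h (Fintype.card ι) Fintype.card_pos
  have hL2 : (I ^ 2).map (Ideal.Quotient.mk (I ^ (Fintype.card ι + 1))) =
      (I.map (Ideal.Quotient.mk (I ^ (Fintype.card ι + 1)))) ^ 2 := by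
    rw [Ideal.map_pow]
  have hb : ∀ x : ↥J, Ideal.Quotient.mk (I ^ (Fintype.card ι + 1)) (ιS (J.toCotangent x)) ∈
        I.map (Ideal.Quotient.mk (I ^ (Fintype.card ι + 1))) :=
    fun x => Ideal.mem_map_of_mem _ (hιI _)
  have hab : ∀ x : ↥J, l (x : R) - Ideal.Quotient.mk _ (ιS (J.toCotangent x)) ∈
        (I.map (Ideal.Quotient.mk (I ^ (Fintype.card ι + 1)))) ^ 2 :=
    fun x => hL2 ▸ hl x
  have ha : ∀ x : ↥J, l (x : R) ∈ I.map (Ideal.Quotient.mk (I ^ (Fintype.card ι + 1))) := by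
    intro x
    have := add_mem (Ideal.pow_le_self two_ne_zero (hab x)) (hb x)
    rwa [sub_add_cancel] at this
  have hLpow : (I.map (Ideal.Quotient.mk (I ^ (Fintype.card ι + 1)))) ^
        (Fintype.card ι + 1) = ⊥ := by
    rw [← Ideal.map_pow, Ideal.map_quotient_self]
  have hkill : ∀ x ∈ J ^ (Fintype.card ι + 1), l.toRingHom x = 0 := by
    intro x hx
    have h1 : (J ^ (Fintype.card ι + 1)).map l.toRingHom ≤ ⊥ := by
      rw [Ideal.map_pow, ← hLpow]
      apply Ideal.pow_right_mono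
      rw [Ideal.map_le_iff_le_comap]
      intro y hy
      exact ha ⟨y, hy⟩
    exact (Ideal.mem_bot.mp (h1 (Ideal.mem_map_of_mem _ hx)))
  let Λ : R ⧸ J ^ (Fintype.card ι + 1) →+* S ⧸ I ^ (Fintype.card ι + 1) :=
    Ideal.Quotient.lift _ l.toRingHom hkill
  have hΛ : ∀ r, Λ (Ideal.Quotient.mk _ r) = l r := fun r => rfl
  have key : ∀ ξ : SymmetricPower R ι J.Cotangent, Λ (Phi J ι ξ) =
      Ideal.Quotient.mk (I ^ (Fintype.card ι + 1)) (T ξ) := by
    have hext := SymPow.addHom_ext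
      (Λ.toAddMonoidHom.comp (Phi J ι).toAddMonoidHom)
      ((Ideal.Quotient.mk (I ^ (Fintype.card ι + 1))).toAddMonoidHom.comp T) ?_
    · exact fun ξ => DFunLike.congr_fun hext ξ
    intro v
    have hv : v = fun i => J.toCotangent (sec J (v i)) := by
      funext i; rw [toCotangent_sec]
    rw [hv]
    change Λ (Phi J ι (SymmetricPower.tprod R _)) =
      Ideal.Quotient.mk _ (T (SymmetricPower.tprod R _))
    rw [Phi_tprod, hT, hΛ, map_prod, map_prod, ← sub_eq_zero]
    have hmem := prod_sub_prod_mem (I.map (Ideal.Quotient.mk (I ^ (Fintype.card ι + 1))))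
      Finset.univ
      (fun i => l ((sec J (v i) : ↥J) : R))
      (fun i => Ideal.Quotient.mk (I ^ (Fintype.card ι + 1))
        (ιS (J.toCotangent (sec J (v i)))))
      (fun i _ => ha _) (fun i _ => hb _) (fun i _ => hab _)
    rw [Finset.card_univ, hLpow, Ideal.mem_bot] at hmem
    exact hmem
  have h1 : Phi J ι ξ = 0 := by
    rw [Phi, LinearMap.comp_apply, hξ, map_zero]
  have h2 := key ξ
  rw [h1, map_zero] at h2
  exact Ideal.Quotient.eq_zero_iff_mem.mp h2.symm

end abstract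

variable {A R : Type u} [CommRing A] [CommRing R] [Algebra A R] (J : Ideal R)

theorem canon_injective_of_isAdicFormallySmooth [Algebra.FormallySmooth A (R ⧸ J)]
    (h : CAlgX.IsAdicFormallySmooth A R J) (ι : Type u) [Fintype ι] [Nonempty ι] :
    Function.Injective (canon J ι) := by
  have hproj : Module.Projective (R ⧸ J) J.Cotangent := projective_cotangent J h
  rw [injective_iff_map_eq_zero]
  intro ξ hξ
  have h3 := apply_mem_of_canon_eq_zero J (SymmetricAlgebra.ι (R ⧸ J) J.Cotangent)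
    (augIdeal (R ⧸ J) J.Cotangent) ι_mem h (tau R (R ⧸ J) J.Cotangent ι).toAddMonoidHom
    (fun v => tau_tprod R (R ⧸ J) J.Cotangent v) ξ hξ
  exact eq_zero_of_tau_mem R Ideal.Quotient.mk_surjective ξ h3

theorem symGrBijective_of_isAdicFormallySmooth [Algebra.FormallySmooth A (R ⧸ J)]
    (h : CAlgX.IsAdicFormallySmooth A R J) : PP16.SymGrBijective R J :=
  (symGrBijective_iff J).mpr (fun ι _ _ => canon_injective_of_isAdicFormallySmooth J h ι)

/-- EGA 0_IV 19.5.4 (a) ⇔ (b). -/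
theorem isAdicFormallySmooth_iff [Algebra.FormallySmooth A (R ⧸ J)] :
    CAlgX.IsAdicFormallySmooth A R J ↔
      (Module.Projective (R ⧸ J) J.Cotangent ∧ PP16.SymGrBijective R J) :=
  ⟨fun h => ⟨projective_cotangent J h, symGrBijective_of_isAdicFormallySmooth J h⟩,
    fun ⟨_, h2⟩ => isAdicFormallySmooth_of_symGr J h2⟩

end Groth.Agent.Lib.Helper21.SymSmooth
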