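import Mathlib
import Groth.Agent.Lib.Helper21.SymPowA

/-!
# Helper library (helper21): change of rings for symmetric powers

For a `B`-algebra `R` with a retraction-like ring map `μ : R → B` through which `R` acts on `M`,
`Sym[B] ι M ≃+ Sym[R] ι M` for nonempty `ι`.
-/

set_option autoImplicit false

namespace Groth.Agent.Lib.Helper21.SymPow

open TensorProduct

universe u v w

section general

variable {R : Type u} [CommRing R] {ι : Type u} {M : Type v} [AddCommGroup M] [Module R M]
  {N : Type w} [AddCommGroup N] [Module R N]

theorem liftAddHom_tprod (f : MultilinearMap R (fun _ : ι => M) N)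
    (hf : ∀ (e : Equiv.Perm ι) (v : ι → M), f (fun i => v (e i)) = f v) (v : ι → M) :
    liftAddHom f hf (SymmetricPower.tprod R v) = f v := by
  change liftAddHom f hf (SymmetricPower.mk R ι M (PiTensorProduct.tprod R v)) = _
  rw [liftAddHom_mk, PiTensorProduct.lift.tprod]

theorem liftAddHom_smul (f : MultilinearMap R (fun _ : ι => M) N)
    (hf : ∀ (e : Equiv.Perm ι) (v : ι → M), f (fun i => v (e i)) = f v) (r : R)
    (x : SymmetricPower R ι M) :
    liftAddHom f hf (r • x) = r • liftAddHom f hf x :=
  (lift f hf).map_smul r x

end general

section changeOfRings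

variable {B R : Type u} [CommRing B] [CommRing R] [Algebra B R] (μ : R →+* B)
  (ι : Type u) {M : Type v} [AddCommGroup M] [Module R M] [Module B M] [IsScalarTower B R M]

/-- `Sym[B] ι M → Sym[R] ι M`, `tprod ↦ tprod` -/
noncomputable def toBig : SymmetricPower B ι M →+ SymmetricPower R ι M :=
  letI : Module B (SymmetricPower R ι M) := Module.compHom _ (algebraMap B R)
  liftAddHom (R := B)
    { toFun := fun v => SymmetricPower.tprod R v
      map_update_add' := by
        intro _ v i x y
        exact (SymmetricPower.tprod R).map_update_add v i x y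
      map_update_smul' := by
        intro _ v i b x
        rw [← algebraMap_smul R b x, (SymmetricPower.tprod R).map_update_smul]
        rfl }
    (fun e v => SymmetricPower.tprod_equiv e v)

theorem toBig_tprod (v : ι → M) :
    toBig (B := B) (R := R) ι (SymmetricPower.tprod B v) = SymmetricPower.tprod R v := by
  let : Module B (SymmetricPower R ι M) := Module.compHom _ (algebraMap B R)
  exact liftAddHom_tprod (R := B) _ _ v

theorem toBig_smul (b : B) (x : SymmetricPower B ι M) :
    toBig (B := B) (R := R) ι (b • x) = algebraMap B R b • toBig (B := B) (R := R) ι x := by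
  let : Module B (SymmetricPower R ι M) := Module.compHom _ (algebraMap B R)
  exact liftAddHom_smul (R := B) _ _ b x

variable {ι}
variable (hμ : ∀ (r : R) (m : M), r • m = μ r • m)

variable (ι) in
/-- `Sym[R] ι M → Sym[B] ι M`, `tprod ↦ tprod` -/
noncomputable def toSmall : SymmetricPower R ι M →+ SymmetricPower B ι M :=
  letI : Module R (SymmetricPower B ι M) := Module.compHom _ μ
  liftAddHom (R := R)
    { toFun := fun v => SymmetricPower.tprod B v
      map_update_add' := by
        intro _ v i x y
        exact (SymmetricPower.tprod B).map_update_add v i x y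
      map_update_smul' := by
        intro _ v i r x
        rw [hμ r x, (SymmetricPower.tprod B).map_update_smul]
        rfl }
    (fun e v => SymmetricPower.tprod_equiv e v)

omit [Algebra B R] [IsScalarTower B R M] in
theorem toSmall_tprod (v : ι → M) :
    toSmall μ ι hμ (SymmetricPower.tprod R v) = SymmetricPower.tprod B v := by
  let : Module R (SymmetricPower B ι M) := Module.compHom _ μ
  exact liftAddHom_tprod (R := R) _ _ v

theorem toSmall_toBig [Nonempty ι] (x : SymmetricPower B ι M) :
    toSmall μ ι hμ (toBig (B := B) (R := R) ι x) = x := by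
  have h := addHom_ext ((toSmall μ ι hμ).comp (toBig (B := B) (R := R) ι))
    (AddMonoidHom.id (SymmetricPower B ι M)) (fun v => by
      rw [AddMonoidHom.comp_apply, toBig_tprod, toSmall_tprod, AddMonoidHom.id_apply])
  exact DFunLike.congr_fun h x

theorem toBig_toSmall [Nonempty ι] (x : SymmetricPower R ι M) :
    toBig (B := B) (R := R) ι (toSmall μ ι hμ x) = x := by
  have h := addHom_ext ((toBig (B := B) (R := R) ι).comp (toSmall μ ι hμ))
    (AddMonoidHom.id (SymmetricPower R ι M)) (fun v => by
      rw [AddMonoidHom.comp_apply, toSmall_tprod, toBig_tprod, AddMonoidHom.id_apply])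
  exact DFunLike.congr_fun h x

include hμ in
theorem toBig_bijective [Nonempty ι] :
    Function.Bijective (toBig (B := B) (R := R) ι : SymmetricPower B ι M → SymmetricPower R ι M) :=
  ⟨Function.LeftInverse.injective (g := toSmall μ ι hμ) (toSmall_toBig μ hμ),
    Function.RightInverse.surjective (g := toSmall μ ι hμ) (toBig_toSmall μ hμ)⟩

end changeOfRings

end Groth.Agent.Lib.Helper21.SymPow
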