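import Mathlib
import Groth.Prelude.Def_PP16
import Groth.Agent.Lib.Helper21.SymPowC
import Groth.Agent.Lib.Helper21.SymGrI

/-!
# Helper library (helper21): formally smooth algebras are differentially smooth (EGA IV 16.10.2)
-/

set_option autoImplicit false

namespace Groth.Agent.Lib.Helper21.DiffSmooth

open TensorProduct KaehlerDifferential
open Groth.Agent.Lib.Helper21.SymGr Groth.Agent.Lib.Helper21.SymPow

universe u

variable (A B : Type u) [CommRing A] [CommRing B] [Algebra A B]

/-- multiplication `B ⊗_A B → B` as a ring hom -/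
noncomputable def mu : B ⊗[A] B →+* B := (Algebra.TensorProduct.lmul' A : B ⊗[A] B →ₐ[A] B).toRingHom

variable {A B}

theorem mu_algebraMap (b : B) : mu A B (algebraMap B (B ⊗[A] B) b) = b := by
  show Algebra.TensorProduct.lmul' A (algebraMap B (B ⊗[A] B) b) = b
  rw [Algebra.TensorProduct.algebraMap_apply, Algebra.TensorProduct.lmul'_apply_tmul]
  simp

theorem mem_ideal_iff (r : B ⊗[A] B) : r ∈ KaehlerDifferential.ideal A B ↔ mu A B r = 0 :=
  Iff.rfl

theorem sub_algebraMap_mu_mem (r : B ⊗[A] B) :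
    r - algebraMap B (B ⊗[A] B) (mu A B r) ∈ KaehlerDifferential.ideal A B := by
  rw [mem_ideal_iff, map_sub, mu_algebraMap, sub_self]

theorem smul_eq_mu_smul (r : B ⊗[A] B) (ω : Ω[B⁄A]) : r • ω = mu A B r • ω := by
  rw [← algebraMap_smul (B ⊗[A] B) (mu A B r) ω, ← sub_eq_zero, ← sub_smul]
  exact Ideal.Cotangent.smul_eq_zero_of_mem (sub_algebraMap_mu_mem r) ω

variable (A B) in
/-- `I^n/I^(n+1)` as a `B ⊗ B`-module quotient is the same type as the `B`-module quotient -/
def toGrI (n : ℕ) (g : PP16.grJ (B ⊗[A] B) (KaehlerDifferential.ideal A B) n) : PP16.grI A B n := g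

variable (A B) in
def toGrJ (n : ℕ) (g : PP16.grI A B n) : PP16.grJ (B ⊗[A] B) (KaehlerDifferential.ideal A B) n := g

theorem toGrI_add (n : ℕ) (g h : PP16.grJ (B ⊗[A] B) (KaehlerDifferential.ideal A B) n) :
    toGrI A B n (g + h) = toGrI A B n g + toGrI A B n h := rfl

/-- the `B`-action on `I^n/I^(n+1)` through the first factor is the `B ⊗ B`-action -/
theorem toGrI_smul (n : ℕ) (b : B)
    (g : PP16.grJ (B ⊗[A] B) (KaehlerDifferential.ideal A B) n) :
    toGrI A B n (algebraMap B (B ⊗[A] B) b • g) = b • toGrI A B n g := by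
  obtain ⟨x, rfl⟩ := Submodule.Quotient.mk_surjective _ g
  let x' : ↥((KaehlerDifferential.ideal A B ^ n).restrictScalars B) := ⟨x.1, x.2⟩
  show toGrI A B n (Submodule.Quotient.mk (algebraMap B (B ⊗[A] B) b • x)) =
    Submodule.Quotient.mk (b • x')
  have hx : (b • x' : ↥((KaehlerDifferential.ideal A B ^ n).restrictScalars B)) =
      ⟨algebraMap B (B ⊗[A] B) b * (x : B ⊗[A] B),
        Ideal.mul_mem_left _ _ x.2⟩ := by
    apply Subtype.ext
    show b • (x : B ⊗[A] B) = _
    rw [Algebra.smul_def]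
  rw [hx]
  rfl

variable (A B) in
/-- `canon` for the diagonal ideal, with source written in terms of `Ω[B⁄A]` -/
noncomputable def canonΩ (ι : Type u) [Fintype ι] :
    SymmetricPower (B ⊗[A] B) ι Ω[B⁄A] →ₗ[B ⊗[A] B]
      PP16.grJ (B ⊗[A] B) (KaehlerDifferential.ideal A B) (Fintype.card ι) :=
  canon (KaehlerDifferential.ideal A B) ι

theorem canonΩ_tprod (ι : Type u) [Fintype ι] (b : ι → B) :
    canonΩ A B ι (SymmetricPower.tprod (B ⊗[A] B) (fun i => KaehlerDifferential.D A B (b i))) =
      PP16.zetaJ (B ⊗[A] B) (KaehlerDifferential.ideal A B)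
        (fun i => (⟨(1 : B) ⊗ₜ[A] b i - b i ⊗ₜ[A] (1 : B),
          KaehlerDifferential.one_smul_sub_smul_one_mem_ideal A (b i)⟩ :
            ↥(KaehlerDifferential.ideal A B))) :=
  canon_tprod (KaehlerDifferential.ideal A B) (ι := ι)
    (fun i => (⟨(1 : B) ⊗ₜ[A] b i - b i ⊗ₜ[A] (1 : B),
      KaehlerDifferential.one_smul_sub_smul_one_mem_ideal A (b i)⟩ :
        ↥(KaehlerDifferential.ideal A B)))

theorem canonΩ_bijective (ι : Type u) [Fintype ι]
    (hinj : Function.Injective (canon (KaehlerDifferential.ideal A B) ι)) :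
    Function.Bijective (canonΩ A B ι) :=
  ⟨hinj, canon_surjective _ ι⟩

variable (A B) in
/-- the canonical map `Sym^ι_B(Ω) → I^n/I^(n+1)` -/
noncomputable def phi (ι : Type u) [Fintype ι] :
    SymmetricPower B ι Ω[B⁄A] →ₗ[B] PP16.grI A B (Fintype.card ι) where
  toFun ξ := toGrI A B _ (canonΩ A B ι (toBig (B := B) (R := B ⊗[A] B) ι (M := Ω[B⁄A]) ξ))
  map_add' x y := by
    rw [map_add, map_add, toGrI_add]
  map_smul' b x := by
    rw [toBig_smul, map_smul, RingHom.id_apply, toGrI_smul]

theorem phi_apply (ι : Type u) [Fintype ι] (ξ : SymmetricPower B ι Ω[B⁄A]) :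
    phi A B ι ξ = toGrI A B _ (canonΩ A B ι
      (toBig (B := B) (R := B ⊗[A] B) ι (M := Ω[B⁄A]) ξ)) := rfl

theorem phi_tprod (ι : Type u) [Fintype ι] (b : ι → B) :
    phi A B ι (SymmetricPower.tprod B (fun i => KaehlerDifferential.D A B (b i))) =
      PP16.zetaProd A B b := by
  rw [phi_apply, toBig_tprod, canonΩ_tprod]
  rfl

theorem phi_bijective (ι : Type u) [Fintype ι] [Nonempty ι]
    (hinj : Function.Injective (canon (KaehlerDifferential.ideal A B) ι)) :
    Function.Bijective (phi A B ι) := by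
  have h1 := toBig_bijective (B := B) (R := B ⊗[A] B) (ι := ι) (M := Ω[B⁄A]) (mu A B)
    smul_eq_mu_smul
  have h2 : Function.Bijective (canonΩ A B ι) := canonΩ_bijective ι hinj
  have h3 : Function.Bijective (toGrI A B (Fintype.card ι)) := Function.bijective_id
  exact h3.comp (h2.comp h1)

section empty

variable (ι : Type u) [Fintype ι] [IsEmpty ι]

theorem exists_phi_of_isEmpty :
    ∃ φ : SymmetricPower B ι Ω[B⁄A] →ₗ[B] PP16.grI A B (Fintype.card ι),
      (∀ b : ι → B, φ (SymmetricPower.tprod B (fun i => KaehlerDifferential.D A B (b i))) =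
        PP16.zetaProd A B b) ∧ Function.Bijective φ := by
  have h0 : Fintype.card ι = 0 := Fintype.card_eq_zero
  let b₀ : ι → B := isEmptyElim
  let z₀ : PP16.grI A B (Fintype.card ι) := PP16.zetaProd A B b₀
  let t₀ : SymmetricPower B ι Ω[B⁄A] := SymmetricPower.tprod B (isEmptyElim : ι → Ω[B⁄A])
  let φ : SymmetricPower B ι Ω[B⁄A] →ₗ[B] PP16.grI A B (Fintype.card ι) :=
    SymPow.lift (MultilinearMap.constOfIsEmpty B (fun _ : ι => Ω[B⁄A]) z₀) (fun _ _ => rfl)
  have hφt : ∀ v : ι → Ω[B⁄A], φ (SymmetricPower.tprod B v) = z₀ := by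
    intro v
    exact SymPow.lift_tprod _ _ v
  have hmemI : ∀ r : B ⊗[A] B, r ∈ KaehlerDifferential.ideal A B →
      r ∈ KaehlerDifferential.ideal A B ^ (Fintype.card ι + 1) := by
    intro r hr
    rw [h0, zero_add, pow_one]
    exact hr
  have hmemI' : ∀ r : B ⊗[A] B, r ∈ KaehlerDifferential.ideal A B ^ (Fintype.card ι + 1) →
      r ∈ KaehlerDifferential.ideal A B := by
    intro r hr
    rw [h0, zero_add, pow_one] at hr
    exact hr
  have hmem0 : ∀ r : B ⊗[A] B, r ∈ (KaehlerDifferential.ideal A B ^ (Fintype.card ι)).restrictScalars B := by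
    intro r
    rw [Submodule.restrictScalars_mem, h0, pow_zero, Ideal.one_eq_top]
    trivial
  have hz₀ : z₀ = Submodule.Quotient.mk ⟨(1 : B ⊗[A] B), hmem0 1⟩ := by
    show PP16.zetaProd A B b₀ = _
    unfold PP16.zetaProd
    congr 1
    apply Subtype.ext
    exact Finset.prod_of_isEmpty _
  have hsmul : ∀ c : B, c • z₀ = Submodule.Quotient.mk ⟨algebraMap B (B ⊗[A] B) c, hmem0 _⟩ := by
    intro c
    rw [hz₀, ← Submodule.Quotient.mk_smul]
    congr 1
    apply Subtype.ext
    show c • (1 : B ⊗[A] B) = _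
    rw [Algebra.smul_def, mul_one]
  refine ⟨φ, fun b => ?_, ?_, ?_⟩
  · rw [hφt]
    show PP16.zetaProd A B b₀ = PP16.zetaProd A B b
    congr 1
    exact Subsingleton.elim _ _
  · rw [injective_iff_map_eq_zero]
    intro ξ hξ
    have hξ' : ξ ∈ Submodule.span B (Set.range (SymmetricPower.tprod B (ι := ι) (M := Ω[B⁄A]))) := by
      rw [SymmetricPower.span_tprod_eq_top]; trivial
    have hrange : Set.range (SymmetricPower.tprod B (ι := ι) (M := Ω[B⁄A])) = {t₀} := by
      ext y
      constructor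
      · rintro ⟨v, rfl⟩
        rw [Set.mem_singleton_iff]
        show SymmetricPower.tprod B v = SymmetricPower.tprod B _
        congr 1
        exact Subsingleton.elim _ _
      · intro hy
        rw [Set.mem_singleton_iff] at hy
        exact ⟨_, hy.symm⟩
    rw [hrange, Submodule.mem_span_singleton] at hξ'
    obtain ⟨c, rfl⟩ := hξ'
    rw [map_smul, hφt, hsmul, Submodule.Quotient.mk_eq_zero, Submodule.mem_comap,
      Submodule.restrictScalars_mem] at hξ
    have hc : algebraMap B (B ⊗[A] B) c ∈ KaehlerDifferential.ideal A B := hmemI' _ hξ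
    rw [mem_ideal_iff, mu_algebraMap] at hc
    rw [hc, zero_smul]
  · intro g
    obtain ⟨x, rfl⟩ := Submodule.Quotient.mk_surjective _ g
    refine ⟨mu A B (x : B ⊗[A] B) • t₀, ?_⟩
    rw [map_smul, hφt, hsmul, ← sub_eq_zero, ← Submodule.Quotient.mk_sub,
      Submodule.Quotient.mk_eq_zero, Submodule.mem_comap, Submodule.restrictScalars_mem]
    show algebraMap B (B ⊗[A] B) (mu A B (x : B ⊗[A] B)) - (x : B ⊗[A] B) ∈ _
    apply hmemI
    have := sub_algebraMap_mu_mem (x : B ⊗[A] B)
    rw [← neg_sub]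
    exact neg_mem this

end empty

theorem isDiffSmooth_of_formallySmooth [Algebra.FormallySmooth A B] : PP16.IsDiffSmooth A B := by
  refine ⟨inferInstance, fun ι _ => ?_⟩
  rcases isEmpty_or_nonempty ι with h | h
  · exact exists_phi_of_isEmpty ι
  · have hbij : Function.Bijective (algebraMap B ((B ⊗[A] B) ⧸ KaehlerDifferential.ideal A B)) := by
      constructor
      · rw [injective_iff_map_eq_zero]
        intro b hb
        rw [IsScalarTower.algebraMap_apply B (B ⊗[A] B) ((B ⊗[A] B) ⧸ KaehlerDifferential.ideal A B),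
          Ideal.Quotient.algebraMap_eq, Ideal.Quotient.eq_zero_iff_mem, mem_ideal_iff,
          mu_algebraMap] at hb
        exact hb
      · intro y
        obtain ⟨r, rfl⟩ := Ideal.Quotient.mk_surjective y
        refine ⟨mu A B r, ?_⟩
        rw [IsScalarTower.algebraMap_apply B (B ⊗[A] B) ((B ⊗[A] B) ⧸ KaehlerDifferential.ideal A B),
          Ideal.Quotient.algebraMap_eq, eq_comm, Ideal.Quotient.eq]
        exact sub_algebraMap_mu_mem r
    let e : B ≃ₐ[B] ((B ⊗[A] B) ⧸ KaehlerDifferential.ideal A B) :=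
      AlgEquiv.ofBijective (Algebra.ofId B _) hbij
    have : Algebra.FormallySmooth B ((B ⊗[A] B) ⧸ KaehlerDifferential.ideal A B) :=
      Algebra.FormallySmooth.of_equiv e
    have hadic : CAlgX.IsAdicFormallySmooth B (B ⊗[A] B) (KaehlerDifferential.ideal A B) := by
      intro C _ _ J hJ ψ _
      exact Algebra.FormallySmooth.comp_surjective B (B ⊗[A] B) J hJ ψ
    have hinj := Groth.Agent.Lib.Helper21.SymSmooth.canon_injective_of_isAdicFormallySmooth
      (A := B) (KaehlerDifferential.ideal A B) hadic ι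
    exact ⟨phi A B ι, phi_tprod ι, phi_bijective ι hinj⟩

end Groth.Agent.Lib.Helper21.DiffSmooth
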