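import Mathlib
import Groth.Prelude.Def_PP16
import Groth.Agent.Lib.Helper21.SymGrK

/-!
# Helper library (helper21): differential smoothness of `B/A` is `I`-adic formal smoothness of
`B ⊗_A B` over `B`; base change
-/

set_option autoImplicit false

namespace Groth.Agent.Lib.Helper21.DiffSmooth

open TensorProduct KaehlerDifferential
open Groth.Agent.Lib.Helper21.SymGr Groth.Agent.Lib.Helper21.SymPow

universe u

variable {A B : Type u} [CommRing A] [CommRing B] [Algebra A B]

theorem algebraMap_quotient_bijective :
    Function.Bijective (algebraMap B ((B ⊗[A] B) ⧸ KaehlerDifferential.ideal A B)) := by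
  constructor
  · rw [injective_iff_map_eq_zero]
    intro b hb
    rw [IsScalarTower.algebraMap_apply B (B ⊗[A] B) ((B ⊗[A] B) ⧸ KaehlerDifferential.ideal A B),
      Ideal.Quotient.algebraMap_eq, Ideal.Quotient.eq_zero_iff_mem, mem_ideal_iff,
      mu_algebraMap] at hb
    exact hb
  · intro y
    obtain ⟨r, rfl⟩ := Ideal.Quotient.mk_surjective y
    refine ⟨mu A B r, ?_⟩
    rw [IsScalarTower.algebraMap_apply B (B ⊗[A] B) ((B ⊗[A] B) ⧸ KaehlerDifferential.ideal A B),
      Ideal.Quotient.algebraMap_eq, eq_comm, Ideal.Quotient.eq]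
    exact sub_algebraMap_mu_mem r

variable (A B) in
theorem formallySmooth_quotient :
    Algebra.FormallySmooth B ((B ⊗[A] B) ⧸ KaehlerDifferential.ideal A B) := by
  let e : B ≃ₐ[B] ((B ⊗[A] B) ⧸ KaehlerDifferential.ideal A B) :=
    AlgEquiv.ofBijective (Algebra.ofId B _) algebraMap_quotient_bijective
  exact Algebra.FormallySmooth.of_equiv e

variable (A B) in
/-- `B ≃ (B ⊗ B)/I` -/
noncomputable def quotEquiv : B ≃+* ((B ⊗[A] B) ⧸ KaehlerDifferential.ideal A B) :=
  RingEquiv.ofBijective (algebraMap B _) algebraMap_quotient_bijective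

theorem quotEquiv_apply (b : B) : quotEquiv A B b = algebraMap B _ b := rfl

theorem projective_kaehler_of_projective_cotangent
    (h : Module.Projective ((B ⊗[A] B) ⧸ KaehlerDifferential.ideal A B)
      (KaehlerDifferential.ideal A B).Cotangent) : Module.Projective B Ω[B⁄A] := by
  let e₁ := quotEquiv A B
  let σ : ((B ⊗[A] B) ⧸ KaehlerDifferential.ideal A B) →+* B := (e₁.symm : _ →+* B)
  let σ' : B →+* ((B ⊗[A] B) ⧸ KaehlerDifferential.ideal A B) := (e₁ : B →+* _)
  have i1 : RingHomInvPair σ σ' := ⟨RingHom.ext fun x => e₁.apply_symm_apply x,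
    RingHom.ext fun x => e₁.symm_apply_apply x⟩
  have i2 : RingHomInvPair σ' σ := ⟨RingHom.ext fun x => e₁.symm_apply_apply x,
    RingHom.ext fun x => e₁.apply_symm_apply x⟩
  let e₂ : (KaehlerDifferential.ideal A B).Cotangent ≃ₛₗ[σ] Ω[B⁄A] :=
    { toFun := fun ω => ω
      invFun := fun ω => ω
      map_add' := fun _ _ => rfl
      map_smul' := fun c ω => by
        obtain ⟨b, rfl⟩ := e₁.surjective c
        show e₁ b • ω = σ (e₁ b) • ω
        have h1 : σ (e₁ b) = b := e₁.symm_apply_apply b
        rw [h1, quotEquiv_apply]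
        exact algebraMap_smul ((B ⊗[A] B) ⧸ KaehlerDifferential.ideal A B) b ω
      left_inv := fun _ => rfl
      right_inv := fun _ => rfl }
  exact Module.Projective.of_equiv e₂

variable (A B) in
/-- the identity `Ω[B⁄A] → I/I²` -/
def toCot (ω : Ω[B⁄A]) : (KaehlerDifferential.ideal A B).Cotangent := ω

theorem projective_cotangent_of_projective_kaehler (h : Module.Projective B Ω[B⁄A]) :
    Module.Projective ((B ⊗[A] B) ⧸ KaehlerDifferential.ideal A B)
      (KaehlerDifferential.ideal A B).Cotangent := by
  let e₁ := quotEquiv A B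
  let σ : ((B ⊗[A] B) ⧸ KaehlerDifferential.ideal A B) →+* B := (e₁.symm : _ →+* B)
  let σ' : B →+* ((B ⊗[A] B) ⧸ KaehlerDifferential.ideal A B) := (e₁ : B →+* _)
  have i1 : RingHomInvPair σ σ' := ⟨RingHom.ext fun x => e₁.apply_symm_apply x,
    RingHom.ext fun x => e₁.symm_apply_apply x⟩
  have i2 : RingHomInvPair σ' σ := ⟨RingHom.ext fun x => e₁.symm_apply_apply x,
    RingHom.ext fun x => e₁.apply_symm_apply x⟩
  let e₂ : Ω[B⁄A] ≃ₛₗ[σ'] (KaehlerDifferential.ideal A B).Cotangent :=
    { toFun := toCot A B
      invFun := fun ω => ω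
      map_add' := fun _ _ => rfl
      map_smul' := fun b ω => by
        show toCot A B (b • ω) = e₁ b • toCot A B ω
        rw [quotEquiv_apply]
        exact (algebraMap_smul ((B ⊗[A] B) ⧸ KaehlerDifferential.ideal A B) b
          (toCot A B ω)).symm
      left_inv := fun _ => rfl
      right_inv := fun _ => rfl }
  exact Module.Projective.of_equiv e₂

/-- `B`-linear maps out of `Sym^ι_B(Ω)` are determined by their values on products of
differentials -/
theorem linearMap_ext_D {ι : Type u} [Fintype ι] {G : Type*} [AddCommGroup G] [Module B G]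
    (f g : SymmetricPower B ι Ω[B⁄A] →ₗ[B] G)
    (h : ∀ b : ι → B, f (SymmetricPower.tprod B (fun i => KaehlerDifferential.D A B (b i))) =
      g (SymmetricPower.tprod B (fun i => KaehlerDifferential.D A B (b i)))) : f = g := by
  classical
  apply SymPow.linearMap_ext
  have key : ∀ (s : Finset ι) (v : ι → Ω[B⁄A]),
      (∀ i, i ∉ s → v i ∈ Set.range (KaehlerDifferential.D A B)) →
      f (SymmetricPower.tprod B v) = g (SymmetricPower.tprod B v) := by
    intro s
    induction s using Finset.induction_on with
    | empty =>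
      intro v hv
      choose b hb using fun i => hv i (Finset.notMem_empty i)
      have : v = fun i => KaehlerDifferential.D A B (b i) := funext fun i => (hb i).symm
      rw [this]
      exact h b
    | insert a s ha ih =>
      intro v hv
      have hspan : v a ∈ Submodule.span B (Set.range (KaehlerDifferential.D A B)) := by
        rw [KaehlerDifferential.span_range_derivation]; trivial
      have hP : ∀ ω ∈ Submodule.span B (Set.range (KaehlerDifferential.D A B)),
          f (SymmetricPower.tprod B (Function.update v a ω)) =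
            g (SymmetricPower.tprod B (Function.update v a ω)) := by
        intro ω hω
        induction hω using Submodule.span_induction with
        | mem ω hω =>
          apply ih
          intro i hi
          by_cases hia : i = a
          · subst hia
            rw [Function.update_self]
            exact hω
          · rw [Function.update_of_ne hia]
            apply hv
            rw [Finset.mem_insert, not_or]
            exact ⟨hia, hi⟩
        | zero =>
          rw [(SymmetricPower.tprod B).map_update_zero, map_zero, map_zero]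
        | add x y _ _ hx hy =>
          rw [(SymmetricPower.tprod B).map_update_add, map_add, map_add, hx, hy]
        | smul c x _ hx =>
          rw [(SymmetricPower.tprod B).map_update_smul, map_smul, map_smul, hx]
      have := hP (v a) hspan
      rwa [Function.update_eq_self] at this
  intro v
  exact key Finset.univ v (fun i hi => absurd (Finset.mem_univ i) hi)

theorem injective_canon_of_injective_phi {ι : Type u} [Fintype ι] [Nonempty ι]
    (h : Function.Injective (phi A B ι)) :
    Function.Injective (canon (KaehlerDifferential.ideal A B) ι) := by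
  have h1 := toBig_bijective (B := B) (R := B ⊗[A] B) (ι := ι) (M := Ω[B⁄A]) (mu A B)
    smul_eq_mu_smul
  intro x y hxy
  obtain ⟨x', rfl⟩ := h1.2 x
  obtain ⟨y', rfl⟩ := h1.2 y
  have : phi A B ι x' = phi A B ι y' := by
    rw [phi_apply, phi_apply]
    exact congrArg (toGrI A B _) hxy
  rw [h this]

variable (A B) in
/-- differential smoothness is adic formal smoothness of `B ⊗_A B` over `B` along the diagonal -/
theorem isDiffSmooth_iff :
    PP16.IsDiffSmooth A B ↔
      CAlgX.IsAdicFormallySmooth B (B ⊗[A] B) (KaehlerDifferential.ideal A B) := by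
  have := formallySmooth_quotient A B
  constructor
  · rintro ⟨hproj, hφ⟩
    have := projective_cotangent_of_projective_kaehler hproj
    apply Groth.Agent.Lib.Helper21.SymSmooth.isAdicFormallySmooth_of_symGr (A := B)
      (KaehlerDifferential.ideal A B)
    rw [symGrBijective_iff]
    intro ι _ _
    obtain ⟨φ, hφv, hφb⟩ := hφ ι
    have hφeq : φ = phi A B ι := linearMap_ext_D φ (phi A B ι) (fun b => by
      rw [hφv, phi_tprod])
    rw [hφeq] at hφb
    exact injective_canon_of_injective_phi hφb.1
  · intro h
    have hp := Groth.Agent.Lib.Helper21.SymSmooth.projective_cotangent (A := B)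
      (KaehlerDifferential.ideal A B) h
    refine ⟨projective_kaehler_of_projective_cotangent hp, fun ι _ => ?_⟩
    rcases isEmpty_or_nonempty ι with h' | h'
    · exact exists_phi_of_isEmpty ι
    · exact ⟨phi A B ι, phi_tprod ι, phi_bijective ι
        (Groth.Agent.Lib.Helper21.SymSmooth.canon_injective_of_isAdicFormallySmooth
          (A := B) (KaehlerDifferential.ideal A B) h ι)⟩

section baseChange

variable (A B A' B' : Type u) [CommRing A] [CommRing B] [Algebra A B]
  [CommRing A'] [CommRing B'] [Algebra A' B'] [Algebra A A'] [Algebra B B'] [Algebra A B']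
  [IsScalarTower A A' B'] [IsScalarTower A B B'] [Algebra.IsPushout A B A' B']

omit [Algebra.IsPushout A B A' B'] in
theorem tensorMap_mem_pow (k : ℕ) (x : B ⊗[A] B) (hx : x ∈ KaehlerDifferential.ideal A B ^ k) :
    PP16.tensorMap A B A' B' x ∈ KaehlerDifferential.ideal A' B' ^ k := by
  have h1 : (KaehlerDifferential.ideal A B ^ k).map (PP16.tensorMap A B A' B') ≤
      KaehlerDifferential.ideal A' B' ^ k := by
    rw [Ideal.map_pow]
    exact Ideal.pow_right_mono (PP16.ideal_map_tensorMap_le A B A' B') k
  exact h1 (Ideal.mem_map_of_mem _ hx)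

theorem isAdicFormallySmooth_baseChange
    (h : CAlgX.IsAdicFormallySmooth B (B ⊗[A] B) (KaehlerDifferential.ideal A B)) :
    CAlgX.IsAdicFormallySmooth B' (B' ⊗[A'] B') (KaehlerDifferential.ideal A' B') := by
  intro C _ _ N hN ψ hψ
  obtain ⟨k, hk⟩ := hψ
  let : Algebra B C := Algebra.compHom C (algebraMap B B')
  have : IsScalarTower B B' C := IsScalarTower.of_algebraMap_eq (fun _ => rfl)
  let : Algebra A' C := Algebra.compHom C (algebraMap A' B')
  have : IsScalarTower A' B' C := IsScalarTower.of_algebraMap_eq (fun _ => rfl)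
  let : Algebra A C := Algebra.compHom C (algebraMap A B')
  have : IsScalarTower A B' C := IsScalarTower.of_algebraMap_eq (fun _ => rfl)
  have hAC : ∀ a : A, algebraMap A C a = algebraMap B' C (algebraMap A B' a) := fun _ => rfl
  have hBC : ∀ b : B, algebraMap B C b = algebraMap B' C (algebraMap B B' b) := fun _ => rfl
  have hA'C : ∀ a : A', algebraMap A' C a = algebraMap B' C (algebraMap A' B' a) := fun _ => rfl
  have : IsScalarTower A B C := IsScalarTower.of_algebraMap_eq (fun a => by
    rw [hAC, hBC, ← IsScalarTower.algebraMap_apply A B B'])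
  have : IsScalarTower A A' C := IsScalarTower.of_algebraMap_eq (fun a => by
    rw [hAC, hA'C, ← IsScalarTower.algebraMap_apply A A' B'])
  -- the restricted map
  let ψ₀ : (B ⊗[A] B) →ₐ[B] C ⧸ N :=
    { toRingHom := ψ.toRingHom.comp (PP16.tensorMap A B A' B').toRingHom
      commutes' := fun b => by
        show ψ (PP16.tensorMap A B A' B' (algebraMap B (B ⊗[A] B) b)) = algebraMap B (C ⧸ N) b
        rw [Algebra.TensorProduct.algebraMap_apply, PP16.tensorMap_tmul, map_one,
          Algebra.algebraMap_self, RingHom.id_apply,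
          IsScalarTower.algebraMap_apply B B' (C ⧸ N), ← ψ.commutes,
          Algebra.TensorProduct.algebraMap_apply, Algebra.algebraMap_self, RingHom.id_apply] }
  have hψ₀ : ∀ x, ψ₀ x = ψ (PP16.tensorMap A B A' B' x) := fun x => rfl
  have hψ₀k : ∃ k : ℕ, ∀ x ∈ KaehlerDifferential.ideal A B ^ k, ψ₀ x = 0 :=
    ⟨k, fun x hx => by rw [hψ₀]; exact hk _ (tensorMap_mem_pow A B A' B' k x hx)⟩
  obtain ⟨χ₀, hχ₀⟩ := h C N hN ψ₀ hψ₀k
  have hχ₀' : ∀ x, Ideal.Quotient.mk N (χ₀ x) = ψ₀ x := fun x => AlgHom.congr_fun hχ₀ x
  let g : B →ₐ[A] C := (χ₀.restrictScalars A).comp Algebra.TensorProduct.includeRight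
  have hg : ∀ b, g b = χ₀ ((1 : B) ⊗ₜ[A] b) := fun b => rfl
  let gA' : A' →ₐ[A] C := IsScalarTower.toAlgHom A A' C
  let g' : B' →ₐ[A] C := Algebra.pushoutDesc B' g gA' (fun x y => mul_comm _ _)
  have hg'B : ∀ b : B, g' (algebraMap B B' b) = g b := fun b =>
    Algebra.pushoutDesc_left B' g gA' _ b
  have hg'A' : ∀ a : A', g' (algebraMap A' B' a) = algebraMap A' C a := fun a =>
    Algebra.pushoutDesc_right B' g gA' _ a
  let g'' : B' →ₐ[A'] C :=
    { toRingHom := g'.toRingHom
      commutes' := hg'A' }
  have hg'' : ∀ b, g'' b = g' b := fun b => rfl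
  let χ : (B' ⊗[A'] B') →ₐ[B'] C :=
    Algebra.TensorProduct.lift (Algebra.ofId B' C) g'' (fun _ _ => Commute.all _ _)
  refine ⟨χ, ?_⟩
  -- agreement on the second factor
  have key : ∀ b₂ : B', Ideal.Quotient.mk N (g' b₂) = ψ ((1 : B') ⊗ₜ[A'] b₂) := by
    intro b₂
    have H : Algebra.IsPushout A B A' B' := inferInstance
    refine H.1.inductionOn b₂ _ ?_ ?_ ?_ ?_
    · rw [map_zero, map_zero, TensorProduct.tmul_zero, map_zero]
    · intro a'
      show Ideal.Quotient.mk N (g' (algebraMap A' B' a')) = ψ ((1 : B') ⊗ₜ[A'] algebraMap A' B' a')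
      have e1 : (1 : B') ⊗ₜ[A'] algebraMap A' B' a' =
          algebraMap B' (B' ⊗[A'] B') (algebraMap A' B' a') := by
        rw [Algebra.TensorProduct.algebraMap_apply, Algebra.algebraMap_self, RingHom.id_apply,
          Algebra.algebraMap_eq_smul_one a', TensorProduct.smul_tmul]
      rw [hg'A', hA'C, e1, ψ.commutes]
      rfl
    · intro b n hn
      rw [Algebra.smul_def, map_mul, map_mul, hn, hg'B, hg, hχ₀', hψ₀, PP16.tensorMap_tmul,
        map_one, ← map_mul, Algebra.TensorProduct.tmul_mul_tmul, one_mul]
    · intro n₁ n₂ h₁ h₂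
      rw [map_add, map_add, h₁, h₂, TensorProduct.tmul_add, map_add]
  apply AlgHom.ext
  intro x
  show Ideal.Quotient.mk N (χ x) = ψ x
  induction x using TensorProduct.induction_on with
  | zero => rw [map_zero, map_zero, map_zero]
  | add x y hx hy => rw [map_add, map_add, map_add, hx, hy]
  | tmul b₁ b₂ =>
    have h1 : b₁ ⊗ₜ[A'] b₂ = b₁ • ((1 : B') ⊗ₜ[A'] b₂) := by
      rw [TensorProduct.smul_tmul', smul_eq_mul, mul_one]
    rw [Algebra.TensorProduct.lift_tmul, map_mul, hg'', key, h1, map_smul, Algebra.smul_def]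
    rfl

end baseChange

end Groth.Agent.Lib.Helper21.DiffSmooth

namespace Groth.Agent.Lib.Helper21.DiffSmooth

universe u

/-- differential smoothness is stable under base change (EGA IV 16.10.5, affine form) -/
theorem S3821_aux (A B A' B' : Type u) [CommRing A] [CommRing B] [Algebra A B]
    [CommRing A'] [CommRing B'] [Algebra A' B'] [Algebra A A'] [Algebra B B'] [Algebra A B']
    [IsScalarTower A A' B'] [IsScalarTower A B B'] [Algebra.IsPushout A B A' B']
    (h : PP16.IsDiffSmooth A B) : PP16.IsDiffSmooth A' B' :=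
  (isDiffSmooth_iff A' B').mpr
    (isAdicFormallySmooth_baseChange A B A' B' ((isDiffSmooth_iff A B).mp h))

end Groth.Agent.Lib.Helper21.DiffSmooth
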