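import Mathlib
import Groth.Prelude.Def_PP16
import Groth.Agent.Lib.Helper21.JacAdicF
import Groth.Agent.Lib.Helper21.SymGrL

/-!
# Helper library (helper21): extending a derivation `B → B[X]` coefficientwise to `B[X]`,
and its exponential on truncated polynomial rings (characteristic zero)
-/

set_option autoImplicit false

namespace Groth.Agent.Lib.Helper21.DiffSmooth

open TensorProduct KaehlerDifferential MvPolynomial
open Groth.Agent.Lib.Helper21.JacAdicF

universe u

section dtilde

variable {A B : Type u} [CommRing A] [CommRing B] [Algebra A B] {κ : Type u}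
  (δ : Derivation A B (MvPolynomial κ B))

/-- the ring hom `f ↦ f + D̃ f ε` -/
noncomputable def PsiHom :
    MvPolynomial κ B →+* TrivSqZeroExt (MvPolynomial κ B) (MvPolynomial κ B) :=
  eval₂Hom (twHom (K := MvPolynomial κ B) δ) (fun k => TrivSqZeroExt.inl (X k))

theorem PsiHom_C (b : B) : PsiHom δ (C b) = twHom (K := MvPolynomial κ B) δ b :=
  eval₂Hom_C _ _ b

theorem PsiHom_X (k : κ) : PsiHom δ (X k) = TrivSqZeroExt.inl (X k) :=
  eval₂Hom_X' _ _ k

theorem fst_PsiHom (f : MvPolynomial κ B) : (PsiHom δ f).fst = f := by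
  have : ((TrivSqZeroExt.fstHom (MvPolynomial κ B) (MvPolynomial κ B)
      (MvPolynomial κ B)).toRingHom).comp (PsiHom δ) = RingHom.id _ := by
    apply MvPolynomial.ringHom_ext
    · intro b
      show (PsiHom δ (C b)).fst = C b
      rw [PsiHom_C, fst_twHom, algebraMap_eq]
    · intro k
      show (PsiHom δ (X k)).fst = X k
      rw [PsiHom_X, TrivSqZeroExt.fst_inl]
  exact RingHom.congr_fun this f

/-- the coefficientwise extension of `δ` -/
noncomputable def Dt (f : MvPolynomial κ B) : MvPolynomial κ B := (PsiHom δ f).snd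

theorem Dt_add (f g : MvPolynomial κ B) : Dt δ (f + g) = Dt δ f + Dt δ g := by
  rw [Dt, map_add, TrivSqZeroExt.snd_add]; rfl

theorem Dt_zero : Dt δ 0 = 0 := by
  rw [Dt, map_zero, TrivSqZeroExt.snd_zero]

theorem Dt_mul (f g : MvPolynomial κ B) : Dt δ (f * g) = f * Dt δ g + g * Dt δ f := by
  rw [Dt, map_mul, snd_mul', fst_PsiHom, fst_PsiHom]; rfl

theorem Dt_C (b : B) : Dt δ (C b) = δ b := by
  rw [Dt, PsiHom_C, snd_twHom]

theorem Dt_X (k : κ) : Dt δ (X k) = 0 := by
  rw [Dt, PsiHom_X, TrivSqZeroExt.snd_inl]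

theorem Dt_one : Dt δ 1 = 0 := by
  rw [Dt, map_one, TrivSqZeroExt.snd_one]

theorem Dt_smul (a : A) (f : MvPolynomial κ B) : Dt δ (a • f) = a • Dt δ f := by
  rw [Algebra.smul_def, Algebra.smul_def, Dt_mul, IsScalarTower.algebraMap_apply A B,
    algebraMap_eq, Dt_C, Derivation.map_algebraMap, mul_zero, add_zero]

/-- `D̃` as an `A`-linear map -/
noncomputable def DtLin : MvPolynomial κ B →ₗ[A] MvPolynomial κ B where
  toFun := Dt δ
  map_add' := Dt_add δ
  map_smul' := Dt_smul δ

theorem DtLin_apply (f : MvPolynomial κ B) : DtLin δ f = Dt δ f := rfl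

variable (hδ : ∀ b, δ b ∈ idealOfVars κ B)

include hδ in
theorem Dt_mem (f : MvPolynomial κ B) : Dt δ f ∈ idealOfVars κ B := by
  induction f using MvPolynomial.induction_on with
  | C b => rw [Dt_C]; exact hδ b
  | add p q hp hq => rw [Dt_add]; exact add_mem hp hq
  | mul_X p k hp =>
    rw [Dt_mul, Dt_X, mul_zero, zero_add]
    exact Ideal.mul_mem_left _ _ hp

include hδ in
theorem Dt_mem_sq (y : MvPolynomial κ B) (hy : y ∈ idealOfVars κ B) :
    Dt δ y ∈ idealOfVars κ B ^ 2 := by
  have hpw : idealOfVars κ B ^ 2 = idealOfVars κ B * idealOfVars κ B := pow_two _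
  induction hy using Submodule.span_induction with
  | mem y hy =>
    obtain ⟨k, rfl⟩ := hy
    rw [Dt_X]; exact zero_mem _
  | zero => rw [Dt_zero]; exact zero_mem _
  | add x y _ _ hx hy => rw [Dt_add]; exact add_mem hx hy
  | smul c x hx ih =>
    rw [smul_eq_mul, Dt_mul]
    refine add_mem (Ideal.mul_mem_left _ _ ih) ?_
    rw [hpw]
    exact Ideal.mul_mem_mul hx (Dt_mem δ hδ c)

include hδ in
theorem Dt_mem_pow (j : ℕ) : ∀ f ∈ idealOfVars κ B ^ j, Dt δ f ∈ idealOfVars κ B ^ (j + 1) := by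
  induction j with
  | zero =>
    intro f _
    rw [zero_add, pow_one]
    exact Dt_mem δ hδ f
  | succ j ih =>
    intro f hf
    have hps : idealOfVars κ B ^ (j + 1) = idealOfVars κ B ^ j * idealOfVars κ B := pow_succ _ j
    rw [hps] at hf
    refine Submodule.mul_induction_on hf ?_ ?_
    · intro a ha y hy
      rw [Dt_mul]
      have hp1 : idealOfVars κ B ^ (j + 1 + 1) = idealOfVars κ B ^ j * idealOfVars κ B ^ 2 := by
        rw [← pow_add]
      have hp2 : idealOfVars κ B ^ (j + 1 + 1) = idealOfVars κ B * idealOfVars κ B ^ (j + 1) :=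
        pow_succ' _ (j + 1)
      refine add_mem ?_ ?_
      · rw [hp1]; exact Ideal.mul_mem_mul ha (Dt_mem_sq δ hδ y hy)
      · rw [hp2]; exact Ideal.mul_mem_mul hy (ih a ha)
    · intro x y hx hy
      rw [Dt_add]; exact add_mem hx hy

end dtilde

end Groth.Agent.Lib.Helper21.DiffSmooth
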