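import Mathlib
import Groth.Prelude.Def_PP16
import Groth.Agent.Lib.Helper21.ExpTaylorA

/-!
# Helper library (helper21): the exponential of the coefficientwise derivation on the truncated
polynomial ring, and the resulting Taylor homomorphism `B → B[X]/(X)^(n+1)`
-/

set_option autoImplicit false

namespace Groth.Agent.Lib.Helper21.DiffSmooth

open TensorProduct KaehlerDifferential MvPolynomial

universe u

section quot

variable {A B : Type u} [CommRing A] [CommRing B] [Algebra A B] {κ : Type u}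
  (δ : Derivation A B (MvPolynomial κ B)) (hδ : ∀ b, δ b ∈ idealOfVars κ B) (n : ℕ)

include hδ in
theorem Dt_comap_le :
    (idealOfVars κ B ^ (n + 1)).restrictScalars A ≤
      ((idealOfVars κ B ^ (n + 1)).restrictScalars A).comap (DtLin δ) := by
  intro f hf
  exact Ideal.pow_le_pow_right (Nat.le_succ _) (Dt_mem_pow δ hδ (n + 1) f hf)

/-- the induced derivation of the truncated polynomial ring -/
noncomputable def Dbar : (MvPolynomial κ B ⧸ idealOfVars κ B ^ (n + 1)) →ₗ[A]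
    (MvPolynomial κ B ⧸ idealOfVars κ B ^ (n + 1)) :=
  (Submodule.Quotient.restrictScalarsEquiv A (idealOfVars κ B ^ (n + 1))).toLinearMap ∘ₗ
    (Submodule.mapQ ((idealOfVars κ B ^ (n + 1)).restrictScalars A)
      ((idealOfVars κ B ^ (n + 1)).restrictScalars A) (DtLin δ) (Dt_comap_le δ hδ n)) ∘ₗ
    (Submodule.Quotient.restrictScalarsEquiv A (idealOfVars κ B ^ (n + 1))).symm.toLinearMap

theorem Dbar_mk (f : MvPolynomial κ B) :
    Dbar δ hδ n (Ideal.Quotient.mk _ f) = Ideal.Quotient.mk _ (Dt δ f) := rfl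

theorem Dbar_mul (s t : MvPolynomial κ B ⧸ idealOfVars κ B ^ (n + 1)) :
    Dbar δ hδ n (s * t) = s * Dbar δ hδ n t + Dbar δ hδ n s * t := by
  obtain ⟨f, rfl⟩ := Ideal.Quotient.mk_surjective s
  obtain ⟨g, rfl⟩ := Ideal.Quotient.mk_surjective t
  rw [← map_mul, Dbar_mk, Dbar_mk, Dbar_mk, Dt_mul, map_add, map_mul, map_mul]
  ring

theorem Dbar_mem (j : ℕ) (t : MvPolynomial κ B ⧸ idealOfVars κ B ^ (n + 1))
    (ht : t ∈ (idealOfVars κ B ^ j).map (Ideal.Quotient.mk (idealOfVars κ B ^ (n + 1)))) :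
    Dbar δ hδ n t ∈
      (idealOfVars κ B ^ (j + 1)).map (Ideal.Quotient.mk (idealOfVars κ B ^ (n + 1))) := by
  rw [Ideal.mem_map_iff_of_surjective _ Ideal.Quotient.mk_surjective] at ht
  obtain ⟨f, hf, rfl⟩ := ht
  rw [Dbar_mk]
  exact Ideal.mem_map_of_mem _ (Dt_mem_pow δ hδ j f hf)

theorem Dbar_pow_mem (j : ℕ) (t : MvPolynomial κ B ⧸ idealOfVars κ B ^ (n + 1)) :
    ((Dbar δ hδ n) ^ j) t ∈
      (idealOfVars κ B ^ j).map (Ideal.Quotient.mk (idealOfVars κ B ^ (n + 1))) := by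
  induction j with
  | zero =>
    rw [pow_zero, pow_zero, Ideal.one_eq_top, Ideal.map_top]
    trivial
  | succ j ih =>
    have e : (Dbar δ hδ n) ^ (j + 1) = Dbar δ hδ n * (Dbar δ hδ n) ^ j := pow_succ' _ j
    rw [e, Module.End.mul_apply]
    exact Dbar_mem δ hδ n j _ ih

theorem Dbar_pow_eq_zero : (Dbar δ hδ n) ^ (n + 1) = 0 := by
  apply LinearMap.ext
  intro t
  have := Dbar_pow_mem δ hδ n (n + 1) t
  rw [Ideal.map_quotient_self, Ideal.mem_bot] at this
  rw [this, LinearMap.zero_apply]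

theorem isNilpotent_Dbar : IsNilpotent (Dbar δ hδ n) := ⟨n + 1, Dbar_pow_eq_zero δ hδ n⟩

theorem Dbar_one : Dbar δ hδ n 1 = 0 := by
  have : (1 : MvPolynomial κ B ⧸ idealOfVars κ B ^ (n + 1)) = Ideal.Quotient.mk _ 1 := rfl
  rw [this, Dbar_mk, Dt_one, map_zero]

theorem Dbar_pow_one (i : ℕ) (hi : 0 < i) : ((Dbar δ hδ n) ^ i) 1 = 0 := by
  obtain ⟨i, rfl⟩ := Nat.exists_eq_succ_of_ne_zero (Nat.pos_iff_ne_zero.mp hi)
  have e : (Dbar δ hδ n) ^ (i + 1) = (Dbar δ hδ n) ^ i * Dbar δ hδ n := pow_succ _ i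
  rw [e, Module.End.mul_apply, Dbar_one, map_zero]

variable [Algebra ℚ B]

/-- `exp D̄` -/
noncomputable def Eexp : Module.End A (MvPolynomial κ B ⧸ idealOfVars κ B ^ (n + 1)) :=
  IsNilpotent.exp (Dbar δ hδ n)

theorem Eexp_apply (t : MvPolynomial κ B ⧸ idealOfVars κ B ^ (n + 1)) :
    Eexp δ hδ n t =
      ∑ i ∈ Finset.range (n + 2), ((i.factorial : ℚ)⁻¹) • ((Dbar δ hδ n) ^ i) t := by
  have h : (Dbar δ hδ n) ^ (n + 2) = 0 := by
    have e : (Dbar δ hδ n) ^ (n + 2) = (Dbar δ hδ n) ^ (n + 1) * Dbar δ hδ n := pow_succ _ (n + 1)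
    rw [e, Dbar_pow_eq_zero, zero_mul]
  rw [Eexp, IsNilpotent.exp_eq_sum h, LinearMap.sum_apply]
  rfl

theorem Eexp_mul (s t : MvPolynomial κ B ⧸ idealOfVars κ B ^ (n + 1)) :
    Eexp δ hδ n (s * t) = Eexp δ hδ n s * Eexp δ hδ n t :=
  Module.End.exp_mul_of_derivation A _ (Dbar δ hδ n) (Dbar_mul δ hδ n) (isNilpotent_Dbar δ hδ n) s t

theorem Eexp_one : Eexp δ hδ n 1 = 1 := by
  rw [Eexp_apply, Finset.sum_range_succ', Finset.sum_eq_zero, zero_add, pow_zero,
    Nat.factorial_zero, Nat.cast_one, inv_one, one_smul, Module.End.one_apply]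
  intro i _
  rw [Dbar_pow_one δ hδ n (i + 1) (Nat.succ_pos i), smul_zero]

theorem Eexp_algebraMap_sub (b : B) :
    Eexp δ hδ n (algebraMap B _ b) - algebraMap B _ b - Ideal.Quotient.mk _ (δ b) ∈
      (idealOfVars κ B ^ 2).map (Ideal.Quotient.mk (idealOfVars κ B ^ (n + 1))) := by
  rw [Eexp_apply, Finset.sum_range_succ', Finset.sum_range_succ']
  have h0 : ((Nat.factorial 0 : ℚ)⁻¹) • ((Dbar δ hδ n) ^ 0)
      (algebraMap B (MvPolynomial κ B ⧸ idealOfVars κ B ^ (n + 1)) b) = algebraMap B _ b := by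
    rw [pow_zero, Nat.factorial_zero, Nat.cast_one, inv_one, one_smul, Module.End.one_apply]
  have h1 : (((0 + 1).factorial : ℚ)⁻¹) • ((Dbar δ hδ n) ^ (0 + 1))
      (algebraMap B (MvPolynomial κ B ⧸ idealOfVars κ B ^ (n + 1)) b) =
        Ideal.Quotient.mk _ (δ b) := by
    have e : algebraMap B (MvPolynomial κ B ⧸ idealOfVars κ B ^ (n + 1)) b =
        Ideal.Quotient.mk _ (C b) := rfl
    rw [zero_add, pow_one, Nat.factorial_one, Nat.cast_one, inv_one, one_smul, e, Dbar_mk, Dt_C]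
  rw [h0, h1, add_sub_cancel_right, add_sub_cancel_right]
  refine Ideal.sum_mem _ fun i _ => ?_
  refine Submodule.smul_of_tower_mem _ _ ?_
  exact Ideal.map_mono (Ideal.pow_le_pow_right (by omega)) (Dbar_pow_mem δ hδ n (i + 1 + 1) _)

/-- the Taylor homomorphism `B → B[X]/(X)^(n+1)` -/
noncomputable def theta : B →ₐ[A] (MvPolynomial κ B ⧸ idealOfVars κ B ^ (n + 1)) where
  toFun b := Eexp δ hδ n (algebraMap B _ b)
  map_one' := by rw [map_one, Eexp_one]
  map_mul' x y := by rw [map_mul, Eexp_mul]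
  map_zero' := by rw [map_zero, map_zero]
  map_add' x y := by rw [map_add, map_add]
  commutes' a := by
    rw [← IsScalarTower.algebraMap_apply A B, Algebra.algebraMap_eq_smul_one, map_smul, Eexp_one]

theorem theta_apply (b : B) : theta δ hδ n b = Eexp δ hδ n (algebraMap B _ b) := rfl

/-- `B ⊗_A B → B[X]/(X)^(n+1)`, `b ⊗ c ↦ b θ(c)` -/
noncomputable def taylorL : B ⊗[A] B →ₐ[B] (MvPolynomial κ B ⧸ idealOfVars κ B ^ (n + 1)) :=
  Algebra.TensorProduct.lift (Algebra.ofId B _) (theta δ hδ n) (fun _ _ => Commute.all _ _)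

theorem taylorL_tmul (b c : B) :
    taylorL δ hδ n (b ⊗ₜ[A] c) = algebraMap B _ b * theta δ hδ n c :=
  Algebra.TensorProduct.lift_tmul _ _ _ b c

theorem taylorL_zeta (b : B) :
    taylorL δ hδ n ((1 : B) ⊗ₜ[A] b - b ⊗ₜ[A] (1 : B)) - Ideal.Quotient.mk _ (δ b) ∈
      (idealOfVars κ B ^ 2).map (Ideal.Quotient.mk (idealOfVars κ B ^ (n + 1))) := by
  rw [map_sub, taylorL_tmul, taylorL_tmul, map_one, one_mul, map_one, mul_one]
  exact Eexp_algebraMap_sub δ hδ n b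

include hδ in
theorem mk_delta_mem (b : B) :
    Ideal.Quotient.mk (idealOfVars κ B ^ (n + 1)) (δ b) ∈
      (idealOfVars κ B).map (Ideal.Quotient.mk (idealOfVars κ B ^ (n + 1))) :=
  Ideal.mem_map_of_mem _ (hδ b)

theorem taylorL_zeta_mem (b : B) :
    taylorL δ hδ n ((1 : B) ⊗ₜ[A] b - b ⊗ₜ[A] (1 : B)) ∈
      (idealOfVars κ B).map (Ideal.Quotient.mk (idealOfVars κ B ^ (n + 1))) := by
  have h1 := Ideal.map_mono (f := Ideal.Quotient.mk (idealOfVars κ B ^ (n + 1)))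
    (Ideal.pow_le_self (I := idealOfVars κ B) two_ne_zero) (taylorL_zeta δ hδ n b)
  have := add_mem h1 (mk_delta_mem δ hδ n b)
  rwa [sub_add_cancel] at this

theorem map_taylorL_le :
    (KaehlerDifferential.ideal A B).map (taylorL δ hδ n) ≤
      (idealOfVars κ B).map (Ideal.Quotient.mk (idealOfVars κ B ^ (n + 1))) := by
  rw [← KaehlerDifferential.span_range_eq_ideal, Ideal.map_span, Ideal.span_le]
  rintro _ ⟨_, ⟨b, rfl⟩, rfl⟩
  exact taylorL_zeta_mem δ hδ n b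

theorem taylorL_mem_pow (j : ℕ) (x : B ⊗[A] B) (hx : x ∈ KaehlerDifferential.ideal A B ^ j) :
    taylorL δ hδ n x ∈
      (idealOfVars κ B ^ j).map (Ideal.Quotient.mk (idealOfVars κ B ^ (n + 1))) := by
  have h1 : (KaehlerDifferential.ideal A B ^ j).map (taylorL δ hδ n) ≤
      (idealOfVars κ B ^ j).map (Ideal.Quotient.mk (idealOfVars κ B ^ (n + 1))) := by
    rw [Ideal.map_pow, Ideal.map_pow]
    exact Ideal.pow_right_mono (map_taylorL_le δ hδ n) j
  exact h1 (Ideal.mem_map_of_mem _ hx)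

theorem taylorL_eq_zero (x : B ⊗[A] B) (hx : x ∈ KaehlerDifferential.ideal A B ^ (n + 1)) :
    taylorL δ hδ n x = 0 := by
  have := taylorL_mem_pow δ hδ n (n + 1) x hx
  rwa [Ideal.map_quotient_self, Ideal.mem_bot] at this

end quot

end Groth.Agent.Lib.Helper21.DiffSmooth
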