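import Mathlib
import Groth.Prelude.Def_PP16
import Groth.Agent.Lib.Helper21.ExpTaylorB

/-!
# Helper library (helper21): in characteristic zero, free differentials imply differential
smoothness (EGA IV 16.12.2)
-/

set_option autoImplicit false

namespace Groth.Agent.Lib.Helper21.DiffSmooth

open TensorProduct KaehlerDifferential MvPolynomial
open Groth.Agent.Lib.Helper21.SymGr Groth.Agent.Lib.Helper21.SymPow
open Groth.Agent.Lib.Helper21.SymAlg

universe u

section final

variable {A B : Type u} [CommRing A] [CommRing B] [Algebra A B] {κ : Type u}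
  (e : Module.Basis κ B Ω[B⁄A])

/-- `b ↦ ∑ (coordinates of db) X_k` -/
noncomputable def deltaOf : Derivation A B (MvPolynomial κ B) :=
  (e.constr B (fun k => (X k : MvPolynomial κ B))).compDer (KaehlerDifferential.D A B)

theorem deltaOf_apply (b : B) :
    deltaOf e b = e.constr B (fun k => (X k : MvPolynomial κ B)) (KaehlerDifferential.D A B b) :=
  rfl

theorem constr_mem (v : Ω[B⁄A]) :
    e.constr B (fun k => (X k : MvPolynomial κ B)) v ∈ idealOfVars κ B := by
  rw [Module.Basis.constr_apply]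
  refine Ideal.sum_mem _ fun k _ => ?_
  show (e.repr v) k • (X k : MvPolynomial κ B) ∈ _
  rw [Algebra.smul_def]
  exact Ideal.mul_mem_left _ _ (Ideal.subset_span ⟨k, rfl⟩)

theorem deltaOf_mem (b : B) : deltaOf e b ∈ idealOfVars κ B := constr_mem e _

variable (ι : Type u) [Fintype ι]

/-- `Sym^ι_B(Ω) → B[X]` -/
noncomputable def TP : SymmetricPower B ι Ω[B⁄A] →ₗ[B] MvPolynomial κ B :=
  (SymmetricAlgebra.equivMvPolynomial e).toLinearMap ∘ₗ (tau B B Ω[B⁄A] ι)

theorem equiv_ι (v : Ω[B⁄A]) :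
    SymmetricAlgebra.equivMvPolynomial e (SymmetricAlgebra.ι B Ω[B⁄A] v) =
      e.constr B (fun k => (X k : MvPolynomial κ B)) v := by
  show SymmetricAlgebra.lift (e.constr B (fun k => (X k : MvPolynomial κ B)))
    (SymmetricAlgebra.ι B Ω[B⁄A] v) = _
  rw [SymmetricAlgebra.lift_ι_apply]

theorem TP_tprod (v : ι → Ω[B⁄A]) :
    TP e ι (SymmetricPower.tprod B v) =
      ∏ i, e.constr B (fun k => (X k : MvPolynomial κ B)) (v i) := by
  rw [TP, LinearMap.comp_apply, tau_tprod, AlgEquiv.toLinearMap_apply, map_prod]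
  simp_rw [equiv_ι]

theorem eq_zero_of_TP_mem [Nonempty ι] (ξ : SymmetricPower B ι Ω[B⁄A])
    (h : TP e ι ξ ∈ idealOfVars κ B ^ (Fintype.card ι + 1)) : ξ = 0 := by
  apply eq_zero_of_tau_mem_of_basis B e (fun b => ⟨b, rfl⟩) ξ
  have h1 : (idealOfVars κ B).map
      ((SymmetricAlgebra.equivMvPolynomial e).symm : MvPolynomial κ B →+* SymmetricAlgebra B Ω[B⁄A]) ≤
        augIdeal B Ω[B⁄A] := by
    rw [Ideal.map_span, Ideal.span_le]
    rintro _ ⟨_, ⟨k, rfl⟩, rfl⟩
    show (SymmetricAlgebra.equivMvPolynomial e).symm (X k) ∈ _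
    rw [SymmetricAlgebra.equivMvPolynomial_symm_X]
    exact ι_mem _
  have h2 := Ideal.mem_map_of_mem
    ((SymmetricAlgebra.equivMvPolynomial e).symm : MvPolynomial κ B →+* SymmetricAlgebra B Ω[B⁄A]) h
  rw [Ideal.map_pow] at h2
  have h3 := Ideal.pow_right_mono h1 _ h2
  have h4 : ((SymmetricAlgebra.equivMvPolynomial e).symm :
      MvPolynomial κ B →+* SymmetricAlgebra B Ω[B⁄A]) (TP e ι ξ) = tau B B Ω[B⁄A] ι ξ :=
    (SymmetricAlgebra.equivMvPolynomial e).symm_apply_apply _
  rw [h4] at h3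
  exact h3

variable [Algebra ℚ B]

/-- `I^n/I^(n+1) → B[X]/(X)^(n+1)` induced by the Taylor homomorphism -/
noncomputable def LamBar (n : ℕ) :
    PP16.grI A B n →ₗ[B] (MvPolynomial κ B ⧸ idealOfVars κ B ^ (n + 1)) :=
  Submodule.liftQ _ ((taylorL (deltaOf e) (deltaOf_mem e) n).toLinearMap ∘ₗ
    ((KaehlerDifferential.ideal A B ^ n).restrictScalars B).subtype) (by
    intro x hx
    rw [Submodule.mem_comap] at hx
    rw [LinearMap.mem_ker]
    exact taylorL_eq_zero (deltaOf e) (deltaOf_mem e) n _ hx)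

theorem LamBar_mk (n : ℕ) (x : ↥((KaehlerDifferential.ideal A B ^ n).restrictScalars B)) :
    LamBar e n (Submodule.Quotient.mk x) = taylorL (deltaOf e) (deltaOf_mem e) n x.1 := rfl

theorem LamBar_phi (ξ : SymmetricPower B ι Ω[B⁄A]) :
    LamBar e (Fintype.card ι) (phi A B ι ξ) = Ideal.Quotient.mk _ (TP e ι ξ) := by
  have : (LamBar e (Fintype.card ι)) ∘ₗ (phi A B ι) =
      (Ideal.Quotient.mkₐ B (idealOfVars κ B ^ (Fintype.card ι + 1))).toLinearMap ∘ₗ TP e ι := by
    apply linearMap_ext_D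
    intro b
    rw [LinearMap.comp_apply, LinearMap.comp_apply, phi_tprod, TP_tprod]
    show taylorL (deltaOf e) (deltaOf_mem e) (Fintype.card ι)
      (∏ i, ((1 : B) ⊗ₜ[A] b i - b i ⊗ₜ[A] (1 : B))) =
        Ideal.Quotient.mk _ (∏ i, deltaOf e (b i))
    rw [map_prod, map_prod, ← sub_eq_zero]
    have hmem := prod_sub_prod_mem
      ((idealOfVars κ B).map (Ideal.Quotient.mk (idealOfVars κ B ^ (Fintype.card ι + 1))))
      Finset.univ
      (fun i => taylorL (deltaOf e) (deltaOf_mem e) (Fintype.card ι)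
        ((1 : B) ⊗ₜ[A] b i - b i ⊗ₜ[A] (1 : B)))
      (fun i => Ideal.Quotient.mk (idealOfVars κ B ^ (Fintype.card ι + 1)) (deltaOf e (b i)))
      (fun i _ => taylorL_zeta_mem _ _ _ _) (fun i _ => mk_delta_mem _ (deltaOf_mem e) _ _)
      (fun i _ => by
        rw [← Ideal.map_pow]
        exact taylorL_zeta _ _ _ _)
    rw [Finset.card_univ, ← Ideal.map_pow, Ideal.map_quotient_self, Ideal.mem_bot] at hmem
    exact hmem
  exact LinearMap.congr_fun this ξ

include e in
theorem phi_injective_of_basis [Nonempty ι] : Function.Injective (phi A B ι) := by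
  rw [injective_iff_map_eq_zero]
  intro ξ hξ
  apply eq_zero_of_TP_mem e ι ξ
  have := LamBar_phi e ι ξ
  rw [hξ, map_zero] at this
  exact Ideal.Quotient.eq_zero_iff_mem.mp this.symm

omit [Algebra ℚ B] in
theorem phi_surjective [Nonempty ι] : Function.Surjective (phi A B ι) := by
  have h1 := toBig_bijective (B := B) (R := B ⊗[A] B) (ι := ι) (M := Ω[B⁄A]) (mu A B)
    smul_eq_mu_smul
  have h2 : Function.Surjective (canonΩ A B ι) := canon_surjective _ ι
  have h3 : Function.Surjective (toGrI A B (Fintype.card ι)) := Function.surjective_id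
  exact h3.comp (h2.comp h1.2)

end final

theorem S3819_aux (A B : Type u) [CommRing A] [CommRing B] [Algebra A B] [Algebra ℚ B]
    (hΩ : Module.Free B (KaehlerDifferential A B)) : PP16.IsDiffSmooth A B := by
  have hproj : Module.Projective B Ω[B⁄A] := inferInstance
  refine ⟨hproj, fun ι _ => ?_⟩
  rcases isEmpty_or_nonempty ι with h | h
  · exact exists_phi_of_isEmpty ι
  · exact ⟨phi A B ι, phi_tprod ι,
      phi_injective_of_basis (Module.Free.chooseBasis B Ω[B⁄A]) ι, phi_surjective ι⟩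

end Groth.Agent.Lib.Helper21.DiffSmooth
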