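import Mathlib
import Groth.Agent.Lib.Helper18.DRExt2
import Groth.Agent.Lib.Helper21.TriBij
import Groth.Agent.Lib.Helper21.ExtTorsA
import Groth.Agent.Lib.Helper21.ExtTorsB

/-!
# Ext base change for power torsion modules (helper21)

`A → B` flat, `I ⊆ A` finitely generated with `A/I ≅ B/IB`, `M` an `I`-power torsion module:
`Hom_{D(A)}(M, N[i]) ≅ Hom_{D(B)}(B ⊗ M, (B ⊗ N)[i])` for every `A`-module `N`.
Dévissage on `N` along the generators of `I`.
-/

set_option autoImplicit false
set_option linter.style.haveILetI false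
set_option linter.unusedSectionVars false
universe u
open CategoryTheory CategoryTheory.Limits CategoryTheory.Pretriangulated DerivedCategory
open scoped TensorProduct
open Groth.Agent.Lib.Helper18.DR

attribute [local instance] HasDerivedCategory.standard

namespace Groth.Agent.Lib.Helper21.ExtTorsC

open ExtTorsA ExtTorsB

section ses

variable (A : Type u) [CommRing A]

/-- the distinguished triangle of a short exact sequence of modules -/
lemma distTriang_of_ses {N₁ N₂ N₃ : Type u} [AddCommGroup N₁] [Module A N₁]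
    [AddCommGroup N₂] [Module A N₂] [AddCommGroup N₃] [Module A N₃]
    (f : N₁ →ₗ[A] N₂) (g : N₂ →ₗ[A] N₃) (hf : Function.Injective f)
    (hg : Function.Surjective g) (hfg : Function.Exact f g) :
    ∃ (m₁ : Dual.inD A N₁ ⟶ Dual.inD A N₂) (m₂ : Dual.inD A N₂ ⟶ Dual.inD A N₃)
      (m₃ : Dual.inD A N₃ ⟶ (Dual.inD A N₁)⟦(1 : ℤ)⟧),
      Triangle.mk m₁ m₂ m₃ ∈ distTriang (Dual.D A) := by
  let S : ShortComplex (ModuleCat.{u} A) :=
    ModuleCat.shortComplexOfCompEqZero f g hfg.linearMap_comp_eq_zero
  have hS : S.ShortExact := ModuleCat.shortComplex_shortExact S hfg hf hg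
  exact ⟨(DerivedCategory.singleFunctor (ModuleCat.{u} A) 0).map S.f,
    (DerivedCategory.singleFunctor (ModuleCat.{u} A) 0).map S.g, hS.singleδ,
    hS.singleTriangle_distinguished⟩

end ses

section main

variable (A B : Type u) [CommRing A] [CommRing B] [Algebra A B] [Module.Flat A B]
  (M : Type u) [AddCommGroup M] [Module A M]

/-- base change is bijective on maps from `M` to all shifts of `N` -/
def GoodMod (N : Type u) [AddCommGroup N] [Module A N] : Prop :=
  TriBij.Good (extD A B) (Dual.inD A M) (Dual.inD A N)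

variable {A B M}

lemma goodMod_mid {N₁ N₂ N₃ : Type u} [AddCommGroup N₁] [Module A N₁]
    [AddCommGroup N₂] [Module A N₂] [AddCommGroup N₃] [Module A N₃]
    (f : N₁ →ₗ[A] N₂) (g : N₂ →ₗ[A] N₃) (hf : Function.Injective f)
    (hg : Function.Surjective g) (hfg : Function.Exact f g)
    (h1 : GoodMod A B M N₁) (h3 : GoodMod A B M N₃) : GoodMod A B M N₂ := by
  obtain ⟨m₁, m₂, m₃, hT⟩ := distTriang_of_ses A f g hf hg hfg
  exact TriBij.good_obj₂ (Triangle.mk m₁ m₂ m₃) hT h1 h3

lemma goodMod_left {N₁ N₂ N₃ : Type u} [AddCommGroup N₁] [Module A N₁]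
    [AddCommGroup N₂] [Module A N₂] [AddCommGroup N₃] [Module A N₃]
    (f : N₁ →ₗ[A] N₂) (g : N₂ →ₗ[A] N₃) (hf : Function.Injective f)
    (hg : Function.Surjective g) (hfg : Function.Exact f g)
    (h2 : GoodMod A B M N₂) (h3 : GoodMod A B M N₃) : GoodMod A B M N₁ := by
  obtain ⟨m₁, m₂, m₃, hT⟩ := distTriang_of_ses A f g hf hg hfg
  exact TriBij.good_obj₁ (Triangle.mk m₁ m₂ m₃) hT h2 h3

variable (I : Ideal A)
  (hs : Function.Surjective
    ((Ideal.Quotient.mk (I.map (algebraMap A B))).comp (algebraMap A B)))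
  (hk : RingHom.ker ((Ideal.Quotient.mk (I.map (algebraMap A B))).comp (algebraMap A B)) = I)

include hs hk in
/-- power torsion modules are good (the unit of the adjunction is invertible) -/
lemma goodMod_of_torsion (N : Type u) [AddCommGroup N] [Module A N]
    (hN : LocCoh.IsPowerTorsion I N) : GoodMod A B M N := fun i =>
  bijective_map_shift_inD A B _ N (mk_one_bijective_of_powerTorsion I hs hk N hN) i

/-- modules on which some `f ∈ I` is bijective are good (both sides vanish) -/
lemma goodMod_of_bijective (hM : LocCoh.IsPowerTorsion I M) (f : A) (hf : f ∈ I)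
    (L : Type u) [AddCommGroup L] [Module A L]
    (hL : Function.Bijective (fun x : L => f • x)) : GoodMod A B M L := by
  intro i
  have hMf : ∀ m : M, ∃ n : ℕ, f ^ n • m = 0 := by
    intro m
    obtain ⟨n, hn⟩ := hM m
    exact ⟨n, hn _ (Ideal.pow_mem_pow hf n)⟩
  -- the source is trivial
  haveI h1 : Subsingleton (Dual.inD A M ⟶ (Dual.inD A L)⟦i⟧) :=
    subsingleton_hom_of_tensor A (Localization.Away f) M L
      (subsingleton_away_tensor f M hMf) (mk_one_bijective_of_bijective_smul f L hL) i
  -- the target is trivial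
  haveI h2 : Subsingleton (Dual.inD B (B ⊗[A] M) ⟶ (Dual.inD B (B ⊗[A] L))⟦i⟧) :=
    subsingleton_hom_of_tensor B (Localization.Away (algebraMap A B f)) (B ⊗[A] M) (B ⊗[A] L)
      (subsingleton_away_tensor (algebraMap A B f) (B ⊗[A] M) (torsBy_tensor f M hMf))
      (mk_one_bijective_of_bijective_smul (algebraMap A B f) (B ⊗[A] L)
        (bijective_smul_tensor f L hL)) i
  haveI h3 : Subsingleton ((extD A B).obj (Dual.inD A M) ⟶
      (extD A B).obj ((Dual.inD A L)⟦i⟧)) :=
    (Iso.homCongr (extDInDIso (B := B) M) (extDShiftInDIso A B L i)).subsingleton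
  constructor
  · intro g₁ g₂ _
    exact Subsingleton.elim _ _
  · intro a
    exact ⟨0, Subsingleton.elim _ _⟩

include hs hk in
/-- dévissage along the generators of `I` -/
theorem goodMod_all (hM : LocCoh.IsPowerTorsion I M) (F : Finset A)
    (hF : Ideal.span (F : Set A) = I) :
    ∀ s : Finset A, s ⊆ F → ∀ (N : Type u) [AddCommGroup N] [Module A N],
      (∀ g ∈ F, g ∉ s → TorsBy g N) → GoodMod A B M N := by
  classical
  intro s
  induction s using Finset.induction_on with
  | empty =>
    intro _ N _ _ hN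
    apply goodMod_of_torsion I hs hk
    rw [← hF]
    exact isPowerTorsion_of_torsBy F N (fun g hg => hN g hg (Finset.notMem_empty g))
  | insert f s hfs ih =>
    intro hsub N _ _ hN
    have hfF : f ∈ F := hsub (Finset.mem_insert_self f s)
    have hsF : s ⊆ F := fun x hx => hsub (Finset.mem_insert_of_mem hx)
    have hfI : f ∈ I := by
      rw [← hF]
      exact Ideal.subset_span (Finset.mem_coe.2 hfF)
    have hNg : ∀ g ∈ F, g ∉ s → g ≠ f → TorsBy g N := by
      intro g hg hgs hgf
      apply hN g hg
      rw [Finset.mem_insert]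
      rintro (h | h)
      · exact hgf h
      · exact hgs h
    -- the kernel of `N → N_f`
    have hK : GoodMod A B M
        (LinearMap.ker (LocalizedModule.mkLinearMap (Submonoid.powers f) N)) := by
      apply ih hsF
      intro g hg hgs
      by_cases hgf : g = f
      · subst hgf
        exact torsBy_ker_mkLinearMap g N
      · exact torsBy_of_injective (Submodule.subtype _) (Submodule.injective_subtype _)
          (hNg g hg hgs hgf)
    -- the localization
    have hNf : GoodMod A B M (LocalizedModule (Submonoid.powers f) N) :=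
      goodMod_of_bijective I hM f hfI _ (bijective_smul_localizedModule f N)
    -- the cokernel of `N → N_f`
    have hC : GoodMod A B M (LocalizedModule (Submonoid.powers f) N ⧸
        LinearMap.range (LocalizedModule.mkLinearMap (Submonoid.powers f) N)) := by
      apply ih hsF
      intro g hg hgs
      by_cases hgf : g = f
      · subst hgf
        exact torsBy_coker_mkLinearMap g N
      · exact torsBy_of_surjective (Submodule.mkQ _) (Submodule.mkQ_surjective _)
          (torsBy_localizedModule g f N (hNg g hg hgs hgf))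
    -- the image of `N → N_f`
    have hR : GoodMod A B M
        (LinearMap.range (LocalizedModule.mkLinearMap (Submonoid.powers f) N)) :=
      goodMod_left (Submodule.subtype _) (Submodule.mkQ _) (Submodule.injective_subtype _)
        (Submodule.mkQ_surjective _) (LinearMap.exact_subtype_mkQ _) hNf hC
    exact goodMod_mid
      (Submodule.subtype (LinearMap.ker (LocalizedModule.mkLinearMap (Submonoid.powers f) N)))
      (LocalizedModule.mkLinearMap (Submonoid.powers f) N).rangeRestrict
      (Submodule.injective_subtype _) (LinearMap.surjective_rangeRestrict _)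
      (LinearMap.exact_iff.2 (by rw [LinearMap.ker_rangeRestrict, Submodule.range_subtype]))
      hK hR

include hs hk in
/-- Ext base change for power torsion modules -/
theorem main (hI : I.FG) (N : Type u) [AddCommGroup N] [Module A N]
    (hM : LocCoh.IsPowerTorsion I M) (i : ℤ) :
    Nonempty ((Dual.inD A M ⟶ (Dual.inD A N)⟦i⟧) ≃+
      (Dual.inD B (B ⊗[A] M) ⟶ (Dual.inD B (B ⊗[A] N))⟦i⟧)) := by
  obtain ⟨F, hF⟩ := hI
  have hgood : GoodMod A B M N :=
    goodMod_all I hs hk hM F hF F (Finset.Subset.refl F) N (fun g hg hgn => absurd hg hgn)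
  have hb := hgood i
  let e₁ : (extD A B).obj (Dual.inD A M) ≅ Dual.inD B (B ⊗[A] M) := extDInDIso M
  let e₂ := extDShiftInDIso A B N i
  let φ : (Dual.inD A M ⟶ (Dual.inD A N)⟦i⟧) →+
      (Dual.inD B (B ⊗[A] M) ⟶ (Dual.inD B (B ⊗[A] N))⟦i⟧) :=
    { toFun := fun g => e₁.inv ≫ (extD A B).map g ≫ e₂.hom
      map_zero' := by simp
      map_add' := fun g g' => by simp [Functor.map_add] }
  refine ⟨AddEquiv.ofBijective φ ⟨?_, ?_⟩⟩
  · intro g g' h
    apply hb.1
    have h' : e₁.inv ≫ (extD A B).map g ≫ e₂.hom = e₁.inv ≫ (extD A B).map g' ≫ e₂.hom := h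
    rw [cancel_epi, cancel_mono] at h'
    exact h'
  · intro a
    obtain ⟨g, hg⟩ := hb.2 (e₁.hom ≫ a ≫ e₂.inv)
    refine ⟨g, ?_⟩
    change e₁.inv ≫ (extD A B).map g ≫ e₂.hom = a
    have hg' : (extD A B).map g = e₁.hom ≫ a ≫ e₂.inv := hg
    rw [hg']
    simp

end main

end Groth.Agent.Lib.Helper21.ExtTorsC
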