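import Mathlib
import Groth.Agent.Lib.Helper18.DRExt2
import Groth.Agent.Lib.Helper21.TriBij
import Groth.Agent.Lib.Helper21.ExtTorsA
import Groth.Agent.Lib.Helper21.ExtTorsB
import Groth.Agent.Lib.Helper21.ExtTorsC

/-!
# Lifting extensions along a flat base change that is an isomorphism modulo `I` (helper21)

If `R → S` is flat, `R/I ≅ S/IS` with `I` finitely generated, and `M` is `I`-power torsion, then
every extension of `S ⊗ M` by `S ⊗ N` is induced from an extension of `M` by `N`.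
-/

set_option autoImplicit false
set_option linter.style.haveILetI false
set_option linter.unusedSectionVars false
universe u
open CategoryTheory CategoryTheory.Limits CategoryTheory.Pretriangulated DerivedCategory
open scoped TensorProduct
open Groth.Agent.Lib.Helper18.DR

attribute [local instance] HasDerivedCategory.standard

namespace Groth.Agent.Lib.Helper21.ExtLift

open ExtTorsA ExtTorsB ExtTorsC

section basic

variable (A : Type u) [CommRing A]

/-- the map induced on degree zero objects by a linear map -/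
noncomputable abbrev sgMap {X Y : Type u} [AddCommGroup X] [Module A X] [AddCommGroup Y]
    [Module A Y] (ψ : X →ₗ[A] Y) : Dual.inD A X ⟶ Dual.inD A Y :=
  (DerivedCategory.singleFunctor (ModuleCat.{u} A) 0).map (ModuleCat.ofHom ψ)

lemma exists_linearMap_of_hom {X Y : Type u} [AddCommGroup X] [Module A X] [AddCommGroup Y]
    [Module A Y] (a : Dual.inD A X ⟶ Dual.inD A Y) : ∃ ψ : X →ₗ[A] Y, a = sgMap A ψ := by
  obtain ⟨f, hf⟩ := (DerivedCategory.singleFunctor (ModuleCat.{u} A) 0).map_surjective a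
  refine ⟨f.hom, ?_⟩
  change a = (DerivedCategory.singleFunctor (ModuleCat.{u} A) 0).map (ModuleCat.ofHom f.hom)
  rw [ModuleCat.ofHom_hom]
  exact hf.symm

/-- the distinguished triangle of a short exact sequence of modules, with explicit maps -/
lemma distTriang_of_ses' {N₁ N₂ N₃ : Type u} [AddCommGroup N₁] [Module A N₁]
    [AddCommGroup N₂] [Module A N₂] [AddCommGroup N₃] [Module A N₃]
    (f : N₁ →ₗ[A] N₂) (g : N₂ →ₗ[A] N₃) (hf : Function.Injective f)
    (hg : Function.Surjective g) (hfg : Function.Exact f g) :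
    ∃ m₃ : Dual.inD A N₃ ⟶ (Dual.inD A N₁)⟦(1 : ℤ)⟧,
      Triangle.mk (sgMap A f) (sgMap A g) m₃ ∈ distTriang (Dual.D A) := by
  let S : ShortComplex (ModuleCat.{u} A) :=
    ModuleCat.shortComplexOfCompEqZero f g hfg.linearMap_comp_eq_zero
  have hS : S.ShortExact := ModuleCat.shortComplex_shortExact S hfg hf hg
  exact ⟨hS.singleδ, hS.singleTriangle_distinguished⟩

/-- no maps from a projective module to the shift by one of a module -/
lemma hom_projective_shift_eq_zero (P N : Type u) [AddCommGroup P] [Module A P]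
    [AddCommGroup N] [Module A N] [Module.Projective A P]
    (c : Dual.inD A P ⟶ (Dual.inD A N)⟦(1 : ℤ)⟧) : c = 0 := by
  haveI : Projective (ModuleCat.of A P) := (IsProjective.iff_projective P).1 inferInstance
  let K₀ : CochainComplex (ModuleCat.{u} A) ℤ :=
    (CochainComplex.singleFunctor (ModuleCat.{u} A) 0).obj (ModuleCat.of A N)
  haveI : (K₀⟦(1 : ℤ)⟧).IsStrictlyLE (-1) :=
    CochainComplex.isStrictlyLE_shift K₀ 0 1 (-1) (by norm_num)
  let e : (Dual.inD A N)⟦(1 : ℤ)⟧ ≅ DerivedCategory.Q.obj (K₀⟦(1 : ℤ)⟧) :=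
    (shiftFunctor (Dual.D A) (1 : ℤ)).mapIso
      ((DerivedCategory.singleFunctorIsoCompQ (ModuleCat.{u} A) 0).app (ModuleCat.of A N)) ≪≫
      ((DerivedCategory.Q.commShiftIso (1 : ℤ)).app K₀).symm
  have h : c ≫ e.hom = 0 :=
    DerivedCategory.from_singleFunctor_obj_eq_zero_of_projective (P := ModuleCat.of A P)
      (L := K₀⟦(1 : ℤ)⟧) (i := 0) (c ≫ e.hom) (-1) (by norm_num)
  rw [← cancel_mono e.hom, h, zero_comp]

end basic

section derived

variable {R S : Type u} [CommRing R] [CommRing S] [Algebra R S] [Module.Flat R S]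

/-- naturality of the base change isomorphism on degree zero objects -/
lemma extDInDIso_naturality {X Y : Type u} [AddCommGroup X] [Module R X] [AddCommGroup Y]
    [Module R Y] (ψ : X →ₗ[R] Y) :
    (extD R S).map (sgMap R ψ) ≫ (extDInDIso (A := R) (B := S) Y).hom =
      (extDInDIso (A := R) (B := S) X).hom ≫ sgMap S (ψ.baseChange S) := by
  have h1 := ((extM (A := R) (B := S)).mapDerivedCategorySingleFunctor 0).hom.naturality
    (ModuleCat.ofHom ψ)
  have h2 : (extM (A := R) (B := S)).map (ModuleCat.ofHom ψ) ≫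
      (extMEquiv (B := S) (ModuleCat.of R Y)).toModuleIso.hom =
      (extMEquiv (B := S) (ModuleCat.of R X)).toModuleIso.hom ≫
        ModuleCat.ofHom (ψ.baseChange S) := by
    apply ModuleCat.hom_ext
    apply LinearMap.ext
    intro z
    have hL0 : ∀ (s : S) (x : X),
        ((extM (A := R) (B := S)).map (ModuleCat.ofHom ψ) ≫
          (extMEquiv (B := S) (ModuleCat.of R Y)).toModuleIso.hom).hom (s ⊗ₜ[R] x) =
        ((extMEquiv (B := S) (ModuleCat.of R X)).toModuleIso.hom ≫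
          ModuleCat.ofHom (ψ.baseChange S)).hom (s ⊗ₜ[R] x) := fun s x => rfl
    revert hL0
    generalize ((extM (A := R) (B := S)).map (ModuleCat.ofHom ψ) ≫
        (extMEquiv (B := S) (ModuleCat.of R Y)).toModuleIso.hom).hom = L₁
    generalize ((extMEquiv (B := S) (ModuleCat.of R X)).toModuleIso.hom ≫
        ModuleCat.ofHom (ψ.baseChange S)).hom = L₂
    intro hL
    refine TensorProduct.induction_on (motive := fun z => L₁ z = L₂ z) z ?_ ?_ ?_
    · exact (map_zero L₁).trans (map_zero L₂).symm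
    · exact hL
    · intro z₁ z₂ h₁ h₂
      exact (map_add L₁ z₁ z₂).trans ((congrArg₂ (· + ·) h₁ h₂).trans
        (map_add L₂ z₁ z₂).symm)
  have h3 : (DerivedCategory.singleFunctor (ModuleCat.{u} S) 0).map
      ((extM (A := R) (B := S)).map (ModuleCat.ofHom ψ)) ≫
      (DerivedCategory.singleFunctor (ModuleCat.{u} S) 0).map
        (extMEquiv (B := S) (ModuleCat.of R Y)).toModuleIso.hom =
      (DerivedCategory.singleFunctor (ModuleCat.{u} S) 0).map
        (extMEquiv (B := S) (ModuleCat.of R X)).toModuleIso.hom ≫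
        sgMap S (ψ.baseChange S) := by
    rw [← Functor.map_comp, h2, Functor.map_comp]
  change (extD R S).map (sgMap R ψ) ≫
    ((extM (A := R) (B := S)).mapDerivedCategorySingleFunctor 0).hom.app (ModuleCat.of R Y) ≫
      (DerivedCategory.singleFunctor (ModuleCat.{u} S) 0).map
        (extMEquiv (B := S) (ModuleCat.of R Y)).toModuleIso.hom =
    (((extM (A := R) (B := S)).mapDerivedCategorySingleFunctor 0).hom.app (ModuleCat.of R X) ≫
      (DerivedCategory.singleFunctor (ModuleCat.{u} S) 0).map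
        (extMEquiv (B := S) (ModuleCat.of R X)).toModuleIso.hom) ≫ sgMap S (ψ.baseChange S)
  rw [Category.assoc, ← h3, ← Category.assoc, ← Category.assoc]
  congr 1

variable {M N : Type u} [AddCommGroup M] [Module R M] [AddCommGroup N] [Module R N]

/-- derived-category form of the decomposition -/
theorem exists_decomp_derived
    (hgood : Function.Surjective
      (fun g : Dual.inD R M ⟶ (Dual.inD R N)⟦(1 : ℤ)⟧ => (extD R S).map g))
    {Ω P : Type u} [AddCommGroup Ω] [Module R Ω] [AddCommGroup P] [Module R P]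
    (ι : Ω →ₗ[R] P) (π : P →ₗ[R] M) (hι : Function.Injective ι) (hπ : Function.Surjective π)
    (hex : Function.Exact ι π)
    (hP : ∀ c : Dual.inD R P ⟶ (Dual.inD R N)⟦(1 : ℤ)⟧, c = 0)
    (a' : (extD R S).obj (Dual.inD R Ω) ⟶ (extD R S).obj (Dual.inD R N)) :
    ∃ (ψ : Ω →ₗ[R] N) (t : (extD R S).obj (Dual.inD R P) ⟶ (extD R S).obj (Dual.inD R N)),
      a' = (extD R S).map (sgMap R ψ) + (extD R S).map (sgMap R ι) ≫ t := by
  obtain ⟨δ, hT⟩ := distTriang_of_ses' R ι π hι hπ hex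
  have hFT : (extD R S).mapTriangle.obj (Triangle.mk (sgMap R ι) (sgMap R π) δ) ∈
      distTriang (Dual.D S) := (extD R S).map_distinguished _ hT
  let κΩ : (extD R S).obj ((Dual.inD R Ω)⟦(1 : ℤ)⟧) ≅ ((extD R S).obj (Dual.inD R Ω))⟦(1 : ℤ)⟧ :=
    ((extD R S).commShiftIso (1 : ℤ)).app (Dual.inD R Ω)
  let κN : (extD R S).obj ((Dual.inD R N)⟦(1 : ℤ)⟧) ≅ ((extD R S).obj (Dual.inD R N))⟦(1 : ℤ)⟧ :=
    ((extD R S).commShiftIso (1 : ℤ)).app (Dual.inD R N)
  obtain ⟨c, hc⟩ := hgood ((extD R S).map δ ≫ κΩ.hom ≫ a'⟦(1 : ℤ)⟧' ≫ κN.inv)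
  have hc' : (extD R S).map c = (extD R S).map δ ≫ κΩ.hom ≫ a'⟦(1 : ℤ)⟧' ≫ κN.inv := hc
  obtain ⟨d, hd'⟩ : ∃ d : (Dual.inD R Ω)⟦(1 : ℤ)⟧ ⟶ (Dual.inD R N)⟦(1 : ℤ)⟧, c = δ ≫ d :=
    Triangle.yoneda_exact₃ (Triangle.mk (sgMap R ι) (sgMap R π) δ) hT c (hP _)
  obtain ⟨b, hb⟩ : ∃ b : Dual.inD R Ω ⟶ Dual.inD R N, b⟦(1 : ℤ)⟧' = d :=
    (shiftFunctor (Dual.D R) (1 : ℤ)).map_surjective d
  obtain ⟨ψ, hψ⟩ := exists_linearMap_of_hom R b
  have hnat : (extD R S).map (b⟦(1 : ℤ)⟧') ≫ κN.hom = κΩ.hom ≫ ((extD R S).map b)⟦(1 : ℤ)⟧' :=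
    ((extD R S).commShiftIso (1 : ℤ)).hom.naturality b
  have e1 : ((extD R S).map δ ≫ κΩ.hom) ≫ ((extD R S).map b)⟦(1 : ℤ)⟧' =
      (extD R S).map c ≫ κN.hom := by
    rw [hd', Functor.map_comp, ← hb, Category.assoc, Category.assoc, hnat]
  have e2 : (extD R S).map c ≫ κN.hom = ((extD R S).map δ ≫ κΩ.hom) ≫ a'⟦(1 : ℤ)⟧' := by
    rw [hc']
    simp only [Category.assoc, Iso.inv_hom_id, Category.comp_id]
  have h1 : ((extD R S).mapTriangle.obj (Triangle.mk (sgMap R ι) (sgMap R π) δ)).rotate.mor₂ ≫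
      (((extD R S).map b - a')⟦(1 : ℤ)⟧') = 0 := by
    change ((extD R S).map δ ≫ κΩ.hom) ≫ (((extD R S).map b - a')⟦(1 : ℤ)⟧') = 0
    rw [Functor.map_sub, Preadditive.comp_sub, e1, e2, sub_self]
  obtain ⟨g, hg'⟩ : ∃ g : ((extD R S).obj (Dual.inD R P))⟦(1 : ℤ)⟧ ⟶
      ((extD R S).obj (Dual.inD R N))⟦(1 : ℤ)⟧, ((extD R S).map b - a')⟦(1 : ℤ)⟧' =
      (-(((extD R S).map (sgMap R ι))⟦(1 : ℤ)⟧')) ≫ g :=
    Triangle.yoneda_exact₃ _ (rot_of_distTriang _ hFT)
      (((extD R S).map b - a')⟦(1 : ℤ)⟧') h1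
  obtain ⟨t, ht⟩ : ∃ t : (extD R S).obj (Dual.inD R P) ⟶ (extD R S).obj (Dual.inD R N),
      t⟦(1 : ℤ)⟧' = g := (shiftFunctor (Dual.D S) (1 : ℤ)).map_surjective g
  have h2 : (extD R S).map b - a' = (-((extD R S).map (sgMap R ι))) ≫ t := by
    apply (shiftFunctor (Dual.D S) (1 : ℤ)).map_injective
    rw [hg', ← ht, Functor.map_comp, Functor.map_neg]
  refine ⟨ψ, t, ?_⟩
  rw [← hψ]
  rw [Preadditive.neg_comp, sub_eq_iff_eq_add] at h2
  rw [h2]
  abel

/-- module-level form of the decomposition -/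
theorem exists_decomp
    (hgood : Function.Surjective
      (fun g : Dual.inD R M ⟶ (Dual.inD R N)⟦(1 : ℤ)⟧ => (extD R S).map g))
    {Ω P : Type u} [AddCommGroup Ω] [Module R Ω] [AddCommGroup P] [Module R P]
    [Module.Projective R P]
    (ι : Ω →ₗ[R] P) (π : P →ₗ[R] M) (hι : Function.Injective ι) (hπ : Function.Surjective π)
    (hex : Function.Exact ι π) (ν : Ω →ₗ[R] S ⊗[R] N) :
    ∃ (ψ : Ω →ₗ[R] N) (θ₀ : P →ₗ[R] S ⊗[R] N),
      ∀ ω, ν ω = (1 : S) ⊗ₜ[R] ψ ω + θ₀ (ι ω) := by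
  let ψ' : S ⊗[R] Ω →ₗ[S] S ⊗[R] N := ν.liftBaseChange S
  let eΩ := extDInDIso (A := R) (B := S) Ω
  let eP := extDInDIso (A := R) (B := S) P
  let eN := extDInDIso (A := R) (B := S) N
  obtain ⟨ψ, t, hψt⟩ := exists_decomp_derived hgood ι π hι hπ hex
    (fun c => hom_projective_shift_eq_zero R P N c) (eΩ.hom ≫ sgMap S ψ' ≫ eN.inv)
  have h3ψ : (extD R S).map (sgMap R ψ) ≫ eN.hom = eΩ.hom ≫ sgMap S (ψ.baseChange S) :=
    extDInDIso_naturality ψ
  have h3ι : (extD R S).map (sgMap R ι) ≫ eP.hom = eΩ.hom ≫ sgMap S (ι.baseChange S) :=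
    extDInDIso_naturality ι
  obtain ⟨θ', hθ'⟩ := exists_linearMap_of_hom S (eP.inv ≫ t ≫ eN.hom)
  have key : sgMap S ψ' = (DerivedCategory.singleFunctor (ModuleCat.{u} S) 0).map
      (ModuleCat.ofHom (ψ.baseChange S) +
        ModuleCat.ofHom (ι.baseChange S) ≫ ModuleCat.ofHom θ') := by
    rw [Functor.map_add, Functor.map_comp]
    change sgMap S ψ' = sgMap S (ψ.baseChange S) + sgMap S (ι.baseChange S) ≫ sgMap S θ'
    rw [← hθ']
    have e0 : sgMap S ψ' = eΩ.inv ≫ (eΩ.hom ≫ sgMap S ψ' ≫ eN.inv) ≫ eN.hom := by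
      simp only [Category.assoc, Iso.inv_hom_id, Category.comp_id, Iso.inv_hom_id_assoc]
    rw [e0, hψt, Preadditive.add_comp, Preadditive.comp_add]
    congr 1
    · rw [h3ψ, Iso.inv_hom_id_assoc]
    · have e3 : (extD R S).map (sgMap R ι) = eΩ.hom ≫ sgMap S (ι.baseChange S) ≫ eP.inv := by
        rw [← Category.assoc, ← h3ι, Category.assoc, Iso.hom_inv_id, Category.comp_id]
      rw [e3]
      simp only [Category.assoc, Iso.inv_hom_id_assoc]
  have key2 := (DerivedCategory.singleFunctor (ModuleCat.{u} S) 0).map_injective key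
  have hfinal : ∀ z, ψ' z = (ψ.baseChange S) z + θ' ((ι.baseChange S) z) := by
    intro z
    have := congrArg (fun f => f.hom z) key2
    simpa using this
  refine ⟨ψ, (θ'.restrictScalars R) ∘ₗ (TensorProduct.mk R S P 1), fun ω => ?_⟩
  have h := hfinal ((1 : S) ⊗ₜ[R] ω)
  simpa [ψ'] using h

end derived

section pushout

variable {R S : Type u} [CommRing R] [CommRing S] [Algebra R S]
  {N M : Type u} [AddCommGroup N] [Module R N] [AddCommGroup M] [Module R M]
  {E' : Type u} [AddCommGroup E'] [Module S E'] [Module R E'] [IsScalarTower R S E']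

/-- module-level lifting criterion -/
theorem exists_extension_of_decomp
    (i' : S ⊗[R] N →ₗ[S] E') (p' : E' →ₗ[S] S ⊗[R] M)
    (hi' : Function.Injective i') (hp' : Function.Surjective p')
    (hex' : LinearMap.range i' = LinearMap.ker p')
    (hB : ∀ ν : LinearMap.ker (Finsupp.linearCombination R (id : M → M)) →ₗ[R] S ⊗[R] N,
      ∃ (ψ : LinearMap.ker (Finsupp.linearCombination R (id : M → M)) →ₗ[R] N)
        (θ₀ : (M →₀ R) →ₗ[R] S ⊗[R] N), ∀ ω, ν ω = (1 : S) ⊗ₜ[R] ψ ω + θ₀ ω.1) :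
    ∃ (E : Type u) (_ : AddCommGroup E) (_ : Module R E) (i : N →ₗ[R] E) (p : E →ₗ[R] M)
      (g : E →ₗ[R] E'),
      Function.Injective i ∧ Function.Surjective p ∧ LinearMap.range i = LinearMap.ker p ∧
      (∀ n : N, g (i n) = i' ((1 : S) ⊗ₜ[R] n)) ∧ (∀ e : E, p' (g e) = (1 : S) ⊗ₜ[R] p e) := by
  classical
  set π : (M →₀ R) →ₗ[R] M := Finsupp.linearCombination R (id : M → M) with hπ
  have hπs : Function.Surjective π := fun m => ⟨Finsupp.single m 1, by simp [hπ]⟩
  choose e' he' using fun m : M => hp' ((1 : S) ⊗ₜ[R] m)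
  let l₀ : (M →₀ R) →ₗ[R] E' := Finsupp.linearCombination R e'
  have hl₀ : ∀ x, p' (l₀ x) = (1 : S) ⊗ₜ[R] π x := by
    intro x
    induction x using Finsupp.induction_linear with
    | zero => simp
    | add x y hx hy => rw [map_add, map_add, hx, hy, map_add, TensorProduct.tmul_add]
    | single m r =>
      have e1 : l₀ (Finsupp.single m r) = r • e' m := by simp [l₀]
      have e2 : π (Finsupp.single m r) = r • m := by simp [hπ]
      rw [e1, e2, LinearMap.map_smul_of_tower, he', TensorProduct.tmul_smul]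
  have hp'i' : ∀ z, p' (i' z) = 0 := fun z => by
    have : i' z ∈ LinearMap.ker p' := by rw [← hex']; exact ⟨z, rfl⟩
    exact this
  have hmem : ∀ ω : LinearMap.ker π, ∃ z : S ⊗[R] N, i' z = l₀ ω.1 := by
    intro ω
    have h1 : p' (l₀ ω.1) = 0 := by rw [hl₀, LinearMap.mem_ker.1 ω.2, TensorProduct.tmul_zero]
    have h2 : l₀ ω.1 ∈ LinearMap.ker p' := h1
    rw [← hex'] at h2
    exact h2
  choose ν₀ hν₀ using hmem
  let ν : LinearMap.ker π →ₗ[R] S ⊗[R] N :=
    { toFun := ν₀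
      map_add' := fun a b => hi' (by
        rw [map_add, hν₀, hν₀, hν₀, Submodule.coe_add, map_add])
      map_smul' := fun r a => hi' (by
        rw [RingHom.id_apply, LinearMap.map_smul_of_tower, hν₀, hν₀, Submodule.coe_smul,
          map_smul]) }
  obtain ⟨ψ, θ₀, hψθ⟩ := hB ν
  let l₁ : (M →₀ R) →ₗ[R] E' := l₀ - (i'.restrictScalars R) ∘ₗ θ₀
  have hl₁ : ∀ x, p' (l₁ x) = (1 : S) ⊗ₜ[R] π x := by
    intro x
    simp only [l₁, LinearMap.sub_apply, LinearMap.comp_apply, LinearMap.restrictScalars_apply,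
      map_sub, hp'i', sub_zero, hl₀]
  have hl₁Ω : ∀ ω : LinearMap.ker π, l₁ ω.1 = i' ((1 : S) ⊗ₜ[R] ψ ω) := by
    intro ω
    simp only [l₁, LinearMap.sub_apply, LinearMap.comp_apply, LinearMap.restrictScalars_apply]
    rw [← hν₀ ω]
    have h : ν₀ ω = (1 : S) ⊗ₜ[R] ψ ω + θ₀ ω.1 := hψθ ω
    rw [h, map_add]
    abel
  let κ : LinearMap.ker π →ₗ[R] N × (M →₀ R) := LinearMap.prod (-ψ) (LinearMap.ker π).subtype
  let K : Submodule R (N × (M →₀ R)) := LinearMap.range κ
  let uN : N →ₗ[R] S ⊗[R] N := TensorProduct.mk R S N 1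
  let G₀ : N × (M →₀ R) →ₗ[R] E' := ((i'.restrictScalars R) ∘ₗ uN).coprod l₁
  let P₀ : N × (M →₀ R) →ₗ[R] M := π ∘ₗ LinearMap.snd R N (M →₀ R)
  have hG₀ : K ≤ LinearMap.ker G₀ := by
    rintro _ ⟨ω, rfl⟩
    rw [LinearMap.mem_ker]
    change i' ((1 : S) ⊗ₜ[R] (-ψ ω)) + l₁ ω.1 = 0
    rw [hl₁Ω ω, TensorProduct.tmul_neg, map_neg, neg_add_cancel]
  have hP₀ : K ≤ LinearMap.ker P₀ := by
    rintro _ ⟨ω, rfl⟩
    rw [LinearMap.mem_ker]
    exact LinearMap.mem_ker.1 ω.2
  refine ⟨(N × (M →₀ R)) ⧸ K, inferInstance, inferInstance,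
    K.mkQ ∘ₗ LinearMap.inl R N (M →₀ R), K.liftQ P₀ hP₀, K.liftQ G₀ hG₀, ?_, ?_, ?_, ?_, ?_⟩
  · rw [← LinearMap.ker_eq_bot, LinearMap.ker_eq_bot']
    intro n hn
    have h1 : ((n, 0) : N × (M →₀ R)) ∈ K := by
      have : K.mkQ (n, 0) = 0 := hn
      exact (Submodule.Quotient.mk_eq_zero K).1 this
    obtain ⟨ω, hω⟩ := h1
    have h2 : (ω : M →₀ R) = 0 := congrArg Prod.snd hω
    have h3 : ω = 0 := Subtype.ext h2
    have h4 : -ψ ω = n := congrArg Prod.fst hω
    rw [← h4, h3, map_zero, neg_zero]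
  · intro m
    obtain ⟨x, hx⟩ := hπs m
    refine ⟨K.mkQ (0, x), ?_⟩
    rw [Submodule.mkQ_apply, Submodule.liftQ_apply]
    exact hx
  · apply le_antisymm
    · rintro _ ⟨n, rfl⟩
      rw [LinearMap.mem_ker]
      change K.liftQ P₀ hP₀ (K.mkQ (n, 0)) = 0
      rw [Submodule.mkQ_apply, Submodule.liftQ_apply]
      exact map_zero π
    · intro e he
      obtain ⟨⟨n, x⟩, rfl⟩ := K.mkQ_surjective e
      rw [LinearMap.mem_ker, Submodule.mkQ_apply, Submodule.liftQ_apply] at he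
      have hx : x ∈ LinearMap.ker π := he
      refine ⟨n + ψ ⟨x, hx⟩, ?_⟩
      change K.mkQ (n + ψ ⟨x, hx⟩, 0) = K.mkQ (n, x)
      rw [Submodule.mkQ_apply, Submodule.mkQ_apply, eq_comm, Submodule.Quotient.eq]
      refine ⟨⟨x, hx⟩, ?_⟩
      change ((-ψ ⟨x, hx⟩, x) : N × (M →₀ R)) = (n, x) - (n + ψ ⟨x, hx⟩, 0)
      ext
      · simp
      · simp
  · intro n
    change K.liftQ G₀ hG₀ (K.mkQ (n, 0)) = _
    rw [Submodule.mkQ_apply, Submodule.liftQ_apply]
    change i' ((1 : S) ⊗ₜ[R] n) + l₁ 0 = _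
    rw [map_zero, add_zero]
  · intro e
    obtain ⟨⟨n, x⟩, rfl⟩ := K.mkQ_surjective e
    rw [Submodule.mkQ_apply, Submodule.liftQ_apply, Submodule.liftQ_apply]
    change p' (i' ((1 : S) ⊗ₜ[R] n) + l₁ x) = (1 : S) ⊗ₜ[R] π x
    rw [map_add, hp'i', zero_add, hl₁]

end pushout

section final

variable {R S : Type u} [CommRing R] [CommRing S] [Algebra R S] [Module.Flat R S] (I : Ideal R)

lemma surjective_of_quotientMap
    (hq : Function.Bijective (Ideal.quotientMap (I.map (algebraMap R S)) (algebraMap R S)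
      Ideal.le_comap_map)) :
    Function.Surjective ((Ideal.Quotient.mk (I.map (algebraMap R S))).comp (algebraMap R S)) := by
  intro y
  obtain ⟨x, hx⟩ := hq.2 y
  obtain ⟨a, rfl⟩ := Ideal.Quotient.mk_surjective x
  exact ⟨a, by rw [RingHom.comp_apply, ← hx, Ideal.quotientMap_mk]⟩

lemma ker_of_quotientMap
    (hq : Function.Bijective (Ideal.quotientMap (I.map (algebraMap R S)) (algebraMap R S)
      Ideal.le_comap_map)) :
    RingHom.ker ((Ideal.Quotient.mk (I.map (algebraMap R S))).comp (algebraMap R S)) = I := by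
  ext a
  rw [RingHom.mem_ker, RingHom.comp_apply]
  constructor
  · intro h
    have h1 : Ideal.quotientMap (I.map (algebraMap R S)) (algebraMap R S) Ideal.le_comap_map
        (Ideal.Quotient.mk I a) = 0 := by
      rw [Ideal.quotientMap_mk]
      exact h
    have h2 := hq.1 (h1.trans (map_zero _).symm)
    exact Ideal.Quotient.eq_zero_iff_mem.1 h2
  · intro h
    rw [Ideal.Quotient.eq_zero_iff_mem]
    exact Ideal.mem_map_of_mem _ h

/-- extensions of `S ⊗ M` by `S ⊗ N` come from extensions of `M` by `N` -/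
theorem main (hI : I.FG)
    (hq : Function.Bijective (Ideal.quotientMap (I.map (algebraMap R S)) (algebraMap R S)
      Ideal.le_comap_map))
    (N M : Type u) [AddCommGroup N] [Module R N] [AddCommGroup M] [Module R M]
    (hM : ∀ m : M, ∃ n : ℕ, ∀ a ∈ I ^ n, a • m = 0)
    (E' : Type u) [AddCommGroup E'] [Module S E'] [Module R E'] [IsScalarTower R S E']
    (i' : S ⊗[R] N →ₗ[S] E') (p' : E' →ₗ[S] S ⊗[R] M)
    (hi' : Function.Injective i') (hp' : Function.Surjective p')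
    (hex' : LinearMap.range i' = LinearMap.ker p') :
    ∃ (E : Type u) (_ : AddCommGroup E) (_ : Module R E) (i : N →ₗ[R] E) (p : E →ₗ[R] M)
      (g : E →ₗ[R] E'),
      Function.Injective i ∧ Function.Surjective p ∧ LinearMap.range i = LinearMap.ker p ∧
      (∀ n : N, g (i n) = i' ((1 : S) ⊗ₜ[R] n)) ∧ (∀ e : E, p' (g e) = (1 : S) ⊗ₜ[R] p e) := by
  have hs := surjective_of_quotientMap I hq
  have hk := ker_of_quotientMap I hq
  obtain ⟨F, hF⟩ := hI
  have hgood : GoodMod R S M N :=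
    goodMod_all I hs hk hM F hF F (Finset.Subset.refl F) N (fun g hg hgn => absurd hg hgn)
  refine exists_extension_of_decomp i' p' hi' hp' hex' (fun ν => ?_)
  have hπs : Function.Surjective (Finsupp.linearCombination R (id : M → M)) :=
    fun m => ⟨Finsupp.single m 1, by simp⟩
  exact exists_decomp (Ω := LinearMap.ker (Finsupp.linearCombination R (id : M → M)))
    (P := M →₀ R) (hgood 1).2
    (LinearMap.ker (Finsupp.linearCombination R (id : M → M))).subtype
    (Finsupp.linearCombination R (id : M → M)) (Submodule.injective_subtype _) hπs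
    (LinearMap.exact_subtype_ker_map _) ν

end final

end Groth.Agent.Lib.Helper21.ExtLift
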