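import Mathlib

/-!
# Naturality of `Ext.mapExactFunctor` in the functor

By induction on the degree, using enough injectives in the source category.
-/

namespace Groth.Agent.Lib.Helper21.ExtNat

open CategoryTheory Limits Abelian

universe w w' v v' u u'

variable {C : Type u} [Category.{v} C] [Abelian C] [HasExt.{w} C]
  {D : Type u'} [Category.{v'} D] [Abelian D] [HasExt.{w'} D]
  (F G : C ⥤ D) [F.Additive] [PreservesFiniteLimits F] [PreservesFiniteColimits F]
  [G.Additive] [PreservesFiniteLimits G] [PreservesFiniteColimits G] (τ : F ⟶ G)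

omit [Abelian C] [HasExt C] [F.Additive] [PreservesFiniteLimits F] [PreservesFiniteColimits F]
  [G.Additive] [PreservesFiniteLimits G] [PreservesFiniteColimits G] in
/-- Pure `Ext`-calculus step. -/
theorem step_aux {X₀ X₁ X₃ : C} {n : ℕ}
    (yF : Ext.{w'} (F.obj X₀) (F.obj X₃) n) (yG : Ext.{w'} (G.obj X₀) (G.obj X₃) n)
    (eF : Ext.{w'} (F.obj X₃) (F.obj X₁) 1) (eG : Ext.{w'} (G.obj X₃) (G.obj X₁) 1)
    (nat : eF.comp (Ext.mk₀ (τ.app X₁)) (add_zero 1) = (Ext.mk₀ (τ.app X₃)).comp eG (zero_add 1))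
    (ih : yF.comp (Ext.mk₀ (τ.app X₃)) (add_zero n) = (Ext.mk₀ (τ.app X₀)).comp yG (zero_add n)) :
    (yF.comp eF rfl).comp (Ext.mk₀ (τ.app X₁)) (add_zero (n + 1)) =
      (Ext.mk₀ (τ.app X₀)).comp (yG.comp eG rfl) (zero_add (n + 1)) := by
  rw [Ext.comp_assoc_of_third_deg_zero, nat, ← Ext.comp_assoc_of_second_deg_zero, ih,
    Ext.comp_assoc (h := by omega)]

variable [EnoughInjectives C]

/-- Abstract form: `ψ` is a family of maps on `Ext` compatible with `mk₀`, composition and
extension classes of short exact sequences (as `mapExactFunctor G` is). -/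
theorem nat_of_compat
    (ψ : ∀ {X Y : C} {n : ℕ}, Ext.{w} X Y n → Ext.{w'} (G.obj X) (G.obj Y) n)
    (h0 : ∀ {X Y : C} (f : X ⟶ Y), ψ (Ext.mk₀ f) = Ext.mk₀ (G.map f))
    (hc : ∀ {X Y Z : C} {a b c : ℕ} (α : Ext X Y a) (β : Ext Y Z b) (h : a + b = c),
      ψ (α.comp β h) = (ψ α).comp (ψ β) h)
    (he : ∀ {S : ShortComplex C} (hS : S.ShortExact),
      ψ hS.extClass = (hS.map_of_exact G).extClass)
    (n : ℕ) : ∀ {X Y : C} (x : Ext.{w} X Y n),
      (x.mapExactFunctor F).comp (Ext.mk₀ (τ.app Y)) (add_zero n) =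
        (Ext.mk₀ (τ.app X)).comp (ψ x) (zero_add n) := by
  induction n with
  | zero =>
    intro X Y x
    obtain ⟨f, rfl⟩ := (Ext.mk₀_bijective X Y).2 x
    rw [Ext.mapExactFunctor_mk₀, h0, Ext.mk₀_comp_mk₀, Ext.mk₀_comp_mk₀, τ.naturality]
  | succ n ih =>
    intro X Y x
    have hS : (ShortComplex.mk (Injective.ι Y) (cokernel.π (Injective.ι Y))
        (cokernel.condition _)).ShortExact :=
      { exact := ShortComplex.exact_cokernel (Injective.ι Y)
        mono_f := by dsimp; infer_instance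
        epi_g := by dsimp; infer_instance }
    obtain ⟨y, rfl⟩ := Ext.covariant_sequence_exact₁ X hS x (Ext.eq_zero_of_injective _) rfl
    have nat := ShortComplex.ShortExact.extClass_naturality (hS.map_of_exact F)
      (hS.map_of_exact G) (ShortComplex.mapNatTrans _ τ)
    have e1 : (y.comp hS.extClass rfl).mapExactFunctor F =
        (y.mapExactFunctor F).comp ((hS.map_of_exact F).extClass) rfl := by
      rw [Ext.mapExactFunctor_comp, Ext.mapExactFunctor_extClass]
      rfl
    have e2 : ψ (y.comp hS.extClass rfl) = (ψ y).comp ((hS.map_of_exact G).extClass) rfl := by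
      rw [hc, he]
      rfl
    rw [e1, e2]
    exact step_aux F G τ _ _ _ _ nat (ih y)

/-- Naturality of `mapExactFunctor` in the functor. -/
theorem mapExactFunctor_naturality {X Y : C} {n : ℕ} (x : Ext.{w} X Y n) :
    (x.mapExactFunctor F).comp (Ext.mk₀ (τ.app Y)) (add_zero n) =
      (Ext.mk₀ (τ.app X)).comp (x.mapExactFunctor G) (zero_add n) :=
  nat_of_compat F G τ (fun x => x.mapExactFunctor G) (fun f => Ext.mapExactFunctor_mk₀ G f)
    (fun α β h => Ext.mapExactFunctor_comp G α β h)
    (fun hS => Ext.mapExactFunctor_extClass G hS) n x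

/-- `mapExactFunctor` of the identity functor is the identity. -/
theorem mapExactFunctor_id {X Y : C} {n : ℕ} (x : Ext.{w} X Y n) :
    x.mapExactFunctor (𝟭 C) = x := by
  have h := nat_of_compat (𝟭 C) (𝟭 C) (𝟙 _) (fun x => x) (fun f => rfl)
    (fun α β h => rfl) (fun hS => rfl) n x
  simpa using h

section Comp

variable {E : Type*} [Category* E] [Abelian E] [HasExt.{w'} E]
  (H : D ⥤ E) [H.Additive] [PreservesFiniteLimits H] [PreservesFiniteColimits H]

/-- `mapExactFunctor` of a composite. -/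
theorem mapExactFunctor_comp_functor {X Y : C} {n : ℕ} (x : Ext.{w} X Y n) :
    x.mapExactFunctor (F ⋙ H) = (x.mapExactFunctor F).mapExactFunctor H := by
  have h := nat_of_compat (F ⋙ H) (F ⋙ H) (𝟙 _)
    (fun x => (x.mapExactFunctor F).mapExactFunctor H)
    (fun f => by
      rw [Ext.mapExactFunctor_mk₀, Ext.mapExactFunctor_mk₀]
      rfl)
    (fun α β h => by
      rw [Ext.mapExactFunctor_comp, Ext.mapExactFunctor_comp])
    (fun hS => by
      rw [Ext.mapExactFunctor_extClass]
      exact Ext.mapExactFunctor_extClass H (hS.map_of_exact F)) n x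
  simpa using h

end Comp

end Groth.Agent.Lib.Helper21.ExtNat
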