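import Mathlib

/-!
# `Ext¹(X, ∏ F_i) → ∏ Ext¹(X, F_i)` is injective
-/

set_option autoImplicit false
universe w v u t
open CategoryTheory CategoryTheory.Limits CategoryTheory.Abelian

namespace Groth.Agent.Lib.Helper21.ExtProd

variable {A : Type u} [Category.{v} A] [Abelian A] [HasExt.{w} A] [EnoughInjectives A]
  {ι : Type t} [HasLimitsOfShape (Discrete ι) A] (F : ι → A)

/-- the chosen injective hull -/
noncomputable abbrev I (i : ι) : A := Injective.under (F i)

/-- the embedding -/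
noncomputable abbrev a (i : ι) : F i ⟶ I F i := Injective.ι (F i)

/-- the quotient -/
noncomputable abbrev Qi (i : ι) : A := cokernel (a F i)

/-- the projection -/
noncomputable abbrev p (i : ι) : I F i ⟶ Qi F i := cokernel.π (a F i)

/-- the short complexes `F_i → I_i → Q_i` -/
noncomputable abbrev Si (i : ι) : ShortComplex A :=
  ShortComplex.mk (a F i) (p F i) (cokernel.condition _)

lemma hSi (i : ι) : (Si F i).ShortExact where
  exact := ShortComplex.exact_cokernel _
  mono_f := inferInstanceAs (Mono (Injective.ι (F i)))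
  epi_g := inferInstanceAs (Epi (cokernel.π _))

/-- the product of the embeddings -/
noncomputable abbrev aP : ∏ᶜ F ⟶ ∏ᶜ (I F) := Limits.Pi.map (a F)

lemma aP_map_p : aP F ≫ Limits.Pi.map (p F) = 0 := by
  apply Limits.Pi.hom_ext
  intro i
  simp only [Category.assoc, Limits.Pi.map_π, Limits.Pi.map_π_assoc, cokernel.condition, comp_zero, zero_comp]

/-- the quotient of the product embedding -/
noncomputable abbrev Q : A := cokernel (aP F)

/-- the comparison to the product of the quotients -/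
noncomputable abbrev m : Q F ⟶ ∏ᶜ (Qi F) := cokernel.desc (aP F) (Limits.Pi.map (p F)) (aP_map_p F)

instance mono_m : Mono (m F) := by
  apply Preadditive.mono_of_cancel_zero
  intro T g hg
  obtain ⟨T', π, hπ, g', hg'⟩ := surjective_up_to_refinements_of_epi (cokernel.π (aP F)) g
  have h1 : g' ≫ Limits.Pi.map (p F) = 0 := by
    have : g' ≫ cokernel.π (aP F) ≫ m F = 0 := by
      rw [← Category.assoc, ← hg', Category.assoc, hg, comp_zero]
    rwa [cokernel.π_desc] at this
  have h2 : ∀ i, (g' ≫ Limits.Pi.π (I F) i) ≫ (Si F i).g = 0 := by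
    intro i
    have := congr_arg (fun k => k ≫ Limits.Pi.π (Qi F) i) h1
    simpa only [Category.assoc, Limits.Pi.map_π, zero_comp] using this
  haveI : ∀ i, Mono (Si F i).f := fun i => (hSi F i).mono_f
  let l : T' ⟶ ∏ᶜ F := Limits.Pi.lift (fun i => (hSi F i).exact.lift (g' ≫ Limits.Pi.π (I F) i) (h2 i))
  have h3 : l ≫ aP F = g' := by
    apply Limits.Pi.hom_ext
    intro i
    simp only [l, Category.assoc, Limits.Pi.map_π, Limits.Pi.lift_π_assoc]
    exact (hSi F i).exact.lift_f _ _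
  have h4 : π ≫ g = 0 := by
    rw [hg', ← h3, Category.assoc, cokernel.condition, comp_zero]
  exact (cancel_epi π).1 (h4.trans comp_zero.symm)

/-- the short complex `∏F → ∏I → Q` -/
noncomputable abbrev S : ShortComplex A :=
  ShortComplex.mk (aP F) (cokernel.π (aP F)) (cokernel.condition _)

lemma hS : (S F).ShortExact where
  exact := ShortComplex.exact_cokernel _
  mono_f := inferInstanceAs (Mono (Limits.Pi.map (a F)))
  epi_g := inferInstanceAs (Epi (cokernel.π _))

/-- the projection of short complexes -/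
noncomputable def φ (i : ι) : S F ⟶ Si F i where
  τ₁ := Limits.Pi.π F i
  τ₂ := Limits.Pi.π (I F) i
  τ₃ := m F ≫ Limits.Pi.π (Qi F) i
  comm₁₂ := by
    change Limits.Pi.π F i ≫ a F i = aP F ≫ Limits.Pi.π (I F) i
    rw [Limits.Pi.map_π]
  comm₂₃ := by
    change Limits.Pi.π (I F) i ≫ p F i = cokernel.π (aP F) ≫ m F ≫ Limits.Pi.π (Qi F) i
    rw [cokernel.π_desc_assoc, Limits.Pi.map_π]

theorem ext_one_pi_injective (X : A) (x : Ext.{w} X (∏ᶜ F) 1)
    (hx : ∀ i, x.comp (Ext.mk₀ (Limits.Pi.π F i)) (add_zero 1) = 0) : x = 0 := by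
  have h1 : x.comp (Ext.mk₀ (S F).f) (add_zero 1) = 0 := by
    haveI : Injective (S F).X₂ := inferInstanceAs (Injective (∏ᶜ (I F)))
    exact Ext.eq_zero_of_injective _
  obtain ⟨x₃, hx₃⟩ := Ext.covariant_sequence_exact₁ X (hS F) x h1 (n₀ := 0) rfl
  obtain ⟨q, rfl⟩ := (Ext.mk₀_bijective _ _).2 x₃
  have key : ∀ i, ∃ y : X ⟶ I F i, y ≫ p F i = q ≫ m F ≫ Limits.Pi.π (Qi F) i := by
    intro i
    have e : (hS F).extClass.comp (Ext.mk₀ (Limits.Pi.π F i)) (add_zero 1) =
        (Ext.mk₀ (m F ≫ Limits.Pi.π (Qi F) i)).comp (hSi F i).extClass (zero_add 1) :=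
      ShortComplex.ShortExact.extClass_naturality (hS F) (hSi F i) (φ F i)
    have h2 : (Ext.mk₀ (q ≫ m F ≫ Limits.Pi.π (Qi F) i)).comp (hSi F i).extClass (zero_add 1) = 0 := by
      have h3 := hx i
      rw [← hx₃, Ext.comp_assoc_of_third_deg_zero, e] at h3
      rw [← Ext.mk₀_comp_mk₀_assoc]
      exact h3
    obtain ⟨y, hy⟩ := Ext.covariant_sequence_exact₃ X (hSi F i) _ rfl h2
    obtain ⟨y', rfl⟩ := (Ext.mk₀_bijective _ _).2 y
    rw [Ext.mk₀_comp_mk₀] at hy
    exact ⟨y', (Ext.mk₀_bijective _ _).1 hy⟩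
  choose y hy using key
  have h4 : Limits.Pi.lift y ≫ cokernel.π (aP F) = q := by
    rw [← cancel_mono (m F)]
    apply Limits.Pi.hom_ext
    intro i
    rw [Category.assoc, Category.assoc, cokernel.π_desc_assoc, Limits.Pi.map_π, Limits.Pi.lift_π_assoc, hy i,
      Category.assoc]
  rw [← hx₃, ← h4, ← Ext.mk₀_comp_mk₀, Ext.comp_assoc_of_second_deg_zero]
  have h5 := (hS F).comp_extClass
  rw [h5, Ext.comp_zero]

theorem injective_pi (X : A) :
    Function.Injective (fun (x : Ext.{w} X (∏ᶜ F) 1) (i : ι) =>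
      x.comp (Ext.mk₀ (Limits.Pi.π F i)) (add_zero 1)) := by
  intro x y hxy
  rw [← sub_eq_zero]
  apply ext_one_pi_injective F X (x - y)
  intro i
  have h : x.comp (Ext.mk₀ (Limits.Pi.π F i)) (add_zero 1) =
      y.comp (Ext.mk₀ (Limits.Pi.π F i)) (add_zero 1) := congr_fun hxy i
  have h'' : ((Ext.mk₀ (Limits.Pi.π F i)).postcomp X (add_zero 1)) (x - y) = 0 := by
    rw [map_sub, sub_eq_zero]
    exact h
  exact h''

end Groth.Agent.Lib.Helper21.ExtProd
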