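import Mathlib
import Groth.Agent.Lib.Helper21.FSmoothField

set_option autoImplicit false

namespace Groth.Agent.Lib.Helper21.FSmoothField

universe u

theorem isAdicComplete_pow {R M : Type*} [CommRing R] [AddCommGroup M] [Module R M] (I : Ideal R)
    [IsAdicComplete I M] (k : ℕ) (hk : 0 < k) : IsAdicComplete (I ^ k) M := by
  have hle : ∀ n, ((I ^ k) ^ n • ⊤ : Submodule R M) ≤ I ^ n • ⊤ := by
    intro n
    apply Submodule.smul_mono_left
    rw [← pow_mul]
    exact Ideal.pow_le_pow_right (Nat.le_mul_of_pos_left n hk)
  refine { haus' := ?_, prec' := ?_ }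
  · intro x hx
    exact IsHausdorff.haus' (I := I) x fun n => (hx n).mono (hle n)
  · intro f hf
    obtain ⟨L, hL⟩ := IsPrecomplete.prec' (I := I) f (fun {m n} hmn => (hf hmn).mono (hle m))
    refine ⟨L, fun n => ?_⟩
    have h1 : f n ≡ f (k * n) [SMOD ((I ^ k) ^ n • ⊤ : Submodule R M)] :=
      hf (Nat.le_mul_of_pos_left n hk)
    have h2 : f (k * n) ≡ L [SMOD ((I ^ k) ^ n • ⊤ : Submodule R M)] := by
      have := hL (k * n)
      rwa [pow_mul] at this
    exact h1.trans h2

end Groth.Agent.Lib.Helper21.FSmoothField

namespace Groth.Agent.Lib.Helper21.FSmoothField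

open IsLocalRing

section Unique

variable {C : Type*} [CommRing C] [IsLocalRing C] [IsNoetherianRing C]

theorem section_unique_of_subsingleton (u v : ResidueField C →+* C)
    (hu : ∀ x, residue C (u x) = x) (hv : ∀ x, residue C (v x) = x)
    [Subsingleton (Ω[ResidueField C⁄ℤ])] : v = u := by
  have key : ∀ n : ℕ, ∀ y, v y - u y ∈ maximalIdeal C ^ n := by
    intro n
    induction n with
    | zero => intro y; rw [pow_zero, Ideal.one_eq_top]; trivial
    | succ n ih =>
      intro y
      rcases Nat.eq_zero_or_pos n with rfl | hn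
      · rw [zero_add, pow_one, ← residue_eq_zero_iff, map_sub, hu, hv, sub_self]
      · set I := maximalIdeal C ^ (n + 1) with hI
        letI : Module (ResidueField C) (C ⧸ I) :=
          Module.compHom (C ⧸ I) ((Ideal.Quotient.mk I).comp u)
        have hsmul : ∀ (a : ResidueField C) (m : C ⧸ I), a • m = Ideal.Quotient.mk I (u a) * m :=
          fun a m => rfl
        haveI : @IsScalarTower ℤ (ResidueField C) (C ⧸ I) Algebra.toSMul _ _ := ⟨fun n a m => by
          rw [hsmul, hsmul, Algebra.smul_def, eq_intCast (algebraMap ℤ (ResidueField C)) n, map_mul,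
            map_mul, map_intCast, map_intCast, mul_assoc, zsmul_eq_mul]⟩
        let δ : Derivation ℤ (ResidueField C) (C ⧸ I) := Derivation.mk'
          (((Ideal.Quotient.mk I : C →+* C ⧸ I).toAddMonoidHom.comp
            ((v : ResidueField C →+* C).toAddMonoidHom - (u : ResidueField C →+* C).toAddMonoidHom)).toIntLinearMap)
          (by
            intro a b
            show Ideal.Quotient.mk I (v (a * b) - u (a * b)) =
              a • Ideal.Quotient.mk I (v b - u b) + b • Ideal.Quotient.mk I (v a - u a)
            rw [hsmul, hsmul, ← map_mul, ← map_mul, ← map_add, Ideal.Quotient.eq]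
            have h1 : v (a * b) - u (a * b) - (u a * (v b - u b) + u b * (v a - u a)) =
                (v a - u a) * (v b - u b) := by
              rw [map_mul, map_mul]; ring
            rw [h1]
            have h2 : (v a - u a) * (v b - u b) ∈ maximalIdeal C ^ n * maximalIdeal C ^ n :=
              Ideal.mul_mem_mul (ih a) (ih b)
            rw [← pow_add] at h2
            exact Ideal.pow_le_pow_right (by omega) h2)
        have hδ : ∀ y, δ y = Ideal.Quotient.mk I (v y - u y) := fun y => rfl
        have h0 : δ y = 0 := by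
          rw [← Derivation.liftKaehlerDifferential_comp_D δ]
          have : KaehlerDifferential.D ℤ (ResidueField C) y = 0 := Subsingleton.elim _ _
          rw [this, map_zero]
        rw [hδ, Ideal.Quotient.eq_zero_iff_mem] at h0
        exact h0
  ext y
  rw [← sub_eq_zero]
  have : v y - u y ∈ ⨅ n, maximalIdeal C ^ n := by
    rw [Ideal.mem_iInf]
    exact fun n => key n y
  rw [Ideal.iInf_pow_eq_bot_of_isLocalRing _ (IsLocalRing.maximalIdeal.isMaximal C).ne_top] at this
  exact this

end Unique

end Groth.Agent.Lib.Helper21.FSmoothField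

namespace Groth.Agent.Lib.Helper21.FSmoothField

open IsLocalRing

section Exists

universe u

/-- the kernel of a derivation of a field into itself, as a subfield -/
def derKer' {R K : Type*} [CommRing R] [Field K] [Algebra R K] (d : Derivation R K K) : Subfield K where
  carrier := {y | d y = 0}
  mul_mem' := by
    intro a b ha hb
    show d (a * b) = 0
    rw [Derivation.leibniz, show d a = 0 from ha, show d b = 0 from hb, smul_zero, smul_zero, add_zero]
  one_mem' := Derivation.map_one_eq_zero _
  add_mem' := by
    intro a b ha hb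
    show d (a + b) = 0
    rw [map_add, show d a = 0 from ha, show d b = 0 from hb, add_zero]
  zero_mem' := map_zero _
  neg_mem' := by
    intro a ha
    show d (-a) = 0
    rw [map_neg, show d a = 0 from ha, neg_zero]
  inv_mem' := by
    intro a ha
    show d a⁻¹ = 0
    rw [Derivation.leibniz_inv, show d a = 0 from ha, smul_zero]

variable {C : Type u} [CommRing C] [IsLocalRing C] [IsNoetherianRing C]
  [IsAdicComplete (maximalIdeal C) C]

theorem exists_section_ne (hm : maximalIdeal C ≠ ⊥) (u : ResidueField C →+* C)
    (hu : ∀ x, residue C (u x) = x) (hΩ : ¬ Subsingleton (Ω[ResidueField C⁄ℤ])) :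
    ∃ v : ResidueField C →+* C, (∀ x, residue C (v x) = x) ∧ v ≠ u := by
  classical
  -- an element with nonzero differential
  obtain ⟨x₀, hx₀⟩ : ∃ x₀ : ResidueField C, KaehlerDifferential.D ℤ (ResidueField C) x₀ ≠ 0 := by
    by_contra h
    push Not at h
    apply hΩ
    have h1 : (⊤ : Submodule (ResidueField C) (Ω[ResidueField C⁄ℤ])) = ⊥ := by
      rw [← KaehlerDifferential.span_range_derivation, Submodule.span_eq_bot]
      rintro _ ⟨x, rfl⟩
      exact h x
    exact ⟨fun a b => by
      have ha : a ∈ (⊤ : Submodule (ResidueField C) (Ω[ResidueField C⁄ℤ])) := trivial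
      have hb : b ∈ (⊤ : Submodule (ResidueField C) (Ω[ResidueField C⁄ℤ])) := trivial
      rw [h1, Submodule.mem_bot] at ha hb
      rw [ha, hb]⟩
  obtain ⟨φ, hφ⟩ : ∃ φ : Module.Dual (ResidueField C) (Ω[ResidueField C⁄ℤ]),
      φ (KaehlerDifferential.D ℤ (ResidueField C) x₀) ≠ 0 := by
    by_contra h
    push Not at h
    exact hx₀ ((Module.forall_dual_apply_eq_zero_iff (ResidueField C) _).mp h)
  let δ : Derivation ℤ (ResidueField C) (ResidueField C) := Derivation.mk'
    ((φ.toAddMonoidHom.comp
      (KaehlerDifferential.D ℤ (ResidueField C)).toLinearMap.toAddMonoidHom).toIntLinearMap)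
    (by
      intro a b
      show φ (KaehlerDifferential.D ℤ (ResidueField C) (a * b)) =
        a • φ (KaehlerDifferential.D ℤ (ResidueField C) b) +
          b • φ (KaehlerDifferential.D ℤ (ResidueField C) a)
      rw [Derivation.leibniz, map_add, map_smul, map_smul])
  have hδx₀ : δ x₀ ≠ 0 := hφ
  -- an element of `𝔪 \ 𝔪²`
  obtain ⟨t, ht, ht2⟩ : ∃ t ∈ maximalIdeal C, t ∉ maximalIdeal C ^ 2 := by
    by_contra h
    push Not at h
    apply hm
    have hle : maximalIdeal C ≤ maximalIdeal C • maximalIdeal C := by
      intro t ht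
      have := h t ht
      rwa [pow_two] at this
    exact Submodule.eq_bot_of_le_smul_of_le_jacobson_bot (maximalIdeal C) (maximalIdeal C)
      (IsNoetherian.noetherian _) hle (by rw [IsLocalRing.jacobson_eq_maximalIdeal ⊥ bot_ne_top])
  let P := (⊥ : Subfield (ResidueField C))
  letI : Algebra P C := (u.comp P.subtype).toAlgebra
  have halg : ∀ a : P, algebraMap P C a = u (a : ResidueField C) := fun a => rfl
  haveI : IsAdicComplete (maximalIdeal C ^ 2) C := isAdicComplete_pow _ 2 (by norm_num)
  haveI := formallySmooth_bot (ResidueField C)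
  have hδP : ∀ a : P, δ (a : ResidueField C) = 0 := by
    intro a
    have : (⊥ : Subfield (ResidueField C)) ≤ derKer' δ := bot_le
    exact this a.2
  let v₂ : ResidueField C →ₐ[P] C ⧸ maximalIdeal C ^ 2 :=
    { toFun := fun y => Ideal.Quotient.mk _ (u y + u (δ y) * t)
      map_one' := by
        rw [Derivation.map_one_eq_zero, map_zero, zero_mul, add_zero, map_one, map_one]
      map_mul' := by
        intro a b
        rw [← map_mul, Ideal.Quotient.eq, Derivation.leibniz, smul_eq_mul, smul_eq_mul]
        have : u (a * b) + u (a * δ b + b * δ a) * t - (u a + u (δ a) * t) * (u b + u (δ b) * t) =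
            -(u (δ a) * u (δ b)) * (t * t) := by
          rw [map_mul, map_add, map_mul, map_mul]; ring
        rw [this, pow_two]
        exact Ideal.mul_mem_left _ _ (Ideal.mul_mem_mul ht ht)
      map_zero' := by
        rw [map_zero, map_zero, map_zero, zero_mul, add_zero, map_zero]
      map_add' := by
        intro a b
        rw [← map_add, map_add u, map_add δ, map_add u, add_mul]
        congr 1
        ring
      commutes' := by
        intro a
        show Ideal.Quotient.mk _ (u (a : ResidueField C) + u (δ (a : ResidueField C)) * t) = _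
        rw [hδP, map_zero, zero_mul, add_zero]
        rfl }
  have hv₂ : ∀ y, v₂ y = Ideal.Quotient.mk _ (u y + u (δ y) * t) := fun y => rfl
  obtain ⟨g, hg⟩ := Algebra.FormallySmooth.exists_mkₐ_comp_eq_of_isAdicComplete v₂
  have hg' : ∀ y, g y - (u y + u (δ y) * t) ∈ maximalIdeal C ^ 2 := by
    intro y
    rw [← Ideal.Quotient.eq, ← hv₂, ← hg]
    rfl
  refine ⟨g.toRingHom, ?_, ?_⟩
  · intro y
    have h1 : g y - (u y + u (δ y) * t) ∈ maximalIdeal C :=
      Ideal.pow_le_self (by norm_num) (hg' y)
    rw [← residue_eq_zero_iff, map_sub, map_add, map_mul, hu, (residue_eq_zero_iff t).mpr ht,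
      mul_zero, add_zero, sub_eq_zero] at h1
    exact h1
  · intro hgu
    have h1 := hg' x₀
    have h2 : g x₀ = u x₀ := by rw [← hgu]; rfl
    rw [h2, sub_add_cancel_left, neg_mem_iff] at h1
    have hunit : IsUnit (u (δ x₀)) := (IsUnit.mk0 _ hδx₀).map u
    apply ht2
    have := Ideal.mul_mem_left _ (↑hunit.unit⁻¹ : C) h1
    rwa [← mul_assoc, IsUnit.val_inv_mul, one_mul] at this

end Exists

end Groth.Agent.Lib.Helper21.FSmoothField
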