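import Mathlib

namespace Groth.Agent.Lib.Helper21.Farkas

variable {R : Type*} [Field R] [LinearOrder R] [IsStrictOrderedRing R]
variable {V : Type*} [AddCommGroup V] [Module R V]

/-- Farkas' lemma (after Bartl): a functional nonnegative wherever finitely many functionals are
nonnegative is a nonnegative combination of them. Valid over any ordered field and any vector
space. -/
theorem farkas {κ : Type*} [DecidableEq κ] (s : Finset κ) :
    ∀ (α : κ → V →ₗ[R] R) (γ : V →ₗ[R] R),
      (∀ x, (∀ i ∈ s, 0 ≤ α i x) → 0 ≤ γ x) →
      ∃ c : κ → R, (∀ i ∈ s, 0 ≤ c i) ∧ γ = ∑ i ∈ s, c i • α i := by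
  induction s using Finset.induction_on with
  | empty =>
    intro α γ h
    refine ⟨fun _ => 0, by simp, ?_⟩
    rw [Finset.sum_empty]
    ext x
    have h1 := h x (by simp)
    have h2 := h (-x) (by simp)
    rw [map_neg] at h2
    rw [LinearMap.zero_apply]
    linarith
  | insert a s ha ih =>
    intro α γ h
    by_cases hA : ∀ x, (∀ i ∈ s, 0 ≤ α i x) → 0 ≤ γ x
    · obtain ⟨c, hc, hγ⟩ := ih α γ hA
      refine ⟨Function.update c a 0, ?_, ?_⟩
      · intro i hi
        by_cases hia : i = a
        · rw [hia, Function.update_self]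
        · rw [Function.update_of_ne hia]
          exact hc i ((Finset.mem_insert.1 hi).resolve_left hia)
      · rw [Finset.sum_insert ha, Function.update_self, zero_smul, zero_add, hγ]
        apply Finset.sum_congr rfl
        intro i hi
        rw [Function.update_of_ne (by rintro rfl; exact ha hi)]
    · push Not at hA
      obtain ⟨x₀, hx₀, hγ₀⟩ := hA
      have hα₀ : α a x₀ < 0 := by
        by_contra hcon
        rw [not_lt] at hcon
        have := h x₀ (by
          intro i hi
          rcases Finset.mem_insert.1 hi with rfl | hi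
          · exact hcon
          · exact hx₀ i hi)
        exact absurd this (not_le.2 hγ₀)
      set t := -(α a x₀) with ht
      have htpos : 0 < t := neg_pos.2 hα₀
      set x₁ := t⁻¹ • x₀ with hx₁
      have hα₁ : α a x₁ = -1 := by
        have h3 : α a x₀ = -t := by rw [ht, neg_neg]
        rw [hx₁, map_smul, smul_eq_mul, h3, mul_neg, inv_mul_cancel₀ htpos.ne']
      have hx₁s : ∀ i ∈ s, 0 ≤ α i x₁ := by
        intro i hi
        rw [hx₁, map_smul, smul_eq_mul]
        exact mul_nonneg (inv_pos.2 htpos).le (hx₀ i hi)
      have hγ₁ : γ x₁ < 0 := by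
        rw [hx₁, map_smul, smul_eq_mul]
        exact mul_neg_of_pos_of_neg (inv_pos.2 htpos) hγ₀
      obtain ⟨c, hc, hγ'⟩ := ih (fun i => α i + (α i x₁) • α a) (γ + (γ x₁) • α a) (by
        intro x hx
        have h1 := h (x + (α a x) • x₁) (by
          intro i hi
          rcases Finset.mem_insert.1 hi with rfl | hi
          · rw [map_add, map_smul, smul_eq_mul, hα₁]; linarith
          · have := hx i hi
            simp only [LinearMap.add_apply, LinearMap.smul_apply, smul_eq_mul] at this
            rw [map_add, map_smul, smul_eq_mul]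
            linarith)
        simp only [LinearMap.add_apply, LinearMap.smul_apply, smul_eq_mul]
        rw [map_add, map_smul, smul_eq_mul] at h1
        linarith)
      refine ⟨Function.update c a (∑ i ∈ s, c i * α i x₁ - γ x₁), ?_, ?_⟩
      · intro i hi
        by_cases hia : i = a
        · rw [hia, Function.update_self]
          have : 0 ≤ ∑ i ∈ s, c i * α i x₁ :=
            Finset.sum_nonneg fun i hi => mul_nonneg (hc i hi) (hx₁s i hi)
          linarith
        · rw [Function.update_of_ne hia]
          exact hc i ((Finset.mem_insert.1 hi).resolve_left hia)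
      · rw [Finset.sum_insert ha, Function.update_self]
        have hsum : ∑ i ∈ s, Function.update c a (∑ i ∈ s, c i * α i x₁ - γ x₁) i • α i =
            ∑ i ∈ s, c i • α i := by
          apply Finset.sum_congr rfl
          intro i hi
          rw [Function.update_of_ne (by rintro rfl; exact ha hi)]
        rw [hsum]
        have hγeq : γ = ∑ i ∈ s, c i • (α i + (α i x₁) • α a) - (γ x₁) • α a := by
          rw [← hγ']; abel
        calc γ = ∑ i ∈ s, c i • (α i + (α i x₁) • α a) - (γ x₁) • α a := hγeq
          _ = ∑ i ∈ s, c i • α i + (∑ i ∈ s, c i * α i x₁) • α a - (γ x₁) • α a := by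
              simp only [smul_add, Finset.sum_add_distrib, smul_smul, Finset.sum_smul]
          _ = (∑ i ∈ s, c i * α i x₁ - γ x₁) • α a + ∑ i ∈ s, c i • α i := by
              module

/-- separation form: a point is in the convex hull of finitely many points as soon as no linear
functional separates it strictly from them -/
theorem mem_convexHull_of_forall_dual {N' : Type*} [AddCommGroup N'] [Module R N']
    {κ : Type*} [DecidableEq κ] (s : Finset κ) (p : κ → N') (x : N')
    (h : ∀ f : N' →ₗ[R] R, ∃ i ∈ s, f (p i) ≤ f x) : x ∈ convexHull R (p '' s) := by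
  let α : κ → ((N' →ₗ[R] R) × R) →ₗ[R] R := fun i =>
    (LinearMap.applyₗ (p i)).comp (LinearMap.fst R _ _) + LinearMap.snd R _ _
  let γ : ((N' →ₗ[R] R) × R) →ₗ[R] R :=
    (LinearMap.applyₗ x).comp (LinearMap.fst R _ _) + LinearMap.snd R _ _
  have hα : ∀ i (f : N' →ₗ[R] R) (t : R), α i (f, t) = f (p i) + t := fun i f t => rfl
  have hγ : ∀ (f : N' →ₗ[R] R) (t : R), γ (f, t) = f x + t := fun f t => rfl
  obtain ⟨c, hc, hcγ⟩ := farkas s α γ (by
    rintro ⟨f, t⟩ hft
    obtain ⟨i, hi, hle⟩ := h f
    have := hft i hi
    rw [hα] at this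
    rw [hγ]
    linarith)
  have hsum : ∑ i ∈ s, c i = 1 := by
    have := congrArg (fun g => g ((0 : N' →ₗ[R] R), (1 : R))) hcγ
    simp only [LinearMap.sum_apply, LinearMap.smul_apply, smul_eq_mul] at this
    rw [hγ] at this
    simp only [hα, LinearMap.zero_apply, zero_add, mul_one] at this
    exact this.symm
  have hx : x = ∑ i ∈ s, c i • p i := by
    rw [← sub_eq_zero, ← Module.forall_dual_apply_eq_zero_iff R]
    intro f
    have := congrArg (fun g => g ((f : N' →ₗ[R] R), (0 : R))) hcγ
    simp only [LinearMap.sum_apply, LinearMap.smul_apply, smul_eq_mul] at this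
    rw [hγ] at this
    simp only [hα, add_zero] at this
    rw [map_sub, map_sum, this, sub_eq_zero]
    apply Finset.sum_congr rfl
    intro i _
    rw [map_smul, smul_eq_mul]
  rw [hx]
  exact (convex_convexHull R _).sum_mem hc hsum
    (fun i hi => subset_convexHull R _ ⟨i, hi, rfl⟩)

end Groth.Agent.Lib.Helper21.Farkas
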