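import Mathlib
import Groth.Prelude
import Groth.Agent.Lib.Helper3.QCProps

/-!
# (c) for helper1 (S1485): kernels of morphisms of quasi-coherent modules are quasi-coherent
(wrapper around `Helper3.QCProps.isQuasicoherent_kernel`) (helper21)
-/

set_option autoImplicit false
universe u

open CategoryTheory CategoryTheory.Limits AlgebraicGeometry Opposite

namespace Groth.Agent.Lib.Helper21.FibH1c

/-- (c) kernels of morphisms of quasi-coherent modules are quasi-coherent. -/
theorem isQuasicoherent_kernel {X : Scheme.{u}} {A B : X.Modules} (φ : A ⟶ B)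
    [A.IsQuasicoherent] [B.IsQuasicoherent] : (kernel φ : X.Modules).IsQuasicoherent :=
  Groth.Agent.Lib.Helper3.QCProps.isQuasicoherent_kernel φ

end Groth.Agent.Lib.Helper21.FibH1c
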