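import Mathlib

/-!
# Finitely many elements / equalities in filtered colimits of types
-/

set_option autoImplicit false
universe u
open CategoryTheory CategoryTheory.Limits

namespace Groth.Agent.Lib.Helper21.FiltFin

variable {I : Type u} [SmallCategory I] [IsFiltered I]

/-- Finitely many elements of filtered colimits (of possibly different diagrams on the same index
category) are represented at a common stage. -/
theorem exists_common_lift {κ : Type*} [Finite κ] (F : κ → I ⥤ Type u)
    (c : ∀ k, Cocone (F k)) (hc : ∀ k, IsColimit (c k)) (x : ∀ k, (c k).pt) :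
    ∃ i : I, ∀ k, ∃ y : (F k).obj i, (c k).ι.app i y = x k := by
  classical
  haveI := Fintype.ofFinite κ
  choose j y' hy' using fun k => Types.jointly_surjective_of_isColimit (hc k) (x k)
  obtain ⟨S, hS⟩ := IsFiltered.sup_objs_exists (Finset.univ.image j)
  refine ⟨S, fun k => ?_⟩
  obtain ⟨f⟩ := hS (Finset.mem_image_of_mem j (Finset.mem_univ k))
  exact ⟨(F k).map f (y' k), (ConcreteCategory.congr_hom ((c k).w f) (y' k)).trans (hy' k)⟩

/-- Finitely many equalities in filtered colimits hold at a common later stage. -/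
theorem exists_common_eq {κ : Type*} [Finite κ] (F : κ → I ⥤ Type u)
    (c : ∀ k, Cocone (F k)) (hc : ∀ k, IsColimit (c k)) (i : I) (a b : ∀ k, (F k).obj i)
    (h : ∀ k, (c k).ι.app i (a k) = (c k).ι.app i (b k)) :
    ∃ (j : I) (f : i ⟶ j), ∀ k, (F k).map f (a k) = (F k).map f (b k) := by
  classical
  haveI := Fintype.ofFinite κ
  suffices H : ∀ s : Finset κ, ∃ (j : I) (f : i ⟶ j), ∀ k ∈ s,
      (F k).map f (a k) = (F k).map f (b k) by
    obtain ⟨j, f, hf⟩ := H Finset.univ
    exact ⟨j, f, fun k => hf k (Finset.mem_univ k)⟩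
  intro s
  induction s using Finset.induction_on with
  | empty => exact ⟨i, 𝟙 i, fun k hk => absurd hk (Finset.notMem_empty k)⟩
  | insert k₀ s _ ih =>
    obtain ⟨j, f, hf⟩ := ih
    have h' : (c k₀).ι.app j ((F k₀).map f (a k₀)) = (c k₀).ι.app j ((F k₀).map f (b k₀)) := by
      have hw : ∀ z : (F k₀).obj i, (c k₀).ι.app j ((F k₀).map f z) = (c k₀).ι.app i z :=
        fun z => ConcreteCategory.congr_hom ((c k₀).w f) z
      rw [hw, hw, h]
    obtain ⟨j', f', hf'⟩ := (Types.FilteredColimit.isColimit_eq_iff' (hc k₀) _ _).1 h'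
    refine ⟨j', f ≫ f', ?_⟩
    intro k hk
    rw [Finset.mem_insert] at hk
    rw [Functor.map_comp_apply, Functor.map_comp_apply]
    rcases hk with rfl | hk
    · exact hf'
    · rw [hf k hk]

end Groth.Agent.Lib.Helper21.FiltFin
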