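import Mathlib
import Groth.Agent.Lib.Helper10.Horseshoe

/-!
# Filtered injective resolutions (horseshoe induction)
-/

set_option backward.isDefEq.respectTransparency false
set_option backward.isDefEq.respectTransparency.types false

namespace Groth.Agent.Lib.Helper21.FiltInjRes

open CategoryTheory CategoryTheory.Limits

universe v u

variable {C : Type u} [Category.{v} C] [Abelian C]

theorem horseshoe [EnoughInjectives C] {S : ShortComplex C} (hS : S.ShortExact)
    (I₁ : InjectiveResolution S.X₁) :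
    ∃ (I₂ : InjectiveResolution S.X₂) (f : I₁.cocomplex ⟶ I₂.cocomplex), Mono f ∧
      I₁.ι ≫ f = (CochainComplex.single₀ C).map S.f ≫ I₂.ι := by
  obtain ⟨τ, hτ0, hτ⟩ := H10SES.exists_tau hS I₁ (injectiveResolution S.X₃)
  exact ⟨(H10SES.hSES hS I₁ (injectiveResolution S.X₃) τ hτ
      (by rw [hτ0]; exact H10SES.aug_htau0 hS _ _)).I₂,
    (H10SES.hSES hS I₁ (injectiveResolution S.X₃) τ hτ
      (by rw [hτ0]; exact H10SES.aug_htau0 hS _ _)).f,
    (H10SES.hSES hS I₁ (injectiveResolution S.X₃) τ hτ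
      (by rw [hτ0]; exact H10SES.aug_htau0 hS _ _)).shortExact.mono_f,
    (H10SES.hSES hS I₁ (injectiveResolution S.X₃) τ hτ
      (by rw [hτ0]; exact H10SES.aug_htau0 hS _ _)).ι_f⟩

/-- The conclusion, in terms of explicit monomorphisms. -/
def Good (A : C) (F : ℕ → Subobject A) (n : ℕ) : Prop :=
  ∃ (X : InjectiveResolution A) (Y : ℕ → CochainComplex C ℕ) (g : ∀ k, Y k ⟶ X.cocomplex),
    (∀ k, Mono (g k)) ∧ (∀ k, ∃ t : Y (k + 1) ⟶ Y k, t ≫ g k = g (k + 1)) ∧ IsIso (g 0) ∧
    IsZero (Y n) ∧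
    ∀ k, (∀ j, Injective ((Y k).X j)) ∧ ∃ ι : (CochainComplex.single₀ C).obj (F k : C) ⟶ Y k,
      ι ≫ g k = (CochainComplex.single₀ C).map (F k).arrow ≫ X.ι ∧ QuasiIso ι

theorem good_zero (A : C) (F : ℕ → Subobject A) (hA : IsZero A) : Good A F 0 := by
  haveI : Injective A := hA.injective
  have hZ : IsZero ((CochainComplex.single₀ C).obj A) := Functor.map_isZero _ hA
  refine ⟨InjectiveResolution.self A, fun _ => (CochainComplex.single₀ C).obj A, fun _ => 𝟙 _,
    fun _ => inferInstanceAs (Mono (𝟙 ((CochainComplex.single₀ C).obj A))),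
    fun _ => ⟨𝟙 _, Category.comp_id _⟩,
    inferInstanceAs (IsIso (𝟙 ((CochainComplex.single₀ C).obj A))), hZ, fun k => ⟨?_, ?_⟩⟩
  · intro j
    exact (InjectiveResolution.self A).injective j
  · have hk : IsZero (F k : C) := IsZero.of_mono (F k).arrow hA
    have hZk : IsZero ((CochainComplex.single₀ C).obj (F k : C)) := Functor.map_isZero _ hk
    refine ⟨0, hZk.eq_of_src _ _, ?_⟩
    have : IsIso (0 : (CochainComplex.single₀ C).obj (F k : C) ⟶
        (CochainComplex.single₀ C).obj A) := ⟨0, hZk.eq_of_src _ _, hZ.eq_of_src _ _⟩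
    infer_instance

/-- The family of complexes in the inductive step. -/
def Ysucc (X₀ : CochainComplex C ℕ) (Y' : ℕ → CochainComplex C ℕ) : ℕ → CochainComplex C ℕ
  | 0 => X₀
  | k + 1 => Y' k

/-- The family of monomorphisms in the inductive step. -/
def gsucc {X' X₀ : CochainComplex C ℕ} (f : X' ⟶ X₀) {Y' : ℕ → CochainComplex C ℕ}
    (g' : ∀ k, Y' k ⟶ X') : ∀ k, Ysucc X₀ Y' k ⟶ X₀
  | 0 => 𝟙 X₀
  | k + 1 => g' k ≫ f

theorem good_succ [EnoughInjectives C] (n : ℕ)
    (ih : ∀ (A : C) (F : ℕ → Subobject A), Antitone F → F 0 = ⊤ → F n = ⊥ → Good A F n)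
    (A : C) (F : ℕ → Subobject A) (hF : Antitone F) (h0 : F 0 = ⊤) (hn : F (n + 1) = ⊥) :
    Good A F (n + 1) := by
  have hle : ∀ k, F (k + 1) ≤ F 1 := fun k => hF (by lia)
  have hF' : Antitone (fun k => Subobject.mk ((F (k + 1)).ofLE (F 1) (hle k))) := by
    intro k k' hkk'
    refine Subobject.mk_le_mk_of_comm ((F (k' + 1)).ofLE (F (k + 1)) (hF (by lia))) ?_
    rw [Subobject.ofLE_comp_ofLE]
  have h0' : Subobject.mk ((F (0 + 1)).ofLE (F 1) (hle 0)) = ⊤ := by
    have : IsIso ((F (0 + 1)).ofLE (F 1) (hle 0)) := by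
      have h : (F (0 + 1)).ofLE (F 1) (hle 0) = 𝟙 _ := Subobject.ofLE_refl _
      rw [h]; infer_instance
    exact Subobject.mk_eq_top_of_isIso _
  have hn' : Subobject.mk ((F (n + 1)).ofLE (F 1) (hle n)) = ⊥ := by
    rw [Subobject.mk_eq_bot_iff_zero, ← cancel_mono (F 1).arrow, Subobject.ofLE_arrow, zero_comp,
      hn, Subobject.bot_arrow]
  obtain ⟨X', Y', g', hg', ht', hiso', hz', hk'⟩ := ih (F 1 : C) _ hF' h0' hn'
  have hS : (ShortComplex.mk (F 1).arrow (cokernel.π (F 1).arrow)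
      (cokernel.condition _)).ShortExact :=
    { exact := ShortComplex.exact_cokernel _ }
  obtain ⟨X, f, hf, hfι⟩ := horseshoe hS X'
  refine ⟨X, Ysucc X.cocomplex Y', gsucc f g', ?_, ?_, ?_, hz', ?_⟩
  · rintro (_ | k)
    · exact inferInstanceAs (Mono (𝟙 X.cocomplex))
    · haveI := hg' k
      exact inferInstanceAs (Mono (g' k ≫ f))
  · rintro (_ | k)
    · exact ⟨g' 0 ≫ f, Category.comp_id _⟩
    · obtain ⟨t, ht⟩ := ht' k
      refine ⟨t, ?_⟩
      show t ≫ g' k ≫ f = g' (k + 1) ≫ f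
      rw [← Category.assoc, ht]
  · exact inferInstanceAs (IsIso (𝟙 X.cocomplex))
  · rintro (_ | k)
    · refine ⟨fun j => X.injective j, (CochainComplex.single₀ C).map (F 0).arrow ≫ X.ι,
        Category.comp_id _, ?_⟩
      have : IsIso (F 0).arrow := (Subobject.isIso_arrow_iff_eq_top _).2 h0
      have : QuasiIso ((CochainComplex.single₀ C).map (F 0).arrow) := inferInstance
      have : QuasiIso X.ι := X.quasiIso
      exact quasiIso_comp _ _
    · obtain ⟨hinj, ι', hι', hq'⟩ := hk' k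
      refine ⟨hinj, (CochainComplex.single₀ C).map
        (Subobject.underlyingIso ((F (k + 1)).ofLE (F 1) (hle k))).inv ≫ ι', ?_, ?_⟩
      · show (_ ≫ ι') ≫ g' k ≫ f = _
        rw [Category.assoc, ← Category.assoc ι', hι', Category.assoc, hfι,
          ← Category.assoc, ← Category.assoc, ← Functor.map_comp, ← Functor.map_comp]
        simp only [Subobject.underlyingIso_arrow, Subobject.ofLE_arrow]
      · have : QuasiIso ((CochainComplex.single₀ C).map
          (Subobject.underlyingIso ((F (k + 1)).ofLE (F 1) (hle k))).inv) := inferInstance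
        exact quasiIso_comp _ _

theorem good [EnoughInjectives C] (n : ℕ) :
    ∀ (A : C) (F : ℕ → Subobject A), Antitone F → F 0 = ⊤ → F n = ⊥ → Good A F n := by
  induction n with
  | zero =>
    intro A F _ h0 hn
    refine good_zero A F ?_
    have h : (⊤ : Subobject A) = ⊥ := h0.symm.trans hn
    have h1 : (⊤ : Subobject A).arrow = 0 := by rw [h, Subobject.bot_arrow]
    rw [IsZero.iff_id_eq_zero, ← cancel_epi (⊤ : Subobject A).arrow, h1, zero_comp, comp_zero]
  | succ n ih => exact good_succ n ih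

theorem convert {A : C} (X : InjectiveResolution A) (Y : CochainComplex C ℕ)
    (g : Y ⟶ X.cocomplex) [Mono g] (S : Subobject A) (hinj : ∀ j, Injective (Y.X j))
    (ι : (CochainComplex.single₀ C).obj (S : C) ⟶ Y)
    (hι : ι ≫ g = (CochainComplex.single₀ C).map S.arrow ≫ X.ι) (hq : QuasiIso ι) :
    (∀ j : ℕ, Injective ((Subobject.mk g : CochainComplex C ℕ).X j)) ∧
      ∃ ι' : (CochainComplex.single₀ C).obj (S : C) ⟶ (Subobject.mk g : CochainComplex C ℕ),
        ι' ≫ (Subobject.mk g).arrow = (CochainComplex.single₀ C).map S.arrow ≫ X.ι ∧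
          QuasiIso ι' := by
  refine ⟨fun j => ?_, ι ≫ (Subobject.underlyingIso g).inv, ?_, ?_⟩
  · exact Injective.of_iso (P := Y.X j)
      ((HomologicalComplex.eval C _ j).mapIso (Subobject.underlyingIso g).symm) (hinj j)
  · rw [Category.assoc, Subobject.underlyingIso_arrow, hι]
  · have : QuasiIso (Subobject.underlyingIso g).inv := inferInstance
    exact quasiIso_comp _ _

theorem exists_le_fac {X₀ : CochainComplex C ℕ} (Y : ℕ → CochainComplex C ℕ)
    (g : ∀ k, Y k ⟶ X₀) (ht : ∀ k, ∃ t : Y (k + 1) ⟶ Y k, t ≫ g k = g (k + 1))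
    (k k' : ℕ) (h : k ≤ k') : ∃ t : Y k' ⟶ Y k, t ≫ g k = g k' := by
  induction k', h using Nat.le_induction with
  | base => exact ⟨𝟙 _, Category.id_comp _⟩
  | succ m _ ih =>
    obtain ⟨t, ht1⟩ := ih
    obtain ⟨t', ht2⟩ := ht m
    exact ⟨t' ≫ t, by rw [Category.assoc, ht1, ht2]⟩

theorem top_eq_bot_of_isZero {D : Type*} [Category D] [Abelian D] {B : D} (hB : IsZero B) :
    (⊤ : Subobject B) = ⊥ := by
  rw [Subobject.top_eq_id, Subobject.mk_eq_bot_iff_zero]
  exact hB.eq_of_src _ _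

theorem main [EnoughInjectives C] (A : C) (fil : ℤ → Subobject A) (anti : Antitone fil)
    (hfin : (∃ a : ℤ, fil a = ⊤) ∧ ∃ b : ℤ, fil b = ⊥) :
    ∃ (X : InjectiveResolution A) (G : ℤ → Subobject X.cocomplex), Antitone G ∧
      (∀ i : ℤ, fil i = ⊤ → G i = ⊤) ∧ (∀ i : ℤ, fil i = ⊥ → G i = ⊥) ∧
      ∀ i : ℤ, (∀ j : ℕ, Injective ((G i : CochainComplex C ℕ).X j)) ∧
        ∃ ι : (CochainComplex.single₀ C).obj (fil i : C) ⟶ (G i : CochainComplex C ℕ),
          ι ≫ (G i).arrow = (CochainComplex.single₀ C).map (fil i).arrow ≫ X.ι ∧ QuasiIso ι := by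
  obtain ⟨⟨a₀, ha₀⟩, ⟨b₀, hb₀⟩⟩ := hfin
  by_cases hA : (⊤ : Subobject A) = ⊥
  · -- the zero case
    have hA' : IsZero A := by
      have h1 : (⊤ : Subobject A).arrow = 0 := by rw [hA, Subobject.bot_arrow]
      rw [IsZero.iff_id_eq_zero, ← cancel_epi (⊤ : Subobject A).arrow, h1, zero_comp, comp_zero]
    haveI : Injective A := hA'.injective
    have hZ : IsZero ((CochainComplex.single₀ C).obj A) := Functor.map_isZero _ hA'
    refine ⟨InjectiveResolution.self A, fun _ => Subobject.mk (𝟙 _), fun _ _ _ => le_rfl,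
      fun _ _ => (Subobject.top_eq_id _).symm,
      fun _ _ => (Subobject.top_eq_id _).symm.trans (top_eq_bot_of_isZero hZ), fun i => ?_⟩
    have hk : IsZero (fil i : C) := IsZero.of_mono (fil i).arrow hA'
    have hZk : IsZero ((CochainComplex.single₀ C).obj (fil i : C)) := Functor.map_isZero _ hk
    refine convert (InjectiveResolution.self A) _ (𝟙 _) (fil i)
      (fun j => (InjectiveResolution.self A).injective j) 0 (hZk.eq_of_src _ _) ?_
    have : IsIso (0 : (CochainComplex.single₀ C).obj (fil i : C) ⟶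
        (CochainComplex.single₀ C).obj A) := ⟨0, hZk.eq_of_src _ _, hZ.eq_of_src _ _⟩
    infer_instance
  · -- the nonzero case
    have hbdd : ∀ i, fil i = ⊤ → i < b₀ := by
      intro i hi
      by_contra hcon
      have : fil i ≤ fil b₀ := anti (by lia)
      rw [hi, hb₀] at this
      exact hA (le_antisymm this bot_le)
    obtain ⟨a, ha, hamax⟩ : ∃ a, fil a = ⊤ ∧ ∀ i, fil i = ⊤ → i ≤ a :=
      Int.exists_greatest_of_bdd ⟨b₀, fun i hi => (hbdd i hi).le⟩ ⟨a₀, ha₀⟩
    have hbdd' : ∀ i, fil i = ⊥ → a < i := by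
      intro i hi
      by_contra hcon
      have : fil a ≤ fil i := anti (by lia)
      rw [hi, ha] at this
      exact hA (le_antisymm this bot_le)
    obtain ⟨b, hb, hbmin⟩ : ∃ b, fil b = ⊥ ∧ ∀ i, fil i = ⊥ → b ≤ i :=
      Int.exists_least_of_bdd ⟨a, fun i hi => (hbdd' i hi).le⟩ ⟨b₀, hb₀⟩
    have hab : a < b := hbdd' b hb
    have hF : Antitone (fun k : ℕ => fil (a + k)) := fun k k' h => anti (by lia)
    have hF0 : (fun k : ℕ => fil (a + k)) 0 = ⊤ := by
      show fil (a + ((0 : ℕ) : ℤ)) = ⊤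
      rw [Nat.cast_zero, add_zero, ha]
    have hFn : (fun k : ℕ => fil (a + k)) (b - a).toNat = ⊥ := by
      show fil (a + (((b - a).toNat : ℕ) : ℤ)) = ⊥
      rw [Int.toNat_of_nonneg (by lia), add_sub_cancel, hb]
    obtain ⟨X, Y, g, hg, ht, hiso, hz, hk⟩ := good (b - a).toNat A _ hF hF0 hFn
    have hGanti : ∀ k k', k ≤ k' →
        @Subobject.mk _ _ _ _ (g k') (hg k') ≤ @Subobject.mk _ _ _ _ (g k) (hg k) := by
      intro k k' h
      obtain ⟨t, ht⟩ := exists_le_fac Y g ht k k' h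
      exact @Subobject.mk_le_mk_of_comm _ _ _ _ _ _ _ (hg k') (hg k) t ht
    refine ⟨X, fun i => @Subobject.mk _ _ _ _ (g (i - a).toNat) (hg _), ?_, ?_, ?_, ?_⟩
    · intro i i' h
      exact hGanti _ _ (Int.toNat_le_toNat (by lia))
    · intro i hi
      have h0 : (i - a).toNat = 0 := by have := hamax i hi; lia
      show @Subobject.mk _ _ _ _ (g (i - a).toNat) (hg _) = ⊤
      rw [h0]
      exact Subobject.mk_eq_top_of_isIso _
    · intro i hi
      have h0 : (b - a).toNat ≤ (i - a).toNat := Int.toNat_le_toNat (by have := hbmin i hi; lia)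
      have h1 : @Subobject.mk _ _ _ _ (g (b - a).toNat) (hg _) = ⊥ := by
        haveI := hg (b - a).toNat
        rw [Subobject.mk_eq_bot_iff_zero]
        exact hz.eq_of_src _ _
      exact le_antisymm ((hGanti _ _ h0).trans h1.le) bot_le
    · intro i
      have hS : fil (a + (((i - a).toNat : ℕ) : ℤ)) = fil i := by
        by_cases hia : a ≤ i
        · rw [Int.toNat_of_nonneg (by lia), add_sub_cancel]
        · have h0 : (i - a).toNat = 0 := by lia
          rw [h0, Nat.cast_zero, add_zero, ha]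
          exact (le_antisymm le_top (ha ▸ anti (by lia))).symm
      obtain ⟨hinj, ι, hι, hq⟩ := hk (i - a).toNat
      haveI := hg (i - a).toNat
      have key := convert X (Y (i - a).toNat) (g (i - a).toNat)
        (fil (a + (((i - a).toNat : ℕ) : ℤ))) hinj ι hι hq
      rw [hS] at key
      exact key

end Groth.Agent.Lib.Helper21.FiltInjRes
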