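import Mathlib
import Groth.Agent.Lib.Helper21.FiltFin

/-!
# Filtered colimits of sheaves of sets on a site with quasi-compact objects are computed objectwise
-/

set_option autoImplicit false
universe u
open CategoryTheory CategoryTheory.Limits Opposite

namespace Groth.Agent.Lib.Helper21.FiltSheaf

open Groth.Agent.Lib.Helper21.FiltFin

variable {C : Type u} [SmallCategory C] {J : GrothendieckTopology C}
  {I : Type u} [SmallCategory I] (K : I ⥤ Sheaf J (Type u))
  (E : Cocone (K ⋙ sheafToPresheaf J (Type u)))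

/-- The diagram of sections over `W`. -/
abbrev FW (W : C) : I ⥤ Type u :=
  (K ⋙ sheafToPresheaf J (Type u)) ⋙ (evaluation Cᵒᵖ (Type u)).obj (op W)

/-- The cocone of sections over `W`. -/
abbrev EW (W : C) : Cocone (FW K W) :=
  ((evaluation Cᵒᵖ (Type u)).obj (op W)).mapCocone E

variable {K E}

/-- The cocone of sections over `W` is a colimit cocone. -/
noncomputable def hEW (hE : IsColimit E) (W : C) : IsColimit (EW K E W) :=
  isColimitOfPreserves _ hE

theorem ι_res (i : I) {W W' : C} (h : W' ⟶ W) (y : (K.obj i).obj.obj (op W)) :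
    (E.ι.app i).app (op W') ((K.obj i).obj.map h.op y) =
      E.pt.map h.op ((E.ι.app i).app (op W) y) :=
  NatTrans.naturality_apply (E.ι.app i) h.op y

theorem K_res {i j : I} (f : i ⟶ j) {W W' : C} (h : W' ⟶ W) (y : (K.obj i).obj.obj (op W)) :
    (K.map f).hom.app (op W') ((K.obj i).obj.map h.op y) =
      (K.obj j).obj.map h.op ((K.map f).hom.app (op W) y) :=
  NatTrans.naturality_apply (K.map f).hom h.op y

theorem ι_K {i j : I} (f : i ⟶ j) (W : C) (y : (K.obj i).obj.obj (op W)) :
    (E.ι.app j).app (op W) ((K.map f).hom.app (op W) y) = (E.ι.app i).app (op W) y :=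
  ConcreteCategory.congr_hom ((EW K E W).w f) y

theorem isSeparatedFor_of_le {P : Cᵒᵖ ⥤ Type u} {X : C} {R R' : Presieve X} (h : R ≤ R')
    (hR : Presieve.IsSeparatedFor P R) : Presieve.IsSeparatedFor P R' := by
  intro x t₁ t₂ h₁ h₂
  exact hR (x.restrict h) t₁ t₂ (Presieve.isAmalgamation_restrict h x t₁ h₁)
    (Presieve.isAmalgamation_restrict h x t₂ h₂)

variable [IsFiltered I] [HasPullbacks C]

theorem K_sheafFor (i : I) {U : C} {n : ℕ} (V : Fin n → C) (g : ∀ k, V k ⟶ U)
    (hg : Sieve.ofArrows V g ∈ J U) :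
    Presieve.IsSheafFor (K.obj i).obj (Presieve.ofArrows V g) := by
  rw [Presieve.isSheafFor_iff_generate]
  exact ((isSheaf_iff_isSheaf_of_type J _).1 (K.obj i).property) _ hg

/-- Separatedness of the objectwise colimit for finite covering families. -/
theorem sep_ofArrows (hE : IsColimit E) {U : C} {n : ℕ} (V : Fin n → C) (g : ∀ k, V k ⟶ U)
    (hg : Sieve.ofArrows V g ∈ J U) (t₁ t₂ : E.pt.obj (op U))
    (h : ∀ k, E.pt.map (g k).op t₁ = E.pt.map (g k).op t₂) : t₁ = t₂ := by
  obtain ⟨i, s₁, s₂, rfl, rfl⟩ :=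
    Types.FilteredColimit.jointly_surjective_of_isColimit₂ (hEW hE U) t₁ t₂
  obtain ⟨j, f, hf⟩ := exists_common_eq (fun k => FW K (V k)) (fun k => EW K E (V k))
    (fun k => hEW hE (V k)) i (fun k => (K.obj i).obj.map (g k).op s₁)
    (fun k => (K.obj i).obj.map (g k).op s₂) (by
      intro k
      change (E.ι.app i).app (op (V k)) ((K.obj i).obj.map (g k).op s₁) =
        (E.ι.app i).app (op (V k)) ((K.obj i).obj.map (g k).op s₂)
      rw [ι_res, ι_res]
      exact h k)
  have hsep := (K_sheafFor (K := K) j V g hg).isSeparatedFor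
  have h2 : (K.map f).hom.app (op U) s₁ = (K.map f).hom.app (op U) s₂ := by
    refine hsep.ext ?_
    rintro _ _ ⟨k⟩
    rw [← K_res, ← K_res]
    exact hf k
  change (E.ι.app i).app (op U) s₁ = (E.ι.app i).app (op U) s₂
  rw [← ι_K f, ← ι_K f, h2]

/-- The sheaf condition of the objectwise colimit for finite covering families. -/
theorem isSheafFor_ofArrows (hE : IsColimit E) {U : C} {n : ℕ} (V : Fin n → C)
    (g : ∀ k, V k ⟶ U) (hg : Sieve.ofArrows V g ∈ J U) :
    Presieve.IsSheafFor E.pt (Presieve.ofArrows V g) := by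
  rw [Presieve.isSheafFor_arrows_iff_pullbacks]
  intro x hx
  obtain ⟨i, hi⟩ := exists_common_lift (fun k => FW K (V k)) (fun k => EW K E (V k))
    (fun k => hEW hE (V k)) x
  choose y hy using hi
  have hy' : ∀ k, (E.ι.app i).app (op (V k)) (y k) = x k := hy
  obtain ⟨j, f, hf⟩ := exists_common_eq
    (fun kl : Fin n × Fin n => FW K (pullback (g kl.1) (g kl.2)))
    (fun kl => EW K E (pullback (g kl.1) (g kl.2)))
    (fun kl => hEW hE (pullback (g kl.1) (g kl.2))) i
    (fun kl => (K.obj i).obj.map (pullback.fst (g kl.1) (g kl.2)).op (y kl.1))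
    (fun kl => (K.obj i).obj.map (pullback.snd (g kl.1) (g kl.2)).op (y kl.2)) (by
      intro kl
      change (E.ι.app i).app _ ((K.obj i).obj.map (pullback.fst (g kl.1) (g kl.2)).op (y kl.1)) =
        (E.ι.app i).app _ ((K.obj i).obj.map (pullback.snd (g kl.1) (g kl.2)).op (y kl.2))
      rw [ι_res, ι_res, hy', hy']
      exact hx kl.1 kl.2)
  have hz : Presieve.Arrows.PullbackCompatible (K.obj j).obj g
      (fun k => (K.map f).hom.app (op (V k)) (y k)) := by
    intro k l
    change (K.obj j).obj.map (pullback.fst (g k) (g l)).op ((K.map f).hom.app (op (V k)) (y k)) =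
      (K.obj j).obj.map (pullback.snd (g k) (g l)).op ((K.map f).hom.app (op (V l)) (y l))
    rw [← K_res, ← K_res]
    exact hf (k, l)
  obtain ⟨t, ht, -⟩ := (Presieve.isSheafFor_arrows_iff_pullbacks ..).1
    (K_sheafFor (K := K) j V g hg) _ hz
  refine ⟨(E.ι.app j).app (op U) t, ?_, ?_⟩
  · intro k
    change E.pt.map (g k).op ((E.ι.app j).app (op U) t) = x k
    rw [← ι_res, ht k, ι_K, hy']
  · intro t' ht'
    refine sep_ofArrows hE V g hg _ _ ?_
    intro k
    rw [ht' k]
    change x k = E.pt.map (g k).op ((E.ι.app j).app (op U) t)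
    rw [← ι_res, ht k, ι_K, hy']

end Groth.Agent.Lib.Helper21.FiltSheaf
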