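import Mathlib
import Groth.Agent.Lib.Helper21.FlatSmoothF

set_option autoImplicit false
set_option linter.style.haveILetI false

namespace Groth.Agent.Lib.Helper21.FlatSmooth

universe u v w

open IsLocalRing

theorem residue_bijective_of_isField (W : Type u) [CommRing W] [IsLocalRing W] (hW : IsField W) :
    Function.Bijective (residue W) := by
  refine ⟨?_, residue_surjective⟩
  letI : Field W := hW.toField
  exact RingHom.injective _

theorem S2457_aux {W W' : Type u} [CommRing W] [IsLocalRing W] [CommRing W'] [IsLocalRing W']
    (hW : EGA41.IsCohenRingEGA W) (hW' : EGA41.IsCohenRingEGA W')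
    (u : ResidueField W ≃+* ResidueField W') :
    ∃ v : W ≃+* W', ∀ x : W, residue W' (v x) = u (residue W x) := by
  rcases hW with ⟨hfield, hchar⟩ | ⟨hdom, hdvr, hcompl, p, hp, hm⟩
  · haveI := hchar
    have hb := residue_bijective_of_isField W hfield
    haveI : CharZero (ResidueField W) := charZero_of_injective_ringHom hb.1
    rcases hW' with ⟨hfield', hchar'⟩ | ⟨hdom', hdvr', hcompl', q, hq, hm'⟩
    · have hb' := residue_bijective_of_isField W' hfield'
      let eW : W ≃+* ResidueField W := RingEquiv.ofBijective (residue W) hb
      let eW' : W' ≃+* ResidueField W' := RingEquiv.ofBijective (residue W') hb'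
      refine ⟨eW.trans (u.trans eW'.symm), fun x => ?_⟩
      show eW' (eW'.symm (u (eW x))) = u (residue W x)
      rw [RingEquiv.apply_symm_apply]
      rfl
    · exfalso
      haveI : CharZero (ResidueField W') :=
        charZero_of_injective_ringHom (f := (u : ResidueField W →+* ResidueField W')) u.injective
      have hq0 : (q : ResidueField W') = 0 := by
        rw [← map_natCast (residue W'), residue_eq_zero_iff, hm']
        exact Ideal.mem_span_singleton_self _
      exact hq.ne_zero (by exact_mod_cast hq0)
  · haveI := hdom
    haveI := hdvr
    haveI := hcompl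
    have hp0 : (p : ResidueField W) = 0 := by
      rw [← map_natCast (residue W), residue_eq_zero_iff, hm]
      exact Ideal.mem_span_singleton_self _
    rcases hW' with ⟨hfield', hchar'⟩ | ⟨hdom', hdvr', hcompl', q, hq, hm'⟩
    · exfalso
      haveI := hchar'
      have hb' := residue_bijective_of_isField W' hfield'
      haveI : CharZero (ResidueField W') := charZero_of_injective_ringHom hb'.1
      haveI : CharZero (ResidueField W) :=
        charZero_of_injective_ringHom (f := (u.symm : ResidueField W' →+* ResidueField W))
          u.symm.injective
      exact hp.ne_zero (by exact_mod_cast hp0)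
    · haveI := hdom'
      haveI := hdvr'
      haveI := hcompl'
      have hq0 : (q : ResidueField W') = 0 := by
        rw [← map_natCast (residue W'), residue_eq_zero_iff, hm']
        exact Ideal.mem_span_singleton_self _
      haveI : CharP (ResidueField W') q := (CharP.charP_iff_prime_eq_zero hq).mpr hq0
      have hp0' : (p : ResidueField W') = 0 := by
        rw [← map_natCast u, hp0, map_zero]
      have hqp : q = p :=
        (Nat.prime_dvd_prime_iff_eq hq hp).mp ((CharP.cast_eq_zero_iff (ResidueField W') q p).mp hp0')
      subst hqp
      have hqW' : (q : W') ∈ maximalIdeal W' := by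
        rw [hm']; exact Ideal.mem_span_singleton_self _
      have HT : ∀ n, TowerHyp (A := ℤ) W (maximalIdeal W') n := by
        intro n N h hN2
        refine lifts_cohen_dvr W q hq hm (Ideal.Quotient.factorₐ ℤ h)
          (Ideal.Quotient.factor_surjective h) ⟨2, ker_factor_sq h hN2⟩ (n + 1) (by omega) ?_
        rw [← map_natCast (Ideal.Quotient.mk (maximalIdeal W' ^ (n + 1))), ← map_pow,
          Ideal.Quotient.eq_zero_iff_mem]
        exact Ideal.pow_mem_pow hqW' (n + 1)
      let f : W →ₐ[ℤ] W' ⧸ maximalIdeal W' :=
        ((u : ResidueField W →+* ResidueField W').comp (residue W)).toIntAlgHom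
      haveI : IsHausdorff ((maximalIdeal W').map (Ideal.Quotient.mk (maximalIdeal W')))
          (W' ⧸ maximalIdeal W') := by
        rw [Ideal.map_quotient_self]; infer_instance
      obtain ⟨g, hg⟩ := exists_lift_of_tower (le_refl (maximalIdeal W')) HT f
      have hg' : ∀ a, residue W' (g a) = u (residue W a) := fun a => congrArg (fun k => k a) hg
      have hmg : (maximalIdeal W).map (g : W →+* W') = maximalIdeal W' := by
        rw [hm, Ideal.map_span, Set.image_singleton, hm']
        congr 2
        exact map_natCast g q
      have hbij : Function.Bijective (g : W →+* W') := by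
        apply bijective_of_dvr _ hmg
        intro y
        obtain ⟨x, rfl⟩ := u.surjective y
        obtain ⟨b, rfl⟩ := residue_surjective x
        exact ⟨b, hg' b⟩
      exact ⟨RingEquiv.ofBijective (g : W →+* W') hbij, hg'⟩

end Groth.Agent.Lib.Helper21.FlatSmooth
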