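import Mathlib.RingTheory.Localization.FractionRing
import Mathlib.Algebra.Algebra.Subalgebra.Basic

/-!
Helper lemmas about subalgebras of a total ring of fractions.
-/

set_option autoImplicit false
universe u

namespace Groth.Agent.Lib.Helper21

/-- An element of a subalgebra `B` of `Q` whose image in `Q` is a unit is a nonzerodivisor of `B`. -/
theorem mem_nonZeroDivisors_of_isUnit_val {A Q : Type u} [CommRing A] [CommRing Q] [Algebra A Q]
    (B : Subalgebra A Q) (b : B) (hb : IsUnit (b : Q)) : b ∈ nonZeroDivisors B := by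
  rw [mem_nonZeroDivisors_iff_right]
  intro x hx
  have h : (x : Q) * (b : Q) = 0 := by
    have := congrArg (Subtype.val) hx
    simpa using this
  have hx0 : (x : Q) = 0 := (hb.mul_left_eq_zero).1 h
  exact Subtype.ext hx0

/-- A nonzerodivisor of `B` (with `A ⊆ B ⊆ Frac A`) is a fraction of nonzerodivisors of `A`. -/
theorem exists_nzd_fraction {A Q : Type u} [CommRing A] [CommRing Q] [Algebra A Q] [IsFractionRing A Q]
    (B : Subalgebra A Q) (b : B) (hb : b ∈ nonZeroDivisors B) :
    ∃ r u : A, r ∈ nonZeroDivisors A ∧ u ∈ nonZeroDivisors A ∧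
      (b : Q) * algebraMap A Q u = algebraMap A Q r := by
  obtain ⟨⟨r, s⟩, h⟩ := IsLocalization.surj (nonZeroDivisors A) (b : Q)
  refine ⟨r, s, ?_, s.2, h⟩
  rw [mem_nonZeroDivisors_iff_right]
  intro a ha
  -- a * r = 0 in A
  have h1 : algebraMap A B (a * (s : A)) * b = 0 := by
    apply Subtype.ext
    have : algebraMap A Q a * algebraMap A Q (s : A) * (b : Q) = 0 := by
      calc algebraMap A Q a * algebraMap A Q (s : A) * (b : Q)
          = algebraMap A Q a * ((b : Q) * algebraMap A Q (s : A)) := by ring
        _ = algebraMap A Q a * algebraMap A Q r := by rw [h]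
        _ = algebraMap A Q (a * r) := by rw [map_mul]
        _ = 0 := by rw [ha, map_zero]
    simpa [map_mul] using this
  have h2 : algebraMap A B (a * (s : A)) = 0 := (mem_nonZeroDivisors_iff_right.1 hb) _ h1
  have h3 : algebraMap A Q (a * (s : A)) = 0 := by
    have := congrArg (Subtype.val) h2
    simpa using this
  have h4 : a * (s : A) = 0 := by
    apply IsFractionRing.injective A Q
    rw [h3, map_zero]
  exact (mem_nonZeroDivisors_iff_right.1 s.2) _ h4

end Groth.Agent.Lib.Helper21
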