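import Mathlib
import Groth.Prelude.Def_GSzH1

namespace Groth.Agent.Lib.Helper21.FrobCocycle

universe u v

open GpH1

section basics
variable {G : Type u} {A : Type v} [Group G] [Group A] [MulDistribMulAction G A]

theorem cocycle_one {z : G → A} (hz : IsOneCocycle z) : z 1 = 1 := by
  have h := hz 1 1
  rw [one_smul, mul_one] at h
  exact (mul_eq_left.1 h.symm)

theorem cocycle_inv {z : G → A} (hz : IsOneCocycle z) (σ : G) : z σ⁻¹ = (σ⁻¹ • z σ)⁻¹ := by
  have h := hz σ⁻¹ σ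
  rw [inv_mul_cancel, cocycle_one hz] at h
  exact eq_inv_of_mul_eq_one_left h.symm

/-- the subgroup where two cocycles agree -/
def eqSubgroup {z z' : G → A} (hz : IsOneCocycle z) (hz' : IsOneCocycle z') : Subgroup G where
  carrier := {σ | z σ = z' σ}
  one_mem' := by
    show z 1 = z' 1
    rw [cocycle_one hz, cocycle_one hz']
  mul_mem' := by
    intro σ τ hσ hτ
    show z (σ * τ) = z' (σ * τ)
    rw [hz, hz', show z σ = z' σ from hσ, show z τ = z' τ from hτ]
  inv_mem' := by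
    intro σ hσ
    show z σ⁻¹ = z' σ⁻¹
    rw [cocycle_inv hz, cocycle_inv hz', show z σ = z' σ from hσ]

/-- the twist of a cocycle -/
theorem isOneCocycle_twist {z : G → A} (hz : IsOneCocycle z) (g : A) :
    IsOneCocycle (fun σ => g * z σ * (σ • g)⁻¹) := by
  intro σ τ
  show g * z (σ * τ) * ((σ * τ) • g)⁻¹ = g * z σ * (σ • g)⁻¹ * σ • (g * z τ * (τ • g)⁻¹)
  rw [hz, smul_mul', smul_mul', smul_inv', mul_smul]
  group

end basics

section top
variable {G : Type u} {A : Type v} [Group G] [Group A] [MulDistribMulAction G A]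
  [TopologicalSpace G] [IsTopologicalGroup G]

theorem isLocallyConstant_smul (g : A) (hg : IsOpen {σ : G | σ • g = g}) :
    IsLocallyConstant (fun σ : G => σ • g) := by
  rw [IsLocallyConstant.iff_exists_open]
  intro σ
  refine ⟨(fun τ => σ⁻¹ * τ) ⁻¹' {ρ : G | ρ • g = g}, hg.preimage (continuous_const_mul σ⁻¹), ?_, ?_⟩
  · show (σ⁻¹ * σ) • g = g
    rw [inv_mul_cancel, one_smul]
  · intro τ hτ
    have h : (σ⁻¹ * τ) • g = g := hτ
    show τ • g = σ • g
    calc τ • g = (σ * (σ⁻¹ * τ)) • g := by rw [mul_inv_cancel_left]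
      _ = σ • g := by rw [mul_smul, h]

theorem isLocallyConstant_twist {z : G → A} (hz : IsLocallyConstant z) (g : A)
    (hg : IsOpen {σ : G | σ • g = g}) :
    IsLocallyConstant (fun σ => g * z σ * (σ • g)⁻¹) := by
  have h1 : IsLocallyConstant (fun σ : G => σ • g) := isLocallyConstant_smul g hg
  have h2 : IsLocallyConstant (fun _ : G => g) := IsLocallyConstant.const g
  exact (h2.mul hz).mul h1.inv

theorem eqSubgroup_isOpen {z z' : G → A} (hz : IsOneCocycle z) (hz' : IsOneCocycle z')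
    (hl : IsLocallyConstant z) (hl' : IsLocallyConstant z') :
    IsOpen (eqSubgroup hz hz' : Set G) := by
  have h : IsLocallyConstant (fun σ => (z σ, z' σ)) := hl.prodMk hl'
  exact h {p | p.1 = p.2}

end top

section bseq
variable {G : Type u} {A : Type v} [Group G] [Group A] [MulDistribMulAction G A]

/-- the partial twisted products `a · π(a) · … · π^{n-1}(a)` -/
def bseq (π : G) (a : A) : ℕ → A
  | 0 => 1
  | n + 1 => a * π • bseq π a n

theorem bseq_zero (π : G) (a : A) : bseq π a 0 = 1 := rfl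
theorem bseq_succ (π : G) (a : A) (n : ℕ) : bseq π a (n + 1) = a * π • bseq π a n := rfl

theorem bseq_one (π : G) (a : A) : bseq π a 1 = a := by
  rw [bseq_succ, bseq_zero, smul_one, mul_one]

theorem bseq_add (π : G) (a : A) (i j : ℕ) :
    bseq π a (i + j) = bseq π a i * π ^ i • bseq π a j := by
  induction i with
  | zero => rw [Nat.zero_add, bseq_zero, pow_zero, one_smul, one_mul]
  | succ i ih =>
    rw [Nat.succ_add, bseq_succ, ih, bseq_succ, smul_mul', pow_succ', mul_smul, mul_assoc]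

theorem bseq_mem (π : G) (a : A) (H : Subgroup A) (ha : a ∈ H)
    (hH : ∀ x ∈ H, π • x ∈ H) (n : ℕ) : bseq π a n ∈ H := by
  induction n with
  | zero => exact H.one_mem
  | succ n ih => exact H.mul_mem ha (hH _ ih)

theorem bseq_mul (π : G) (a : A) (H : Subgroup A) (ha : a ∈ H)
    (hH : ∀ x ∈ H, π • x ∈ H) (d : ℕ) (hd : ∀ x ∈ H, π ^ d • x = x) (j : ℕ) :
    bseq π a (d * j) = bseq π a d ^ j := by
  induction j with
  | zero => rw [Nat.mul_zero, bseq_zero, pow_zero]
  | succ j ih =>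
    rw [Nat.mul_succ, Nat.add_comm, bseq_add, hd _ (bseq_mem π a H ha hH _), ih, pow_succ']

theorem bseq_periodic (π : G) (a : A) (m : ℕ) (hm : bseq π a m = 1) :
    Function.Periodic (bseq π a) m := by
  intro n
  rw [bseq_add, hm, smul_one, mul_one]

theorem bseq_eq_of_dvd (π : G) (a : A) (m : ℕ) (hm : bseq π a m = 1) (n t : ℕ) (ht : m ∣ t) :
    bseq π a (n + t) = bseq π a n := by
  obtain ⟨s, rfl⟩ := ht
  have := (bseq_periodic π a m hm).nat_mul s n
  simpa [mul_comm] using this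

end bseq


section construct
variable {G : Type u} {A : Type v} [Group G] [Group A] [MulDistribMulAction G A]
  [TopologicalSpace G] [IsTopologicalGroup G]

theorem exists_rep (π : G)
    (hD : ∀ V : Subgroup G, IsOpen (V : Set G) → π ∈ V → V = ⊤)
    (W : Subgroup G) [hWn : W.Normal] (hWo : IsOpen (W : Set G)) (m : ℕ) (hm : 0 < m)
    (hπm : π ^ m ∈ W) (σ : G) : ∃ n : ℕ, (π ^ n)⁻¹ * σ ∈ W := by
  have hT : Subgroup.zpowers π ⊔ W = ⊤ := by
    apply hD
    · exact Subgroup.isOpen_mono le_sup_right hWo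
    · exact Subgroup.mem_sup_left (Subgroup.mem_zpowers π)
  have hσ : σ ∈ ((Subgroup.zpowers π ⊔ W : Subgroup G) : Set G) := by
    rw [hT]; exact Set.mem_univ _
  rw [Subgroup.mul_normal] at hσ
  obtain ⟨x, hx, w, hw, rfl⟩ := hσ
  obtain ⟨j, rfl⟩ := Subgroup.mem_zpowers_iff.1 hx
  have hm' : (m : ℤ) ≠ 0 := by exact_mod_cast hm.ne'
  refine ⟨(j % (m : ℤ)).toNat, ?_⟩
  have h1 : (((j % (m : ℤ)).toNat : ℕ) : ℤ) = j % m := Int.toNat_of_nonneg (Int.emod_nonneg j hm')
  have h2 : (π ^ (j % (m : ℤ)).toNat)⁻¹ * π ^ j = (π ^ m) ^ (j / (m : ℤ)) := by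
    rw [← zpow_natCast π (j % (m : ℤ)).toNat, h1, ← zpow_neg, ← zpow_add, ← zpow_natCast π m,
      ← zpow_mul]
    congr 1
    have := Int.emod_add_mul_ediv j m
    linarith
  have h3 : (π ^ (j % (m : ℤ)).toNat)⁻¹ * (π ^ j * w) = (π ^ m) ^ (j / (m : ℤ)) * w := by
    rw [← mul_assoc, h2]
  rw [h3]
  exact W.mul_mem (W.zpow_mem hπm _) hw

end construct


section construct2
variable {G : Type u} {A : Type v} [Group G] [Group A] [MulDistribMulAction G A]
  [TopologicalSpace G] [IsTopologicalGroup G]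

/-- given a normal open subgroup `W` acting trivially on `H` and with `π^n ∈ W ↔ m ∣ n`,
and `b_m = 1`, there is a locally constant cocycle with value `a` at `π` -/
theorem exists_cocycle_aux (π : G)
    (hD : ∀ V : Subgroup G, IsOpen (V : Set G) → π ∈ V → V = ⊤)
    (a : A) (H : Subgroup A) (ha : a ∈ H)
    (hH : ∀ (σ : G) (x : A), x ∈ H → σ • x ∈ H)
    (W : Subgroup G) [hWn : W.Normal] (hWo : IsOpen (W : Set G)) (m : ℕ) (hm : 0 < m)
    (hW : ∀ n : ℕ, π ^ n ∈ W ↔ m ∣ n)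
    (hWU : ∀ w ∈ W, ∀ x ∈ H, w • x = x)
    (hbm : bseq π a m = 1) :
    ∃ z : G → A, IsOneCocycle z ∧ IsLocallyConstant z ∧ z π = a := by
  have hπm : π ^ m ∈ W := (hW m).2 dvd_rfl
  have hrep := exists_rep π hD W hWo m hm hπm
  choose N hN using hrep
  -- key lemma
  have hK1 : ∀ n t : ℕ, (π ^ n)⁻¹ * π ^ (n + t) ∈ W → bseq π a (n + t) = bseq π a n := by
    intro n t h
    rw [pow_add, inv_mul_cancel_left] at h
    exact bseq_eq_of_dvd π a m hbm n t ((hW t).1 h)
  have hK : ∀ n n' : ℕ, (π ^ n)⁻¹ * π ^ n' ∈ W → bseq π a n = bseq π a n' := by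
    intro n n' h
    rcases Nat.le_total n n' with hle | hle
    · obtain ⟨t, rfl⟩ := Nat.exists_eq_add_of_le hle
      exact (hK1 n t h).symm
    · obtain ⟨t, rfl⟩ := Nat.exists_eq_add_of_le hle
      apply hK1 n' t
      have := W.inv_mem h
      rwa [mul_inv_rev, inv_inv] at this
  have hM : ∀ (σ : G) (n : ℕ), (π ^ n)⁻¹ * σ ∈ W → bseq π a (N σ) = bseq π a n := by
    intro σ n h
    apply hK
    have h1 := W.mul_mem (hN σ) (W.inv_mem h)
    rwa [mul_inv_rev, inv_inv, mul_assoc, mul_inv_cancel_left] at h1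
  have hbH : ∀ n, bseq π a n ∈ H := bseq_mem π a H ha (fun x hx => hH π x hx)
  refine ⟨fun σ => bseq π a (N σ), ?_, ?_, ?_⟩
  · intro σ τ
    show bseq π a (N (σ * τ)) = bseq π a (N σ) * σ • bseq π a (N τ)
    have h1 : (π ^ (N σ + N τ))⁻¹ * (σ * τ) ∈ W := by
      have e : (π ^ (N σ + N τ))⁻¹ * (σ * τ) =
          ((π ^ N τ)⁻¹ * ((π ^ N σ)⁻¹ * σ) * ((π ^ N τ)⁻¹)⁻¹) * ((π ^ N τ)⁻¹ * τ) := by
        rw [pow_add]; group
      rw [e]
      exact W.mul_mem (hWn.conj_mem _ (hN σ) _) (hN τ)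
    rw [hM _ _ h1, bseq_add]
    congr 1
    have h2 : σ = π ^ N σ * ((π ^ N σ)⁻¹ * σ) := by rw [mul_inv_cancel_left]
    conv_rhs => rw [h2, mul_smul, hWU _ (hN σ) _ (hbH _)]
  · rw [IsLocallyConstant.iff_exists_open]
    intro σ
    refine ⟨(fun τ => σ⁻¹ * τ) ⁻¹' (W : Set G), hWo.preimage (continuous_const_mul σ⁻¹), ?_, ?_⟩
    · show σ⁻¹ * σ ∈ W
      rw [inv_mul_cancel]; exact W.one_mem
    · intro τ hτ
      have hτ' : σ⁻¹ * τ ∈ W := hτ
      show bseq π a (N τ) = bseq π a (N σ)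
      apply hM
      have := W.mul_mem (hN σ) hτ'
      rwa [mul_assoc, mul_inv_cancel_left] at this
  · show bseq π a (N π) = a
    have : (π ^ 1)⁻¹ * π ∈ W := by
      rw [pow_one, inv_mul_cancel]; exact W.one_mem
    rw [hM π 1 this, bseq_one]

end construct2


section construct3
variable {G : Type u} {A : Type v} [Group G] [Group A] [MulDistribMulAction G A]
  [TopologicalSpace G] [IsTopologicalGroup G]

theorem exists_cocycle (π : G)
    (hD : ∀ V : Subgroup G, IsOpen (V : Set G) → π ∈ V → V = ⊤)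
    (hE : ∀ m : ℕ, 0 < m → ∃ V : Subgroup G, V.Normal ∧ IsOpen (V : Set G) ∧
      ∀ n : ℕ, π ^ n ∈ V ↔ m ∣ n)
    (hcont : ∀ a : A, IsOpen {σ : G | σ • a = a})
    (a : A) (H : Subgroup A) (hHfin : (H : Set A).Finite) (ha : a ∈ H)
    (hH : ∀ (σ : G) (x : A), x ∈ H → σ • x ∈ H) :
    ∃ z : G → A, IsOneCocycle z ∧ IsLocallyConstant z ∧ z π = a := by
  haveI : Finite H := hHfin.to_subtype
  haveI : IsStable G H := ⟨hH⟩
  letI : MulDistribMulAction G H := subgroupAction H
  let ρ : G →* Equiv.Perm H := MulAction.toPermHom G H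
  have hρ : ∀ σ : G, σ ∈ ρ.ker ↔ ∀ x ∈ H, σ • x = x := by
    intro σ
    rw [MonoidHom.mem_ker, Equiv.Perm.ext_iff]
    constructor
    · intro h x hx
      have := h ⟨x, hx⟩
      exact congrArg Subtype.val this
    · intro h x
      apply Subtype.ext
      exact h x.1 x.2
  have hUo : IsOpen (ρ.ker : Set G) := by
    have : (ρ.ker : Set G) = ⋂ x : H, {σ : G | σ • (x : A) = x} := by
      ext σ
      rw [SetLike.mem_coe, hρ, Set.mem_iInter]
      constructor
      · intro h x; exact h x.1 x.2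
      · intro h x hx; exact h ⟨x, hx⟩
    rw [this]
    exact isOpen_iInter_of_finite fun x => hcont x
  set d := orderOf (ρ π) with hd
  have hd0 : 0 < d := orderOf_pos (ρ π)
  have hπd : π ^ d ∈ ρ.ker := by
    rw [MonoidHom.mem_ker, map_pow, hd, pow_orderOf_eq_one]
  have hc0 : 0 < Nat.card H := Nat.card_pos
  have hm0 : 0 < d * Nat.card H := Nat.mul_pos hd0 hc0
  have hHπ : ∀ x ∈ H, π • x ∈ H := fun x hx => hH π x hx
  have hbm : bseq π a (d * Nat.card H) = 1 := by
    rw [bseq_mul π a H ha hHπ d ((hρ _).1 hπd)]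
    have h1 : (⟨bseq π a d, bseq_mem π a H ha hHπ d⟩ : H) ^ Nat.card H = 1 := pow_card_eq_one'
    exact congrArg Subtype.val h1
  have hπm : π ^ (d * Nat.card H) ∈ ρ.ker := by
    rw [pow_mul]; exact Subgroup.pow_mem _ hπd _
  obtain ⟨V, hVn, hVo, hV⟩ := hE _ hm0
  haveI : (V ⊓ ρ.ker).Normal := inferInstance
  apply exists_cocycle_aux π hD a H ha hH (V ⊓ ρ.ker) (hVo.inter hUo) _ hm0
  · intro n
    rw [Subgroup.mem_inf, hV]
    constructor
    · exact fun h => h.1
    · intro h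
      refine ⟨h, ?_⟩
      obtain ⟨s, rfl⟩ := h
      rw [pow_mul]; exact Subgroup.pow_mem _ hπm _
  · intro w hw
    exact (hρ w).1 hw.2
  · exact hbm

end construct3


section main
variable {G : Type u} {A : Type v} [Group G] [Group A] [MulDistribMulAction G A]
  [TopologicalSpace G] [IsTopologicalGroup G]

/-- Abstract form: a topological group `G` with an element `π` such that every open subgroup
containing `π` is everything, and which has normal open subgroups `V_m` with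
`π^n ∈ V_m ↔ m ∣ n` for every `m ≥ 1` (i.e. `G` is a copy of `Ẑ` generated by `π`). -/
theorem main (π : G)
    (hD : ∀ V : Subgroup G, IsOpen (V : Set G) → π ∈ V → V = ⊤)
    (hE : ∀ m : ℕ, 0 < m → ∃ V : Subgroup G, V.Normal ∧ IsOpen (V : Set G) ∧
      ∀ n : ℕ, π ^ n ∈ V ↔ m ∣ n)
    (hcont : ∀ a : A, IsOpen {σ : G | σ • a = a})
    (hfin : ∀ a : A, ∃ H : Subgroup A, (H : Set A).Finite ∧ a ∈ H ∧
      ∀ (σ : G) (x : A), x ∈ H → σ • x ∈ H) :
    Function.Bijective (fun z : OneCocycleLC G A => z.1 π) ∧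
      ∀ z z' : OneCocycleLC G A,
        z.cl = z'.cl ↔ ∃ g : A, z'.1 π = g * z.1 π * (π • g)⁻¹ := by
  have hinj : Function.Injective (fun z : OneCocycleLC G A => z.1 π) := by
    intro z z' h
    have h' : z.1 π = z'.1 π := h
    have hS : eqSubgroup z.1.2 z'.1.2 = ⊤ :=
      hD _ (eqSubgroup_isOpen z.1.2 z'.1.2 z.2 z'.2) h'
    apply Subtype.ext
    apply OneCocycle.ext
    intro σ
    have : σ ∈ eqSubgroup z.1.2 z'.1.2 := by rw [hS]; exact Subgroup.mem_top σ
    exact this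
  refine ⟨⟨hinj, ?_⟩, ?_⟩
  · intro a
    obtain ⟨H, hHfin, ha, hH⟩ := hfin a
    obtain ⟨z, hz, hl, hza⟩ := exists_cocycle π hD hE hcont a H hHfin ha hH
    exact ⟨⟨⟨z, hz⟩, hl⟩, hza⟩
  · intro z z'
    rw [OneCocycleLC.cl_eq_cl_iff]
    constructor
    · rintro ⟨c, hc⟩
      refine ⟨c, ?_⟩
      rw [hc π]; group
    · rintro ⟨g, hg⟩
      let z'' : OneCocycleLC G A :=
        ⟨⟨fun σ => g * z.1 σ * (σ • g)⁻¹, isOneCocycle_twist z.1.2 g⟩,
          isLocallyConstant_twist z.2 g (hcont g)⟩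
      have h1 : z'' = z' := hinj (by show g * z.1 π * (π • g)⁻¹ = z'.1 π; exact hg.symm)
      refine ⟨g, fun σ => ?_⟩
      have h2 : z'.1 σ = g * z.1 σ * (σ • g)⁻¹ := by rw [← h1]
      rw [h2]; group

end main

end Groth.Agent.Lib.Helper21.FrobCocycle
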