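import Mathlib

namespace Groth.Agent.Lib.Helper21.FrobDense

open IntermediateField

section
variable (k : Type*) [Field k] [Finite k]

/-- finite-dimensional subextension of a finite field is finite -/
theorem finite_of_finDim (E : IntermediateField k (AlgebraicClosure k)) [FiniteDimensional k E] :
    Finite E := Module.finite_of_finite k

variable {k}
variable (π : AlgebraicClosure k ≃ₐ[k] AlgebraicClosure k)
  (hπ : ∀ x : AlgebraicClosure k, π x = x ^ Nat.card k)

include hπ

theorem restrict_eq_frob [Fintype k] (E : IntermediateField k (AlgebraicClosure k))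
    [FiniteDimensional k E] [Normal k E] :
    AlgEquiv.restrictNormalHom E π = FiniteField.frobeniusAlgEquivOfAlgebraic k E := by
  ext x
  rw [AlgEquiv.restrictNormalHom_apply, hπ]
  simp [FiniteField.coe_frobeniusAlgEquivOfAlgebraic, Nat.card_eq_fintype_card]

/-- every element of the Galois group agrees with a power of Frobenius on `E` -/
theorem exists_pow_mem_fixingSubgroup (E : IntermediateField k (AlgebraicClosure k))
    [FiniteDimensional k E] (σ : AlgebraicClosure k ≃ₐ[k] AlgebraicClosure k) :
    ∃ n : ℕ, (π ^ n)⁻¹ * σ ∈ E.fixingSubgroup := by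
  haveI : Fintype k := Fintype.ofFinite k
  haveI : Finite E := finite_of_finDim k E
  haveI : Normal k E := inferInstance
  obtain ⟨n, hn⟩ := (FiniteField.bijective_frobeniusAlgEquivOfAlgebraic_pow k E).2
    (AlgEquiv.restrictNormalHom E σ)
  refine ⟨n.1, ?_⟩
  rw [← IntermediateField.restrictNormalHom_ker, MonoidHom.mem_ker, map_mul, map_inv, map_pow,
    restrict_eq_frob π hπ E]
  simp only at hn
  rw [hn, inv_mul_cancel]

theorem pow_mem_fixingSubgroup_iff (E : IntermediateField k (AlgebraicClosure k))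
    [FiniteDimensional k E] (n : ℕ) :
    π ^ n ∈ E.fixingSubgroup ↔ Module.finrank k E ∣ n := by
  haveI : Fintype k := Fintype.ofFinite k
  haveI : Finite E := finite_of_finDim k E
  haveI : Normal k E := inferInstance
  rw [← IntermediateField.restrictNormalHom_ker, MonoidHom.mem_ker, map_pow,
    restrict_eq_frob π hπ E, ← orderOf_dvd_iff_pow_eq_one,
    FiniteField.orderOf_frobeniusAlgEquivOfAlgebraic]


/-- every open subgroup containing Frobenius is everything -/
theorem eq_top_of_isOpen_of_mem
    (V : Subgroup (AlgebraicClosure k ≃ₐ[k] AlgebraicClosure k))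
    (hV : IsOpen (V : Set (AlgebraicClosure k ≃ₐ[k] AlgebraicClosure k))) (h : π ∈ V) : V = ⊤ := by
  have h1 : (V : Set (AlgebraicClosure k ≃ₐ[k] AlgebraicClosure k)) ∈ nhds 1 :=
    hV.mem_nhds V.one_mem
  rw [krullTopology_mem_nhds_one_iff] at h1
  obtain ⟨E, hE, hEV⟩ := h1
  rw [eq_top_iff]
  intro σ _
  obtain ⟨n, hn⟩ := exists_pow_mem_fixingSubgroup π hπ E σ
  have h2 : (π ^ n)⁻¹ * σ ∈ V := hEV hn
  have h3 := V.mul_mem (V.pow_mem h n) h2
  rwa [mul_inv_cancel_left] at h3

end

theorem exists_intermediateField_finrank (k : Type*) [Field k] [Finite k] (m : ℕ) (hm : 0 < m) :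
    ∃ E : IntermediateField k (AlgebraicClosure k), FiniteDimensional k E ∧
      Module.finrank k E = m := by
  obtain ⟨p, hp⟩ := CharP.exists k
  haveI : CharP k p := hp
  haveI : Fact p.Prime := ⟨CharP.char_is_prime k p⟩
  haveI : NeZero m := ⟨hm.ne'⟩
  let f : FiniteField.Extension k p m →ₐ[k] AlgebraicClosure k :=
    IsAlgClosed.lift
  let e : FiniteField.Extension k p m ≃ₐ[k] f.fieldRange := AlgEquiv.ofInjectiveField f
  refine ⟨f.fieldRange, ?_, ?_⟩
  · exact Module.Finite.equiv e.toLinearEquiv
  · rw [← e.toLinearEquiv.finrank_eq, FiniteField.finrank_extension]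

theorem exists_open_normal {k : Type*} [Field k] [Finite k]
    (π : AlgebraicClosure k ≃ₐ[k] AlgebraicClosure k)
    (hπ : ∀ x : AlgebraicClosure k, π x = x ^ Nat.card k) (m : ℕ) (hm : 0 < m) :
    ∃ V : Subgroup (AlgebraicClosure k ≃ₐ[k] AlgebraicClosure k), V.Normal ∧
      IsOpen (V : Set (AlgebraicClosure k ≃ₐ[k] AlgebraicClosure k)) ∧
      ∀ n : ℕ, π ^ n ∈ V ↔ m ∣ n := by
  obtain ⟨E, hE, hEm⟩ := exists_intermediateField_finrank k m hm
  haveI : Finite E := finite_of_finDim k E
  haveI : Normal k E := inferInstance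
  refine ⟨E.fixingSubgroup, ?_, E.fixingSubgroup_isOpen, ?_⟩
  · rw [← IntermediateField.restrictNormalHom_ker]
    exact MonoidHom.normal_ker _
  · intro n
    rw [pow_mem_fixingSubgroup_iff π hπ E n, hEm]

end Groth.Agent.Lib.Helper21.FrobDense
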