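import Mathlib
import Groth.Agent.Lib.Helper21.GeomRegD

set_option autoImplicit false
set_option linter.style.haveILetI false

namespace Groth.Agent.Lib.Helper21.GeomReg

open IsLocalRing TensorProduct

universe u

section transport

theorem isGeometricallyRegular_of_algEquiv {K X Y : Type u} [Field K] [CommRing X] [CommRing Y]
    [Algebra K X] [Algebra K Y] (e : X ≃ₐ[K] Y) (h : CAlg.IsGeometricallyRegular K X) :
    CAlg.IsGeometricallyRegular K Y := by
  intro k' _ _ hfin
  haveI := h k' hfin
  exact IsRegularRing.of_ringEquiv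
    (Algebra.TensorProduct.congr (AlgEquiv.refl (R := K) (A₁ := k')) e).toRingEquiv

/-- geometric regularity descends along arbitrary field extensions -/
theorem isGeometricallyRegular_of_baseChange (k S K : Type u) [Field k] [CommRing S] [Algebra k S]
    [Field K] [Algebra k K] (h : CAlg.IsGeometricallyRegular K (K ⊗[k] S)) :
    CAlg.IsGeometricallyRegular k S := by
  intro k' _ _ hfin
  haveI := hfin
  obtain ⟨L, _, _, _, _, _, _, hL⟩ := exists_compositum k k' K
  haveI := h L hL
  haveI : IsRegularRing (L ⊗[k] S) := IsRegularRing.of_ringEquiv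
    (Algebra.TensorProduct.cancelBaseChange k K L L S).toRingEquiv
  exact isRegularRing_of_tower k k' L S inferInstance

theorem isGeometricallyRegular_baseChange_of_finiteType (k F K : Type u) [Field k] [CommRing F]
    [Algebra k F] [Algebra.FiniteType k F] [Field K] [Algebra k K]
    (h : CAlg.IsGeometricallyRegular k F) : CAlg.IsGeometricallyRegular K (K ⊗[k] F) := by
  intro L _ _ hfin
  letI : Algebra k L := ((algebraMap K L).comp (algebraMap k K)).toAlgebra
  haveI : IsScalarTower k K L := IsScalarTower.of_algebraMap_eq (fun _ => rfl)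
  haveI : IsNoetherianRing F := Algebra.FiniteType.isNoetherianRing k F
  haveI : IsNoetherianRing (L ⊗[k] F) := Algebra.FiniteType.isNoetherianRing L (L ⊗[k] F)
  haveI := isRegularRing_baseChange_of_isGeometricallyRegular k F h L
  exact IsRegularRing.of_ringEquiv
    (Algebra.TensorProduct.cancelBaseChange k K L L F).toRingEquiv.symm

end transport

section hom

variable (R Λ R' : Type u) [CommRing R] [CommRing Λ] [CommRing R'] [Algebra R Λ] [Algebra R R']

theorem isRegularHom_baseChange (hft : Algebra.FiniteType R Λ ∨ Algebra.EssFiniteType R R')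
    (h : CAlg.IsRegularHom R Λ) : CAlg.IsRegularHom R' (R' ⊗[R] Λ) := by
  obtain ⟨hflat, hfib⟩ := h
  refine ⟨inferInstance, fun p' _ => ?_⟩
  let p : Ideal R := p'.comap (algebraMap R R')
  haveI : p.IsPrime := Ideal.comap_isPrime _ _
  obtain ⟨hN, hG⟩ := hfib p
  letI : Algebra p.ResidueField p'.ResidueField :=
    (Ideal.ResidueField.map p p' (algebraMap R R') rfl).toAlgebra
  haveI : IsScalarTower R p.ResidueField p'.ResidueField := .of_algebraMap_eq (fun r => by
    rw [RingHom.algebraMap_toAlgebra, Ideal.ResidueField.map_algebraMap,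
      ← IsScalarTower.algebraMap_apply])
  let e1 : p'.Fiber (R' ⊗[R] Λ) ≃ₐ[p'.ResidueField] p'.ResidueField ⊗[R] Λ :=
    Algebra.TensorProduct.cancelBaseChange R R' p'.ResidueField p'.ResidueField Λ
  let e2 : p'.ResidueField ⊗[p.ResidueField] (p.Fiber Λ) ≃ₐ[p'.ResidueField]
      p'.ResidueField ⊗[R] Λ :=
    Algebra.TensorProduct.cancelBaseChange R p.ResidueField p'.ResidueField p'.ResidueField Λ
  let e := e2.trans e1.symm
  have key : IsNoetherianRing (p'.ResidueField ⊗[p.ResidueField] (p.Fiber Λ)) ∧
      CAlg.IsGeometricallyRegular p'.ResidueField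
        (p'.ResidueField ⊗[p.ResidueField] (p.Fiber Λ)) := by
    rcases hft with hft | hft
    · haveI : Algebra.FiniteType p.ResidueField (p.Fiber Λ) := inferInstance
      exact ⟨Algebra.FiniteType.isNoetherianRing p'.ResidueField
          (p'.ResidueField ⊗[p.ResidueField] (p.Fiber Λ)),
        isGeometricallyRegular_baseChange_of_finiteType p.ResidueField (p.Fiber Λ)
          p'.ResidueField hG⟩
    · haveI : Algebra.EssFiniteType R p'.ResidueField := .comp R R' p'.ResidueField
      haveI : Algebra.EssFiniteType p.ResidueField p'.ResidueField :=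
        .of_comp R p.ResidueField p'.ResidueField
      exact ⟨isNoetherianRing_baseChange_essFiniteType p.ResidueField (p.Fiber Λ)
        p'.ResidueField, (S2674_aux p.ResidueField (p.Fiber Λ) p'.ResidueField).mp hG⟩
  haveI := key.1
  exact ⟨isNoetherianRing_of_ringEquiv _ e.toRingEquiv, isGeometricallyRegular_of_algEquiv e key.2⟩

theorem isRegularHom_of_faithfullyFlat_baseChange [IsNoetherianRing Λ] [Module.FaithfullyFlat R R']
    (h : CAlg.IsRegularHom R' (R' ⊗[R] Λ)) : CAlg.IsRegularHom R Λ := by
  obtain ⟨hflat, hfib⟩ := h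
  haveI := hflat
  refine ⟨Module.Flat.of_flat_tensorProduct R Λ R', fun p₀ hp₀ => ?_⟩
  obtain ⟨q, hq⟩ := PrimeSpectrum.comap_surjective_of_faithfullyFlat (A := R) (B := R') ⟨p₀, hp₀⟩
  have hq' : q.asIdeal.comap (algebraMap R R') = p₀ := congrArg PrimeSpectrum.asIdeal hq
  subst hq'
  refine ⟨isNoetherianRing_fiber R Λ _, ?_⟩
  let p' : Ideal R' := q.asIdeal
  let p : Ideal R := p'.comap (algebraMap R R')
  obtain ⟨hN, hG⟩ := hfib p'
  letI : Algebra p.ResidueField p'.ResidueField :=
    (Ideal.ResidueField.map p p' (algebraMap R R') rfl).toAlgebra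
  haveI : IsScalarTower R p.ResidueField p'.ResidueField := .of_algebraMap_eq (fun r => by
    rw [RingHom.algebraMap_toAlgebra, Ideal.ResidueField.map_algebraMap,
      ← IsScalarTower.algebraMap_apply])
  let e1 : p'.Fiber (R' ⊗[R] Λ) ≃ₐ[p'.ResidueField] p'.ResidueField ⊗[R] Λ :=
    Algebra.TensorProduct.cancelBaseChange R R' p'.ResidueField p'.ResidueField Λ
  let e2 : p'.ResidueField ⊗[p.ResidueField] (p.Fiber Λ) ≃ₐ[p'.ResidueField]
      p'.ResidueField ⊗[R] Λ :=
    Algebra.TensorProduct.cancelBaseChange R p.ResidueField p'.ResidueField p'.ResidueField Λ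
  let e := e1.trans e2.symm
  exact isGeometricallyRegular_of_baseChange p.ResidueField (p.Fiber Λ) p'.ResidueField
    (isGeometricallyRegular_of_algEquiv e hG)

theorem S4695_aux (A B A' : Type u) [CommRing A] [CommRing B] [CommRing A']
    [IsNoetherianRing A] [IsNoetherianRing B] [IsNoetherianRing A'] [Algebra A B] [Algebra A A']
    (hft : Algebra.FiniteType A B ∨ Algebra.FiniteType A A') :
    (CAlg.IsRegularHom A B → CAlg.IsRegularHom A' (A' ⊗[A] B)) ∧
      (Module.FaithfullyFlat A A' → CAlg.IsRegularHom A' (A' ⊗[A] B) → CAlg.IsRegularHom A B) := by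
  refine ⟨fun h => isRegularHom_baseChange A B A' ?_ h, fun hff h => ?_⟩
  · rcases hft with hft | hft
    · exact Or.inl hft
    · exact Or.inr inferInstance
  · haveI := hff
    exact isRegularHom_of_faithfullyFlat_baseChange A B A' h

end hom

end Groth.Agent.Lib.Helper21.GeomReg
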