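import Mathlib
import Groth.Prelude.Def_ModSite
import Groth.Agent.Lib.Helper21.StalkFlatQ

/-!
# Global sections on a site with a terminal object: morphisms out of the unit and out of
finite free modules
-/

set_option autoImplicit false
universe u

open CategoryTheory CategoryTheory.Limits Opposite SheafOfModules
open Groth.Agent.Lib.Helper21.StalkFlatQ

namespace Groth.Agent.Lib.Helper21.GlobalSec

variable {C : Type u} [SmallCategory C] {J : GrothendieckTopology C} {R : Sheaf J RingCat.{u}}

/-- evaluation of a morphism out of the unit at the unit section over `X`. -/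
noncomputable def ev (X : C) {M : SheafOfModules.{u} R} (x : unit R ⟶ M) : M.val.obj (op X) :=
  x.val.app (op X) (1 : R.obj.obj (op X))

lemma ev_comp_map (X : C) {M N : SheafOfModules.{u} R} (x : unit R ⟶ M) (f : M ⟶ N) :
    ev X (x ≫ f) = f.val.app (op X) (ev X x) := rfl

variable {X : C} (hX : IsTerminal X)

include hX in
lemma ev_injective {M : SheafOfModules.{u} R} : Function.Injective (ev X (M := M)) := by
  intro x y h
  apply M.unitHomEquiv.injective
  apply PresheafOfModules.sections_ext
  intro Y
  have hx := PresheafOfModules.sections_property (M.unitHomEquiv x)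
    (X := op X) (Y := Y) (hX.from Y.unop).op
  have hy := PresheafOfModules.sections_property (M.unitHomEquiv y)
    (X := op X) (Y := Y) (hX.from Y.unop).op
  rw [← hx, ← hy]
  exact congrArg _ h

/-- the morphism out of the unit with prescribed value over the terminal object. -/
noncomputable def ofSec {M : SheafOfModules.{u} R} (t : M.val.obj (op X)) : unit R ⟶ M :=
  M.unitHomEquiv.symm (PresheafOfModules.sectionsMk (M := M.val)
    (fun Y => M.val.map (hX.from Y.unop).op t) (by
      intro Y Y' f
      rw [← PresheafOfModules.map_comp_apply]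
      exact PresheafOfModules.congr_map_apply _
        (show (hX.from Y.unop).op ≫ f = (hX.from Y'.unop).op by
          rw [← hX.comp_from f.unop]; rfl) t))

lemma ev_ofSec {M : SheafOfModules.{u} R} (t : M.val.obj (op X)) : ev X (ofSec hX t) = t := by
  have h : ev X (ofSec hX t) = (M.unitHomEquiv (ofSec hX t)).val (op X) := rfl
  rw [h, ofSec, Equiv.apply_symm_apply]
  show M.val.map (hX.from X).op t = t
  have : hX.from X = 𝟙 X := hX.hom_ext _ _
  rw [this, op_id, M.val.map_id]
  rfl

section Free

variable (X : C)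

/-- value of a morphism at a fixed section, additive in the morphism. -/
noncomputable def appAdd {M N : SheafOfModules.{u} R} (w : M.val.obj (op X)) :
    (M ⟶ N) →+ N.val.obj (op X) where
  toFun f := f.val.app (op X) w
  map_zero' := rfl
  map_add' _ _ := rfl

variable {I : Type u} [DecidableEq I] [Fintype I]

lemma sum_app (w : (free (R := R) I).val.obj (op X)) :
    w = ∑ j, (ιFree j).val.app (op X) ((proj j).val.app (op X) w) := by
  have h : appAdd X w (∑ j, proj j ≫ ιFree (R := R) j) = appAdd X w (𝟙 (free (R := R) I)) :=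
    congrArg _ sum_proj_ιFree
  rw [map_sum] at h
  exact h.symm

/-- coordinates of a section of a finite free module. -/
noncomputable def toPi : (free (R := R) I).val.obj (op X) →ₗ[R.obj.obj (op X)]
    (I → (unit R).val.obj (op X)) :=
  LinearMap.pi (fun j => ((proj j).val.app (op X)).hom)

/-- the section with given coordinates. -/
noncomputable def ofPi : (I → (unit R).val.obj (op X)) →ₗ[R.obj.obj (op X)]
    (free (R := R) I).val.obj (op X) :=
  LinearMap.lsum (R.obj.obj (op X)) (fun _ : I => (unit R).val.obj (op X)) ℕ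
    (fun j => ((ιFree j).val.app (op X)).hom)

lemma ofPi_apply (a : I → (unit R).val.obj (op X)) :
    ofPi (R := R) X a = ∑ j, (ιFree j).val.app (op X) (a j) := by
  simp only [ofPi, LinearMap.lsum_apply, LinearMap.sum_apply, LinearMap.comp_apply,
    LinearMap.proj_apply]

lemma toPi_apply (w : (free (R := R) I).val.obj (op X)) (k : I) :
    toPi (R := R) X w k = (proj k).val.app (op X) w := rfl

lemma ofPi_toPi (w : (free (R := R) I).val.obj (op X)) : ofPi X (toPi X w) = w := by
  rw [ofPi_apply]
  exact (sum_app X w).symm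

lemma toPi_ofPi (a : I → (unit R).val.obj (op X)) : toPi X (ofPi X a) = a := by
  funext k
  rw [toPi_apply, ofPi_apply, map_sum, Finset.sum_eq_single k]
  · have h : (proj k).val.app (op X) ((ιFree k).val.app (op X) (a k)) =
        appAdd X (a k) (ιFree (R := R) k ≫ proj k) := rfl
    rw [h, ιFree_proj, if_pos rfl]
    rfl
  · intro j _ hj
    have h : (proj k).val.app (op X) ((ιFree j).val.app (op X) (a j)) =
        appAdd X (a j) (ιFree (R := R) j ≫ proj k) := rfl
    rw [h, ιFree_proj, if_neg hj, map_zero]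
  · intro h
    exact absurd (Finset.mem_univ k) h

/-- sections of a finite free module over `X`. -/
noncomputable def secEquiv : (free (R := R) I).val.obj (op X) ≃ₗ[R.obj.obj (op X)]
    (I → (unit R).val.obj (op X)) :=
  LinearEquiv.ofLinear (toPi X) (ofPi X) (LinearMap.ext (toPi_ofPi X)) (LinearMap.ext (ofPi_toPi X))

end Free

section FF

variable {I : Type u}

lemma unit_app_ext {N : ModuleCat.{u} (R.obj.obj (op X))} (f g : (unit R).val.obj (op X) ⟶ N)
    (h : f (1 : R.obj.obj (op X)) = g (1 : R.obj.obj (op X))) : f = g := by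
  apply ModuleCat.hom_ext
  apply LinearMap.ext
  intro a
  have ha : a = (show R.obj.obj (op X) from a) •
      (show (unit R).val.obj (op X) from (1 : R.obj.obj (op X))) :=
    (mul_one (show R.obj.obj (op X) from a)).symm
  rw [ha, map_smul, map_smul]
  exact congrArg _ h

include hX in
lemma hom_ext_of_retract {E M : SheafOfModules.{u} R} (i : E ⟶ free I) (r : free I ⟶ E)
    (hir : i ≫ r = 𝟙 E) {f g : E ⟶ M} (h : f.val.app (op X) = g.val.app (op X)) : f = g := by
  have h1 : r ≫ f = r ≫ g := by
    apply free_hom_ext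
    intro k
    apply ev_injective hX
    rw [← Category.assoc, ← Category.assoc, ev_comp_map X _ f, ev_comp_map X _ g, h]
  calc f = (i ≫ r) ≫ f := by rw [hir, Category.id_comp]
    _ = (i ≫ r) ≫ g := by rw [Category.assoc, h1, Category.assoc]
    _ = g := by rw [hir, Category.id_comp]

include hX in
lemma exists_hom_of_retract [Finite I] {E M : SheafOfModules.{u} R} (i : E ⟶ free I)
    (r : free I ⟶ E) (hir : i ≫ r = 𝟙 E) (α : E.val.obj (op X) ⟶ M.val.obj (op X)) :
    ∃ φ : E ⟶ M, φ.val.app (op X) = α := by
  classical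
  haveI := Fintype.ofFinite I
  let t : I → M.val.obj (op X) := fun k => α (ev X (ιFree k ≫ r))
  let φ' : free I ⟶ M := descFree (fun k => ofSec hX (t k))
  have hj : ∀ j : I, (ιFree j ≫ φ').val.app (op X) = (ιFree j ≫ r).val.app (op X) ≫ α := by
    intro j
    apply unit_app_ext
    have h1 : (ιFree j ≫ φ').val.app (op X) (1 : R.obj.obj (op X)) = ev X (ιFree j ≫ φ') := rfl
    rw [h1, ιFree_descFree, ev_ofSec]
    rfl
  have hφ' : ∀ w : (free (R := R) I).val.obj (op X),
      φ'.val.app (op X) w = α (r.val.app (op X) w) := by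
    intro w
    obtain ⟨a, rfl⟩ : ∃ a, ofPi X a = w := ⟨toPi X w, ofPi_toPi X w⟩
    rw [ofPi_apply, map_sum, map_sum, map_sum]
    apply Finset.sum_congr rfl
    intro j _
    exact congrArg (fun f => f (a j)) (hj j)
  refine ⟨i ≫ φ', ?_⟩
  apply ModuleCat.hom_ext
  apply LinearMap.ext
  intro z
  have h1 : (i ≫ φ').val.app (op X) z = φ'.val.app (op X) (i.val.app (op X) z) := rfl
  have h2 : r.val.app (op X) (i.val.app (op X) z) = (i ≫ r).val.app (op X) z := rfl
  show (i ≫ φ').val.app (op X) z = α z
  rw [h1, hφ', h2, hir]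
  rfl

end FF

section FinProj

variable {I : Type u} [Finite I]

instance unit_finite (X : C) :
    Module.Finite (R.obj.obj (op X)) ((unit R).val.obj (op X)) :=
  inferInstanceAs (Module.Finite (R.obj.obj (op X)) (R.obj.obj (op X)))

instance unit_free (X : C) :
    Module.Free (R.obj.obj (op X)) ((unit R).val.obj (op X)) :=
  inferInstanceAs (Module.Free (R.obj.obj (op X)) (R.obj.obj (op X)))

lemma free_finite (X : C) :
    Module.Finite (R.obj.obj (op X)) ((free (R := R) I).val.obj (op X)) := by
  classical
  haveI := Fintype.ofFinite I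
  exact Module.Finite.equiv (secEquiv (R := R) (I := I) X).symm

lemma free_projective (X : C) :
    Module.Projective (R.obj.obj (op X)) ((free (R := R) I).val.obj (op X)) := by
  classical
  haveI := Fintype.ofFinite I
  exact Module.Projective.of_equiv (secEquiv (R := R) (I := I) X).symm

lemma finite_projective_of_retract (X : C) {E : SheafOfModules.{u} R} (i : E ⟶ free I)
    (r : free I ⟶ E) (hir : i ≫ r = 𝟙 E) :
    Module.Finite (R.obj.obj (op X)) (E.val.obj (op X)) ∧
      Module.Projective (R.obj.obj (op X)) (E.val.obj (op X)) := by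
  haveI := free_finite (R := R) (I := I) X
  haveI := free_projective (R := R) (I := I) X
  have h : ∀ z : E.val.obj (op X), r.val.app (op X) (i.val.app (op X) z) = z := by
    intro z
    have h2 : r.val.app (op X) (i.val.app (op X) z) = (i ≫ r).val.app (op X) z := rfl
    rw [h2, hir]
    rfl
  constructor
  · exact Module.Finite.of_surjective (r.val.app (op X)).hom (fun z => ⟨_, h z⟩)
  · exact Module.Projective.of_split (i.val.app (op X)).hom (r.val.app (op X)).hom
      (LinearMap.ext h)

end FinProj

section Realize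

include hX in
theorem exists_summand_of_finite_projective (M : ModuleCat.{u} (R.obj.obj (op X)))
    [Module.Finite (R.obj.obj (op X)) M] [Module.Projective (R.obj.obj (op X)) M] :
    ∃ (n : ℕ) (E : SheafOfModules.{u} R) (i : E ⟶ free (ULift.{u} (Fin n)))
      (r : free (ULift.{u} (Fin n)) ⟶ E),
      i ≫ r = 𝟙 E ∧ Nonempty (E.val.obj (op X) ≅ M) := by
  classical
  obtain ⟨n, f, g, -, -, hfg⟩ :=
    Module.Finite.exists_comp_eq_id_of_projective (R.obj.obj (op X)) M
  let ρ : (ULift.{u} (Fin n) → (unit R).val.obj (op X)) ≃ₗ[R.obj.obj (op X)]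
      (Fin n → R.obj.obj (op X)) :=
    LinearEquiv.funCongrLeft (R.obj.obj (op X)) (R.obj.obj (op X)) Equiv.ulift.symm
  let c := secEquiv (R := R) (I := ULift.{u} (Fin n)) X
  let a : M →ₗ[R.obj.obj (op X)] (free (R := R) (ULift.{u} (Fin n))).val.obj (op X) :=
    c.symm.toLinearMap ∘ₗ ρ.symm.toLinearMap ∘ₗ g
  let b : (free (R := R) (ULift.{u} (Fin n))).val.obj (op X) →ₗ[R.obj.obj (op X)] M :=
    f ∘ₗ ρ.toLinearMap ∘ₗ c.toLinearMap
  have hba : b ∘ₗ a = LinearMap.id := by
    apply LinearMap.ext
    intro m
    show f (ρ (c (c.symm (ρ.symm (g m))))) = m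
    rw [LinearEquiv.apply_symm_apply, LinearEquiv.apply_symm_apply]
    exact congrArg (fun φ => φ m) hfg
  let A : M ⟶ (free (R := R) (ULift.{u} (Fin n))).val.obj (op X) := ModuleCat.ofHom a
  let B : (free (R := R) (ULift.{u} (Fin n))).val.obj (op X) ⟶ M := ModuleCat.ofHom b
  have hAB : A ≫ B = 𝟙 M := by
    show ModuleCat.ofHom a ≫ ModuleCat.ofHom b = 𝟙 M
    rw [← ModuleCat.ofHom_comp, hba]
    rfl
  obtain ⟨ε, hε⟩ := exists_hom_of_retract hX (𝟙 (free (R := R) (ULift.{u} (Fin n)))) (𝟙 _)
    (Category.id_comp _) (B ≫ A)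
  have hidem : ε ≫ ε = ε := by
    apply hom_ext_of_retract hX (𝟙 (free (R := R) (ULift.{u} (Fin n)))) (𝟙 _) (Category.id_comp _)
    have h1 : (ε ≫ ε).val.app (op X) = ε.val.app (op X) ≫ ε.val.app (op X) := rfl
    rw [h1, hε, Category.assoc, reassoc_of% hAB]
  obtain ⟨E, i, r, hir, hri⟩ :=
    (Idempotents.isIdempotentComplete_of_abelian (SheafOfModules.{u} R)).idempotents_split
      (free (R := R) (ULift.{u} (Fin n))) ε hidem
  have hirX : i.val.app (op X) ≫ r.val.app (op X) = 𝟙 _ := by
    have h1 : i.val.app (op X) ≫ r.val.app (op X) = (i ≫ r).val.app (op X) := rfl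
    rw [h1, hir]
    rfl
  have hriX : r.val.app (op X) ≫ i.val.app (op X) = B ≫ A := by
    have h1 : r.val.app (op X) ≫ i.val.app (op X) = (r ≫ i).val.app (op X) := rfl
    rw [h1, hri, hε]
  refine ⟨n, E, i, r, hir, ⟨⟨i.val.app (op X) ≫ B, A ≫ r.val.app (op X), ?_, ?_⟩⟩⟩
  · calc (i.val.app (op X) ≫ B) ≫ A ≫ r.val.app (op X)
        = i.val.app (op X) ≫ (B ≫ A) ≫ r.val.app (op X) := by simp only [Category.assoc]
      _ = i.val.app (op X) ≫ (r.val.app (op X) ≫ i.val.app (op X)) ≫ r.val.app (op X) := by
          rw [hriX]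
      _ = (i.val.app (op X) ≫ r.val.app (op X)) ≫ i.val.app (op X) ≫ r.val.app (op X) := by
          simp only [Category.assoc]
      _ = 𝟙 _ := by rw [hirX, Category.id_comp]
  · calc (A ≫ r.val.app (op X)) ≫ i.val.app (op X) ≫ B
        = A ≫ (r.val.app (op X) ≫ i.val.app (op X)) ≫ B := by simp only [Category.assoc]
      _ = A ≫ (B ≫ A) ≫ B := by rw [hriX]
      _ = (A ≫ B) ≫ A ≫ B := by simp only [Category.assoc]
      _ = 𝟙 _ := by rw [hAB, Category.id_comp]

end Realize

end Groth.Agent.Lib.Helper21.GlobalSec
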