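import Mathlib

/-!
Graded modules over a graded algebra generated in degree one: if `M` is generated over `A` by
homogeneous elements of degree `≤ n₀` then `M_{n+k} = A_k • M_n` for `n ≥ n₀`.
-/

set_option autoImplicit false

universe u

open DirectSum

namespace Groth.Agent.Lib.Helper21

section
variable {R : Type u} [CommRing R] {A : Type u} [CommRing A] [Algebra R A]
    (𝒜 : ℕ → Submodule R A) [GradedAlgebra 𝒜]

theorem grade_add_of_succ (hA : ∀ n : ℕ, 𝒜 (n + 1) = 𝒜 1 * 𝒜 n) (a b : ℕ) :
    𝒜 (a + b) = 𝒜 a * 𝒜 b := by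
  induction a with
  | zero =>
    rw [zero_add]
    apply le_antisymm
    · intro x hx
      have : x = 1 * x := (one_mul x).symm
      rw [this]
      exact Submodule.mul_mem_mul (SetLike.GradedOne.one_mem) hx
    · rw [Submodule.mul_le]
      intro x hx y hy
      have := SetLike.GradedMul.mul_mem hx hy
      rwa [zero_add] at this
  | succ a ih =>
    have : a + 1 + b = (a + b) + 1 := by ring
    rw [this, hA, ih, ← mul_assoc, ← hA]

variable {M : Type u} [AddCommGroup M] [Module R M] [Module A M] [IsScalarTower R A M]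
    (ℳ : ℕ → Submodule R M) [DirectSum.Decomposition ℳ] [SetLike.GradedSMul 𝒜 ℳ]

/-- projection to the degree `m` component, as an `R`-linear map -/
noncomputable def projM (m : ℕ) : M →ₗ[R] M :=
  (ℳ m).subtype ∘ₗ (DirectSum.component R ℕ (fun i => ℳ i) m) ∘ₗ
    (DirectSum.decomposeLinearEquiv ℳ).toLinearMap

theorem projM_apply (m : ℕ) (x : M) : projM ℳ m x = (DirectSum.decompose ℳ x m : M) := rfl

theorem projM_of_mem {m : ℕ} {x : M} (hx : x ∈ ℳ m) : projM ℳ m x = x :=
  DirectSum.decompose_of_mem_same ℳ hx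

theorem projM_of_mem_ne {m m' : ℕ} {x : M} (hx : x ∈ ℳ m') (h : m' ≠ m) : projM ℳ m x = 0 :=
  DirectSum.decompose_of_mem_ne ℳ hx h

theorem span_homog_eq_top (s : Set M) (hspan : Submodule.span A s = ⊤) (x : M) :
    x ∈ Submodule.span R {z : M | ∃ i : ℕ, ∃ a ∈ 𝒜 i, ∃ y ∈ s, z = a • y} := by
  set G : Set M := {z : M | ∃ i : ℕ, ∃ a ∈ 𝒜 i, ∃ y ∈ s, z = a • y} with hG
  have hsmul : ∀ (b : A) (z : M), z ∈ Submodule.span R G → b • z ∈ Submodule.span R G := by
    intro b
    induction b using DirectSum.Decomposition.inductionOn 𝒜 with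
    | zero => intro z _; rw [zero_smul]; exact Submodule.zero_mem _
    | homogeneous b =>
      rename_i j
      intro z hz
      induction hz using Submodule.span_induction with
      | mem z hz =>
        obtain ⟨i, a, ha, y, hy, rfl⟩ := hz
        apply Submodule.subset_span
        refine ⟨j + i, (b : A) * a, SetLike.GradedMul.mul_mem b.2 ha, y, hy, ?_⟩
        rw [mul_smul]
      | zero => rw [smul_zero]; exact Submodule.zero_mem _
      | add z z' _ _ hz hz' => rw [smul_add]; exact Submodule.add_mem _ hz hz'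
      | smul r z _ hz => rw [smul_comm]; exact Submodule.smul_mem _ _ hz
    | add b b' hb hb' =>
      intro z hz
      rw [add_smul]
      exact Submodule.add_mem _ (hb z hz) (hb' z hz)
  let P : Submodule A M :=
    { carrier := Submodule.span R G
      add_mem' := fun ha hb => Submodule.add_mem _ ha hb
      zero_mem' := Submodule.zero_mem _
      smul_mem' := fun b z hz => hsmul b z hz }
  have hsP : s ⊆ P := by
    intro y hy
    apply Submodule.subset_span
    exact ⟨0, 1, SetLike.GradedOne.one_mem, y, hy, (one_smul A y).symm⟩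
  have : x ∈ P := by
    have h1 : Submodule.span A s ≤ P := Submodule.span_le.2 hsP
    rw [hspan] at h1
    exact h1 Submodule.mem_top
  exact this

end

theorem graded_eq_smul
    (R : Type u) [CommRing R] (A : Type u) [CommRing A] [Algebra R A]
    (𝒜 : ℕ → Submodule R A) [GradedAlgebra 𝒜]
    (hA : ∀ n : ℕ, 𝒜 (n + 1) = 𝒜 1 * 𝒜 n)
    (M : Type u) [AddCommGroup M] [Module R M] [Module A M] [IsScalarTower R A M]
    (ℳ : ℕ → Submodule R M) [DirectSum.Decomposition ℳ] [SetLike.GradedSMul 𝒜 ℳ]
    (s : Set M) (n₀ : ℕ) (hs : ∀ y ∈ s, ∃ d : ℕ, d ≤ n₀ ∧ y ∈ ℳ d)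
    (hspan : Submodule.span A s = ⊤)
    (n k : ℕ) (hn : n₀ ≤ n) :
    ℳ (n + k) = 𝒜 k • ℳ n := by
  apply le_antisymm
  · have key : ∀ z ∈ Submodule.span R {z : M | ∃ i : ℕ, ∃ a ∈ 𝒜 i, ∃ y ∈ s, z = a • y},
        projM ℳ (n + k) z ∈ 𝒜 k • ℳ n := by
      intro z hzG
      induction hzG using Submodule.span_induction with
      | mem z hz =>
        obtain ⟨i, a, ha, y, hy, rfl⟩ := hz
        obtain ⟨d, hd, hyd⟩ := hs y hy
        have hay : a • y ∈ ℳ (i + d) := SetLike.GradedSMul.smul_mem ha hyd
        by_cases h : i + d = n + k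
        · rw [projM_of_mem ℳ (h ▸ hay)]
          have hi : i = k + (n - d) := by omega
          rw [hi, grade_add_of_succ 𝒜 hA] at ha
          refine Submodule.mul_induction_on ha ?_ ?_
          · intro b hb c hc
            rw [mul_smul]
            refine Submodule.smul_mem_smul hb ?_
            have : c • y ∈ ℳ (n - d + d) := SetLike.GradedSMul.smul_mem hc hyd
            have e : n - d + d = n := by omega
            rwa [e] at this
          · intro b c hb hc
            rw [add_smul]
            exact Submodule.add_mem _ hb hc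
        · rw [projM_of_mem_ne ℳ hay h]
          exact Submodule.zero_mem _
      | zero => rw [map_zero]; exact Submodule.zero_mem _
      | add z z' _ _ hz hz' => rw [map_add]; exact Submodule.add_mem _ hz hz'
      | smul r z _ hz => rw [map_smul]; exact Submodule.smul_mem _ _ hz
    intro x hx
    rw [← projM_of_mem ℳ hx]
    exact key x (span_homog_eq_top 𝒜 s hspan x)
  · rw [Submodule.smul_le]
    intro a ha x hx
    have : a • x ∈ ℳ (k + n) := SetLike.GradedSMul.smul_mem ha hx
    rwa [add_comm] at this

end Groth.Agent.Lib.Helper21
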