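import Mathlib
import Groth.Agent.Lib.Helper21.SepSmoothG

set_option autoImplicit false
set_option linter.style.haveILetI false

namespace Groth.Agent.Lib.Helper21.H1Field
open KaehlerDifferential Module MvPolynomial TensorProduct Algebra

universe u
variable {R S T T' : Type u} [CommRing R] [CommRing S] [CommRing T] [CommRing T']
  [Algebra R S] [Algebra R T] [Algebra S T] [IsScalarTower R S T]
  [Algebra R T'] [Algebra S T'] [IsScalarTower R S T'] [Algebra T T'] [IsScalarTower S T T']

noncomputable def beta : T ⊗[S] Ω[S⁄R] →ₗ[T] T' ⊗[S] Ω[S⁄R] :=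
  LinearMap.liftBaseChange T (TensorProduct.mk S T' Ω[S⁄R] 1)

omit [Algebra R T] [IsScalarTower R S T] [Algebra R T'] [IsScalarTower R S T'] in
theorem beta_tmul (t : T) (ω : Ω[S⁄R]) : beta (T' := T') (t ⊗ₜ[S] ω) = (algebraMap T T' t) ⊗ₜ[S] ω := by
  rw [beta, LinearMap.liftBaseChange_tmul, TensorProduct.mk_apply, TensorProduct.smul_tmul', Algebra.smul_def, mul_one]

theorem δAux_natural (x : (Generators.self S T).Ring) :
    Generators.H1Cotangent.δAux R (Generators.self S T')
      ((Generators.defaultHom (Generators.self S T) (Generators.self S T')).toAlgHom x) =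
    beta (T' := T') (Generators.H1Cotangent.δAux R (Generators.self S T) x) := by
  induction x using MvPolynomial.induction_on with
  | C s =>
    simp only [MvPolynomial.algHom_C, Generators.H1Cotangent.δAux_C]
    rw [MvPolynomial.algebraMap_eq, Generators.H1Cotangent.δAux_C, beta_tmul, map_one]
  | add x₁ x₂ h₁ h₂ => simp only [map_add, h₁, h₂]
  | mul_X p i IH =>
    rw [map_mul, Generators.H1Cotangent.δAux_mul, Generators.H1Cotangent.δAux_mul, IH]
    simp only [Generators.Hom.toAlgHom_X, Generators.defaultHom_val, Generators.self_val,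
      Generators.H1Cotangent.δAux_X, smul_zero, zero_add, map_smul, map_add, map_zero]
    have hσ : ∀ t : T', (Generators.self S T').σ t = X t := fun t => rfl
    simp only [Function.comp_apply, id_eq, hσ, Generators.H1Cotangent.δAux_X, smul_zero, zero_add]
    have h1 : ∀ (q : (Generators.self S T').Ring) (w : T' ⊗[S] Ω[S⁄R]),
        q • w = (algebraMap (Generators.self S T').Ring T' q) • w :=
      fun q w => (IsScalarTower.algebraMap_smul T' q w).symm
    have h2 : ∀ (q : (Generators.self S T).Ring) (w : T ⊗[S] Ω[S⁄R]),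
        q • w = (algebraMap (Generators.self S T).Ring T q) • w :=
      fun q w => (IsScalarTower.algebraMap_smul T q w).symm
    rw [h1, h2, map_smul]
    simp only [Generators.algebraMap_apply, aeval_X, Generators.self_val, id_eq]
    rw [algebraMap_smul]

theorem δ_eq_of_val {ι σ : Type u} {Q : Generators S T ι} (P : Generators R S σ) (z : Q.toExtension.H1Cotangent) (x : Q.ker)
    (h : z.1 = Extension.Cotangent.mk x) :
    Generators.H1Cotangent.δ Q P z = Generators.H1Cotangent.δAux R Q x.1 := by
  have hx : Extension.Cotangent.mk x ∈ LinearMap.ker Q.toExtension.cotangentComplex := h ▸ z.2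
  have : z = ⟨Extension.Cotangent.mk x, hx⟩ := Subtype.ext h
  rw [this, Generators.H1Cotangent.δ_eq_δAux]

theorem δ_natural (x : Algebra.H1Cotangent S T) :
    Algebra.H1Cotangent.δ R S T' (Algebra.H1Cotangent.map S S T T' x) =
      beta (T' := T') (Algebra.H1Cotangent.δ R S T x) := by
  obtain ⟨x, hx⟩ := x
  obtain ⟨⟨y, hy⟩, rfl⟩ := Extension.Cotangent.mk_surjective x
  simp only [Algebra.H1Cotangent.δ, Algebra.H1Cotangent.map]
  have e1 := δ_eq_of_val (R := R) (Generators.self R S)
    (⟨Extension.Cotangent.mk ⟨y, hy⟩, hx⟩ : (Generators.self S T).toExtension.H1Cotangent) ⟨y, hy⟩ rfl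
  have e2 := δ_eq_of_val (R := R) (Generators.self R S)
    (Extension.H1Cotangent.map ((Generators.self S T).defaultHom (Generators.self S T')).toExtensionHom
      (⟨Extension.Cotangent.mk ⟨y, hy⟩, hx⟩ : (Generators.self S T).toExtension.H1Cotangent)) _
    ((Extension.H1Cotangent.map_apply_coe _ _).trans (Extension.Cotangent.map_mk _ _))
  exact e2.trans ((δAux_natural y).trans (congrArg beta e1.symm))

theorem δ_injective [Subsingleton (Algebra.H1Cotangent R T)] :
    Function.Injective (Algebra.H1Cotangent.δ R S T) := by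
  rw [injective_iff_map_eq_zero]
  intro x hx
  obtain ⟨w, rfl⟩ := (Algebra.H1Cotangent.exact_map_δ R S T x).mp hx
  rw [Subsingleton.elim w 0, map_zero]

section fields
variable {K L M : Type u} [Field K] [Field L] [Field M] [Algebra K L] [Algebra L M] [Algebra K M] [IsScalarTower K L M]


theorem S9319_aux :
    Function.Injective ((Algebra.H1Cotangent.map K K L M).liftBaseChange M) := by
  haveI : Algebra.FormallySmooth (⊥ : Subfield K) L :=
    Groth.Agent.Lib.Helper21.SepSmooth.formallySmooth_bot'
  haveI : Algebra.FormallySmooth (⊥ : Subfield K) M :=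
    Groth.Agent.Lib.Helper21.SepSmooth.formallySmooth_bot'
  have hδL : Function.Injective (Algebra.H1Cotangent.δ (⊥ : Subfield K) K L) := δ_injective
  have hδM : Function.Injective (Algebra.H1Cotangent.δ (⊥ : Subfield K) K M) := δ_injective
  -- ψ = cancel ∘ (M ⊗ δ_L)
  let ψ : M ⊗[L] Algebra.H1Cotangent K L →ₗ[M] M ⊗[K] Ω[K⁄(⊥ : Subfield K)] :=
    (AlgebraTensorModule.cancelBaseChange K L M M Ω[K⁄(⊥ : Subfield K)]).toLinearMap ∘ₗ
      (LinearMap.baseChange M (Algebra.H1Cotangent.δ (⊥ : Subfield K) K L))
  have hψ : Function.Injective ψ := by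
    refine (AlgebraTensorModule.cancelBaseChange K L M M Ω[K⁄(⊥ : Subfield K)]).injective.comp ?_
    rw [LinearMap.baseChange_eq_ltensor]
    exact Module.Flat.lTensor_preserves_injective_linearMap _ hδL
  have hcomp : ψ = (Algebra.H1Cotangent.δ (⊥ : Subfield K) K M) ∘ₗ
      ((Algebra.H1Cotangent.map K K L M).liftBaseChange M) := by
    apply TensorProduct.AlgebraTensorModule.ext
    intro m x
    simp only [ψ, LinearMap.comp_apply, LinearEquiv.coe_coe, LinearMap.baseChange_tmul,
      LinearMap.liftBaseChange_tmul, map_smul]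
    rw [δ_natural (R := (⊥ : Subfield K)) (S := K) (T := L) (T' := M) x]
    induction (Algebra.H1Cotangent.δ (⊥ : Subfield K) K L) x using TensorProduct.induction_on with
    | zero => simp
    | tmul l ω =>
      rw [beta_tmul, AlgebraTensorModule.cancelBaseChange_tmul, TensorProduct.smul_tmul',
        Algebra.smul_def, smul_eq_mul, mul_comm]
    | add a b ha hb => simp only [tmul_add, map_add, smul_add, ha, hb]
  have : Function.Injective ((Algebra.H1Cotangent.δ (⊥ : Subfield K) K M) ∘
      ((Algebra.H1Cotangent.map K K L M).liftBaseChange M)) := by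
    rw [← LinearMap.coe_comp, ← hcomp]; exact hψ
  exact Function.Injective.of_comp this
end fields

end Groth.Agent.Lib.Helper21.H1Field
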