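import Mathlib

/-!
# Gluing uniquely determined local sections of a sheaf
-/

set_option autoImplicit false
universe u
open CategoryTheory CategoryTheory.Limits Opposite

namespace Groth.Agent.Lib.Helper21.SecGlue

variable {C : Type u} [SmallCategory C] {J : GrothendieckTopology C}

/-- If a property of sections of a sheaf of sets is stable under restriction, determines the
section uniquely, is satisfied by some section locally, and can be checked locally, then it is
satisfied by a section over every object. -/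
theorem exists_of_local {P' : Cᵒᵖ ⥤ Type u} (hP : Presieve.IsSheaf J P')
    (Q : ∀ V : C, P'.obj (op V) → Prop)
    (hres : ∀ {V W : C} (g : W ⟶ V) (e : P'.obj (op V)), Q V e → Q W (P'.map g.op e))
    (huniq : ∀ (V : C) (e e' : P'.obj (op V)), Q V e → Q V e' → e = e')
    (hloc : ∀ V : C, ∃ R ∈ J V, ∀ ⦃W : C⦄ (g : W ⟶ V), R g → ∃ e, Q W e)
    (hglue : ∀ (V : C) (e : P'.obj (op V)) (R : Sieve V), R ∈ J V →
      (∀ ⦃W : C⦄ (g : W ⟶ V), R g → Q W (P'.map g.op e)) → Q V e)
    (V : C) : ∃ e, Q V e := by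
  obtain ⟨R, hR, hex⟩ := hloc V
  choose e he using hex
  let x : Presieve.FamilyOfElements P' R.arrows := fun W g hg => e g hg
  have hx : x.Compatible := by
    intro Y₁ Y₂ Z g₁ g₂ f₁ f₂ h₁ h₂ _
    exact huniq Z _ _ (hres g₁ _ (he f₁ h₁)) (hres g₂ _ (he f₂ h₂))
  refine ⟨(hP R hR).amalgamate x hx, hglue V _ R hR ?_⟩
  intro W g hg
  rw [(hP R hR).valid_glue hx g hg]
  exact he g hg

theorem isSheaf_forget (G : Sheaf J AddCommGrpCat.{u}) :
    Presieve.IsSheaf J (G.obj ⋙ forget AddCommGrpCat.{u}) :=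
  (isSheaf_iff_isSheaf_of_type J _).1 ((sheafCompose J (forget AddCommGrpCat.{u})).obj G).property

/-- Separatedness, elementwise. -/
theorem ab_sep (G : Sheaf J AddCommGrpCat.{u}) {V : C} (R : Sieve V) (hR : R ∈ J V)
    (s t : G.obj.obj (op V))
    (h : ∀ ⦃W : C⦄ (g : W ⟶ V), R g → (G.obj.map g.op).hom s = (G.obj.map g.op).hom t) :
    s = t :=
  (isSheaf_forget G R hR).isSeparatedFor.ext (fun _ g hg => h g hg)

/-- `exists_of_local` for sheaves of abelian groups. -/
theorem ab_exists_of_local (G : Sheaf J AddCommGrpCat.{u})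
    (Q : ∀ V : C, G.obj.obj (op V) → Prop)
    (hres : ∀ {V W : C} (g : W ⟶ V) (e : G.obj.obj (op V)),
      Q V e → Q W ((G.obj.map g.op).hom e))
    (huniq : ∀ (V : C) (e e' : G.obj.obj (op V)), Q V e → Q V e' → e = e')
    (hloc : ∀ V : C, ∃ R ∈ J V, ∀ ⦃W : C⦄ (g : W ⟶ V), R g → ∃ e, Q W e)
    (hglue : ∀ (V : C) (e : G.obj.obj (op V)) (R : Sieve V), R ∈ J V →
      (∀ ⦃W : C⦄ (g : W ⟶ V), R g → Q W ((G.obj.map g.op).hom e)) → Q V e)
    (V : C) : ∃ e, Q V e :=
  exists_of_local (isSheaf_forget G) Q hres huniq hloc hglue V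

end Groth.Agent.Lib.Helper21.SecGlue
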