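import Mathlib
import Groth.Agent.Lib.Helper21.ConstSheafSplit

/-!
# Morphisms from the constant sheaf `ℤ` as compatible families of sections
-/

set_option autoImplicit false
universe u
open CategoryTheory CategoryTheory.Limits Opposite

namespace Groth.Agent.Lib.Helper21.ZSec

open Groth.Agent.Lib.Helper21.ConstSheafSplit

variable {C : Type u} [SmallCategory C] (J : GrothendieckTopology C)

/-- The constant sheaf `ℤ`, syntactically as a sheafification. -/
noncomputable abbrev Zs' : Sheaf J AddCommGrpCat.{u} :=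
  (presheafToSheaf J AddCommGrpCat.{u}).obj (Zp (C := C))

variable {J} in
/-- The section over `W` of a morphism from the constant sheaf `ℤ`. -/
noncomputable def sec {G : Sheaf J AddCommGrpCat.{u}} (s : Zs' J ⟶ G) (W : Cᵒᵖ) : G.obj.obj W :=
  (((sheafificationAdjunction J AddCommGrpCat.{u}).homEquiv (Zp (C := C)) G s).app W).hom ⟨1⟩

variable {J}

theorem sec_map {G : Sheaf J AddCommGrpCat.{u}} (s : Zs' J ⟶ G) {U V : Cᵒᵖ} (h : U ⟶ V) :
    (G.obj.map h).hom (sec s U) = sec s V :=
  (NatTrans.naturality_apply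
    ((sheafificationAdjunction J AddCommGrpCat.{u}).homEquiv (Zp (C := C)) G s) h ⟨1⟩).symm

theorem sec_comp {G G' : Sheaf J AddCommGrpCat.{u}} (s : Zs' J ⟶ G) (f : G ⟶ G') (W : Cᵒᵖ) :
    sec (s ≫ f) W = (f.hom.app W).hom (sec s W) := by
  unfold sec
  rw [Adjunction.homEquiv_naturality_right]
  rfl

theorem ext_sec {G : Sheaf J AddCommGrpCat.{u}} {s s' : Zs' J ⟶ G}
    (h : ∀ W, sec s W = sec s' W) : s = s' := by
  apply ((sheafificationAdjunction J AddCommGrpCat.{u}).homEquiv (Zp (C := C)) G).injective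
  ext W n
  have h1 : n = n.down • (⟨1⟩ : ULift.{u} ℤ) := by
    refine ULift.ext _ _ ?_
    change n.down = n.down • (1 : ℤ)
    rw [smul_eq_mul, mul_one]
  rw [h1, map_zsmul, map_zsmul]
  congr 1
  exact h W

theorem exists_of_family {G : Sheaf J AddCommGrpCat.{u}} (g : ∀ W : Cᵒᵖ, G.obj.obj W)
    (hg : ∀ {U V : Cᵒᵖ} (h : U ⟶ V), (G.obj.map h).hom (g U) = g V) :
    ∃ s : Zs' J ⟶ G, ∀ W, sec s W = g W := by
  let t' : Zp (C := C) ⟶ G.obj :=
    { app := fun U => AddCommGrpCat.ofHom
        ((zmultiplesHom _ (g U)).comp AddEquiv.ulift.toAddMonoidHom)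
      naturality := by
        intro U V h
        ext n
        change n.down • g V = (G.obj.map h).hom (n.down • g U)
        rw [map_zsmul, hg] }
  refine ⟨((sheafificationAdjunction J AddCommGrpCat.{u}).homEquiv (Zp (C := C)) G).symm t', ?_⟩
  intro W
  unfold sec
  rw [Equiv.apply_symm_apply]
  change (1 : ℤ) • g W = g W
  rw [one_smul]

/-- If `φ` acts on sections over `W` as multiplication by `n` then so does precomposition. -/
theorem sec_comp_of_smul {G : Sheaf J AddCommGrpCat.{u}} (φ : Zs' J ⟶ Zs' J) (k : Zs' J ⟶ G)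
    (W : Cᵒᵖ) (n : ℤ) (hφ : φ.hom.app W = n • 𝟙 _) :
    sec (φ ≫ k) W = n • sec k W := by
  have h1 : sec φ W = n • sec (𝟙 (Zs' J)) W := by
    have := sec_comp (𝟙 (Zs' J)) φ W
    rw [Category.id_comp] at this
    rw [this, hφ]
    rfl
  rw [sec_comp, h1, map_zsmul, ← sec_comp, Category.id_comp]

end Groth.Agent.Lib.Helper21.ZSec
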