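import Mathlib
import Groth.Agent.Lib.Helper21.ZSec
import Groth.Agent.Lib.Helper21.SecGlue

/-!
# `H¹` of a constant sheaf on a uniquely divisible group has no torsion for locally nonzero sections
-/

set_option autoImplicit false
universe u
open CategoryTheory CategoryTheory.Limits Opposite

namespace Groth.Agent.Lib.Helper21.H1Tors

open Groth.Agent.Lib.Helper21.ConstSheafSplit Groth.Agent.Lib.Helper21.ZSec
  Groth.Agent.Lib.Helper21.SecGlue

variable {C : Type u} [SmallCategory C] {J : GrothendieckTopology C}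

/-- Sections over `W`. -/
noncomputable abbrev ΓW (W : C) : Sheaf J AddCommGrpCat.{u} ⥤ AddCommGrpCat.{u} :=
  (sheafSections J AddCommGrpCat.{u}).obj (op W)

noncomputable instance (W : C) : PreservesFiniteLimits (ΓW (J := J) W) :=
  preservesFiniteLimits_of_natIso
    (sheafSectionsNatIsoEvaluation (J := J) (A := AddCommGrpCat.{u}) (X := W)).symm

instance (W : C) : (ΓW (J := J) W).Additive :=
  Functor.additive_of_preserves_binary_products _

theorem exists_of_app_eq_zero {S : ShortComplex (Sheaf J AddCommGrpCat.{u})} (hS : S.ShortExact)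
    (W : C) (e : S.X₂.obj.obj (op W)) (he : (S.g.hom.app (op W)).hom e = 0) :
    ∃ f : S.X₁.obj.obj (op W), (S.f.hom.app (op W)).hom f = e := by
  have h := hS.exact.map_of_mono_of_preservesKernel (ΓW W) hS.mono_f inferInstance
  exact (ShortComplex.ab_exact_iff _).1 h e he

theorem app_injective {S : ShortComplex (Sheaf J AddCommGrpCat.{u})} (hS : S.ShortExact)
    (W : C) : Function.Injective (S.f.hom.app (op W)).hom := by
  haveI := hS.mono_f
  haveI : Mono ((ΓW W).map S.f) := inferInstance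
  exact (AddCommGrpCat.mono_iff_injective _).1 this

theorem exists_local_lift {S : ShortComplex (Sheaf J AddCommGrpCat.{u})} (hS : S.ShortExact)
    (W : C) (k : S.X₃.obj.obj (op W)) :
    ∃ R ∈ J W, ∀ ⦃W' : C⦄ (g : W' ⟶ W), R g →
      ∃ b : S.X₂.obj.obj (op W'), (S.g.hom.app (op W')).hom b = (S.X₃.obj.map g.op).hom k := by
  haveI := hS.epi_g
  haveI : Sheaf.IsLocallySurjective S.g :=
    (Sheaf.isLocallySurjective_iff_epi' AddCommGrpCat.{u} S.g).2 inferInstance
  exact ⟨Presheaf.imageSieve S.g.hom k, Presheaf.imageSieve_mem J S.g.hom k, fun W' g hg => hg⟩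

theorem smul_bijective_app {A : AddCommGrpCat.{u}} (m : ℤ)
    (hm : Function.Bijective (fun a : A => m • a)) (W : C) :
    Function.Bijective
      (fun f : ((constantSheaf J AddCommGrpCat.{u}).obj A).obj.obj (op W) => m • f) := by
  haveI : IsIso (m • 𝟙 A) := by
    rw [ConcreteCategory.isIso_iff_bijective]
    exact hm
  have h1 : (constantSheaf J AddCommGrpCat.{u} ⋙ ΓW W).map (m • 𝟙 A) = m • 𝟙 _ := by
    rw [Functor.map_zsmul, CategoryTheory.Functor.map_id]
  have h2 : IsIso ((constantSheaf J AddCommGrpCat.{u} ⋙ ΓW W).map (m • 𝟙 A)) := inferInstance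
  rw [h1, ConcreteCategory.isIso_iff_bijective] at h2
  exact h2

/-- Restriction of sections. -/
noncomputable abbrev res (G : Sheaf J AddCommGrpCat.{u}) {V W : C} (g : W ⟶ V)
    (e : G.obj.obj (op V)) : G.obj.obj (op W) := (G.obj.map g.op).hom e

theorem res_comp (G : Sheaf J AddCommGrpCat.{u}) {V W W' : C} (g : W ⟶ V) (h : W' ⟶ W)
    (e : G.obj.obj (op V)) : res G h (res G g e) = res G (h ≫ g) e := by
  unfold res
  rw [op_comp, Functor.map_comp]
  rfl

theorem res_id (G : Sheaf J AddCommGrpCat.{u}) {V : C} (e : G.obj.obj (op V)) :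
    res G (𝟙 V) e = e := by
  unfold res
  rw [op_id, CategoryTheory.Functor.map_id]
  rfl

theorem app_res {G G' : Sheaf J AddCommGrpCat.{u}} (f : G ⟶ G') {V W : C} (g : W ⟶ V)
    (e : G.obj.obj (op V)) :
    (f.hom.app (op W)).hom (res G g e) = res G' g ((f.hom.app (op V)).hom e) :=
  NatTrans.naturality_apply f.hom g.op e

theorem sec_res {G : Sheaf J AddCommGrpCat.{u}} (s : Zs' J ⟶ G) {V W : C} (g : W ⟶ V) :
    res G g (sec s (op V)) = sec s (op W) :=
  sec_map s g.op

theorem app_app_eq_zero (S : ShortComplex (Sheaf J AddCommGrpCat.{u})) (W : C)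
    (f : S.X₁.obj.obj (op W)) : (S.g.hom.app (op W)).hom ((S.f.hom.app (op W)).hom f) = 0 := by
  have h := congr_arg (fun k => k.hom.app (op W)) S.zero
  exact ConcreteCategory.congr_hom h f

/-- The key gluing statement: if `φ` is locally multiplication by nonzero integers, the
sections of `S.X₁` are uniquely divisible and `φ ≫ k` lifts along `S.g`, then so does `k`. -/
theorem exists_lift_of_comp {S : ShortComplex (Sheaf J AddCommGrpCat.{u})} (hS : S.ShortExact)
    (hbij : ∀ (m : ℤ) (W : C), m ≠ 0 →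
      Function.Bijective (fun f : S.X₁.obj.obj (op W) => m • f))
    (φ : Zs' J ⟶ Zs' J) {ι : Type u} (U : ι → C) (n : ι → ℤ) (hn : ∀ i, n i ≠ 0)
    (hφ : ∀ (i : ι) (V : C) (_ : V ⟶ U i), φ.hom.app (op V) = n i • 𝟙 _)
    (hcov : ∀ V : C, ∃ R ∈ J V, ∀ ⦃W : C⦄ (g : W ⟶ V), R g → ∃ i, Nonempty (W ⟶ U i))
    (k : Zs' J ⟶ S.X₃) (ι' : Zs' J ⟶ S.X₂) (hι : ι' ≫ S.g = φ ≫ k) :
    ∃ l : Zs' J ⟶ S.X₂, l ≫ S.g = k := by
  let kW : ∀ W : C, S.X₃.obj.obj (op W) := fun W => sec k (op W)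
  let ιW : ∀ W : C, S.X₂.obj.obj (op W) := fun W => sec ι' (op W)
  let a : ∀ W : C, S.X₁.obj.obj (op W) →+ S.X₂.obj.obj (op W) := fun W => (S.f.hom.app (op W)).hom
  let π : ∀ W : C, S.X₂.obj.obj (op W) →+ S.X₃.obj.obj (op W) := fun W => (S.g.hom.app (op W)).hom
  have hπa : ∀ W f, π W (a W f) = 0 := fun W f => app_app_eq_zero S W f
  have ha_inj : ∀ W, Function.Injective (a W) := fun W => app_injective hS W
  have hex : ∀ W e, π W e = 0 → ∃ f, a W f = e := fun W e he => exists_of_app_eq_zero hS W e he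
  have hkres : ∀ {V W : C} (g : W ⟶ V), res S.X₃ g (kW V) = kW W := fun g => sec_res k g
  have hιres : ∀ {V W : C} (g : W ⟶ V), res S.X₂ g (ιW V) = ιW W := fun g => sec_res ι' g
  have hπres : ∀ {V W : C} (g : W ⟶ V) (e : S.X₂.obj.obj (op V)),
      π W (res S.X₂ g e) = res S.X₃ g (π V e) := fun g e => app_res S.g g e
  have hares : ∀ {V W : C} (g : W ⟶ V) (f : S.X₁.obj.obj (op V)),
      a W (res S.X₁ g f) = res S.X₂ g (a V f) := fun g f => app_res S.f g f
  have hπι : ∀ (i : ι) (W : C) (_ : W ⟶ U i), π W (ιW W) = n i • kW W := by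
    intro i W g
    change (S.g.hom.app (op W)).hom (sec ι' (op W)) = n i • sec k (op W)
    rw [← sec_comp, hι, sec_comp_of_smul φ k (op W) (n i) (hφ i W g)]
  have htriv : ∀ (i j : ι) (W : C) (_ : W ⟶ U i) (_ : W ⟶ U j),
      n i • ιW W = n j • ιW W := by
    intro i j W gi gj
    change n i • sec ι' (op W) = n j • sec ι' (op W)
    rw [← sec_comp_of_smul φ ι' (op W) (n i) (hφ i W gi),
      ← sec_comp_of_smul φ ι' (op W) (n j) (hφ j W gj)]
  -- torsion-freeness in the form used below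
  have htf : ∀ (i : ι) (W : C) (f : S.X₁.obj.obj (op W)), n i • a W f = 0 → f = 0 := by
    intro i W f hf
    have h1 : a W (n i • f) = a W 0 := by rw [map_zsmul, hf, map_zero]
    have h2 := ha_inj W h1
    exact (hbij (n i) W (hn i)).1 (by simpa using h2)
  let Q : ∀ V : C, S.X₂.obj.obj (op V) → Prop := fun V e =>
    π V e = kW V ∧
      ∀ ⦃W : C⦄ (g : W ⟶ V) (i : ι), (W ⟶ U i) → n i • res S.X₂ g e = ιW W
  have hres : ∀ {V W : C} (g : W ⟶ V) (e : S.X₂.obj.obj (op V)),
      Q V e → Q W ((S.X₂.obj.map g.op).hom e) := by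
    intro V W g e he
    refine ⟨?_, ?_⟩
    · change π W (res S.X₂ g e) = kW W
      rw [hπres, he.1, hkres]
    · intro W' g' i gi
      change n i • res S.X₂ g' (res S.X₂ g e) = ιW W'
      rw [res_comp]
      exact he.2 (g' ≫ g) i gi
  have huniq : ∀ (V : C) (e e' : S.X₂.obj.obj (op V)), Q V e → Q V e' → e = e' := by
    intro V e e' he he'
    obtain ⟨f, hf⟩ := hex V (e - e') (by rw [map_sub, he.1, he'.1, sub_self])
    obtain ⟨R, hR, hsmall⟩ := hcov V
    have hf0 : f = 0 := by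
      refine ab_sep S.X₁ R hR f 0 ?_
      intro W g hg
      obtain ⟨i, ⟨gi⟩⟩ := hsmall g hg
      rw [map_zero]
      apply htf i W
      change n i • a W (res S.X₁ g f) = 0
      rw [hares, hf]
      change n i • (S.X₂.obj.map g.op).hom (e - e') = 0
      rw [map_sub, smul_sub]
      change n i • res S.X₂ g e - n i • res S.X₂ g e' = 0
      rw [he.2 g i gi, he'.2 g i gi, sub_self]
    rw [hf0, map_zero] at hf
    exact (sub_eq_zero.1 hf.symm)
  have hloc : ∀ V : C, ∃ R ∈ J V, ∀ ⦃W : C⦄ (g : W ⟶ V), R g → ∃ e, Q W e := by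
    intro V
    obtain ⟨R₁, hR₁, hsmall⟩ := hcov V
    obtain ⟨R₂, hR₂, hlift⟩ := exists_local_lift hS V (kW V)
    refine ⟨R₁ ⊓ R₂, J.intersection_covering hR₁ hR₂, ?_⟩
    intro W g hg
    obtain ⟨i, ⟨gi⟩⟩ := hsmall g hg.1
    obtain ⟨b, hb⟩ := hlift g hg.2
    have hb' : π W b = kW W := by
      change (S.g.hom.app (op W)).hom b = kW W
      rw [hb]
      exact hkres g
    obtain ⟨f, hf⟩ := hex W (n i • b - ιW W) (by rw [map_sub, map_zsmul, hb', hπι i W gi, sub_self])
    obtain ⟨f', hf'⟩ := (hbij (n i) W (hn i)).2 f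
    have hf'' : n i • f' = f := hf'
    have he1 : n i • (b - a W f') = ιW W := by
      rw [smul_sub, ← map_zsmul, hf'', hf, sub_sub_cancel]
    have he2 : π W (b - a W f') = kW W := by rw [map_sub, hπa, sub_zero, hb']
    refine ⟨b - a W f', he2, ?_⟩
    intro W' g' j gj
    have h1 : n i • res S.X₂ g' (b - a W f') = ιW W' := by
      change n i • (S.X₂.obj.map g'.op).hom (b - a W f') = ιW W'
      rw [← map_zsmul, he1]
      exact hιres g'
    have h2 : π W' (res S.X₂ g' (b - a W f')) = kW W' := by rw [hπres, he2, hkres]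
    obtain ⟨f₂, hf₂⟩ := hex W' (n j • res S.X₂ g' (b - a W f') - ιW W')
      (by rw [map_sub, map_zsmul, h2, hπι j W' gj, sub_self])
    have hf₂0 : f₂ = 0 := by
      apply htf i W'
      rw [hf₂, smul_sub, smul_comm, h1, htriv i j W' (g' ≫ gi) gj, sub_self]
    rw [hf₂0, map_zero] at hf₂
    exact sub_eq_zero.1 hf₂.symm
  have hglue : ∀ (V : C) (e : S.X₂.obj.obj (op V)) (R : Sieve V), R ∈ J V →
      (∀ ⦃W : C⦄ (g : W ⟶ V), R g → Q W ((S.X₂.obj.map g.op).hom e)) → Q V e := by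
    intro V e R hR h
    refine ⟨?_, ?_⟩
    · refine ab_sep S.X₃ R hR _ _ ?_
      intro W g hg
      change res S.X₃ g (π V e) = res S.X₃ g (kW V)
      rw [← hπres, hkres]
      exact (h g hg).1
    · intro W g i gi
      refine ab_sep S.X₂ (R.pullback g) (J.pullback_stable g hR) _ _ ?_
      intro W' g' hg'
      change (S.X₂.obj.map g'.op).hom (n i • res S.X₂ g e) = res S.X₂ g' (ιW W)
      rw [map_zsmul, hιres]
      change n i • res S.X₂ g' (res S.X₂ g e) = ιW W'
      rw [res_comp]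
      have := (h (g' ≫ g) hg').2 (𝟙 W') i (g' ≫ gi)
      rw [res_id] at this
      exact this
  have hall := ab_exists_of_local S.X₂ Q hres huniq hloc hglue
  choose e he using hall
  obtain ⟨l, hl⟩ := exists_of_family (G := S.X₂) (fun W => e W.unop) (by
    intro V W h
    exact huniq W.unop _ _ (hres h.unop (e V.unop) (he V.unop)) (he W.unop))
  refine ⟨l, ext_sec ?_⟩
  intro W
  rw [sec_comp, hl]
  exact (he W.unop).1

/-- `Ext¹(ℤ, A)` has no `φ`-torsion for `A` uniquely divisible and `φ` locally nonzero. -/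
theorem ext_eq_zero_of_divisible {A : AddCommGrpCat.{u}}
    (hA : ∀ m : ℤ, m ≠ 0 → Function.Bijective (fun a : A => m • a))
    (φ : Zs' J ⟶ Zs' J) {ι : Type u} (U : ι → C) (n : ι → ℤ) (hn : ∀ i, n i ≠ 0)
    (hφ : ∀ (i : ι) (V : C) (_ : V ⟶ U i), φ.hom.app (op V) = n i • 𝟙 _)
    (hcov : ∀ V : C, ∃ R ∈ J V, ∀ ⦃W : C⦄ (g : W ⟶ V), R g → ∃ i, Nonempty (W ⟶ U i))
    (x : Abelian.Ext (Zs' J) ((constantSheaf J AddCommGrpCat.{u}).obj A) 1)
    (hx : (Abelian.Ext.mk₀ φ).comp x (zero_add 1) = 0) : x = 0 := by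
  let F := (constantSheaf J AddCommGrpCat.{u}).obj A
  let S : ShortComplex (Sheaf J AddCommGrpCat.{u}) :=
    ShortComplex.mk (Injective.ι F) (cokernel.π (Injective.ι F)) (cokernel.condition _)
  have hS : S.ShortExact :=
    { exact := ShortComplex.exact_cokernel _
      mono_f := inferInstanceAs (Mono (Injective.ι F))
      epi_g := inferInstanceAs (Epi (cokernel.π _)) }
  have hx2 : x.comp (Abelian.Ext.mk₀ S.f) (add_zero 1) = 0 :=
    Abelian.Ext.eq_zero_of_injective (I := Injective.under F) _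
  obtain ⟨x₃, hx₃⟩ := Abelian.Ext.covariant_sequence_exact₁ _ hS x hx2 (n₀ := 0) rfl
  obtain ⟨k, rfl⟩ := (Abelian.Ext.mk₀_bijective _ _).2 x₃
  have h3 : (Abelian.Ext.mk₀ (φ ≫ k)).comp hS.extClass (zero_add 1) = 0 := by
    rw [← Abelian.Ext.mk₀_comp_mk₀, Abelian.Ext.comp_assoc_of_second_deg_zero, hx₃]
    exact hx
  obtain ⟨y, hy⟩ := Abelian.Ext.covariant_sequence_exact₃ _ hS (Abelian.Ext.mk₀ (φ ≫ k))
    (zero_add 1) h3
  obtain ⟨ι', rfl⟩ := (Abelian.Ext.mk₀_bijective _ _).2 y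
  have hι : ι' ≫ S.g = φ ≫ k := by
    rw [Abelian.Ext.mk₀_comp_mk₀] at hy
    exact (Abelian.Ext.mk₀_bijective _ _).1 hy
  obtain ⟨l, hl⟩ := exists_lift_of_comp hS
    (fun m W hm => smul_bijective_app m (hA m hm) W) φ U n hn hφ hcov k ι' hι
  rw [← hx₃, ← hl, ← Abelian.Ext.mk₀_comp_mk₀, Abelian.Ext.comp_assoc_of_second_deg_zero,
    hS.comp_extClass, Abelian.Ext.comp_zero]

end Groth.Agent.Lib.Helper21.H1Tors
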