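import Mathlib
import Groth.Prelude.Def_HRes
import Groth.Agent.Lib.Helper21.ExtNat

namespace Groth.Agent.Lib.Helper21.HResLib

open CategoryTheory Limits AlgebraicGeometry Opposite

universe u

theorem comp3 {A : Type*} [Category A] {X Y Z W : A} (a : X ⟶ Y) (b : Y ⟶ Z) (c : Z ⟶ W)
    (a' : X ⟶ Z) (a'' : X ⟶ W) (h2 : a ≫ b = a') (h3 : a' ≫ c = a'') : a ≫ (b ≫ c) = a'' := by
  rw [← Category.assoc, h2, h3]

variable (K : Precoverage Scheme.{u})

theorem pullConst_inv_id (S : Scheme.{u}) (M : AddCommGrpCat.{u+1}) :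
    (HRes.pullConst K (𝟙 S) M).inv ≫ (K.toGrothendieck.overMapPullbackId AddCommGrpCat.{u + 1} S).hom.app ((constantSheaf (QuotSh.J K S) AddCommGrpCat.{u + 1}).obj M) = 𝟙 _ := by
  apply Sheaf.hom_ext
  apply sheafify_hom_ext _ _ _ ((constantSheaf (QuotSh.J K S) AddCommGrpCat.{u + 1}).obj M).2
  have h1 := (Over.map (𝟙 S)).toSheafify_pullbackSheafificationCompatibility AddCommGrpCat.{u+1} (QuotSh.J K S) (QuotSh.J K S) ((Functor.const _).obj M)
  apply NatTrans.ext
  funext U
  have h1U := congrArg (fun t => t.app U) h1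
  have h3 : (toSheafify (QuotSh.J K S) ((Functor.const _).obj M)).app ((Over.map (𝟙 S)).op.obj U) ≫
      (sheafify (QuotSh.J K S) ((Functor.const _).obj M)).map ((Over.mapId S).inv.app (unop U)).op =
      (toSheafify (QuotSh.J K S) ((Functor.const _).obj M)).app U := by
    rw [← (toSheafify (QuotSh.J K S) ((Functor.const _).obj M)).naturality]
    simp
  have h4 := GrothendieckTopology.overMapPullbackId_hom_app_hom_app K.toGrothendieck AddCommGrpCat.{u+1} S
    ((constantSheaf (QuotSh.J K S) AddCommGrpCat.{u + 1}).obj M) U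
  exact (comp3 _ _ _ _ _ h1U (Eq.trans (congrArg (fun t => _ ≫ t) h4) h3)).trans (Category.comp_id _).symm

open Abelian

set_option maxHeartbeats 1000000 in
theorem pull_id (K : Precoverage Scheme.{u}) (S : Scheme.{u})
    (F : BigSite.Ab K S) (n : ℕ) (x : BigSite.H K S F n) :
    Sheaf.H.map ((K.toGrothendieck.overMapPullbackId AddCommGrpCat.{u + 1} S).hom.app F) n
      (HRes.pull K (𝟙 S) F n x) = x := by
  rw [HRes.pull_apply, Sheaf.H.map_apply, Ext.comp_assoc_of_third_deg_zero]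
  have nat := ExtNat.mapExactFunctor_naturality.{u+1,u+1} (BigSite.pullBig K (𝟙 S) AddCommGrpCat.{u+1}) (𝟭 _)
    (K.toGrothendieck.overMapPullbackId AddCommGrpCat.{u + 1} S).hom x
  rw [ExtNat.mapExactFunctor_id] at nat
  erw [nat]
  rw [← Ext.comp_assoc_of_second_deg_zero, Ext.mk₀_comp_mk₀]
  erw [pullConst_inv_id]
  simp

end Groth.Agent.Lib.Helper21.HResLib
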