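import Mathlib
import Groth.Prelude.Def_HRes
import Groth.Agent.Lib.Helper21.HResLib

namespace Groth.Agent.Lib.Helper21.HResLib2

open CategoryTheory Limits AlgebraicGeometry Opposite Abelian

universe u

theorem comp4 {A : Type*} [Category A] {X Y Z W V : A} (a : X ⟶ Y) (b : Y ⟶ Z) (c : Z ⟶ W)
    (d : W ⟶ V) (a' : X ⟶ Z) (a'' : X ⟶ W) (a''' : X ⟶ V)
    (h2 : a ≫ b = a') (h3 : a' ≫ c = a'') (h4 : a'' ≫ d = a''') :
    a ≫ (b ≫ (c ≫ d)) = a''' := by
  rw [← Category.assoc, h2, ← Category.assoc, h3, h4]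

variable (K : Precoverage Scheme.{u})

theorem pullConst_inv_comp {S T T' : Scheme.{u}} (f : T ⟶ S) (g : T' ⟶ T) (M : AddCommGrpCat.{u+1}) :
    (HRes.pullConst K (g ≫ f) M).inv =
      (HRes.pullConst K g M).inv ≫
        (BigSite.pullBig K g AddCommGrpCat.{u+1}).map (HRes.pullConst K f M).inv ≫
        (K.toGrothendieck.overMapPullbackComp AddCommGrpCat.{u + 1} g f).hom.app
          ((constantSheaf (QuotSh.J K S) AddCommGrpCat.{u + 1}).obj M) := by
  apply Sheaf.hom_ext
  apply sheafify_hom_ext _ _ _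
    ((BigSite.pullBig K (g ≫ f) AddCommGrpCat.{u+1}).obj
      ((constantSheaf (QuotSh.J K S) AddCommGrpCat.{u + 1}).obj M)).2
  have h1 := (Over.map (g ≫ f)).toSheafify_pullbackSheafificationCompatibility AddCommGrpCat.{u+1}
    (QuotSh.J K T') (QuotSh.J K S) ((Functor.const _).obj M)
  have h1g := (Over.map g).toSheafify_pullbackSheafificationCompatibility AddCommGrpCat.{u+1}
    (QuotSh.J K T') (QuotSh.J K T) ((Functor.const _).obj M)
  have h1f := (Over.map f).toSheafify_pullbackSheafificationCompatibility AddCommGrpCat.{u+1}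
    (QuotSh.J K T) (QuotSh.J K S) ((Functor.const _).obj M)
  apply NatTrans.ext
  funext U
  have h1U := congrArg (fun t => t.app U) h1
  have h1gU := congrArg (fun t => t.app U) h1g
  have h1fU := congrArg (fun t => t.app ((Over.map g).op.obj U)) h1f
  have h3 : (toSheafify (QuotSh.J K S) ((Functor.const _).obj M)).app
        ((Over.map f).op.obj ((Over.map g).op.obj U)) ≫
      (sheafify (QuotSh.J K S) ((Functor.const _).obj M)).map
        ((Over.mapComp g f).hom.app (unop U)).op =
      (toSheafify (QuotSh.J K S) ((Functor.const _).obj M)).app ((Over.map (g ≫ f)).op.obj U) := by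
    rw [← (toSheafify (QuotSh.J K S) ((Functor.const _).obj M)).naturality]
    simp
  have h4 := GrothendieckTopology.overMapPullbackComp_hom_app_hom_app K.toGrothendieck
    AddCommGrpCat.{u+1} g f ((constantSheaf (QuotSh.J K S) AddCommGrpCat.{u + 1}).obj M) U
  exact h1U.trans (comp4 _ _ _ _ _ _ _ h1gU h1fU (Eq.trans (congrArg (fun t => _ ≫ t) h4) h3)).symm

set_option maxHeartbeats 1000000 in
theorem pull_comp {S T T' : Scheme.{u}}
    (f : T ⟶ S) (g : T' ⟶ T) (F : BigSite.Ab K S) (n : ℕ) (x : BigSite.H K S F n) :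
    HRes.pull K (g ≫ f) F n x =
      Sheaf.H.map ((K.toGrothendieck.overMapPullbackComp AddCommGrpCat.{u + 1} g f).hom.app F) n
        (HRes.pull K g ((BigSite.pullBig K f AddCommGrpCat.{u + 1}).obj F) n
          (HRes.pull K f F n x)) := by
  have : PreservesFiniteLimits
      (BigSite.pullBig K f AddCommGrpCat.{u+1} ⋙ BigSite.pullBig K g AddCommGrpCat.{u+1}) :=
    comp_preservesFiniteLimits _ _
  have : PreservesFiniteColimits
      (BigSite.pullBig K f AddCommGrpCat.{u+1} ⋙ BigSite.pullBig K g AddCommGrpCat.{u+1}) :=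
    comp_preservesFiniteColimits _ _
  have nat := ExtNat.mapExactFunctor_naturality.{u+1,u+1}
    (BigSite.pullBig K f AddCommGrpCat.{u+1} ⋙ BigSite.pullBig K g AddCommGrpCat.{u+1})
    (BigSite.pullBig K (g ≫ f) AddCommGrpCat.{u+1})
    (K.toGrothendieck.overMapPullbackComp AddCommGrpCat.{u + 1} g f).hom x
  rw [ExtNat.mapExactFunctor_comp_functor.{u+1,u+1}] at nat
  rw [HRes.pull_apply, HRes.pull_apply, HRes.pull_apply, Sheaf.H.map_apply,
    Ext.mapExactFunctor_comp, Ext.mapExactFunctor_mk₀, Ext.comp_assoc_of_third_deg_zero,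
    Ext.comp_assoc_of_third_deg_zero]
  erw [nat]
  rw [Ext.mk₀_comp_mk₀_assoc, Ext.mk₀_comp_mk₀_assoc, pullConst_inv_comp]
  rfl

end Groth.Agent.Lib.Helper21.HResLib2
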