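import Mathlib
import Groth.Agent.Lib.Helper9.HilbD12Defs

/-!
# Q4 for helper9 / helper18 D12 (S12265): morphisms from a local scheme through a rational point
factor through the local ring (helper21)
-/

set_option autoImplicit false
set_option linter.style.haveILetI false
universe u

open CategoryTheory CategoryTheory.Limits AlgebraicGeometry
open Groth.Agent.Lib.Helper9.HilbD12Defs

namespace Groth.Agent.Lib.Helper21.HilbD12Q4

variable {k : Type u} [Field k] {Hs : Scheme.{u}} (ϖ : Hs ⟶ Spec (CommRingCat.of k))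
  (h₀ : Spec (CommRingCat.of k) ⟶ Hs)

/-- Q4 -/
theorem exists_of_hom {A : CommRingCat.{u}} [IsLocalRing A] (ρ : A ⟶ CommRingCat.of k)
    [IsLocalHom ρ.hom] (g : Spec A ⟶ Hs) (hg : Spec.map ρ ≫ g = h₀) :
    ∃ φ : Hs.presheaf.stalk (h₀.base (IsLocalRing.closedPoint k)) ⟶ A,
      φ ≫ ρ = resRing h₀ ∧ gOf h₀ φ = g := by
  subst hg
  have e : g.base (IsLocalRing.closedPoint A) =
      (Spec.map ρ ≫ g).base (IsLocalRing.closedPoint k) := by
    have h1 : (Spec.map ρ).base (IsLocalRing.closedPoint (CommRingCat.of k)) =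
        IsLocalRing.closedPoint A := Spec_closedPoint
    rw [← h1]
    rfl
  have h2 : gOf (Spec.map ρ ≫ g)
      (Hs.presheaf.stalkSpecializes (specializes_of_eq e) ≫ Scheme.stalkClosedPointTo g) = g := by
    unfold gOf
    rw [Spec.map_comp, Category.assoc, Scheme.SpecMap_stalkSpecializes_fromSpecStalk]
    exact Scheme.Spec_stalkClosedPointTo_fromSpecStalk g
  refine ⟨Hs.presheaf.stalkSpecializes (specializes_of_eq e) ≫ Scheme.stalkClosedPointTo g,
    ?_, h2⟩
  haveI : Mono (Hs.fromSpecStalk ((Spec.map ρ ≫ g).base (IsLocalRing.closedPoint k))) :=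
    inferInstance
  apply Spec.map_injective
  rw [← cancel_mono (Hs.fromSpecStalk ((Spec.map ρ ≫ g).base (IsLocalRing.closedPoint k))),
    Spec.map_comp, Category.assoc]
  have h3 : Spec.map (Hs.presheaf.stalkSpecializes (specializes_of_eq e) ≫
      Scheme.stalkClosedPointTo g) ≫
      Hs.fromSpecStalk ((Spec.map ρ ≫ g).base (IsLocalRing.closedPoint k)) = g := h2
  rw [h3]
  exact (Scheme.Spec_stalkClosedPointTo_fromSpecStalk (Spec.map ρ ≫ g)).symm

end Groth.Agent.Lib.Helper21.HilbD12Q4
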