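import Mathlib
import Groth.Agent.Lib.Helper21.KDiffSmoothB

set_option autoImplicit false
set_option linter.style.haveILetI false

namespace Groth.Agent.Lib.Helper21.Impf

open IsLocalRing TensorProduct KaehlerDifferential

universe u

theorem lTensor_injective_of_equiv {A : Type*} [CommRing A] {M N κ K : Type*}
    [AddCommGroup M] [Module A M] [AddCommGroup N] [Module A N]
    [AddCommGroup κ] [Module A κ] [AddCommGroup K] [Module A K]
    (e : κ ≃ₗ[A] K) (f : M →ₗ[A] N) (h : Function.Injective (f.lTensor κ)) :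
    Function.Injective (f.lTensor K) := by
  have h1 : f.lTensor K ∘ₗ (e.toLinearMap.rTensor M) =
      (e.toLinearMap.rTensor N) ∘ₗ f.lTensor κ := by
    rw [LinearMap.lTensor_comp_rTensor, LinearMap.rTensor_comp_lTensor]
  have hsur : Function.Surjective (e.toLinearMap.rTensor M) :=
    LinearMap.rTensor_surjective M e.surjective
  have hinj : Function.Injective (e.toLinearMap.rTensor N) := by
    have : (e.toLinearMap.rTensor N) = (TensorProduct.congr e (LinearEquiv.refl A N)).toLinearMap := by
      apply TensorProduct.ext'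
      intro x y
      rfl
    rw [this]
    exact (TensorProduct.congr e (LinearEquiv.refl A N)).injective
  intro x y hxy
  obtain ⟨x', rfl⟩ := hsur x
  obtain ⟨y', rfl⟩ := hsur y
  have hx : (e.toLinearMap.rTensor N) (f.lTensor κ x') = (e.toLinearMap.rTensor N) (f.lTensor κ y') := by
    have e1 := LinearMap.congr_fun h1 x'
    have e2 := LinearMap.congr_fun h1 y'
    rw [LinearMap.comp_apply, LinearMap.comp_apply] at e1 e2
    rw [← e1, ← e2, hxy]
  rw [h (hinj hx)]

variable {k K A : Type u} [Field k] [Field K] [Algebra k K] [CommRing A] [IsLocalRing A]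
  [IsNoetherianRing A] [Algebra k A] [Algebra A K] [IsScalarTower k A K]

theorem finite_imperfection_of_isAdicFormallySmooth
    (hsurj : Function.Surjective (algebraMap A K))
    (eA : ResidueField A ≃ₗ[A] K)
    (h : CAlgX.IsAdicFormallySmooth k A (maximalIdeal A)) :
    Module.Finite K (EGA41.imperfection ℤ k K) := by
  have hinjκ := Groth.Agent.Lib.Helper21.KDiffSmooth.injective_of_isAdicFormallySmooth k A h
  have hinjK : Function.Injective ((KaehlerDifferential.mapBaseChange ℤ k A).lTensor K) :=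
    lTensor_injective_of_equiv eA _ hinjκ
  let α : K ⊗[A] (A ⊗[k] Ω[k⁄ℤ]) →ₗ[K] K ⊗[A] Ω[A⁄ℤ] :=
    (KaehlerDifferential.mapBaseChange ℤ k A).baseChange K
  have hfun : (α : K ⊗[A] (A ⊗[k] Ω[k⁄ℤ]) → K ⊗[A] Ω[A⁄ℤ]) =
      (KaehlerDifferential.mapBaseChange ℤ k A).lTensor K :=
    LinearMap.baseChange_eq_ltensor _
  have hα : Function.Injective α := by rw [hfun]; exact hinjK
  let can : K ⊗[k] Ω[k⁄ℤ] ≃ₗ[K] K ⊗[A] (A ⊗[k] Ω[k⁄ℤ]) :=
    (TensorProduct.AlgebraTensorModule.cancelBaseChange k A K K Ω[k⁄ℤ]).symm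
  let β : K ⊗[A] Ω[A⁄ℤ] →ₗ[K] Ω[K⁄ℤ] := KaehlerDifferential.mapBaseChange ℤ A K
  let m : K ⊗[k] Ω[k⁄ℤ] →ₗ[K] Ω[K⁄ℤ] := KaehlerDifferential.mapBaseChange ℤ k K
  have hcomp : β ∘ₗ α ∘ₗ can.toLinearMap = m := by
    apply (LinearMap.liftBaseChangeEquiv K).symm.injective
    apply Derivation.liftKaehlerDifferential_unique
    ext x
    show β (α (can ((1 : K) ⊗ₜ[k] KaehlerDifferential.D ℤ k x))) =
      m ((1 : K) ⊗ₜ[k] KaehlerDifferential.D ℤ k x)
    show β (α ((TensorProduct.AlgebraTensorModule.cancelBaseChange k A K K Ω[k⁄ℤ]).symm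
      ((1 : K) ⊗ₜ[k] KaehlerDifferential.D ℤ k x))) = _
    rw [TensorProduct.AlgebraTensorModule.cancelBaseChange_symm_tmul]
    show β ((1 : K) ⊗ₜ[A] (KaehlerDifferential.mapBaseChange ℤ k A
      ((1 : A) ⊗ₜ[k] KaehlerDifferential.D ℤ k x))) = _
    have e1 : KaehlerDifferential.mapBaseChange ℤ k A
        ((1 : A) ⊗ₜ[k] KaehlerDifferential.D ℤ k x) =
        KaehlerDifferential.D ℤ A (algebraMap k A x) := by
      rw [KaehlerDifferential.mapBaseChange_tmul, one_smul, KaehlerDifferential.map_D]
    rw [e1]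
    show KaehlerDifferential.mapBaseChange ℤ A K
      ((1 : K) ⊗ₜ[A] KaehlerDifferential.D ℤ A (algebraMap k A x)) =
      KaehlerDifferential.mapBaseChange ℤ k K ((1 : K) ⊗ₜ[k] KaehlerDifferential.D ℤ k x)
    rw [KaehlerDifferential.mapBaseChange_tmul, one_smul, KaehlerDifferential.map_D,
      KaehlerDifferential.mapBaseChange_tmul, one_smul, KaehlerDifferential.map_D,
      ← IsScalarTower.algebraMap_apply]
  -- the kernel of β is finitely generated
  have hfg : (LinearMap.ker β).FG := by
    haveI : Module.Finite A (RingHom.ker (algebraMap A K)).Cotangent :=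
      Module.Finite.of_surjective (RingHom.ker (algebraMap A K)).toCotangent
        (Ideal.toCotangent_surjective _)
    have h1 : (LinearMap.range (KaehlerDifferential.kerCotangentToTensor ℤ A K)).FG := by
      rw [LinearMap.range_eq_map]
      exact Submodule.FG.map _ Module.Finite.fg_top
    rw [KaehlerDifferential.range_kerCotangentToTensor ℤ A K hsurj] at h1
    obtain ⟨S, hS⟩ := h1
    refine ⟨S, le_antisymm (Submodule.span_le.mpr fun x hx => ?_) (fun x hx => ?_)⟩
    · have : x ∈ (LinearMap.ker β).restrictScalars A := hS ▸ Submodule.subset_span hx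
      exact this
    · have : x ∈ Submodule.span A (S : Set (K ⊗[A] Ω[A⁄ℤ])) := hS ▸ hx
      exact Submodule.span_le_restrictScalars A K _ this
  haveI : Module.Finite K (LinearMap.ker β) := Module.Finite.iff_fg.mpr hfg
  let g : EGA41.imperfection ℤ k K →ₗ[K] LinearMap.ker β :=
    LinearMap.codRestrict (LinearMap.ker β)
      ((α ∘ₗ can.toLinearMap) ∘ₗ (EGA41.imperfection ℤ k K).subtype) (fun u => by
        rw [LinearMap.mem_ker]
        have hu : m u.1 = 0 := u.2
        rw [← hcomp] at hu
        exact hu)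
  have hg : Function.Injective g := by
    intro u v huv
    have h2 : α (can u.1) = α (can v.1) := congrArg Subtype.val huv
    exact Subtype.ext (can.injective (hα h2))
  exact @FiniteDimensional.of_injective K (EGA41.imperfection ℤ k K) _ _ _ (LinearMap.ker β) _ _ g hg _

end Groth.Agent.Lib.Helper21.Impf
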