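import Mathlib
import Groth.Agent.Lib.Helper21.ImpfA
import Groth.Agent.Lib.Helper21.PthRootS

set_option autoImplicit false
set_option linter.style.haveILetI false

namespace Groth.Agent.Lib.Helper21.Impf

open IsLocalRing TensorProduct KaehlerDifferential

universe u

section abstract

variable {k K A : Type u} [Field k] [Field K] [Algebra k K] [CommRing A] [IsLocalRing A]
  [Algebra k A]

/-- extension of a functional along an injective-on-a-subspace linear map -/
theorem exists_dual_extend {V W : Type*} [AddCommGroup V] [Module K V] [AddCommGroup W]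
    [Module K W] (U : Submodule K V) (L : V →ₗ[K] W) (hL : ∀ u ∈ U, L u = 0 → u = 0)
    (lam : V →ₗ[K] K) : ∃ ψ : W →ₗ[K] K, ∀ u ∈ U, ψ (L u) = lam u := by
  have hker : LinearMap.ker (L ∘ₗ U.subtype) = ⊥ := by
    rw [LinearMap.ker_eq_bot']
    intro u hu
    exact Subtype.ext (hL u.1 u.2 hu)
  obtain ⟨g, hg⟩ := LinearMap.exists_leftInverse_of_injective (L ∘ₗ U.subtype) hker
  refine ⟨(lam ∘ₗ U.subtype) ∘ₗ g, fun u hu => ?_⟩
  have := LinearMap.congr_fun hg ⟨u, hu⟩
  simp only [LinearMap.comp_apply, Submodule.subtype_apply, LinearMap.id_apply] at this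
  simp only [LinearMap.comp_apply, Submodule.subtype_apply]
  rw [this]

/-- a functional vanishing on the kernel of `m` factors through `m` -/
theorem exists_dual_factor {V W : Type*} [AddCommGroup V] [Module K V] [AddCommGroup W]
    [Module K W] (m : V →ₗ[K] W) (mu : V →ₗ[K] K) (h : ∀ u, m u = 0 → mu u = 0) :
    ∃ ν : W →ₗ[K] K, ∀ u, ν (m u) = mu u := by
  have hmem : mu ∈ (LinearMap.ker m).dualAnnihilator := by
    rw [Submodule.mem_dualAnnihilator]
    intro u hu
    exact h u hu
  rw [← LinearMap.range_dualMap_eq_dualAnnihilator_ker] at hmem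
  obtain ⟨ν, hν⟩ := hmem
  refine ⟨ν, fun u => ?_⟩
  rw [← hν]
  rfl

variable {V : Type u} [AddCommGroup V] [Module K V] [Module Kᵐᵒᵖ V] [IsCentralScalar K V]

theorem injective_of_firstOrder
    (ρ : A →+* K) (hρsurj : Function.Surjective ρ)
    (hρk : ∀ x, ρ (algebraMap k A x) = algebraMap k K x)
    (τ : A →+* TrivSqZeroExt K V) (hτ : ∀ a, (τ a).fst = ρ a)
    (L : K ⊗[k] Ω[k⁄ℤ] →ₗ[K] V)
    (hτk : ∀ x, (τ (algebraMap k A x)).snd = L ((1 : K) ⊗ₜ[k] KaehlerDifferential.D ℤ k x))
    (hL : ∀ u ∈ EGA41.imperfection ℤ k K, L u = 0 → u = 0) :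
    Function.Injective ((KaehlerDifferential.mapBaseChange ℤ k A).lTensor (ResidueField A)) := by
  apply Groth.Agent.Lib.Helper21.PthRoot.injective_of_forall_exists_derivation k A
  intro δ
  -- the residue field identification
  have hker : ∀ a ∈ maximalIdeal A, ρ a = 0 := by
    intro a ha
    by_contra hne
    have hu : IsUnit (ρ a) := IsUnit.mk0 _ hne
    obtain ⟨b, hb⟩ := hρsurj (ρ a)⁻¹
    have h1 : ρ (a * b) = 1 := by rw [map_mul, hb, mul_inv_cancel₀ hne]
    have h2 : a * b - 1 ∈ maximalIdeal A := by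
      by_contra hnot
      have hunit : IsUnit (a * b - 1) := by
        by_contra hnu
        exact hnot ((mem_maximalIdeal _).mpr hnu)
      have : ρ (a * b - 1) = 0 := by rw [map_sub, h1, map_one, sub_self]
      exact (hunit.map ρ).ne_zero this
    have h3 : a * b ∈ maximalIdeal A := Ideal.mul_mem_right b _ ha
    have h4 : (1 : A) ∈ maximalIdeal A := by
      have := sub_mem h3 h2
      rwa [sub_sub_cancel] at this
    exact (Ideal.ne_top_iff_one _).mp (maximalIdeal.isMaximal A).ne_top h4
  let ρbar : ResidueField A →+* K := Ideal.Quotient.lift (maximalIdeal A) ρ hker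
  have hρbar : ∀ a, ρbar (residue A a) = ρ a := fun a => Ideal.Quotient.lift_mk _ _ _
  have hbij : Function.Bijective ρbar := by
    refine ⟨ρbar.injective, fun c => ?_⟩
    obtain ⟨a, rfl⟩ := hρsurj c
    exact ⟨residue A a, hρbar a⟩
  let ε : ResidueField A ≃+* K := RingEquiv.ofBijective ρbar hbij
  have hε : ∀ a, ε (residue A a) = ρ a := hρbar
  have hεsymm : ∀ a, ε.symm (ρ a) = residue A a := fun a => by
    rw [← hε a, RingEquiv.symm_apply_apply]
  let εl : ResidueField A →ₗ[k] K :=
    { toFun := ε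
      map_add' := map_add ε
      map_smul' := fun x c => by
        rw [RingHom.id_apply, Algebra.smul_def, Algebra.smul_def, map_mul,
          IsScalarTower.algebraMap_apply k A (ResidueField A)]
        show ε (residue A (algebraMap k A x)) * ε c = _
        rw [hε, hρk] }
  let δ' : Derivation ℤ k K := εl.compDer δ
  have hδ' : ∀ x, δ' x = ε (δ x) := fun x => rfl
  let lam : K ⊗[k] Ω[k⁄ℤ] →ₗ[K] K := LinearMap.liftBaseChange K δ'.liftKaehlerDifferential
  have hlam : ∀ x, lam ((1 : K) ⊗ₜ[k] KaehlerDifferential.D ℤ k x) = ε (δ x) := by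
    intro x
    show LinearMap.liftBaseChange K δ'.liftKaehlerDifferential _ = _
    rw [LinearMap.liftBaseChange_tmul, one_smul, Derivation.liftKaehlerDifferential_comp_D, hδ']
  obtain ⟨ψ, hψ⟩ := exists_dual_extend (EGA41.imperfection ℤ k K) L hL lam
  let m : K ⊗[k] Ω[k⁄ℤ] →ₗ[K] Ω[K⁄ℤ] := KaehlerDifferential.mapBaseChange ℤ k K
  obtain ⟨ν, hν⟩ := exists_dual_factor m (lam - ψ ∘ₗ L) (fun u hu => by
    rw [LinearMap.sub_apply, LinearMap.comp_apply, hψ u hu, sub_self])
  let δK : Derivation ℤ K K := ν.compDer (KaehlerDifferential.D ℤ K)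
  have hδK : ∀ c, δK c = ν (KaehlerDifferential.D ℤ K c) := fun c => rfl
  let D : Derivation ℤ A (ResidueField A) := Derivation.mk'
    (AddMonoidHom.toIntLinearMap
      { toFun := fun a => ε.symm (δK (ρ a) + ψ ((τ a).snd))
        map_zero' := by
          rw [map_zero, map_zero, map_zero, TrivSqZeroExt.snd_zero, map_zero, add_zero, map_zero]
        map_add' := fun a b => by
          rw [← map_add]
          congr 1
          rw [map_add ρ, map_add δK, map_add τ, TrivSqZeroExt.snd_add, map_add ψ]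
          abel })
    (fun a b => by
      show ε.symm (δK (ρ (a * b)) + ψ ((τ (a * b)).snd)) =
        a • ε.symm (δK (ρ b) + ψ ((τ b).snd)) + b • ε.symm (δK (ρ a) + ψ ((τ a).snd))
      rw [Algebra.smul_def, Algebra.smul_def]
      show _ = residue A a * _ + residue A b * _
      rw [← hεsymm a, ← hεsymm b, ← map_mul, ← map_mul, ← map_add]
      congr 1
      rw [map_mul ρ, Derivation.leibniz, map_mul τ, TrivSqZeroExt.snd_mul, op_smul_eq_smul,
        hτ, hτ, map_add, map_smul, map_smul, smul_eq_mul, smul_eq_mul, smul_eq_mul, smul_eq_mul]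
      ring)
  refine ⟨D, fun x => ?_⟩
  show ε.symm (δK (ρ (algebraMap k A x)) + ψ ((τ (algebraMap k A x)).snd)) = δ x
  rw [hρk, hτk, hδK]
  have e1 : KaehlerDifferential.D ℤ K (algebraMap k K x) =
      m ((1 : K) ⊗ₜ[k] KaehlerDifferential.D ℤ k x) := by
    show _ = KaehlerDifferential.mapBaseChange ℤ k K _
    rw [KaehlerDifferential.mapBaseChange_tmul, one_smul, KaehlerDifferential.map_D]
  rw [e1, hν, LinearMap.sub_apply, LinearMap.comp_apply, sub_add_cancel, hlam,
    RingEquiv.symm_apply_apply]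

end abstract

end Groth.Agent.Lib.Helper21.Impf
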