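import Mathlib
import Groth.Agent.Lib.Helper21.FlatSmoothF
import Groth.Agent.Lib.Helper21.CohenStructF

set_option autoImplicit false
set_option linter.style.haveILetI false

namespace Groth.Agent.Lib.Helper21.Impf

open IsLocalRing TensorProduct KaehlerDifferential

universe u v w

section tw

variable {k K : Type u} [CommRing k] [CommRing K] [Algebra k K]
  {V : Type v} [AddCommGroup V] [Module k V] [Module K V] [IsScalarTower k K V]
  [Module Kᵐᵒᵖ V] [IsCentralScalar K V]

/-- the ring hom `x ↦ x + δ(x) ε` with values in a module -/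
def twHomV (δ : Derivation ℤ k V) : k →+* TrivSqZeroExt K V where
  toFun x := TrivSqZeroExt.inl (algebraMap k K x) + TrivSqZeroExt.inr (δ x)
  map_one' := by
    apply TrivSqZeroExt.ext
    · simp only [TrivSqZeroExt.fst_add, TrivSqZeroExt.fst_inl, TrivSqZeroExt.fst_inr, map_one,
        add_zero, TrivSqZeroExt.fst_one]
    · simp only [TrivSqZeroExt.snd_add, TrivSqZeroExt.snd_inl, TrivSqZeroExt.snd_inr,
        Derivation.map_one_eq_zero, add_zero, TrivSqZeroExt.snd_one]
  map_mul' x y := by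
    apply TrivSqZeroExt.ext
    · simp only [TrivSqZeroExt.fst_add, TrivSqZeroExt.fst_inl, TrivSqZeroExt.fst_inr, map_mul,
        add_zero, TrivSqZeroExt.fst_mul]
    · simp only [TrivSqZeroExt.snd_add, TrivSqZeroExt.snd_inl, TrivSqZeroExt.snd_inr,
        Derivation.leibniz, zero_add, TrivSqZeroExt.snd_mul, TrivSqZeroExt.fst_add,
        TrivSqZeroExt.fst_inl, TrivSqZeroExt.fst_inr, add_zero, op_smul_eq_smul,
        algebraMap_smul]
  map_zero' := by
    apply TrivSqZeroExt.ext
    · simp only [TrivSqZeroExt.fst_add, TrivSqZeroExt.fst_inl, TrivSqZeroExt.fst_inr, map_zero,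
        add_zero, TrivSqZeroExt.fst_zero]
    · simp only [TrivSqZeroExt.snd_add, TrivSqZeroExt.snd_inl, TrivSqZeroExt.snd_inr,
        map_zero, add_zero, TrivSqZeroExt.snd_zero]
  map_add' x y := by
    apply TrivSqZeroExt.ext
    · simp only [TrivSqZeroExt.fst_add, TrivSqZeroExt.fst_inl, TrivSqZeroExt.fst_inr, map_add,
        add_zero]
    · simp only [TrivSqZeroExt.snd_add, TrivSqZeroExt.snd_inl, TrivSqZeroExt.snd_inr,
        map_add, zero_add]

theorem fst_twHomV (δ : Derivation ℤ k V) (x : k) :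
    TrivSqZeroExt.fst (twHomV (K := K) δ x) = algebraMap k K x := by
  show TrivSqZeroExt.fst (TrivSqZeroExt.inl (algebraMap k K x) + TrivSqZeroExt.inr (δ x)) = _
  simp only [TrivSqZeroExt.fst_add, TrivSqZeroExt.fst_inl, TrivSqZeroExt.fst_inr, add_zero]

theorem snd_twHomV (δ : Derivation ℤ k V) (x : k) :
    TrivSqZeroExt.snd (twHomV (K := K) δ x) = δ x := by
  show TrivSqZeroExt.snd (TrivSqZeroExt.inl (algebraMap k K x) + TrivSqZeroExt.inr (δ x)) = _
  simp only [TrivSqZeroExt.snd_add, TrivSqZeroExt.snd_inl, TrivSqZeroExt.snd_inr, zero_add]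

theorem mul_eq_zeroV (z w : TrivSqZeroExt K V) (hz : z.fst = 0) (hw : w.fst = 0) : z * w = 0 := by
  apply TrivSqZeroExt.ext
  · rw [TrivSqZeroExt.fst_mul, hz, zero_mul, TrivSqZeroExt.fst_zero]
  · rw [TrivSqZeroExt.snd_mul, hz, hw, zero_smul, MulOpposite.op_zero, zero_smul, add_zero,
      TrivSqZeroExt.snd_zero]

end tw

section prime

variable {k : Type u} [Field k] {M : Type v} [AddCommGroup M] [Module k M]

/-- the constants of a derivation of a field form a subfield -/
def constSubfield (d : Derivation ℤ k M) : Subfield k where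
  carrier := {x | d x = 0}
  mul_mem' := by
    intro a b ha hb
    rw [Set.mem_setOf_eq] at ha hb ⊢
    rw [Derivation.leibniz, ha, hb, smul_zero, smul_zero, add_zero]
  one_mem' := d.map_one_eq_zero
  add_mem' := by
    intro a b ha hb
    rw [Set.mem_setOf_eq] at ha hb ⊢
    rw [map_add, ha, hb, add_zero]
  zero_mem' := map_zero d
  neg_mem' := by
    intro a ha
    rw [Set.mem_setOf_eq] at ha ⊢
    rw [map_neg, ha, neg_zero]
  inv_mem' := by
    intro a ha
    rw [Set.mem_setOf_eq] at ha ⊢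
    rw [Derivation.leibniz_inv, ha, smul_zero]

theorem derivation_eq_zero_of_mem_bot (d : Derivation ℤ k M) (x : k)
    (hx : x ∈ (⊥ : Subfield k)) : d x = 0 :=
  (bot_le : (⊥ : Subfield k) ≤ constSubfield d) hx

end prime

section lift

open Groth.Agent.Lib.Helper21.FlatSmooth

variable {k : Type u} [Field k] {S : Type v} {T : Type w} [CommRing S] [IsLocalRing S]
  [IsAdicComplete (maximalIdeal S) S] [CommRing T]
  [Algebra (⊥ : Subfield k) S] [Algebra (⊥ : Subfield k) T]

theorem exists_lift_field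
    (τ : S →ₐ[(⊥ : Subfield k)] T) (hτ : Function.Surjective τ)
    (hker : RingHom.ker τ ≤ maximalIdeal S) (hsq : maximalIdeal S ^ 2 ≤ RingHom.ker τ)
    (f : k →ₐ[(⊥ : Subfield k)] T) :
    ∃ φ : k →ₐ[(⊥ : Subfield k)] S, ∀ x, τ (φ x) = f x := by
  haveI : Algebra.FormallySmooth (⊥ : Subfield k) k :=
    Groth.Agent.Lib.Helper21.CohenStruct.formallySmooth_of_bot_eq_top _ k
      (Groth.Agent.Lib.Helper21.CohenStruct.bot_bot_eq_top k)
  let e : (S ⧸ RingHom.ker τ) ≃ₐ[(⊥ : Subfield k)] T := Ideal.quotientKerAlgEquivOfSurjective hτ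
  let f' : k →ₐ[(⊥ : Subfield k)] (S ⧸ RingHom.ker τ) := e.symm.toAlgHom.comp f
  haveI : IsHausdorff ((maximalIdeal S).map (Ideal.Quotient.mk (RingHom.ker τ)))
      (S ⧸ RingHom.ker τ) := by
    refine ⟨fun x hx => ?_⟩
    have h2 := hx 2
    have hz : ((maximalIdeal S).map (Ideal.Quotient.mk (RingHom.ker τ))) ^ 2 = ⊥ := by
      rw [← Ideal.map_pow, eq_bot_iff]
      exact (Ideal.map_mono hsq).trans (le_of_eq (Ideal.map_quotient_self _))
    rw [hz, Submodule.bot_smul, SModEq.bot] at h2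
    exact h2
  have HT : ∀ n, TowerHyp (A := (⊥ : Subfield k)) k (maximalIdeal S) n := by
    intro n N h hN2 u
    exact ⟨Algebra.FormallySmooth.liftOfSurjective u (Ideal.Quotient.factorₐ (⊥ : Subfield k) h)
      (Ideal.Quotient.factor_surjective h) ⟨2, ker_factor_sq (R := (⊥ : Subfield k)) h hN2⟩,
      Algebra.FormallySmooth.comp_liftOfSurjective _ _ _ _⟩
  obtain ⟨g, hg⟩ := exists_lift_of_tower hker HT f'
  refine ⟨g, fun x => ?_⟩
  have h1 : Ideal.Quotient.mk (RingHom.ker τ) (g x) = e.symm (f x) :=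
    congrArg (fun q => q x) hg
  have h2 : e (Ideal.Quotient.mk (RingHom.ker τ) (g x)) = τ (g x) :=
    Ideal.quotientKerAlgEquivOfSurjective_apply hτ _
  rw [← h2, h1, AlgEquiv.apply_symm_apply]

end lift

end Groth.Agent.Lib.Helper21.Impf
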