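import Mathlib
import Groth.Agent.Lib.Helper21.ImpfC

set_option autoImplicit false
set_option linter.style.haveILetI false

namespace Groth.Agent.Lib.Helper21.Impf

open IsLocalRing TensorProduct KaehlerDifferential

universe u

section ps

variable {K : Type u} [CommRing K] {σ : Type*}

theorem coeff_single_one_mul (i : σ) (s t : MvPowerSeries σ K) :
    MvPowerSeries.coeff (Finsupp.single i 1) (s * t) =
      MvPowerSeries.constantCoeff s * MvPowerSeries.coeff (Finsupp.single i 1) t +
      MvPowerSeries.constantCoeff t * MvPowerSeries.coeff (Finsupp.single i 1) s := by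
  classical
  rw [MvPowerSeries.coeff_mul, Finsupp.antidiagonal_single]
  simp [Finset.Nat.antidiagonal_succ]
  ring

variable (K σ)

/-- first-order truncation of power series -/
noncomputable def tauPS : MvPowerSeries σ K →+* TrivSqZeroExt K (σ → K) where
  toFun s := TrivSqZeroExt.inl (MvPowerSeries.constantCoeff s) +
    TrivSqZeroExt.inr (fun i => MvPowerSeries.coeff (Finsupp.single i 1) s)
  map_one' := by
    apply TrivSqZeroExt.ext
    · simp only [TrivSqZeroExt.fst_add, TrivSqZeroExt.fst_inl, TrivSqZeroExt.fst_inr, map_one,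
        add_zero, TrivSqZeroExt.fst_one]
    · simp only [TrivSqZeroExt.snd_add, TrivSqZeroExt.snd_inl, TrivSqZeroExt.snd_inr,
        zero_add, TrivSqZeroExt.snd_one]
      funext i
      classical
      rw [MvPowerSeries.coeff_one, if_neg]
      · rfl
      · intro h
        have := DFunLike.congr_fun h i
        simp at this
  map_mul' x y := by
    apply TrivSqZeroExt.ext
    · simp only [TrivSqZeroExt.fst_add, TrivSqZeroExt.fst_inl, TrivSqZeroExt.fst_inr, map_mul,
        add_zero, TrivSqZeroExt.fst_mul]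
    · simp only [TrivSqZeroExt.snd_add, TrivSqZeroExt.snd_inl, TrivSqZeroExt.snd_inr,
        zero_add, TrivSqZeroExt.snd_mul, TrivSqZeroExt.fst_add,
        TrivSqZeroExt.fst_inl, TrivSqZeroExt.fst_inr, add_zero, op_smul_eq_smul]
      funext i
      simp only [Pi.add_apply, Pi.smul_apply, smul_eq_mul]
      exact coeff_single_one_mul i x y
  map_zero' := by
    apply TrivSqZeroExt.ext
    · simp only [TrivSqZeroExt.fst_add, TrivSqZeroExt.fst_inl, TrivSqZeroExt.fst_inr, map_zero,
        add_zero, TrivSqZeroExt.fst_zero]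
    · simp only [TrivSqZeroExt.snd_add, TrivSqZeroExt.snd_inl, TrivSqZeroExt.snd_inr,
        map_zero, zero_add, TrivSqZeroExt.snd_zero]
      rfl
  map_add' x y := by
    apply TrivSqZeroExt.ext
    · simp only [TrivSqZeroExt.fst_add, TrivSqZeroExt.fst_inl, TrivSqZeroExt.fst_inr, map_add,
        add_zero]
    · simp only [TrivSqZeroExt.snd_add, TrivSqZeroExt.snd_inl, TrivSqZeroExt.snd_inr,
        map_add, zero_add]
      rfl

variable {K σ}

theorem fst_tauPS (s : MvPowerSeries σ K) :
    TrivSqZeroExt.fst (tauPS K σ s) = MvPowerSeries.constantCoeff s := by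
  show TrivSqZeroExt.fst (TrivSqZeroExt.inl (MvPowerSeries.constantCoeff s) +
    TrivSqZeroExt.inr (fun i => MvPowerSeries.coeff (Finsupp.single i 1) s)) = _
  simp only [TrivSqZeroExt.fst_add, TrivSqZeroExt.fst_inl, TrivSqZeroExt.fst_inr, add_zero]

theorem snd_tauPS (s : MvPowerSeries σ K) (i : σ) :
    TrivSqZeroExt.snd (tauPS K σ s) i = MvPowerSeries.coeff (Finsupp.single i 1) s := by
  show TrivSqZeroExt.snd ((TrivSqZeroExt.inl (MvPowerSeries.constantCoeff s) +
    TrivSqZeroExt.inr (fun i => MvPowerSeries.coeff (Finsupp.single i 1) s) :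
      TrivSqZeroExt K (σ → K))) i = _
  simp only [TrivSqZeroExt.snd_add, TrivSqZeroExt.snd_inl, TrivSqZeroExt.snd_inr, zero_add]

theorem tauPS_surjective [Fintype σ] : Function.Surjective (tauPS K σ) := by
  classical
  intro z
  refine ⟨MvPowerSeries.C z.fst + ∑ i, MvPowerSeries.C (z.snd i) * MvPowerSeries.X i, ?_⟩
  apply TrivSqZeroExt.ext
  · rw [fst_tauPS, map_add, map_sum]
    simp
  · funext j
    rw [snd_tauPS, map_add, map_sum]
    have h0 : (Finsupp.single j 1 : σ →₀ ℕ) ≠ 0 := by
      intro h
      have := DFunLike.congr_fun h j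
      simp at this
    rw [MvPowerSeries.coeff_C, if_neg h0, zero_add]
    rw [Finset.sum_eq_single j]
    · rw [MvPowerSeries.coeff_C_mul, MvPowerSeries.coeff_X, if_pos rfl, mul_one]
    · intro i _ hij
      rw [MvPowerSeries.coeff_C_mul, MvPowerSeries.coeff_X, if_neg, mul_zero]
      intro h
      exact hij ((Finsupp.single_left_inj one_ne_zero).mp h).symm
    · intro h
      exact absurd (Finset.mem_univ j) h

end ps

section field

variable {K : Type u} [Field K] {σ : Type*}

theorem ker_tauPS_le : RingHom.ker (tauPS K σ) ≤ maximalIdeal (MvPowerSeries σ K) := by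
  intro s hs
  rw [RingHom.mem_ker] at hs
  rw [mem_maximalIdeal, mem_nonunits_iff, MvPowerSeries.isUnit_iff_constantCoeff, ← fst_tauPS, hs,
    TrivSqZeroExt.fst_zero]
  exact not_isUnit_zero

theorem maximalIdeal_sq_le_ker_tauPS :
    maximalIdeal (MvPowerSeries σ K) ^ 2 ≤ RingHom.ker (tauPS K σ) := by
  rw [pow_two, Ideal.mul_le]
  intro a ha b hb
  rw [RingHom.mem_ker, map_mul]
  have h0 : ∀ c ∈ maximalIdeal (MvPowerSeries σ K), (tauPS K σ c).fst = 0 := by
    intro c hc
    rw [fst_tauPS]
    rw [mem_maximalIdeal, mem_nonunits_iff, MvPowerSeries.isUnit_iff_constantCoeff] at hc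
    by_contra hne
    exact hc (IsUnit.mk0 _ hne)
  exact mul_eq_zeroV _ _ (h0 a ha) (h0 b hb)

end field

end Groth.Agent.Lib.Helper21.Impf
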