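import Mathlib
import Groth.Agent.Lib.Helper21.ImpfB
import Groth.Agent.Lib.Helper21.ImpfD
import Groth.Agent.Lib.Helper21.CohenStructE

set_option autoImplicit false
set_option linter.style.haveILetI false

namespace Groth.Agent.Lib.Helper21.Impf

open IsLocalRing TensorProduct KaehlerDifferential

universe u

section structureMap

variable {k K : Type u} [Field k] [Field K] [Algebra k K]

theorem exists_structure_map (n : ℕ) (L : K ⊗[k] Ω[k⁄ℤ] →ₗ[K] (Fin n → K)) :
    ∃ φ : k →+* MvPowerSeries (Fin n) K,
      (∀ x, MvPowerSeries.constantCoeff (φ x) = algebraMap k K x) ∧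
      (∀ x, (tauPS K (Fin n) (φ x)).snd = L ((1 : K) ⊗ₜ[k] KaehlerDifferential.D ℤ k x)) := by
  classical
  let δ : Derivation ℤ k (Fin n → K) :=
    ((L.restrictScalars k) ∘ₗ (TensorProduct.mk k K Ω[k⁄ℤ] 1)).compDer (KaehlerDifferential.D ℤ k)
  have hδ : ∀ x, δ x = L ((1 : K) ⊗ₜ[k] KaehlerDifferential.D ℤ k x) := fun x => rfl
  let τ : MvPowerSeries (Fin n) K →ₐ[(⊥ : Subfield k)] TrivSqZeroExt K (Fin n → K) :=
    { tauPS K (Fin n) with
      commutes' := fun x => by
        show tauPS K (Fin n) (algebraMap (⊥ : Subfield k) (MvPowerSeries (Fin n) K) x) =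
          TrivSqZeroExt.inl (algebraMap k K (x : k))
        rw [MvPowerSeries.algebraMap_apply]
        apply TrivSqZeroExt.ext
        · rw [fst_tauPS, MvPowerSeries.constantCoeff_C, TrivSqZeroExt.fst_inl]
          rfl
        · funext i
          rw [snd_tauPS, MvPowerSeries.coeff_C, if_neg, TrivSqZeroExt.snd_inl]
          · rfl
          · intro h
            have := DFunLike.congr_fun h i
            simp at this }
  have hτ : ∀ s, τ s = tauPS K (Fin n) s := fun s => rfl
  let f : k →ₐ[(⊥ : Subfield k)] TrivSqZeroExt K (Fin n → K) :=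
    { twHomV (K := K) δ with
      commutes' := fun x => by
        show twHomV (K := K) δ (x : k) = TrivSqZeroExt.inl (algebraMap k K (x : k))
        apply TrivSqZeroExt.ext
        · rw [fst_twHomV, TrivSqZeroExt.fst_inl]
        · rw [snd_twHomV, TrivSqZeroExt.snd_inl, derivation_eq_zero_of_mem_bot δ (x : k) x.2] }
  have hf : ∀ x, f x = twHomV (K := K) δ x := fun x => rfl
  have hsurj : Function.Surjective τ := tauPS_surjective
  have hker : RingHom.ker τ ≤ maximalIdeal (MvPowerSeries (Fin n) K) := by
    intro s hs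
    apply ker_tauPS_le
    rw [RingHom.mem_ker] at hs ⊢
    exact hs
  have hsq : maximalIdeal (MvPowerSeries (Fin n) K) ^ 2 ≤ RingHom.ker τ := by
    intro s hs
    have := maximalIdeal_sq_le_ker_tauPS hs
    rw [RingHom.mem_ker] at this ⊢
    exact this
  obtain ⟨φ, hφ⟩ := exists_lift_field τ hsurj hker hsq f
  refine ⟨φ, fun x => ?_, fun x => ?_⟩
  · have := hφ x
    rw [hτ, hf] at this
    show MvPowerSeries.constantCoeff (φ x) = _
    rw [← fst_tauPS, this, fst_twHomV]
  · have := hφ x
    rw [hτ, hf] at this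
    show (tauPS K (Fin n) (φ x)).snd = _
    rw [this, snd_twHomV, hδ]

end structureMap

end Groth.Agent.Lib.Helper21.Impf
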