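import Mathlib
import Groth.Agent.Lib.Helper21.ImpfE
import Groth.Agent.Lib.Helper7.CohenPres

set_option autoImplicit false
set_option linter.style.haveILetI false

namespace Groth.Agent.Lib.Helper21.Impf

open IsLocalRing TensorProduct KaehlerDifferential

universe u

section abstractFinal

variable {k K S : Type u} [Field k] [Field K] [Algebra k K] [CommRing S] [IsLocalRing S]
  [Algebra k S]

theorem exists_residue_algEquiv (ρ : S →+* K) (hρsurj : Function.Surjective ρ)
    (hρk : ∀ x, ρ (algebraMap k S x) = algebraMap k K x) :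
    Nonempty (ResidueField S ≃ₐ[k] K) := by
  have hker : ∀ a ∈ maximalIdeal S, ρ a = 0 := by
    intro a ha
    by_contra hne
    obtain ⟨b, hb⟩ := hρsurj (ρ a)⁻¹
    have h1 : ρ (a * b) = 1 := by rw [map_mul, hb, mul_inv_cancel₀ hne]
    have h2 : a * b - 1 ∈ maximalIdeal S := by
      by_contra hnot
      have hunit : IsUnit (a * b - 1) := by
        by_contra hnu
        exact hnot ((mem_maximalIdeal _).mpr hnu)
      have : ρ (a * b - 1) = 0 := by rw [map_sub, h1, map_one, sub_self]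
      exact (hunit.map ρ).ne_zero this
    have h3 : a * b ∈ maximalIdeal S := Ideal.mul_mem_right b _ ha
    have h4 : (1 : S) ∈ maximalIdeal S := by
      have := sub_mem h3 h2
      rwa [sub_sub_cancel] at this
    exact (Ideal.ne_top_iff_one _).mp (maximalIdeal.isMaximal S).ne_top h4
  let ρbar : ResidueField S →+* K := Ideal.Quotient.lift (maximalIdeal S) ρ hker
  have hρbar : ∀ a, ρbar (residue S a) = ρ a := fun a => Ideal.Quotient.lift_mk _ _ _
  have hbij : Function.Bijective ρbar := by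
    refine ⟨ρbar.injective, fun c => ?_⟩
    obtain ⟨a, rfl⟩ := hρsurj c
    exact ⟨residue S a, hρbar a⟩
  refine ⟨AlgEquiv.ofRingEquiv (f := RingEquiv.ofBijective ρbar hbij) (fun x => ?_)⟩
  rw [IsScalarTower.algebraMap_apply k S (ResidueField S)]
  show ρbar (residue S (algebraMap k S x)) = _
  rw [hρbar, hρk]

variable [IsNoetherianRing S]
  {V : Type u} [AddCommGroup V] [Module K V] [Module Kᵐᵒᵖ V] [IsCentralScalar K V]

theorem isAdicFormallySmooth_of_firstOrder (hreg : IsRegularLocalRing S)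
    (ρ : S →+* K) (hρsurj : Function.Surjective ρ)
    (hρk : ∀ x, ρ (algebraMap k S x) = algebraMap k K x)
    (τ : S →+* TrivSqZeroExt K V) (hτ : ∀ a, (τ a).fst = ρ a)
    (L : K ⊗[k] Ω[k⁄ℤ] →ₗ[K] V)
    (hτk : ∀ x, (τ (algebraMap k S x)).snd = L ((1 : K) ⊗ₜ[k] KaehlerDifferential.D ℤ k x))
    (hL : ∀ u ∈ EGA41.imperfection ℤ k K, L u = 0 → u = 0) :
    CAlgX.IsAdicFormallySmooth k S (maximalIdeal S) ∧ Nonempty (ResidueField S ≃ₐ[k] K) :=
  ⟨Groth.Agent.Lib.Helper21.KDiffSmooth.S2471_aux.mpr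
    ⟨hreg, injective_of_firstOrder ρ hρsurj hρk τ hτ L hτk hL⟩,
    exists_residue_algEquiv ρ hρsurj hρk⟩

end abstractFinal

section concrete

variable {k K : Type u} [Field k] [Field K] [Algebra k K]

theorem exists_L (hfin : Module.Finite K (EGA41.imperfection ℤ k K)) (n : ℕ)
    (hn : Module.finrank K (EGA41.imperfection ℤ k K) ≤ n) :
    ∃ L : K ⊗[k] Ω[k⁄ℤ] →ₗ[K] (Fin n → K),
      ∀ u ∈ EGA41.imperfection ℤ k K, L u = 0 → u = 0 := by
  haveI := hfin
  haveI : Module.Free K (EGA41.imperfection ℤ k K) := @Module.Free.of_divisionRing K ↥(EGA41.imperfection ℤ k K) _ _ _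
  have h1 : Module.finrank K (EGA41.imperfection ℤ k K) ≤ Module.finrank K (Fin n → K) := by
    rw [Module.finrank_fin_fun]; exact hn
  obtain ⟨E, hE⟩ := (finrank_le_iff_exists_linearMap).mp h1
  have hk : LinearMap.ker (EGA41.imperfection ℤ k K).subtype = ⊥ := Submodule.ker_subtype _
  obtain ⟨g, hg⟩ := @LinearMap.exists_leftInverse_of_injective K ↥(EGA41.imperfection ℤ k K)
    _ _ _ _ _ _ (EGA41.imperfection ℤ k K).subtype hk
  refine ⟨E ∘ₗ g, fun u hu h0 => ?_⟩
  have h2 : g u = ⟨u, hu⟩ := LinearMap.congr_fun hg ⟨u, hu⟩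
  rw [LinearMap.comp_apply, h2] at h0
  have h3 : (⟨u, hu⟩ : EGA41.imperfection ℤ k K) = 0 := hE (by rw [h0, map_zero])
  exact congrArg Subtype.val h3

theorem exists_of_finrank_le (hfin : Module.Finite K (EGA41.imperfection ℤ k K)) (n : ℕ)
    (hn : Module.finrank K (EGA41.imperfection ℤ k K) ≤ n) :
    ∃ (A : Type u) (_ : CommRing A) (_ : IsLocalRing A) (_ : IsNoetherianRing A)
      (_ : Algebra k A),
        IsAdicComplete (maximalIdeal A) A ∧ CAlgX.IsAdicFormallySmooth k A (maximalIdeal A) ∧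
        Nonempty (ResidueField A ≃ₐ[k] K) ∧ ringKrullDim A = n := by
  obtain ⟨L, hL⟩ := exists_L hfin n hn
  obtain ⟨φ, hφ0, hφ1⟩ := exists_structure_map n L
  have hreg : IsRegularLocalRing (MvPowerSeries (Fin n) K) :=
    Groth.Agent.Lib.Helper21.CohenStruct.isRegularLocalRing_mvPowerSeries K n
  have hdim : ringKrullDim (MvPowerSeries (Fin n) K) = n := by
    apply le_antisymm
    · exact Groth.Agent.Lib.Helper26.PowerSeriesRLR.ringKrullDim_mvPowerSeries_le K n
    · have := Groth.Agent.Lib.Helper7.CohenPres.le_ringKrullDim_powser K n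
      rwa [ringKrullDim_eq_zero_of_field, zero_add] at this
  have hsurj : Function.Surjective
      (MvPowerSeries.constantCoeff : MvPowerSeries (Fin n) K →+* K) :=
    fun c => ⟨MvPowerSeries.C c, MvPowerSeries.constantCoeff_C c⟩
  have key := @isAdicFormallySmooth_of_firstOrder k K (MvPowerSeries (Fin n) K) _ _ _ _ _
    φ.toAlgebra _ (Fin n → K) _ _ _ _ hreg MvPowerSeries.constantCoeff hsurj hφ0
    (tauPS K (Fin n)) (fun a => fst_tauPS a) L hφ1 hL
  exact ⟨MvPowerSeries (Fin n) K, inferInstance, inferInstance, inferInstance, φ.toAlgebra,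
    inferInstance, key.1, key.2, hdim⟩

end concrete

end Groth.Agent.Lib.Helper21.Impf
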