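import Mathlib
import Groth.Prelude.Def_EGA4b
import Groth.Agent.Lib.Helper26.RegularSch

/-!
# Helper library (helper21): J-2 schemes and J-2 rings (S12460)
-/

set_option autoImplicit false

namespace Groth.Agent.Lib.Helper21.J2Sch

universe u

open CategoryTheory AlgebraicGeometry

/-- the regular locus of a scheme -/
def regS (Y : Scheme.{u}) : Set Y := {y : Y | IsRegularLocalRing (Y.presheaf.stalk y)}

theorem fromSpec_mem {Y : Scheme.{u}} {V : Y.Opens} (hV : IsAffineOpen V)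
    (y : PrimeSpectrum Γ(Y, V)) : hV.fromSpec y ∈ V := by
  have : hV.fromSpec y ∈ Set.range hV.fromSpec := ⟨y, rfl⟩
  rw [hV.range_fromSpec] at this
  exact this

theorem primeIdealOf_fromSpec {Y : Scheme.{u}} {V : Y.Opens} (hV : IsAffineOpen V)
    (y : PrimeSpectrum Γ(Y, V)) : hV.primeIdealOf ⟨hV.fromSpec y, fromSpec_mem hV y⟩ = y := by
  have hinj : Function.Injective hV.fromSpec := hV.fromSpec.isOpenEmbedding.injective
  apply hinj
  exact hV.fromSpec_primeIdealOf ⟨hV.fromSpec y, fromSpec_mem hV y⟩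

/-- affine charts: regular points of `Y` in `V` correspond to the regular locus of `Γ(Y, V)` -/
theorem fromSpec_mem_regS_iff {Y : Scheme.{u}} {V : Y.Opens} (hV : IsAffineOpen V)
    (y : PrimeSpectrum Γ(Y, V)) : hV.fromSpec y ∈ regS Y ↔ y ∈ EGA4.regLocus Γ(Y, V) := by
  have h1 := Groth.Agent.Lib.Helper26.RegularSch.isRegularLocalRing_stalk_iff hV
    ⟨hV.fromSpec y, fromSpec_mem hV y⟩
  rw [primeIdealOf_fromSpec hV y] at h1
  exact h1

/-- the regular locus of `Spec S` as a scheme is the regular locus of the ring `S` -/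
theorem regS_Spec (S : CommRingCat.{u}) : regS (Spec S) = EGA4.regLocus S := by
  ext y
  show IsRegularLocalRing ((Spec S).presheaf.stalk y) ↔
    IsRegularLocalRing (Localization.AtPrime y.asIdeal)
  letI k : Algebra ↑S ↑((Spec S).presheaf.stalk y) := StructureSheaf.stalkAlgebra (↑S) y
  haveI : IsLocalization.AtPrime (↑((Spec S).presheaf.stalk y)) y.asIdeal :=
    StructureSheaf.IsLocalization.to_stalk S y
  let e := (IsLocalization.algEquiv y.asIdeal.primeCompl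
    (Localization.AtPrime y.asIdeal) ((Spec S).presheaf.stalk y)).toRingEquiv
  exact ⟨fun h => IsRegularLocalRing.of_ringEquiv e.symm, fun h => IsRegularLocalRing.of_ringEquiv e⟩

/-- S12460, first half, forward direction -/
theorem isJ2_of_j2 (X : Scheme.{u})
    (h : ∀ (Y : Scheme.{u}) (g : Y ⟶ X), LocallyOfFiniteType g → IsOpen (regS Y))
    (U : X.affineOpens) : EGA4.IsJ2 Γ(X, U) := by
  intro S _ _ hft
  have hlft : LocallyOfFiniteType (Spec.map (CommRingCat.ofHom (algebraMap Γ(X, U) S))) := by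
    rw [HasRingHomProperty.Spec_iff (P := @LocallyOfFiniteType)]
    show (algebraMap Γ(X, U) S).FiniteType
    rw [RingHom.finiteType_algebraMap]
    exact hft
  have h1 := h (Spec (CommRingCat.of S))
    (Spec.map (CommRingCat.ofHom (algebraMap Γ(X, U) S)) ≫ U.2.fromSpec) inferInstance
  rw [regS_Spec] at h1
  exact h1

/-- S12460, local-to-global direction -/
theorem j2_of_local (X : Scheme.{u})
    (h : ∀ x : X, ∃ U : X.affineOpens, x ∈ (U : X.Opens) ∧ EGA4.IsJ2 Γ(X, U))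
    (Y : Scheme.{u}) (g : Y ⟶ X) (hg : LocallyOfFiniteType g) : IsOpen (regS Y) := by
  rw [isOpen_iff_forall_mem_open]
  intro y hy
  obtain ⟨U, hyU, hJ⟩ := h (g.base y)
  obtain ⟨V, hV, hyV, hVU⟩ := exists_isAffineOpen_mem_and_subset (x := y) (U := g ⁻¹ᵁ U.1) hyU
  have hφ : RingHom.FiniteType (g.appLE U.1 V hVU).hom :=
    HasRingHomProperty.appLE @LocallyOfFiniteType g hg U ⟨V, hV⟩ hVU
  letI := (g.appLE U.1 V hVU).hom.toAlgebra
  have hopen : IsOpen (EGA4.regLocus Γ(Y, V)) := hJ Γ(Y, V) hφ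
  refine ⟨hV.fromSpec '' EGA4.regLocus Γ(Y, V), ?_, hV.fromSpec.isOpenEmbedding.isOpenMap _ hopen,
    ?_⟩
  · rintro _ ⟨z, hz, rfl⟩
    exact (fromSpec_mem_regS_iff hV z).mpr hz
  · have hmem : hV.primeIdealOf ⟨y, hyV⟩ ∈ EGA4.regLocus Γ(Y, V) :=
      (fromSpec_mem_regS_iff hV _).mp (by rw [hV.fromSpec_primeIdealOf ⟨y, hyV⟩]; exact hy)
    exact ⟨_, hmem, hV.fromSpec_primeIdealOf ⟨y, hyV⟩⟩

/-- S12460 -/
theorem S12460_aux (X : Scheme.{u}) :
    ((∀ (Y : Scheme.{u}) (g : Y ⟶ X), LocallyOfFiniteType g →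
        IsOpen {y : Y | IsRegularLocalRing (Y.presheaf.stalk y)}) ↔
      ∀ U : X.affineOpens, EGA4.IsJ2 Γ(X, U)) ∧
    ((∀ (Y : Scheme.{u}) (g : Y ⟶ X), LocallyOfFiniteType g →
        IsOpen {y : Y | IsRegularLocalRing (Y.presheaf.stalk y)}) ↔
      ∀ x : X, ∃ U : X.affineOpens, x ∈ (U : X.Opens) ∧ EGA4.IsJ2 Γ(X, U)) := by
  have hloc : (∀ U : X.affineOpens, EGA4.IsJ2 Γ(X, U)) →
      ∀ x : X, ∃ U : X.affineOpens, x ∈ (U : X.Opens) ∧ EGA4.IsJ2 Γ(X, U) := by
    intro h x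
    obtain ⟨V, hV, hxV, -⟩ := exists_isAffineOpen_mem_and_subset (x := x) (U := ⊤) trivial
    exact ⟨⟨V, hV⟩, hxV, h ⟨V, hV⟩⟩
  refine ⟨⟨fun h U => isJ2_of_j2 X h U, fun h Y g hg => j2_of_local X (hloc h) Y g hg⟩,
    ⟨fun h => hloc (fun U => isJ2_of_j2 X h U), fun h Y g hg => j2_of_local X h Y g hg⟩⟩

end Groth.Agent.Lib.Helper21.J2Sch
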