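import Mathlib
import Groth.Agent.Lib.Helper21.JacAdicB
import Groth.Agent.Lib.Helper21.CohenStructF

set_option autoImplicit false
set_option linter.style.haveILetI false

namespace Groth.Agent.Lib.Helper21.JacAdic

open TensorProduct IsLocalRing

universe u

theorem S9442_aux (k : Type u) [Field k]
    (S : Type u) [CommRing S] [Algebra k S] [Algebra.FiniteType k S] (q : Ideal S) [q.IsPrime]
    [Algebra.IsGeometricallyReduced k q.ResidueField] :
    Algebra.IsSmoothAt k q ↔ IsRegularLocalRing (Localization.AtPrime q) := by
  haveI : IsNoetherianRing S := Algebra.FiniteType.isNoetherianRing k S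
  haveI : IsNoetherianRing (Localization.AtPrime q) :=
    IsLocalization.isNoetherianRing q.primeCompl _ inferInstance
  constructor
  · intro h
    haveI : Algebra.FormallySmooth k (Localization.AtPrime q) := h
    have h1 : CAlgX.IsAdicFormallySmooth k (Localization.AtPrime q)
        (maximalIdeal (Localization.AtPrime q)) :=
      Groth.Agent.Lib.Helper21.CohenStruct.isAdicFormallySmooth_of_formallySmooth _
    exact (Groth.Agent.Lib.Helper21.CohenStruct.regular_of_isAdicFormallySmooth k
      (Localization.AtPrime q) h1).1
  · intro hreg
    haveI : Algebra.IsGeometricallyReduced k (ResidueField (Localization.AtPrime q)) :=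
      ‹Algebra.IsGeometricallyReduced k q.ResidueField›
    have h1 : CAlgX.IsAdicFormallySmooth k (Localization.AtPrime q)
        (maximalIdeal (Localization.AtPrime q)) :=
      ((Groth.Agent.Lib.Helper21.CohenStruct.S2453_aux k (Localization.AtPrime q)).out 3 0).mp hreg
    exact formallySmooth_of_isAdicFormallySmooth_of_essFiniteType h1

end Groth.Agent.Lib.Helper21.JacAdic
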