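import Mathlib
import Groth.Agent.Lib.Helper21.JacAdicC

set_option autoImplicit false
set_option linter.style.haveILetI false

namespace Groth.Agent.Lib.Helper21.JacAdic

open TensorProduct IsLocalRing

universe u

theorem S9268_aux (A B : Type u) [CommRing A] [IsNoetherianRing A]
    [CommRing B] [Algebra A B] [Algebra.FiniteType A B] (q : Ideal B) [q.IsPrime] :
    (∃ g : B, g ∉ q ∧ Algebra.Smooth A (Localization.Away g)) ↔
      letI := (Localization.localRingHom (Ideal.comap (algebraMap A B) q) q (algebraMap A B) rfl).toAlgebra
      CAlgX.IsAdicFormallySmooth (Localization.AtPrime (Ideal.comap (algebraMap A B) q))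
        (Localization.AtPrime q) (IsLocalRing.maximalIdeal (Localization.AtPrime q)) := by
  letI : Algebra (Localization.AtPrime (Ideal.comap (algebraMap A B) q)) (Localization.AtPrime q) :=
    (Localization.localRingHom (Ideal.comap (algebraMap A B) q) q (algebraMap A B) rfl).toAlgebra
  haveI : IsScalarTower A (Localization.AtPrime (Ideal.comap (algebraMap A B) q))
      (Localization.AtPrime q) := by
    apply IsScalarTower.of_algebraMap_eq
    intro a
    show _ = Localization.localRingHom (Ideal.comap (algebraMap A B) q) q (algebraMap A B) rfl
      (algebraMap A _ a)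
    rw [Localization.localRingHom_to_map]
    rfl
  haveI : Algebra.FinitePresentation A B := Algebra.FinitePresentation.of_finiteType.mp inferInstance
  haveI : IsNoetherianRing (Localization.AtPrime (Ideal.comap (algebraMap A B) q)) :=
    IsLocalization.isNoetherianRing (Ideal.comap (algebraMap A B) q).primeCompl _ inferInstance
  haveI : Algebra.FormallyUnramified A (Localization.AtPrime (Ideal.comap (algebraMap A B) q)) :=
    Algebra.FormallyUnramified.of_isLocalization (Ideal.comap (algebraMap A B) q).primeCompl
  haveI : Algebra.FormallySmooth A (Localization.AtPrime (Ideal.comap (algebraMap A B) q)) :=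
    Algebra.FormallySmooth.of_isLocalization (Ideal.comap (algebraMap A B) q).primeCompl
  constructor
  · rintro ⟨g, hg, hsm⟩
    have h1 : (PrimeSpectrum.basicOpen g : Set (PrimeSpectrum B)) ⊆ Algebra.smoothLocus A B :=
      Algebra.basicOpen_subset_smoothLocus_iff_smooth.mpr hsm
    have h2 : Algebra.IsSmoothAt A q := h1 (show (⟨q, inferInstance⟩ : PrimeSpectrum B) ∈
      (PrimeSpectrum.basicOpen g : Set (PrimeSpectrum B)) from hg)
    haveI : Algebra.FormallySmooth A (Localization.AtPrime q) := h2
    haveI : Algebra.FormallySmooth (Localization.AtPrime (Ideal.comap (algebraMap A B) q))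
        (Localization.AtPrime q) :=
      Algebra.FormallySmooth.of_restrictScalars A _ _
    exact Groth.Agent.Lib.Helper21.CohenStruct.isAdicFormallySmooth_of_formallySmooth _
  · intro h
    haveI : Algebra.EssFiniteType (Localization.AtPrime (Ideal.comap (algebraMap A B) q))
        (Localization.AtPrime q) := Algebra.EssFiniteType.of_comp A _ _
    haveI : Algebra.FormallySmooth (Localization.AtPrime (Ideal.comap (algebraMap A B) q))
        (Localization.AtPrime q) := formallySmooth_of_isAdicFormallySmooth_of_essFiniteType h
    haveI : Algebra.IsSmoothAt A q :=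
      Algebra.FormallySmooth.comp A (Localization.AtPrime (Ideal.comap (algebraMap A B) q)) _
    obtain ⟨f, hf, hsm⟩ := Algebra.IsSmoothAt.exists_notMem_smooth A q
    exact ⟨f, hf, hsm⟩

end Groth.Agent.Lib.Helper21.JacAdic
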