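import Mathlib
import Groth.Agent.Lib.Helper21.JacAdicB
import Groth.Prelude.Def_EGA41

set_option autoImplicit false
set_option linter.style.haveILetI false

namespace Groth.Agent.Lib.Helper21.JacAdic

open TensorProduct IsLocalRing

universe u

theorem isAdicFormallySmooth_of_isFormallySmoothAdic {R S : Type u} [CommRing R] [CommRing S]
    [Algebra R S] [IsLocalRing R] [IsLocalRing S] [IsLocalHom (algebraMap R S)]
    (h : EGA41.IsFormallySmoothAdic R (maximalIdeal R) S (maximalIdeal S)) :
    CAlgX.IsAdicFormallySmooth R S (maximalIdeal S) := by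
  intro C _ _ J hJ ψ hψ
  obtain ⟨m, hm⟩ := hψ
  have hle : (maximalIdeal R).map (algebraMap R S) ≤ maximalIdeal S := by
    rw [Ideal.map_le_iff_le_comap]
    exact le_of_eq (IsLocalRing.maximalIdeal_comap _).symm
  have h1 : (maximalIdeal R ^ m).map (algebraMap R C) ≤ J := by
    rw [Ideal.map_le_iff_le_comap]
    intro a ha
    rw [Ideal.mem_comap, ← Ideal.Quotient.eq_zero_iff_mem]
    have h2 : algebraMap R S a ∈ maximalIdeal S ^ m := by
      have := Ideal.mem_map_of_mem (algebraMap R S) ha
      rw [Ideal.map_pow] at this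
      exact Ideal.pow_right_mono hle m this
    have h3 := hm _ h2
    rw [ψ.commutes] at h3
    exact h3
  have h2 : (maximalIdeal R ^ (m * 2)).map (algebraMap R C) = ⊥ := by
    apply le_bot_iff.mp
    rw [pow_mul, Ideal.map_pow, ← hJ]
    exact Ideal.pow_right_mono h1 2
  exact h C J ⟨2, hJ⟩ ⟨m * 2, h2⟩ ψ ⟨m, hm⟩

theorem isFormallySmoothAdic_iff_formallySmooth {R S : Type u} [CommRing R] [CommRing S]
    [Algebra R S] [IsNoetherianRing R] [IsLocalRing R] [IsLocalRing S]
    [IsLocalHom (algebraMap R S)] [Algebra.EssFiniteType R S] :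
    EGA41.IsFormallySmoothAdic R (maximalIdeal R) S (maximalIdeal S) ↔
      Algebra.FormallySmooth R S := by
  constructor
  · intro h
    exact formallySmooth_of_isAdicFormallySmooth_of_essFiniteType
      (isAdicFormallySmooth_of_isFormallySmoothAdic h)
  · intro h C _ _ J hJ _ u _
    exact Algebra.FormallySmooth.exists_lift J hJ u

end Groth.Agent.Lib.Helper21.JacAdic
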