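import Mathlib
import Groth.Agent.Lib.Helper21.JacAdicF
import Groth.Agent.Lib.Helper21.SymGrI
import Groth.Agent.Lib.Helper21.CohenStructF
import Groth.Agent.Lib.Helper6.TrivExtDer

/-!
# Helper library (helper21): the Jacobian criterion of formal smoothness for `Λ → A → B`, `J`
(EGA 0_IV 22.6.1, discrete base)
-/

set_option autoImplicit false

namespace Groth.Agent.Lib.Helper21.JacAdicF

open TensorProduct KaehlerDifferential

universe u

variable {Λ A B : Type u} [CommRing Λ] [CommRing A] [CommRing B] [Algebra Λ A] [Algebra A B]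
  [Algebra Λ B] [IsScalarTower Λ A B] (J : Ideal B)

theorem projective_tensor_kaehler (h : CAlgX.IsAdicFormallySmooth A B J) :
    Module.Projective (B ⧸ J) ((B ⧸ J) ⊗[B] (Ω[B⁄A])) :=
  Groth.Agent.Lib.Helper6.TrivExtDer.projective_tensor_kaehler (⊥ : Ideal A) J ⟨1, by simp⟩
    (Groth.Agent.Lib.Helper6.FSAdic.isFormallySmoothAdic_bot_of_isAdicFormallySmooth h) J
    ⟨1, by simp⟩

theorem S4570_aux [Algebra.FormallySmooth Λ (B ⧸ J)] :
    ((Module.Projective (B ⧸ J) J.Cotangent ∧ PP16.SymGrBijective B J ∧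
        Function.Injective ((mapBaseChange Λ A B).lTensor (B ⧸ J)) ∧
        Module.Projective (B ⧸ J) ((B ⧸ J) ⊗[B] (Ω[B⁄A]))) →
      CAlgX.IsAdicFormallySmooth A B J) ∧
    (Algebra.FormallySmooth Λ A → CAlgX.IsAdicFormallySmooth A B J →
      (Module.Projective (B ⧸ J) J.Cotangent ∧ PP16.SymGrBijective B J ∧
        Function.Injective ((mapBaseChange Λ A B).lTensor (B ⧸ J)) ∧
        Module.Projective (B ⧸ J) ((B ⧸ J) ⊗[B] (Ω[B⁄A])))) := by
  constructor
  · rintro ⟨hα, hβ, hγ, hδ⟩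
    have hP : CAlgX.IsAdicFormallySmooth Λ B J :=
      Groth.Agent.Lib.Helper21.SymSmooth.isAdicFormallySmooth_of_symGr (A := Λ) J hβ
    obtain ⟨ρ, hρ⟩ := exists_leftInverse_of_injective Λ A B J hγ
    exact isAdicFormallySmooth_of_leftInverse hP ρ hρ
  · intro hΛA hBA
    have hP : CAlgX.IsAdicFormallySmooth Λ B J :=
      Groth.Agent.Lib.Helper21.CohenStruct.isAdicFormallySmooth_comp Λ A B hBA
    have h12 := (Groth.Agent.Lib.Helper21.SymSmooth.isAdicFormallySmooth_iff (A := Λ) J).mp hP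
    exact ⟨h12.1, h12.2, injective_lTensor_of_isAdicFormallySmooth Λ A B hBA,
      projective_tensor_kaehler J hBA⟩

end Groth.Agent.Lib.Helper21.JacAdicF
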