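import Mathlib
import Groth.Agent.Lib.Helper21.SymGrI
import Groth.Agent.Lib.Helper21.KDiffSmoothB

/-!
# Helper library (helper21): adic formal smoothness of a local algebra over a field via `SymGr`
-/

set_option autoImplicit false

namespace Groth.Agent.Lib.Helper21.SymSmooth

open IsLocalRing TensorProduct KaehlerDifferential

universe u

variable {k A : Type u} [Field k] [CommRing A] [IsLocalRing A] [Algebra k A]

theorem isAdicFormallySmooth_of_bot_of_injective
    (hP : CAlgX.IsAdicFormallySmooth (⊥ : Subfield k) A (maximalIdeal A))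
    (hinj : Function.Injective
      ((KaehlerDifferential.mapBaseChange ℤ k A).lTensor (ResidueField A))) :
    CAlgX.IsAdicFormallySmooth k A (maximalIdeal A) := by
  intro C _ _ J hJ ψ hψ
  obtain ⟨m, hm⟩ := hψ
  have hker : RingHom.ker (Ideal.Quotient.mkₐ k J) = J := Ideal.Quotient.mkₐ_ker k J
  apply Groth.Agent.Lib.Helper21.KDiffSmooth.exists_lift_of_injective k A hP hinj m C (C ⧸ J)
    (Ideal.Quotient.mkₐ k J)
    (Ideal.Quotient.mkₐ_surjective k J) (by rw [hker]; exact hJ) ψ ⟨m, hm⟩
  rw [hker]
  apply le_bot_iff.mp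
  have hmap : Ideal.map ψ (maximalIdeal A ^ m) = ⊥ := by
    apply le_bot_iff.mp
    rw [Ideal.map_le_iff_le_comap]
    intro x hx
    rw [Ideal.mem_comap, Ideal.mem_bot]
    exact hm x hx
  have h1 : (Ideal.comap (Ideal.Quotient.mkₐ k J) (Ideal.map ψ (maximalIdeal A))) ^ m ≤ J := by
    calc (Ideal.comap (Ideal.Quotient.mkₐ k J) (Ideal.map ψ (maximalIdeal A))) ^ m
        ≤ Ideal.comap (Ideal.Quotient.mkₐ k J) ((Ideal.map ψ (maximalIdeal A)) ^ m) :=
          Ideal.le_comap_pow _ _
      _ = Ideal.comap (Ideal.Quotient.mkₐ k J) ⊥ := by rw [← Ideal.map_pow, hmap]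
      _ = J := hker
  calc (Ideal.comap (Ideal.Quotient.mkₐ k J) (Ideal.map ψ (maximalIdeal A))) ^ m * J
      ≤ J * J := Ideal.mul_mono_left h1
    _ = J ^ 2 := (pow_two J).symm
    _ = ⊥ := hJ

theorem formallySmooth_bot_residue :
    Algebra.FormallySmooth (⊥ : Subfield k) (A ⧸ maximalIdeal A) := by
  let : Field (A ⧸ maximalIdeal A) := Ideal.Quotient.field (maximalIdeal A)
  exact Groth.Agent.Lib.Helper21.CohenStruct.formallySmooth_of_bot_eq_top (⊥ : Subfield k)
    (A ⧸ maximalIdeal A) (Groth.Agent.Lib.Helper21.CohenStruct.bot_bot_eq_top k)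

theorem projective_cotangent_maximalIdeal :
    Module.Projective (A ⧸ maximalIdeal A) (maximalIdeal A).Cotangent := by
  let : Field (A ⧸ maximalIdeal A) := Ideal.Quotient.field (maximalIdeal A)
  exact Module.Projective.of_free

theorem isAdicFormallySmooth_bot_of_field
    (h : CAlgX.IsAdicFormallySmooth k A (maximalIdeal A)) :
    CAlgX.IsAdicFormallySmooth (⊥ : Subfield k) A (maximalIdeal A) := by
  have : Algebra.FormallySmooth (⊥ : Subfield k) k :=
    Groth.Agent.Lib.Helper21.CohenStruct.formallySmooth_of_bot_eq_top _ k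
      (Groth.Agent.Lib.Helper21.CohenStruct.bot_bot_eq_top k)
  exact Groth.Agent.Lib.Helper21.CohenStruct.isAdicFormallySmooth_comp (⊥ : Subfield k) k A h

theorem S4571_aux :
    CAlgX.IsAdicFormallySmooth k A (maximalIdeal A) ↔
      (PP16.SymGrBijective A (maximalIdeal A) ∧
        Function.Injective ((mapBaseChange ℤ k A).lTensor (ResidueField A))) := by
  have := formallySmooth_bot_residue (k := k) (A := A)
  have := projective_cotangent_maximalIdeal (A := A)
  constructor
  · intro h
    exact ⟨symGrBijective_of_isAdicFormallySmooth (A := (⊥ : Subfield k)) (maximalIdeal A)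
        (isAdicFormallySmooth_bot_of_field h),
      Groth.Agent.Lib.Helper21.KDiffSmooth.injective_of_isAdicFormallySmooth k A h⟩
  · rintro ⟨hSym, hinj⟩
    exact isAdicFormallySmooth_of_bot_of_injective
      (isAdicFormallySmooth_of_symGr (A := (⊥ : Subfield k)) (maximalIdeal A) hSym) hinj

end Groth.Agent.Lib.Helper21.SymSmooth
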