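import Mathlib
import Groth.Agent.Lib.Helper21.PBasisO
import Groth.Agent.Lib.Helper21.JacAdicF
import Groth.Agent.Lib.Helper21.SymGrJ

/-!
# Helper library (helper21): formal smoothness over a field of char. `p` via a directed family of
subfields `k_α` with `⋂ k_α(k^p) = k^p` (EGA 0_IV 22.6.? / 22.5.?)
-/

set_option autoImplicit false

namespace Groth.Agent.Lib.Helper21.JacAdicH

open TensorProduct KaehlerDifferential IsLocalRing

universe u

section sep

variable {k : Type u} [Field k] (p : ℕ) [Fact p.Prime] [CharP k p]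

include p in
theorem D_eq_zero_of_mem_bot (x : k) (hx : x ∈ (⊥ : Subfield k)) : D ℤ k x = 0 := by
  have hx' : x ∈ (frobenius k p).fieldRange := (bot_le : (⊥ : Subfield k) ≤ (frobenius k p).fieldRange) hx
  obtain ⟨y, rfl⟩ := hx'
  rw [frobenius_def, Derivation.leibniz_pow, ← Nat.cast_smul_eq_nsmul k, CharP.cast_eq_zero,
    zero_smul]

omit [Fact p.Prime] [CharP k p] in
theorem map_eq_zero_of_le {L₁ L₂ : Subfield k} (h : L₁ ≤ L₂) (ω : Ω[k⁄ℤ])
    (h1 : KaehlerDifferential.map ℤ L₁ k k ω = 0) : KaehlerDifferential.map ℤ L₂ k k ω = 0 := by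
  have h2 : ω ∈ Submodule.span k (Set.range fun a : ↥L₁ => D ℤ k (algebraMap ↥L₁ k a)) := by
    rw [← Groth.Agent.Lib.Helper21.PBasis.ker_map_eq_span ℤ ↥L₁ k]
    exact h1
  have h3 : Submodule.span k (Set.range fun a : ↥L₁ => D ℤ k (algebraMap ↥L₁ k a)) ≤
      Submodule.span k (Set.range fun a : ↥L₂ => D ℤ k (algebraMap ↥L₂ k a)) := by
    apply Submodule.span_mono
    rintro _ ⟨a, rfl⟩
    exact ⟨⟨a.1, h a.2⟩, rfl⟩
  have h4 := h3 h2
  rw [← Groth.Agent.Lib.Helper21.PBasis.ker_map_eq_span ℤ ↥L₂ k] at h4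
  exact h4

theorem eq_zero_of_forall_map_eq_zero {ι : Type u} [Preorder ι] [IsDirected ι (· ≤ ·)]
    [Nonempty ι] (kα : ι → Subfield k) (hanti : Antitone kα)
    (hint : ⨅ α, (kα α ⊔ (frobenius k p).fieldRange) = (frobenius k p).fieldRange)
    (ω : Ω[k⁄ℤ]) (hω : ∀ α, KaehlerDifferential.map ℤ (kα α) k k ω = 0) : ω = 0 := by
  let k₀ : Subfield k := ⊥
  let F : ι → IntermediateField k₀ k := fun α =>
    Subfield.toIntermediateField (kα α) (fun x => bot_le (a := kα α) x.2)
  have hF : Antitone F := fun a b hab x hx => hanti hab hx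
  have hFint : (⨅ i, F i ⊔ IntermediateField.adjoin k₀ (Set.range fun y : k => y ^ p)) =
      IntermediateField.adjoin k₀ (Set.range fun y : k => y ^ p) := by
    apply le_antisymm
    · intro x hx
      rw [Groth.Agent.Lib.Helper21.PBasis.mem_iInf_iff] at hx
      have hx' : x ∈ ⨅ α, (kα α ⊔ (frobenius k p).fieldRange) := by
        rw [Subfield.mem_iInf]
        intro α
        have hle : F α ⊔ IntermediateField.adjoin k₀ (Set.range fun y : k => y ^ p) ≤
            Subfield.toIntermediateField (kα α ⊔ (frobenius k p).fieldRange)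
              (fun x => bot_le (a := kα α ⊔ (frobenius k p).fieldRange) x.2) := by
          refine sup_le ?_ ?_
          · intro y hy
            exact (le_sup_left : kα α ≤ kα α ⊔ (frobenius k p).fieldRange) hy
          · rw [IntermediateField.adjoin_le_iff]
            rintro _ ⟨y, rfl⟩
            exact (le_sup_right : (frobenius k p).fieldRange ≤ kα α ⊔ (frobenius k p).fieldRange)
              ⟨y, rfl⟩
        exact hle (hx α)
      rw [hint] at hx'
      obtain ⟨y, rfl⟩ := hx'
      exact IntermediateField.subset_adjoin k₀ _ ⟨y, rfl⟩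
    · exact le_iInf fun i => le_sup_right
  have hsep := (Groth.Agent.Lib.Helper21.PBasis.S2475_aux p F hF).mp hFint
  have hω' : KaehlerDifferential.map ℤ k₀ k k ω = 0 := by
    apply hsep
    intro α
    have h1 : ω ∈ Submodule.span k (Set.range fun a : ↥(kα α) => D ℤ k (algebraMap ↥(kα α) k a)) := by
      rw [← Groth.Agent.Lib.Helper21.PBasis.ker_map_eq_span ℤ ↥(kα α) k]
      exact hω α
    have h2 : ∀ η ∈ Submodule.span k
        (Set.range fun a : ↥(kα α) => D ℤ k (algebraMap ↥(kα α) k a)),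
        KaehlerDifferential.map k₀ (F α) k k (KaehlerDifferential.map ℤ k₀ k k η) = 0 := by
      intro η hη
      induction hη using Submodule.span_induction with
      | mem y hy =>
        obtain ⟨a, rfl⟩ := hy
        rw [KaehlerDifferential.map_D, KaehlerDifferential.map_D]
        exact Derivation.map_algebraMap (D (↥(F α)) k) (⟨a.1, a.2⟩ : ↥(F α))
      | zero => rw [map_zero, map_zero]
      | add y z _ _ hy hz => rw [map_add, map_add, hy, hz, add_zero]
      | smul a y _ hy => rw [map_smul, map_smul, hy, smul_zero]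
    exact h2 ω h1
  have h3 : ω ∈ Submodule.span k (Set.range fun a : ↥k₀ => D ℤ k (algebraMap ↥k₀ k a)) := by
    rw [← Groth.Agent.Lib.Helper21.PBasis.ker_map_eq_span ℤ ↥k₀ k]
    exact hω'
  have h4 : Submodule.span k (Set.range fun a : ↥k₀ => D ℤ k (algebraMap ↥k₀ k a)) = ⊥ := by
    rw [Submodule.span_eq_bot]
    rintro _ ⟨a, rfl⟩
    exact D_eq_zero_of_mem_bot p a.1 a.2
  rw [h4] at h3
  exact (Submodule.mem_bot k).mp h3

end sep

section diag

variable {k A : Type u} [Field k] [CommRing A] [IsLocalRing A] [Algebra k A]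
variable (R₀ : Type*) [CommRing R₀] [Algebra R₀ k] [Algebra R₀ A] [IsScalarTower R₀ k A]

variable (k A) in
/-- `K ⊗_k Ω_{k/R₀} → K ⊗_A Ω_{A/R₀}` -/
noncomputable def vmap :
    ResidueField A ⊗[k] Ω[k⁄R₀] →ₗ[ResidueField A] ResidueField A ⊗[A] Ω[A⁄R₀] :=
  LinearMap.liftBaseChange (ResidueField A)
    (((TensorProduct.mk A (ResidueField A) Ω[A⁄R₀] 1).restrictScalars k) ∘ₗ
      (KaehlerDifferential.map R₀ R₀ k A))

theorem vmap_tmul (c : ResidueField A) (ω : Ω[k⁄R₀]) :
    vmap k A R₀ (c ⊗ₜ[k] ω) = c ⊗ₜ[A] KaehlerDifferential.map R₀ R₀ k A ω := by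
  rw [vmap, LinearMap.liftBaseChange_tmul]
  show c • ((1 : ResidueField A) ⊗ₜ[A] KaehlerDifferential.map R₀ R₀ k A ω) = _
  rw [TensorProduct.smul_tmul', smul_eq_mul, mul_one]

theorem lTensor_cancel_symm (z : ResidueField A ⊗[k] Ω[k⁄R₀]) :
    (mapBaseChange R₀ k A).lTensor (ResidueField A)
      ((TensorProduct.AlgebraTensorModule.cancelBaseChange k A (ResidueField A) (ResidueField A)
        Ω[k⁄R₀]).symm z) = vmap k A R₀ z := by
  induction z using TensorProduct.induction_on with
  | zero => simp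
  | add x y hx hy => rw [map_add, map_add, map_add, hx, hy]
  | tmul c ω =>
    rw [TensorProduct.AlgebraTensorModule.cancelBaseChange_symm_tmul, LinearMap.lTensor_tmul,
      mapBaseChange_tmul, one_smul, vmap_tmul]

theorem injective_vmap_iff :
    Function.Injective (vmap k A R₀) ↔
      Function.Injective ((mapBaseChange R₀ k A).lTensor (ResidueField A)) := by
  let e := (TensorProduct.AlgebraTensorModule.cancelBaseChange k A (ResidueField A) (ResidueField A)
        Ω[k⁄R₀]).symm
  have hfun : (vmap k A R₀ : ResidueField A ⊗[k] Ω[k⁄R₀] → ResidueField A ⊗[A] Ω[A⁄R₀]) =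
      (mapBaseChange R₀ k A).lTensor (ResidueField A) ∘ e := by
    funext z
    exact (lTensor_cancel_symm R₀ z).symm
  rw [hfun]
  constructor
  · intro h x y hxy
    obtain ⟨x', rfl⟩ := e.surjective x
    obtain ⟨y', rfl⟩ := e.surjective y
    exact congrArg e (h hxy)
  · intro h
    exact h.comp e.injective

omit [IsLocalRing A] in
theorem map_map_eq (L : Subfield k) (ω : Ω[k⁄ℤ]) :
    KaehlerDifferential.map ℤ ↥L A A (KaehlerDifferential.map ℤ ℤ k A ω) =
      KaehlerDifferential.map ↥L ↥L k A (KaehlerDifferential.map ℤ ↥L k k ω) := by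
  have hω : ω ∈ Submodule.span k (Set.range (D ℤ k)) := by
    rw [KaehlerDifferential.span_range_derivation]; trivial
  induction hω using Submodule.span_induction with
  | mem y hy =>
    obtain ⟨x, rfl⟩ := hy
    rw [KaehlerDifferential.map_D, KaehlerDifferential.map_D, KaehlerDifferential.map_D,
      KaehlerDifferential.map_D]
    rfl
  | zero => simp
  | add y z _ _ hy hz => rw [map_add, map_add, map_add, map_add, hy, hz]
  | smul r y _ hy =>
    rw [LinearMap.map_smul, LinearMap.map_smul_of_tower, LinearMap.map_smul, LinearMap.map_smul, hy]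

theorem diag_comm (L : Subfield k) (z : ResidueField A ⊗[k] Ω[k⁄ℤ]) :
    (KaehlerDifferential.map ℤ ↥L A A).baseChange (ResidueField A) (vmap k A ℤ z) =
      vmap k A ↥L ((KaehlerDifferential.map ℤ ↥L k k).baseChange (ResidueField A) z) := by
  induction z using TensorProduct.induction_on with
  | zero => simp
  | add x y hx hy => rw [map_add, map_add, map_add, map_add, hx, hy]
  | tmul c ω =>
    rw [vmap_tmul, LinearMap.baseChange_tmul, LinearMap.baseChange_tmul, vmap_tmul, map_map_eq]

theorem injective_int_of_forall_injective (p : ℕ) [Fact p.Prime] [CharP k p]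
    {ι : Type u} [Preorder ι] [IsDirected ι (· ≤ ·)] [Nonempty ι] (kα : ι → Subfield k)
    (hanti : Antitone kα)
    (hint : ⨅ α, (kα α ⊔ (frobenius k p).fieldRange) = (frobenius k p).fieldRange)
    (α₀ : ι) (hα : ∀ α, α₀ ≤ α →
      Function.Injective ((mapBaseChange (kα α) k A).lTensor (ResidueField A))) :
    Function.Injective ((mapBaseChange ℤ k A).lTensor (ResidueField A)) := by
  rw [← injective_vmap_iff, injective_iff_map_eq_zero]
  intro z hz
  let ι' := {α : ι // α₀ ≤ α}
  have : Nonempty ι' := ⟨⟨α₀, le_rfl⟩⟩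
  let f : ∀ i : ι', Ω[k⁄ℤ] →ₗ[k] Ω[k⁄↥(kα i.1)] := fun i =>
    KaehlerDifferential.map ℤ (kα i.1) k k
  have hdir : ∀ i j : ι', ∃ l : ι', LinearMap.ker (f l) ≤ LinearMap.ker (f i) ∧
      LinearMap.ker (f l) ≤ LinearMap.ker (f j) := by
    intro i j
    obtain ⟨l, hil, hjl⟩ := exists_ge_ge i.1 j.1
    refine ⟨⟨l, le_trans i.2 hil⟩, ?_, ?_⟩
    · intro ω hω
      exact map_eq_zero_of_le (hanti hil) ω hω
    · intro ω hω
      exact map_eq_zero_of_le (hanti hjl) ω hω
  have hbot : ∀ v, (∀ i : ι', f i v = 0) → v = 0 := by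
    intro v hv
    apply eq_zero_of_forall_map_eq_zero p kα hanti hint
    intro α
    obtain ⟨l, hαl, h0l⟩ := exists_ge_ge α α₀
    exact map_eq_zero_of_le (hanti hαl) v (hv ⟨l, h0l⟩)
  obtain ⟨i, hi⟩ := Groth.Agent.Lib.Helper21.PBasis.exists_injOn_baseChange
    (L := ResidueField A) f hdir hbot (Submodule.span (ResidueField A) {z})
    (Submodule.fg_span_singleton z)
  apply hi z (Submodule.mem_span_singleton_self z)
  have hinj := (injective_vmap_iff (k := k) (A := A) ↥(kα i.1)).mpr (hα i.1 i.2)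
  apply hinj
  rw [map_zero, ← diag_comm, hz, map_zero]

theorem S4616_aux (p : ℕ) [Fact p.Prime] [CharP k p]
    {ι : Type u} [Preorder ι] [IsDirected ι (· ≤ ·)] [Nonempty ι] (kα : ι → Subfield k)
    (hanti : Antitone kα)
    (hint : ⨅ α, (kα α ⊔ (frobenius k p).fieldRange) = (frobenius k p).fieldRange) :
    CAlgX.IsAdicFormallySmooth k A (maximalIdeal A) ↔
      (PP16.SymGrBijective A (maximalIdeal A) ∧ ∃ α₀ : ι, ∀ α : ι, α₀ ≤ α →
        Function.Injective ((mapBaseChange (kα α) k A).lTensor (ResidueField A))) := by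
  constructor
  · intro h
    refine ⟨(Groth.Agent.Lib.Helper21.SymSmooth.S4571_aux.mp h).1, Classical.arbitrary ι,
      fun α _ => ?_⟩
    exact Groth.Agent.Lib.Helper21.JacAdicF.injective_lTensor_of_isAdicFormallySmooth
      (kα α) k A h
  · rintro ⟨hSym, α₀, hα⟩
    exact Groth.Agent.Lib.Helper21.SymSmooth.S4571_aux.mpr
      ⟨hSym, injective_int_of_forall_injective p kα hanti hint α₀ hα⟩

end diag

end Groth.Agent.Lib.Helper21.JacAdicH
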