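import Mathlib
import Groth.Agent.Lib.Helper21.JacAdicA

set_option autoImplicit false
set_option linter.style.haveILetI false

namespace Groth.Agent.Lib.Helper21.ZarJac

open TensorProduct

universe u

section sp

variable {P κ : Type*} [CommRing P] [Field κ] [Algebra P κ]

theorem one_tmul_smul' {M : Type*} [AddCommGroup M] [Module P M] (r : P) (y : M) :
    (1 : κ) ⊗ₜ[P] (r • y) = algebraMap P κ r • ((1 : κ) ⊗ₜ[P] y) := by
  rw [TensorProduct.tmul_smul, TensorProduct.smul_tmul', TensorProduct.smul_tmul',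
    Algebra.smul_def, smul_eq_mul]

/-- generators of an ideal give a spanning family of the fibre -/
theorem span_one_tmul_eq_top (hκ : Function.Surjective (algebraMap P κ)) (I : Ideal P)
    {ι' : Type*} (y : ι' → P) (hy : Ideal.span (Set.range y) = I) (hyI : ∀ l, y l ∈ I) :
    Submodule.span κ (Set.range fun l => (1 : κ) ⊗ₜ[P] (⟨y l, hyI l⟩ : I)) = ⊤ := by
  rw [eq_top_iff]
  rintro z -
  obtain ⟨⟨x, hx⟩, rfl⟩ := Groth.Agent.Lib.Helper21.JacAdic.exists_one_tmul hκ z
  have hx' : x ∈ Ideal.span (Set.range y) := hy ▸ hx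
  have key : ∀ (x : P) (hx' : x ∈ Ideal.span (Set.range y)) (hx : x ∈ I),
      (1 : κ) ⊗ₜ[P] (⟨x, hx⟩ : I) ∈
        Submodule.span κ (Set.range fun l => (1 : κ) ⊗ₜ[P] (⟨y l, hyI l⟩ : I)) := by
    intro x hx'
    induction hx' using Submodule.span_induction with
    | mem x hx0 =>
      intro hx
      obtain ⟨l, rfl⟩ := hx0
      exact Submodule.subset_span ⟨l, rfl⟩
    | zero =>
      intro hx
      have : (⟨0, hx⟩ : I) = 0 := rfl
      rw [this, TensorProduct.tmul_zero]
      exact zero_mem _
    | add a b ha hb iha ihb =>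
      intro hx
      have ha' : a ∈ I := hy ▸ ha
      have hb' : b ∈ I := hy ▸ hb
      have : (⟨a + b, hx⟩ : I) = ⟨a, ha'⟩ + ⟨b, hb'⟩ := rfl
      rw [this, TensorProduct.tmul_add]
      exact add_mem (iha ha') (ihb hb')
    | smul r a ha iha =>
      intro hx
      have ha' : a ∈ I := hy ▸ ha
      have : (⟨r • a, hx⟩ : I) = r • ⟨a, ha'⟩ := rfl
      rw [this, one_tmul_smul']
      exact Submodule.smul_mem _ _ (iha ha')
  exact key x hx' hx

end sp

section nak

variable {P κ : Type*} [CommRing P] [IsLocalRing P] [Field κ] [Algebra P κ]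

theorem ker_algebraMap_le_jacobson (hκ : Function.Surjective (algebraMap P κ)) :
    RingHom.ker (algebraMap P κ) ≤ Ideal.jacobson ⊥ := by
  haveI : (RingHom.ker (algebraMap P κ)).IsMaximal := RingHom.ker_isMaximal_of_surjective _ hκ
  rw [IsLocalRing.eq_maximalIdeal (inferInstance : (RingHom.ker (algebraMap P κ)).IsMaximal),
    IsLocalRing.jacobson_eq_maximalIdeal ⊥ bot_ne_top]

/-- Nakayama: a family in an ideal whose image spans the fibre generates the ideal -/
theorem span_eq_of_span_one_tmul_eq_top (hκ : Function.Surjective (algebraMap P κ)) (I : Ideal P)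
    (hI : I.FG) {m : ℕ} (y : Fin m → P) (hyI : ∀ l, y l ∈ I)
    (hspan : Submodule.span κ (Set.range fun l => (1 : κ) ⊗ₜ[P] (⟨y l, hyI l⟩ : I)) = ⊤) :
    Ideal.span (Set.range y) = I := by
  apply le_antisymm
  · rw [Ideal.span_le]
    rintro _ ⟨l, rfl⟩
    exact hyI l
  · apply Submodule.le_of_le_smul_of_le_jacobson_bot hI (ker_algebraMap_le_jacobson hκ)
    intro y₀ hy₀
    have h1 : (1 : κ) ⊗ₜ[P] (⟨y₀, hy₀⟩ : I) ∈
        Submodule.span κ (Set.range fun l => (1 : κ) ⊗ₜ[P] (⟨y l, hyI l⟩ : I)) := by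
      rw [hspan]; trivial
    obtain ⟨c, hc⟩ := (Submodule.mem_span_range_iff_exists_fun κ).mp h1
    choose a ha using fun l => hκ (c l)
    have h2 : (1 : κ) ⊗ₜ[P] ((⟨y₀, hy₀⟩ : I) - ∑ l, a l • (⟨y l, hyI l⟩ : I)) = 0 := by
      rw [TensorProduct.tmul_sub, TensorProduct.tmul_sum, ← hc, sub_eq_zero]
      refine Finset.sum_congr rfl (fun l _ => ?_)
      rw [one_tmul_smul', ha]
    rw [Groth.Agent.Lib.Helper21.JacAdic.one_tmul_eq_zero_iff hκ] at h2
    have h3 := Submodule.mem_map_of_mem (f := I.subtype) h2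
    rw [Submodule.map_smul'', Submodule.map_top, Submodule.range_subtype] at h3
    have h4 : I.subtype ((⟨y₀, hy₀⟩ : I) - ∑ l, a l • (⟨y l, hyI l⟩ : I)) =
        y₀ - ∑ l, a l * y l := by
      rw [map_sub, map_sum]
      rfl
    rw [h4] at h3
    have h5 : y₀ = (∑ l, a l * y l) + (y₀ - ∑ l, a l * y l) := by ring
    rw [h5]
    refine Submodule.add_mem_sup ?_ h3
    refine Submodule.sum_mem _ (fun l _ => ?_)
    exact Ideal.mul_mem_left _ _ (Ideal.subset_span ⟨l, rfl⟩)

end nak

section la

variable {B κ M : Type*} [CommRing B] [Field κ] [Algebra B κ] [AddCommGroup M] [Module B M]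

/-- the functional on the fibre induced by a linear form -/
noncomputable def fibreForm (ψ : M →ₗ[B] B) : κ ⊗[B] M →ₗ[κ] κ :=
  LinearMap.liftBaseChange κ ((Algebra.linearMap B κ) ∘ₗ ψ)

theorem fibreForm_tmul (ψ : M →ₗ[B] B) (c : κ) (x : M) :
    fibreForm (κ := κ) ψ (c ⊗ₜ[B] x) = c * algebraMap B κ (ψ x) := by
  simp [fibreForm]

theorem fibreForm_eq_rid (ψ : M →ₗ[B] B) (w : κ ⊗[B] M) :
    fibreForm (κ := κ) ψ w = TensorProduct.rid B κ (ψ.lTensor κ w) := by
  induction w using TensorProduct.induction_on with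
  | zero => simp
  | tmul c x =>
    rw [fibreForm_tmul, LinearMap.lTensor_tmul, TensorProduct.rid_tmul, Algebra.smul_def, mul_comm]
  | add a b ha hb => rw [map_add, ha, hb, map_add, map_add]

/-- linear forms on a projective module separate the points of a fibre -/
theorem eq_zero_of_forall_fibreForm [Module.Projective B M] (w : κ ⊗[B] M)
    (h : ∀ ψ : M →ₗ[B] B, fibreForm (κ := κ) ψ w = 0) : w = 0 := by
  classical
  obtain ⟨s, hs⟩ := Module.projective_def'.mp (inferInstance : Module.Projective B M)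
  have h1 : (s.lTensor κ) w = 0 := by
    apply (TensorProduct.finsuppScalarRight B B κ M).injective
    rw [map_zero]
    ext x
    rw [TensorProduct.finsuppScalarRight_apply, ← LinearMap.comp_apply, ← LinearMap.lTensor_comp]
    have := h ((Finsupp.lapply x) ∘ₗ s)
    rw [fibreForm_eq_rid] at this
    exact this
  have h2 : ((Finsupp.linearCombination B id).lTensor κ) ((s.lTensor κ) w) = w := by
    rw [← LinearMap.comp_apply, ← LinearMap.lTensor_comp, hs, LinearMap.lTensor_id,
      LinearMap.id_apply]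
  rw [← h2, h1, map_zero]

/-- given vectors of a projective module independent in a fibre, there are linear forms whose
matrix of values is invertible in the fibre field -/
theorem exists_forms_det_ne_zero [Module.Projective B M] {m : ℕ} (v : Fin m → M)
    (hv : LinearIndependent κ (fun i => (1 : κ) ⊗ₜ[B] v i)) :
    ∃ ψ : Fin m → (M →ₗ[B] B),
      (Matrix.of fun i j => algebraMap B κ (ψ j (v i))).det ≠ 0 := by
  classical
  let ev : (M →ₗ[B] B) → (Fin m → κ) := fun ψ i => algebraMap B κ (ψ (v i))
  have hspan : Submodule.span κ (Set.range ev) = ⊤ := by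
    by_contra hne
    obtain ⟨φ, hφ0, hφ⟩ := Submodule.exists_le_ker_of_lt_top _ (lt_top_iff_ne_top.mpr hne)
    let c : Fin m → κ := fun i => φ (Pi.single i 1)
    have hφc : ∀ t : Fin m → κ, φ t = ∑ i, t i * c i := by
      intro t
      conv_lhs => rw [← Finset.univ_sum_single t]
      rw [map_sum]
      refine Finset.sum_congr rfl (fun i _ => ?_)
      have : (Pi.single i (t i) : Fin m → κ) = t i • Pi.single i 1 := by
        rw [← Pi.single_smul', smul_eq_mul, mul_one]
      rw [this, map_smul, smul_eq_mul]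
    have hw : (∑ i, c i • ((1 : κ) ⊗ₜ[B] v i)) = 0 := by
      apply eq_zero_of_forall_fibreForm
      intro ψ
      rw [map_sum]
      have h1 : φ (ev ψ) = 0 := hφ (Submodule.subset_span ⟨ψ, rfl⟩)
      rw [hφc] at h1
      rw [← h1]
      refine Finset.sum_congr rfl (fun i _ => ?_)
      rw [map_smul, fibreForm_tmul, one_mul, smul_eq_mul, mul_comm]
    have hc : ∀ i, c i = 0 := Fintype.linearIndependent_iff.mp hv c hw
    apply hφ0
    refine LinearMap.ext (fun t => ?_)
    rw [hφc]
    simp [hc]
  obtain ⟨κ', a, ha_inj, ha_span, ha_li⟩ := exists_linearIndependent' κ ev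
  rw [hspan] at ha_span
  let b : Module.Basis κ' κ (Fin m → κ) := Module.Basis.mk ha_li ha_span.ge
  haveI : Finite κ' := Module.Finite.finite_basis b
  haveI : Fintype κ' := Fintype.ofFinite κ'
  have hcard : Fintype.card κ' = m := by
    have := Module.finrank_eq_card_basis b
    rw [Module.finrank_fin_fun] at this
    exact this.symm
  let e : Fin m ≃ κ' := (Fintype.equivFinOfCardEq hcard).symm
  refine ⟨fun j => a (e j), ?_⟩
  have hli : LinearIndependent κ (fun j : Fin m => ev (a (e j))) :=
    ha_li.comp e e.injective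
  have hrows : LinearIndependent κ (Matrix.of fun j i => algebraMap B κ (a (e j) (v i))).row := hli
  have hunit := Matrix.linearIndependent_rows_iff_isUnit.mp hrows
  have hdet := (Matrix.isUnit_iff_isUnit_det _).mp hunit
  have htr : (Matrix.of fun i j => algebraMap B κ (a (e j) (v i))) =
      (Matrix.of fun j i => algebraMap B κ (a (e j) (v i))).transpose := rfl
  rw [htr, Matrix.det_transpose]
  exact hdet.ne_zero

end la

end Groth.Agent.Lib.Helper21.ZarJac
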