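import Mathlib
import Groth.Agent.Lib.Helper21.ZarJacA
import Groth.Agent.Lib.Helper21.SepFTB

set_option autoImplicit false
set_option linter.style.haveILetI false

namespace Groth.Agent.Lib.Helper21.ZarJac

open TensorProduct IsLocalRing KaehlerDifferential

universe u

section setup

variable {B : Type u} [CommRing B] (J q : Ideal B) [q.IsPrime] (hJq : J ≤ q)
  [hp : (q.map (Ideal.Quotient.mk J)).IsPrime]

omit [q.IsPrime] hp in
include hJq in
theorem comap_map_mk : (q.map (Ideal.Quotient.mk J)).comap (Ideal.Quotient.mk J) = q := by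
  rw [Ideal.comap_map_of_surjective _ Ideal.Quotient.mk_surjective, ← RingHom.ker_eq_comap_bot,
    Ideal.mk_ker, sup_eq_left.mpr hJq]

omit [q.IsPrime] hp in
include hJq in
theorem liesOver : (q.map (Ideal.Quotient.mk J)).LiesOver q :=
  ⟨(comap_map_mk J q hJq).symm⟩

/-- the local map `B_q → (B/J)_p` -/
noncomputable def locMap : Localization.AtPrime q →+* Localization.AtPrime (q.map (Ideal.Quotient.mk J)) :=
  Localization.localRingHom q (q.map (Ideal.Quotient.mk J)) (Ideal.Quotient.mk J)
    (comap_map_mk J q hJq).symm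

theorem locMap_to_map (x : B) : locMap J q hJq (algebraMap B (Localization.AtPrime q) x) =
    algebraMap (B ⧸ J) (Localization.AtPrime (q.map (Ideal.Quotient.mk J)))
      (Ideal.Quotient.mk J x) :=
  Localization.localRingHom_to_map _ _ _ _ x

theorem locMap_surjective : Function.Surjective (locMap J q hJq) := by
  intro z
  obtain ⟨c, s, rfl⟩ := IsLocalization.exists_mk'_eq (q.map (Ideal.Quotient.mk J)).primeCompl z
  obtain ⟨b, rfl⟩ := Ideal.Quotient.mk_surjective c
  obtain ⟨t, ht⟩ := Ideal.Quotient.mk_surjective (s : B ⧸ J)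
  have htq : t ∈ q.primeCompl := by
    intro h
    apply s.2
    rw [← ht]
    exact Ideal.mem_map_of_mem _ h
  refine ⟨IsLocalization.mk' _ b ⟨t, htq⟩, ?_⟩
  rw [locMap, Localization.localRingHom_mk']
  congr 1
  exact Subtype.ext ht

theorem ker_locMap : RingHom.ker (locMap J q hJq) =
    J.map (algebraMap B (Localization.AtPrime q)) := by
  apply le_antisymm
  · intro x hx
    obtain ⟨b, t, rfl⟩ := IsLocalization.exists_mk'_eq q.primeCompl x
    rw [RingHom.mem_ker, locMap, Localization.localRingHom_mk',
      IsLocalization.mk'_eq_zero_iff] at hx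
    obtain ⟨s', hs'⟩ := hx
    obtain ⟨s, hs⟩ := Ideal.Quotient.mk_surjective (s' : B ⧸ J)
    have hsq : s ∈ q.primeCompl := by
      intro h
      apply s'.2
      rw [← hs]
      exact Ideal.mem_map_of_mem _ h
    have hsb : s * b ∈ J := by
      rw [← Ideal.Quotient.eq_zero_iff_mem, map_mul, hs]
      exact hs'
    have h1 : (IsLocalization.mk' (Localization.AtPrime q) b t) =
        algebraMap B (Localization.AtPrime q) (s * b) *
          IsLocalization.mk' (Localization.AtPrime q) 1 (⟨s, hsq⟩ * t) := by
      rw [IsLocalization.mul_mk'_eq_mk'_of_mul, mul_one,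
        IsLocalization.mk'_eq_iff_eq]
      congr 1
      simp only [Submonoid.coe_mul]
      ring
    rw [h1]
    exact Ideal.mul_mem_right _ _ (Ideal.mem_map_of_mem _ hsb)
  · rw [Ideal.map_le_iff_le_comap]
    intro x hx
    rw [Ideal.mem_comap, RingHom.mem_ker, locMap, Localization.localRingHom_to_map,
      Ideal.Quotient.eq_zero_iff_mem.mpr hx, map_zero]

end setup


section abstract

variable {k₀ B P S : Type u} [CommRing k₀] [CommRing B] [CommRing P] [CommRing S]
  [Algebra k₀ B] [Algebra k₀ P] [Algebra k₀ S] [Algebra B P] [Algebra B S] [Algebra P S]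
  [IsScalarTower k₀ B P] [IsScalarTower k₀ P S] [IsScalarTower B P S]
  [IsLocalRing S] [IsLocalRing P]
  (q : Ideal B) [q.IsPrime] [IsLocalization.AtPrime P q]

instance : IsScalarTower B P (ResidueField S) :=
  IsScalarTower.of_algebraMap_eq (fun x => by
    rw [IsScalarTower.algebraMap_apply B S (ResidueField S),
      IsScalarTower.algebraMap_apply P S (ResidueField S),
      IsScalarTower.algebraMap_apply B P S])

include q in
theorem algebraMap_residueField_eq_zero_iff (hφ : Function.Surjective (algebraMap P S)) (x : B) :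
    algebraMap B (ResidueField S) x = 0 ↔ x ∈ q := by
  haveI : IsLocalHom (algebraMap P S) := IsLocalHom.of_surjective _ hφ
  rw [IsScalarTower.algebraMap_apply B S (ResidueField S)]
  show residue S _ = 0 ↔ _
  rw [residue_eq_zero_iff, mem_maximalIdeal, mem_nonunits_iff,
    IsScalarTower.algebraMap_apply B P S, isUnit_map_iff,
    IsLocalization.AtPrime.isUnit_to_map_iff P q x]
  simp [Ideal.primeCompl]

theorem surjective_algebraMap_residueField (hφ : Function.Surjective (algebraMap P S)) :
    Function.Surjective (algebraMap P (ResidueField S)) := by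
  rw [IsScalarTower.algebraMap_eq P S (ResidueField S)]
  exact residue_surjective.comp hφ

include q in
theorem isBaseChange_map' : IsBaseChange P (KaehlerDifferential.map k₀ k₀ B P) :=
  (isLocalizedModule_iff_isBaseChange q.primeCompl _ _).mp inferInstance

theorem cotangentComplexBaseChange_one_tmul (y : P) (hy : y ∈ RingHom.ker (algebraMap P S)) :
    cotangentComplexBaseChange k₀ S P (ResidueField S) ((1 : ResidueField S) ⊗ₜ[P] ⟨y, hy⟩) =
      (1 : ResidueField S) ⊗ₜ[P] KaehlerDifferential.D k₀ P y := by
  rw [cotangentComplexBaseChange_tmul, one_smul, kerToTensor_apply]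

/-- the functional on the fibre of the differentials of `P` induced by a derivation of `B` -/
noncomputable def derivForm (D : Derivation k₀ B B) :
    ResidueField S ⊗[P] Ω[P⁄k₀] →ₗ[ResidueField S] ResidueField S :=
  LinearMap.liftBaseChange (ResidueField S)
    ((isBaseChange_map' (k₀ := k₀) (P := P) q).lift
      ((Algebra.linearMap B (ResidueField S)) ∘ₗ D.liftKaehlerDifferential))

theorem derivForm_one_tmul (D : Derivation k₀ B B) (b : B) :
    derivForm (S := S) q D ((1 : ResidueField S) ⊗ₜ[P] KaehlerDifferential.D k₀ P (algebraMap B P b)) =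
      algebraMap B (ResidueField S) (D b) := by
  rw [derivForm, LinearMap.liftBaseChange_tmul, one_smul, ← KaehlerDifferential.map_D k₀ k₀ B P,
    IsBaseChange.lift_eq]
  simp

theorem injective_of_exists (J : Ideal B) (hφ : Function.Surjective (algebraMap P S))
    (hker : RingHom.ker (algebraMap P S) = J.map (algebraMap B P))
    {m : ℕ} (f : Fin m → B) (D : Fin m → Derivation k₀ B B) (hfJ : ∀ i, f i ∈ J)
    (hgen : J.map (algebraMap B P) = Ideal.span (Set.range fun i => algebraMap B P (f i)))
    (hdet : Matrix.det (Matrix.of fun i j => D j (f i)) ∉ q) :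
    Function.Injective (cotangentComplexBaseChange k₀ S P (ResidueField S)) := by
  classical
  have hκ := surjective_algebraMap_residueField (P := P) (S := S) hφ
  have hyI : ∀ l, algebraMap B P (f l) ∈ RingHom.ker (algebraMap P S) := fun l => by
    rw [hker]; exact Ideal.mem_map_of_mem _ (hfJ l)
  have hy : Ideal.span (Set.range fun l => algebraMap B P (f l)) =
      RingHom.ker (algebraMap P S) := by rw [hker, hgen]
  have hsp := span_one_tmul_eq_top hκ _ _ hy hyI
  rw [injective_iff_map_eq_zero]
  intro z hz
  have hz' : z ∈ Submodule.span (ResidueField S) (Set.range fun l =>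
      (1 : ResidueField S) ⊗ₜ[P] (⟨algebraMap B P (f l), hyI l⟩ : RingHom.ker (algebraMap P S))) := by
    rw [hsp]; trivial
  obtain ⟨c, hc⟩ := (Submodule.mem_span_range_iff_exists_fun (ResidueField S)).mp hz'
  have h1 : ∑ l, c l • ((1 : ResidueField S) ⊗ₜ[P]
      KaehlerDifferential.D k₀ P (algebraMap B P (f l))) = 0 := by
    rw [← hz, ← hc, map_sum]
    refine Finset.sum_congr rfl (fun l _ => ?_)
    rw [map_smul, cotangentComplexBaseChange_one_tmul]
  have h2 : ∀ j, ∑ l, c l * algebraMap B (ResidueField S) (D j (f l)) = 0 := by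
    intro j
    have := congrArg (derivForm (S := S) q (D j)) h1
    rw [map_sum, map_zero] at this
    rw [← this]
    refine Finset.sum_congr rfl (fun l _ => ?_)
    rw [map_smul, derivForm_one_tmul, smul_eq_mul]
  have h3 : Matrix.vecMul c ((Matrix.of fun i j => D j (f i)).map
      (algebraMap B (ResidueField S))) = 0 := by
    ext j
    rw [Matrix.vecMul, dotProduct]
    exact h2 j
  have h4 : ((Matrix.of fun i j => D j (f i)).map (algebraMap B (ResidueField S))).det ≠ 0 := by
    rw [← RingHom.mapMatrix_apply, ← RingHom.map_det]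
    intro h
    exact hdet ((algebraMap_residueField_eq_zero_iff (P := P) (S := S) q hφ _).mp h)
  have hc0 : c = 0 := Matrix.eq_zero_of_vecMul_eq_zero h4 h3
  rw [← hc, hc0]
  simp

/-- comparison of the fibres of the differentials of `B` and `P` -/
noncomputable def fibreMap :
    ResidueField S ⊗[B] Ω[B⁄k₀] →ₗ[ResidueField S] ResidueField S ⊗[P] Ω[P⁄k₀] :=
  LinearMap.liftBaseChange (ResidueField S)
    (((TensorProduct.mk P (ResidueField S) Ω[P⁄k₀] 1).restrictScalars B) ∘ₗ
      (KaehlerDifferential.map k₀ k₀ B P))

theorem fibreMap_one_tmul (b : B) :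
    fibreMap (k₀ := k₀) (P := P) (S := S)
      ((1 : ResidueField S) ⊗ₜ[B] KaehlerDifferential.D k₀ B b) =
      (1 : ResidueField S) ⊗ₜ[P] KaehlerDifferential.D k₀ P (algebraMap B P b) := by
  rw [fibreMap, LinearMap.liftBaseChange_tmul, one_smul]
  simp


theorem exists_of_injective [IsNoetherianRing P] [Module.Projective B Ω[B⁄k₀]] (J : Ideal B)
    (hφ : Function.Surjective (algebraMap P S))
    (hker : RingHom.ker (algebraMap P S) = J.map (algebraMap B P))
    (hu : Function.Injective (cotangentComplexBaseChange k₀ S P (ResidueField S))) :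
    ∃ (m : ℕ) (f : Fin m → B) (D : Fin m → Derivation k₀ B B),
        (∀ i, f i ∈ J) ∧
        J.map (algebraMap B P) = Ideal.span (Set.range fun i => algebraMap B P (f i)) ∧
        Matrix.det (Matrix.of fun i j => D j (f i)) ∉ q := by
  classical
  have hκ := surjective_algebraMap_residueField (P := P) (S := S) hφ
  have hyI : ∀ x : J, algebraMap B P (x : B) ∈ RingHom.ker (algebraMap P S) := fun x => by
    rw [hker]; exact Ideal.mem_map_of_mem _ x.2
  have hy : Ideal.span (Set.range fun x : J => algebraMap B P (x : B)) =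
      RingHom.ker (algebraMap P S) := by
    rw [hker]
    show _ = Ideal.span _
    congr 1
    ext z
    simp
  have hsp := span_one_tmul_eq_top hκ _ _ hy hyI
  obtain ⟨κ', a, ha_inj, ha_span, ha_li⟩ := exists_linearIndependent' (ResidueField S)
    (fun x : J => (1 : ResidueField S) ⊗ₜ[P]
      (⟨algebraMap B P (x : B), hyI x⟩ : RingHom.ker (algebraMap P S)))
  rw [hsp] at ha_span
  let b := Module.Basis.mk ha_li ha_span.ge
  haveI : Module.Finite P (RingHom.ker (algebraMap P S)) :=
    Module.Finite.of_fg (IsNoetherian.noetherian _)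
  haveI : Finite κ' := Module.Finite.finite_basis b
  haveI : Fintype κ' := Fintype.ofFinite κ'
  let e : Fin (Fintype.card κ') ≃ κ' := (Fintype.equivFin κ').symm
  refine ⟨Fintype.card κ', fun i => (a (e i) : B), ?_⟩
  have hfJ : ∀ i, ((a (e i) : J) : B) ∈ J := fun i => (a (e i)).2
  have hyI' : ∀ l, algebraMap B P ((a (e l) : J) : B) ∈ RingHom.ker (algebraMap P S) :=
    fun l => hyI (a (e l))
  have hspan' : Submodule.span (ResidueField S) (Set.range fun l =>
      (1 : ResidueField S) ⊗ₜ[P] (⟨algebraMap B P ((a (e l) : J) : B), hyI' l⟩ :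
        RingHom.ker (algebraMap P S))) = ⊤ := by
    rw [← ha_span]
    congr 1
    ext z
    constructor
    · rintro ⟨l, rfl⟩; exact ⟨e l, rfl⟩
    · rintro ⟨l, rfl⟩; exact ⟨e.symm l, by simp⟩
  have hgen := span_eq_of_span_one_tmul_eq_top hκ _ (IsNoetherian.noetherian _)
    (fun l => algebraMap B P ((a (e l) : J) : B)) hyI' hspan'
  -- linear independence of the differentials
  have hli1 : LinearIndependent (ResidueField S) (fun l : Fin (Fintype.card κ') =>
      (1 : ResidueField S) ⊗ₜ[P] (⟨algebraMap B P ((a (e l) : J) : B), hyI' l⟩ :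
        RingHom.ker (algebraMap P S))) := ha_li.comp e e.injective
  have hli2 : LinearIndependent (ResidueField S) (fun l : Fin (Fintype.card κ') =>
      (1 : ResidueField S) ⊗ₜ[P] KaehlerDifferential.D k₀ P
        (algebraMap B P ((a (e l) : J) : B))) := by
    have h := hli1.map' (cotangentComplexBaseChange k₀ S P (ResidueField S))
      (LinearMap.ker_eq_bot.mpr hu)
    have heq : (⇑(cotangentComplexBaseChange k₀ S P (ResidueField S)) ∘
        fun l : Fin (Fintype.card κ') => (1 : ResidueField S) ⊗ₜ[P]
          (⟨algebraMap B P ((a (e l) : J) : B), hyI' l⟩ : RingHom.ker (algebraMap P S))) =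
        fun l => (1 : ResidueField S) ⊗ₜ[P] KaehlerDifferential.D k₀ P
          (algebraMap B P ((a (e l) : J) : B)) :=
      funext (fun l => cotangentComplexBaseChange_one_tmul _ _)
    rw [heq] at h
    exact h
  have hli3 : LinearIndependent (ResidueField S) (fun l : Fin (Fintype.card κ') =>
      (1 : ResidueField S) ⊗ₜ[B] KaehlerDifferential.D k₀ B ((a (e l) : J) : B)) := by
    apply LinearIndependent.of_comp (fibreMap (k₀ := k₀) (P := P) (S := S))
    have heq : (⇑(fibreMap (k₀ := k₀) (B := B) (P := P) (S := S)) ∘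
        fun l : Fin (Fintype.card κ') => (1 : ResidueField S) ⊗ₜ[B]
          KaehlerDifferential.D k₀ B ((a (e l) : J) : B)) =
        fun l => (1 : ResidueField S) ⊗ₜ[P] KaehlerDifferential.D k₀ P
          (algebraMap B P ((a (e l) : J) : B)) :=
      funext (fun l => fibreMap_one_tmul _)
    rw [heq]
    exact hli2
  obtain ⟨ψ, hdet⟩ := exists_forms_det_ne_zero
    (fun l => KaehlerDifferential.D k₀ B ((a (e l) : J) : B)) hli3
  refine ⟨fun j => (ψ j).compDer (KaehlerDifferential.D k₀ B), hfJ, ?_, ?_⟩
  · rw [← hker, hgen]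
  · intro hmem
    apply hdet
    have h0 := (algebraMap_residueField_eq_zero_iff (P := P) (S := S) q hφ _).mpr hmem
    rw [RingHom.map_det, RingHom.mapMatrix_apply] at h0
    exact h0

end abstract

section main

variable {k₀ : Type u} [Field k₀] {B : Type u} [CommRing B] [Algebra k₀ B]
  [Algebra.FormallySmooth k₀ B] [IsNoetherianRing B]
  (J q : Ideal B) [q.IsPrime] (hJq : J ≤ q) [hp : (q.map (Ideal.Quotient.mk J)).IsPrime]

include hJq in
theorem zariski_jacobian :
    Algebra.FormallySmooth k₀ (Localization.AtPrime (q.map (Ideal.Quotient.mk J))) ↔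
      ∃ (m : ℕ) (f : Fin m → B) (D : Fin m → Derivation k₀ B B),
        (∀ i, f i ∈ J) ∧
        J.map (algebraMap B (Localization.AtPrime q)) =
          Ideal.span (Set.range fun i => algebraMap B (Localization.AtPrime q) (f i)) ∧
        Matrix.det (Matrix.of fun i j => D j (f i)) ∉ q := by
  classical
  letI : Algebra (Localization.AtPrime q) (Localization.AtPrime (q.map (Ideal.Quotient.mk J))) :=
    (locMap J q hJq).toAlgebra
  have hmap : ∀ x : B, algebraMap (Localization.AtPrime q)
      (Localization.AtPrime (q.map (Ideal.Quotient.mk J))) (algebraMap B _ x) =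
      algebraMap (B ⧸ J) _ (Ideal.Quotient.mk J x) := fun x => locMap_to_map J q hJq x
  haveI : IsScalarTower B (Localization.AtPrime q)
      (Localization.AtPrime (q.map (Ideal.Quotient.mk J))) :=
    IsScalarTower.of_algebraMap_eq (fun x => by
      rw [hmap, IsScalarTower.algebraMap_apply B (B ⧸ J)]
      rfl)
  haveI : IsScalarTower k₀ (Localization.AtPrime q)
      (Localization.AtPrime (q.map (Ideal.Quotient.mk J))) :=
    IsScalarTower.of_algebraMap_eq (fun c => by
      rw [IsScalarTower.algebraMap_apply k₀ B (Localization.AtPrime q), hmap,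
        IsScalarTower.algebraMap_apply k₀ (B ⧸ J)]
      rfl)
  -- notation
  haveI : Algebra.FormallySmooth B (Localization.AtPrime q) :=
    Algebra.FormallySmooth.of_isLocalization q.primeCompl
  haveI : Algebra.FormallySmooth k₀ (Localization.AtPrime q) :=
    Algebra.FormallySmooth.comp k₀ B (Localization.AtPrime q)
  have hφ : Function.Surjective (algebraMap (Localization.AtPrime q)
      (Localization.AtPrime (q.map (Ideal.Quotient.mk J)))) := locMap_surjective J q hJq
  have hker : RingHom.ker (algebraMap (Localization.AtPrime q)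
      (Localization.AtPrime (q.map (Ideal.Quotient.mk J)))) =
      J.map (algebraMap B (Localization.AtPrime q)) := ker_locMap J q hJq
  have crit := Groth.Agent.Lib.Helper21.SepFT.formallySmooth_iff_injective_cotangentComplexBaseChange_residueField
    (R := k₀) (S := Localization.AtPrime (q.map (Ideal.Quotient.mk J)))
    (Localization.AtPrime q) hφ (IsNoetherian.noetherian _)
  rw [crit]
  constructor
  · intro hu
    exact exists_of_injective (k₀ := k₀) (P := Localization.AtPrime q)
      (S := Localization.AtPrime (q.map (Ideal.Quotient.mk J))) q J hφ hker hu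
  · rintro ⟨m, f, D, hfJ, hgen, hdet⟩
    exact injective_of_exists (k₀ := k₀) (P := Localization.AtPrime q)
      (S := Localization.AtPrime (q.map (Ideal.Quotient.mk J))) q J hφ hker f D hfJ hgen hdet

end main

end Groth.Agent.Lib.Helper21.ZarJac
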