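import Mathlib
import Groth.Agent.Lib.Helper21.ZarJacB
import Groth.Agent.Lib.Helper21.AdicLoc
import Groth.Agent.Lib.Helper21.CohenStructD

set_option autoImplicit false
set_option linter.style.haveILetI false

namespace Groth.Agent.Lib.Helper21.JacLoc

open TensorProduct IsLocalRing KaehlerDifferential Groth.Agent.Lib.Helper21.ZarJac

universe u

section abstract

variable {A B C P S : Type u} [CommRing A] [CommRing B] [CommRing C] [CommRing P] [CommRing S]
  [Algebra A B] [Algebra A P] [Algebra A S] [Algebra B P] [Algebra B S] [Algebra P S]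
  [IsScalarTower A B P] [IsScalarTower A P S] [IsScalarTower B P S]
  [IsLocalRing S] [IsLocalRing P]
  [Algebra B C] [Algebra C S] [IsScalarTower B C S]
  (q : Ideal B) [q.IsPrime] [IsLocalization.AtPrime P q]

instance : IsScalarTower B C (ResidueField S) :=
  IsScalarTower.of_algebraMap_eq (fun x => by
    rw [IsScalarTower.algebraMap_apply B S (ResidueField S),
      IsScalarTower.algebraMap_apply C S (ResidueField S),
      IsScalarTower.algebraMap_apply B C S])

theorem algebraMap_residueField_eq_zero (x : B) (hx : x ∈ RingHom.ker (algebraMap B C)) :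
    algebraMap B (ResidueField S) x = 0 := by
  rw [IsScalarTower.algebraMap_apply B C (ResidueField S), (RingHom.mem_ker).mp hx, map_zero]

section alpha

variable (hker : RingHom.ker (algebraMap P S) = (RingHom.ker (algebraMap B C)).map (algebraMap B P))

include hker in
theorem algebraMap_mem_ker (x : RingHom.ker (algebraMap B C)) :
    algebraMap B P (x : B) ∈ RingHom.ker (algebraMap P S) := by
  rw [hker]; exact Ideal.mem_map_of_mem _ x.2

/-- the map `J → I` -/
noncomputable def kerMap : RingHom.ker (algebraMap B C) →ₗ[B] RingHom.ker (algebraMap P S) where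
  toFun x := ⟨algebraMap B P (x : B), algebraMap_mem_ker hker x⟩
  map_add' x y := by
    apply Subtype.ext
    simp
  map_smul' r x := by
    apply Subtype.ext
    simp [Algebra.smul_def]

/-- `α : κ ⊗_B J/J² → κ ⊗_P I` -/
noncomputable def alpha : ResidueField S ⊗[B] (RingHom.ker (algebraMap B C)).Cotangent →ₗ[ResidueField S]
    ResidueField S ⊗[P] RingHom.ker (algebraMap P S) :=
  LinearMap.liftBaseChange (ResidueField S)
    (Ideal.Cotangent.lift
      (((TensorProduct.mk P (ResidueField S) (RingHom.ker (algebraMap P S)) 1).restrictScalars B) ∘ₗ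
        kerMap hker)
      (fun x y => by
        simp only [LinearMap.coe_comp, LinearMap.coe_restrictScalars, Function.comp_apply,
          TensorProduct.mk_apply]
        have h1 : kerMap hker (x * y) = (algebraMap B P (x : B)) • kerMap hker y := by
          apply Subtype.ext
          simp [kerMap, Algebra.smul_def]
        rw [h1, one_tmul_smul', ← IsScalarTower.algebraMap_apply B P (ResidueField S),
          algebraMap_residueField_eq_zero (S := S) (x : B) x.2, zero_smul]))


theorem alpha_tmul (c : ResidueField S) (x : RingHom.ker (algebraMap B C)) :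
    alpha hker (c ⊗ₜ[B] (Ideal.toCotangent _ x)) = c ⊗ₜ[P] kerMap hker x := by
  rw [alpha, LinearMap.liftBaseChange_tmul, Ideal.Cotangent.lift_toCotangent]
  simp [TensorProduct.smul_tmul']

/-- `P ⊗_B J → P` -/
noncomputable def tensorKerToRing : P ⊗[B] RingHom.ker (algebraMap B C) →ₗ[P] P :=
  LinearMap.liftBaseChange P ((Algebra.linearMap B P) ∘ₗ (RingHom.ker (algebraMap B C)).subtype)

theorem tensorKerToRing_tmul (p : P) (x : RingHom.ker (algebraMap B C)) :
    tensorKerToRing (P := P) (C := C) (p ⊗ₜ[B] x) = p * algebraMap B P (x : B) := by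
  simp [tensorKerToRing]

include q in
theorem tensorKerToRing_injective :
    Function.Injective (tensorKerToRing (B := B) (P := P) (C := C)) := by
  haveI : Module.Flat B P := IsLocalization.flat P q.primeCompl
  have h1 : ∀ z, tensorKerToRing (P := P) (C := C) z =
      TensorProduct.AlgebraTensorModule.rid B P P
        ((RingHom.ker (algebraMap B C)).subtype.lTensor P z) := by
    intro z
    induction z using TensorProduct.induction_on with
    | zero => simp
    | tmul p x =>
      rw [tensorKerToRing_tmul, LinearMap.lTensor_tmul]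
      simp [Algebra.smul_def, mul_comm]
    | add a b ha hb => simp only [map_add, ha, hb]
  intro z w hzw
  rw [h1, h1] at hzw
  exact Module.Flat.lTensor_preserves_injective_linearMap _ Subtype.val_injective
    ((TensorProduct.AlgebraTensorModule.rid B P P).injective hzw)

include hker in
theorem tensorKerToRing_mem (z : P ⊗[B] RingHom.ker (algebraMap B C)) :
    tensorKerToRing (P := P) (C := C) z ∈ RingHom.ker (algebraMap P S) := by
  induction z using TensorProduct.induction_on with
  | zero => simp
  | tmul p x =>
    rw [tensorKerToRing_tmul]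
    exact Ideal.mul_mem_left _ _ (algebraMap_mem_ker hker x)
  | add a b ha hb => rw [map_add]; exact add_mem ha hb

include hker in
theorem exists_tensorKerToRing_eq (y : P) (hy : y ∈ RingHom.ker (algebraMap P S)) :
    ∃ z, tensorKerToRing (B := B) (P := P) (C := C) z = y := by
  rw [hker] at hy
  have hy' : y ∈ Ideal.span ((algebraMap B P) '' (RingHom.ker (algebraMap B C) : Set B)) := hy
  induction hy' using Submodule.span_induction with
  | mem y hy0 =>
    obtain ⟨x, hx, rfl⟩ := hy0
    exact ⟨1 ⊗ₜ[B] ⟨x, hx⟩, by rw [tensorKerToRing_tmul, one_mul]⟩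
  | zero => exact ⟨0, map_zero _⟩
  | add a b _ _ ha hb =>
    obtain ⟨z, hz⟩ := ha (by assumption)
    obtain ⟨w, hw⟩ := hb (by assumption)
    exact ⟨z + w, by rw [map_add, hz, hw]⟩
  | smul r a _ ha =>
    obtain ⟨z, hz⟩ := ha (by assumption)
    exact ⟨r • z, by rw [map_smul, hz]⟩


/-- `P ⊗_B J ≃ I` -/
noncomputable def tensorKerEquiv :
    (P ⊗[B] RingHom.ker (algebraMap B C)) ≃ₗ[P] RingHom.ker (algebraMap P S) :=
  LinearEquiv.ofBijective
    ((tensorKerToRing (B := B) (P := P) (C := C)).codRestrict
      ((RingHom.ker (algebraMap P S)).restrictScalars P) (tensorKerToRing_mem hker))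
    ⟨fun z w hzw => tensorKerToRing_injective (C := C) q (congrArg Subtype.val hzw),
     fun y => by
      obtain ⟨z, hz⟩ := exists_tensorKerToRing_eq (B := B) (C := C) hker y.1 y.2
      exact ⟨z, Subtype.ext hz⟩⟩

theorem tensorKerEquiv_one_tmul (x : RingHom.ker (algebraMap B C)) :
    tensorKerEquiv q hker ((1 : P) ⊗ₜ[B] x) = kerMap hker x := by
  apply Subtype.ext
  show tensorKerToRing (B := B) (P := P) (C := C) ((1 : P) ⊗ₜ[B] x) = _
  rw [tensorKerToRing_tmul, one_mul]
  rfl

/-- `α' : κ ⊗_P I → κ ⊗_B J/J²` -/
noncomputable def alpha' : ResidueField S ⊗[P] RingHom.ker (algebraMap P S) →ₗ[ResidueField S]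
    ResidueField S ⊗[B] (RingHom.ker (algebraMap B C)).Cotangent :=
  LinearMap.liftBaseChange (ResidueField S)
    ((LinearMap.liftBaseChange P
      ((TensorProduct.mk B (ResidueField S) (RingHom.ker (algebraMap B C)).Cotangent 1) ∘ₗ
        (RingHom.ker (algebraMap B C)).toCotangent)) ∘ₗ (tensorKerEquiv q hker).symm.toLinearMap)

theorem alpha'_tmul (c : ResidueField S) (x : RingHom.ker (algebraMap B C)) :
    alpha' q hker (c ⊗ₜ[P] kerMap hker x) = c ⊗ₜ[B] (Ideal.toCotangent _ x) := by
  rw [alpha', LinearMap.liftBaseChange_tmul, LinearMap.comp_apply, LinearEquiv.coe_coe,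
    ← tensorKerEquiv_one_tmul q hker x, LinearEquiv.symm_apply_apply,
    LinearMap.liftBaseChange_tmul]
  simp [TensorProduct.smul_tmul']

theorem alpha'_alpha (z : ResidueField S ⊗[B] (RingHom.ker (algebraMap B C)).Cotangent) :
    alpha' q hker (alpha hker z) = z := by
  induction z using TensorProduct.induction_on with
  | zero => simp
  | tmul c y =>
    obtain ⟨x, rfl⟩ := Ideal.toCotangent_surjective _ y
    rw [alpha_tmul, alpha'_tmul]
  | add a b ha hb => rw [map_add, map_add, ha, hb]

include q in
theorem alpha_injective : Function.Injective (alpha (S := S) hker) := by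
  intro z w hzw
  rw [← alpha'_alpha q hker z, ← alpha'_alpha q hker w, hzw]

theorem alpha_surjective (hφ : Function.Surjective (algebraMap P S)) :
    Function.Surjective (alpha (S := S) hker) := by
  have hκ := surjective_algebraMap_residueField (P := P) (S := S) hφ
  have hy : Ideal.span (Set.range fun x : RingHom.ker (algebraMap B C) => algebraMap B P (x : B)) =
      RingHom.ker (algebraMap P S) := by
    rw [hker]
    show _ = Ideal.span _
    congr 1
    ext z
    simp
  have hsp := span_one_tmul_eq_top hκ _ _ hy (algebraMap_mem_ker hker)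
  rw [← LinearMap.range_eq_top, eq_top_iff, ← hsp, Submodule.span_le]
  rintro _ ⟨x, rfl⟩
  exact ⟨(1 : ResidueField S) ⊗ₜ[B] (Ideal.toCotangent _ x), alpha_tmul hker 1 x⟩

end alpha


section beta

/-- `β : κ ⊗_B (C ⊗_B Ω_B) → κ ⊗_P Ω_P` -/
noncomputable def beta : ResidueField S ⊗[B] (C ⊗[B] Ω[B⁄A]) →ₗ[ResidueField S]
    ResidueField S ⊗[P] Ω[P⁄A] :=
  LinearMap.liftBaseChange (ResidueField S)
    ((LinearMap.liftBaseChange C
      (((TensorProduct.mk P (ResidueField S) Ω[P⁄A] 1).restrictScalars B) ∘ₗ
        (KaehlerDifferential.map A A B P))).restrictScalars B)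

theorem beta_tmul (c : ResidueField S) (c' : C) (ω : Ω[B⁄A]) :
    beta (P := P) (S := S) (c ⊗ₜ[B] (c' ⊗ₜ[B] ω)) =
      (c * algebraMap C (ResidueField S) c') ⊗ₜ[P] KaehlerDifferential.map A A B P ω := by
  rw [beta, LinearMap.liftBaseChange_tmul, LinearMap.restrictScalars_apply,
    LinearMap.liftBaseChange_tmul]
  simp [TensorProduct.smul_tmul', Algebra.smul_def, mul_comm]

/-- `β' : κ ⊗_P Ω_P → κ ⊗_B (C ⊗_B Ω_B)` -/
noncomputable def beta' : ResidueField S ⊗[P] Ω[P⁄A] →ₗ[ResidueField S]
    ResidueField S ⊗[B] (C ⊗[B] Ω[B⁄A]) :=
  LinearMap.liftBaseChange (ResidueField S)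
    ((isBaseChange_map' (k₀ := A) (P := P) q).lift
      ((TensorProduct.mk B (ResidueField S) (C ⊗[B] Ω[B⁄A]) 1) ∘ₗ (TensorProduct.mk B C Ω[B⁄A] 1)))

theorem beta'_tmul (c : ResidueField S) (ω : Ω[B⁄A]) :
    beta' (C := C) (S := S) q (c ⊗ₜ[P] KaehlerDifferential.map A A B P ω) =
      c ⊗ₜ[B] ((1 : C) ⊗ₜ[B] ω) := by
  rw [beta', LinearMap.liftBaseChange_tmul, IsBaseChange.lift_eq]
  simp [TensorProduct.smul_tmul']

theorem beta'_beta (hsurj : Function.Surjective (algebraMap B C))
    (z : ResidueField S ⊗[B] (C ⊗[B] Ω[B⁄A])) :
    beta' (C := C) (S := S) q (beta (P := P) (S := S) z) = z := by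
  induction z using TensorProduct.induction_on with
  | zero => simp
  | tmul c m =>
    induction m using TensorProduct.induction_on with
    | zero => simp
    | tmul c' ω =>
      obtain ⟨b, rfl⟩ := hsurj c'
      rw [beta_tmul, beta'_tmul, ← IsScalarTower.algebraMap_apply B C (ResidueField S)]
      have h1 : (algebraMap B C b) ⊗ₜ[B] ω = b • ((1 : C) ⊗ₜ[B] ω) := by
        rw [TensorProduct.smul_tmul', Algebra.smul_def, mul_one]
      rw [h1, TensorProduct.tmul_smul, TensorProduct.smul_tmul', Algebra.smul_def, mul_comm]
    | add a b ha hb =>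
      rw [TensorProduct.tmul_add, map_add, map_add, ha, hb]
  | add a b ha hb => rw [map_add, map_add, ha, hb]

include q in
theorem beta_injective (hsurj : Function.Surjective (algebraMap B C)) :
    Function.Injective (beta (A := A) (B := B) (C := C) (P := P) (S := S)) := by
  intro z w hzw
  rw [← beta'_beta (P := P) q hsurj z, ← beta'_beta (P := P) q hsurj w, hzw]

end beta


section square

variable (hker : RingHom.ker (algebraMap P S) = (RingHom.ker (algebraMap B C)).map (algebraMap B P))

theorem square (z : ResidueField S ⊗[B] (RingHom.ker (algebraMap B C)).Cotangent) :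
    beta (P := P) (S := S) (((kerCotangentToTensor A B C).lTensor (ResidueField S)) z) =
      cotangentComplexBaseChange A S P (ResidueField S) (alpha hker z) := by
  induction z using TensorProduct.induction_on with
  | zero => simp
  | tmul c y =>
    obtain ⟨x, rfl⟩ := Ideal.toCotangent_surjective _ y
    rw [LinearMap.lTensor_tmul, kerCotangentToTensor_toCotangent, beta_tmul, alpha_tmul,
      cotangentComplexBaseChange_tmul, kerToTensor_apply, map_one, mul_one, map_D,
      TensorProduct.smul_tmul', smul_eq_mul, mul_one]
    rfl
  | add a b ha hb => simp only [map_add, ha, hb]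

include q hker in
theorem injective_iff (hφ : Function.Surjective (algebraMap P S))
    (hsurj : Function.Surjective (algebraMap B C)) :
    Function.Injective (cotangentComplexBaseChange A S P (ResidueField S)) ↔
      Function.Injective ((kerCotangentToTensor A B C).lTensor (ResidueField S)) := by
  constructor
  · intro h z w hzw
    apply alpha_injective q hker
    apply h
    rw [← square hker, ← square hker, hzw]
  · intro h z w hzw
    obtain ⟨z', rfl⟩ := alpha_surjective hker hφ z
    obtain ⟨w', rfl⟩ := alpha_surjective hker hφ w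
    rw [← square hker, ← square hker] at hzw
    rw [h (beta_injective (A := A) (P := P) (S := S) q hsurj hzw)]

end square

end abstract


section kerLoc

variable {B C : Type u} [CommRing B] [CommRing C] (f : B →+* C) (hf : Function.Surjective f)
  (p : Ideal C) [p.IsPrime]

include hf in
theorem ker_localRingHom : RingHom.ker (Localization.localRingHom (p.comap f) p f rfl) =
    (RingHom.ker f).map (algebraMap B (Localization.AtPrime (p.comap f))) := by
  apply le_antisymm
  · intro x hx
    obtain ⟨b, t, rfl⟩ := IsLocalization.exists_mk'_eq (p.comap f).primeCompl x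
    rw [RingHom.mem_ker, Localization.localRingHom_mk', IsLocalization.mk'_eq_zero_iff] at hx
    obtain ⟨s', hs'⟩ := hx
    obtain ⟨s, hs⟩ := hf (s' : C)
    have hsq : s ∈ (p.comap f).primeCompl := by
      intro h
      apply s'.2
      rw [← hs]
      exact h
    have hsb : s * b ∈ RingHom.ker f := by
      rw [RingHom.mem_ker, map_mul, hs]
      exact hs'
    have h1 : (IsLocalization.mk' (Localization.AtPrime (p.comap f)) b t) =
        algebraMap B (Localization.AtPrime (p.comap f)) (s * b) *
          IsLocalization.mk' (Localization.AtPrime (p.comap f)) 1 (⟨s, hsq⟩ * t) := by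
      rw [IsLocalization.mul_mk'_eq_mk'_of_mul, mul_one, IsLocalization.mk'_eq_iff_eq]
      congr 1
      simp only [Submonoid.coe_mul]
      ring
    rw [h1]
    exact Ideal.mul_mem_right _ _ (Ideal.mem_map_of_mem _ hsb)
  · rw [Ideal.map_le_iff_le_comap]
    intro x hx
    rw [Ideal.mem_comap, RingHom.mem_ker, Localization.localRingHom_to_map,
      (RingHom.mem_ker).mp hx, map_zero]

end kerLoc

section final

theorem S4606_aux {A B C : Type u} [CommRing A]
    [CommRing B] [CommRing C] [Algebra A B] [Algebra B C] [Algebra A C] [IsScalarTower A B C]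
    [IsNoetherianRing B]
    [Algebra.FormallySmooth A B] (hsurj : Function.Surjective (algebraMap B C)) (p : Ideal C)
    [p.IsPrime]
    [Algebra (Localization.AtPrime (p.comap (algebraMap A C))) (Localization.AtPrime p)]
    [IsScalarTower A (Localization.AtPrime (p.comap (algebraMap A C))) (Localization.AtPrime p)] :
    CAlgX.IsAdicFormallySmooth (Localization.AtPrime (p.comap (algebraMap A C)))
        (Localization.AtPrime p) (maximalIdeal (Localization.AtPrime p)) ↔
      Function.Injective ((kerCotangentToTensor A B C).lTensor p.ResidueField) := by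
  letI : Algebra (Localization.AtPrime (p.comap (algebraMap B C))) (Localization.AtPrime p) :=
    (Localization.localRingHom (p.comap (algebraMap B C)) p (algebraMap B C) rfl).toAlgebra
  have hmap : ∀ x : B, algebraMap (Localization.AtPrime (p.comap (algebraMap B C)))
      (Localization.AtPrime p) (algebraMap B _ x) =
      algebraMap C (Localization.AtPrime p) (algebraMap B C x) := fun x =>
    Localization.localRingHom_to_map _ _ _ _ x
  haveI : IsScalarTower B (Localization.AtPrime (p.comap (algebraMap B C)))
      (Localization.AtPrime p) :=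
    IsScalarTower.of_algebraMap_eq (fun x => by
      rw [hmap, ← IsScalarTower.algebraMap_apply B C (Localization.AtPrime p)])
  haveI : IsScalarTower A (Localization.AtPrime (p.comap (algebraMap B C)))
      (Localization.AtPrime p) :=
    IsScalarTower.of_algebraMap_eq (fun a => by
      rw [IsScalarTower.algebraMap_apply A B (Localization.AtPrime (p.comap (algebraMap B C))),
        hmap, ← IsScalarTower.algebraMap_apply A B C,
        ← IsScalarTower.algebraMap_apply A C (Localization.AtPrime p)])
  have hφ : Function.Surjective (algebraMap (Localization.AtPrime (p.comap (algebraMap B C)))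
      (Localization.AtPrime p)) :=
    RingHom.surjective_localRingHom_of_surjective (algebraMap B C) hsurj p
  have hker : RingHom.ker (algebraMap (Localization.AtPrime (p.comap (algebraMap B C)))
      (Localization.AtPrime p)) =
      (RingHom.ker (algebraMap B C)).map
        (algebraMap B (Localization.AtPrime (p.comap (algebraMap B C)))) :=
    ker_localRingHom (algebraMap B C) hsurj p
  haveI : Algebra.FormallySmooth B (Localization.AtPrime (p.comap (algebraMap B C))) :=
    Algebra.FormallySmooth.of_isLocalization (p.comap (algebraMap B C)).primeCompl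
  haveI : Algebra.FormallySmooth A (Localization.AtPrime (p.comap (algebraMap B C))) :=
    Algebra.FormallySmooth.comp A B (Localization.AtPrime (p.comap (algebraMap B C)))
  rw [← injective_iff (A := A) (P := Localization.AtPrime (p.comap (algebraMap B C)))
    (S := Localization.AtPrime p) (p.comap (algebraMap B C)) hker hφ hsurj,
    ← Groth.Agent.Lib.Helper21.SepFT.formallySmooth_iff_injective_cotangentComplexBaseChange_residueField
      (R := A) (S := Localization.AtPrime p)
      (Localization.AtPrime (p.comap (algebraMap B C))) hφ (IsNoetherian.noetherian _)]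
  constructor
  · intro h
    have h' := Groth.Agent.Lib.Helper21.AdicLoc.isAdicFormallySmooth_of_localization
      (p.comap (algebraMap A C)).primeCompl _ h
    exact Groth.Agent.Lib.Helper21.SepFT.formallySmooth_of_isAdicFormallySmooth_of_presentation
      (P := Localization.AtPrime (p.comap (algebraMap B C))) hφ h'
  · intro h
    exact Groth.Agent.Lib.Helper21.AdicLoc.isAdicFormallySmooth_localization
      (p.comap (algebraMap A C)).primeCompl _
      (Groth.Agent.Lib.Helper21.CohenStruct.isAdicFormallySmooth_of_formallySmooth _)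

end final

end Groth.Agent.Lib.Helper21.JacLoc
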