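import Mathlib
import Groth.Prelude.Def_ModSite
import Groth.Agent.Lib.Helper13.ModSiteProj

/-!
# The projection formula `j_!(P ⊗ j^* N) ≅ j_! P ⊗ N`, natural in both variables
-/

set_option autoImplicit false
universe u
open CategoryTheory CategoryTheory.Limits Opposite MonoidalCategory
open Groth.Agent.Lib.Helper13 Groth.Agent.Lib.Helper13.ModSiteTensor
open Groth.Agent.Lib.Helper13.TensorLocal Groth.Agent.Lib.Helper13.ModSiteRestr
open Groth.Agent.Lib.Helper13.ModSiteProj

noncomputable section

namespace Groth.Agent.Lib.Helper21.ProjBinat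

variable {C : Type u} [SmallCategory C] {J : GrothendieckTopology C} (O : Sheaf J CommRingCat.{u})
  (U : C)

/-- The projection morphism in normal form. -/
def core (A : PMod (O.over U)) (B : PMod O) {X : PMod O} (k : (shriekPM O U).obj A ⟶ X) :
    (ModSite.extZero O U).obj ((shf (O.over U)).obj (A ⊗ (restrPM O U).obj B)) ⟶
      (shf O).obj (X ⊗ B) :=
  (shfExtZeroIso O U).hom.app (A ⊗ (restrPM O U).obj B) ≫
    (shf O).map (projHom O U A B) ≫ (shf O).map (k ▷ B)

lemma core_naturality_right (A : PMod (O.over U)) {B B' : PMod O} (g : B ⟶ B') {X : PMod O}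
    (k : (shriekPM O U).obj A ⟶ X) :
    (ModSite.extZero O U).map ((shf (O.over U)).map (A ◁ (restrPM O U).map g)) ≫
      core O U A B' k = core O U A B k ≫ (shf O).map (X ◁ g) := by
  have s1 := (shfExtZeroIso O U).hom.naturality (A ◁ (restrPM O U).map g)
  have s1' : (ModSite.extZero O U).map ((shf (O.over U)).map (A ◁ (restrPM O U).map g)) ≫
      (shfExtZeroIso O U).hom.app (A ⊗ (restrPM O U).obj B') =
      (shfExtZeroIso O U).hom.app (A ⊗ (restrPM O U).obj B) ≫
        (shf O).map ((shriekPM O U).map (A ◁ (restrPM O U).map g)) := s1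
  have s2 : (shf O).map ((shriekPM O U).map (A ◁ (restrPM O U).map g)) ≫
      (shf O).map (projHom O U A B') =
      (shf O).map (projHom O U A B) ≫ (shf O).map ((shriekPM O U).obj A ◁ g) := by
    rw [← Functor.map_comp, projHom_naturality_right, Functor.map_comp]
  have s3 : (shf O).map ((shriekPM O U).obj A ◁ g) ≫ (shf O).map (k ▷ B') =
      (shf O).map (k ▷ B) ≫ (shf O).map (X ◁ g) := by
    rw [← Functor.map_comp, ← Functor.map_comp, whisker_exchange]
  unfold core
  rw [reassoc_of% s1', reassoc_of% s2, s3]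
  simp only [Category.assoc]

lemma core_naturality_left {A A' : PMod (O.over U)} (f : A ⟶ A') (B : PMod O) {X X' : PMod O}
    (k : (shriekPM O U).obj A ⟶ X) (k' : (shriekPM O U).obj A' ⟶ X') (m : X ⟶ X')
    (hk : (shriekPM O U).map f ≫ k' = k ≫ m) :
    (ModSite.extZero O U).map ((shf (O.over U)).map (f ▷ (restrPM O U).obj B)) ≫
      core O U A' B k' = core O U A B k ≫ (shf O).map (m ▷ B) := by
  have s1 := (shfExtZeroIso O U).hom.naturality (f ▷ (restrPM O U).obj B)
  have s1' : (ModSite.extZero O U).map ((shf (O.over U)).map (f ▷ (restrPM O U).obj B)) ≫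
      (shfExtZeroIso O U).hom.app (A' ⊗ (restrPM O U).obj B) =
      (shfExtZeroIso O U).hom.app (A ⊗ (restrPM O U).obj B) ≫
        (shf O).map ((shriekPM O U).map (f ▷ (restrPM O U).obj B)) := s1
  have s2 : (shf O).map ((shriekPM O U).map (f ▷ (restrPM O U).obj B)) ≫
      (shf O).map (projHom O U A' B) =
      (shf O).map (projHom O U A B) ≫ (shf O).map ((shriekPM O U).map f ▷ B) := by
    rw [← Functor.map_comp, projHom_naturality_left, Functor.map_comp]
  have s3 : (shf O).map ((shriekPM O U).map f ▷ B) ≫ (shf O).map (k' ▷ B) =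
      (shf O).map (k ▷ B) ≫ (shf O).map (m ▷ B) := by
    rw [← Functor.map_comp, ← Functor.map_comp, ← comp_whiskerRight, hk, comp_whiskerRight]
  unfold core
  rw [reassoc_of% s1', reassoc_of% s2, s3]
  simp only [Category.assoc]

instance isIso_core (A : PMod (O.over U)) (B : PMod O) {X : PMod O}
    (k : (shriekPM O U).obj A ⟶ X) [IsIso ((shf O).map (k ▷ B))] : IsIso (core O U A B k) := by
  unfold core
  infer_instance

/-- the canonical map `j_!^{pre} (P) ⟶ j_! P`. -/
def kap (P : ModSite.Mod (O.over U)) :
    (shriekPM O U).obj ((fgt (O.over U)).obj P) ⟶ (fgt O).obj ((ModSite.extZero O U).obj P) :=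
  (shfAdj O).unit.app ((shriekPM O U).obj ((fgt (O.over U)).obj P)) ≫
    (fgt O).map ((shfShriekFgtIso O U).hom.app P)

lemma kap_naturality {P P' : ModSite.Mod (O.over U)} (f : P ⟶ P') :
    (shriekPM O U).map ((fgt (O.over U)).map f) ≫ kap O U P' =
      kap O U P ≫ (fgt O).map ((ModSite.extZero O U).map f) := by
  have h1 := (shfAdj O).unit.naturality ((shriekPM O U).map ((fgt (O.over U)).map f))
  have h1' : (shriekPM O U).map ((fgt (O.over U)).map f) ≫
      (shfAdj O).unit.app ((shriekPM O U).obj ((fgt (O.over U)).obj P')) =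
      (shfAdj O).unit.app ((shriekPM O U).obj ((fgt (O.over U)).obj P)) ≫
        (fgt O).map ((shf O).map ((shriekPM O U).map ((fgt (O.over U)).map f))) := h1
  have h2 := (shfShriekFgtIso O U).hom.naturality f
  have h2' : (shf O).map ((shriekPM O U).map ((fgt (O.over U)).map f)) ≫
      (shfShriekFgtIso O U).hom.app P' =
      (shfShriekFgtIso O U).hom.app P ≫ (ModSite.extZero O U).map f := h2
  unfold kap
  calc (shriekPM O U).map ((fgt (O.over U)).map f) ≫
        ((shfAdj O).unit.app ((shriekPM O U).obj ((fgt (O.over U)).obj P')) ≫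
          (fgt O).map ((shfShriekFgtIso O U).hom.app P'))
      = ((shriekPM O U).map ((fgt (O.over U)).map f) ≫
          (shfAdj O).unit.app ((shriekPM O U).obj ((fgt (O.over U)).obj P'))) ≫
          (fgt O).map ((shfShriekFgtIso O U).hom.app P') := (Category.assoc _ _ _).symm
    _ = ((shfAdj O).unit.app ((shriekPM O U).obj ((fgt (O.over U)).obj P)) ≫
          (fgt O).map ((shf O).map ((shriekPM O U).map ((fgt (O.over U)).map f)))) ≫
          (fgt O).map ((shfShriekFgtIso O U).hom.app P') := by rw [h1']
    _ = (shfAdj O).unit.app ((shriekPM O U).obj ((fgt (O.over U)).obj P)) ≫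
          (fgt O).map ((shf O).map ((shriekPM O U).map ((fgt (O.over U)).map f)) ≫
            (shfShriekFgtIso O U).hom.app P') := by rw [Category.assoc, ← Functor.map_comp]
    _ = (shfAdj O).unit.app ((shriekPM O U).obj ((fgt (O.over U)).obj P)) ≫
          (fgt O).map ((shfShriekFgtIso O U).hom.app P ≫ (ModSite.extZero O U).map f) := by
        rw [h2']
    _ = _ := by rw [Functor.map_comp, Category.assoc]

instance isIso_shf_map_kap (P : ModSite.Mod (O.over U)) (B : PMod O) :
    IsIso ((shf O).map (kap O U P ▷ B)) := by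
  unfold kap
  rw [comp_whiskerRight, Functor.map_comp]
  haveI := isIso_shf_map_unit_whiskerRight O ((shriekPM O U).obj ((fgt (O.over U)).obj P)) B
  infer_instance

/-- The projection morphism at sheaf level. -/
def projSh (P : ModSite.Mod (O.over U)) (N : ModSite.Mod O) :
    (ModSite.extZero O U).obj
        (((ModSite.tensorBi (O.over U)).obj P).obj ((ModSite.restr O U).obj N)) ⟶
      ((ModSite.tensorBi O).obj ((ModSite.extZero O U).obj P)).obj N :=
  core O U ((fgt (O.over U)).obj P) ((fgt O).obj N) (kap O U P)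

instance isIso_projSh (P : ModSite.Mod (O.over U)) (N : ModSite.Mod O) :
    IsIso (projSh O U P N) :=
  @isIso_core _ _ _ O U _ _ _ _ (isIso_shf_map_kap O U P _)

lemma projSh_naturality_right (P : ModSite.Mod (O.over U)) {N N' : ModSite.Mod O} (g : N ⟶ N') :
    (ModSite.extZero O U).map
        (((ModSite.tensorBi (O.over U)).obj P).map ((ModSite.restr O U).map g)) ≫
      projSh O U P N' =
    projSh O U P N ≫ ((ModSite.tensorBi O).obj ((ModSite.extZero O U).obj P)).map g :=
  core_naturality_right O U ((fgt (O.over U)).obj P) ((fgt O).map g) (kap O U P)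

lemma projSh_naturality_left {P P' : ModSite.Mod (O.over U)} (f : P ⟶ P') (N : ModSite.Mod O) :
    (ModSite.extZero O U).map
        (((ModSite.tensorBi (O.over U)).map f).app ((ModSite.restr O U).obj N)) ≫
      projSh O U P' N =
    projSh O U P N ≫ ((ModSite.tensorBi O).map ((ModSite.extZero O U).map f)).app N :=
  core_naturality_left O U ((fgt (O.over U)).map f) ((fgt O).obj N) (kap O U P) (kap O U P')
    ((fgt O).map ((ModSite.extZero O U).map f)) (kap_naturality O U f)

end Groth.Agent.Lib.Helper21.ProjBinat
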