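import Mathlib

/-!
# Applying a coproduct preserving functor to a total complex

Let `F : C₁ ⥤ C₂ ⥤ D`, `G : E₁ ⥤ E₂ ⥤ D'` be bifunctors, `Ψ : D ⥤ D'` an additive functor
preserving countable coproducts, `A₁, A₂` complexes in `C₁, C₂`, `B₁, B₂` complexes in `E₁, E₂`,
and `θ p q : Ψ (F A₁^p A₂^q) ≅ G B₁^p B₂^q` isomorphisms compatible with the differentials.
Then `Tot G(B₁, B₂) ≅ Ψ (Tot F(A₁, A₂))`.
-/

set_option autoImplicit false

open CategoryTheory CategoryTheory.Limits HomologicalComplex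

namespace Groth.Agent.Lib.Helper21.TotFunctor

local notation "cc" => ComplexShape.up ℤ

/-- The index set of the summands of the total complex in degree `n`. -/
abbrev Idx (n : ℤ) : Type :=
  (ComplexShape.π cc cc cc ⁻¹' {n} : Set (ℤ × ℤ))

section Cofan

variable {A₁ A₂ B : Type*} [Category A₁] [Category A₂] [Category B]
  [HasZeroMorphisms A₁] [HasZeroMorphisms A₂] [Preadditive B]
  (H : A₁ ⥤ A₂ ⥤ B) [H.PreservesZeroMorphisms] [∀ X₁, (H.obj X₁).PreservesZeroMorphisms]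
  (L₁ : CochainComplex A₁ ℤ) (L₂ : CochainComplex A₂ ℤ)
  [HasMapBifunctor L₁ L₂ H (ComplexShape.up ℤ)]

/-- The colimit cofan exhibiting `Tot H(L₁, L₂)^n` as a coproduct. -/
noncomputable def totCofan (n : ℤ) :
    Cofan (fun i : Idx n => (H.obj (L₁.X i.1.1)).obj (L₂.X i.1.2)) :=
  GradedObject.cofanMapObj
    (((H.mapBifunctorHomologicalComplex cc cc).obj L₁).obj L₂).toGradedObject
    (ComplexShape.π cc cc cc) n

/-- `totCofan` is a colimit cofan. -/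
noncomputable def isColimitTotCofan (n : ℤ) : IsColimit (totCofan H L₁ L₂ n) :=
  GradedObject.isColimitCofanMapObj _ _ _

lemma totCofan_pt (n : ℤ) :
    (totCofan H L₁ L₂ n).pt = (mapBifunctor L₁ L₂ H (ComplexShape.up ℤ)).X n := rfl

lemma ι_d (n p q : ℤ)
    (h : ComplexShape.π cc cc cc (p, q) = n)
    (h1 : ComplexShape.π cc cc cc (p + 1, q) = n + 1)
    (h2 : ComplexShape.π cc cc cc (p, q + 1) = n + 1) :
    ιMapBifunctor L₁ L₂ H cc p q n h ≫ (mapBifunctor L₁ L₂ H cc).d n (n + 1) =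
      ComplexShape.ε₁ cc cc cc (p, q) •
        ((H.map (L₁.d p (p + 1))).app (L₂.X q) ≫ ιMapBifunctor L₁ L₂ H cc (p + 1) q (n + 1) h1) +
      ComplexShape.ε₂ cc cc cc (p, q) •
        ((H.obj (L₁.X p)).map (L₂.d q (q + 1)) ≫ ιMapBifunctor L₁ L₂ H cc p (q + 1) (n + 1) h2) := by
  have r1 : (ComplexShape.up ℤ).Rel p (p + 1) := rfl
  have r2 : (ComplexShape.up ℤ).Rel q (q + 1) := rfl
  rw [mapBifunctor.d_eq, Preadditive.comp_add, mapBifunctor.ι_D₁, mapBifunctor.ι_D₂,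
    mapBifunctor.d₁_eq L₁ L₂ H cc r1 q (n + 1) h1, mapBifunctor.d₂_eq L₁ L₂ H cc p r2 (n + 1) h2]

end Cofan

variable {C₁ C₂ E₁ E₂ D D' : Type*} [Category C₁] [Category C₂] [Category E₁] [Category E₂]
  [Category D] [Category D']
  [HasZeroMorphisms C₁] [HasZeroMorphisms C₂] [HasZeroMorphisms E₁] [HasZeroMorphisms E₂]
  [Preadditive D] [Preadditive D']
  (F : C₁ ⥤ C₂ ⥤ D) [F.PreservesZeroMorphisms] [∀ X₁, (F.obj X₁).PreservesZeroMorphisms]
  (G : E₁ ⥤ E₂ ⥤ D') [G.PreservesZeroMorphisms] [∀ X₁, (G.obj X₁).PreservesZeroMorphisms]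
  (Ψ : D ⥤ D') [Ψ.Additive]
  (A₁ : CochainComplex C₁ ℤ) (A₂ : CochainComplex C₂ ℤ)
  (B₁ : CochainComplex E₁ ℤ) (B₂ : CochainComplex E₂ ℤ)
  [HasMapBifunctor A₁ A₂ F (ComplexShape.up ℤ)] [HasMapBifunctor B₁ B₂ G (ComplexShape.up ℤ)]
  (θ : ∀ (p q : ℤ), Ψ.obj ((F.obj (A₁.X p)).obj (A₂.X q)) ≅ (G.obj (B₁.X p)).obj (B₂.X q))
  (hd₁ : ∀ (p q : ℤ), Ψ.map ((F.map (A₁.d p (p + 1))).app (A₂.X q)) ≫ (θ (p + 1) q).hom =
    (θ p q).hom ≫ (G.map (B₁.d p (p + 1))).app (B₂.X q))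
  (hd₂ : ∀ (p q : ℤ), Ψ.map ((F.obj (A₁.X p)).map (A₂.d q (q + 1))) ≫ (θ p (q + 1)).hom =
    (θ p q).hom ≫ (G.obj (B₁.X p)).map (B₂.d q (q + 1)))

include hd₁ in
lemma hd₁_inv (p q : ℤ) :
    (θ p q).inv ≫ Ψ.map ((F.map (A₁.d p (p + 1))).app (A₂.X q)) =
      (G.map (B₁.d p (p + 1))).app (B₂.X q) ≫ (θ (p + 1) q).inv := by
  rw [Iso.inv_comp_eq, ← Category.assoc, Iso.eq_comp_inv, hd₁]

include hd₂ in
lemma hd₂_inv (p q : ℤ) :
    (θ p q).inv ≫ Ψ.map ((F.obj (A₁.X p)).map (A₂.d q (q + 1))) =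
      (G.obj (B₁.X p)).map (B₂.d q (q + 1)) ≫ (θ p (q + 1)).inv := by
  rw [Iso.inv_comp_eq, ← Category.assoc, Iso.eq_comp_inv, hd₂]

/-- The comparison map in degree `n`. -/
noncomputable def compX (n : ℤ) :
    (mapBifunctor B₁ B₂ G cc).X n ⟶ Ψ.obj ((mapBifunctor A₁ A₂ F cc).X n) :=
  mapBifunctorDesc (fun p q h => (θ p q).inv ≫ Ψ.map (ιMapBifunctor A₁ A₂ F cc p q n h))

@[reassoc]
lemma ι_compX (n p q : ℤ) (h : ComplexShape.π cc cc cc (p, q) = n) :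
    ιMapBifunctor B₁ B₂ G cc p q n h ≫ compX F G Ψ A₁ A₂ B₁ B₂ θ n =
      (θ p q).inv ≫ Ψ.map (ιMapBifunctor A₁ A₂ F cc p q n h) :=
  ι_mapBifunctorDesc _ _ _ _

include hd₁ hd₂ in
lemma compX_d (n : ℤ) :
    compX F G Ψ A₁ A₂ B₁ B₂ θ n ≫ Ψ.map ((mapBifunctor A₁ A₂ F cc).d n (n + 1)) =
      (mapBifunctor B₁ B₂ G cc).d n (n + 1) ≫ compX F G Ψ A₁ A₂ B₁ B₂ θ (n + 1) := by
  apply mapBifunctor.hom_ext
  intro p q h
  have h' : p + q = n := h
  have h1 : ComplexShape.π cc cc cc (p + 1, q) = n + 1 := by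
    show p + 1 + q = n + 1
    omega
  have h2 : ComplexShape.π cc cc cc (p, q + 1) = n + 1 := by
    show p + (q + 1) = n + 1
    omega
  rw [ι_compX_assoc, ← Ψ.map_comp, ι_d F A₁ A₂ n p q h h1 h2, ← Category.assoc,
    ι_d G B₁ B₂ n p q h h1 h2, Ψ.map_add, Preadditive.comp_add, Preadditive.add_comp]
  congr 1
  · rw [Units.smul_def, Units.smul_def, Functor.map_zsmul, Preadditive.comp_zsmul,
      Preadditive.zsmul_comp, Ψ.map_comp, Category.assoc, ι_compX, ← Category.assoc,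
      ← Category.assoc, hd₁_inv F G Ψ A₁ A₂ B₁ B₂ θ hd₁]
  · rw [Units.smul_def, Units.smul_def, Functor.map_zsmul, Preadditive.comp_zsmul,
      Preadditive.zsmul_comp, Ψ.map_comp, Category.assoc, ι_compX, ← Category.assoc,
      ← Category.assoc, hd₂_inv F G Ψ A₁ A₂ B₁ B₂ θ hd₂]

/-- The comparison morphism of complexes. -/
noncomputable def comp : mapBifunctor B₁ B₂ G cc ⟶
    (Ψ.mapHomologicalComplex cc).obj (mapBifunctor A₁ A₂ F cc) where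
  f n := compX F G Ψ A₁ A₂ B₁ B₂ θ n
  comm' := by
    rintro i j (rfl : i + 1 = j)
    exact compX_d F G Ψ A₁ A₂ B₁ B₂ θ hd₁ hd₂ i

lemma isIso_compX [∀ n : ℤ, PreservesColimit (Discrete.functor
    (fun i : Idx n => (F.obj (A₁.X i.1.1)).obj (A₂.X i.1.2))) Ψ] (n : ℤ) :
    IsIso (compX F G Ψ A₁ A₂ B₁ B₂ θ n) := by
  let hcG := isColimitTotCofan G B₁ B₂ n
  let hcF := isColimitOfPreserves Ψ (isColimitTotCofan F A₁ A₂ n)
  let α : Discrete.functor (fun i : Idx n => (G.obj (B₁.X i.1.1)).obj (B₂.X i.1.2)) ≅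
      Discrete.functor (fun i : Idx n => (F.obj (A₁.X i.1.1)).obj (A₂.X i.1.2)) ⋙ Ψ :=
    Discrete.natIso (fun i => (θ i.as.1.1 i.as.1.2).symm)
  have : compX F G Ψ A₁ A₂ B₁ B₂ θ n = (IsColimit.coconePointsIsoOfNatIso hcG hcF α).hom := by
    apply mapBifunctor.hom_ext
    intro p q h
    rw [ι_compX]
    have := IsColimit.ι_map hcG (Ψ.mapCocone (totCofan F A₁ A₂ n)) α.hom ⟨⟨(p, q), h⟩⟩
    exact this.symm
  rw [this]
  infer_instance

/-- The comparison morphism is an isomorphism. -/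
theorem isIso_comp [∀ n : ℤ, PreservesColimit (Discrete.functor
    (fun i : Idx n => (F.obj (A₁.X i.1.1)).obj (A₂.X i.1.2))) Ψ] :
    IsIso (comp F G Ψ A₁ A₂ B₁ B₂ θ hd₁ hd₂) := by
  haveI : ∀ n : ℤ, IsIso ((comp F G Ψ A₁ A₂ B₁ B₂ θ hd₁ hd₂).f n) :=
    fun n => isIso_compX F G Ψ A₁ A₂ B₁ B₂ θ n
  exact HomologicalComplex.Hom.isIso_of_components _

section RS

variable {C₂' E₁' : Type*} [Category C₂'] [Category E₁'] [HasZeroMorphisms C₂']
  [HasZeroMorphisms E₁']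
  (R : C₂' ⥤ C₂) [R.PreservesZeroMorphisms] (S : E₁' ⥤ E₁) [S.PreservesZeroMorphisms]
  (A₂' : CochainComplex C₂' ℤ) (B₁' : CochainComplex E₁' ℤ)
  [HasMapBifunctor A₁ ((R.mapHomologicalComplex (ComplexShape.up ℤ)).obj A₂') F
    (ComplexShape.up ℤ)]
  [HasMapBifunctor ((S.mapHomologicalComplex (ComplexShape.up ℤ)).obj B₁') B₂ G
    (ComplexShape.up ℤ)]
  (θ' : ∀ (p q : ℤ), Ψ.obj ((F.obj (A₁.X p)).obj (R.obj (A₂'.X q))) ≅
    (G.obj (S.obj (B₁'.X p))).obj (B₂.X q))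
  (hd₁' : ∀ (p q : ℤ), Ψ.map ((F.map (A₁.d p (p + 1))).app (R.obj (A₂'.X q))) ≫
      (θ' (p + 1) q).hom =
    (θ' p q).hom ≫ (G.map (S.map (B₁'.d p (p + 1)))).app (B₂.X q))
  (hd₂' : ∀ (p q : ℤ), Ψ.map ((F.obj (A₁.X p)).map (R.map (A₂'.d q (q + 1)))) ≫
      (θ' p (q + 1)).hom =
    (θ' p q).hom ≫ (G.obj (S.obj (B₁'.X p))).map (B₂.d q (q + 1)))

include hd₁' hd₂' in
/-- Variant where the second complex for `F` is the image of a complex under a functor `R`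
and the first complex for `G` is the image of a complex under a functor `S`; all the
hypotheses are stated in normal form. -/
theorem nonempty_iso_RS
    [∀ n : ℤ, PreservesColimit (Discrete.functor
      (fun i : Idx n => (F.obj (A₁.X i.1.1)).obj (R.obj (A₂'.X i.1.2)))) Ψ] :
    Nonempty (mapBifunctor ((S.mapHomologicalComplex cc).obj B₁') B₂ G cc ≅
      (Ψ.mapHomologicalComplex cc).obj
        (mapBifunctor A₁ ((R.mapHomologicalComplex cc).obj A₂') F cc)) := by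
  haveI : ∀ n : ℤ, PreservesColimit (Discrete.functor
      (fun i : Idx n => (F.obj (A₁.X i.1.1)).obj
        (((R.mapHomologicalComplex cc).obj A₂').X i.1.2))) Ψ := fun n =>
    (inferInstance : PreservesColimit (Discrete.functor
      (fun i : Idx n => (F.obj (A₁.X i.1.1)).obj (R.obj (A₂'.X i.1.2)))) Ψ)
  haveI := isIso_comp F G Ψ A₁ ((R.mapHomologicalComplex cc).obj A₂')
    ((S.mapHomologicalComplex cc).obj B₁') B₂ θ' hd₁' hd₂'
  exact ⟨asIso (comp F G Ψ A₁ ((R.mapHomologicalComplex cc).obj A₂')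
    ((S.mapHomologicalComplex cc).obj B₁') B₂ θ' hd₁' hd₂')⟩

end RS

end Groth.Agent.Lib.Helper21.TotFunctor
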