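import Mathlib
import Groth.Prelude.Def_KFlatSite
import Groth.Agent.Lib.Helper21.ProjBinat
import Groth.Agent.Lib.Helper21.TotFunctor
import Groth.Agent.Lib.Helper2.Tot.ModSite
import Groth.Agent.Lib.Helper13.ModSiteExtZero
import Groth.Agent.Lib.Helper13.ModSiteFlatGen

/-!
# Restriction to a localised site preserves K-flat complexes
-/

set_option autoImplicit false
universe u
open CategoryTheory CategoryTheory.Limits Opposite HomologicalComplex

noncomputable section

namespace Groth.Agent.Lib.Helper21.KFlatRestr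

variable {C : Type u} [SmallCategory C] {J : GrothendieckTopology C} (O : Sheaf J CommRingCat.{u})
  (U : C)

instance extZero_preservesColimits :
    PreservesColimitsOfSize.{0, 0} (ModSite.extZero O U) :=
  (ModSite.extZeroAdj O U).leftAdjoint_preservesColimits

instance extZero_preservesFiniteColimits : PreservesFiniteColimits (ModSite.extZero O U) :=
  PreservesColimitsOfSize.preservesFiniteColimits.{0, 0} _

instance extZero_additive : (ModSite.extZero O U).Additive :=
  Groth.Agent.Lib.Helper13.ModSiteFlatGen.additive_of_preservesFiniteColimits _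

instance extZero_preservesHomology : (ModSite.extZero O U).PreservesHomology :=
  ((Functor.exact_tfae (ModSite.extZero O U)).out 3 2).1
    (And.intro (Groth.Agent.Lib.Helper13.ModSiteExtZero.extZero_preservesFiniteLimits O U)
      (extZero_preservesFiniteColimits O U))

variable (L' : CochainComplex (ModSite.Mod (O.over U)) ℤ) (K : CochainComplex (ModSite.Mod O) ℤ)

/-- The termwise projection formula. -/
def θ (p q : ℤ) :
    (ModSite.extZero O U).obj
        (((ModSite.tensorBi (O.over U)).obj (L'.X p)).obj ((ModSite.restr O U).obj (K.X q))) ≅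
      ((ModSite.tensorBi O).obj ((ModSite.extZero O U).obj (L'.X p))).obj (K.X q) :=
  asIso (Groth.Agent.Lib.Helper21.ProjBinat.projSh O U (L'.X p) (K.X q))

lemma hd₁ (p q : ℤ) :
    (ModSite.extZero O U).map
        (((ModSite.tensorBi (O.over U)).map (L'.d p (p + 1))).app
          ((ModSite.restr O U).obj (K.X q))) ≫
      (θ O U L' K (p + 1) q).hom =
    (θ O U L' K p q).hom ≫
      ((ModSite.tensorBi O).map ((ModSite.extZero O U).map (L'.d p (p + 1)))).app (K.X q) :=
  Groth.Agent.Lib.Helper21.ProjBinat.projSh_naturality_left O U (L'.d p (p + 1)) (K.X q)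

lemma hd₂ (p q : ℤ) :
    (ModSite.extZero O U).map
        (((ModSite.tensorBi (O.over U)).obj (L'.X p)).map
          ((ModSite.restr O U).map (K.d q (q + 1)))) ≫
      (θ O U L' K p (q + 1)).hom =
    (θ O U L' K p q).hom ≫
      ((ModSite.tensorBi O).obj ((ModSite.extZero O U).obj (L'.X p))).map (K.d q (q + 1)) :=
  Groth.Agent.Lib.Helper21.ProjBinat.projSh_naturality_right O U (L'.X p) (K.d q (q + 1))

/-- `Tot(j_! L' ⊗ K) ≅ j_! Tot(L' ⊗ K|_U)`. -/
theorem nonempty_iso :
    Nonempty (mapBifunctor
        (((ModSite.extZero O U).mapHomologicalComplex (ComplexShape.up ℤ)).obj L') K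
        (ModSite.tensorBi O) (ComplexShape.up ℤ) ≅
      ((ModSite.extZero O U).mapHomologicalComplex (ComplexShape.up ℤ)).obj
        (mapBifunctor L' (((ModSite.restr O U).mapHomologicalComplex (ComplexShape.up ℤ)).obj K)
          (ModSite.tensorBi (O.over U)) (ComplexShape.up ℤ))) :=
  Groth.Agent.Lib.Helper21.TotFunctor.nonempty_iso_RS (F := ModSite.tensorBi (O.over U))
    (G := ModSite.tensorBi O) (Ψ := ModSite.extZero O U) (A₁ := L') (B₂ := K)
    (R := ModSite.restr O U) (S := ModSite.extZero O U) (A₂' := K) (B₁' := L')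
    (θ' := θ O U L' K) (hd₁' := hd₁ O U L' K) (hd₂' := hd₂ O U L' K)

variable {K} in
theorem isKFlat_restr (hK : ModSite.IsKFlat K) :
    ModSite.IsKFlat (((ModSite.restr O U).mapHomologicalComplex (ComplexShape.up ℤ)).obj K) := by
  rw [Groth.Agent.Lib.Helper2.Tot.MS.isKFlat_iff] at hK ⊢
  intro L' hL'
  obtain ⟨e⟩ := nonempty_iso O U L' K
  have hac1 : (((ModSite.extZero O U).mapHomologicalComplex
      (ComplexShape.up ℤ)).obj L').Acyclic :=
    fun n => ShortComplex.Exact.map (hL' n) (ModSite.extZero O U)
  have hac2 := hK _ hac1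
  have hac3 := Groth.Agent.Lib.Helper2.Tot.acyclic_of_iso e hac2
  exact fun n => (ShortComplex.exact_map_iff_of_faithful _ (ModSite.extZero O U)).1 (hac3 n)

end Groth.Agent.Lib.Helper21.KFlatRestr
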