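import Mathlib
import Groth.Prelude.Def_KFlatSite
import Groth.Agent.Lib.Helper13.ModSiteFlat

/-!
# The associator of the tensor product of sheaves of modules, natural in all three variables
-/

set_option autoImplicit false
universe u
open CategoryTheory CategoryTheory.Limits Opposite MonoidalCategory
open Groth.Agent.Lib.Helper13 Groth.Agent.Lib.Helper13.ModSiteTensor
open Groth.Agent.Lib.Helper13.ModSiteFlat

noncomputable section

namespace Groth.Agent.Lib.Helper21.TensorAssoc

variable {C : Type u} [SmallCategory C] {J : GrothendieckTopology C} (O : Sheaf J CommRingCat.{u})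

theorem assocP_naturality_mid (P : PMod O) {Q Q' : PMod O} (g : Q ⟶ Q') (R : PMod O) :
    (shf O).map ((fgt O).map ((shf O).map (P ◁ g)) ▷ R) ≫ (assocP O P Q' R).hom =
      (assocP O P Q R).hom ≫ (shf O).map (P ◁ (fgt O).map ((shf O).map (g ▷ R))) := by
  have h1 := isIso_shf_map_unit_whiskerRight O (P ⊗ Q) R
  have h2 := isIso_shf_map_unit_whiskerRight O (P ⊗ Q') R
  simp only [assocP, Iso.trans_hom, Iso.symm_hom, asIso_inv, asIso_hom, Functor.mapIso_hom,
    Category.assoc]
  rw [IsIso.eq_inv_comp, ← Category.assoc, ← Category.assoc, ← Category.assoc]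
  rw [← Functor.map_comp, ← comp_whiskerRight]
  have hu : (shfAdj O).unit.app (P ⊗ Q) ≫ (fgt O).map ((shf O).map (P ◁ g)) =
      (P ◁ g) ≫ (shfAdj O).unit.app (P ⊗ Q') := ((shfAdj O).unit.naturality (P ◁ g)).symm
  rw [hu, comp_whiskerRight, Functor.map_comp, Category.assoc, Category.assoc, Category.assoc,
    IsIso.hom_inv_id_assoc]
  simp only [← Functor.map_comp]
  congr 1
  have hv : (g ▷ R) ≫ (shfAdj O).unit.app (Q' ⊗ R) =
      (shfAdj O).unit.app (Q ⊗ R) ≫ (fgt O).map ((shf O).map (g ▷ R)) :=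
    (shfAdj O).unit.naturality (g ▷ R)
  rw [← Category.assoc, associator_naturality_middle, Category.assoc,
    ← MonoidalCategory.whiskerLeft_comp, ← MonoidalCategory.whiskerLeft_comp, hv]

theorem assocP_naturality_right (P Q : PMod O) {R R' : PMod O} (h : R ⟶ R') :
    (shf O).map ((fgt O).obj ((shf O).obj (P ⊗ Q)) ◁ h) ≫ (assocP O P Q R').hom =
      (assocP O P Q R).hom ≫ (shf O).map (P ◁ (fgt O).map ((shf O).map (Q ◁ h))) := by
  have h1 := isIso_shf_map_unit_whiskerRight O (P ⊗ Q) R
  have h2 := isIso_shf_map_unit_whiskerRight O (P ⊗ Q) R'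
  simp only [assocP, Iso.trans_hom, Iso.symm_hom, asIso_inv, asIso_hom, Functor.mapIso_hom,
    Category.assoc]
  rw [IsIso.eq_inv_comp, ← Category.assoc, ← Category.assoc, ← Category.assoc]
  have hw : (shfAdj O).unit.app (P ⊗ Q) ▷ R ≫ (fgt O).obj ((shf O).obj (P ⊗ Q)) ◁ h =
      (P ⊗ Q) ◁ h ≫ (shfAdj O).unit.app (P ⊗ Q) ▷ R' :=
    (whisker_exchange ((shfAdj O).unit.app (P ⊗ Q)) h).symm
  rw [← Functor.map_comp, hw]
  rw [Functor.map_comp, Category.assoc, Category.assoc, Category.assoc,
    IsIso.hom_inv_id_assoc]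
  simp only [← Functor.map_comp]
  congr 1
  have hv : (Q ◁ h) ≫ (shfAdj O).unit.app (Q ⊗ R') =
      (shfAdj O).unit.app (Q ⊗ R) ≫ (fgt O).map ((shf O).map (Q ◁ h)) :=
    (shfAdj O).unit.naturality (Q ◁ h)
  rw [← Category.assoc, associator_naturality_right, Category.assoc,
    ← MonoidalCategory.whiskerLeft_comp, ← MonoidalCategory.whiskerLeft_comp, hv]

/-- The associator at sheaf level. -/
def assocSh (M N P : ModSite.Mod O) :
    ((ModSite.tensorBi O).obj (((ModSite.tensorBi O).obj M).obj N)).obj P ≅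
      ((ModSite.tensorBi O).obj M).obj (((ModSite.tensorBi O).obj N).obj P) :=
  assocP O ((fgt O).obj M) ((fgt O).obj N) ((fgt O).obj P)

lemma assocSh_naturality_left {M M' : ModSite.Mod O} (f : M ⟶ M') (N P : ModSite.Mod O) :
    ((ModSite.tensorBi O).map (((ModSite.tensorBi O).map f).app N)).app P ≫
        (assocSh O M' N P).hom =
      (assocSh O M N P).hom ≫
        ((ModSite.tensorBi O).map f).app (((ModSite.tensorBi O).obj N).obj P) :=
  assocP_naturality_left O ((fgt O).map f) ((fgt O).obj N) ((fgt O).obj P)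

lemma assocSh_naturality_mid (M : ModSite.Mod O) {N N' : ModSite.Mod O} (g : N ⟶ N')
    (P : ModSite.Mod O) :
    ((ModSite.tensorBi O).map (((ModSite.tensorBi O).obj M).map g)).app P ≫
        (assocSh O M N' P).hom =
      (assocSh O M N P).hom ≫
        ((ModSite.tensorBi O).obj M).map (((ModSite.tensorBi O).map g).app P) :=
  assocP_naturality_mid O ((fgt O).obj M) ((fgt O).map g) ((fgt O).obj P)

lemma assocSh_naturality_right (M N : ModSite.Mod O) {P P' : ModSite.Mod O} (h : P ⟶ P') :
    ((ModSite.tensorBi O).obj (((ModSite.tensorBi O).obj M).obj N)).map h ≫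
        (assocSh O M N P').hom =
      (assocSh O M N P).hom ≫
        ((ModSite.tensorBi O).obj M).map (((ModSite.tensorBi O).obj N).map h) :=
  assocP_naturality_right O ((fgt O).obj M) ((fgt O).obj N) ((fgt O).map h)

end Groth.Agent.Lib.Helper21.TensorAssoc
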