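import Mathlib
import Groth.Prelude.Def_KFlatSite
import Groth.Agent.Lib.Helper21.TensorAssoc

/-!
# The associator of the tensor product of sheaves of modules as an isomorphism of trifunctors
-/

set_option autoImplicit false
universe u
open CategoryTheory CategoryTheory.Limits Opposite

noncomputable section

namespace Groth.Agent.Lib.Helper21.TensorAssoc

variable {C : Type u} [SmallCategory C] {J : GrothendieckTopology C} (O : Sheaf J CommRingCat.{u})

/-- The associator, natural in the third variable. -/
def assoc₃ (M N : ModSite.Mod O) :
    ((bifunctorComp₁₂ (ModSite.tensorBi O) (ModSite.tensorBi O)).obj M).obj N ≅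
      ((bifunctorComp₂₃ (ModSite.tensorBi O) (ModSite.tensorBi O)).obj M).obj N :=
  NatIso.ofComponents (fun P => assocSh O M N P)
    (fun h => assocSh_naturality_right O M N h)

/-- The associator, natural in the second and third variables. -/
def assoc₂ (M : ModSite.Mod O) :
    (bifunctorComp₁₂ (ModSite.tensorBi O) (ModSite.tensorBi O)).obj M ≅
      (bifunctorComp₂₃ (ModSite.tensorBi O) (ModSite.tensorBi O)).obj M :=
  NatIso.ofComponents (fun N => assoc₃ O M N)
    (fun {N N'} g => NatTrans.ext (funext fun P => assocSh_naturality_mid O M g P))

/-- The associator as an isomorphism of trifunctors. -/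
def associator : bifunctorComp₁₂ (ModSite.tensorBi O) (ModSite.tensorBi O) ≅
    bifunctorComp₂₃ (ModSite.tensorBi O) (ModSite.tensorBi O) :=
  NatIso.ofComponents (fun M => assoc₂ O M)
    (fun {M M'} f => NatTrans.ext (funext fun N => NatTrans.ext (funext fun P =>
      assocSh_naturality_left O f N P)))

end Groth.Agent.Lib.Helper21.TensorAssoc
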