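import Mathlib
import Groth.Prelude.Def_KFlatSite
import Groth.Agent.Lib.Helper21.TensorAssocB
import Groth.Agent.Lib.Helper2.Tot.ModSite
import Groth.Agent.Lib.Helper13.ModSiteFlat

/-!
# The tensor product of two K-flat complexes is K-flat
-/

set_option autoImplicit false
universe u
open CategoryTheory CategoryTheory.Limits Opposite HomologicalComplex

noncomputable section

namespace Groth.Agent.Lib.Helper21.KFlatTensor

variable {C : Type u} [SmallCategory C] {J : GrothendieckTopology C} (O : Sheaf J CommRingCat.{u})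

instance preservesSmallest_obj (X : ModSite.Mod O) :
    PreservesColimitsOfSize.{0, 0} ((ModSite.tensorBi O).obj X) :=
  preservesSmallestColimits_of_preservesColimits.{u, u} _

instance preservesSmallest_flip_obj (X : ModSite.Mod O) :
    PreservesColimitsOfSize.{0, 0} ((ModSite.tensorBi O).flip.obj X) :=
  preservesSmallestColimits_of_preservesColimits.{u, u} _

variable (M K L : CochainComplex (ModSite.Mod O) ℤ)

instance good₁₂ : HasGoodTrifunctor₁₂Obj (ModSite.tensorBi O) (ModSite.tensorBi O) M K L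
    (ComplexShape.up ℤ) (ComplexShape.up ℤ) :=
  fun _ _ => inferInstance

instance good₂₃ : HasGoodTrifunctor₂₃Obj (ModSite.tensorBi O) (ModSite.tensorBi O) M K L
    (ComplexShape.up ℤ) (ComplexShape.up ℤ) (ComplexShape.up ℤ) :=
  fun _ _ => inferInstance

/-- `Tot(Tot(M ⊗ K) ⊗ L) ≅ Tot(M ⊗ Tot(K ⊗ L))`. -/
def totAssoc :
    mapBifunctor (mapBifunctor M K (ModSite.tensorBi O) (ComplexShape.up ℤ)) L
        (ModSite.tensorBi O) (ComplexShape.up ℤ) ≅
      mapBifunctor M (mapBifunctor K L (ModSite.tensorBi O) (ComplexShape.up ℤ))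
        (ModSite.tensorBi O) (ComplexShape.up ℤ) :=
  HomologicalComplex.mapBifunctorAssociator
    (Groth.Agent.Lib.Helper21.TensorAssoc.associator O) M K L
    (ComplexShape.up ℤ) (ComplexShape.up ℤ) (ComplexShape.up ℤ)

variable {K L} in
theorem isKFlat_tensorCx (hK : ModSite.IsKFlat K) (hL : ModSite.IsKFlat L) :
    ModSite.IsKFlat (((ModSite.tensorCx O).obj K).obj L) := by
  rw [Groth.Agent.Lib.Helper2.Tot.MS.isKFlat_iff] at hK hL ⊢
  intro M hM
  exact Groth.Agent.Lib.Helper2.Tot.acyclic_of_iso (totAssoc O M K L) (hL _ (hK M hM))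

end Groth.Agent.Lib.Helper21.KFlatTensor
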