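import Mathlib
import Groth.Agent.Lib.Helper21.DerivDim
import Groth.Agent.Lib.Helper21.CotangentKaehler

/-!
# Free differentials in characteristic zero imply regularity
-/

namespace Groth.Agent.Lib.Helper21.KaehlerFreeReg

open IsLocalRing TensorProduct Module

universe u

theorem main (k R : Type u) [Field k] [CharZero k]
    [CommRing R] [Algebra k R] [IsLocalRing R] [IsNoetherianRing R]
    (hres : Function.Surjective (algebraMap k (IsLocalRing.ResidueField R)))
    (n : ℕ) (e : KaehlerDifferential k R ≃ₗ[R] (Fin n → R)) :
    IsRegularLocalRing R ∧ ringKrullDim R = n := by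
  have hres' : Function.Bijective (algebraMap k (ResidueField R)) :=
    ⟨(algebraMap k (ResidueField R)).injective, hres⟩
  haveI : Module.Free R (KaehlerDifferential k R) := Module.Free.of_equiv e.symm
  haveI : Module.Finite R (KaehlerDifferential k R) := Module.Finite.equiv e.symm
  haveI : Module.FinitePresentation R (KaehlerDifferential k R) :=
    Module.finitePresentation_of_finite R _
  have hrank : Module.finrank R (KaehlerDifferential k R) = n := by
    rw [LinearEquiv.finrank_eq e, Module.finrank_fin_fun]
  have hcot : Module.finrank (ResidueField R) (CotangentSpace R) = n := by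
    rw [← CotangentKaehler.finrank_tensor_eq k R hres', Module.finrank_baseChange, hrank]
  -- generators of the maximal ideal
  let b₀ : Basis (Fin n) (ResidueField R) (CotangentSpace R) :=
    Module.finBasisOfFinrankEq _ _ hcot
  choose x' hx' using fun i => (maximalIdeal R).toCotangent_surjective (b₀ i)
  let x : Fin n → R := fun i => (x' i : R)
  have hxm : ∀ i, x i ∈ maximalIdeal R := fun i => (x' i).2
  have hLI : LinearIndependent (ResidueField R)
      (fun i => ((maximalIdeal R).toCotangent ⟨x i, hxm i⟩ : CotangentSpace R)) := by
    have : (fun i => ((maximalIdeal R).toCotangent ⟨x i, hxm i⟩ : CotangentSpace R)) = b₀ :=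
      funext hx'
    rw [this]
    exact b₀.linearIndependent
  have hspan : Ideal.span (Set.range x) = maximalIdeal R := by
    have h1 : Submodule.span (ResidueField R)
        ((maximalIdeal R).toCotangent '' (Set.range x')) = ⊤ := by
      rw [← Set.range_comp]
      have : ((maximalIdeal R).toCotangent ∘ x') = b₀ := funext hx'
      rw [this]
      exact b₀.span_eq
    rw [IsLocalRing.CotangentSpace.span_image_eq_top_iff] at h1
    have h2 := congrArg (Submodule.map (maximalIdeal R).subtype) h1
    rw [Submodule.map_span, ← Set.range_comp, Submodule.map_top, Submodule.range_subtype] at h2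
    exact h2
  obtain ⟨D, hD⟩ := CotangentKaehler.exists_derivation k R hres'
  have hLI' := CotangentKaehler.linearIndependent_tmul_D D hD x hxm hLI
  have hsp := CotangentKaehler.span_tmul_D_eq_top hres' x hspan
  obtain ⟨b, hb⟩ := Module.exists_basis_of_basis_baseChange
    (fun i => KaehlerDifferential.D k R (x i)) hLI' hsp
    (Module.Flat.rTensor_preserves_injective_linearMap _ Subtype.val_injective)
  -- the dual derivations
  have hQ : ∀ m : ℕ, 0 < m → IsUnit ((m : ℕ) : R) := by
    intro m hm
    have h1 : IsUnit ((m : ℕ) : k) := isUnit_iff_ne_zero.mpr (Nat.cast_ne_zero.mpr hm.ne')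
    have h2 := h1.map (algebraMap k R)
    rwa [map_natCast] at h2
  have hge := DerivDim.dim_ge n R hQ x hxm
    (fun i => ((b.coord i).compDer (KaehlerDifferential.D k R)).restrictScalars ℤ)
    (fun i j => by
      show b.coord i (KaehlerDifferential.D k R (x j)) = _
      rw [← hb j, Basis.coord_apply, Basis.repr_self, Finsupp.single_apply]
      by_cases h : i = j
      · rw [if_pos h.symm, if_pos h]
      · rw [if_neg (fun h' => h h'.symm), if_neg h])
  have hle : ringKrullDim R ≤ ((n : ℕ∞) : WithBot ℕ∞) := by
    have h1 := ringKrullDim_le_spanFinrank_maximalIdeal R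
    rw [IsLocalRing.spanFinrank_maximalIdeal_eq_finrank_cotangentSpace, hcot] at h1
    exact h1
  have heq : ringKrullDim R = ((n : ℕ∞) : WithBot ℕ∞) := le_antisymm hle hge
  refine ⟨?_, heq⟩
  rw [IsRegularLocalRing.iff_finrank_cotangentSpace, hcot, heq]
  rfl

end Groth.Agent.Lib.Helper21.KaehlerFreeReg
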