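import Mathlib

/-!
# Characteristic-two toolbox for `R[u,v]` over `R[u²,v²]` (helper21)

`expand 2` plays the role of `R[a,b] → R[u,v]`, `a ↦ u²`, `b ↦ v²`; in characteristic two all partial
derivatives vanish on its image, which lets one extract the components of
`p = p₀₀ + u p₁₀ + v p₀₁ + uv p₁₁` by differentiating.
-/

namespace Groth.Agent.Lib.Helper21.KumFam

open MvPolynomial

variable {R : Type*} [CommRing R]

section general

variable {σ : Type*}

theorem two_eq_zero [CharP R 2] : (2 : MvPolynomial σ R) = 0 := by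
  have h : (2 : R) = 0 := by exact_mod_cast CharP.cast_eq_zero R 2
  have h2 : (2 : MvPolynomial σ R) = C (2 : R) := (map_ofNat C 2).symm
  rw [h2, h, map_zero]

theorem neg_eq_self [CharP R 2] (x : MvPolynomial σ R) : -x = x := by
  linear_combination (-x) * (two_eq_zero (R := R) (σ := σ))

theorem pderiv_expand_two [CharP R 2] (i : σ) (q : MvPolynomial σ R) :
    pderiv i (expand 2 q) = 0 := by
  induction q using MvPolynomial.induction_on with
  | C r => simp
  | add p q hp hq => rw [map_add, map_add, hp, hq, add_zero]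
  | mul_X p j hp =>
    rw [map_mul, expand_X, Derivation.leibniz, hp, smul_zero, add_zero, Derivation.leibniz_pow]
    rw [nsmul_eq_mul, Nat.cast_ofNat, two_eq_zero, zero_mul, smul_zero]

theorem mkDerivation_fin_two (d : Fin 2 → MvPolynomial (Fin 2) R) (p : MvPolynomial (Fin 2) R) :
    mkDerivation R d p = pderiv 0 p * d 0 + pderiv 1 p * d 1 := by
  have h : mkDerivation R d = d 0 • pderiv 0 + d 1 • pderiv 1 := by
    apply MvPolynomial.derivation_ext
    intro i
    fin_cases i <;> simp [pderiv_X]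
  rw [h]
  simp [mul_comm]

end general

section two

/-- `R[a,b] → R[a,b,c]`. -/
noncomputable def iota : MvPolynomial (Fin 2) R →ₐ[R] MvPolynomial (Fin 3) R := aeval ![X 0, X 1]

@[simp] theorem iota_X0 : iota (R := R) (X 0) = X 0 := by simp [iota]
@[simp] theorem iota_X1 : iota (R := R) (X 1) = X 1 := by simp [iota]
@[simp] theorem iota_C (r : R) : iota (C r) = C r := by simp [iota]

/-- `R[a,b,c] → R[u,v]`, `a ↦ u²`, `b ↦ v²`, `c ↦ h`. -/
noncomputable def phi (h : MvPolynomial (Fin 2) R) :
    MvPolynomial (Fin 3) R →ₐ[R] MvPolynomial (Fin 2) R :=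
  aeval ![X 0 ^ 2, X 1 ^ 2, h]

@[simp] theorem phi_X2 (h : MvPolynomial (Fin 2) R) : phi h (X 2) = h := by simp [phi]
@[simp] theorem phi_X0 (h : MvPolynomial (Fin 2) R) : phi h (X 0) = X 0 ^ 2 := by simp [phi]
@[simp] theorem phi_X1 (h : MvPolynomial (Fin 2) R) : phi h (X 1) = X 1 ^ 2 := by simp [phi]

theorem phi_iota (h q : MvPolynomial (Fin 2) R) : phi h (iota q) = expand 2 q := by
  have hc : (phi h).comp iota = expand 2 := by
    apply MvPolynomial.algHom_ext
    intro i
    fin_cases i <;> simp [phi, iota]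
  exact DFunLike.congr_fun hc q

theorem exists_decomp (p : MvPolynomial (Fin 2) R) :
    ∃ q00 q10 q01 q11 : MvPolynomial (Fin 2) R,
      p = expand 2 q00 + X 0 * expand 2 q10 + X 1 * expand 2 q01 + X 0 * X 1 * expand 2 q11 := by
  induction p using MvPolynomial.induction_on with
  | C r => exact ⟨C r, 0, 0, 0, by simp⟩
  | add p q hp hq =>
    obtain ⟨a, b, c, d, rfl⟩ := hp
    obtain ⟨a', b', c', d', rfl⟩ := hq
    exact ⟨a + a', b + b', c + c', d + d', by simp only [map_add]; ring⟩
  | mul_X p i hp =>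
    obtain ⟨a, b, c, d, rfl⟩ := hp
    revert i
    rw [Fin.forall_fin_two]
    constructor
    · exact ⟨X 0 * b, a, X 0 * d, c, by simp only [map_mul, expand_X]; ring⟩
    · exact ⟨X 1 * c, X 1 * d, a, b, by simp only [map_mul, expand_X]; ring⟩

theorem exists_div (G0 : MvPolynomial (Fin 2) R) (f : MvPolynomial (Fin 3) R) :
    ∃ (q : MvPolynomial (Fin 3) R) (f0 f1 : MvPolynomial (Fin 2) R),
      f = q * (X 2 ^ 2 + iota G0) + iota f0 + iota f1 * X 2 := by
  induction f using MvPolynomial.induction_on with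
  | C r => exact ⟨0, C r, 0, by simp⟩
  | add p q hp hq =>
    obtain ⟨q1, a1, b1, rfl⟩ := hp
    obtain ⟨q2, a2, b2, rfl⟩ := hq
    exact ⟨q1 + q2, a1 + a2, b1 + b2, by simp only [map_add]; ring⟩
  | mul_X p i hp =>
    obtain ⟨q, a, b, rfl⟩ := hp
    have h3 : i = 0 ∨ i = 1 ∨ i = 2 := by omega
    rcases h3 with rfl | rfl | rfl
    · exact ⟨q * X 0, a * X 0, b * X 0, by simp only [map_mul, iota_X0]; ring⟩
    · exact ⟨q * X 1, a * X 1, b * X 1, by simp only [map_mul, iota_X1]; ring⟩
    · exact ⟨q * X 2 + iota b, -(b * G0), a, by simp only [map_mul, map_neg]; ring⟩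

theorem ker_phi_eq_span [CharP R 2] (h G0 t : MvPolynomial (Fin 2) R)
    (hsq : h ^ 2 = expand 2 G0) (ht : pderiv 1 (pderiv 0 h) = t)
    (hreg : ∀ x : MvPolynomial (Fin 2) R, x * t = 0 → x = 0) :
    RingHom.ker (phi h) = Ideal.span {X 2 ^ 2 + iota G0} := by
  have hW : phi h (X 2 ^ 2 + iota G0) = 0 := by
    rw [map_add, map_pow, phi_iota, ← hsq, phi_X2, ← two_mul, two_eq_zero, zero_mul]
  apply le_antisymm
  · intro f hf
    rw [RingHom.mem_ker] at hf
    obtain ⟨q, f0, f1, rfl⟩ := exists_div G0 f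
    rw [map_add, map_add, map_mul, hW, mul_zero, zero_add, map_mul, phi_iota, phi_iota,
      phi_X2] at hf
    have h1 : pderiv 1 (pderiv 0 (expand 2 f0 + expand 2 f1 * h)) = expand 2 f1 * t := by
      rw [map_add, pderiv_expand_two, zero_add, Derivation.leibniz, pderiv_expand_two, smul_zero,
        add_zero, smul_eq_mul, Derivation.leibniz, pderiv_expand_two, smul_zero, add_zero,
        smul_eq_mul, ht]
    rw [hf, map_zero, map_zero] at h1
    have hf1 : f1 = 0 := (expand_eq_zero (by norm_num)).mp (hreg _ h1.symm)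
    subst hf1
    rw [map_zero, zero_mul, add_zero] at hf
    have hf0 : f0 = 0 := (expand_eq_zero (by norm_num)).mp hf
    subst hf0
    simp only [map_zero, zero_mul, add_zero]
    exact Ideal.mul_mem_left _ _ (Ideal.subset_span rfl)
  · rw [Ideal.span_le, Set.singleton_subset_iff]
    exact hW

end two

end Groth.Agent.Lib.Helper21.KumFam
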