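import Mathlib

open scoped nonZeroDivisors
open Polynomial IntermediateField IsDedekindDomain

universe u v w

namespace Groth.Agent.Lib.Helper21

theorem neg_one_of_primitiveRoot_even {K : Type*} [Field K] {ζ : K} {m : ℕ}
    (hζ : IsPrimitiveRoot ζ (2 * m)) (hm : m ≠ 0) : ζ ^ m = -1 := by
  have h1 : (ζ ^ m) ^ 2 = 1 := by rw [← pow_mul, mul_comm]; exact hζ.pow_eq_one
  have h2 : ζ ^ m ≠ 1 := by
    intro h
    have := hζ.dvd_of_pow_eq_one m h
    have : 2 * m ≤ m := Nat.le_of_dvd (Nat.pos_of_ne_zero hm) this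
    omega
  have h3 : (ζ ^ m - 1) * (ζ ^ m + 1) = 0 := by linear_combination h1
  rcases mul_eq_zero.1 h3 with h | h
  · exact absurd (sub_eq_zero.1 h) h2
  · exact eq_neg_of_add_eq_zero_left h

theorem X_pow_sub_C_irreducible_of_primitiveRoot
    {n : ℕ} {K : Type u} [Field K] {ζ : K} (hζ : IsPrimitiveRoot ζ n) (hn : n ≠ 0) {a : K}
    (ha : ∀ p : ℕ, p.Prime → p ∣ n → ∀ b : K, b ^ p ≠ a) :
    Irreducible (X ^ n - C a) := by
  induction n using induction_on_primes generalizing K a ζ with
  | zero => exact absurd rfl hn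
  | one => simpa using irreducible_X_sub_C a
  | prime_mul p n hp IH =>
    have hn' : n ≠ 0 := right_ne_zero_of_mul hn
    rw [mul_comm]
    apply X_pow_mul_sub_C_irreducible
      (X_pow_sub_C_irreducible_of_prime hp (ha p hp (dvd_mul_right _ _)))
    intro E _ _ x hx
    have hint : IsIntegral K x := not_not.mp fun h ↦ by
      simpa only [degree_zero, degree_X_pow_sub_C hp.pos,
        WithBot.natCast_ne_bot] using congr_arg degree (hx.symm.trans (dif_neg h))
    have hζ' : IsPrimitiveRoot (algebraMap K K⟮x⟯ (ζ ^ p)) n :=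
      (hζ.pow (Nat.pos_of_ne_zero hn) rfl).map_of_injective (algebraMap K K⟮x⟯).injective
    apply IH hζ' hn'
    intro q hq hqn b hb
    have hnorm : Algebra.norm K b ^ q = (-1) ^ p * (-a) := by
      rw [← map_pow, hb, ← adjoin.powerBasis_gen hint,
        Algebra.PowerBasis.norm_gen_eq_coeff_zero_minpoly]
      simp [minpoly_gen, hx, hp.ne_zero.symm]
    rcases hp.eq_two_or_odd' with rfl | hpodd
    · -- p = 2
      have hnorm2 : Algebra.norm K b ^ q = -a := by rw [hnorm]; ring
      rcases hq.eq_two_or_odd' with rfl | hqodd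
      · -- q = 2 : 4 divides the order, so -1 is a square
        obtain ⟨m, rfl⟩ := hqn
        have hi : (ζ ^ m) ^ 2 = -1 := by
          rw [← pow_mul]
          have : IsPrimitiveRoot ζ (2 * (m * 2)) := by
            have : 2 * (2 * m) = 2 * (m * 2) := by ring
            rwa [this] at hζ
          exact neg_one_of_primitiveRoot_even this (by omega)
        apply ha 2 Nat.prime_two (dvd_mul_right _ _) (ζ ^ m * Algebra.norm K b)
        rw [mul_pow, hi, hnorm2]; ring
      · apply ha q hq (dvd_mul_of_dvd_right hqn 2) (-Algebra.norm K b)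
        rw [hqodd.neg_pow, hnorm2, neg_neg]
    · apply ha q hq (dvd_mul_of_dvd_right hqn p) (Algebra.norm K b)
      rw [hnorm, hpodd.neg_one_pow]; ring

theorem fractionalIdeal_pow_injective {A : Type*} {K : Type*} [CommRing A] [IsDedekindDomain A]
    [Field K] [Algebra A K] [IsFractionRing A K] {J J' : FractionalIdeal A⁰ K}
    (hJ : J ≠ 0) (hJ' : J' ≠ 0) {p : ℕ} (hp : p ≠ 0) (h : J ^ p = J' ^ p) : J = J' := by
  rw [← FractionalIdeal.finprod_heightOneSpectrum_factorization' K hJ,
    ← FractionalIdeal.finprod_heightOneSpectrum_factorization' K hJ']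
  apply finprod_congr
  intro v
  congr 1
  have := congrArg (FractionalIdeal.count K v) h
  rw [FractionalIdeal.count_pow, FractionalIdeal.count_pow] at this
  exact mul_left_cancel₀ (by exact_mod_cast hp) this

theorem kummer_result
    {A : Type u} {K : Type v} {L : Type w} [CommRing A] [IsDedekindDomain A]
    [Field K] [Algebra A K] [IsFractionRing A K]
    [Field L] [Algebra K L]
    (n : ℕ) (hn : IsUnit (n : A)) (ζ : K) (hζ : IsPrimitiveRoot ζ n) (f : K) (hf : f ≠ 0)
    (I : (FractionalIdeal A⁰ K)ˣ) (hI : FractionalIdeal.spanSingleton A⁰ f = (I : FractionalIdeal A⁰ K) ^ n)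
    (hord : orderOf (ClassGroup.mk K I) = n)
    (α : L) (hα : α ^ n = algebraMap K L f) (hgen : IntermediateField.adjoin K {α} = ⊤) :
    IsGalois K L ∧ IsCyclic (L ≃ₐ[K] L) ∧ Module.finrank K L = n := by
  have hn0 : n ≠ 0 := by
    rintro rfl
    simp at hn
  have hnpos : 0 < n := Nat.pos_of_ne_zero hn0
  have : NeZero n := ⟨hn0⟩
  -- f is not a p-th power
  have hpow : ∀ p : ℕ, p.Prime → p ∣ n → ∀ b : K, b ^ p ≠ f := by
    rintro p hp ⟨m, rfl⟩ b hb
    have hm0 : m ≠ 0 := right_ne_zero_of_mul hn0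
    have hb0 : b ≠ 0 := by rintro rfl; rw [zero_pow hp.ne_zero] at hb; exact hf hb.symm
    have h1 : (FractionalIdeal.spanSingleton A⁰ b) ^ p = ((I : FractionalIdeal A⁰ K) ^ m) ^ p := by
      rw [FractionalIdeal.spanSingleton_pow, hb, hI, ← pow_mul, mul_comm]
    have h2 : FractionalIdeal.spanSingleton A⁰ b = (I : FractionalIdeal A⁰ K) ^ m :=
      fractionalIdeal_pow_injective (FractionalIdeal.spanSingleton_ne_zero_iff.2 hb0)
        (pow_ne_zero _ I.ne_zero) hp.ne_zero h1
    have h3 : (ClassGroup.mk K I) ^ m = 1 := by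
      rw [← map_pow, ClassGroup.mk_eq_one_iff]
      refine ⟨⟨b, ?_⟩⟩
      rw [Units.val_pow_eq_pow_val, ← h2]
      exact FractionalIdeal.coe_spanSingleton _ _
    have h4 : p * m ∣ m := hord ▸ orderOf_dvd_of_pow_eq_one h3
    have : p * m ≤ m := Nat.le_of_dvd (Nat.pos_of_ne_zero hm0) h4
    have := hp.two_le
    nlinarith [Nat.pos_of_ne_zero hm0]
  have H : Irreducible (X ^ n - C f) := X_pow_sub_C_irreducible_of_primitiveRoot hζ hn0 hpow
  have hζ' : (primitiveRoots n K).Nonempty := ⟨ζ, (mem_primitiveRoots hnpos).2 hζ⟩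
  have hsplit : IsSplittingField K L (X ^ n - C f) := by
    constructor
    · rw [Polynomial.map_sub, Polynomial.map_pow, Polynomial.map_C, Polynomial.map_X]
      exact X_pow_sub_C_splits_of_isPrimitiveRoot
        (hζ.map_of_injective (algebraMap K L).injective) hα
    · have halg : IsAlgebraic K α := by
        refine ⟨X ^ n - C f, X_pow_sub_C_ne_zero hnpos f, ?_⟩
        simp [hα]
      rw [eq_top_iff, ← IntermediateField.top_toSubalgebra, ← hgen,
        IntermediateField.adjoin_simple_toSubalgebra_of_isAlgebraic halg]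
      apply Algebra.adjoin_mono
      rw [Set.singleton_subset_iff, mem_rootSet_of_ne (X_pow_sub_C_ne_zero hnpos f),
        aeval_def, eval₂_sub, eval₂_X_pow, eval₂_C, hα, sub_self]
  exact ⟨isGalois_of_isSplittingField_X_pow_sub_C hζ' H L,
    isCyclic_of_isSplittingField_X_pow_sub_C hζ' H L,
    finrank_of_isSplittingField_X_pow_sub_C hζ' H L⟩

end Groth.Agent.Lib.Helper21
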