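import Mathlib
import Groth.Prelude.Def_KFlatSite
import Groth.Agent.Lib.Helper2.LDer.Constructors
import Groth.Agent.Lib.Helper2.Tot.ModSiteSymm
import Groth.Agent.Lib.Helper13.ModSiteFlat
import Groth.Agent.Lib.Helper21.TotFunctor

/-!
# The derived tensor product on a ringed site, computed on complexes K-flat in the first variable
-/

set_option autoImplicit false
universe u
open CategoryTheory Limits HomologicalComplex

attribute [local instance] HasDerivedCategory.standard

namespace Groth.Agent.Lib.Helper21.LTensorSite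

open Groth.Agent.Lib.Helper2 Groth.Agent.Lib.Helper2.LDer

variable {C : Type u} [SmallCategory C] {J : GrothendieckTopology C} {O : Sheaf J CommRingCat.{u}}

/-- K-flat in the first variable. -/
def Good (P : CochainComplex (ModSite.Mod O) ℤ) : Prop :=
  Tot.KFlat (ModSite.tensorBi O).flip P

theorem exists_good_resolution (K : CochainComplex (ModSite.Mod O) ℤ) :
    ∃ (P : CochainComplex (ModSite.Mod O) ℤ) (s : P ⟶ K), Good P ∧ QuasiIso s := by
  obtain ⟨P, s, _, h2, _, h4, _⟩ := Tot.MS.exists_resolution (O := O) K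
  exact ⟨P, s, h2, h4⟩

theorem good_of_isStrictlyLE (K : CochainComplex (ModSite.Mod O) ℤ) (b : ℤ) [K.IsStrictlyLE b]
    (hflat : ∀ n, ModSite.IsFlat (K.X n)) : Good K :=
  Tot.MS.kflat_flip_of_isStrictlyLE K b hflat

theorem quasiIso_map₁_of_good {P P' : CochainComplex (ModSite.Mod O) ℤ} (s : P ⟶ P')
    [QuasiIso s] (hP : Good P) (hP' : Good P') (L : CochainComplex (ModSite.Mod O) ℤ) :
    QuasiIso (mapBifunctorMap s (𝟙 L) (ModSite.tensorBi O) (ComplexShape.up ℤ)) := by
  haveI h1 : QuasiIso (mapBifunctorMap (𝟙 L) s (ModSite.tensorBi O).flip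
      (ComplexShape.up ℤ)) :=
    Tot.quasiIso_map₂_of_kflat (F := (ModSite.tensorBi O).flip) (fun L' => by
      obtain ⟨K, q, h1, _, _, h4, _⟩ := Tot.MS.exists_resolution (O := O) L'
      exact ⟨K, q, h1, h4⟩) hP hP' s L
  have hnat := mapBifunctorFlipIso_hom_naturality s (𝟙 L) (ModSite.tensorBi O)
    (ComplexShape.up ℤ)
  have h2 : mapBifunctorMap s (𝟙 L) (ModSite.tensorBi O) (ComplexShape.up ℤ) =
      (mapBifunctorFlipIso P L (ModSite.tensorBi O) (ComplexShape.up ℤ)).inv ≫
        mapBifunctorMap (𝟙 L) s (ModSite.tensorBi O).flip (ComplexShape.up ℤ) ≫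
          (mapBifunctorFlipIso P' L (ModSite.tensorBi O) (ComplexShape.up ℤ)).hom := by
    rw [hnat, Iso.inv_hom_id_assoc]
  rw [h2]
  infer_instance

theorem adapted_tensorCxQ (F : CochainComplex (ModSite.Mod O) ℤ) :
    Adapted (HomologicalComplex.quasiIso (ModSite.Mod O) (ComplexShape.up ℤ)) DerivedCategory.Q
      (ModSite.tensorCxQ F) Good := by
  refine Adapted.of_cochainComplex _ _ ?_ ?_ ?_
  · intro K L f g h
    exact DerivedCategory.Q_map_eq_of_homotopy _
      (mapBifunctorMapHomotopy₁ h (𝟙 F) (ModSite.tensorBi O) (ComplexShape.up ℤ))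
  · intro X
    exact exists_good_resolution X
  · intro Y Y' s hY hY' hs
    haveI := hs
    haveI := quasiIso_map₁_of_good s hY hY' F
    exact (DerivedCategory.isIso_Q_map_iff_quasiIso _
      (mapBifunctorMap s (𝟙 F) (ModSite.tensorBi O) (ComplexShape.up ℤ))).2 inferInstance

theorem isIso_counit_app (F : CochainComplex (ModSite.Mod O) ℤ) [ModSite.HasLTensorCx F]
    (P : CochainComplex (ModSite.Mod O) ℤ) (hP : Good P) :
    IsIso (((ModSite.tensorCxQ F).totalLeftDerivedCounit DerivedCategory.Q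
      (HomologicalComplex.quasiIso (ModSite.Mod O) (ComplexShape.up ℤ))).app P) :=
  (adapted_tensorCxQ F).isIso_app (ModSite.LTensorCx F) _ hP

/-- `P ⊗^L F` is computed by the total complex on complexes `P` K-flat in the first variable. -/
noncomputable def LTensorCxIso (F : CochainComplex (ModSite.Mod O) ℤ) [ModSite.HasLTensorCx F]
    (P : CochainComplex (ModSite.Mod O) ℤ) (hP : Good P) :
    (ModSite.LTensorCx F).obj (DerivedCategory.Q.obj P) ≅
      DerivedCategory.Q.obj (mapBifunctor P F (ModSite.tensorBi O) (ComplexShape.up ℤ)) :=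
  @asIso _ _ _ _ (((ModSite.tensorCxQ F).totalLeftDerivedCounit DerivedCategory.Q
    (HomologicalComplex.quasiIso (ModSite.Mod O) (ComplexShape.up ℤ))).app P)
    (isIso_counit_app F P hP)

section Terms

open Groth.Agent.Lib.Helper13

lemma isZero_tensor_right {X Y : ModSite.Mod O} (hY : IsZero Y) :
    IsZero (((ModSite.tensorBi O).obj X).obj Y) :=
  Functor.map_isZero _ hY

lemma isZero_tensor_left {X Y : ModSite.Mod O} (hX : IsZero X) :
    IsZero (((ModSite.tensorBi O).obj X).obj Y) :=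
  Functor.map_isZero ((ModSite.tensorBi O).flip.obj Y) hX

theorem isZero_tot_X (P F : CochainComplex (ModSite.Mod O) ℤ) (k : ℤ)
    (h : ∀ i j : ℤ, i + j = k → IsZero (P.X i) ∨ IsZero (F.X j)) :
    IsZero ((mapBifunctor P F (ModSite.tensorBi O) (ComplexShape.up ℤ)).X k) := by
  rw [IsZero.iff_id_eq_zero]
  apply mapBifunctor.hom_ext
  intro i j hij
  apply IsZero.eq_of_src
  rcases h i j hij with h1 | h1
  · exact isZero_tensor_left h1
  · exact isZero_tensor_right h1

/-- Coproducts (indexed by a type in universe zero) of flat modules are flat. -/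
theorem isFlat_of_isColimit_cofan {ι : Type} (D : ι → ModSite.Mod O)
    (hD : ∀ i, ModSite.IsFlat (D i)) (c : Cofan D) (hc : IsColimit c) :
    ModSite.IsFlat c.pt := by
  let D' : ULift.{u} ι → ModSite.Mod O := fun i => D i.down
  let c' : Cofan D' := Cofan.mk c.pt (fun i => c.inj i.down)
  have hc' : IsColimit c' :=
    Cofan.IsColimit.mk c' (fun s => Cofan.IsColimit.desc hc (fun i => s.inj ⟨i⟩))
      (fun s i => Cofan.IsColimit.fac hc _ i.down)
      (fun s m hm => Cofan.IsColimit.hom_ext hc _ _ (fun i => by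
        rw [Cofan.IsColimit.fac]
        exact hm ⟨i⟩))
  exact ModSiteFlat.isFlat_of_isColimit (Discrete.functor D') (fun i => hD i.as.down) c' hc'

theorem isFlat_tot_X (P F : CochainComplex (ModSite.Mod O) ℤ)
    (hP : ∀ i, ModSite.IsFlat (P.X i)) (hF : ∀ j, ModSite.IsFlat (F.X j)) (k : ℤ) :
    ModSite.IsFlat ((mapBifunctor P F (ModSite.tensorBi O) (ComplexShape.up ℤ)).X k) := by
  have h := isFlat_of_isColimit_cofan
    (fun i : Groth.Agent.Lib.Helper21.TotFunctor.Idx k =>
      ((ModSite.tensorBi O).obj (P.X i.1.1)).obj (F.X i.1.2))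
    (fun i => ModSiteFlat.isFlat_tensor (P.X i.1.1) (F.X i.1.2) (hP _) (hF _))
    (Groth.Agent.Lib.Helper21.TotFunctor.totCofan (ModSite.tensorBi O) P F k)
    (Groth.Agent.Lib.Helper21.TotFunctor.isColimitTotCofan (ModSite.tensorBi O) P F k)
  rw [Groth.Agent.Lib.Helper21.TotFunctor.totCofan_pt] at h
  exact h

end Terms

/-- Flat amplitudes add. -/
theorem flatModel_ltensor (E P : CochainComplex (ModSite.Mod O) ℤ)
    (m n : ℤ) (hP : ∀ i : ℤ, ModSite.IsFlat (P.X i)) (hPb : ∀ i : ℤ, i < m ∨ n < i → IsZero (P.X i))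
    (eP : DerivedCategory.Q.obj P ≅ DerivedCategory.Q.obj E) (F : CochainComplex (ModSite.Mod O) ℤ)
    (m' n' : ℤ) (hF : ∀ i : ℤ, ModSite.IsFlat (F.X i))
    (hFb : ∀ i : ℤ, i < m' ∨ n' < i → IsZero (F.X i)) [ModSite.HasLTensorCx F] :
    ∃ G : CochainComplex (ModSite.Mod O) ℤ, (∀ i : ℤ, ModSite.IsFlat (G.X i)) ∧
      (∀ i : ℤ, i < m + m' ∨ n + n' < i → IsZero (G.X i)) ∧
      Nonempty (DerivedCategory.Q.obj G ≅
        (ModSite.LTensorCx F).obj (DerivedCategory.Q.obj E)) := by
  haveI : P.IsStrictlyLE n :=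
    (CochainComplex.isStrictlyLE_iff P n).2 (fun i hi => hPb i (Or.inr hi))
  have hgood := good_of_isStrictlyLE P n hP
  refine ⟨mapBifunctor P F (ModSite.tensorBi O) (ComplexShape.up ℤ), isFlat_tot_X P F hP hF,
    ?_, ⟨?_⟩⟩
  · intro k hk
    apply isZero_tot_X
    intro i j hij
    by_cases h1 : i < m ∨ n < i
    · exact Or.inl (hPb i h1)
    · right
      apply hFb
      omega
  · exact (LTensorCxIso F P hgood).symm ≪≫ (ModSite.LTensorCx F).mapIso eP

end Groth.Agent.Lib.Helper21.LTensorSite
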