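import Mathlib
import Groth.Prelude.Def_KFlatSite
import Groth.Agent.Lib.Helper2.LDer.Unique
import Groth.Agent.Lib.Helper2.Tot.ModSiteSymm
import Groth.Agent.Lib.Helper13.ModSiteFlatSES
import Groth.Agent.Lib.Helper21.LTensorSite

/-!
# The derived tensor product `- ⊗^L E` on a ringed site through a K-flat resolution of `E`,
and the long exact sequence of the functors `M ↦ H^p(M ⊗^L E)`
-/

set_option autoImplicit false
universe u
open CategoryTheory Limits HomologicalComplex

attribute [local instance] HasDerivedCategory.standard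

namespace Groth.Agent.Lib.Helper21.LTensorLES

open Groth.Agent.Lib.Helper2 Groth.Agent.Lib.Helper2.LDer Groth.Agent.Lib.Helper21.LTensorSite

variable {C : Type u} [SmallCategory C] {J : GrothendieckTopology C} {O : Sheaf J CommRingCat.{u}}

instance additive_tensorCx_flip_obj (E : CochainComplex (ModSite.Mod O) ℤ) :
    ((ModSite.tensorCx O).flip.obj E).Additive where
  map_add {K L f g} := by
    refine HomologicalComplex.hom_ext _ _ (fun n => ?_)
    apply mapBifunctor.hom_ext
    intro p q hpq
    change ιMapBifunctor K E (ModSite.tensorBi O) (ComplexShape.up ℤ) p q n hpq ≫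
        (mapBifunctorMap (f + g) (𝟙 E) (ModSite.tensorBi O) (ComplexShape.up ℤ)).f n =
      ιMapBifunctor K E (ModSite.tensorBi O) (ComplexShape.up ℤ) p q n hpq ≫
        ((mapBifunctorMap f (𝟙 E) (ModSite.tensorBi O) (ComplexShape.up ℤ)).f n +
          (mapBifunctorMap g (𝟙 E) (ModSite.tensorBi O) (ComplexShape.up ℤ)).f n)
    rw [Preadditive.comp_add, ι_mapBifunctorMap, ι_mapBifunctorMap, ι_mapBifunctorMap]
    simp [Functor.map_add, NatTrans.app_add, Preadditive.add_comp]

/-- `Tot(- ⊗ E')` followed by `Q` inverts quasi-isomorphisms when `E'` is K-flat. -/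
lemma isInvertedBy_tensorCxQ (E' : CochainComplex (ModSite.Mod O) ℤ)
    (hE' : Tot.KFlat (ModSite.tensorBi O) E') :
    (HomologicalComplex.quasiIso (ModSite.Mod O) (ComplexShape.up ℤ)).IsInvertedBy
      (ModSite.tensorCxQ E') := by
  intro K L φ hφ
  haveI : QuasiIso φ := by simpa only [HomologicalComplex.mem_quasiIso_iff] using hφ
  haveI := Tot.quasiIso_map₁_of_kflat hE' φ
  exact (DerivedCategory.isIso_Q_map_iff_quasiIso _
    (mapBifunctorMap φ (𝟙 E') (ModSite.tensorBi O) (ComplexShape.up ℤ))).2 inferInstance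

/-- The functor induced on the derived category by `Tot(- ⊗ E')` for `E'` K-flat. -/
noncomputable def liftFun (E' : CochainComplex (ModSite.Mod O) ℤ)
    (hE' : Tot.KFlat (ModSite.tensorBi O) E') :
    DCoh.DMod (ModSite.ringSh O) ⥤ DCoh.DMod (ModSite.ringSh O) :=
  Localization.lift (ModSite.tensorCxQ E') (isInvertedBy_tensorCxQ E' hE') DerivedCategory.Q

noncomputable def liftFac (E' : CochainComplex (ModSite.Mod O) ℤ)
    (hE' : Tot.KFlat (ModSite.tensorBi O) E') :
    DerivedCategory.Q ⋙ liftFun E' hE' ≅ ModSite.tensorCxQ E' :=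
  Localization.fac _ _ _

/-- The natural transformation induced by a morphism in the fixed variable. -/
noncomputable def τ {E' E : CochainComplex (ModSite.Mod O) ℤ} (q : E' ⟶ E) :
    ModSite.tensorCxQ E' ⟶ ModSite.tensorCxQ E :=
  Functor.whiskerRight ((ModSite.tensorCx O).flip.map q) DerivedCategory.Q

lemma isIso_τ_app {E' E : CochainComplex (ModSite.Mod O) ℤ} (q : E' ⟶ E) [QuasiIso q]
    (P : CochainComplex (ModSite.Mod O) ℤ) (hP : Good P) : IsIso ((τ q).app P) := by
  haveI h1 : QuasiIso (mapBifunctorMap q (𝟙 P) (ModSite.tensorBi O).flip (ComplexShape.up ℤ)) :=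
    Tot.quasiIso_map₁_of_kflat (F := (ModSite.tensorBi O).flip) hP q
  have hnat := mapBifunctorFlipIso_hom_naturality (𝟙 P) q (ModSite.tensorBi O)
    (ComplexShape.up ℤ)
  have h2 : mapBifunctorMap (𝟙 P) q (ModSite.tensorBi O) (ComplexShape.up ℤ) =
      (mapBifunctorFlipIso P E' (ModSite.tensorBi O) (ComplexShape.up ℤ)).inv ≫
        mapBifunctorMap q (𝟙 P) (ModSite.tensorBi O).flip (ComplexShape.up ℤ) ≫
          (mapBifunctorFlipIso P E (ModSite.tensorBi O) (ComplexShape.up ℤ)).hom := by
    rw [hnat, Iso.inv_hom_id_assoc]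
  haveI : QuasiIso (mapBifunctorMap (𝟙 P) q (ModSite.tensorBi O) (ComplexShape.up ℤ)) := by
    rw [h2]
    infer_instance
  exact (DerivedCategory.isIso_Q_map_iff_quasiIso _
    (mapBifunctorMap (𝟙 P) q (ModSite.tensorBi O) (ComplexShape.up ℤ))).2 inferInstance

/-- `- ⊗^L E` is computed by `Tot(- ⊗ E')` for a K-flat resolution `E' → E`. -/
noncomputable def ltensorIso (E' E : CochainComplex (ModSite.Mod O) ℤ)
    (hE' : Tot.KFlat (ModSite.tensorBi O) E') (q : E' ⟶ E) [QuasiIso q]
    [ModSite.HasLTensorCx E] :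
    liftFun E' hE' ≅ ModSite.LTensorCx E :=
  (adapted_tensorCxQ E).isoTotalLeftDerived (liftFun E' hE') ((liftFac E' hE').hom ≫ τ q)
    (fun P hP => by
      haveI := isIso_τ_app q P hP
      rw [NatTrans.comp_app]
      infer_instance)

/-- The functor `M ↦ H^p(Tot(M[0] ⊗ E'))`. -/
noncomputable abbrev T (E' : CochainComplex (ModSite.Mod O) ℤ) (p : ℤ) :
    ModSite.Mod O ⥤ ModSite.Mod O :=
  HomologicalComplex.single (ModSite.Mod O) (ComplexShape.up ℤ) 0 ⋙
    (ModSite.tensorCx O).flip.obj E' ⋙
      HomologicalComplex.homologyFunctor (ModSite.Mod O) (ComplexShape.up ℤ) p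

noncomputable def homologyIso (E' E : CochainComplex (ModSite.Mod O) ℤ)
    (hE' : Tot.KFlat (ModSite.tensorBi O) E') (q : E' ⟶ E) [QuasiIso q]
    [ModSite.HasLTensorCx E] (p : ℤ) :
    DerivedCategory.singleFunctor (ModSite.Mod O) 0 ⋙ ModSite.LTensorCx E ⋙
      DerivedCategory.homologyFunctor (ModSite.Mod O) p ≅ T E' p :=
  Functor.isoWhiskerRight (DerivedCategory.singleFunctorIsoCompQ (ModSite.Mod O) 0) _ ≪≫
  Functor.associator _ _ _ ≪≫
  Functor.isoWhiskerLeft (CochainComplex.singleFunctor (ModSite.Mod O) 0)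
    (Functor.isoWhiskerLeft DerivedCategory.Q
        (Functor.isoWhiskerRight (ltensorIso E' E hE' q).symm
          (DerivedCategory.homologyFunctor (ModSite.Mod O) p)) ≪≫
      (Functor.associator _ _ _).symm ≪≫
      Functor.isoWhiskerRight (liftFac E' hE') _ ≪≫
      Functor.associator _ _ _ ≪≫
      Functor.isoWhiskerLeft _ (DerivedCategory.homologyFunctorFactors (ModSite.Mod O) p))

section LES

variable (E' : CochainComplex (ModSite.Mod O) ℤ) (hflat : ∀ n : ℤ, ModSite.IsFlat (E'.X n))

include hflat in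
lemma shortExact_tot (S : ShortComplex (ModSite.Mod O)) (hS : S.ShortExact) :
    ((S.map (HomologicalComplex.single (ModSite.Mod O) (ComplexShape.up ℤ) 0)).map
      ((ModSite.tensorCx O).flip.obj E')).ShortExact := by
  have hS' : (S.map (HomologicalComplex.single (ModSite.Mod O)
      (ComplexShape.up ℤ) 0)).ShortExact := hS.map_of_exact _
  refine Tot.shortExact_map₁ (ModSite.tensorBi O) E' _ (fun p q => ?_)
  have h1 : ((S.map (HomologicalComplex.single (ModSite.Mod O) (ComplexShape.up ℤ) 0)).map
      (eval _ _ p)).ShortExact := hS'.map_of_exact _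
  haveI := (hflat q).1
  haveI := (hflat q).2
  exact h1.map_of_exact ((ModSite.tensorBi O).flip.obj (E'.X q))

include hflat in
theorem rightExact_iff_leftExact_succ (p : ℤ) :
    PreservesFiniteColimits (T E' p) ↔ PreservesFiniteLimits (T E' (p + 1)) := by
  rw [Functor.preservesFiniteColimits_iff_forall_exact_map_and_epi,
    Functor.preservesFiniteLimits_iff_forall_exact_map_and_mono]
  constructor
  · intro h S hS
    have hS2 := shortExact_tot E' hflat S hS
    obtain ⟨_, hepi⟩ := h S hS
    refine ⟨hS2.homology_exact₂ (p + 1), ?_⟩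
    have hδ : hS2.δ p (p + 1) rfl = 0 := by
      haveI : Epi (HomologicalComplex.homologyMap
        ((S.map (HomologicalComplex.single (ModSite.Mod O) (ComplexShape.up ℤ) 0)).map
          ((ModSite.tensorCx O).flip.obj E')).g p) := hepi
      rw [← cancel_epi (HomologicalComplex.homologyMap
        ((S.map (HomologicalComplex.single (ModSite.Mod O) (ComplexShape.up ℤ) 0)).map
          ((ModSite.tensorCx O).flip.obj E')).g p), hS2.comp_δ, comp_zero]
    exact (hS2.homology_exact₁ p (p + 1) rfl).mono_g hδ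
  · intro h S hS
    have hS2 := shortExact_tot E' hflat S hS
    obtain ⟨_, hmono⟩ := h S hS
    refine ⟨hS2.homology_exact₂ p, ?_⟩
    have hδ : hS2.δ p (p + 1) rfl = 0 := by
      haveI : Mono (HomologicalComplex.homologyMap
        ((S.map (HomologicalComplex.single (ModSite.Mod O) (ComplexShape.up ℤ) 0)).map
          ((ModSite.tensorCx O).flip.obj E')).f (p + 1)) := hmono
      rw [← cancel_mono (HomologicalComplex.homologyMap
        ((S.map (HomologicalComplex.single (ModSite.Mod O) (ComplexShape.up ℤ) 0)).map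
          ((ModSite.tensorCx O).flip.obj E')).f (p + 1)), hS2.δ_comp, zero_comp]
    exact (hS2.homology_exact₃ p (p + 1) rfl).epi_f hδ

end LES

end Groth.Agent.Lib.Helper21.LTensorLES
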