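import Mathlib
import Groth.Prelude.Def_KFlatSite
import Groth.Agent.Lib.Helper21.LTensorLES
import Groth.Agent.Lib.Helper21.SingleLeft

/-!
# `M ↦ H^{p+1}(M ⊗ E)` is left exact iff `coker(E^p → E^{p+1})` is flat (E termwise flat)
-/

set_option autoImplicit false
universe u
open CategoryTheory Limits HomologicalComplex

attribute [local instance] HasDerivedCategory.standard

namespace Groth.Agent.Lib.Helper21.LTensorFlat

open Groth.Agent.Lib.Helper2 Groth.Agent.Lib.Helper13 Groth.Agent.Lib.Helper21.LTensorLES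
  Groth.Agent.Lib.Helper21

variable {C : Type u} [SmallCategory C] {J : GrothendieckTopology C} {O : Sheaf J CommRingCat.{u}}

theorem leftExact_iff_isFlat_coker (E : CochainComplex (ModSite.Mod O) ℤ)
    (hflat : ∀ n : ℤ, ModSite.IsFlat (E.X n)) (p : ℤ) :
    PreservesFiniteLimits (T E (p + 1)) ↔ ModSite.IsFlat (cokernel (E.d p (p + 1))) := by
  constructor
  · intro h
    haveI := h
    apply ModSiteFlatSES.isFlat_of_mono
    intro M' M a ha
    haveI := ha
    have h1 : Mono (homologyMap (mapBifunctorMap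
        ((single (ModSite.Mod O) (ComplexShape.up ℤ) 0).map a) (𝟙 E) (ModSite.tensorBi O)
        (ComplexShape.up ℤ)) (p + 1)) := inferInstanceAs (Mono ((T E (p + 1)).map a))
    haveI := h1
    have h2 : Mono ((mapBifunctorMap
        ((single (ModSite.Mod O) (ComplexShape.up ℤ) 0).map a) (𝟙 E) (ModSite.tensorBi O)
        (ComplexShape.up ℤ)).f (p + 1 + 1)) := by
      have hn := SingleLeft.homX_naturality (ModSite.tensorBi O) a E (p + 1 + 1)
      haveI : Mono (((ModSite.tensorBi O).map a).app (E.X (p + 1 + 1))) :=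
        ModSiteFlatSES.mono_map_app_of_isFlat (hflat _) a
      have h3 : (mapBifunctorMap ((single (ModSite.Mod O) (ComplexShape.up ℤ) 0).map a) (𝟙 E)
          (ModSite.tensorBi O) (ComplexShape.up ℤ)).f (p + 1 + 1) =
          (SingleLeft.isoX (ModSite.tensorBi O) M' E (p + 1 + 1)).inv ≫
            ((ModSite.tensorBi O).map a).app (E.X (p + 1 + 1)) ≫
              (SingleLeft.isoX (ModSite.tensorBi O) M E (p + 1 + 1)).hom := by
        rw [← cancel_epi (SingleLeft.isoX (ModSite.tensorBi O) M' E (p + 1 + 1)).hom,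
          Iso.hom_inv_id_assoc]
        exact hn.symm
      rw [h3]
      infer_instance
    haveI := h2
    haveI h4 : Mono (opcyclesMap (mapBifunctorMap
        ((single (ModSite.Mod O) (ComplexShape.up ℤ) 0).map a) (𝟙 E) (ModSite.tensorBi O)
        (ComplexShape.up ℤ)) (p + 1)) :=
      SingleLeft.mono_opcyclesMap _ (p + 1) (p + 1 + 1) (by simp)
    have hn := SingleLeft.opcyclesIso_naturality (ModSite.tensorBi O) a E p
    have h5 : ((ModSite.tensorBi O).map a).app (cokernel (E.d p (p + 1))) =
        (SingleLeft.opcyclesIso (ModSite.tensorBi O) M' E p).hom ≫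
          opcyclesMap (mapBifunctorMap
            ((single (ModSite.Mod O) (ComplexShape.up ℤ) 0).map a) (𝟙 E) (ModSite.tensorBi O)
            (ComplexShape.up ℤ)) (p + 1) ≫
            (SingleLeft.opcyclesIso (ModSite.tensorBi O) M E p).inv := by
      rw [← Category.assoc, ← hn, Category.assoc, Iso.hom_inv_id, Category.comp_id]
    rw [h5]
    infer_instance
  · intro hW
    rw [Functor.preservesFiniteLimits_iff_forall_exact_map_and_mono]
    intro S hS
    have hS2 := shortExact_tot E hflat S hS
    refine ⟨hS2.homology_exact₂ (p + 1), ?_⟩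
    haveI := hS.mono_f
    haveI : Mono (((ModSite.tensorBi O).map S.f).app (cokernel (E.d p (p + 1)))) :=
      ModSiteFlatSES.mono_map_app_of_isFlat hW S.f
    have hn := SingleLeft.opcyclesIso_naturality (ModSite.tensorBi O) S.f E p
    haveI : Mono (opcyclesMap (mapBifunctorMap
        ((single (ModSite.Mod O) (ComplexShape.up ℤ) 0).map S.f) (𝟙 E) (ModSite.tensorBi O)
        (ComplexShape.up ℤ)) (p + 1)) := by
      have h3 : opcyclesMap (mapBifunctorMap
          ((single (ModSite.Mod O) (ComplexShape.up ℤ) 0).map S.f) (𝟙 E) (ModSite.tensorBi O)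
          (ComplexShape.up ℤ)) (p + 1) =
          (SingleLeft.opcyclesIso (ModSite.tensorBi O) S.X₁ E p).inv ≫
            ((ModSite.tensorBi O).map S.f).app (cokernel (E.d p (p + 1))) ≫
              (SingleLeft.opcyclesIso (ModSite.tensorBi O) S.X₂ E p).hom := by
        rw [hn, Iso.inv_hom_id_assoc]
      rw [h3]
      infer_instance
    exact SingleLeft.mono_homologyMap (mapBifunctorMap
      ((single (ModSite.Mod O) (ComplexShape.up ℤ) 0).map S.f) (𝟙 E) (ModSite.tensorBi O)
      (ComplexShape.up ℤ)) (p + 1)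

/-- The criterion: for `E` bounded above with flat terms, `M ↦ H^p(M ⊗^L E)` is right exact iff
`coker(E^p → E^{p+1})` is flat. -/
theorem rightExact_iff_isFlat_coker (E : CochainComplex (ModSite.Mod O) ℤ)
    (e : ℤ) (hEb : ∀ i : ℤ, e < i → IsZero (E.X i)) (hEf : ∀ i : ℤ, ModSite.IsFlat (E.X i)) (p : ℤ)
    [ModSite.HasLTensorCx E] :
    PreservesFiniteColimits (DerivedCategory.singleFunctor (ModSite.Mod O) 0 ⋙
      ModSite.LTensorCx E ⋙ DerivedCategory.homologyFunctor (ModSite.Mod O) p) ↔
      ModSite.IsFlat (cokernel (E.d p (p + 1))) := by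
  haveI : E.IsStrictlyLE e := (CochainComplex.isStrictlyLE_iff E e).2 (fun i hi => hEb i hi)
  have hE : Tot.KFlat (ModSite.tensorBi O) E :=
    (Tot.MS.isKFlat_iff _).1 (Tot.MS.isKFlat_of_isStrictlyLE E e hEf)
  have e1 := homologyIso E E hE (𝟙 E) p
  have h1 : PreservesFiniteColimits (DerivedCategory.singleFunctor (ModSite.Mod O) 0 ⋙
      ModSite.LTensorCx E ⋙ DerivedCategory.homologyFunctor (ModSite.Mod O) p) ↔
      PreservesFiniteColimits (T E p) :=
    ⟨fun h => by haveI := h; exact preservesFiniteColimits_of_natIso e1,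
      fun h => by haveI := h; exact preservesFiniteColimits_of_natIso e1.symm⟩
  rw [h1, rightExact_iff_leftExact_succ E hEf p]
  exact leftExact_iff_isFlat_coker E hEf p

end Groth.Agent.Lib.Helper21.LTensorFlat
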