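import Mathlib

namespace Groth.Agent.Lib.Helper21

open Module Matrix

universe u v

section
variable {R : Type u} [CommRing R] [IsDomain R] [IsPrincipalIdealRing R]
  {K : Type u} [Field K] [Algebra R K] [IsFractionRing R K]
  {V : Type v} [AddCommGroup V] [Module K V] [Module R V] [IsScalarTower R K V]

/-- a finitely generated `R`-lattice spanning `V` has an `R`-basis which is a `K`-basis of `V` -/
theorem exists_basis_of_lattice (L : Submodule R V) (hfg : L.FG)
    (hspan : Submodule.span K (L : Set V) = ⊤) :
    ∃ (ι : Type v) (_ : Fintype ι) (B : Basis ι K V), Submodule.span R (Set.range B) = L := by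
  have : FaithfulSMul R K := (faithfulSMul_iff_algebraMap_injective R K).2 (IsFractionRing.injective R K)
  have htf : Module.IsTorsionFree R V := Module.IsTorsionFree.trans_faithfulSMul R K V
  have : Module.Finite R L := Module.Finite.iff_fg.mpr hfg
  have : Module.IsTorsionFree R L := inferInstance
  have hfree : Module.Free R L := inferInstance
  let b := Module.Free.chooseBasis R L
  let v : Module.Free.ChooseBasisIndex R L → V := fun i => (b i : V)
  have hliR : LinearIndependent R v :=
    b.linearIndependent.map' L.subtype (Submodule.ker_subtype L)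
  have hliK : LinearIndependent K v := hliR.localization K (nonZeroDivisors R)
  have hLspan : Submodule.span R (Set.range v) = L := by
    have h1 : Submodule.map L.subtype (Submodule.span R (Set.range b)) = L := by
      rw [b.span_eq, Submodule.map_top, Submodule.range_subtype]
    refine Eq.trans ?_ h1
    rw [Submodule.map_span, ← Set.range_comp]
    rfl
  have hsp : ⊤ ≤ Submodule.span K (Set.range v) := by
    rw [← hspan]
    apply Submodule.span_le.2
    intro x hx
    rw [← hLspan] at hx
    exact Submodule.span_le_restrictScalars R K _ hx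
  refine ⟨_, inferInstance, Basis.mk hliK hsp, ?_⟩
  rw [Basis.coe_mk]
  exact hLspan

end

section
variable {R : Type u} [CommRing R] {K : Type u} [Field K] [Algebra R K]
  {V : Type v} [AddCommGroup V] [Module K V] [Module R V] [IsScalarTower R K V]
  {ι : Type*} [Fintype ι] [DecidableEq ι]

omit [Fintype ι] in
theorem repr_mem_range_of_mem_span (B : Basis ι K V) (x : V)
    (hx : x ∈ Submodule.span R (Set.range B)) (i : ι) :
    B.repr x i ∈ (algebraMap R K).range := by
  induction hx using Submodule.span_induction with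
  | mem y hy =>
    obtain ⟨j, rfl⟩ := hy
    rw [B.repr_self]
    by_cases h : j = i
    · subst h; simp only [Finsupp.single_eq_same]; exact ⟨1, by simp⟩
    · rw [Finsupp.single_eq_of_ne' h]; exact ⟨0, by simp⟩
  | zero => simp only [map_zero, Finsupp.coe_zero, Pi.zero_apply]; exact ⟨0, by simp⟩
  | add y z _ _ hy hz =>
    simp only [map_add, Finsupp.coe_add, Pi.add_apply]
    exact Subring.add_mem _ hy hz
  | smul r y _ hy =>
    obtain ⟨c, hc⟩ := hy
    refine ⟨r * c, ?_⟩
    rw [← algebraMap_smul K r y, map_smul, Finsupp.smul_apply, smul_eq_mul, ← hc, map_mul]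

theorem toMatrix_eq_map_of_stable (B : Basis ι K V) (f : V →ₗ[K] V)
    (hf : ∀ x ∈ Submodule.span R (Set.range B), f x ∈ Submodule.span R (Set.range B)) :
    ∃ M : Matrix ι ι R, LinearMap.toMatrix B B f = M.map (algebraMap R K) := by
  have h : ∀ i j, ∃ c : R, algebraMap R K c = LinearMap.toMatrix B B f i j := by
    intro i j
    rw [LinearMap.toMatrix_apply]
    exact repr_mem_range_of_mem_span B _ (hf _ (Submodule.subset_span ⟨j, rfl⟩)) i
  choose c hc using h
  exact ⟨Matrix.of c, by ext i j; simp [hc]⟩

end

theorem exists_conj_integral (R : Type u) [CommRing R] [IsDomain R] [IsPrincipalIdealRing R]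
    (K : Type u) [Field K] [Algebra R K] [IsFractionRing R K]
    (N : ℕ) (g : GL (Fin N) K) (hg : IsOfFinOrder g) :
    ∃ (h : GL (Fin N) K) (g' : GL (Fin N) R),
      h * g * h⁻¹ = Matrix.GeneralLinearGroup.map (algebraMap R K) g' := by
  classical
  set m := orderOf g with hm
  have hmpos : 0 < m := hg.orderOf_pos
  let V := Fin N → K
  let S : Set V := Set.range (fun p : Fin m × Fin N => (g ^ (p.1 : ℕ)).1 *ᵥ (Pi.single p.2 1 : V))
  let L : Submodule R V := Submodule.span R S
  have hfg : L.FG := Submodule.fg_span (Set.finite_range _)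
  have hstd : ∀ j : Fin N, (Pi.single j 1 : V) ∈ S := by
    intro j
    refine ⟨(⟨0, hmpos⟩, j), ?_⟩
    show (g ^ 0).1 *ᵥ (Pi.single j 1 : V) = _
    rw [pow_zero, Units.val_one, Matrix.one_mulVec]
  have hspan : Submodule.span K (L : Set V) = ⊤ := by
    rw [eq_top_iff, ← (Pi.basisFun K (Fin N)).span_eq]
    apply Submodule.span_mono
    rintro _ ⟨j, rfl⟩
    rw [Pi.basisFun_apply]
    exact Submodule.subset_span (hstd j)
  have hstable : ∀ k : ℕ, ∀ x ∈ L, Matrix.toLin' (g ^ k).1 x ∈ L := by
    intro k x hx
    induction hx using Submodule.span_induction with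
    | mem y hy =>
      obtain ⟨⟨i, j⟩, rfl⟩ := hy
      apply Submodule.subset_span
      refine ⟨(⟨(k + i) % m, Nat.mod_lt _ hmpos⟩, j), ?_⟩
      simp only [Matrix.toLin'_apply, Matrix.mulVec_mulVec]
      have hpow : g ^ ((k + (i : ℕ)) % m) = g ^ (k + (i : ℕ)) := pow_mod_orderOf g _
      rw [← Units.val_mul, ← pow_add, hpow]
    | zero => simp
    | add y z _ _ hy hz => rw [map_add]; exact L.add_mem hy hz
    | smul r y _ hy =>
      have : Matrix.toLin' (g ^ k).1 (r • y) = r • Matrix.toLin' (g ^ k).1 y := by
        rw [← algebraMap_smul K r y, map_smul, algebraMap_smul]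
      rw [this]; exact L.smul_mem r hy
  have hginv : g⁻¹ = g ^ (m - 1) := by
    apply inv_eq_of_mul_eq_one_left
    rw [← pow_succ, Nat.sub_add_cancel hmpos, hm, pow_orderOf_eq_one]
  obtain ⟨ι, _, B₀, hB₀⟩ := exists_basis_of_lattice (K := K) L hfg hspan
  let e := Pi.basisFun K (Fin N)
  let B : Basis (Fin N) K V := B₀.reindex (B₀.indexEquiv e)
  have hB : Submodule.span R (Set.range B) = L := by
    rw [Basis.range_reindex]; exact hB₀
  obtain ⟨M, hM⟩ := toMatrix_eq_map_of_stable (R := R) B (Matrix.toLin' g.1) (by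
    intro x hx
    rw [hB] at hx ⊢
    have := hstable 1 x hx
    rwa [pow_one] at this)
  obtain ⟨M', hM'⟩ := toMatrix_eq_map_of_stable (R := R) B (Matrix.toLin' (g⁻¹).1) (by
    intro x hx
    rw [hB] at hx ⊢
    rw [hginv]
    exact hstable (m - 1) x hx)
  have hinj : Function.Injective (fun A : Matrix (Fin N) (Fin N) R => A.map (algebraMap R K)) :=
    Matrix.map_injective (IsFractionRing.injective R K)
  have h1 : M * M' = 1 := by
    apply hinj
    simp only [Matrix.map_mul, Matrix.map_one _ (map_zero _) (map_one _)]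
    rw [← hM, ← hM', ← LinearMap.toMatrix_comp, ← Matrix.toLin'_mul, ← Units.val_mul,
      mul_inv_cancel, Units.val_one, Matrix.toLin'_one, LinearMap.toMatrix_id]
  have h2 : M' * M = 1 := by
    apply hinj
    simp only [Matrix.map_mul, Matrix.map_one _ (map_zero _) (map_one _)]
    rw [← hM, ← hM', ← LinearMap.toMatrix_comp, ← Matrix.toLin'_mul, ← Units.val_mul,
      inv_mul_cancel, Units.val_one, Matrix.toLin'_one, LinearMap.toMatrix_id]
  refine ⟨⟨B.toMatrix e, e.toMatrix B, B.toMatrix_mul_toMatrix_flip e, e.toMatrix_mul_toMatrix_flip B⟩,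
    ⟨M, M', h1, h2⟩, ?_⟩
  apply Units.ext
  have h3 : B.toMatrix e * LinearMap.toMatrix e e (Matrix.toLin' g.1) * e.toMatrix B =
      LinearMap.toMatrix B B (Matrix.toLin' g.1) :=
    basis_toMatrix_mul_linearMap_toMatrix_mul_basis_toMatrix B e B e (Matrix.toLin' g.1)
  rw [LinearMap.toMatrix_eq_toMatrix', LinearMap.toMatrix'_toLin', hM] at h3
  exact h3

end Groth.Agent.Lib.Helper21
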