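import Mathlib

/-!
# Lie3Mod (helper21), part A: a toolbox for polynomial rings over an arbitrary base

`kill j` substitutes `X j ↦ 0`; `divX j` is the quotient by `X j`.  The main tool is
`colon_le_of_linear`: a colon statement for an element that is linear in a variable whose
"constant term" is already known to be regular in the appropriate sense.
-/

set_option autoImplicit false
universe u

namespace Groth.Agent.Lib.Helper21.Lie3

open MvPolynomial

variable {σ : Type*} [DecidableEq σ] {A : Type u} [CommRing A]

/-- The substitution `X j ↦ 0`. -/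
noncomputable def kill (j : σ) : MvPolynomial σ A →ₐ[A] MvPolynomial σ A :=
  aeval (fun k => if k = j then 0 else X k)

@[simp] lemma kill_X_self (j : σ) : kill (A := A) j (X j) = 0 := by simp [kill]

lemma kill_X_of_ne {j k : σ} (h : k ≠ j) : kill (A := A) j (X k) = X k := by simp [kill, h]

lemma kill_X (j k : σ) : kill (A := A) j (X k) = if k = j then 0 else X k := by simp [kill]

@[simp] lemma kill_C (j : σ) (a : A) : kill j (C a : MvPolynomial σ A) = C a := by
  simp [kill]

lemma exists_eq_kill_add (j : σ) (y : MvPolynomial σ A) :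
    ∃ y', y = kill j y + X j * y' := by
  induction y using MvPolynomial.induction_on with
  | C a => exact ⟨0, by simp⟩
  | add p q hp hq =>
    obtain ⟨p', hp'⟩ := hp
    obtain ⟨q', hq'⟩ := hq
    exact ⟨p' + q', by rw [map_add]; linear_combination hp' + hq'⟩
  | mul_X p k hp =>
    obtain ⟨p', hp'⟩ := hp
    by_cases hk : k = j
    · subst hk
      exact ⟨p, by rw [map_mul, kill_X_self, mul_zero, zero_add, mul_comm]⟩
    · exact ⟨p' * X k, by rw [map_mul, kill_X_of_ne hk]; linear_combination (X k) * hp'⟩

lemma X_mul_cancel {j : σ} {p q : MvPolynomial σ A} (h : X j * p = X j * q) : p = q :=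
  X_mul_cancel_left_iff.1 h

lemma X_mul_eq_zero {j : σ} {p : MvPolynomial σ A} (h : X j * p = 0) : p = 0 :=
  X_mul_cancel (q := 0) (by rw [h, mul_zero])

lemma degreeOf_kill (j : σ) (y : MvPolynomial σ A) : degreeOf j (kill j y) = 0 := by
  induction y using MvPolynomial.induction_on with
  | C a => rw [kill_C, degreeOf_C]
  | add p q hp hq =>
    rw [map_add]
    have := degreeOf_add_le j (kill j p) (kill j q)
    rw [hp, hq] at this
    simpa using this
  | mul_X p k hp =>
    rw [map_mul]
    by_cases hk : k = j
    · subst hk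
      rw [kill_X_self, mul_zero, degreeOf_zero]
    · rw [kill_X_of_ne hk, degreeOf_mul_X_of_ne _ (Ne.symm hk), hp]

/-- The quotient by `X j`. -/
noncomputable def divX (j : σ) (y : MvPolynomial σ A) : MvPolynomial σ A :=
  Classical.choose (exists_eq_kill_add j y)

lemma divX_spec (j : σ) (y : MvPolynomial σ A) : y = kill j y + X j * divX j y :=
  Classical.choose_spec (exists_eq_kill_add j y)

lemma divX_unique {j : σ} {y z : MvPolynomial σ A} (h : y = kill j y + X j * z) :
    z = divX j y := by
  have := divX_spec j y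
  apply X_mul_cancel (j := j)
  linear_combination this - h

lemma degreeOf_divX_lt {j : σ} {y : MvPolynomial σ A} (h : divX j y ≠ 0) :
    degreeOf j (divX j y) < degreeOf j y := by
  have h1 := (degreeOf_mul_X_eq_degreeOf_add_one_iff j (divX j y)).mpr h
  have h2 : divX j y * X j = y - kill j y := by linear_combination -divX_spec j y
  have h3 := degreeOf_sub_le j y (kill j y)
  rw [degreeOf_kill, ← h2, h1] at h3
  have : max (degreeOf j y) 0 = degreeOf j y := max_eq_left (Nat.zero_le _)
  omega

lemma kill_kill (j : σ) (y : MvPolynomial σ A) : kill j (kill j y) = kill j y := by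
  induction y using MvPolynomial.induction_on with
  | C a => simp
  | add p q hp hq => rw [map_add, map_add, hp, hq]
  | mul_X p k hp =>
    rw [map_mul, map_mul, hp]
    by_cases hk : k = j
    · subst hk; simp
    · rw [kill_X_of_ne hk, kill_X_of_ne hk]

lemma divX_of_kill_eq {j : σ} {s : MvPolynomial σ A} (h : kill j s = s) : divX j s = 0 :=
  (divX_unique (z := 0) (by rw [h, mul_zero, add_zero])).symm

lemma divX_X_mul (j : σ) (t : MvPolynomial σ A) : divX j (X j * t) = t :=
  (divX_unique (by rw [map_mul, kill_X_self, zero_mul, zero_add])).symm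

lemma divX_add (j : σ) (x y : MvPolynomial σ A) : divX j (x + y) = divX j x + divX j y :=
  (divX_unique (by rw [map_add]; linear_combination divX_spec j x + divX_spec j y)).symm

lemma divX_mul (j : σ) (a x : MvPolynomial σ A) :
    divX j (a * x) = divX j a * kill j x + a * divX j x := by
  refine (divX_unique ?_).symm
  rw [map_mul]
  linear_combination (kill j x) * divX_spec j a + a * divX_spec j x

section Span

variable {j : σ} {S : Set (MvPolynomial σ A)}

lemma kill_mem_span (hS : ∀ s ∈ S, kill j s = s) {x : MvPolynomial σ A}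
    (hx : x ∈ Ideal.span S) : kill j x ∈ Ideal.span S := by
  have := Ideal.mem_map_of_mem (kill (A := A) j).toRingHom hx
  rw [Ideal.map_span] at this
  have himg : (kill (A := A) j).toRingHom '' S = S := by
    ext y
    constructor
    · rintro ⟨s, hs, rfl⟩
      show kill j s ∈ S
      rw [hS s hs]; exact hs
    · intro hy
      exact ⟨y, hy, hS y hy⟩
  rw [himg] at this
  exact this

lemma divX_mem_span (hS : ∀ s ∈ S, kill j s = s) {x : MvPolynomial σ A}
    (hx : x ∈ Ideal.span S) : divX j x ∈ Ideal.span S := by
  induction hx using Submodule.span_induction with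
  | mem s hs => rw [divX_of_kill_eq (hS s hs)]; exact Ideal.zero_mem _
  | zero => rw [divX_of_kill_eq (map_zero _)]; exact Ideal.zero_mem _
  | add x y _ _ hx hy => rw [divX_add]; exact Ideal.add_mem _ hx hy
  | smul a x hx' hx =>
    rw [smul_eq_mul, divX_mul]
    exact Ideal.add_mem _ (Ideal.mul_mem_left _ _ (kill_mem_span hS hx'))
      (Ideal.mul_mem_left _ _ hx)

/-- A variable not occurring in the generators is regular modulo the ideal. -/
lemma of_X_mul_mem_span (hS : ∀ s ∈ S, kill j s = s) {t : MvPolynomial σ A}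
    (ht : X j * t ∈ Ideal.span S) : t ∈ Ideal.span S := by
  have := divX_mem_span hS ht
  rwa [divX_X_mul] at this

end Span

/-- Colon statement for an element `r + p * X j` whose `X j`-free part `r` is `X j`-free. -/
theorem colon_le_of_linear (j : σ) (𝔞 𝔟 : Ideal (MvPolynomial σ A)) (r p : MvPolynomial σ A)
    (hr : kill j r = r)
    (ha : ∀ x ∈ 𝔞, kill j x ∈ 𝔞)
    (hX : ∀ t, X j * t ∈ 𝔞 → t ∈ 𝔞)
    (h3 : ∀ t, r * t ∈ 𝔞 → t ∈ 𝔟)
    (h4 : ∀ t ∈ 𝔟, (r + p * X j) * t ∈ 𝔞) :
    ∀ y, (r + p * X j) * y ∈ 𝔞 → y ∈ 𝔟 := by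
  intro y
  induction hn : degreeOf j y using Nat.strong_induction_on generalizing y with
  | _ n ih =>
    intro hy
    have h0 : kill j y ∈ 𝔟 := by
      apply h3
      have := ha _ hy
      rwa [map_mul, map_add, map_mul, kill_X_self, mul_zero, add_zero, hr] at this
    have e : X j * ((r + p * X j) * divX j y) =
        (r + p * X j) * y - (r + p * X j) * kill j y := by
      linear_combination (-(r + p * X j)) * divX_spec j y
    have h2 : (r + p * X j) * divX j y ∈ 𝔞 := by
      apply hX
      rw [e]
      exact 𝔞.sub_mem hy (h4 _ h0)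
    by_cases hy0 : divX j y = 0
    · have := divX_spec j y
      rw [hy0, mul_zero, add_zero] at this
      rw [this]; exact h0
    · have hlt : degreeOf j (divX j y) < n := hn ▸ degreeOf_divX_lt hy0
      have h5 := ih _ hlt _ rfl h2
      rw [divX_spec j y]
      exact 𝔟.add_mem h0 (𝔟.mul_mem_left _ h5)

/-- Two distinct variables form a regular sequence. -/
lemma eq_mul_of_X_mul_eq_X_mul {j k : σ} (hjk : k ≠ j) {s t : MvPolynomial σ A}
    (h : X j * s = X k * t) : ∃ γ, t = X j * γ ∧ s = X k * γ := by
  have h1 := congrArg (kill j) h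
  rw [map_mul, map_mul, kill_X_self, zero_mul, kill_X_of_ne hjk] at h1
  have h2 : kill j t = 0 := X_mul_eq_zero h1.symm
  have h3 := divX_spec j t
  rw [h2, zero_add] at h3
  refine ⟨divX j t, h3, ?_⟩
  apply X_mul_cancel (j := j)
  linear_combination h + X k * h3

/-- An element linear in `X j` whose `X j`-free part is regular is regular. -/
theorem regular_of_linear (j : σ) (r p : MvPolynomial σ A) (hr : kill j r = r)
    (h3 : ∀ t, r * t = 0 → t = 0) : ∀ y, (r + p * X j) * y = 0 → y = 0 := by
  have := colon_le_of_linear j (⊥ : Ideal (MvPolynomial σ A)) ⊥ r p hr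
    (fun x hx => by rw [Ideal.mem_bot] at hx ⊢; rw [hx, map_zero])
    (fun t ht => by rw [Ideal.mem_bot] at ht ⊢; exact X_mul_eq_zero ht)
    (fun t ht => by rw [Ideal.mem_bot] at ht ⊢; exact h3 t ht)
    (fun t ht => by rw [Ideal.mem_bot] at ht ⊢; rw [ht, mul_zero])
  intro y hy
  exact (Ideal.mem_bot).1 (this y ((Ideal.mem_bot).2 hy))

/-- If `kill j P` is regular then `X j` is regular modulo `P`. -/
lemma of_X_mul_eq_mul {j : σ} {P t s : MvPolynomial σ A}
    (hP : ∀ z, z * kill j P = 0 → z = 0) (h : X j * t = s * P) : ∃ s', t = s' * P := by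
  have h1 := congrArg (kill j) h
  rw [map_mul, map_mul, kill_X_self, zero_mul] at h1
  have h2 : kill j s = 0 := hP _ h1.symm
  have h3 := divX_spec j s
  rw [h2, zero_add] at h3
  refine ⟨divX j s, ?_⟩
  apply X_mul_cancel (j := j)
  linear_combination h + P * h3

end Groth.Agent.Lib.Helper21.Lie3
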