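import Mathlib
import Groth.Agent.Lib.Helper21.Lie3A

/-!
# Lie3Mod (helper21), part B: the Jacobi scheme in adapted coordinates

Coordinates `v,u,c,w,e,f,g,h,i = X 0, …, X 8`; the three Jacobi polynomials become
`q1 = w i - (g u - h v)`, `q2 = w (u - f) - (h u + e v)`, `q3 = w c - (u i + v f)`.
-/

set_option autoImplicit false
universe u

namespace Groth.Agent.Lib.Helper21.Lie3

open MvPolynomial

section Helpers

variable {R : Type*} [CommRing R]

lemma mem_span3 {a b c x : R} :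
    x ∈ Ideal.span ({a, b, c} : Set R) ↔ ∃ p q r, p * a + q * b + r * c = x := by
  rw [Ideal.mem_span_insert]
  constructor
  · rintro ⟨p, z, hz, rfl⟩
    obtain ⟨q, r, rfl⟩ := Ideal.mem_span_pair.1 hz
    exact ⟨p, q, r, by ring⟩
  · rintro ⟨p, q, r, rfl⟩
    exact ⟨p, q * b + r * c, Ideal.mem_span_pair.2 ⟨q, r, rfl⟩, by ring⟩

lemma mem_span4 {a b c d x : R} :
    x ∈ Ideal.span ({a, b, c, d} : Set R) ↔ ∃ p q r s, p * a + q * b + r * c + s * d = x := by
  rw [Ideal.mem_span_insert]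
  constructor
  · rintro ⟨p, z, hz, rfl⟩
    obtain ⟨q, r, s, rfl⟩ := mem_span3.1 hz
    exact ⟨p, q, r, s, by ring⟩
  · rintro ⟨p, q, r, s, rfl⟩
    exact ⟨p, q * b + r * c + s * d, mem_span3.2 ⟨q, r, s, rfl⟩, by ring⟩

end Helpers

variable {A : Type u} [CommRing A]

/-- The polynomial ring in nine variables. -/
abbrev D9 (A : Type u) [CommRing A] := MvPolynomial (Fin 9) A

noncomputable abbrev xv : D9 A := X 0
noncomputable abbrev xu : D9 A := X 1
noncomputable abbrev xc : D9 A := X 2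
noncomputable abbrev xw : D9 A := X 3
noncomputable abbrev xe : D9 A := X 4
noncomputable abbrev xf : D9 A := X 5
noncomputable abbrev xg : D9 A := X 6
noncomputable abbrev xh : D9 A := X 7
noncomputable abbrev xi : D9 A := X 8

noncomputable def pX : D9 A := xg * xu - xh * xv
noncomputable def pY : D9 A := xh * xu + xe * xv
noncomputable def pZ : D9 A := xu * xi + xv * xf
noncomputable def kap : D9 A := xe * xg + xh ^ 2
noncomputable def q1 : D9 A := xw * xi - pX
noncomputable def q2 : D9 A := xw * (xu - xf) - pY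
noncomputable def q3 : D9 A := xw * xc - pZ
noncomputable def rho : D9 A :=
  xg * xu * xf - xg * xf ^ 2 + xe * xi ^ 2 + xh * xu * xi - 2 * xh * xi * xf
noncomputable def Del : D9 A := -(kap * xc) + rho

section Regular

lemma X_mul_X_mul_eq_zero {j k : Fin 9} {t : D9 A} (h : X j * X k * t = 0) : t = 0 := by
  rw [mul_assoc] at h
  exact X_mul_eq_zero (X_mul_eq_zero h)

lemma pX_mul_eq_zero {t : D9 A} (h : pX * t = 0) : t = 0 := by
  have := regular_of_linear (A := A) (7 : Fin 9) (xg * xu) (-xv) (by simp [kill_X])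
    (fun t ht => X_mul_X_mul_eq_zero ht) t
  apply this
  rw [← h, pX]; ring

lemma xu_mul_eq {t s : D9 A} (h : xu * t = s * pX) : ∃ s', t = s' * pX := by
  refine of_X_mul_eq_mul (j := (1 : Fin 9)) ?_ h
  intro z hz
  have e : kill (1 : Fin 9) (pX : D9 A) = -(xh * xv) := by simp [pX, kill_X]
  rw [e] at hz
  apply X_mul_X_mul_eq_zero (j := 7) (k := 0)
  linear_combination -hz

lemma xh_mul_eq {t s : D9 A} (h : xh * t = s * pX) : ∃ s', t = s' * pX := by
  refine of_X_mul_eq_mul (j := (7 : Fin 9)) ?_ h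
  intro z hz
  have e : kill (7 : Fin 9) (pX : D9 A) = xg * xu := by simp [pX, kill_X]
  rw [e] at hz
  apply X_mul_X_mul_eq_zero (j := 6) (k := 1)
  linear_combination hz

lemma pY_mul_mem {t : D9 A} (h : pY * t ∈ Ideal.span ({pX} : Set (D9 A))) :
    t ∈ Ideal.span ({pX} : Set (D9 A)) := by
  have hS : ∀ s ∈ ({pX} : Set (D9 A)), kill (4 : Fin 9) s = s := by
    intro s hs
    rw [Set.mem_singleton_iff] at hs
    subst hs
    simp [pX, kill_X]
  have := colon_le_of_linear (A := A) (4 : Fin 9) (Ideal.span {pX}) (Ideal.span {pX})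
    (xh * xu) xv (by simp [kill_X]) (fun x hx => kill_mem_span hS hx)
    (fun t ht => of_X_mul_mem_span hS ht)
    (fun t ht => by
      obtain ⟨a, ha⟩ := Ideal.mem_span_singleton'.1 ht
      obtain ⟨a', ha'⟩ := xh_mul_eq (t := xu * t) (s := a) (by rw [ha]; ring)
      obtain ⟨a'', ha''⟩ := xu_mul_eq ha'
      exact Ideal.mem_span_singleton'.2 ⟨a'', ha''.symm⟩)
    (fun t ht => Ideal.mul_mem_left _ _ ht) t
  apply this
  have e : (pY : D9 A) = xh * xu + xv * X 4 := by rw [pY]; ring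
  rwa [e] at h

/-- The syzygies of `(pX, pY)` are the Koszul ones. -/
lemma syz_pX_pY {α β : D9 A} (h : α * pX + β * pY = 0) :
    ∃ l, α = l * pY ∧ β = -(l * pX) := by
  have h1 : pY * β ∈ Ideal.span ({pX} : Set (D9 A)) :=
    Ideal.mem_span_singleton'.2 ⟨-α, by linear_combination -h⟩
  obtain ⟨μ, hμ⟩ := Ideal.mem_span_singleton'.1 (pY_mul_mem h1)
  have h2 : pX * (α + μ * pY) = 0 := by
    rw [← hμ] at h
    linear_combination h
  have h3 := pX_mul_eq_zero h2
  exact ⟨-μ, by linear_combination h3, by rw [← hμ]; ring⟩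

end Regular

section Colon

/-- `(pX, pY) : u = (pX, pY, kap)`. -/
lemma colon_q_u {x : D9 A} (h : xu * x ∈ Ideal.span ({pX, pY} : Set (D9 A))) :
    x ∈ Ideal.span ({pX, pY, kap} : Set (D9 A)) := by
  obtain ⟨α, β, hαβ⟩ := Ideal.mem_span_pair.1 h
  have key : (X 1 : D9 A) * (x - α * xg - β * xh) = X 0 * (β * xe - α * xh) := by
    simp only [pX, pY] at hαβ
    linear_combination -hαβ
  obtain ⟨γ, hγ1, hγ2⟩ := eq_mul_of_X_mul_eq_X_mul (j := (1 : Fin 9)) (k := 0) (by decide) key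
  -- kill u in hγ1
  have h1 := congrArg (kill (1 : Fin 9)) hγ1
  simp only [map_sub, map_mul, kill_X_self, zero_mul] at h1
  have e4 : kill (1 : Fin 9) (xe : D9 A) = xe := by simp [kill_X]
  have e7 : kill (1 : Fin 9) (xh : D9 A) = xh := by simp [kill_X]
  rw [e4, e7] at h1
  have key2 : (X 4 : D9 A) * kill (1 : Fin 9) β = X 7 * kill (1 : Fin 9) α := by
    linear_combination h1
  obtain ⟨l, hl1, hl2⟩ := eq_mul_of_X_mul_eq_X_mul (j := (4 : Fin 9)) (k := 7) (by decide) key2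
  have hα := divX_spec (1 : Fin 9) α
  have hβ := divX_spec (1 : Fin 9) β
  rw [hl1] at hα
  rw [hl2] at hβ
  set α₁ := divX (1 : Fin 9) α
  set β₁ := divX (1 : Fin 9) β
  have hγ : γ = β₁ * xe - α₁ * xh := by
    apply X_mul_cancel (j := (1 : Fin 9))
    linear_combination -hγ1 + xe * hβ - xh * hα
  refine mem_span3.2 ⟨α₁, β₁, l, ?_⟩
  simp only [pX, pY, kap]
  linear_combination -hγ2 - xg * hα - xh * hβ - xv * hγ

/-- `(pX, pY) : pZ = (pX, pY, kap)`. -/
lemma colon_q_pZ {y : D9 A} (h : pZ * y ∈ Ideal.span ({pX, pY} : Set (D9 A))) :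
    y ∈ Ideal.span ({pX, pY, kap} : Set (D9 A)) := by
  have hS5 : ∀ s ∈ ({pX, pY} : Set (D9 A)), kill (5 : Fin 9) s = s := by
    intro s hs
    rcases hs with rfl | rfl
    · simp [pX, kill_X]
    · simp [pY, kill_X]
  have hS8 : ∀ s ∈ ({pX, pY} : Set (D9 A)), kill (8 : Fin 9) s = s := by
    intro s hs
    rcases hs with rfl | rfl
    · simp [pX, kill_X]
    · simp [pY, kill_X]
  have := colon_le_of_linear (A := A) (5 : Fin 9) (Ideal.span {pX, pY})
    (Ideal.span {pX, pY, kap}) (xu * xi) xv (by simp [kill_X])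
    (fun x hx => kill_mem_span hS5 hx) (fun t ht => of_X_mul_mem_span hS5 ht)
    (fun t ht => by
      apply colon_q_u
      apply of_X_mul_mem_span hS8
      convert ht using 1
      ring)
    (fun t ht => by
      obtain ⟨a, b, c, rfl⟩ := mem_span3.1 ht
      refine Ideal.mem_span_pair.2 ⟨(xu * xi + xv * X 5) * a + c * (xi * xe - xf * xh),
        (xu * xi + xv * X 5) * b + c * (xi * xh + xf * xg), ?_⟩
      simp only [pX, pY, kap]
      ring) y
  apply this
  have e : (pZ : D9 A) = xu * xi + xv * X 5 := by rw [pZ]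
  rwa [e] at h

/-- `(w, pX, pY) : pZ = (w, pX, pY, kap)`. -/
lemma colon_wq_pZ {y : D9 A} (h : pZ * y ∈ Ideal.span ({xw, pX, pY} : Set (D9 A))) :
    y ∈ Ideal.span ({xw, pX, pY, kap} : Set (D9 A)) := by
  obtain ⟨a, b, c, habc⟩ := mem_span3.1 h
  have h1 := congrArg (kill (3 : Fin 9)) habc
  have eX : kill (3 : Fin 9) (pX : D9 A) = pX := by simp [pX, kill_X]
  have eY : kill (3 : Fin 9) (pY : D9 A) = pY := by simp [pY, kill_X]
  have eZ : kill (3 : Fin 9) (pZ : D9 A) = pZ := by simp [pZ, kill_X]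
  simp only [map_add, map_mul, kill_X_self, mul_zero, zero_add, eX, eY, eZ] at h1
  have h2 : kill (3 : Fin 9) y ∈ Ideal.span ({pX, pY, kap} : Set (D9 A)) :=
    colon_q_pZ (Ideal.mem_span_pair.2 ⟨_, _, h1⟩)
  obtain ⟨p, q, r, hpqr⟩ := mem_span3.1 h2
  refine mem_span4.2 ⟨divX (3 : Fin 9) y, p, q, r, ?_⟩
  linear_combination hpqr - divX_spec (3 : Fin 9) y

/-- `w` is regular modulo `(q1, q2)`. -/
lemma w_mul_mem_q12 {y : D9 A} (h : xw * y ∈ Ideal.span ({q1, q2} : Set (D9 A))) :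
    y ∈ Ideal.span ({q1, q2} : Set (D9 A)) := by
  obtain ⟨α, β, hαβ⟩ := Ideal.mem_span_pair.1 h
  have h1 := congrArg (kill (3 : Fin 9)) hαβ
  have e1 : kill (3 : Fin 9) (q1 : D9 A) = -pX := by simp [q1, pX, kill_X]
  have e2 : kill (3 : Fin 9) (q2 : D9 A) = -pY := by simp [q2, pY, kill_X]
  simp only [map_add, map_mul, kill_X_self, zero_mul, e1, e2] at h1
  obtain ⟨l, hl1, hl2⟩ := syz_pX_pY (α := kill (3 : Fin 9) α) (β := kill (3 : Fin 9) β)
    (by linear_combination -h1)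
  have hα := divX_spec (3 : Fin 9) α
  have hβ := divX_spec (3 : Fin 9) β
  rw [hl1] at hα
  rw [hl2] at hβ
  set α₁ := divX (3 : Fin 9) α
  set β₁ := divX (3 : Fin 9) β
  refine Ideal.mem_span_pair.2 ⟨α₁ + l * (xu - xf), β₁ - l * xi, ?_⟩
  apply X_mul_cancel (j := (3 : Fin 9))
  simp only [q1, q2] at hαβ ⊢
  linear_combination hαβ - (X 3 * X 8 - pX) * hα - (X 3 * (X 1 - X 5) - pY) * hβ

end Colon

end Groth.Agent.Lib.Helper21.Lie3
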