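import Mathlib
import Groth.Agent.Lib.Helper21.Lie3B

/-!
# Lie3Mod (helper21), part C: the ideals `I9`, `J9`, `L9` in adapted coordinates and their colons
-/

set_option autoImplicit false
universe u

namespace Groth.Agent.Lib.Helper21.Lie3

open MvPolynomial

variable {A : Type u} [CommRing A]

/-- The Jacobi ideal in adapted coordinates. -/
noncomputable def I9 (A : Type u) [CommRing A] : Ideal (D9 A) := Ideal.span {q1, q2, q3}
/-- The second component. -/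
noncomputable def J9 (A : Type u) [CommRing A] : Ideal (D9 A) := Ideal.span {q1, q2, q3, Del}
/-- The linear component. -/
noncomputable def L9 (A : Type u) [CommRing A] : Ideal (D9 A) := Ideal.span {xv, xu, xw}

lemma mem_I9 {x : D9 A} : x ∈ I9 A ↔ ∃ p q r, p * q1 + q * q2 + r * q3 = x := mem_span3
lemma mem_J9 {x : D9 A} : x ∈ J9 A ↔ ∃ p q r s, p * q1 + q * q2 + r * q3 + s * Del = x :=
  mem_span4
lemma mem_L9 {x : D9 A} : x ∈ L9 A ↔ ∃ p q r, p * xv + q * xu + r * xw = x := mem_span3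

lemma xv_Del : (xv * Del : D9 A) =
    (-(xc * xh) + xu * xi - xf * xi) * q1 + (xc * xg - xi ^ 2) * q2
      + (-(xu * xg) + xf * xg + xh * xi) * q3 := by
  simp only [Del, kap, rho, q1, q2, q3, pX, pY, pZ]; ring

lemma xu_Del : (xu * Del : D9 A) =
    (xc * xe - xu * xf + xf ^ 2) * q1 + (xc * xh + xf * xi) * q2
      + (-(xu * xh) + xf * xh - xe * xi) * q3 := by
  simp only [Del, kap, rho, q1, q2, q3, pX, pY, pZ]; ring

lemma xw_Del : (xw * Del : D9 A) =
    (-(xf * xh) + xe * xi) * q1 + (xf * xg + xh * xi) * q2 + (-(xe * xg) - xh ^ 2) * q3 := by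
  simp only [Del, kap, rho, q1, q2, q3, pX, pY, pZ]; ring

lemma I9_le_J9 : I9 A ≤ J9 A := by
  apply Ideal.span_mono
  intro x hx
  rcases hx with rfl | rfl | rfl
  · simp
  · simp
  · simp

lemma I9_le_L9 : I9 A ≤ L9 A := by
  rw [I9, Ideal.span_le]
  intro x hx
  rcases hx with rfl | rfl | rfl
  · exact mem_L9.2 ⟨xh, -xg, xi, by simp only [q1, pX]; ring⟩
  · exact mem_L9.2 ⟨-xe, -xh, xu - xf, by simp only [q2, pY]; ring⟩
  · exact mem_L9.2 ⟨-xf, -xi, xc, by simp only [q3, pZ]; ring⟩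

lemma Del_mem_J9 : (Del : D9 A) ∈ J9 A := Ideal.subset_span (by simp)

lemma Del_mul_L9 {l : D9 A} (hl : l ∈ L9 A) : Del * l ∈ I9 A := by
  obtain ⟨p, q, r, rfl⟩ := mem_L9.1 hl
  have h1 : (xv * Del : D9 A) ∈ I9 A := mem_I9.2 ⟨_, _, _, xv_Del.symm⟩
  have h2 : (xu * Del : D9 A) ∈ I9 A := mem_I9.2 ⟨_, _, _, xu_Del.symm⟩
  have h3 : (xw * Del : D9 A) ∈ I9 A := mem_I9.2 ⟨_, _, _, xw_Del.symm⟩
  have : Del * (p * xv + q * xu + r * xw) = p * (xv * Del) + q * (xu * Del) + r * (xw * Del) := by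
    ring
  rw [this]
  exact (I9 A).add_mem ((I9 A).add_mem ((I9 A).mul_mem_left _ h1) ((I9 A).mul_mem_left _ h2))
    ((I9 A).mul_mem_left _ h3)

/-- Key colon statement: `(I : w) ⊆ J`. -/
theorem mem_J9_of_xw_mul_mem_I9 {x : D9 A} (h : xw * x ∈ I9 A) : x ∈ J9 A := by
  obtain ⟨α, β, γ, hx⟩ := mem_I9.1 h
  have hZ : pZ * γ ∈ Ideal.span ({xw, pX, pY} : Set (D9 A)) := by
    refine mem_span3.2 ⟨xc * γ - x + α * xi + β * (xu - xf), -α, -β, ?_⟩
    simp only [q1, q2, q3] at hx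
    linear_combination hx
  obtain ⟨γ₁, γ₂, γ₃, γ₄, hγ⟩ := mem_span4.1 (colon_wq_pZ hZ)
  have h2 : xw * (x - (γ₁ + γ₂ * xi + γ₃ * (xu - xf)) * q3 + γ₄ * Del) ∈
      Ideal.span ({q1, q2} : Set (D9 A)) := by
    refine Ideal.mem_span_pair.2 ⟨α - γ₂ * q3 + γ₄ * (xe * xi - xf * xh),
      β - γ₃ * q3 + γ₄ * (xf * xg + xh * xi), ?_⟩
    have hw := xw_Del (A := A)
    simp only [q1, q2, kap] at hγ hx hw ⊢
    linear_combination hx + q3 * hγ - γ₄ * hw
  obtain ⟨a, b, hab⟩ := Ideal.mem_span_pair.1 (w_mul_mem_q12 h2)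
  exact mem_J9.2 ⟨a, b, γ₁ + γ₂ * xi + γ₃ * (xu - xf), -γ₄, by linear_combination hab⟩

section DelRegular

/-- `Del` with `u = v = w = 0`. -/
noncomputable def Del0 : D9 A :=
  -(kap * xc) - xg * xf ^ 2 + xe * xi ^ 2 - 2 * xh * xi * xf

lemma Del0_mul_eq_zero {t : D9 A} (h : Del0 * t = 0) : t = 0 := by
  -- innermost: h c + (2 i) f
  have r3 : ∀ t : D9 A, (xh * xc + 2 * xi * xf) * t = 0 → t = 0 := by
    have := regular_of_linear (A := A) (5 : Fin 9) (xh * xc) (2 * xi) (by simp [kill_X])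
      (fun t ht => X_mul_X_mul_eq_zero ht)
    intro t ht
    exact this t ht
  -- next: -(h (h c + 2 i f)) + (-(f^2)) g
  have r2 : ∀ t : D9 A, (-(xh * (xh * xc + 2 * xi * xf)) - xf ^ 2 * xg) * t = 0 → t = 0 := by
    have := regular_of_linear (A := A) (6 : Fin 9) (-(xh * (xh * xc + 2 * xi * xf)))
      (-(xf ^ 2)) (by simp [kill_X, map_ofNat])
      (fun t ht => by
        apply r3
        apply X_mul_eq_zero (j := (7 : Fin 9))
        linear_combination -ht)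
    intro t ht
    apply this t
    linear_combination ht
  have := regular_of_linear (A := A) (4 : Fin 9)
    (-(xh * (xh * xc + 2 * xi * xf)) - xf ^ 2 * xg) (xi ^ 2 - xg * xc) (by simp [kill_X, map_ofNat])
    r2 t
  apply this
  rw [← h, Del0, kap]; ring

lemma kill_kill_kill_Del :
    kill (0 : Fin 9) (kill (1 : Fin 9) (kill (3 : Fin 9) (Del : D9 A))) = Del0 := by
  simp [Del, Del0, kap, rho, kill_X, map_ofNat]
  ring

lemma sub_killed_mem_L9 (x : D9 A) :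
    x - kill (0 : Fin 9) (kill (1 : Fin 9) (kill (3 : Fin 9) x)) ∈ L9 A := by
  refine mem_L9.2 ⟨divX (0 : Fin 9) (kill (1 : Fin 9) (kill (3 : Fin 9) x)),
    divX (1 : Fin 9) (kill (3 : Fin 9) x), divX (3 : Fin 9) x, ?_⟩
  linear_combination -divX_spec (3 : Fin 9) x - divX_spec (1 : Fin 9) (kill (3 : Fin 9) x)
    - divX_spec (0 : Fin 9) (kill (1 : Fin 9) (kill (3 : Fin 9) x))

lemma killed_eq_zero_of_mem_L9 {x : D9 A} (hx : x ∈ L9 A) :
    kill (0 : Fin 9) (kill (1 : Fin 9) (kill (3 : Fin 9) x)) = 0 := by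
  obtain ⟨p, q, r, rfl⟩ := mem_L9.1 hx
  simp [kill_X]

lemma mem_L9_iff {x : D9 A} :
    x ∈ L9 A ↔ kill (0 : Fin 9) (kill (1 : Fin 9) (kill (3 : Fin 9) x)) = 0 := by
  refine ⟨killed_eq_zero_of_mem_L9, fun h => ?_⟩
  have := sub_killed_mem_L9 x
  rwa [h, sub_zero] at this

/-- `Del` is regular modulo `L9`. -/
theorem mem_L9_of_Del_mul_mem {x : D9 A} (h : Del * x ∈ L9 A) : x ∈ L9 A := by
  rw [mem_L9_iff] at h ⊢
  rw [map_mul, map_mul, map_mul, kill_kill_kill_Del] at h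
  exact Del0_mul_eq_zero h

end DelRegular

lemma xw_mem_L9 : (xw : D9 A) ∈ L9 A := Ideal.subset_span (by simp)

/-- `w` is regular modulo `J9`. -/
theorem mem_J9_of_xw_mul_mem_J9 {x : D9 A} (h : xw * x ∈ J9 A) : x ∈ J9 A := by
  obtain ⟨p, q, r, s, hx⟩ := mem_J9.1 h
  have hι : p * q1 + q * q2 + r * q3 ∈ I9 A := mem_I9.2 ⟨p, q, r, rfl⟩
  have h1 : Del * s ∈ L9 A := by
    have : Del * s = xw * x - (p * q1 + q * q2 + r * q3) := by linear_combination hx
    rw [this]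
    exact (L9 A).sub_mem ((L9 A).mul_mem_right _ xw_mem_L9) (I9_le_L9 hι)
  have h2 := Del_mul_L9 (mem_L9_of_Del_mul_mem h1)
  apply mem_J9_of_xw_mul_mem_I9
  rw [← hx, mul_comm s Del]
  exact (I9 A).add_mem hι h2

theorem mem_J9_of_xw_pow_mul_mem_J9 {x : D9 A} (n : ℕ) (h : xw ^ n * x ∈ J9 A) : x ∈ J9 A := by
  induction n with
  | zero => simpa using h
  | succ n ih =>
    apply ih
    apply mem_J9_of_xw_mul_mem_J9
    rw [← mul_assoc, ← pow_succ']
    exact h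

/-- `(I : L) = J`. -/
theorem colon_I9_L9 : (I9 A).colon (L9 A : Set (D9 A)) = J9 A := by
  apply le_antisymm
  · intro x hx
    rw [Submodule.mem_colon] at hx
    apply mem_J9_of_xw_mul_mem_I9
    have := hx xw xw_mem_L9
    rwa [smul_eq_mul, mul_comm] at this
  · intro x hx
    rw [Submodule.mem_colon]
    intro l hl
    obtain ⟨p, q, r, s, rfl⟩ := mem_J9.1 hx
    rw [smul_eq_mul, mul_comm]
    have : l * (p * q1 + q * q2 + r * q3 + s * Del) =
        l * (p * q1 + q * q2 + r * q3) + s * (Del * l) := by ring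
    rw [this]
    exact (I9 A).add_mem ((I9 A).mul_mem_left _ (mem_I9.2 ⟨p, q, r, rfl⟩))
      ((I9 A).mul_mem_left _ (Del_mul_L9 hl))

/-- `(I : J) = L`. -/
theorem colon_I9_J9 : (I9 A).colon (J9 A : Set (D9 A)) = L9 A := by
  apply le_antisymm
  · intro x hx
    rw [Submodule.mem_colon] at hx
    have := hx Del Del_mem_J9
    rw [smul_eq_mul] at this
    apply mem_L9_of_Del_mul_mem
    rw [mul_comm]
    exact I9_le_L9 this
  · intro x hx
    rw [Submodule.mem_colon]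
    intro y hy
    obtain ⟨p, q, r, s, rfl⟩ := mem_J9.1 hy
    rw [smul_eq_mul]
    have : x * (p * q1 + q * q2 + r * q3 + s * Del) =
        x * (p * q1 + q * q2 + r * q3) + s * (Del * x) := by ring
    rw [this]
    exact (I9 A).add_mem ((I9 A).mul_mem_left _ (mem_I9.2 ⟨p, q, r, rfl⟩))
      ((I9 A).mul_mem_left _ (Del_mul_L9 hx))

/-- `I = J ∩ L`. -/
theorem I9_eq_inf : I9 A = J9 A ⊓ L9 A := by
  apply le_antisymm
  · exact le_inf I9_le_J9 I9_le_L9
  · rintro x ⟨hxJ, hxL⟩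
    obtain ⟨p, q, r, s, rfl⟩ := mem_J9.1 hxJ
    have hι : p * q1 + q * q2 + r * q3 ∈ I9 A := mem_I9.2 ⟨p, q, r, rfl⟩
    have h1 : Del * s ∈ L9 A := by
      have : Del * s = (p * q1 + q * q2 + r * q3 + s * Del) - (p * q1 + q * q2 + r * q3) := by
        ring
      rw [this]
      exact (L9 A).sub_mem hxL (I9_le_L9 hι)
    have h2 := Del_mul_L9 (mem_L9_of_Del_mul_mem h1)
    rw [mul_comm s Del]
    exact (I9 A).add_mem hι h2

end Groth.Agent.Lib.Helper21.Lie3
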