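import Mathlib
import Groth.Agent.Lib.Helper21.Lie3C

/-!
# Lie3Mod (helper21), part E: the chart `w ≠ 0`; `J9` is the kernel of a map to a field
-/

set_option autoImplicit false
universe u

namespace Groth.Agent.Lib.Helper21.Lie3

open MvPolynomial

variable {A : Type u} [CommRing A]

/-- The polynomial ring in the six free coordinates `v,u,w,e,g,h`. -/
abbrev S6 (A : Type u) [CommRing A] := MvPolynomial (Fin 6) A

/-- Inclusion of the free coordinates. -/
noncomputable def iota (A : Type u) [CommRing A] : S6 A →ₐ[A] D9 A :=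
  aeval ![(X 0 : D9 A), X 1, X 3, X 4, X 6, X 7]

/-- images of pX, pY in S6 -/
noncomputable def sX : S6 A := X 4 * X 1 - X 5 * X 0
noncomputable def sY : S6 A := X 5 * X 1 + X 3 * X 0

lemma iota_sX : iota A sX = pX := by
  simp [iota, sX, pX]

lemma iota_sY : iota A sY = pY := by
  simp [iota, sY, pY]

/-- Every element of `D9`, multiplied by a power of `w`, is congruent modulo `I9` to a polynomial
in the six free coordinates. -/
theorem exists_pow_mul_sub_mem (x : D9 A) :
    ∃ (n : ℕ) (p : S6 A), xw ^ n * x - iota A p ∈ I9 A := by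
  induction x using MvPolynomial.induction_on with
  | C a => exact ⟨0, C a, by simp [iota]⟩
  | add x y hx hy =>
    obtain ⟨n, p, hp⟩ := hx
    obtain ⟨m, q, hq⟩ := hy
    refine ⟨n + m, X 2 ^ m * p + X 2 ^ n * q, ?_⟩
    have e : xw ^ (n + m) * (x + y) - iota A (X 2 ^ m * p + X 2 ^ n * q) =
        xw ^ m * (xw ^ n * x - iota A p) + xw ^ n * (xw ^ m * y - iota A q) := by
      simp only [map_add, map_mul, map_pow]
      have : iota A (X 2) = xw := by simp [iota]
      rw [this]
      ring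
    rw [e]
    exact (I9 A).add_mem ((I9 A).mul_mem_left _ hp) ((I9 A).mul_mem_left _ hq)
  | mul_X x k hx =>
    obtain ⟨n, p, hp⟩ := hx
    suffices h : ∃ (m : ℕ) (q : S6 A), xw ^ m * X k - iota A q ∈ I9 A by
      obtain ⟨m, q, hq⟩ := h
      refine ⟨n + m, p * q, ?_⟩
      have e : xw ^ (n + m) * (x * X k) - iota A (p * q) =
          (xw ^ m * X k) * (xw ^ n * x - iota A p) + iota A p * (xw ^ m * X k - iota A q) := by
        simp only [map_mul]
        ring
      rw [e]
      exact (I9 A).add_mem ((I9 A).mul_mem_left _ hp) ((I9 A).mul_mem_left _ hq)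
    fin_cases k
    · exact ⟨0, X 0, by simp [iota]⟩
    · exact ⟨0, X 1, by simp [iota]⟩
    · -- c : w^2 c ≡ u pX + v (w u - pY)
      refine ⟨2, X 1 * sX + X 0 * (X 2 * X 1 - sY), ?_⟩
      refine mem_I9.2 ⟨xu, -xv, xw, ?_⟩
      simp only [map_add, map_sub, map_mul, iota_sX, iota_sY]
      simp only [iota, aeval_X, q1, q2, q3, pZ]
      simp
      ring
    · exact ⟨0, X 2, by simp [iota]⟩
    · exact ⟨0, X 3, by simp [iota]⟩
    · -- f : w f ≡ w u - pY
      refine ⟨1, X 2 * X 1 - sY, ?_⟩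
      refine mem_I9.2 ⟨0, -1, 0, ?_⟩
      simp only [map_sub, map_mul, iota_sY]
      simp only [iota, aeval_X, q2]
      simp
      ring
    · exact ⟨0, X 4, by simp [iota]⟩
    · exact ⟨0, X 5, by simp [iota]⟩
    · -- i : w i ≡ pX
      refine ⟨1, sX, ?_⟩
      refine mem_I9.2 ⟨1, 0, 0, ?_⟩
      simp only [iota_sX, q1]
      simp

end Groth.Agent.Lib.Helper21.Lie3

namespace Groth.Agent.Lib.Helper21.Lie3

open MvPolynomial

section Field

variable {A : Type u} [CommRing A] [IsDomain A]

/-- The function field of the six free coordinates. -/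
abbrev K6 (A : Type u) [CommRing A] [IsDomain A] := FractionRing (S6 A)

noncomputable def kv : K6 A := algebraMap (S6 A) (K6 A) (X 0)
noncomputable def ku : K6 A := algebraMap (S6 A) (K6 A) (X 1)
noncomputable def kw : K6 A := algebraMap (S6 A) (K6 A) (X 2)
noncomputable def ke : K6 A := algebraMap (S6 A) (K6 A) (X 3)
noncomputable def kg : K6 A := algebraMap (S6 A) (K6 A) (X 4)
noncomputable def kh : K6 A := algebraMap (S6 A) (K6 A) (X 5)
noncomputable def ki : K6 A := (kg * ku - kh * kv) / kw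
noncomputable def kf : K6 A := ku - (kh * ku + ke * kv) / kw
noncomputable def kc : K6 A := (ku * ki + kv * kf) / kw

lemma kw_ne_zero : (kw : K6 A) ≠ 0 := by
  rw [kw, Ne, map_eq_zero_iff _ (IsFractionRing.injective (S6 A) (K6 A))]
  exact X_ne_zero _

/-- The chart map. -/
noncomputable def phi (A : Type u) [CommRing A] [IsDomain A] : D9 A →ₐ[A] K6 A :=
  aeval ![kv, ku, kc, kw, ke, kf, kg, kh, ki]

lemma phi_q1 : phi A q1 = 0 := by
  have hw := kw_ne_zero (A := A)
  simp only [phi, q1, pX, map_sub, map_mul, aeval_X]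
  simp only [ki]
  simp
  field_simp
  ring

lemma phi_q2 : phi A q2 = 0 := by
  have hw := kw_ne_zero (A := A)
  simp only [phi, q2, pY, map_sub, map_add, map_mul, aeval_X]
  simp only [kf]
  simp
  field_simp
  ring

lemma phi_q3 : phi A q3 = 0 := by
  have hw := kw_ne_zero (A := A)
  simp only [phi, q3, pZ, map_sub, map_add, map_mul, aeval_X]
  simp only [kc]
  simp
  field_simp
  ring

lemma phi_eq_zero_of_mem_I9 {x : D9 A} (hx : x ∈ I9 A) : phi A x = 0 := by
  obtain ⟨p, q, r, rfl⟩ := mem_I9.1 hx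
  rw [map_add, map_add, map_mul, map_mul, map_mul, phi_q1, phi_q2, phi_q3]
  ring

lemma phi_xw : phi A xw = kw := by simp [phi]

lemma phi_Del : phi A Del = 0 := by
  have h : phi A (xw * Del) = 0 := phi_eq_zero_of_mem_I9 (mem_I9.2 ⟨_, _, _, xw_Del.symm⟩)
  rw [map_mul, phi_xw] at h
  exact (mul_eq_zero.1 h).resolve_left kw_ne_zero

lemma phi_eq_zero_of_mem_J9 {x : D9 A} (hx : x ∈ J9 A) : phi A x = 0 := by
  obtain ⟨p, q, r, s, rfl⟩ := mem_J9.1 hx
  rw [map_add, map_mul _ s Del, phi_Del, mul_zero, add_zero]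
  exact phi_eq_zero_of_mem_I9 (mem_I9.2 ⟨p, q, r, rfl⟩)

lemma phi_iota (p : S6 A) : phi A (iota A p) = algebraMap (S6 A) (K6 A) p := by
  have : (phi A).comp (iota A) = IsScalarTower.toAlgHom A (S6 A) (K6 A) := by
    apply MvPolynomial.algHom_ext
    intro k
    fin_cases k <;> simp [phi, iota, kv, ku, kw, ke, kg, kh]
  exact DFunLike.congr_fun this p

/-- `J9` is the kernel of the chart map; in particular it is prime. -/
theorem J9_eq_ker : J9 A = RingHom.ker (phi A : D9 A →+* K6 A) := by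
  apply le_antisymm
  · intro x hx
    rw [RingHom.mem_ker]
    exact phi_eq_zero_of_mem_J9 hx
  · intro x hx
    rw [RingHom.mem_ker] at hx
    obtain ⟨n, p, hp⟩ := exists_pow_mul_sub_mem x
    have h1 := phi_eq_zero_of_mem_I9 hp
    rw [map_sub, map_mul] at h1
    have hx' : phi A x = 0 := hx
    rw [hx', mul_zero, zero_sub, neg_eq_zero, phi_iota,
      map_eq_zero_iff _ (IsFractionRing.injective (S6 A) (K6 A))] at h1
    rw [h1, map_zero, sub_zero] at hp
    exact mem_J9_of_xw_pow_mul_mem_J9 n (I9_le_J9 hp)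

instance J9_isPrime : (J9 A).IsPrime := by
  rw [J9_eq_ker]
  exact RingHom.ker_isPrime _

/-- `L9` is the kernel of the substitution `u, v, w ↦ 0`. -/
theorem L9_eq_ker : L9 A = RingHom.ker
    (((kill (0 : Fin 9)).comp ((kill (1 : Fin 9)).comp (kill (3 : Fin 9))) :
      D9 A →ₐ[A] D9 A) : D9 A →+* D9 A) := by
  ext x
  rw [RingHom.mem_ker, mem_L9_iff]
  rfl

instance L9_isPrime : (L9 A).IsPrime := by
  rw [L9_eq_ker]
  exact RingHom.ker_isPrime _

lemma xw_notMem_J9 : (xw : D9 A) ∉ J9 A := by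
  intro h
  have := phi_eq_zero_of_mem_J9 h
  rw [phi_xw] at this
  exact kw_ne_zero this

end Field

end Groth.Agent.Lib.Helper21.Lie3
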