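import Mathlib
import Groth.Prelude.Def_W4c1bouilletffgsL3
import Groth.Agent.Lib.Helper21.Lie3E

/-!
# Lie3Mod (helper21), part D: transfer to the original coordinates
-/

set_option autoImplicit false
universe u

namespace Groth.Agent.Lib.Helper21.Lie3

open MvPolynomial

section Transfer

variable {A : Type u} [CommRing A]

/-- The coordinate change `a ↦ v + i`, `b ↦ u - f`, `d ↦ w - h`. -/
noncomputable def tau (A : Type u) [CommRing A] : Lie3Mod.D A →ₐ[A] D9 A :=
  aeval ![(X 0 + X 8 : D9 A), X 1 - X 5, X 2, X 3 - X 7, X 4, X 5, X 6, X 7, X 8]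

/-- Its inverse. -/
noncomputable def tauInv (A : Type u) [CommRing A] : D9 A →ₐ[A] Lie3Mod.D A :=
  aeval ![(X 0 - X 8 : Lie3Mod.D A), X 1 + X 5, X 2, X 3 + X 7, X 4, X 5, X 6, X 7, X 8]

lemma tau_comp_tauInv : (tau A).comp (tauInv A) = AlgHom.id A (D9 A) := by
  apply MvPolynomial.algHom_ext
  intro k
  fin_cases k <;> simp [tau, tauInv]

lemma tauInv_comp_tau : (tauInv A).comp (tau A) = AlgHom.id A (Lie3Mod.D A) := by
  apply MvPolynomial.algHom_ext
  intro k
  fin_cases k <;> simp [tau, tauInv]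

lemma tau_tauInv (x : D9 A) : tau A (tauInv A x) = x :=
  DFunLike.congr_fun tau_comp_tauInv x

lemma tauInv_tau (x : Lie3Mod.D A) : tauInv A (tau A x) = x :=
  DFunLike.congr_fun tauInv_comp_tau x

lemma tau_surjective : Function.Surjective (tau A) := fun x => ⟨tauInv A x, tau_tauInv x⟩

lemma tau_injective : Function.Injective (tau A) := fun x y h => by
  rw [← tauInv_tau x, ← tauInv_tau y, h]

lemma tau_Q1 : tau A (Lie3Mod.Q1 A) = q1 := by
  simp [tau, Lie3Mod.Q1, q1, pX]; ring

lemma tau_Q2 : tau A (Lie3Mod.Q2 A) = q2 := by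
  simp [tau, Lie3Mod.Q2, q2, pY]; ring

lemma tau_Q3 : tau A (Lie3Mod.Q3 A) = q3 := by
  simp [tau, Lie3Mod.Q3, q3, pZ]; ring

lemma tau_detM : tau A (Lie3Mod.detM A) = Del := by
  simp [tau, Lie3Mod.detM, Del, kap, rho]; ring

lemma tau_L1 : tau A (Lie3Mod.L1 A) = xv := by
  simp [tau, Lie3Mod.L1]

lemma tau_L2 : tau A (Lie3Mod.L2 A) = xu := by
  simp [tau, Lie3Mod.L2]

lemma tau_L3 : tau A (Lie3Mod.L3 A) = xw := by
  simp [tau, Lie3Mod.L3]

lemma span_eq_comap {S : Set (Lie3Mod.D A)} {T : Set (D9 A)}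
    (h1 : ∀ s ∈ S, tau A s ∈ Ideal.span T) (h2 : ∀ t ∈ T, tauInv A t ∈ Ideal.span S) :
    Ideal.span S = Ideal.comap (tau A) (Ideal.span T) := by
  apply le_antisymm
  · rw [Ideal.span_le]
    intro s hs
    exact Ideal.mem_comap.2 (h1 s hs)
  · intro x hx
    rw [Ideal.mem_comap] at hx
    have hle : Ideal.span T ≤ Ideal.comap (tauInv A) (Ideal.span S) := by
      rw [Ideal.span_le]
      intro t ht
      exact Ideal.mem_comap.2 (h2 t ht)
    have := hle hx
    rwa [Ideal.mem_comap, tauInv_tau] at this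

theorem idI_eq_comap : Lie3Mod.idI A = Ideal.comap (tau A) (I9 A) := by
  apply span_eq_comap
  · intro s hs
    rcases hs with rfl | rfl | rfl
    · rw [tau_Q1]; exact Ideal.subset_span (by simp)
    · rw [tau_Q2]; exact Ideal.subset_span (by simp)
    · rw [tau_Q3]; exact Ideal.subset_span (by simp)
  · intro t ht
    rcases ht with rfl | rfl | rfl
    · rw [← tau_Q1, tauInv_tau]; exact Ideal.subset_span (by simp)
    · rw [← tau_Q2, tauInv_tau]; exact Ideal.subset_span (by simp)
    · rw [← tau_Q3, tauInv_tau]; exact Ideal.subset_span (by simp)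

theorem idJ_eq_comap : Lie3Mod.idJ A = Ideal.comap (tau A) (J9 A) := by
  apply span_eq_comap
  · intro s hs
    rcases hs with rfl | rfl | rfl | rfl
    · rw [tau_Q1]; exact Ideal.subset_span (by simp)
    · rw [tau_Q2]; exact Ideal.subset_span (by simp)
    · rw [tau_Q3]; exact Ideal.subset_span (by simp)
    · rw [tau_detM]; exact Ideal.subset_span (by simp)
  · intro t ht
    rcases ht with rfl | rfl | rfl | rfl
    · rw [← tau_Q1, tauInv_tau]; exact Ideal.subset_span (by simp)
    · rw [← tau_Q2, tauInv_tau]; exact Ideal.subset_span (by simp)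
    · rw [← tau_Q3, tauInv_tau]; exact Ideal.subset_span (by simp)
    · rw [← tau_detM, tauInv_tau]; exact Ideal.subset_span (by simp)

theorem idL_eq_comap : Lie3Mod.idL A = Ideal.comap (tau A) (L9 A) := by
  apply span_eq_comap
  · intro s hs
    rcases hs with rfl | rfl | rfl
    · rw [tau_L1]; exact Ideal.subset_span (by simp)
    · rw [tau_L2]; exact Ideal.subset_span (by simp)
    · rw [tau_L3]; exact Ideal.subset_span (by simp)
  · intro t ht
    rcases ht with rfl | rfl | rfl
    · rw [← tau_L1, tauInv_tau]; exact Ideal.subset_span (by simp)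
    · rw [← tau_L2, tauInv_tau]; exact Ideal.subset_span (by simp)
    · rw [← tau_L3, tauInv_tau]; exact Ideal.subset_span (by simp)

lemma comap_colon (I L : Ideal (D9 A)) :
    (Ideal.comap (tau A) I).colon ((Ideal.comap (tau A) L : Ideal (Lie3Mod.D A)) :
      Set (Lie3Mod.D A)) = Ideal.comap (tau A) (I.colon (L : Set (D9 A))) := by
  ext x
  rw [Submodule.mem_colon, Ideal.mem_comap, Submodule.mem_colon]
  constructor
  · intro h l hl
    have := h (tauInv A l) (by
      rw [SetLike.mem_coe, Ideal.mem_comap, tau_tauInv]; exact hl)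
    rwa [Ideal.mem_comap, smul_eq_mul, map_mul, tau_tauInv] at this
  · intro h l hl
    rw [Ideal.mem_comap, smul_eq_mul, map_mul]
    exact h (tau A l) hl

/-- `(I : L) = J` over any commutative ring. -/
theorem colon_idI_idL :
    (Lie3Mod.idI A).colon (Lie3Mod.idL A : Set (Lie3Mod.D A)) = Lie3Mod.idJ A := by
  rw [idI_eq_comap, idL_eq_comap, idJ_eq_comap, comap_colon, colon_I9_L9]

/-- `(I : J) = L` over any commutative ring. -/
theorem colon_idI_idJ :
    (Lie3Mod.idI A).colon (Lie3Mod.idJ A : Set (Lie3Mod.D A)) = Lie3Mod.idL A := by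
  rw [idI_eq_comap, idL_eq_comap, idJ_eq_comap, comap_colon, colon_I9_J9]

/-- `I = J ∩ L` over any commutative ring. -/
theorem idI_eq_inf : Lie3Mod.idI A = Lie3Mod.idJ A ⊓ Lie3Mod.idL A := by
  rw [idI_eq_comap, idL_eq_comap, idJ_eq_comap, ← Ideal.comap_inf, ← I9_eq_inf]

end Transfer

section Domain

variable {A : Type u} [CommRing A] [IsDomain A]

instance idJ_isPrime : (Lie3Mod.idJ A).IsPrime := by
  rw [idJ_eq_comap]
  exact Ideal.comap_isPrime _ _

instance idL_isPrime : (Lie3Mod.idL A).IsPrime := by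
  rw [idL_eq_comap]
  exact Ideal.comap_isPrime _ _

lemma Del_notMem_L9 : (Del : D9 A) ∉ L9 A := by
  intro h
  rw [mem_L9_iff, kill_kill_kill_Del] at h
  have : (1 : D9 A) = 0 := Del0_mul_eq_zero (t := 1) (by rw [h, zero_mul])
  exact one_ne_zero this

theorem L9_mem_minimalPrimes : L9 A ∈ (I9 A).minimalPrimes := by
  refine ⟨⟨inferInstance, I9_le_L9⟩, ?_⟩
  rintro q ⟨hq, hIq⟩ _
  intro l hl
  have h1 : Del * l ∈ q := hIq (Del_mul_L9 hl)
  rcases hq.mem_or_mem h1 with h2 | h2
  · exact absurd (by assumption : q ≤ L9 A) (fun hle => Del_notMem_L9 (hle h2))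
  · exact h2

theorem J9_mem_minimalPrimes : J9 A ∈ (I9 A).minimalPrimes := by
  refine ⟨⟨inferInstance, I9_le_J9⟩, ?_⟩
  rintro q ⟨hq, hIq⟩ hqJ
  have hmul : J9 A * L9 A ≤ q := by
    rw [Ideal.mul_le]
    intro x hx l hl
    apply hIq
    have : x ∈ (I9 A).colon (L9 A : Set (D9 A)) := by rw [colon_I9_L9]; exact hx
    rw [Submodule.mem_colon] at this
    exact this l hl
  rcases hq.mul_le.1 hmul with h | h
  · exact h
  · exact absurd (hqJ (h xw_mem_L9)) xw_notMem_J9

theorem idL_mem_minimalPrimes : Lie3Mod.idL A ∈ (Lie3Mod.idI A).minimalPrimes := by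
  rw [idI_eq_comap, idL_eq_comap]
  exact Ideal.minimalPrimes_comap_of_surjective (f := (tau A : Lie3Mod.D A →+* D9 A))
    tau_surjective L9_mem_minimalPrimes

theorem idJ_mem_minimalPrimes : Lie3Mod.idJ A ∈ (Lie3Mod.idI A).minimalPrimes := by
  rw [idI_eq_comap, idJ_eq_comap]
  exact Ideal.minimalPrimes_comap_of_surjective (f := (tau A : Lie3Mod.D A →+* D9 A))
    tau_surjective J9_mem_minimalPrimes

/-- `J` is the kernel of a ring homomorphism to a field. -/
theorem idJ_eq_ker :
    Lie3Mod.idJ A = RingHom.ker (((phi A).comp (tau A) : Lie3Mod.D A →ₐ[A] K6 A) :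
      Lie3Mod.D A →+* K6 A) := by
  rw [idJ_eq_comap, J9_eq_ker]
  rfl

end Domain

end Groth.Agent.Lib.Helper21.Lie3
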