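import Mathlib
import Groth.Agent.Lib.Helper21.Lie3D

/-!
# Lie3Mod (helper21), part F: flatness over the integers
-/

set_option autoImplicit false
universe u

namespace Groth.Agent.Lib.Helper21.Lie3

open MvPolynomial

/-- A quotient of a ring by the kernel of a homomorphism to an additively torsion-free ring is a
flat `ℤ`-module. -/
theorem flat_int_quotient_of_eq_ker {R K : Type*} [CommRing R] [CommRing K] [IsAddTorsionFree K]
    (I : Ideal R) (Φ : R →+* K) (h : I = RingHom.ker Φ) : Module.Flat ℤ (R ⧸ I) := by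
  let f : (R ⧸ I) →+* K := Ideal.Quotient.lift I Φ (fun x hx => by rw [h] at hx; exact hx)
  have hf : Function.Injective f := by
    rw [injective_iff_map_eq_zero]
    intro x hx
    obtain ⟨y, rfl⟩ := Ideal.Quotient.mk_surjective x
    have hx' : Φ y = 0 := hx
    rw [Ideal.Quotient.eq_zero_iff_mem, h]
    exact hx'
  have : Module.IsTorsionFree ℤ (R ⧸ I) :=
    Function.Injective.moduleIsTorsionFree f hf (fun r m => map_zsmul f r m)
  infer_instance

noncomputable instance : CharZero (K6 ℤ) := IsFractionRing.charZero_of_isFractionRing (S6 ℤ)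

theorem flat_int_quotient_idJ : Module.Flat ℤ (Lie3Mod.D ℤ ⧸ Lie3Mod.idJ ℤ) :=
  flat_int_quotient_of_eq_ker _ _ idJ_eq_ker

/-- `L` is the kernel of the substitution `a ↦ i, b ↦ -f, d ↦ -h`. -/
theorem idL_eq_ker {A : Type u} [CommRing A] :
    Lie3Mod.idL A = RingHom.ker
      ((((kill (0 : Fin 9)).comp ((kill (1 : Fin 9)).comp (kill (3 : Fin 9)))).comp (tau A) :
        Lie3Mod.D A →ₐ[A] D9 A) : Lie3Mod.D A →+* D9 A) := by
  rw [idL_eq_comap]
  ext x
  rw [Ideal.mem_comap, RingHom.mem_ker, mem_L9_iff]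
  rfl

theorem flat_int_quotient_idI : Module.Flat ℤ (Lie3Mod.D ℤ ⧸ Lie3Mod.idI ℤ) := by
  refine flat_int_quotient_of_eq_ker (K := K6 ℤ × D9 ℤ) _
    (RingHom.prod
      (((phi ℤ).comp (tau ℤ) : Lie3Mod.D ℤ →ₐ[ℤ] K6 ℤ) : Lie3Mod.D ℤ →+* K6 ℤ)
      ((((kill (0 : Fin 9)).comp ((kill (1 : Fin 9)).comp (kill (3 : Fin 9)))).comp (tau ℤ) :
        Lie3Mod.D ℤ →ₐ[ℤ] D9 ℤ) : Lie3Mod.D ℤ →+* D9 ℤ)) ?_
  rw [idI_eq_inf]
  ext x
  rw [Ideal.mem_inf, RingHom.mem_ker, RingHom.prod_apply, Prod.mk_eq_zero, idJ_eq_ker (A := ℤ),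
    idL_eq_ker (A := ℤ), RingHom.mem_ker, RingHom.mem_ker]

theorem idI_isRadical : (Lie3Mod.idI ℤ).IsRadical := by
  rw [idI_eq_inf]
  exact Ideal.IsRadical.inf (Ideal.IsPrime.isRadical inferInstance)
    (Ideal.IsPrime.isRadical inferInstance)

end Groth.Agent.Lib.Helper21.Lie3
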