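import Mathlib

namespace Groth.Agent.Lib.Helper21.LimEq

open CategoryTheory CategoryTheory.Limits Opposite

universe w v₁ v₂ u₁ u₂

section
variable {I : Type u₁} [Category.{v₁} I] {C : Type u₂} [Category.{v₂} C] {A : Type w} (i : A → I)
  [∀ α β, HasBinaryProduct (i α) (i β)]
  (hcov : ∀ j : I, ∃ α, Nonempty (j ⟶ i α))
  (F : Iᵒᵖ ⥤ C)
  [HasProduct (fun α => F.obj (op (i α)))]
  [HasProduct (fun p : A × A => F.obj (op (i p.1 ⨯ i p.2)))]

/-- first map of the pair -/
noncomputable def mapA : (∏ᶜ fun α => F.obj (op (i α))) ⟶ ∏ᶜ fun p : A × A => F.obj (op (i p.1 ⨯ i p.2)) :=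
  Pi.lift (fun p : A × A =>
    Pi.π (fun α => F.obj (op (i α))) p.1 ≫ F.map (prod.fst : i p.1 ⨯ i p.2 ⟶ i p.1).op)

/-- second map of the pair -/
noncomputable def mapB : (∏ᶜ fun α => F.obj (op (i α))) ⟶ ∏ᶜ fun p : A × A => F.obj (op (i p.1 ⨯ i p.2)) :=
  Pi.lift (fun p : A × A =>
    Pi.π (fun α => F.obj (op (i α))) p.2 ≫ F.map (prod.snd : i p.1 ⨯ i p.2 ⟶ i p.2).op)

variable {T : C} (t : T ⟶ ∏ᶜ fun α => F.obj (op (i α))) (ht : t ≫ mapA i F = t ≫ mapB i F)

include ht in
theorem key (j : I) (α β : A) (m : j ⟶ i α) (m' : j ⟶ i β) :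
    t ≫ Pi.π (fun α => F.obj (op (i α))) α ≫ F.map m.op =
      t ≫ Pi.π (fun α => F.obj (op (i α))) β ≫ F.map m'.op := by
  have h := congrArg (fun x => x ≫ Pi.π (fun p : A × A => F.obj (op (i p.1 ⨯ i p.2))) (α, β)) ht
  simp only [mapA, mapB, Category.assoc, Pi.lift_π] at h
  have h' := congrArg (fun x => x ≫ F.map (prod.lift m m').op) h
  simp only [Category.assoc, ← F.map_comp, ← op_comp, prod.lift_fst, prod.lift_snd] at h'
  exact h'

/-- a chosen covering index -/
noncomputable def idx (j : I) : A := (hcov j).choose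

/-- a chosen covering map -/
noncomputable def cov (j : I) : j ⟶ i (idx i hcov j) := (hcov j).choose_spec.some

/-- the cone defined by a map equalizing the pair -/
noncomputable def coneOf : Cone F where
  pt := T
  π :=
    { app := fun x => t ≫ Pi.π (fun α => F.obj (op (i α))) (idx i hcov x.unop) ≫
        F.map (cov i hcov x.unop).op
      naturality := by
        intro x y f
        simp only [Functor.const_obj_obj, Functor.const_obj_map, Category.id_comp, Category.assoc]
        have h1 : F.map (cov i hcov x.unop).op ≫ F.map f =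
            F.map (f.unop ≫ cov i hcov x.unop).op := by
          rw [op_comp, F.map_comp, Quiver.Hom.op_unop]
        rw [h1]
        exact (key i F t ht y.unop _ _ _ _) }

theorem coneOf_π_cov (α : A) :
    (coneOf i hcov F t ht).π.app (op (i α)) = t ≫ Pi.π (fun α => F.obj (op (i α))) α := by
  have h := key i F t ht (i α) (idx i hcov (i α)) α (cov i hcov (i α)) (𝟙 _)
  simp only [op_id, F.map_id, Category.comp_id] at h
  exact h

end

section
variable {I : Type u₁} [Category.{v₁} I] {C : Type u₂} [Category.{v₂} C] {A : Type w} (i : A → I)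
  [∀ α β, HasBinaryProduct (i α) (i β)]
  (hcov : ∀ j : I, ∃ α, Nonempty (j ⟶ i α))
  (F : Iᵒᵖ ⥤ C) [HasEqualizers C]
  [HasProduct (fun α => F.obj (op (i α)))]
  [HasProduct (fun p : A × A => F.obj (op (i p.1 ⨯ i p.2)))]

theorem cone_equalizes (s : Cone F) :
    Pi.lift (fun α => s.π.app (op (i α))) ≫ mapA i F =
      Pi.lift (fun α => s.π.app (op (i α))) ≫ mapB i F := by
  apply Pi.hom_ext
  intro p
  simp only [mapA, mapB, Category.assoc, Pi.lift_π, Pi.lift_π_assoc]
  rw [s.w, s.w]

/-- the limit cone -/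
noncomputable def limCone : Cone F :=
  coneOf i hcov F (equalizer.ι (mapA i F) (mapB i F)) (equalizer.condition _ _)

/-- it is a limit -/
noncomputable def limConeIsLimit : IsLimit (limCone i hcov F) where
  lift s := equalizer.lift (Pi.lift (fun α => s.π.app (op (i α)))) (cone_equalizes i F s)
  fac s x := by
    show equalizer.lift _ _ ≫ equalizer.ι _ _ ≫
      Pi.π (fun α => F.obj (op (i α))) (idx i hcov x.unop) ≫ F.map (cov i hcov x.unop).op = _
    rw [equalizer.lift_ι_assoc, Pi.lift_π_assoc]
    exact s.w (cov i hcov x.unop).op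
  uniq s m hm := by
    apply equalizer.hom_ext
    rw [equalizer.lift_ι]
    apply Pi.hom_ext
    intro α
    rw [Pi.lift_π, ← hm (op (i α))]
    have := coneOf_π_cov i hcov F (equalizer.ι (mapA i F) (mapB i F)) (equalizer.condition _ _) α
    show _ = m ≫ (coneOf i hcov F (equalizer.ι (mapA i F) (mapB i F))
      (equalizer.condition _ _)).π.app (op (i α))
    rw [this, Category.assoc]
    rfl

include i hcov in
theorem hasLimit_of_cover : HasLimit F := ⟨⟨⟨limCone i hcov F, limConeIsLimit i hcov F⟩⟩⟩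

include hcov in
theorem main :
    HasLimit F ∧ ∀ [HasLimit F],
      Mono (Pi.lift (fun α => limit.π F (op (i α)))) ∧
      ∀ (T : C) (t : T ⟶ ∏ᶜ (fun α => F.obj (op (i α)))),
        (∃ s : T ⟶ limit F, s ≫ Pi.lift (fun α => limit.π F (op (i α))) = t) ↔
        t ≫ Pi.lift (fun p : A × A =>
            Pi.π (fun α => F.obj (op (i α))) p.1 ≫ F.map (prod.fst : i p.1 ⨯ i p.2 ⟶ i p.1).op) =
        t ≫ Pi.lift (fun p : A × A =>
            Pi.π (fun α => F.obj (op (i α))) p.2 ≫ F.map (prod.snd : i p.1 ⨯ i p.2 ⟶ i p.2).op) := by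
  refine ⟨hasLimit_of_cover i hcov F, ?_⟩
  intro _
  refine ⟨?_, ?_⟩
  · constructor
    intro T u v huv
    apply limit.hom_ext
    intro x
    have h1 : limit.π F x = limit.π F (op (i (idx i hcov x.unop))) ≫
        F.map (cov i hcov x.unop).op := (limit.w F (cov i hcov x.unop).op).symm
    have h2 := congrArg (fun y => y ≫ Pi.π (fun α => F.obj (op (i α))) (idx i hcov x.unop)) huv
    simp only [Category.assoc, Pi.lift_π] at h2
    rw [h1, ← Category.assoc, h2, Category.assoc]
  · intro T t
    constructor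
    · rintro ⟨s, rfl⟩
      have := cone_equalizes i F (limit.cone F)
      simp only [mapA, mapB, limit.cone_π] at this
      rw [Category.assoc, Category.assoc]
      exact congrArg (fun x => s ≫ x) this
    · intro ht
      have ht' : t ≫ mapA i F = t ≫ mapB i F := ht
      refine ⟨limit.lift F (coneOf i hcov F t ht'), ?_⟩
      apply Pi.hom_ext
      intro α
      rw [Category.assoc, Pi.lift_π]
      exact (limit.lift_π (coneOf i hcov F t ht') (op (i α))).trans
        (coneOf_π_cov i hcov F t ht' α)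

end

end Groth.Agent.Lib.Helper21.LimEq
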