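import Mathlib.LinearAlgebra.FiniteDimensional.Lemmas
import Mathlib.LinearAlgebra.FiniteDimensional.Basic
import Mathlib.LinearAlgebra.Dimension.Constructions
import Mathlib.Tactic

/-!
Small linear algebra helpers.
-/

set_option autoImplicit false
universe u v

namespace Groth.Agent.Lib.Helper21

open Module

/-- between two nested finite-dimensional subspaces there is a subspace of any intermediate dimension -/
theorem exists_submodule_between {k : Type u} [Field k] {E : Type v} [AddCommGroup E] [Module k E]
    [FiniteDimensional k E] (n : ℕ) :
    ∀ (m : ℕ) (A B : Submodule k E), A ≤ B → finrank k A + m = n → n ≤ finrank k B →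
      ∃ V : Submodule k E, A ≤ V ∧ V ≤ B ∧ finrank k V = n := by
  intro m
  induction m with
  | zero =>
    intro A B hAB h1 _
    exact ⟨A, le_rfl, hAB, by omega⟩
  | succ m ih =>
    intro A B hAB h1 h2
    have hlt : A < B := by
      rcases hAB.lt_or_eq with h | h
      · exact h
      · subst h; omega
    obtain ⟨x, hxB, hxA⟩ := SetLike.exists_of_lt hlt
    set A' : Submodule k E := A ⊔ Submodule.span k {x} with hA'
    have hA'B : A' ≤ B := sup_le hAB ((Submodule.span_singleton_le_iff_mem x B).2 hxB)
    have hAA' : A < A' := by
      refine lt_of_le_of_ne le_sup_left ?_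
      intro h
      apply hxA
      rw [h]
      exact Submodule.mem_sup_right (Submodule.mem_span_singleton_self x)
    have h3 : finrank k A < finrank k A' := Submodule.finrank_lt_finrank_of_lt hAA'
    have h4 : finrank k A' ≤ finrank k A + 1 := by
      refine (Submodule.finrank_add_le_finrank_add_finrank A (Submodule.span k {x})).trans ?_
      have : finrank k (Submodule.span k {x}) ≤ 1 := by
        refine (finrank_span_le_card ({x} : Set E)).trans ?_
        simp
      omega
    exact
      let ⟨V, hV1, hV2, hV3⟩ := ih A' B hA'B (by omega) h2
      ⟨V, le_sup_left.trans hV1, hV2, hV3⟩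

/-- a hyperplane `H` not containing `W` cuts `W` in codimension one -/
theorem finrank_inf_hyperplane {k : Type u} [Field k] {E : Type v} [AddCommGroup E] [Module k E]
    [FiniteDimensional k E] (n : ℕ) (hE : finrank k E = n + 1) (H W : Submodule k E)
    (hH : finrank k H = n) (hW : ¬ W ≤ H) : finrank k ↥(H ⊓ W) + 1 = finrank k W := by
  have h1 := Submodule.finrank_sup_add_finrank_inf_eq H W
  have hlt : H < H ⊔ W := by
    refine lt_of_le_of_ne le_sup_left ?_
    intro h
    apply hW
    rw [h]
    exact le_sup_right
  have h2 : finrank k H < finrank k ↥(H ⊔ W) := Submodule.finrank_lt_finrank_of_lt hlt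
  have h3 : finrank k ↥(H ⊔ W) ≤ finrank k E := Submodule.finrank_le _
  omega

end Groth.Agent.Lib.Helper21
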