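import Mathlib
import Groth.Prelude.Def_ModSite
import Groth.Agent.Lib.Helper13.TensorLocal
import Groth.Agent.Lib.Helper21.StalkFlatO
import Groth.Agent.Lib.Helper21.StalkFlatP
import Groth.Agent.Lib.Helper21.StalkFlatQ

/-!
# Local lifting of morphisms out of direct summands of finite free modules along epimorphisms
-/

set_option autoImplicit false
universe u

open CategoryTheory CategoryTheory.Limits Opposite SheafOfModules
open Groth.Agent.Lib.Helper21.StalkFlatP Groth.Agent.Lib.Helper21.StalkFlatQ
  Groth.Agent.Lib.Helper21.StalkFlatO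

namespace Groth.Agent.Lib.Helper21.LocalLift

variable {C : Type u} [SmallCategory C] {J : GrothendieckTopology C} {O : Sheaf J CommRingCat.{u}}

/-- An epimorphism of sheaves of modules is locally surjective on sections. -/
lemma exists_local_preimage {G F : ModSite.Mod O} (p : G ⟶ F) [Epi p] {V : C}
    (s : F.val.obj (op V)) :
    ∃ S ∈ J V, ∀ ⦃W : C⦄ (g : W ⟶ V), S g →
      ∃ t : G.val.obj (op W), p.val.app (op W) t = F.val.map g.op s := by
  haveI : Epi ((SheafOfModules.toSheaf.{u} (ModSite.ringSh O)).map p) := inferInstance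
  haveI h : Sheaf.IsLocallySurjective ((SheafOfModules.toSheaf.{u} (ModSite.ringSh O)).map p) :=
    (Sheaf.isLocallySurjective_iff_epi' AddCommGrpCat.{u} _).2 inferInstance
  have hs : Presheaf.imageSieve ((SheafOfModules.toSheaf.{u} (ModSite.ringSh O)).map p).hom
      (show ToType (((SheafOfModules.toSheaf.{u} (ModSite.ringSh O)).obj F).obj.obj (op V))
        from s) ∈ J V :=
    Presheaf.IsLocallySurjective.imageSieve_mem _
  refine ⟨_, hs, ?_⟩
  rintro W g ⟨t, ht⟩
  exact ⟨t, ht⟩

instance overFunctor_additive (W : C) :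
    (SheafOfModules.overFunctor.{u} (ModSite.ringSh O) W).Additive :=
  haveI : (SheafOfModules.overFunctor.{u} (ModSite.ringSh O) W).IsRightAdjoint :=
    ModSite.isRightAdjoint_restr O W
  Functor.additive_of_preserves_binary_products _

/-- The unit restricts to the unit. -/
noncomputable def overUnitIso (W : C) :
    (SheafOfModules.overFunctor.{u} (ModSite.ringSh O) W).obj (unit (ModSite.ringSh O)) ≅
      unit ((ModSite.ringSh O).over W) :=
  Iso.refl _

lemma ev_comp_map {W : C} {M N : SheafOfModules.{u} ((ModSite.ringSh O).over W)}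
    (x : unit ((ModSite.ringSh O).over W) ⟶ M) (f : M ⟶ N) :
    ev (x ≫ f) = f.val.app (op (T W)) (ev x) := rfl

lemma ev_overUnitIso_inv_map {W : C} {F : ModSite.Mod O} (x : unit (ModSite.ringSh O) ⟶ F) :
    (show F.val.obj (op W) from ev ((overUnitIso W).inv ≫
      (SheafOfModules.overFunctor.{u} (ModSite.ringSh O) W).map x)) =
    x.val.app (op W) (1 : (ModSite.ringSh O).obj.obj (op W)) := rfl

theorem exists_local_lift {E F G : ModSite.Mod O} {I : Type u} [Finite I]
    (i : E ⟶ free I) (r : free I ⟶ E) (hir : i ≫ r = 𝟙 E) (p : G ⟶ F) [Epi p] (φ : E ⟶ F)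
    (V : C) :
    ∃ S ∈ J V, ∀ ⦃W : C⦄ (g : W ⟶ V), S g →
      ∃ l : (SheafOfModules.overFunctor.{u} (ModSite.ringSh O) W).obj E ⟶
          (SheafOfModules.overFunctor.{u} (ModSite.ringSh O) W).obj G,
        l ≫ (SheafOfModules.overFunctor.{u} (ModSite.ringSh O) W).map p =
          (SheafOfModules.overFunctor.{u} (ModSite.ringSh O) W).map φ := by
  classical
  obtain ⟨n, ⟨e⟩⟩ := Finite.exists_equiv_fin I
  let x : I → (unit (ModSite.ringSh O) ⟶ F) := fun k => ιFree k ≫ r ≫ φ
  let s : I → F.val.obj (op V) :=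
    fun k => (x k).val.app (op V) (1 : (ModSite.ringSh O).obj.obj (op V))
  obtain ⟨S, hS, h⟩ := Groth.Agent.Lib.Helper13.TensorLocal.exists_covering_forall_fin
    (J := J) (U := V) n
    (fun q W g => ∃ t : G.val.obj (op W), p.val.app (op W) t = F.val.map g.op (s (e.symm q)))
    (fun q => exists_local_preimage p (s (e.symm q)))
  refine ⟨S, hS, fun W g hg => ?_⟩
  have h' : ∀ k : I, ∃ t : G.val.obj (op W), p.val.app (op W) t = F.val.map g.op (s k) := by
    intro k
    have := h g hg (e k)
    rwa [Equiv.symm_apply_apply] at this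
  choose t ht using h'
  let Gr := SheafOfModules.overFunctor.{u} (ModSite.ringSh O) W
  haveI : PreservesColimitsOfShape (Discrete (Fin n)) Gr :=
    PreservesFiniteCoproducts.preserves n
  haveI : PreservesColimitsOfShape (Discrete I) Gr :=
    preservesColimitsOfShape_of_equiv (Discrete.equivalence e.symm) Gr
  let hc : IsColimit (Cofan.mk (Gr.obj (free I)) fun k : I => Gr.map (ιFree k)) :=
    isColimitCofanMkObjOfIsColimit Gr (fun _ : I => unit (ModSite.ringSh O))
      (fun k : I => ιFree (R := ModSite.ringSh O) k)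
      (isColimitFreeCofan (R := ModSite.ringSh O) I)
  let y : I → (Gr.obj (unit (ModSite.ringSh O)) ⟶ Gr.obj G) :=
    fun k => (overUnitIso W).hom ≫ ofSec (show (Gr.obj G).val.obj (op (T W)) from t k)
  let l' : Gr.obj (free I) ⟶ Gr.obj G := Cofan.IsColimit.desc hc y
  have hl' : ∀ k, Gr.map (ιFree k) ≫ l' = y k := fun k => Cofan.IsColimit.fac hc y k
  have key : l' ≫ Gr.map p = Gr.map (r ≫ φ) := by
    apply Cofan.IsColimit.hom_ext hc
    intro k
    show Gr.map (ιFree k) ≫ l' ≫ Gr.map p = Gr.map (ιFree k) ≫ Gr.map (r ≫ φ)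
    rw [← Category.assoc, hl', ← Gr.map_comp]
    show ((overUnitIso W).hom ≫ ofSec (show (Gr.obj G).val.obj (op (T W)) from t k)) ≫ Gr.map p =
      Gr.map (x k)
    rw [Category.assoc, ← Iso.eq_inv_comp]
    apply ev_injective
    rw [ev_comp_map, ev_ofSec]
    have e1 := ev_overUnitIso_inv_map (W := W) (x k)
    have e2 : p.val.app (op W) (t k) =
        (x k).val.app (op W) (1 : (ModSite.ringSh O).obj.obj (op W)) := by
      rw [ht k]
      have := PresheafOfModules.naturality_apply (x k).val g.op
        (1 : (ModSite.ringSh O).obj.obj (op V))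
      rw [← this]
      congr 1
      exact map_one ((ModSite.ringSh O).obj.map g.op).hom
    exact e2.trans e1.symm
  refine ⟨Gr.map i ≫ l', ?_⟩
  rw [Category.assoc, key, ← Gr.map_comp, ← Category.assoc, hir, Category.id_comp]

end Groth.Agent.Lib.Helper21.LocalLift
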