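import Mathlib
import Groth.Agent.Lib.Helper18.DRTorD
import Groth.Agent.Lib.Helper10.LiftProj

/-!
# Complexes of images of idempotent matrices, their base change, and descent along filtered
colimits of rings

* `MData A n`: families `e i`, `D i` of `n × n` matrices over `A` with `e i` idempotent,
  `D i = e (i+1) D i e i`, `D (i+1) D i = 0`; `MData.C` is the complex of the images of the `e i`.
* `exists_mdata`: every bounded complex of finite projective modules is of this form.
* `baseChangeIso`: termwise extension of scalars of `m.C` is `(m.map φ).C`.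
* `exists_descent`: matrix data over a filtered colimit of rings come from a stage.
-/

set_option autoImplicit false
universe u
open CategoryTheory CategoryTheory.Limits TensorProduct

namespace Groth.Agent.Lib.Helper21.MatCx

open Groth.Agent.Lib.Helper18.DR

/-- matrix data for a complex of finite projective modules -/
@[ext]
structure MData (A : Type u) [CommRing A] (n : ℕ) where
  e : ℤ → Matrix (Fin n) (Fin n) A
  D : ℤ → Matrix (Fin n) (Fin n) A
  ee : ∀ i, e i * e i = e i
  De : ∀ i, D i * e i = D i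
  eD : ∀ i, e (i + 1) * D i = D i
  DD : ∀ i, D (i + 1) * D i = 0

namespace MData

variable {A : Type u} [CommRing A] {n : ℕ} (m : MData A n)

/-- the terms -/
noncomputable abbrev X (i : ℤ) : ModuleCat.{u} A :=
  ModuleCat.of A (LinearMap.range (Matrix.toLin' (m.e i)))

lemma D_mem (i : ℤ) (v : Fin n → A) :
    Matrix.toLin' (m.D i) v ∈ LinearMap.range (Matrix.toLin' (m.e (i + 1))) :=
  LinearMap.mem_range.2 ⟨Matrix.toLin' (m.D i) v, by rw [← Matrix.toLin'_mul_apply, m.eD]⟩

/-- the differential -/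
noncomputable def dL (i : ℤ) : LinearMap.range (Matrix.toLin' (m.e i)) →ₗ[A]
    LinearMap.range (Matrix.toLin' (m.e (i + 1))) :=
  LinearMap.codRestrict _
    ((Matrix.toLin' (m.D i)).comp (LinearMap.range (Matrix.toLin' (m.e i))).subtype)
    (fun v => m.D_mem i v)

lemma e_apply_mem (i : ℤ) (v : LinearMap.range (Matrix.toLin' (m.e i))) :
    Matrix.toLin' (m.e i) (v : Fin n → A) = v := by
  obtain ⟨_, y, rfl⟩ := v
  show Matrix.toLin' (m.e i) (Matrix.toLin' (m.e i) y) = Matrix.toLin' (m.e i) y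
  rw [← Matrix.toLin'_mul_apply, m.ee]

/-- the complex of the images of the idempotents -/
noncomputable def C : DRing.Cx A :=
  CochainComplex.of m.X (fun i => ModuleCat.ofHom (m.dL i)) (fun i => by
    rw [← ModuleCat.ofHom_comp]
    have h : (m.dL (i + 1)).comp (m.dL i) = 0 := by
      apply LinearMap.ext
      intro v
      apply Subtype.ext
      show Matrix.toLin' (m.D (i + 1)) (Matrix.toLin' (m.D i) (v : Fin n → A)) = 0
      rw [← Matrix.toLin'_mul_apply, m.DD, map_zero, LinearMap.zero_apply]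
    rw [h]
    rfl)

/-- the ambient complex of free modules -/
noncomputable def Fr : DRing.Cx A :=
  CochainComplex.of (fun _ => ModuleCat.of A (Fin n → A))
    (fun i => ModuleCat.ofHom (Matrix.toLin' (m.D i))) (fun i => by
      rw [← ModuleCat.ofHom_comp, ← Matrix.toLin'_mul, m.DD, map_zero]
      rfl)

lemma C_d (i : ℤ) : m.C.d i (i + 1) = ModuleCat.ofHom (m.dL i) :=
  CochainComplex.of_d m.X (fun i => ModuleCat.ofHom (m.dL i)) i

lemma Fr_d (i : ℤ) : m.Fr.d i (i + 1) = ModuleCat.ofHom (Matrix.toLin' (m.D i)) :=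
  CochainComplex.of_d (fun _ => ModuleCat.of A (Fin n → A))
    (fun i => ModuleCat.ofHom (Matrix.toLin' (m.D i))) i

/-- the inclusion -/
noncomputable def ι : m.C ⟶ m.Fr :=
  CochainComplex.ofHom (X := m.C) (Y := m.Fr)
    (fun i => ModuleCat.ofHom (LinearMap.range (Matrix.toLin' (m.e i))).subtype) (fun i => by
      show ModuleCat.ofHom (LinearMap.range (Matrix.toLin' (m.e i))).subtype ≫ m.Fr.d i (i + 1) =
        m.C.d i (i + 1) ≫ ModuleCat.ofHom (LinearMap.range (Matrix.toLin' (m.e (i + 1)))).subtype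
      have h : (LinearMap.range (Matrix.toLin' (m.e (i + 1)))).subtype.comp (m.dL i) =
          (Matrix.toLin' (m.D i)).comp (LinearMap.range (Matrix.toLin' (m.e i))).subtype :=
        LinearMap.subtype_comp_codRestrict _ _ _
      rw [C_d, Fr_d]
      show ModuleCat.ofHom (LinearMap.range (Matrix.toLin' (m.e i))).subtype ≫
          ModuleCat.ofHom (Matrix.toLin' (m.D i)) =
        ModuleCat.ofHom (m.dL i) ≫
          ModuleCat.ofHom (LinearMap.range (Matrix.toLin' (m.e (i + 1)))).subtype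
      rw [← ModuleCat.ofHom_comp, ← ModuleCat.ofHom_comp, h])

/-- the projection -/
noncomputable def π : m.Fr ⟶ m.C :=
  CochainComplex.ofHom (X := m.Fr) (Y := m.C)
    (fun i => ModuleCat.ofHom (Matrix.toLin' (m.e i)).rangeRestrict) (fun i => by
      show ModuleCat.ofHom (Matrix.toLin' (m.e i)).rangeRestrict ≫ m.C.d i (i + 1) =
        m.Fr.d i (i + 1) ≫ ModuleCat.ofHom (Matrix.toLin' (m.e (i + 1))).rangeRestrict
      rw [C_d, Fr_d]
      show ModuleCat.ofHom (Matrix.toLin' (m.e i)).rangeRestrict ≫ ModuleCat.ofHom (m.dL i) =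
        ModuleCat.ofHom (Matrix.toLin' (m.D i)) ≫
          ModuleCat.ofHom (Matrix.toLin' (m.e (i + 1))).rangeRestrict
      rw [← ModuleCat.ofHom_comp, ← ModuleCat.ofHom_comp]
      congr 1
      apply LinearMap.ext
      intro v
      apply Subtype.ext
      show Matrix.toLin' (m.D i) (Matrix.toLin' (m.e i) v) =
        Matrix.toLin' (m.e (i + 1)) (Matrix.toLin' (m.D i) v)
      rw [← Matrix.toLin'_mul_apply, ← Matrix.toLin'_mul_apply, m.De, m.eD])

lemma ι_π : m.ι ≫ m.π = 𝟙 m.C := by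
  apply HomologicalComplex.hom_ext
  intro i
  show ModuleCat.ofHom (LinearMap.range (Matrix.toLin' (m.e i))).subtype ≫
    ModuleCat.ofHom (Matrix.toLin' (m.e i)).rangeRestrict = 𝟙 _
  rw [← ModuleCat.ofHom_comp]
  have h : (Matrix.toLin' (m.e i)).rangeRestrict.comp
      (LinearMap.range (Matrix.toLin' (m.e i))).subtype = LinearMap.id := by
    apply LinearMap.ext
    intro v
    apply Subtype.ext
    exact m.e_apply_mem i v
  rw [h]
  rfl

lemma π_ι_f (i : ℤ) : (m.π ≫ m.ι).f i = ModuleCat.ofHom (Matrix.toLin' (m.e i)) := by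
  show ModuleCat.ofHom (Matrix.toLin' (m.e i)).rangeRestrict ≫
    ModuleCat.ofHom (LinearMap.range (Matrix.toLin' (m.e i))).subtype = _
  have h : (LinearMap.range (Matrix.toLin' (m.e i))).subtype.comp
      (Matrix.toLin' (m.e i)).rangeRestrict = Matrix.toLin' (m.e i) :=
    LinearMap.subtype_comp_codRestrict _ _ _
  rw [← ModuleCat.ofHom_comp, h]

lemma finite_X (i : ℤ) : Module.Finite A (m.C.X i) := by
  show Module.Finite A (LinearMap.range (Matrix.toLin' (m.e i)))
  infer_instance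

lemma projective_X (i : ℤ) : Module.Projective A (m.C.X i) := by
  have he : IsIdempotentElem (Matrix.toLin' (m.e i) : Module.End A (Fin n → A)) := by
    show (Matrix.toLin' (m.e i) : Module.End A (Fin n → A)) * Matrix.toLin' (m.e i) =
      Matrix.toLin' (m.e i)
    rw [Module.End.mul_eq_comp, ← Matrix.toLin'_mul, m.ee]
  exact Groth.Agent.Lib.Helper10.projective_range_of_isIdempotentElem _ he

lemma isZero_X (i : ℤ) (h : m.e i = 0) : IsZero (m.C.X i) := by
  have hs : Subsingleton (LinearMap.range (Matrix.toLin' (m.e i))) := by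
    refine ⟨fun x y => ?_⟩
    apply Subtype.ext
    have h0 : Matrix.toLin' (m.e i) = 0 := by rw [h, map_zero]
    have hx : (x : Fin n → A) = 0 :=
      (m.e_apply_mem i x).symm.trans (LinearMap.congr_fun h0 _)
    have hy : (y : Fin n → A) = 0 :=
      (m.e_apply_mem i y).symm.trans (LinearMap.congr_fun h0 _)
    exact hx.trans hy.symm
  exact ModuleCat.isZero_of_subsingleton (m.X i)

lemma vanishesOutside (a b : ℤ) (h : ∀ i, i < a ∨ b < i → m.e i = 0) :
    DRing.VanishesOutside m.C a b :=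
  fun i hi => m.isZero_X i (h i hi)

lemma termwiseFiniteProjective : DRing.TermwiseFiniteProjective m.C :=
  fun i => ⟨m.finite_X i, m.projective_X i⟩

variable {B : Type u} [CommRing B]

/-- base change of matrix data -/
def map (φ : A →+* B) : MData B n where
  e i := (m.e i).map φ
  D i := (m.D i).map φ
  ee i := by rw [← Matrix.map_mul, m.ee]
  De i := by rw [← Matrix.map_mul, m.De]
  eD i := by rw [← Matrix.map_mul, m.eD]
  DD i := by
    rw [← Matrix.map_mul, m.DD]
    exact Matrix.map_zero _ (map_zero φ)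

end MData

/-! ## matrix data from retractions -/

section Retract

variable {A : Type u} [CommRing A] (E : DRing.Cx A) (n : ℕ)
  (p : ∀ i, (Fin n → A) →ₗ[A] E.X i) (s : ∀ i, E.X i →ₗ[A] (Fin n → A))
  (hps : ∀ i, (p i).comp (s i) = LinearMap.id)

include hps in
lemma ps_apply (i : ℤ) (x : E.X i) : p i (s i x) = x := LinearMap.congr_fun (hps i) x

/-- matrix data from retractions of the terms -/
noncomputable def ofRetracts : MData A n where
  e i := LinearMap.toMatrix' ((s i).comp (p i))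
  D i := LinearMap.toMatrix' ((s (i + 1)).comp ((E.d i (i + 1)).hom.comp (p i)))
  ee i := by
    rw [← LinearMap.toMatrix'_comp]
    congr 1
    apply LinearMap.ext
    intro v
    show s i (p i (s i (p i v))) = s i (p i v)
    rw [ps_apply E n p s hps]
  De i := by
    rw [← LinearMap.toMatrix'_comp]
    congr 1
    apply LinearMap.ext
    intro v
    show s (i + 1) ((E.d i (i + 1)).hom (p i (s i (p i v)))) =
      s (i + 1) ((E.d i (i + 1)).hom (p i v))
    rw [ps_apply E n p s hps]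
  eD i := by
    rw [← LinearMap.toMatrix'_comp]
    congr 1
    apply LinearMap.ext
    intro v
    show s (i + 1) (p (i + 1) (s (i + 1) ((E.d i (i + 1)).hom (p i v)))) =
      s (i + 1) ((E.d i (i + 1)).hom (p i v))
    rw [ps_apply E n p s hps]
  DD i := by
    rw [← LinearMap.toMatrix'_comp]
    have h : ((s (i + 1 + 1)).comp ((E.d (i + 1) (i + 1 + 1)).hom.comp (p (i + 1)))).comp
        ((s (i + 1)).comp ((E.d i (i + 1)).hom.comp (p i))) = 0 := by
      apply LinearMap.ext
      intro v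
      show s (i + 1 + 1) ((E.d (i + 1) (i + 1 + 1)).hom
        (p (i + 1) (s (i + 1) ((E.d i (i + 1)).hom (p i v))))) = 0
      rw [ps_apply E n p s hps]
      have h0 : (E.d (i + 1) (i + 1 + 1)).hom ((E.d i (i + 1)).hom (p i v)) = 0 :=
        congrArg (fun f => f.hom (p i v)) (E.d_comp_d i (i + 1) (i + 1 + 1))
      rw [h0, map_zero]
    rw [h, map_zero]

lemma ofRetracts_e (i : ℤ) :
    Matrix.toLin' ((ofRetracts E n p s hps).e i) = (s i).comp (p i) :=
  Matrix.toLin'_toMatrix' _

lemma ofRetracts_D (i : ℤ) : Matrix.toLin' ((ofRetracts E n p s hps).D i) =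
    (s (i + 1)).comp ((E.d i (i + 1)).hom.comp (p i)) :=
  Matrix.toLin'_toMatrix' _

lemma ofRetracts_e_eq_zero (i : ℤ) (h : IsZero (E.X i)) : (ofRetracts E n p s hps).e i = 0 := by
  have hs : Subsingleton (E.X i) := ModuleCat.subsingleton_of_isZero h
  show LinearMap.toMatrix' ((s i).comp (p i)) = 0
  have h0 : (s i).comp (p i) = 0 := by
    apply LinearMap.ext
    intro v
    show s i (p i v) = 0
    rw [Subsingleton.elim (p i v) 0, map_zero]
  rw [h0, map_zero]

/-- the terms of `E` are the images of the idempotents -/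
noncomputable def termEquiv (i : ℤ) :
    E.X i ≃ₗ[A] LinearMap.range (Matrix.toLin' ((ofRetracts E n p s hps).e i)) :=
  LinearEquiv.ofLinearMap
    (LinearMap.codRestrict _ (s i) (fun x => LinearMap.mem_range.2 ⟨s i x, by
      rw [ofRetracts_e]
      show s i (p i (s i x)) = s i x
      rw [ps_apply E n p s hps]⟩))
    ((p i).comp (LinearMap.range (Matrix.toLin' ((ofRetracts E n p s hps).e i))).subtype)
    (by
      apply LinearMap.ext
      intro v
      apply Subtype.ext
      show s i (p i (v : Fin n → A)) = v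
      have h := (ofRetracts E n p s hps).e_apply_mem i v
      exact (LinearMap.congr_fun (ofRetracts_e E n p s hps i) _).symm.trans h)
    (by
      apply LinearMap.ext
      intro x
      exact ps_apply E n p s hps i x)

/-- `E` is the complex of the images of the idempotents -/
noncomputable def isoOfRetracts : E ≅ (ofRetracts E n p s hps).C :=
  HomologicalComplex.Hom.isoOfComponents (fun i => (termEquiv E n p s hps i).toModuleIso) (by
    intro i j hij
    have hij' : i + 1 = j := hij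
    subst hij'
    rw [MData.C_d]
    apply ModuleCat.hom_ext
    apply LinearMap.ext
    intro x
    apply Subtype.ext
    show Matrix.toLin' ((ofRetracts E n p s hps).D i) (s i x) =
      s (i + 1) ((E.d i (i + 1)).hom x)
    rw [ofRetracts_D]
    show s (i + 1) ((E.d i (i + 1)).hom (p i (s i x))) = _
    rw [ps_apply E n p s hps])

end Retract

theorem exists_mdata {A : Type u} [CommRing A] (E : DRing.Cx A) (a b : ℤ)
    (hE : DRing.VanishesOutside E a b) (hfp : DRing.TermwiseFiniteProjective E) :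
    ∃ (n : ℕ) (m : MData A n), (∀ i, i < a ∨ b < i → m.e i = 0) ∧ Nonempty (E ≅ m.C) := by
  classical
  have h0 : ∀ i : ℤ, ∃ (k : ℕ) (f : (Fin k → A) →ₗ[A] E.X i), Function.Surjective f := fun i => by
    have := (hfp i).1
    exact Module.Finite.exists_fin' A (E.X i)
  choose n₀ p₀ hp₀ using h0
  obtain ⟨n, hn⟩ : ∃ n : ℕ, n = (Finset.Icc a b).sup n₀ := ⟨_, rfl⟩
  have h1 : ∀ i : ℤ, ∃ p : (Fin n → A) →ₗ[A] E.X i, Function.Surjective p := fun i => by
    by_cases hi : a ≤ i ∧ i ≤ b
    · have hle : n₀ i ≤ n := by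
        rw [hn]
        exact Finset.le_sup (f := n₀) (Finset.mem_Icc.2 hi)
      refine ⟨(p₀ i).comp (LinearMap.funLeft A A (Fin.castLE hle)), ?_⟩
      rw [LinearMap.coe_comp]
      exact (hp₀ i).comp
        (LinearMap.funLeft_surjective_of_injective A A _ (Fin.castLE_injective hle))
    · have hz : IsZero (E.X i) := hE i (by omega)
      have hs : Subsingleton (E.X i) := ModuleCat.subsingleton_of_isZero hz
      exact ⟨0, fun x => ⟨0, Subsingleton.elim _ _⟩⟩
  choose p hp using h1
  have h2 : ∀ i : ℤ, ∃ s : E.X i →ₗ[A] (Fin n → A), (p i).comp s = LinearMap.id := fun i => by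
    have := (hfp i).2
    exact Module.projective_lifting_property (p i) LinearMap.id (hp i)
  choose s hs using h2
  exact ⟨n, ofRetracts E n p s hs, fun i hi => ofRetracts_e_eq_zero E n p s hs i (hE i hi),
    ⟨isoOfRetracts E n p s hs⟩⟩

/-! ## base change -/

section Split

variable {C : Type*} [Category C]

/-- two split idempotents which correspond under an isomorphism have isomorphic images -/
def splitIso {X X' Y Y' : C} (ι : Y ⟶ X) (π : X ⟶ Y) (hιπ : ι ≫ π = 𝟙 Y)
    (ι' : Y' ⟶ X') (π' : X' ⟶ Y') (hιπ' : ι' ≫ π' = 𝟙 Y') (θ : X ≅ X')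
    (h : (π ≫ ι) ≫ θ.hom = θ.hom ≫ (π' ≫ ι')) : Y ≅ Y' where
  hom := ι ≫ θ.hom ≫ π'
  inv := ι' ≫ θ.inv ≫ π
  hom_inv_id := by
    have h' : θ.hom ≫ π' ≫ ι' = π ≫ ι ≫ θ.hom := by
      rw [← Category.assoc π, h]
    calc (ι ≫ θ.hom ≫ π') ≫ ι' ≫ θ.inv ≫ π
        = ι ≫ (θ.hom ≫ π' ≫ ι') ≫ θ.inv ≫ π := by simp only [Category.assoc]
      _ = ι ≫ (π ≫ ι ≫ θ.hom) ≫ θ.inv ≫ π := by rw [h']
      _ = (ι ≫ π) ≫ (ι ≫ π) := by simp only [Category.assoc, Iso.hom_inv_id_assoc]
      _ = 𝟙 Y := by rw [hιπ, Category.comp_id]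
  inv_hom_id := by
    calc (ι' ≫ θ.inv ≫ π) ≫ ι ≫ θ.hom ≫ π'
        = ι' ≫ θ.inv ≫ ((π ≫ ι) ≫ θ.hom) ≫ π' := by simp only [Category.assoc]
      _ = ι' ≫ θ.inv ≫ (θ.hom ≫ (π' ≫ ι')) ≫ π' := by rw [h]
      _ = (ι' ≫ π') ≫ (ι' ≫ π') := by simp only [Category.assoc, Iso.inv_hom_id_assoc]
      _ = 𝟙 Y' := by rw [hιπ', Category.comp_id]

end Split

section BaseChange

variable {A B : Type u} [CommRing A] [CommRing B] [Algebra A B] (n : ℕ)

lemma piScalarRight_toLin' (M : Matrix (Fin n) (Fin n) A) (t : B ⊗[A] (Fin n → A)) :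
    TensorProduct.piScalarRight A B B (Fin n) ((Matrix.toLin' M).lTensor B t) =
      Matrix.toLin' (M.map (algebraMap A B)) (TensorProduct.piScalarRight A B B (Fin n) t) := by
  induction t using TensorProduct.induction_on with
  | zero => simp only [map_zero]
  | add x y hx hy => simp only [map_add, hx, hy]
  | tmul b v =>
    rw [LinearMap.lTensor_tmul, TensorProduct.piScalarRight_apply,
      TensorProduct.piScalarRightHom_tmul, TensorProduct.piScalarRight_apply,
      TensorProduct.piScalarRightHom_tmul]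
    funext i
    rw [Matrix.toLin'_apply, Matrix.toLin'_apply]
    simp only [Matrix.mulVec, dotProduct, Matrix.map_apply]
    rw [Finset.sum_smul]
    refine Finset.sum_congr rfl (fun k _ => ?_)
    rw [mul_smul, Algebra.smul_def (M i k)]

/-- `B ⊗ A^n ≃ B^n` -/
noncomputable def thetaEquiv :
    ((extM (A := A) (B := B)).obj (ModuleCat.of A (Fin n → A))) ≃ₗ[B] (Fin n → B) :=
  (extMEquiv (B := B) (ModuleCat.of A (Fin n → A))).trans
    (TensorProduct.piScalarRight A B B (Fin n))

/-- `B ⊗ A^n ≅ B^n` -/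
noncomputable def Theta :
    (extM (A := A) (B := B)).obj (ModuleCat.of A (Fin n → A)) ≅ ModuleCat.of B (Fin n → B) :=
  (thetaEquiv (A := A) (B := B) n).toModuleIso

lemma Theta_naturality (M : Matrix (Fin n) (Fin n) A) :
    (extM (A := A) (B := B)).map (ModuleCat.ofHom (Matrix.toLin' M)) ≫
        (Theta (A := A) (B := B) n).hom =
      (Theta (A := A) (B := B) n).hom ≫
        ModuleCat.ofHom (Matrix.toLin' (M.map (algebraMap A B))) := by
  apply ModuleCat.hom_ext
  apply LinearMap.ext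
  intro x
  show TensorProduct.piScalarRight A B B (Fin n)
      (extMEquiv (B := B) (ModuleCat.of A (Fin n → A))
        (((extM (A := A) (B := B)).map (ModuleCat.ofHom (Matrix.toLin' M))).hom x)) =
    Matrix.toLin' (M.map (algebraMap A B)) (TensorProduct.piScalarRight A B B (Fin n)
      (extMEquiv (B := B) (ModuleCat.of A (Fin n → A)) x))
  have h := extMEquiv_naturality (B := B) (ModuleCat.ofHom (Matrix.toLin' M)) x
  exact (congrArg (TensorProduct.piScalarRight A B B (Fin n)) h).trans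
    (piScalarRight_toLin' n M _)

/-- termwise extension of scalars -/
noncomputable abbrev extCx : DRing.Cx A ⥤ DRing.Cx B :=
  (extM (A := A) (B := B)).mapHomologicalComplex (ComplexShape.up ℤ)

variable {n} (m : MData A n)

/-- base change of the ambient free complex -/
noncomputable def ThetaCx :
    (extCx (A := A) (B := B)).obj m.Fr ≅ (m.map (algebraMap A B)).Fr :=
  HomologicalComplex.Hom.isoOfComponents (fun _ => Theta (A := A) (B := B) n) (by
    intro i j hij
    have hij' : i + 1 = j := hij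
    subst hij'
    show (Theta (A := A) (B := B) n).hom ≫ (m.map (algebraMap A B)).Fr.d i (i + 1) =
      (extM (A := A) (B := B)).map (m.Fr.d i (i + 1)) ≫ (Theta (A := A) (B := B) n).hom
    rw [MData.Fr_d, MData.Fr_d]
    exact (Theta_naturality n (m.D i)).symm)

lemma ThetaCx_comm :
    (extCx (A := A) (B := B)).map (m.π ≫ m.ι) ≫ (ThetaCx (B := B) m).hom =
      (ThetaCx (B := B) m).hom ≫
        ((m.map (algebraMap A B)).π ≫ (m.map (algebraMap A B)).ι) := by
  apply HomologicalComplex.hom_ext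
  intro i
  rw [HomologicalComplex.comp_f, HomologicalComplex.comp_f,
    Functor.mapHomologicalComplex_map_f, MData.π_ι_f, MData.π_ι_f]
  exact Theta_naturality n (m.e i)

/-- termwise extension of scalars of the complex of images is the complex of images of the
base changed matrices -/
noncomputable def baseChangeIso :
    (extCx (A := A) (B := B)).obj m.C ≅ (m.map (algebraMap A B)).C :=
  splitIso ((extCx (A := A) (B := B)).map m.ι) ((extCx (A := A) (B := B)).map m.π)
    (by rw [← Functor.map_comp, m.ι_π, CategoryTheory.Functor.map_id])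
    (m.map (algebraMap A B)).ι (m.map (algebraMap A B)).π (m.map (algebraMap A B)).ι_π
    (ThetaCx (B := B) m)
    (by
      rw [← Functor.map_comp]
      exact ThetaCx_comm m)

end BaseChange

section Derived

attribute [local instance] HasDerivedCategory.standard

theorem nonempty_LBaseChange_iso {A B : Type u} [CommRing A] [CommRing B] [Algebra A B]
    (φ : A →+* B) (hφ : algebraMap A B = φ) [DRing.HasLBaseChange φ] {n : ℕ} (m : MData A n)
    (b : ℤ) (hb : ∀ i, b < i → m.e i = 0) :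
    Nonempty ((DRing.LBaseChange φ).obj (DRing.toD m.C) ≅ DRing.toD (m.map φ).C) := by
  subst hφ
  have hKP : m.C.IsKProjective := isKProjective_of_vanishesAbove m.C b
    (fun i hi => m.isZero_X i (hb i hi)) (fun i => m.projective_X i)
  exact ⟨LBaseChangeIso (algebraMap A B) m.C ≪≫ DerivedCategory.Q.mapIso (baseChangeIso m)⟩

theorem nonempty_LBaseChange_iso' {A B : Type u} [CommRing A] [CommRing B]
    (φ : A →+* B) [DRing.HasLBaseChange φ] {n : ℕ} (m : MData A n)
    (b : ℤ) (hb : ∀ i, b < i → m.e i = 0) :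
    Nonempty ((DRing.LBaseChange φ).obj (DRing.toD m.C) ≅ DRing.toD (m.map φ).C) := by
  let _ : Algebra A B := φ.toAlgebra
  exact nonempty_LBaseChange_iso φ (RingHom.algebraMap_toAlgebra φ) m b hb

end Derived

/-! ## filtered colimits of rings -/

section RingColim

variable {J : Type u} [SmallCategory J] {F : J ⥤ CommRingCat.{u}} {c : Cocone F}

lemma ring_ι_map {j j' : J} (f : j ⟶ j') (y : F.obj j) :
    (c.ι.app j').hom ((F.map f).hom y) = (c.ι.app j).hom y :=
  congrArg (fun g => g.hom y) (c.w f)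

variable [IsFiltered J] (hc : IsColimit c)

include hc

lemma ring_rep (x : c.pt) : ∃ (j : J) (y : F.obj j), (c.ι.app j).hom y = x :=
  Concrete.isColimit_exists_rep F hc x

lemma ring_map_eq_zero (j : J) (y : F.obj j) (h : (c.ι.app j).hom y = 0) :
    ∃ (j' : J) (f : j ⟶ j'), (F.map f).hom y = 0 := by
  obtain ⟨k, f, g, hfg⟩ := Concrete.isColimit_exists_of_rep_eq F hc y (0 : F.obj j)
    (by rw [map_zero]; exact h)
  refine ⟨k, f, ?_⟩
  have h0 : (F.map g) (0 : F.obj j) = 0 := map_zero _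
  rw [h0] at hfg
  exact hfg

lemma ring_exists_rep_finset {T : Type*} (s : Finset T) (x : T → c.pt) :
    ∃ (j : J) (y : T → F.obj j), ∀ t ∈ s, (c.ι.app j).hom (y t) = x t := by
  classical
  induction s using Finset.induction_on with
  | empty => exact ⟨IsFiltered.nonempty.some, fun _ => 0, by simp⟩
  | insert a s ha ih =>
    obtain ⟨j, y, hy⟩ := ih
    obtain ⟨j₁, y₁, hy₁⟩ := ring_rep hc (x a)
    refine ⟨IsFiltered.max j j₁, fun t => if t = a then
      (F.map (IsFiltered.rightToMax j j₁)).hom y₁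
      else (F.map (IsFiltered.leftToMax j j₁)).hom (y t), ?_⟩
    intro t ht
    show (c.ι.app (IsFiltered.max j j₁)).hom (if t = a then
      (F.map (IsFiltered.rightToMax j j₁)).hom y₁
      else (F.map (IsFiltered.leftToMax j j₁)).hom (y t)) = x t
    by_cases hta : t = a
    · rw [if_pos hta, ring_ι_map, hy₁, hta]
    · rw [if_neg hta, ring_ι_map]
      exact hy t ((Finset.mem_insert.1 ht).resolve_left hta)

lemma ring_exists_map_eq_zero_finset {T : Type*} (s : Finset T) (j : J) (y : T → F.obj j)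
    (h : ∀ t ∈ s, (c.ι.app j).hom (y t) = 0) :
    ∃ (j' : J) (f : j ⟶ j'), ∀ t ∈ s, (F.map f).hom (y t) = 0 := by
  classical
  induction s using Finset.induction_on with
  | empty => exact ⟨j, 𝟙 j, by simp⟩
  | insert a s ha ih =>
    obtain ⟨j₁, f₁, h₁⟩ := ih (fun t ht => h t (Finset.mem_insert_of_mem ht))
    obtain ⟨j₂, f₂, h₂⟩ := ring_map_eq_zero hc j₁ ((F.map f₁).hom (y a)) (by
      rw [ring_ι_map]
      exact h a (Finset.mem_insert_self a s))
    refine ⟨j₂, f₁ ≫ f₂, fun t ht => ?_⟩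
    have hcomp : (F.map (f₁ ≫ f₂)).hom (y t) = (F.map f₂).hom ((F.map f₁).hom (y t)) := by
      rw [F.map_comp]
      rfl
    rw [hcomp]
    rcases Finset.mem_insert.1 ht with rfl | ht'
    · exact h₂
    · rw [h₁ t ht', map_zero]

lemma exists_rep_family {T : Type*} (s : Finset T) (x : T → c.pt)
    (hx : ∀ t, t ∉ s → x t = 0) :
    ∃ (j : J) (y : T → F.obj j), (∀ t, t ∉ s → y t = 0) ∧
      ∀ t, (c.ι.app j).hom (y t) = x t := by
  classical
  obtain ⟨j, y, hy⟩ := ring_exists_rep_finset hc s x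
  refine ⟨j, fun t => if t ∈ s then y t else 0, fun t ht => if_neg ht, fun t => ?_⟩
  show (c.ι.app j).hom (if t ∈ s then y t else 0) = x t
  by_cases ht : t ∈ s
  · rw [if_pos ht]
    exact hy t ht
  · rw [if_neg ht, map_zero, hx t ht]

lemma exists_eq_zero_family {T : Type*} (s : Finset T) (j : J) (y : T → F.obj j)
    (hy0 : ∀ t, t ∉ s → y t = 0) (h : ∀ t, (c.ι.app j).hom (y t) = 0) :
    ∃ (j' : J) (f : j ⟶ j'), ∀ t, (F.map f).hom (y t) = 0 := by
  obtain ⟨j', f, hf⟩ := ring_exists_map_eq_zero_finset hc s j y (fun t _ => h t)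
  refine ⟨j', f, fun t => ?_⟩
  by_cases ht : t ∈ s
  · exact hf t ht
  · rw [hy0 t ht, map_zero]

omit hc in
/-- the finite index set of the entries -/
noncomputable def stageSet (r n : ℕ) (a b : ℤ) : Finset (Fin r × ℤ × Fin n × Fin n) :=
  Finset.univ ×ˢ (Finset.Icc a b ×ˢ Finset.univ)

omit hc in
lemma mem_stageSet {r n : ℕ} {a b : ℤ} (t : Fin r × ℤ × Fin n × Fin n) :
    t ∈ stageSet r n a b ↔ a ≤ t.2.1 ∧ t.2.1 ≤ b := by
  simp [stageSet]

lemma exists_rep_matrices (r n : ℕ) (a b : ℤ) (M : Fin r → ℤ → Matrix (Fin n) (Fin n) c.pt)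
    (hM : ∀ q i, i < a ∨ b < i → M q i = 0) :
    ∃ (j : J) (M' : Fin r → ℤ → Matrix (Fin n) (Fin n) (F.obj j)),
      (∀ q i, i < a ∨ b < i → M' q i = 0) ∧
      ∀ q i, (M' q i).map (c.ι.app j).hom = M q i := by
  obtain ⟨j, y, hy0, hy⟩ := exists_rep_family hc (stageSet r n a b)
    (fun t => M t.1 t.2.1 t.2.2.1 t.2.2.2) (fun t ht => by
      show M t.1 t.2.1 t.2.2.1 t.2.2.2 = 0
      have h1 : t.2.1 < a ∨ b < t.2.1 := by
        by_contra hcon
        exact ht ((mem_stageSet t).2 (by omega))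
      rw [hM t.1 t.2.1 h1]
      rfl)
  refine ⟨j, fun q i => Matrix.of (fun k l => y (q, i, k, l)), ?_, ?_⟩
  · intro q i hi
    ext k l
    have hnot : (q, i, k, l) ∉ stageSet r n a b := by
      intro hmem
      have h2 := (mem_stageSet (q, i, k, l)).1 hmem
      have h3 : a ≤ i ∧ i ≤ b := h2
      omega
    exact hy0 _ hnot
  · intro q i
    ext k l
    exact hy (q, i, k, l)

lemma exists_matrices_eq_zero (r n : ℕ) (a b : ℤ) (j : J)
    (N : Fin r → ℤ → Matrix (Fin n) (Fin n) (F.obj j))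
    (hN0 : ∀ q i, i < a ∨ b < i → N q i = 0)
    (hN : ∀ q i, (N q i).map (c.ι.app j).hom = 0) :
    ∃ (j' : J) (f : j ⟶ j'), ∀ q i, (N q i).map (F.map f).hom = 0 := by
  obtain ⟨j', f, hf⟩ := exists_eq_zero_family hc (stageSet r n a b) j
    (fun t => N t.1 t.2.1 t.2.2.1 t.2.2.2) (fun t ht => by
      show N t.1 t.2.1 t.2.2.1 t.2.2.2 = 0
      have h1 : t.2.1 < a ∨ b < t.2.1 := by
        by_contra hcon
        exact ht ((mem_stageSet t).2 (by omega))
      rw [hN0 t.1 t.2.1 h1]
      rfl)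
    (fun t => congrFun (congrFun (hN t.1 t.2.1) t.2.2.1) t.2.2.2)
  refine ⟨j', f, fun q i => ?_⟩
  ext k l
  exact hf (q, i, k, l)

/-- matrix data over a filtered colimit of rings come from a stage -/
theorem exists_descent (n : ℕ) (m : MData c.pt n) (a b : ℤ)
    (hm : ∀ i, i < a ∨ b < i → m.e i = 0) :
    ∃ (j : J) (mj : MData (F.obj j) n), (∀ i, i < a ∨ b < i → mj.e i = 0) ∧
      mj.map (c.ι.app j).hom = m := by
  classical
  have hmD : ∀ i, i < a ∨ b < i → m.D i = 0 := fun i hi => by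
    rw [← m.De i, hm i hi, mul_zero]
  obtain ⟨j₀, M', hM'0, hM'⟩ := exists_rep_matrices hc 2 n a b ![m.e, m.D]
    (Fin.forall_fin_two.2 ⟨hm, hmD⟩)
  obtain ⟨e₀, he₀⟩ : ∃ e₀ : ℤ → Matrix (Fin n) (Fin n) (F.obj j₀), e₀ = M' 0 := ⟨_, rfl⟩
  obtain ⟨D₀, hD₀⟩ : ∃ D₀ : ℤ → Matrix (Fin n) (Fin n) (F.obj j₀), D₀ = M' 1 := ⟨_, rfl⟩
  have he₀0 : ∀ i, i < a ∨ b < i → e₀ i = 0 := fun i hi => by
    rw [he₀]
    exact hM'0 0 i hi
  have hD₀0 : ∀ i, i < a ∨ b < i → D₀ i = 0 := fun i hi => by
    rw [hD₀]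
    exact hM'0 1 i hi
  obtain ⟨Φ, hΦ⟩ : ∃ Φ : Matrix (Fin n) (Fin n) (F.obj j₀) →+* Matrix (Fin n) (Fin n) c.pt,
      Φ = (c.ι.app j₀).hom.mapMatrix := ⟨_, rfl⟩
  have hΦa : ∀ M : Matrix (Fin n) (Fin n) (F.obj j₀), M.map (c.ι.app j₀).hom = Φ M := fun M => by
    rw [hΦ]
    rfl
  have he₀m : ∀ i, Φ (e₀ i) = m.e i := fun i => by
    rw [hΦ, he₀]
    exact hM' 0 i
  have hD₀m : ∀ i, Φ (D₀ i) = m.D i := fun i => by
    rw [hΦ, hD₀]
    exact hM' 1 i
  obtain ⟨j₁, f, hf⟩ := exists_matrices_eq_zero hc 4 n a b j₀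
    ![fun i => e₀ i * e₀ i - e₀ i, fun i => D₀ i * e₀ i - D₀ i,
      fun i => e₀ (i + 1) * D₀ i - D₀ i, fun i => D₀ (i + 1) * D₀ i]
    (by
      intro q i hi
      fin_cases q
      · show e₀ i * e₀ i - e₀ i = 0
        rw [he₀0 i hi, mul_zero, sub_zero]
      · show D₀ i * e₀ i - D₀ i = 0
        rw [he₀0 i hi, hD₀0 i hi, mul_zero, sub_zero]
      · show e₀ (i + 1) * D₀ i - D₀ i = 0
        rw [hD₀0 i hi, mul_zero, sub_zero]
      · show D₀ (i + 1) * D₀ i = 0
        rw [hD₀0 i hi, mul_zero])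
    (by
      intro q i
      fin_cases q
      · show (e₀ i * e₀ i - e₀ i).map (c.ι.app j₀).hom = 0
        rw [hΦa, map_sub, map_mul, he₀m, m.ee, sub_self]
      · show (D₀ i * e₀ i - D₀ i).map (c.ι.app j₀).hom = 0
        rw [hΦa, map_sub, map_mul, he₀m, hD₀m, m.De, sub_self]
      · show (e₀ (i + 1) * D₀ i - D₀ i).map (c.ι.app j₀).hom = 0
        rw [hΦa, map_sub, map_mul, he₀m, hD₀m, m.eD, sub_self]
      · show (D₀ (i + 1) * D₀ i).map (c.ι.app j₀).hom = 0
        rw [hΦa, map_mul, hD₀m, hD₀m, m.DD])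
  obtain ⟨Ψ, hΨ⟩ : ∃ Ψ : Matrix (Fin n) (Fin n) (F.obj j₀) →+*
      Matrix (Fin n) (Fin n) (F.obj j₁), Ψ = (F.map f).hom.mapMatrix := ⟨_, rfl⟩
  have hΨa : ∀ M : Matrix (Fin n) (Fin n) (F.obj j₀), M.map (F.map f).hom = Ψ M := fun M => by
    rw [hΨ]
    rfl
  have r1 : ∀ i, Ψ (e₀ i) * Ψ (e₀ i) = Ψ (e₀ i) := fun i => by
    have h' : (e₀ i * e₀ i - e₀ i).map (F.map f).hom = 0 := hf 0 i
    rw [hΨa, map_sub, map_mul, sub_eq_zero] at h'
    exact h'
  have r2 : ∀ i, Ψ (D₀ i) * Ψ (e₀ i) = Ψ (D₀ i) := fun i => by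
    have h' : (D₀ i * e₀ i - D₀ i).map (F.map f).hom = 0 := hf 1 i
    rw [hΨa, map_sub, map_mul, sub_eq_zero] at h'
    exact h'
  have r3 : ∀ i, Ψ (e₀ (i + 1)) * Ψ (D₀ i) = Ψ (D₀ i) := fun i => by
    have h' : (e₀ (i + 1) * D₀ i - D₀ i).map (F.map f).hom = 0 := hf 2 i
    rw [hΨa, map_sub, map_mul, sub_eq_zero] at h'
    exact h'
  have r4 : ∀ i, Ψ (D₀ (i + 1)) * Ψ (D₀ i) = 0 := fun i => by
    have h' : (D₀ (i + 1) * D₀ i).map (F.map f).hom = 0 := hf 3 i
    rw [hΨa, map_mul] at h'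
    exact h'
  refine ⟨j₁, ⟨fun i => Ψ (e₀ i), fun i => Ψ (D₀ i), r1, r2, r3, r4⟩, ?_, ?_⟩
  · intro i hi
    show Ψ (e₀ i) = 0
    rw [he₀0 i hi, map_zero]
  · have hcomp : ∀ M : Matrix (Fin n) (Fin n) (F.obj j₀),
        (Ψ M).map (c.ι.app j₁).hom = Φ M := fun M => by
      rw [← hΨa, hΦ, Matrix.map_map]
      show M.map (⇑(c.ι.app j₁).hom ∘ ⇑(F.map f).hom) = M.map ⇑(c.ι.app j₀).hom
      congr 1
      funext y
      exact ring_ι_map f y
    apply MData.ext
    · funext i
      show (Ψ (e₀ i)).map (c.ι.app j₁).hom = m.e i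
      rw [hcomp, he₀m]
    · funext i
      show (Ψ (D₀ i)).map (c.ι.app j₁).hom = m.D i
      rw [hcomp, hD₀m]

end RingColim

end Groth.Agent.Lib.Helper21.MatCx
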