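import Mathlib
import Groth.Prelude.Def_GSzMilK
import Groth.Agent.Lib.Helper20.MilKLemmas
import Groth.Agent.Lib.Helper26.MilKBasic

/-!
# Milnor K-theory (helper21), part 1: slot-wise multiplicative functions, swaps, adjacency
-/

set_option autoImplicit false
universe u v w

namespace Groth.Agent.Lib.Helper21.MilnorK

open MilK Groth.Agent.Lib.Helper20.MilKLemmas

section General

variable {F : Type u} [Field F] {M : Type w} [AddCommGroup M]

/-- A function on tuples of units that is multiplicative in each slot. -/
def IsMult {n : ℕ} (g : (Fin n → Fˣ) → M) : Prop :=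
  ∀ (x : Fin n → Fˣ) (i : Fin n) (a b : Fˣ),
    g (Function.update x i (a * b)) = g (Function.update x i a) + g (Function.update x i b)

theorem isMult_of_multilinear {n : ℕ} (f : MultilinearMap ℤ (fun _ : Fin n => Additive Fˣ) M) :
    IsMult (fun x : Fin n → Fˣ => f fun k => Additive.ofMul (x k)) := by
  classical
  intro x i a b
  have e : ∀ c : Fˣ, (fun k => Additive.ofMul (Function.update x i c k)) =
      Function.update (fun k => Additive.ofMul (x k)) i (Additive.ofMul c) := by
    intro c
    funext k
    by_cases hk : k = i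
    · subst hk; simp
    · simp [Function.update_of_ne hk]
  show f _ = f _ + f _
  rw [e, e, e, ofMul_mul, f.map_update_add]

theorem isMult_symbol {n : ℕ} : IsMult (fun x : Fin n → Fˣ => (symbol x : K F n)) :=
  fun x i a b => symbol_update_mul x i a b

theorem IsMult.comp {n : ℕ} {g : (Fin n → Fˣ) → M} (hg : IsMult g) {N : Type*} [AddCommGroup N]
    (f : M →+ N) : IsMult (fun x => f (g x)) := by
  intro x i a b
  show f _ = f _ + f _
  rw [hg x i a b, map_add]

/-- two-slot restriction of a slot-wise multiplicative function -/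
theorem IsMult.isSteinbergSymbol_slots {n : ℕ} {g : (Fin n → Fˣ) → M} (hg : IsMult g)
    (z : Fin n → Fˣ) (i j : Fin n) (hij : i ≠ j)
    (hst : ∀ a b : Fˣ, (a : F) + (b : F) = 1 →
      g (Function.update (Function.update z i a) j b) = 0) :
    IsSteinbergSymbol (fun a b : Fˣ => g (Function.update (Function.update z i a) j b)) where
  mul_left a a' b := by
    have e : ∀ t : Fˣ, Function.update (Function.update z i t) j b =
        Function.update (Function.update z j b) i t := fun t => Function.update_comm hij _ _ _
    simp only [e]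
    exact hg _ i a a'
  mul_right a b b' := hg _ j b b'
  steinberg a b hab := hst a b hab

theorem comp_swap_eq {α : Type*} {n : ℕ} (x : Fin n → α) (i j : Fin n) (hij : i ≠ j) :
    x ∘ Equiv.swap i j = Function.update (Function.update x i (x j)) j (x i) := by
  funext k
  simp only [Function.comp_apply]
  by_cases hkj : k = j
  · subst hkj; rw [Equiv.swap_apply_right, Function.update_self]
  · rw [Function.update_of_ne hkj]
    by_cases hki : k = i
    · subst hki; rw [Equiv.swap_apply_left, Function.update_self]
    · rw [Function.update_of_ne hki, Equiv.swap_apply_of_ne_of_ne hki hkj]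

/-- swapping two slots negates, provided the two-slot Steinberg relation holds -/
theorem IsMult.swap {n : ℕ} {g : (Fin n → Fˣ) → M} (hg : IsMult g)
    (x : Fin n → Fˣ) (i j : Fin n) (hij : i ≠ j)
    (hst : ∀ a b : Fˣ, (a : F) + (b : F) = 1 →
      g (Function.update (Function.update x i a) j b) = 0) :
    g (x ∘ Equiv.swap i j) = - g x := by
  have h := hg.isSteinbergSymbol_slots x i j hij hst
  have := h.skew (x j) (x i)
  rw [comp_swap_eq x i j hij]
  rw [this, Function.update_eq_self, Function.update_eq_self]

theorem symbol_swap {n : ℕ} (x : Fin n → Fˣ) (i j : Fin n) (hij : i ≠ j) :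
    (symbol (x ∘ Equiv.swap i j) : K F n) = - symbol x := by
  rcases lt_or_gt_of_ne hij with h | h
  · exact isMult_symbol.swap x i j hij fun a b hab =>
      symbol_eq_zero_of_isSteinberg _ ⟨i, j, h, by
        rw [Function.update_self, Function.update_of_ne hij, Function.update_self]; exact hab⟩
  · have := isMult_symbol.swap (M := K F n) x j i hij.symm fun a b hab =>
      symbol_eq_zero_of_isSteinberg _ ⟨j, i, h, by
        rw [Function.update_self, Function.update_of_ne hij.symm, Function.update_self]; exact hab⟩
    rwa [Equiv.swap_comm] at this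

/-- A slot-wise multiplicative function killing tuples with an *adjacent* Steinberg pair kills all
Steinberg tuples. -/
theorem IsMult.kills_of_adjacent {n : ℕ} {g : (Fin n → Fˣ) → M} (hg : IsMult g)
    (h : ∀ (x : Fin n → Fˣ) (i : ℕ) (hi : i + 1 < n),
      (x ⟨i, by omega⟩ : F) + (x ⟨i + 1, hi⟩ : F) = 1 → g x = 0)
    (x : Fin n → Fˣ) (hx : IsSteinberg F x) : g x = 0 := by
  obtain ⟨i, j, hij, hx⟩ := hx
  -- induction on the gap
  obtain ⟨d, hd⟩ : ∃ d : ℕ, j.val = i.val + 1 + d := ⟨j.val - i.val - 1, by
    rw [Fin.lt_def] at hij; omega⟩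
  induction d generalizing x j with
  | zero =>
    have hlt : i.val + 1 < n := by have := j.isLt; omega
    have : j = ⟨i.val + 1, hlt⟩ := Fin.ext (by simpa using hd)
    rw [this] at hx
    exact h x i.val hlt hx
  | succ d ih =>
    -- swap slots j-1 and j
    let j' : Fin n := ⟨j.val - 1, by have := j.isLt; omega⟩
    have hj'j : j' ≠ j := by
      intro e; have := congrArg Fin.val e; simp only [j'] at this; omega
    have hij' : i < j' := by rw [Fin.lt_def]; simp only [j']; omega
    have hsw : g (x ∘ Equiv.swap j' j) = - g x := by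
      refine hg.swap x j' j hj'j fun a b hab => ?_
      refine h _ j'.val (by simp only [j']; have := j.isLt; omega) ?_
      have e1 : (⟨j'.val, by have := j'.isLt; omega⟩ : Fin n) = j' := rfl
      have e2 : (⟨j'.val + 1, by simp only [j']; have := j.isLt; omega⟩ : Fin n) = j :=
        Fin.ext (by simp only [j']; omega)
      rw [e1, e2, Function.update_self, Function.update_of_ne hj'j, Function.update_self]
      exact hab
    have h0 : g (x ∘ Equiv.swap j' j) = 0 := by
      refine ih (x ∘ Equiv.swap j' j) j' hij' ?_ (by simp only [j']; omega)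
      simp only [Function.comp_apply]
      rw [Equiv.swap_apply_left, Equiv.swap_apply_of_ne_of_ne (ne_of_lt hij') (ne_of_lt hij)]
      exact hx
    rw [h0] at hsw
    exact neg_eq_zero.1 hsw.symm

/-- right multiplication by a degree-one symbol -/
noncomputable def snocMul {n : ℕ} (a : K F n) (w : Fˣ) : K F (n + 1) :=
  mul F n 1 a (symbol ![w])

theorem snocMul_symbol {n : ℕ} (x : Fin n → Fˣ) (w : Fˣ) :
    snocMul (symbol x) w = symbol (Fin.snoc x w : Fin (n + 1) → Fˣ) := by
  rw [snocMul, mul_symbol_symbol, Fin.append_right_eq_snoc]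
  rfl

theorem snocMul_add {n : ℕ} (a a' : K F n) (w : Fˣ) :
    snocMul (a + a') w = snocMul a w + snocMul a' w := by
  simp only [snocMul, map_add, AddMonoidHom.add_apply]

theorem snocMul_zero {n : ℕ} (w : Fˣ) : snocMul (0 : K F n) w = 0 := by
  simp only [snocMul, map_zero, AddMonoidHom.zero_apply]

theorem snocMul_neg {n : ℕ} (a : K F n) (w : Fˣ) : snocMul (-a) w = - snocMul a w := by
  simp only [snocMul, map_neg, AddMonoidHom.neg_apply]

theorem snocMul_sub {n : ℕ} (a a' : K F n) (w : Fˣ) :
    snocMul (a - a') w = snocMul a w - snocMul a' w := by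
  simp only [snocMul, map_sub, AddMonoidHom.sub_apply]

theorem snocMul_zsmul {n : ℕ} (c : ℤ) (a : K F n) (w : Fˣ) :
    snocMul (c • a) w = c • snocMul a w := by
  simp only [snocMul, map_zsmul, AddMonoidHom.smul_apply]

theorem snocMul_mul {n : ℕ} (a : K F n) (w w' : Fˣ) :
    snocMul a (w * w') = snocMul a w + snocMul a w' := by
  simp only [snocMul, symbol_one_mul, map_add]

theorem snocMul_one {n : ℕ} (a : K F n) : snocMul a (1 : Fˣ) = 0 := by
  have := snocMul_mul a 1 1
  rw [mul_one] at this
  exact left_eq_add.mp this

theorem snocMul_inv {n : ℕ} (a : K F n) (w : Fˣ) : snocMul a w⁻¹ = - snocMul a w := by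
  have := snocMul_mul a w w⁻¹
  rw [mul_inv_cancel, snocMul_one] at this
  exact eq_neg_of_add_eq_zero_right this.symm

theorem snocMul_zpow {n : ℕ} (a : K F n) (w : Fˣ) (e : ℤ) :
    snocMul a (w ^ e) = e • snocMul a w := by
  let f : Fˣ →* Multiplicative (K F (n + 1)) :=
    { toFun := fun w => Multiplicative.ofAdd (snocMul a w)
      map_one' := by rw [snocMul_one]; rfl
      map_mul' := fun b c => by rw [snocMul_mul]; rfl }
  exact congrArg Multiplicative.toAdd (map_zpow f w e)

/-- `c ↦ (c·{p})·{q}` is a Steinberg symbol in `(p, q)`. -/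
theorem isSteinbergSymbol_snoc2 {n : ℕ} (c : K F n) :
    IsSteinbergSymbol (fun p q : Fˣ => snocMul (snocMul c p) q) where
  mul_left p p' q := by rw [snocMul_mul, snocMul_add]
  mul_right p q q' := snocMul_mul _ q q'
  steinberg p q hpq := by
    refine Groth.Agent.Lib.Helper26.MilKBasic.symbol_induction
      (p := fun c : K F n => snocMul (snocMul c p) q = 0) ?_ ?_ ?_ ?_ c
    · rw [snocMul_zero, snocMul_zero]
    · intro a b ha hb; rw [snocMul_add, snocMul_add, ha, hb, add_zero]
    · intro a ha; rw [snocMul_neg, snocMul_neg, ha, neg_zero]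
    · intro x
      rw [snocMul_symbol, snocMul_symbol]
      refine symbol_eq_zero_of_isSteinberg _ ⟨Fin.castSucc (Fin.last n), Fin.last (n + 1), ?_, ?_⟩
      · exact Fin.castSucc_lt_last _
      · rw [Fin.snoc_last, Fin.snoc_castSucc, Fin.snoc_last]
        exact hpq

end General

end Groth.Agent.Lib.Helper21.MilnorK
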