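import Mathlib
import Groth.Prelude.Def_GSzMilK
import Groth.Agent.Lib.Helper21.MilnorK1

/-!
# Milnor K-theory (helper21), part 2: decomposition `Lˣ = π^ℤ × Aˣ` for a DVR
-/

set_option autoImplicit false
universe u v w

namespace Groth.Agent.Lib.Helper21.MilnorK

open MilK Groth.Agent.Lib.Helper20.MilKLemmas

section DVR

variable (A : Type u) [CommRing A] [IsDomain A] [IsDiscreteValuationRing A]
  (L : Type v) [Field L] [Algebra A L] [IsFractionRing A L]

theorem algebraMap_inj' : Function.Injective (algebraMap A L) := IsFractionRing.injective A L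

variable {A}

theorem residue_pow_mul_unit (ϖ : A) (hϖ : Irreducible ϖ) (m : ℕ) (u : Aˣ) :
    IsLocalRing.residue A (ϖ ^ m * (u : A)) = if m = 0 then IsLocalRing.residue A (u : A) else 0 := by
  split_ifs with h
  · subst h; rw [pow_zero, one_mul]
  · rw [IsLocalRing.residue_eq_zero_iff]
    refine Ideal.mul_mem_right _ _ ?_
    refine Ideal.pow_mem_of_mem _ ?_ m (Nat.pos_of_ne_zero h)
    rw [IsLocalRing.mem_maximalIdeal, mem_nonunits_iff]
    exact hϖ.not_isUnit

theorem residue_unit_ne_zero (u : Aˣ) : IsLocalRing.residue A (u : A) ≠ 0 := by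
  intro h
  rw [IsLocalRing.residue_eq_zero_iff, IsLocalRing.mem_maximalIdeal, mem_nonunits_iff] at h
  exact h u.isUnit

variable {L}

/-- Key equation in `A` derived from an equation `π^e u + π^f v = 1` in `L`. -/
theorem exists_nat_eq (ϖ : A) (hϖ : Irreducible ϖ) (e f : ℤ) (u v : Aˣ)
    (h : (unitFrac A L ϖ hϖ.ne_zero : L) ^ e * algebraMap A L u +
      (unitFrac A L ϖ hϖ.ne_zero : L) ^ f * algebraMap A L v = 1) :
    ∃ E Fk G : ℕ, e = (E : ℤ) - G ∧ f = (Fk : ℤ) - G ∧ (E = 0 ∨ Fk = 0 ∨ G = 0) ∧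
      ϖ ^ E * (u : A) + ϖ ^ Fk * (v : A) = ϖ ^ G := by
  set P : L := (unitFrac A L ϖ hϖ.ne_zero : L) with hP
  have hP0 : P ≠ 0 := (unitFrac A L ϖ hϖ.ne_zero).ne_zero
  have hPdef : P = algebraMap A L ϖ := rfl
  let k : ℤ := min (min e f) 0
  have hk0 : k ≤ 0 := min_le_right _ _
  have hke : k ≤ e := (min_le_left _ _).trans (min_le_left _ _)
  have hkf : k ≤ f := (min_le_left _ _).trans (min_le_right _ _)
  obtain ⟨E, hE⟩ := Int.eq_ofNat_of_zero_le (sub_nonneg.2 hke)
  obtain ⟨Fk, hFk⟩ := Int.eq_ofNat_of_zero_le (sub_nonneg.2 hkf)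
  obtain ⟨G, hG⟩ := Int.eq_ofNat_of_zero_le (neg_nonneg.2 hk0)
  refine ⟨E, Fk, G, by omega, by omega, ?_, ?_⟩
  · rcases min_choice (min e f) 0 with h1 | h1
    · rcases min_choice e f with h2 | h2
      · left; have : k = e := h1.trans h2; omega
      · right; left; have : k = f := h1.trans h2; omega
    · right; right; have : k = 0 := h1; omega
  · apply algebraMap_inj' A L
    have e1 : P ^ e = P ^ (E : ℤ) * P ^ k := by rw [← zpow_add₀ hP0]; congr 1; omega
    have e2 : P ^ f = P ^ (Fk : ℤ) * P ^ k := by rw [← zpow_add₀ hP0]; congr 1; omega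
    have e3 : (1 : L) = P ^ (G : ℤ) * P ^ k := by
      rw [← zpow_add₀ hP0]
      have : (G : ℤ) + k = 0 := by omega
      rw [this, zpow_zero]
    rw [e1, e2] at h
    have hk : P ^ k ≠ 0 := zpow_ne_zero _ hP0
    have h' : (P ^ (E : ℤ) * algebraMap A L u + P ^ (Fk : ℤ) * algebraMap A L v) * P ^ k =
        P ^ (G : ℤ) * P ^ k := by
      rw [← e3, ← h]; ring
    have h'' := mul_right_cancel₀ hk h'
    rw [zpow_natCast, zpow_natCast, zpow_natCast] at h''
    rw [map_add, map_mul, map_mul, map_pow, map_pow, map_pow, ← hPdef]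
    exact h''

/-- The four cases of a Steinberg pair in a discretely valued field. -/
theorem steinberg_cases (ϖ : A) (hϖ : Irreducible ϖ) (e f : ℤ) (u v : Aˣ)
    (h : (unitFrac A L ϖ hϖ.ne_zero : L) ^ e * algebraMap A L u +
      (unitFrac A L ϖ hϖ.ne_zero : L) ^ f * algebraMap A L v = 1) :
    (0 < e ∧ f = 0 ∧ unitResidue A v = 1) ∨ (0 < f ∧ e = 0 ∧ unitResidue A u = 1) ∨
    (e = 0 ∧ f = 0 ∧ ((unitResidue A u : IsLocalRing.ResidueField A) + unitResidue A v = 1)) ∨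
    (e < 0 ∧ f = e ∧ unitResidue A v = - unitResidue A u) := by
  obtain ⟨E, Fk, G, he, hf, hmin, heq⟩ := exists_nat_eq ϖ hϖ e f u v h
  have hres := congrArg (IsLocalRing.residue A) heq
  rw [map_add, residue_pow_mul_unit ϖ hϖ, residue_pow_mul_unit ϖ hϖ] at hres
  have hG : IsLocalRing.residue A (ϖ ^ G) = if G = 0 then 1 else 0 := by
    have := residue_pow_mul_unit ϖ hϖ G 1
    rw [Units.val_one, mul_one, map_one] at this
    exact this
  rw [hG] at hres
  have hu0 := residue_unit_ne_zero u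
  have hv0 := residue_unit_ne_zero v
  have cu : ((unitResidue A u : (IsLocalRing.ResidueField A)ˣ) : IsLocalRing.ResidueField A) =
      IsLocalRing.residue A (u : A) := rfl
  have cv : ((unitResidue A v : (IsLocalRing.ResidueField A)ˣ) : IsLocalRing.ResidueField A) =
      IsLocalRing.residue A (v : A) := rfl
  by_cases hG0 : G = 0
  · subst hG0
    rw [if_pos rfl] at hres
    by_cases hE0 : E = 0
    · by_cases hF0 : Fk = 0
      · right; right; left
        subst hE0 hF0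
        rw [if_pos rfl, if_pos rfl] at hres
        refine ⟨by omega, by omega, ?_⟩
        rw [cu, cv]; exact hres
      · right; left
        subst hE0
        rw [if_pos rfl, if_neg hF0, add_zero] at hres
        refine ⟨by omega, by omega, Units.ext ?_⟩
        rw [cu, hres, Units.val_one]
    · by_cases hF0 : Fk = 0
      · left
        subst hF0
        rw [if_neg hE0, if_pos rfl, zero_add] at hres
        refine ⟨by omega, by omega, Units.ext ?_⟩
        rw [cv, hres, Units.val_one]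
      · exfalso
        rw [if_neg hE0, if_neg hF0, add_zero] at hres
        exact zero_ne_one hres
  · rw [if_neg hG0] at hres
    have hEF : E = 0 ∨ Fk = 0 := by
      rcases hmin with h1 | h1 | h1
      · exact Or.inl h1
      · exact Or.inr h1
      · exact absurd h1 hG0
    by_cases hE0 : E = 0
    · by_cases hF0 : Fk = 0
      · right; right; right
        subst hE0 hF0
        rw [if_pos rfl, if_pos rfl] at hres
        refine ⟨by omega, by omega, Units.ext ?_⟩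
        rw [Units.val_neg, cu, cv]
        exact eq_neg_of_add_eq_zero_right hres
      · exfalso
        subst hE0
        rw [if_pos rfl, if_neg hF0, add_zero] at hres
        exact hu0 hres
    · have hF0 : Fk = 0 := by
        rcases hEF with h1 | h1
        · exact absurd h1 hE0
        · exact h1
      exfalso
      subst hF0
      rw [if_neg hE0, if_pos rfl, zero_add] at hres
      exact hv0 hres

theorem coe_unitToFrac (u : Aˣ) : ((unitToFrac A L u : Lˣ) : L) = algebraMap A L (u : A) := rfl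

theorem zpow_eq_unit (ϖ : A) (hϖ : Irreducible ϖ) (k : ℤ) (w : Aˣ)
    (h : (unitFrac A L ϖ hϖ.ne_zero : L) ^ k = algebraMap A L (w : A)) : k = 0 := by
  have hP0 : (unitFrac A L ϖ hϖ.ne_zero : L) ≠ 0 := (unitFrac A L ϖ hϖ.ne_zero).ne_zero
  have key : ∀ (m : ℕ) (w : Aˣ), (unitFrac A L ϖ hϖ.ne_zero : L) ^ m = algebraMap A L (w : A) →
      m = 0 := by
    intro m w h
    by_contra hm
    rw [coe_unitFrac, ← map_pow] at h
    have h' : ϖ ^ m = (w : A) := algebraMap_inj' A L h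
    have : IsUnit (ϖ ^ m) := h' ▸ w.isUnit
    exact hϖ.not_isUnit ((isUnit_pow_iff hm).1 this)
  rcases le_or_gt 0 k with hk | hk
  · obtain ⟨m, rfl⟩ := Int.eq_ofNat_of_zero_le hk
    rw [zpow_natCast] at h
    rw [key m w h]; rfl
  · obtain ⟨m, hm⟩ := Int.eq_ofNat_of_zero_le (neg_nonneg.2 hk.le)
    have h2 : (unitFrac A L ϖ hϖ.ne_zero : L) ^ m = algebraMap A L ((w⁻¹ : Aˣ) : A) := by
      rw [← zpow_natCast, ← hm, zpow_neg, h]
      apply inv_eq_of_mul_eq_one_right
      rw [← map_mul, Units.mul_inv, map_one]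
    have := key m _ h2
    omega

theorem decomp_unique (ϖ : A) (hϖ : Irreducible ϖ) (e f : ℤ) (u v : Aˣ)
    (h : unitFrac A L ϖ hϖ.ne_zero ^ e * unitToFrac A L u =
      unitFrac A L ϖ hϖ.ne_zero ^ f * unitToFrac A L v) : e = f ∧ u = v := by
  have hP0 : (unitFrac A L ϖ hϖ.ne_zero : L) ≠ 0 := (unitFrac A L ϖ hϖ.ne_zero).ne_zero
  have h' : unitFrac A L ϖ hϖ.ne_zero ^ (e - f) = unitToFrac A L (v * u⁻¹) := by
    rw [zpow_sub, map_mul, map_inv, mul_inv_eq_iff_eq_mul, mul_right_comm, eq_mul_inv_iff_mul_eq, h,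
      mul_comm]
  have h'' := congrArg (fun y : Lˣ => (y : L)) h'
  simp only [Units.val_zpow_eq_zpow_val, coe_unitToFrac] at h''
  have hk := zpow_eq_unit ϖ hϖ (e - f) (v * u⁻¹) h''
  have hef : e = f := by omega
  refine ⟨hef, ?_⟩
  subst hef
  have h3 := mul_left_cancel h
  have h4 := congrArg (fun y : Lˣ => (y : L)) h3
  simp only [coe_unitToFrac] at h4
  exact Units.ext (algebraMap_inj' A L h4)

variable (L)

/-- the valuation of a nonzero element of `L` with respect to the uniformizer `ϖ` -/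
noncomputable def ordU (ϖ : A) (hϖ : Irreducible ϖ) (y : Lˣ) : ℤ :=
  (exists_zpow_mul_unit A L ϖ hϖ y).choose

/-- the unit part of a nonzero element of `L` with respect to the uniformizer `ϖ` -/
noncomputable def unitU (ϖ : A) (hϖ : Irreducible ϖ) (y : Lˣ) : Aˣ :=
  (exists_zpow_mul_unit A L ϖ hϖ y).choose_spec.choose

variable {L}

theorem decomp_spec (ϖ : A) (hϖ : Irreducible ϖ) (y : Lˣ) :
    y = unitFrac A L ϖ hϖ.ne_zero ^ ordU L ϖ hϖ y * unitToFrac A L (unitU L ϖ hϖ y) :=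
  (exists_zpow_mul_unit A L ϖ hϖ y).choose_spec.choose_spec

theorem ordU_eq (ϖ : A) (hϖ : Irreducible ϖ) (e : ℤ) (u : Aˣ) :
    ordU L ϖ hϖ (unitFrac A L ϖ hϖ.ne_zero ^ e * unitToFrac A L u) = e :=
  (decomp_unique ϖ hϖ _ _ _ _ (decomp_spec ϖ hϖ _).symm).1

theorem unitU_eq (ϖ : A) (hϖ : Irreducible ϖ) (e : ℤ) (u : Aˣ) :
    unitU L ϖ hϖ (unitFrac A L ϖ hϖ.ne_zero ^ e * unitToFrac A L u) = u :=
  (decomp_unique ϖ hϖ _ _ _ _ (decomp_spec ϖ hϖ _).symm).2

theorem ordU_unitU_mul (ϖ : A) (hϖ : Irreducible ϖ) (x y : Lˣ) :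
    ordU L ϖ hϖ (x * y) = ordU L ϖ hϖ x + ordU L ϖ hϖ y ∧
      unitU L ϖ hϖ (x * y) = unitU L ϖ hϖ x * unitU L ϖ hϖ y := by
  have hx := decomp_spec ϖ hϖ x
  have hy := decomp_spec ϖ hϖ y
  have : x * y = unitFrac A L ϖ hϖ.ne_zero ^ (ordU L ϖ hϖ x + ordU L ϖ hϖ y) *
      unitToFrac A L (unitU L ϖ hϖ x * unitU L ϖ hϖ y) := by
    conv_lhs => rw [hx, hy]
    rw [zpow_add, map_mul]
    exact mul_mul_mul_comm _ _ _ _
  rw [this]
  exact ⟨ordU_eq ϖ hϖ _ _, unitU_eq ϖ hϖ _ _⟩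

theorem ordU_mul (ϖ : A) (hϖ : Irreducible ϖ) (x y : Lˣ) :
    ordU L ϖ hϖ (x * y) = ordU L ϖ hϖ x + ordU L ϖ hϖ y := (ordU_unitU_mul ϖ hϖ x y).1

theorem unitU_mul (ϖ : A) (hϖ : Irreducible ϖ) (x y : Lˣ) :
    unitU L ϖ hϖ (x * y) = unitU L ϖ hϖ x * unitU L ϖ hϖ y := (ordU_unitU_mul ϖ hϖ x y).2

theorem ordU_unit (ϖ : A) (hϖ : Irreducible ϖ) (u : Aˣ) : ordU L ϖ hϖ (unitToFrac A L u) = 0 := by
  have := ordU_eq (L := L) ϖ hϖ 0 u
  rwa [zpow_zero, one_mul] at this

theorem unitU_unit (ϖ : A) (hϖ : Irreducible ϖ) (u : Aˣ) : unitU L ϖ hϖ (unitToFrac A L u) = u := by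
  have := unitU_eq (L := L) ϖ hϖ 0 u
  rwa [zpow_zero, one_mul] at this

theorem ordU_unif (ϖ : A) (hϖ : Irreducible ϖ) : ordU L ϖ hϖ (unitFrac A L ϖ hϖ.ne_zero) = 1 := by
  have := ordU_eq (L := L) ϖ hϖ 1 1
  rwa [zpow_one, map_one, mul_one] at this

theorem unitU_unif (ϖ : A) (hϖ : Irreducible ϖ) : unitU L ϖ hϖ (unitFrac A L ϖ hϖ.ne_zero) = 1 := by
  have := unitU_eq (L := L) ϖ hϖ 1 1
  rwa [zpow_one, map_one, mul_one] at this

variable (L)

/-- valuation as an additive hom -/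
noncomputable def ordHom (ϖ : A) (hϖ : Irreducible ϖ) : Additive Lˣ →+ ℤ where
  toFun y := ordU L ϖ hϖ y.toMul
  map_zero' := by
    have := ordU_unit (L := L) ϖ hϖ 1
    rwa [map_one] at this
  map_add' x y := ordU_mul ϖ hϖ x.toMul y.toMul

/-- residue of the unit part as an additive hom -/
noncomputable def resHom (ϖ : A) (hϖ : Irreducible ϖ) :
    Additive Lˣ →+ Additive (IsLocalRing.ResidueField A)ˣ where
  toFun y := Additive.ofMul (unitResidue A (unitU L ϖ hϖ y.toMul))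
  map_zero' := by
    have := unitU_unit (L := L) ϖ hϖ 1
    rw [map_one] at this
    show Additive.ofMul (unitResidue A (unitU L ϖ hϖ 1)) = 0
    rw [this, map_one]; rfl
  map_add' x y := by
    show Additive.ofMul (unitResidue A (unitU L ϖ hϖ (x.toMul * y.toMul))) = _
    rw [unitU_mul, map_mul]; rfl

variable {L}

/-- Steinberg cases in terms of `ordU`, `unitU`. -/
theorem steinberg_cases' (ϖ : A) (hϖ : Irreducible ϖ) (x y : Lˣ) (h : (x : L) + (y : L) = 1) :
    (0 < ordU L ϖ hϖ x ∧ ordU L ϖ hϖ y = 0 ∧ unitResidue A (unitU L ϖ hϖ y) = 1) ∨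
    (0 < ordU L ϖ hϖ y ∧ ordU L ϖ hϖ x = 0 ∧ unitResidue A (unitU L ϖ hϖ x) = 1) ∨
    (ordU L ϖ hϖ x = 0 ∧ ordU L ϖ hϖ y = 0 ∧
      ((unitResidue A (unitU L ϖ hϖ x) : IsLocalRing.ResidueField A) +
        unitResidue A (unitU L ϖ hϖ y) = 1)) ∨
    (ordU L ϖ hϖ x < 0 ∧ ordU L ϖ hϖ y = ordU L ϖ hϖ x ∧
      unitResidue A (unitU L ϖ hϖ y) = - unitResidue A (unitU L ϖ hϖ x)) := by
  refine steinberg_cases (L := L) ϖ hϖ _ _ _ _ ?_
  have hx := congrArg (fun y : Lˣ => (y : L)) (decomp_spec ϖ hϖ x)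
  have hy := congrArg (fun y : Lˣ => (y : L)) (decomp_spec ϖ hϖ y)
  simp only [Units.val_mul, Units.val_zpow_eq_zpow_val, coe_unitToFrac] at hx hy
  rw [← hx, ← hy]
  exact h

end DVR

end Groth.Agent.Lib.Helper21.MilnorK
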