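import Mathlib
import Groth.Prelude.Def_GSzMilK
import Groth.Agent.Lib.Helper21.MilnorK2

/-!
# Milnor K-theory (helper21), part 3: construction of the specialization map and the tame symbol
-/

set_option autoImplicit false
universe u v w

namespace Groth.Agent.Lib.Helper21.MilnorK

open MilK Groth.Agent.Lib.Helper20.MilKLemmas

section Core

variable {F : Type u} [Field F]

theorem two_smul_snocMul_neg_one {n : ℕ} (c : K F n) : (2 : ℤ) • snocMul c (-1 : Fˣ) = 0 := by
  rw [← snocMul_zpow]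
  have : ((-1 : Fˣ)) ^ (2 : ℤ) = 1 := by norm_num
  rw [this, snocMul_one]

theorem even_smul {M : Type*} [AddCommGroup M] (e : ℤ) (z : M) (hz : (2 : ℤ) • z = 0) :
    (e * e - e) • z = 0 := by
  obtain ⟨k, hk⟩ := Int.even_mul_pred_self e
  have : e * e - e = k * 2 := by rw [← two_mul] at hk; linarith
  rw [this, mul_smul, hz, smul_zero]

theorem core_vanish {n : ℕ} (a : K F (n + 1)) (b : K F n) (e f : ℤ) (p q : Fˣ)
    (h : (0 < e ∧ f = 0 ∧ q = 1) ∨ (0 < f ∧ e = 0 ∧ p = 1) ∨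
      (e = 0 ∧ f = 0 ∧ (p : F) + q = 1) ∨ (e < 0 ∧ f = e ∧ q = -p)) :
    snocMul (snocMul a p) q = 0 ∧
    f • snocMul a p - snocMul (e • a - snocMul b p + e • snocMul b (-1)) q +
      f • snocMul (e • a - snocMul b p + e • snocMul b (-1)) (-1) = 0 := by
  rcases h with ⟨-, rfl, rfl⟩ | ⟨-, rfl, rfl⟩ | ⟨rfl, rfl, hpq⟩ | ⟨-, hfe, rfl⟩
  · simp only [snocMul_one, zero_smul, sub_zero, add_zero, and_self]
  · simp only [snocMul_one, zero_smul, sub_zero, add_zero, snocMul_zero, smul_zero, and_self]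
  · refine ⟨(isSteinbergSymbol_snoc2 a).steinberg p q hpq, ?_⟩
    simp only [zero_smul, zero_sub, add_zero, snocMul_neg, sub_neg_eq_add, zero_add]
    exact (isSteinbergSymbol_snoc2 b).steinberg p q hpq
  · rw [hfe]
    refine ⟨(isSteinbergSymbol_snoc2 a).self_neg p, ?_⟩
    have hb := isSteinbergSymbol_snoc2 b
    have h1 : snocMul a (-p) = snocMul a (-1) + snocMul a p := by
      rw [← snocMul_mul, neg_one_mul]
    have h2 : snocMul (snocMul b p) (-p) = 0 := hb.self_neg p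
    have h3 : snocMul (snocMul b (-1)) (-p) =
        snocMul (snocMul b (-1)) (-1) + snocMul (snocMul b (-1)) p := by
      rw [← snocMul_mul, neg_one_mul]
    have h4 : snocMul (snocMul b p) (-1) = - snocMul (snocMul b (-1)) p := hb.skew p (-1)
    simp only [snocMul_sub, snocMul_add, snocMul_zsmul]
    rw [h1, h2, h3, h4]
    have : e • snocMul a p - (e • (snocMul a (-1) + snocMul a p) - 0 +
        e • (snocMul (snocMul b (-1)) (-1) + snocMul (snocMul b (-1)) p)) +
        e • (e • snocMul a (-1) - -snocMul (snocMul b (-1)) p +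
          e • snocMul (snocMul b (-1)) (-1)) =
        (e * e - e) • snocMul a (-1) + (e * e - e) • snocMul (snocMul b (-1)) (-1) := by
      module
    rw [this, even_smul e _ (two_smul_snocMul_neg_one a),
      even_smul e _ (two_smul_snocMul_neg_one _), add_zero]

/-- base-case variant -/
theorem core_vanish0 (e f : ℤ) (p q : Fˣ)
    (h : (0 < e ∧ f = 0 ∧ q = 1) ∨ (0 < f ∧ e = 0 ∧ p = 1) ∨
      (e = 0 ∧ f = 0 ∧ (p : F) + q = 1) ∨ (e < 0 ∧ f = e ∧ q = -p)) :
    snocMul (symbol ![p] : K F 1) q = 0 ∧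
    f • (symbol ![p] : K F 1) - snocMul (e • (symbol ![] : K F 0)) q +
      f • snocMul (e • (symbol ![] : K F 0)) (-1) = 0 := by
  have hs : ∀ w : Fˣ, snocMul (symbol ![] : K F 0) w = symbol ![w] := by
    intro w
    rw [snocMul_symbol]
    congr 1
    funext i
    fin_cases i
    rfl
  have h1 : ∀ w : Fˣ, (symbol ![w] : K F 1) = snocMul (symbol ![] : K F 0) w := fun w => (hs w).symm
  rcases h with ⟨-, rfl, rfl⟩ | ⟨-, rfl, rfl⟩ | ⟨rfl, rfl, hpq⟩ | ⟨-, hfe, rfl⟩
  · simp only [snocMul_one, zero_smul, sub_zero, add_zero, and_self]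
  · rw [h1 1]
    simp only [snocMul_one, zero_smul, sub_zero, add_zero, snocMul_zero, smul_zero, and_self]
  · rw [h1 p]
    refine ⟨(isSteinbergSymbol_snoc2 _).steinberg p q hpq, ?_⟩
    simp only [zero_smul, snocMul_zero, sub_zero, add_zero]
  · rw [h1 p, hfe]
    refine ⟨(isSteinbergSymbol_snoc2 _).self_neg p, ?_⟩
    simp only [snocMul_zsmul]
    have h2 : snocMul (symbol ![] : K F 0) (-p) =
        snocMul (symbol ![] : K F 0) (-1) + snocMul (symbol ![] : K F 0) p := by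
      rw [← snocMul_mul, neg_one_mul]
    rw [h2]
    have : e • snocMul (symbol ![] : K F 0) p -
        e • (snocMul (symbol ![] : K F 0) (-1) + snocMul (symbol ![] : K F 0) p) +
        e • e • snocMul (symbol ![] : K F 0) (-1) =
        (e * e - e) • snocMul (symbol ![] : K F 0) (-1) := by
      module
    rw [this, even_smul e _ (two_smul_snocMul_neg_one _)]

end Core

section Construction

variable {A : Type u} [CommRing A] [IsDomain A] [IsDiscreteValuationRing A]
  (L : Type v) [Field L] [Algebra A L] [IsFractionRing A L] (ϖ : A) (hϖ : Irreducible ϖ)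

local notation "κ" => IsLocalRing.ResidueField A

/-- valuation of an (additively written) unit -/
noncomputable def eOf (x : Additive Lˣ) : ℤ := ordHom L ϖ hϖ x

/-- residue of the unit part of an (additively written) unit -/
noncomputable def rOf (x : Additive Lˣ) : (κ)ˣ := (resHom L ϖ hϖ x).toMul

theorem eOf_add (x y : Additive Lˣ) : eOf L ϖ hϖ (x + y) = eOf L ϖ hϖ x + eOf L ϖ hϖ y :=
  map_add _ _ _

theorem rOf_add (x y : Additive Lˣ) : rOf L ϖ hϖ (x + y) = rOf L ϖ hϖ x * rOf L ϖ hϖ y := by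
  simp only [rOf, map_add, toMul_add]

/-- the step of the recursion: right multiplication by `{ū} + eξ` on `a + bξ`. -/
noncomputable def stepFun (n : ℕ) (w : K κ (n + 1) × K κ n) (x : Additive Lˣ) :
    K κ (n + 1 + 1) × K κ (n + 1) :=
  (snocMul w.1 (rOf L ϖ hϖ x),
    eOf L ϖ hϖ x • w.1 - snocMul w.2 (rOf L ϖ hϖ x) + eOf L ϖ hϖ x • snocMul w.2 (-1))

theorem stepFun_add_left (n : ℕ) (w w' : K κ (n + 1) × K κ n) (x : Additive Lˣ) :
    stepFun L ϖ hϖ n (w + w') x = stepFun L ϖ hϖ n w x + stepFun L ϖ hϖ n w' x := by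
  refine Prod.ext ?_ ?_
  · simp only [stepFun, Prod.fst_add, snocMul_add]
  · simp only [stepFun, Prod.fst_add, Prod.snd_add, snocMul_add, smul_add]
    abel

theorem stepFun_add_right (n : ℕ) (w : K κ (n + 1) × K κ n) (x y : Additive Lˣ) :
    stepFun L ϖ hϖ n w (x + y) = stepFun L ϖ hϖ n w x + stepFun L ϖ hϖ n w y := by
  refine Prod.ext ?_ ?_
  · simp only [stepFun, Prod.fst_add, rOf_add, snocMul_mul]
  · simp only [stepFun, Prod.snd_add, rOf_add, eOf_add, snocMul_mul, add_smul]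
    abel

/-- the step as an additive bihomomorphism -/
noncomputable def stepHom (n : ℕ) :
    (K κ (n + 1) × K κ n) →+ Additive Lˣ →+ (K κ (n + 1 + 1) × K κ (n + 1)) :=
  AddMonoidHom.mk' (fun w => AddMonoidHom.mk' (fun x => stepFun L ϖ hϖ n w x)
    (stepFun_add_right L ϖ hϖ n w))
    fun w w' => AddMonoidHom.ext fun x => stepFun_add_left L ϖ hϖ n w w' x

/-- the step as a bilinear map -/
noncomputable def stepL (n : ℕ) :
    (K κ (n + 1) × K κ n) →ₗ[ℤ] Additive Lˣ →ₗ[ℤ] (K κ (n + 1 + 1) × K κ (n + 1)) :=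
  (addMonoidHomLequivInt ℤ).toLinearMap.comp (stepHom L ϖ hϖ n).toIntLinearMap

theorem stepL_apply (n : ℕ) (w : K κ (n + 1) × K κ n) (x : Additive Lˣ) :
    stepL L ϖ hϖ n w x = stepFun L ϖ hϖ n w x := rfl

/-- the initial value on a single unit -/
noncomputable def theta0Fun (x : Additive Lˣ) : K κ 1 × K κ 0 :=
  (symbol ![rOf L ϖ hϖ x], eOf L ϖ hϖ x • symbol ![])

theorem theta0Fun_add (x y : Additive Lˣ) :
    theta0Fun L ϖ hϖ (x + y) = theta0Fun L ϖ hϖ x + theta0Fun L ϖ hϖ y := by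
  refine Prod.ext ?_ ?_
  · simp only [theta0Fun, Prod.fst_add, rOf_add, symbol_one_mul]
  · simp only [theta0Fun, Prod.snd_add, eOf_add, add_smul]

noncomputable def theta0L : Additive Lˣ →ₗ[ℤ] K κ 1 × K κ 0 :=
  (AddMonoidHom.mk' (theta0Fun L ϖ hϖ) (theta0Fun_add L ϖ hϖ)).toIntLinearMap

theorem theta0L_apply (x : Additive Lˣ) : theta0L L ϖ hϖ x = theta0Fun L ϖ hϖ x := rfl

/-- the multilinear map `(x₀, …, xₙ) ↦ (s, ∂')` -/
noncomputable def Theta : (n : ℕ) →
    MultilinearMap ℤ (fun _ : Fin (n + 1) => Additive Lˣ) (K κ (n + 1) × K κ n)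
  | 0 => MultilinearMap.ofSubsingleton ℤ (Additive Lˣ) _ (0 : Fin 1) (theta0L L ϖ hϖ)
  | n + 1 => ((stepL L ϖ hϖ n).compMultilinearMap (Theta n)).uncurryRight

theorem Theta_zero (x : Fin 1 → Additive Lˣ) : Theta L ϖ hϖ 0 x = theta0Fun L ϖ hϖ (x 0) := rfl

theorem Theta_succ (n : ℕ) (x : Fin (n + 1 + 1) → Additive Lˣ) :
    Theta L ϖ hϖ (n + 1) x =
      stepFun L ϖ hϖ n (Theta L ϖ hϖ n (Fin.init x)) (x (Fin.last (n + 1))) := rfl

theorem stepFun_zero_left (n : ℕ) (x : Additive Lˣ) : stepFun L ϖ hϖ n 0 x = 0 := by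
  have := stepFun_add_left L ϖ hϖ n 0 0 x
  rw [add_zero] at this
  exact left_eq_add.mp this

theorem stepFun_stepFun_eq_zero (n : ℕ) (w : K κ (n + 1) × K κ n) (x y : Additive Lˣ)
    (hxy : (x.toMul : L) + (y.toMul : L) = 1) :
    stepFun L ϖ hϖ (n + 1) (stepFun L ϖ hϖ n w x) y = 0 := by
  obtain ⟨h1, h2⟩ := core_vanish w.1 w.2 (eOf L ϖ hϖ x) (eOf L ϖ hϖ y) (rOf L ϖ hϖ x)
    (rOf L ϖ hϖ y) (steinberg_cases' ϖ hϖ x.toMul y.toMul hxy)
  exact Prod.ext h1 h2

theorem stepFun_theta0_eq_zero (x y : Additive Lˣ)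
    (hxy : (x.toMul : L) + (y.toMul : L) = 1) :
    stepFun L ϖ hϖ 0 (theta0Fun L ϖ hϖ x) y = 0 := by
  obtain ⟨h1, h2⟩ := core_vanish0 (eOf L ϖ hϖ x) (eOf L ϖ hϖ y) (rOf L ϖ hϖ x)
    (rOf L ϖ hϖ y) (steinberg_cases' ϖ hϖ x.toMul y.toMul hxy)
  exact Prod.ext h1 h2

theorem Theta_adjacent (n : ℕ) : ∀ (x : Fin (n + 1) → Lˣ) (i : ℕ) (hi : i + 1 < n + 1),
    (x ⟨i, by omega⟩ : L) + (x ⟨i + 1, hi⟩ : L) = 1 →
      Theta L ϖ hϖ n (fun k => Additive.ofMul (x k)) = 0 := by
  induction n with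
  | zero => intro x i hi; omega
  | succ n ih =>
    intro x i hi hx
    rw [Theta_succ]
    by_cases hlast : i + 1 = n + 1
    · cases n with
      | zero =>
        have hi0 : i = 0 := by omega
        subst hi0
        rw [Theta_zero]
        exact stepFun_theta0_eq_zero L ϖ hϖ _ _ hx
      | succ m =>
        rw [Theta_succ]
        have hi0 : i = m + 1 := by omega
        subst hi0
        exact stepFun_stepFun_eq_zero L ϖ hϖ _ _ _ _ hx
    · have := ih (Fin.init x) i (by omega) hx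
      have e : Fin.init (fun k => Additive.ofMul (x k)) = fun k => Additive.ofMul (Fin.init x k) :=
        rfl
      rw [e, this, stepFun_zero_left]

theorem Theta_steinberg (n : ℕ) (x : Fin (n + 1) → Lˣ) (hx : IsSteinberg L x) :
    Theta L ϖ hϖ n (fun k => Additive.ofMul (x k)) = 0 :=
  (isMult_of_multilinear (Theta L ϖ hϖ n)).kills_of_adjacent (Theta_adjacent L ϖ hϖ n) x hx

/-- the pair (specialization, signed residue) -/
noncomputable def sdMap (n : ℕ) : K L (n + 1) →+ K κ (n + 1) × K κ n :=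
  MilK.lift (Theta L ϖ hϖ n) (Theta_steinberg L ϖ hϖ n)

theorem sdMap_symbol (n : ℕ) (x : Fin (n + 1) → Lˣ) :
    sdMap L ϖ hϖ n (symbol x) = Theta L ϖ hϖ n (fun k => Additive.ofMul (x k)) :=
  lift_symbol _ _ x

/-- first component of Θ -/
theorem Theta_fst (n : ℕ) : ∀ (x : Fin (n + 1) → Additive Lˣ),
    (Theta L ϖ hϖ n x).1 = symbol (fun i => rOf L ϖ hϖ (x i)) := by
  induction n with
  | zero =>
    intro x
    rw [Theta_zero]
    show symbol ![rOf L ϖ hϖ (x 0)] = _
    congr 1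
    funext i
    fin_cases i
    rfl
  | succ n ih =>
    intro x
    rw [Theta_succ]
    show snocMul (Theta L ϖ hϖ n (Fin.init x)).1 (rOf L ϖ hϖ (x (Fin.last (n + 1)))) = _
    rw [ih, snocMul_symbol]
    congr 1
    funext i
    refine Fin.lastCases ?_ (fun j => ?_) i
    · rw [Fin.snoc_last]
    · rw [Fin.snoc_castSucc]; rfl

/-- second component of Θ on tuples whose first entry has valuation one and the others zero -/
theorem Theta_snd (n : ℕ) : ∀ (x : Fin (n + 1) → Additive Lˣ), eOf L ϖ hϖ (x 0) = 1 →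
    (∀ i : Fin n, eOf L ϖ hϖ (x i.succ) = 0) →
    (Theta L ϖ hϖ n x).2 = ((-1 : ℤ) ^ n) • symbol (fun i : Fin n => rOf L ϖ hϖ (x i.succ)) := by
  induction n with
  | zero =>
    intro x h0 _
    rw [Theta_zero]
    show eOf L ϖ hϖ (x 0) • symbol ![] = _
    rw [h0, pow_zero]
    congr 1
    congr 1
    exact Subsingleton.elim _ _
  | succ n ih =>
    intro x h0 hs
    rw [Theta_succ]
    show eOf L ϖ hϖ (x (Fin.last (n + 1))) • _ - snocMul (Theta L ϖ hϖ n (Fin.init x)).2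
      (rOf L ϖ hϖ (x (Fin.last (n + 1)))) + eOf L ϖ hϖ (x (Fin.last (n + 1))) • _ = _
    have hl : eOf L ϖ hϖ (x (Fin.last (n + 1))) = 0 := by
      rw [← Fin.succ_last]; exact hs _
    rw [hl, zero_smul, zero_smul, zero_sub, add_zero,
      ih (Fin.init x) h0 (fun i => by
        have := hs (Fin.castSucc i)
        rwa [Fin.succ_castSucc] at this),
      snocMul_zsmul, snocMul_symbol, pow_succ, mul_neg_one, neg_smul]
    have key : (Fin.snoc (fun i : Fin n => rOf L ϖ hϖ (Fin.init x i.succ))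
        (rOf L ϖ hϖ (x (Fin.last (n + 1)))) : Fin (n + 1) → (κ)ˣ) =
        fun i => rOf L ϖ hϖ (x i.succ) := by
      funext i
      refine Fin.lastCases ?_ (fun j => ?_) i
      · rw [Fin.snoc_last, Fin.succ_last]
      · rw [Fin.snoc_castSucc, Fin.succ_castSucc]; rfl
    rw [key]

/-- the specialization map in positive degree -/
noncomputable def sMap (n : ℕ) : K L (n + 1) →+ K κ (n + 1) :=
  (AddMonoidHom.fst _ _).comp (sdMap L ϖ hϖ n)

/-- the tame symbol -/
noncomputable def dMap (n : ℕ) : K L (n + 1) →+ K κ n :=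
  ((-1 : ℤ) ^ n) • (AddMonoidHom.snd _ _).comp (sdMap L ϖ hϖ n)

theorem sMap_symbol (n : ℕ) (x : Fin (n + 1) → Lˣ) :
    sMap L ϖ hϖ n (symbol x) = symbol (fun i => unitResidue A (unitU L ϖ hϖ (x i))) := by
  show (sdMap L ϖ hϖ n (symbol x)).1 = _
  rw [sdMap_symbol, Theta_fst]
  rfl

theorem dMap_symbol (n : ℕ) (x : Fin (n + 1) → Lˣ) (h0 : ordU L ϖ hϖ (x 0) = 1)
    (hs : ∀ i : Fin n, ordU L ϖ hϖ (x i.succ) = 0) :
    dMap L ϖ hϖ n (symbol x) = symbol (fun i : Fin n => unitResidue A (unitU L ϖ hϖ (x i.succ))) := by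
  show ((-1 : ℤ) ^ n) • (sdMap L ϖ hϖ n (symbol x)).2 = _
  rw [sdMap_symbol, Theta_snd L ϖ hϖ n (fun k => Additive.ofMul (x k)) h0 hs, smul_smul, ← mul_pow]
  norm_num
  rfl

end Construction

end Groth.Agent.Lib.Helper21.MilnorK
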