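import Mathlib
import Groth.Prelude.Def_GSzMilK
import Groth.Agent.Lib.Helper21.MilnorK3

/-!
# Milnor K-theory (helper21), part 4: generation of `K_{n+1}(L)` by `{π, units}` and `{units}`
-/

set_option autoImplicit false
universe u v w

namespace Groth.Agent.Lib.Helper21.MilnorK

open MilK Groth.Agent.Lib.Helper20.MilKLemmas

section IsMultMore

variable {F : Type u} [Field F] {M : Type w} [AddCommGroup M]

theorem IsMult.map_one {n : ℕ} {g : (Fin n → Fˣ) → M} (hg : IsMult g) (x : Fin n → Fˣ) (i : Fin n) :
    g (Function.update x i 1) = 0 := by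
  have := hg x i 1 1
  rw [mul_one] at this
  exact left_eq_add.mp this

theorem IsMult.map_zpow {n : ℕ} {g : (Fin n → Fˣ) → M} (hg : IsMult g) (x : Fin n → Fˣ) (i : Fin n)
    (a : Fˣ) (e : ℤ) : g (Function.update x i (a ^ e)) = e • g (Function.update x i a) := by
  let f : Fˣ →* Multiplicative M :=
    { toFun := fun a => Multiplicative.ofAdd (g (Function.update x i a))
      map_one' := by rw [hg.map_one]; rfl
      map_mul' := fun b c => by rw [hg x i b c]; rfl }
  exact congrArg Multiplicative.toAdd (_root_.map_zpow f a e)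

end IsMultMore

section Gen

variable {A : Type u} [CommRing A] [IsDomain A] [IsDiscreteValuationRing A]
  (L : Type v) [Field L] [Algebra A L] [IsFractionRing A L] (ϖ : A) (hϖ : Irreducible ϖ)

/-- the standard generators of `K_{n+1}(L)` -/
def tameGens (n : ℕ) : Set (K L (n + 1)) :=
  {z | ∃ u : Fin n → Aˣ,
      z = symbol (Fin.cons (unitFrac A L ϖ hϖ.ne_zero) fun i => unitToFrac A L (u i))} ∪
    {z | ∃ u : Fin (n + 1) → Aˣ, z = symbol fun i => unitToFrac A L (u i)}

/-- entries are either the uniformizer or units -/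
def Good {m : ℕ} (x : Fin m → Lˣ) : Prop :=
  ∀ i, x i = unitFrac A L ϖ hϖ.ne_zero ∨ ∃ u : Aˣ, x i = unitToFrac A L u

theorem unif_ne_unit (u : Aˣ) : unitFrac A L ϖ hϖ.ne_zero ≠ unitToFrac A L u := by
  intro h
  have h1 := ordU_unif (L := L) ϖ hϖ
  rw [h, ordU_unit] at h1
  exact zero_ne_one h1

open Classical in
theorem good_mem (n : ℕ) : ∀ (N : ℕ) (x : Fin (n + 1) → Lˣ), Good L ϖ hϖ x →
    (Finset.univ.filter fun i => x i = unitFrac A L ϖ hϖ.ne_zero).card = N →
    symbol x ∈ AddSubgroup.closure (tameGens L ϖ hϖ n) := by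
  classical
  intro N
  induction N using Nat.strong_induction_on with
  | _ N ih =>
    intro x hx hN
    by_cases h2 : ∃ i j : Fin (n + 1), i < j ∧ x i = unitFrac A L ϖ hϖ.ne_zero ∧
        x j = unitFrac A L ϖ hϖ.ne_zero
    · obtain ⟨i, j, hij, hi, hj⟩ := h2
      have hS := isSteinbergSymbol_slots x i j hij
      have e1 := hS.self_self (unitFrac A L ϖ hϖ.ne_zero)
      have e0 : Function.update x i (unitFrac A L ϖ hϖ.ne_zero) = x :=
        Function.update_eq_self_iff.2 hi.symm
      have e2 : Function.update (Function.update x i (unitFrac A L ϖ hϖ.ne_zero)) j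
          (unitFrac A L ϖ hϖ.ne_zero) = x := by
        rw [e0]; exact Function.update_eq_self_iff.2 hj.symm
      have e3 : Function.update (Function.update x i (unitFrac A L ϖ hϖ.ne_zero)) j (-1) =
          Function.update x j (-1) := by
        rw [e0]
      simp only [e2, e3] at e1
      rw [e1]
      have hneg1 : (-1 : Lˣ) = unitToFrac A L (-1) := by
        apply Units.ext; simp [unitToFrac]
      refine ih _ ?_ (Function.update x j (-1)) ?_ rfl
      · rw [← hN]
        refine Finset.card_lt_card ?_
        rw [Finset.ssubset_iff_of_subset]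
        · refine ⟨j, by simp [hj], ?_⟩
          simp only [Finset.mem_filter, Finset.mem_univ, true_and, Function.update_self]
          rw [hneg1]
          exact fun h => unif_ne_unit L ϖ hϖ (-1) h.symm
        · intro k hk
          simp only [Finset.mem_filter, Finset.mem_univ, true_and] at hk ⊢
          by_cases hkj : k = j
          · subst hkj; exact hj
          · rwa [Function.update_of_ne hkj] at hk
      · intro k
        by_cases hkj : k = j
        · subst hkj
          rw [Function.update_self]
          exact Or.inr ⟨-1, hneg1⟩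
        · rw [Function.update_of_ne hkj]; exact hx k
    · -- at most one uniformizer entry
      by_cases h1 : ∃ i, x i = unitFrac A L ϖ hϖ.ne_zero
      · obtain ⟨i, hi⟩ := h1
        have hothers : ∀ k, k ≠ i → ∃ u : Aˣ, x k = unitToFrac A L u := by
          intro k hk
          rcases hx k with h | h
          · exfalso
            rcases lt_or_gt_of_ne hk with hlt | hlt
            · exact h2 ⟨k, i, hlt, h, hi⟩
            · exact h2 ⟨i, k, hlt, hi, h⟩
          · exact h
        -- the tuple with π moved to the front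
        have key : ∀ y : Fin (n + 1) → Lˣ, y 0 = unitFrac A L ϖ hϖ.ne_zero →
            (∀ k, k ≠ 0 → ∃ u : Aˣ, y k = unitToFrac A L u) →
            symbol y ∈ AddSubgroup.closure (tameGens L ϖ hϖ n) := by
          intro y hy0 hyk
          have : ∀ k : Fin n, ∃ u : Aˣ, y k.succ = unitToFrac A L u :=
            fun k => hyk _ (Fin.succ_ne_zero k)
          choose u hu using this
          refine AddSubgroup.subset_closure (Or.inl ⟨u, ?_⟩)
          congr 1
          funext k
          refine Fin.cases ?_ (fun j => ?_) k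
          · rw [Fin.cons_zero, hy0]
          · rw [Fin.cons_succ, hu]
        by_cases hi0 : i = 0
        · subst hi0
          exact key x hi hothers
        · have hsw := symbol_swap x 0 i (Ne.symm hi0)
          have : symbol x = - symbol (x ∘ Equiv.swap 0 i) := by rw [hsw, neg_neg]
          rw [this]
          refine neg_mem (key _ ?_ ?_)
          · simp only [Function.comp_apply, Equiv.swap_apply_left]; exact hi
          · intro k hk
            simp only [Function.comp_apply]
            by_cases hki : k = i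
            · subst hki
              rw [Equiv.swap_apply_right]
              exact hothers 0 (Ne.symm hi0)
            · rw [Equiv.swap_apply_of_ne_of_ne hk hki]
              exact hothers k hki
      · have : ∀ k, ∃ u : Aˣ, x k = unitToFrac A L u := by
          intro k
          rcases hx k with h | h
          · exact absurd ⟨k, h⟩ h1
          · exact h
        choose u hu using this
        refine AddSubgroup.subset_closure (Or.inr ⟨u, ?_⟩)
        congr 1
        funext k
        exact hu k

theorem symbol_mem_closure (n : ℕ) (x : Fin (n + 1) → Lˣ) :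
    symbol x ∈ AddSubgroup.closure (tameGens L ϖ hϖ n) := by
  classical
  have key : ∀ (s : Finset (Fin (n + 1))) (x : Fin (n + 1) → Lˣ),
      (∀ i, i ∉ s → (x i = unitFrac A L ϖ hϖ.ne_zero ∨ ∃ u : Aˣ, x i = unitToFrac A L u)) →
      symbol x ∈ AddSubgroup.closure (tameGens L ϖ hϖ n) := by
    intro s
    induction s using Finset.induction_on with
    | empty =>
      intro x hx
      exact good_mem L ϖ hϖ n _ x (fun i => hx i (Finset.notMem_empty i)) rfl
    | insert j s hj ih =>
      intro x hx
      have hdec := decomp_spec ϖ hϖ (x j)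
      have e0 : x = Function.update x j (x j) := (Function.update_eq_self j x).symm
      rw [e0, hdec, symbol_update_mul, isMult_symbol.map_zpow]
      refine add_mem (zsmul_mem (ih _ ?_) _) (ih _ ?_)
      · intro i hi
        by_cases hij : i = j
        · subst hij; rw [Function.update_self]; exact Or.inl rfl
        · rw [Function.update_of_ne hij]
          exact hx i (by rw [Finset.mem_insert]; push Not; exact ⟨hij, hi⟩)
      · intro i hi
        by_cases hij : i = j
        · subst hij; rw [Function.update_self]; exact Or.inr ⟨_, rfl⟩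
        · rw [Function.update_of_ne hij]
          exact hx i (by rw [Finset.mem_insert]; push Not; exact ⟨hij, hi⟩)
  exact key Finset.univ x fun i hi => absurd (Finset.mem_univ i) hi

theorem closure_tameGens (n : ℕ) : AddSubgroup.closure (tameGens L ϖ hϖ n) = ⊤ := by
  rw [eq_top_iff]
  intro y _
  exact Groth.Agent.Lib.Helper26.MilKBasic.symbol_induction
    (p := fun y => y ∈ AddSubgroup.closure (tameGens L ϖ hϖ n)) (zero_mem _)
    (fun a b ha hb => add_mem ha hb) (fun a ha => neg_mem ha)
    (fun x => symbol_mem_closure L ϖ hϖ n x) y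

/-- two additive maps out of `K_{n+1}(L)` agreeing on `{π, units}` and `{units}` are equal -/
theorem hom_ext_tame {M : Type*} [AddCommGroup M] (n : ℕ) (f g : K L (n + 1) →+ M)
    (h1 : ∀ u : Fin n → Aˣ,
      f (symbol (Fin.cons (unitFrac A L ϖ hϖ.ne_zero) fun i => unitToFrac A L (u i))) =
      g (symbol (Fin.cons (unitFrac A L ϖ hϖ.ne_zero) fun i => unitToFrac A L (u i))))
    (h2 : ∀ u : Fin (n + 1) → Aˣ, f (symbol fun i => unitToFrac A L (u i)) =
      g (symbol fun i => unitToFrac A L (u i))) : f = g := by
  have : AddMonoidHom.eqLocus f g = ⊤ := by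
    rw [eq_top_iff, ← closure_tameGens L ϖ hϖ n, AddSubgroup.closure_le]
    rintro z (⟨u, rfl⟩ | ⟨u, rfl⟩)
    · exact h1 u
    · exact h2 u
  ext y
  have hy : y ∈ AddMonoidHom.eqLocus f g := this ▸ AddSubgroup.mem_top y
  exact hy

local notation "κ" => IsLocalRing.ResidueField A

theorem isSpecMap_sMap (n : ℕ) : IsSpecMap A L ϖ hϖ (n + 1) (sMap L ϖ hϖ n) := by
  intro e u
  rw [sMap_symbol]
  congr 1
  funext i
  rw [unitU_eq]

/-- the specialization map in degree zero -/
noncomputable def sMap0 : K L 0 →+ K κ 0 :=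
  ((K0 κ).symm.toAddMonoidHom).comp (K0 L).toAddMonoidHom

theorem isSpecMap_sMap0 : IsSpecMap A L ϖ hϖ 0 (sMap0 L) := by
  intro e u
  show (K0 κ).symm (K0 L (symbol _)) = symbol _
  rw [K0_symbol, AddEquiv.symm_apply_eq, K0_symbol]

theorem exists_isSpecMap (n : ℕ) : ∃ s : K L n →+ K κ n, IsSpecMap A L ϖ hϖ n s := by
  cases n with
  | zero => exact ⟨sMap0 L, isSpecMap_sMap0 L ϖ hϖ⟩
  | succ n => exact ⟨sMap L ϖ hϖ n, isSpecMap_sMap L ϖ hϖ n⟩

theorem isSpecMap_unique (n : ℕ) (s s' : K L n →+ K κ n) (hs : IsSpecMap A L ϖ hϖ n s)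
    (hs' : IsSpecMap A L ϖ hϖ n s') : s = s' := by
  refine hom_ext_symbol fun x => ?_
  have : x = fun i => unitFrac A L ϖ hϖ.ne_zero ^ (ordU L ϖ hϖ (x i)) *
      unitToFrac A L (unitU L ϖ hϖ (x i)) := funext fun i => decomp_spec ϖ hϖ (x i)
  rw [this, hs, hs']

theorem unitFrac_eq_of_associated (ϖ' : A) (hϖ' : Irreducible ϖ') :
    ∃ w : Aˣ, unitFrac A L ϖ' hϖ'.ne_zero =
      unitFrac A L ϖ hϖ.ne_zero ^ (1 : ℤ) * unitToFrac A L w := by
  obtain ⟨w, hw⟩ := IsDiscreteValuationRing.associated_of_irreducible A hϖ hϖ'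
  refine ⟨w, Units.ext ?_⟩
  rw [Units.val_mul, zpow_one, coe_unitFrac, coe_unitFrac, coe_unitToFrac, ← hw, map_mul]

theorem isTameSymbol_dMap (n : ℕ) : IsTameSymbol A L n (dMap L ϖ hϖ n) := by
  intro ϖ' hϖ' u
  obtain ⟨w, hw⟩ := unitFrac_eq_of_associated L ϖ hϖ ϖ' hϖ'
  rw [dMap_symbol]
  · congr 1
    funext i
    rw [Fin.cons_succ, unitU_unit]
  · rw [Fin.cons_zero, hw, ordU_eq]
  · intro i
    rw [Fin.cons_succ, ordU_unit]

theorem isTameSymbol_unique (n : ℕ) (d d' : K L (n + 1) →+ K κ n) (hd : IsTameSymbol A L n d)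
    (hd' : IsTameSymbol A L n d') : d = d' := by
  obtain ⟨ϖ, hϖ⟩ := IsDiscreteValuationRing.exists_irreducible A
  refine hom_ext_tame L ϖ hϖ n d d' (fun u => ?_) (fun u => ?_)
  · rw [hd ϖ hϖ u, hd' ϖ hϖ u]
  · rw [Groth.Agent.Lib.Helper26.MilKBasic.tame_units_eq_zero A L n d hd u,
      Groth.Agent.Lib.Helper26.MilKBasic.tame_units_eq_zero A L n d' hd' u]

end Gen

end Groth.Agent.Lib.Helper21.MilnorK
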