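import Mathlib
import Groth.Prelude.Def_GSzMilK
import Groth.Agent.Lib.Helper21.MilnorK4

/-!
# Milnor K-theory (helper21), part 5: one-unit symbols lie in the unit-symbol subgroup
-/

set_option autoImplicit false
universe u v w

namespace Groth.Agent.Lib.Helper21.MilnorK

open MilK Groth.Agent.Lib.Helper20.MilKLemmas

section Reduce

variable {A : Type u} [CommRing A] [IsDomain A] [IsDiscreteValuationRing A]
  (L : Type v) [Field L] [Algebra A L] [IsFractionRing A L] (ϖ : A) (hϖ : Irreducible ϖ)

theorem neg_one_eq : (-1 : Lˣ) = unitToFrac A L (-1) := by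
  apply Units.ext; simp [unitToFrac]

/-- two uniformizer entries -/
def TwoUnif {m : ℕ} (x : Fin m → Lˣ) : Prop :=
  ∃ i j : Fin m, i < j ∧ x i = unitFrac A L ϖ hϖ.ne_zero ∧ x j = unitFrac A L ϖ hϖ.ne_zero

open Classical in
/-- reduction of the number of uniformizer entries -/
theorem good_reduce {m : ℕ} (H : AddSubgroup (K L m)) (Q : (Fin m → Lˣ) → Prop)
    (hQ : ∀ (x : Fin m → Lˣ) (i j : Fin m), i < j → x i = unitFrac A L ϖ hϖ.ne_zero →
      x j = unitFrac A L ϖ hϖ.ne_zero → Q x → Q (Function.update x j (-1)))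
    (hle1 : ∀ x : Fin m → Lˣ, Good L ϖ hϖ x → Q x → ¬ TwoUnif L ϖ hϖ x → symbol x ∈ H) :
    ∀ x : Fin m → Lˣ, Good L ϖ hϖ x → Q x → symbol x ∈ H := by
  have key : ∀ (N : ℕ) (x : Fin m → Lˣ), Good L ϖ hϖ x → Q x →
      (Finset.univ.filter fun i => x i = unitFrac A L ϖ hϖ.ne_zero).card = N → symbol x ∈ H := by
    intro N
    induction N using Nat.strong_induction_on with
    | _ N ih =>
      intro x hx hQx hN
      by_cases h2 : TwoUnif L ϖ hϖ x
      · obtain ⟨i, j, hij, hi, hj⟩ := h2
        have hS := isSteinbergSymbol_slots x i j hij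
        have e1 := hS.self_self (unitFrac A L ϖ hϖ.ne_zero)
        have e0 : Function.update x i (unitFrac A L ϖ hϖ.ne_zero) = x :=
          Function.update_eq_self_iff.2 hi.symm
        have e2 : Function.update (Function.update x i (unitFrac A L ϖ hϖ.ne_zero)) j
            (unitFrac A L ϖ hϖ.ne_zero) = x := by
          rw [e0]; exact Function.update_eq_self_iff.2 hj.symm
        have e3 : Function.update (Function.update x i (unitFrac A L ϖ hϖ.ne_zero)) j (-1) =
            Function.update x j (-1) := by
          rw [e0]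
        simp only [e2, e3] at e1
        rw [e1]
        refine ih _ ?_ (Function.update x j (-1)) ?_ (hQ x i j hij hi hj hQx) rfl
        · rw [← hN]
          refine Finset.card_lt_card ?_
          rw [Finset.ssubset_iff_of_subset]
          · refine ⟨j, by simp [hj], ?_⟩
            simp only [Finset.mem_filter, Finset.mem_univ, true_and, Function.update_self]
            rw [neg_one_eq (A := A) L]
            exact fun h => unif_ne_unit L ϖ hϖ (-1) h.symm
          · intro k hk
            simp only [Finset.mem_filter, Finset.mem_univ, true_and] at hk ⊢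
            by_cases hkj : k = j
            · subst hkj; exact hj
            · rwa [Function.update_of_ne hkj] at hk
        · intro k
          by_cases hkj : k = j
          · subst hkj
            rw [Function.update_self]
            exact Or.inr ⟨-1, neg_one_eq L⟩
          · rw [Function.update_of_ne hkj]; exact hx k
      · exact hle1 x hx hQx h2
  intro x hx hQx
  exact key _ x hx hQx rfl

/-- expansion of arbitrary entries at the slots of `T` into uniformizers and units -/
theorem expand_mem {m : ℕ} (H : AddSubgroup (K L m)) (Q : (Fin m → Lˣ) → Prop)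
    (T : Finset (Fin m))
    (hQ : ∀ (x : Fin m → Lˣ) (j : Fin m) (a : Lˣ), j ∈ T → Q x → Q (Function.update x j a))
    (hgood : ∀ x : Fin m → Lˣ, Q x →
      (∀ i ∈ T, x i = unitFrac A L ϖ hϖ.ne_zero ∨ ∃ u : Aˣ, x i = unitToFrac A L u) →
      symbol x ∈ H) :
    ∀ x : Fin m → Lˣ, Q x → symbol x ∈ H := by
  classical
  have key : ∀ (s : Finset (Fin m)), s ⊆ T → ∀ (x : Fin m → Lˣ), Q x →
      (∀ i ∈ T, i ∉ s → (x i = unitFrac A L ϖ hϖ.ne_zero ∨ ∃ u : Aˣ, x i = unitToFrac A L u)) →
      symbol x ∈ H := by
    intro s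
    induction s using Finset.induction_on with
    | empty =>
      intro _ x hQx hx
      exact hgood x hQx fun i hi => hx i hi (Finset.notMem_empty i)
    | insert j s hj ih =>
      intro hsT x hQx hx
      have hjT : j ∈ T := hsT (Finset.mem_insert_self j s)
      have hsT' : s ⊆ T := fun k hk => hsT (Finset.mem_insert_of_mem hk)
      have hdec := decomp_spec ϖ hϖ (x j)
      have e0 : x = Function.update x j (x j) := (Function.update_eq_self j x).symm
      rw [e0, hdec, symbol_update_mul, isMult_symbol.map_zpow]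
      refine add_mem (zsmul_mem (ih hsT' _ (hQ x j _ hjT hQx) ?_) _)
        (ih hsT' _ (hQ x j _ hjT hQx) ?_)
      · intro i hiT hi
        by_cases hij : i = j
        · subst hij; rw [Function.update_self]; exact Or.inl rfl
        · rw [Function.update_of_ne hij]
          exact hx i hiT (by rw [Finset.mem_insert]; push Not; exact ⟨hij, hi⟩)
      · intro i hiT hi
        by_cases hij : i = j
        · subst hij; rw [Function.update_self]; exact Or.inr ⟨_, rfl⟩
        · rw [Function.update_of_ne hij]
          exact hx i hiT (by rw [Finset.mem_insert]; push Not; exact ⟨hij, hi⟩)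
  intro x hQx
  exact key T (Finset.Subset.refl T) x hQx fun i hi hi' => absurd hi hi'

end Reduce

section OneUnits

variable {A : Type u} [CommRing A] [IsDomain A] [IsDiscreteValuationRing A]
  (L : Type v) [Field L] [Algebra A L] [IsFractionRing A L] (ϖ : A) (hϖ : Irreducible ϖ)

/-- the subgroup generated by symbols of units of `A` -/
def unitSyms (m : ℕ) : AddSubgroup (K L m) :=
  AddSubgroup.closure {z | ∃ u : Fin m → Aˣ, z = symbol (fun i => unitToFrac A L (u i))}

/-- the subgroup generated by symbols whose first entry is a one-unit -/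
def oneUnitSyms (n : ℕ) : AddSubgroup (K L (n + 1)) :=
  AddSubgroup.closure {z | ∃ (u₀ : Aˣ) (w : Fin n → Lˣ),
    IsLocalRing.residue A (u₀ : A) = 1 ∧ z = symbol (Fin.cons (unitToFrac A L u₀) w)}

variable {L}

theorem isUnit_of_residue_ne_zero {a : A} (h : IsLocalRing.residue A a ≠ 0) : IsUnit a := by
  by_contra hu
  exact h ((IsLocalRing.residue_eq_zero_iff a).2 ((IsLocalRing.mem_maximalIdeal a).2 hu))

include hϖ in
theorem exists_eq_unif_mul {a : A} (h : IsLocalRing.residue A a = 0) : ∃ c : A, a = ϖ * c := by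
  have : a ∈ IsLocalRing.maximalIdeal A := (IsLocalRing.residue_eq_zero_iff a).1 h
  rw [hϖ.maximalIdeal_eq, Ideal.mem_span_singleton'] at this
  obtain ⟨c, hc⟩ := this
  exact ⟨c, by rw [← hc, mul_comm]⟩

include hϖ in
theorem residue_unif : IsLocalRing.residue A ϖ = 0 := by
  rw [IsLocalRing.residue_eq_zero_iff, IsLocalRing.mem_maximalIdeal, mem_nonunits_iff]
  exact hϖ.not_isUnit

variable {M : Type w} [AddCommGroup M]

theorem oneUnit_case1 {φ : Lˣ → Lˣ → M} (hφ : IsSteinbergSymbol φ) (u₀ b : Aˣ)
    (h : (u₀ : A) - 1 = ϖ * (b : A)) :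
    φ (unitToFrac A L u₀) (unitFrac A L ϖ hϖ.ne_zero) =
      - φ (unitToFrac A L u₀) (unitToFrac A L (-b)) := by
  have hst : ((unitToFrac A L u₀ : Lˣ) : L) +
      ((unitFrac A L ϖ hϖ.ne_zero * unitToFrac A L (-b) : Lˣ) : L) = 1 := by
    rw [Units.val_mul, coe_unitToFrac, coe_unitToFrac, coe_unitFrac, ← map_mul, ← map_add,
      Units.val_neg, mul_neg, ← h]
    simp
  have := hφ.steinberg _ _ hst
  rw [hφ.mul_right] at this
  exact eq_neg_of_add_eq_zero_left this

theorem oneUnit_slot {φ : Lˣ → Lˣ → M} (hφ : IsSteinbergSymbol φ) (H : AddSubgroup M)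
    (hH : ∀ a b : Aˣ, φ (unitToFrac A L a) (unitToFrac A L b) ∈ H) (u₀ : Aˣ)
    (h1 : IsLocalRing.residue A (u₀ : A) = 1) :
    φ (unitToFrac A L u₀) (unitFrac A L ϖ hϖ.ne_zero) ∈ H := by
  have h0 : IsLocalRing.residue A ((u₀ : A) - 1) = 0 := by rw [map_sub, h1, map_one, sub_self]
  obtain ⟨a, ha⟩ := exists_eq_unif_mul ϖ hϖ h0
  by_cases hau : IsUnit a
  · obtain ⟨b, rfl⟩ := hau
    rw [oneUnit_case1 ϖ hϖ hφ u₀ b ha]
    exact neg_mem (hH _ _)
  · -- factor `u₀ = v * u₁`
    have hares : IsLocalRing.residue A a = 0 :=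
      (IsLocalRing.residue_eq_zero_iff a).2 ((IsLocalRing.mem_maximalIdeal a).2 hau)
    have hv : IsUnit (1 + ϖ) := isUnit_of_residue_ne_zero (by
      rw [map_add, map_one, residue_unif ϖ hϖ, add_zero]; exact one_ne_zero)
    obtain ⟨v, hv⟩ := hv
    have hb : IsUnit (a - 1) := isUnit_of_residue_ne_zero (by
      rw [map_sub, map_one, hares, zero_sub]; exact neg_ne_zero.2 one_ne_zero)
    obtain ⟨b, hb⟩ := hb
    have hv1 : (v : A) - 1 = ϖ * ((1 : Aˣ) : A) := by rw [hv]; simp
    have hu1 : ((u₀ * v⁻¹ : Aˣ) : A) - 1 = ϖ * ((b * v⁻¹ : Aˣ) : A) := by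
      have e1 : (u₀ : A) = 1 + ϖ * a := by rw [← ha]; ring
      have e2 : ((v⁻¹ : Aˣ) : A) * (v : A) = 1 := Units.inv_mul v
      rw [Units.val_mul, Units.val_mul, hb, e1]
      have : (1 + ϖ * a) * ((v⁻¹ : Aˣ) : A) - 1 =
          (1 + ϖ * a) * ((v⁻¹ : Aˣ) : A) - ((v⁻¹ : Aˣ) : A) * (v : A) := by rw [e2]
      rw [this, hv]; ring
    have e : u₀ = v * (u₀ * v⁻¹) := by rw [mul_comm u₀, mul_inv_cancel_left]
    rw [e, map_mul, hφ.mul_left, oneUnit_case1 ϖ hϖ hφ v 1 hv1,
      oneUnit_case1 ϖ hϖ hφ (u₀ * v⁻¹) (b * v⁻¹) hu1]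
    exact add_mem (neg_mem (hH _ _)) (neg_mem (hH _ _))

variable (L)

/-- any symbol with first entry a one-unit lies in the unit-symbol subgroup -/
theorem oneUnit_symbol_mem (n : ℕ) (u₀ : Aˣ) (h1 : IsLocalRing.residue A (u₀ : A) = 1)
    (w : Fin n → Lˣ) :
    symbol (Fin.cons (unitToFrac A L u₀) w) ∈ unitSyms (A := A) L (n + 1) := by
  classical
  obtain ⟨ϖ, hϖ⟩ := IsDiscreteValuationRing.exists_irreducible A
  refine expand_mem L ϖ hϖ (unitSyms (A := A) L (n + 1)) (fun x => x 0 = unitToFrac A L u₀)
    (Finset.univ.erase 0) ?_ ?_ _ (Fin.cons_zero _ _)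
  · intro x j a hj hx
    rw [Finset.mem_erase] at hj
    show Function.update x j a 0 = _
    rw [Function.update_of_ne (Ne.symm hj.1)]; exact hx
  · intro x hx0 hx
    have hgood : Good L ϖ hϖ x := by
      intro i
      by_cases hi : i = 0
      · subst hi; exact Or.inr ⟨u₀, hx0⟩
      · exact hx i (Finset.mem_erase.2 ⟨hi, Finset.mem_univ i⟩)
    refine good_reduce L ϖ hϖ (unitSyms (A := A) L (n + 1)) (fun x => x 0 = unitToFrac A L u₀)
      ?_ ?_ x hgood hx0
    · intro x i j hij _ _ hx
      have : j ≠ 0 := by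
        intro h; rw [h] at hij; exact absurd hij (Fin.not_lt_zero i)
      show Function.update x j (-1) 0 = _
      rw [Function.update_of_ne (Ne.symm this)]; exact hx
    · intro x hgood hx0 h2
      by_cases hex : ∃ i, x i = unitFrac A L ϖ hϖ.ne_zero
      · obtain ⟨i, hi⟩ := hex
        have hi0 : i ≠ 0 := by
          intro h; rw [h, hx0] at hi
          exact unif_ne_unit L ϖ hϖ u₀ hi.symm
        have h0i : (0 : Fin (n + 1)) < i := Fin.pos_of_ne_zero hi0
        have hothers : ∀ k, k ≠ i → ∃ u : Aˣ, x k = unitToFrac A L u := by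
          intro k hk
          rcases hgood k with h | h
          · exfalso
            rcases lt_or_gt_of_ne hk with hlt | hlt
            · exact h2 ⟨k, i, hlt, h, hi⟩
            · exact h2 ⟨i, k, hlt, hi, h⟩
          · exact h
        have hS := isSteinbergSymbol_slots x 0 i h0i
        have hmem := oneUnit_slot ϖ hϖ hS (unitSyms (A := A) L (n + 1)) ?_ u₀ h1
        · have e : Function.update (Function.update x 0 (unitToFrac A L u₀)) i
              (unitFrac A L ϖ hϖ.ne_zero) = x := by
            have e0 : Function.update x 0 (unitToFrac A L u₀) = x :=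
              Function.update_eq_self_iff.2 hx0.symm
            rw [e0]
            exact Function.update_eq_self_iff.2 hi.symm
          simp only [e] at hmem
          exact hmem
        · intro a b
          have : ∀ k, ∃ u : Aˣ, Function.update (Function.update x 0 (unitToFrac A L a)) i
              (unitToFrac A L b) k = unitToFrac A L u := by
            intro k
            by_cases hki : k = i
            · subst hki; rw [Function.update_self]; exact ⟨b, rfl⟩
            · rw [Function.update_of_ne hki]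
              by_cases hk0 : k = 0
              · subst hk0; rw [Function.update_self]; exact ⟨a, rfl⟩
              · rw [Function.update_of_ne hk0]; exact hothers k hki
          choose u hu using this
          refine AddSubgroup.subset_closure ⟨u, ?_⟩
          congr 1
          funext k
          exact hu k
      · have : ∀ k, ∃ u : Aˣ, x k = unitToFrac A L u := by
          intro k
          rcases hgood k with h | h
          · exact absurd ⟨k, h⟩ hex
          · exact h
        choose u hu using this
        refine AddSubgroup.subset_closure ⟨u, ?_⟩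
        congr 1
        funext k
        exact hu k

theorem oneUnitSyms_le_unitSyms (n : ℕ) :
    oneUnitSyms (A := A) L n ≤ unitSyms (A := A) L (n + 1) := by
  rw [oneUnitSyms, AddSubgroup.closure_le]
  rintro z ⟨u₀, w, h1, rfl⟩
  exact oneUnit_symbol_mem L n u₀ h1 w

end OneUnits

end Groth.Agent.Lib.Helper21.MilnorK
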