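import Mathlib
import Groth.Prelude.Def_GSzMilK
import Groth.Agent.Lib.Helper21.MilnorK5

/-!
# Milnor K-theory (helper21), part 6: cons-lemmas, descent to the residue field
-/

set_option autoImplicit false
universe u v w

namespace Groth.Agent.Lib.Helper21.MilnorK

open MilK Groth.Agent.Lib.Helper20.MilKLemmas

section ConsLemmas

variable {F : Type u} [Field F]

theorem cast_mul_one_left {n : ℕ} (a : Fˣ) (y : Fin n → Fˣ) :
    cast F (Nat.add_comm 1 n) (mul F 1 n (symbol ![a]) (symbol y)) =
      symbol (Fin.cons a y : Fin (n + 1) → Fˣ) := by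
  rw [mul_symbol_symbol, cast_symbol, Fin.append_left_eq_cons]
  congr 1

theorem symbol_cons_swap {n : ℕ} (a b : Fˣ) (y : Fin n → Fˣ) :
    (symbol (Fin.cons a (Fin.cons b y) : Fin (n + 1 + 1) → Fˣ) : K F (n + 1 + 1)) =
      - symbol (Fin.cons b (Fin.cons a y) : Fin (n + 1 + 1) → Fˣ) := by
  have h := symbol_swap (Fin.cons b (Fin.cons a y) : Fin (n + 1 + 1) → Fˣ) 0 1 (by simp)
  rw [← h]
  congr 1
  funext k
  refine Fin.cases ?_ (fun j => ?_) k
  · simp [Equiv.swap_apply_left]
  · refine Fin.cases ?_ (fun l => ?_) j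
    · have : (Fin.succ (0 : Fin (n + 1)) : Fin (n + 1 + 1)) = 1 := rfl
      simp [this, Equiv.swap_apply_right]
    · have h1 : (Fin.succ (Fin.succ l) : Fin (n + 1 + 1)) ≠ 0 := Fin.succ_ne_zero _
      have h2 : (Fin.succ (Fin.succ l) : Fin (n + 1 + 1)) ≠ 1 := by
        intro h; have := congrArg Fin.val h; simp at this
      simp [Equiv.swap_apply_of_ne_of_ne h1 h2]

theorem symbol_cons_zpow {n : ℕ} (a : Fˣ) (e : ℤ) (y : Fin n → Fˣ) :
    (symbol (Fin.cons (a ^ e) y : Fin (n + 1) → Fˣ) : K F (n + 1)) =
      e • symbol (Fin.cons a y : Fin (n + 1) → Fˣ) := by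
  have h := isMult_symbol.map_zpow (M := K F (n + 1)) (Fin.cons 1 y : Fin (n + 1) → Fˣ) 0 a e
  simpa only [Fin.update_cons_zero] using h

theorem symbol_cons_mul' {n : ℕ} (a b : Fˣ) (y : Fin n → Fˣ) :
    (symbol (Fin.cons (a * b) y : Fin (n + 1) → Fˣ) : K F (n + 1)) =
      symbol (Fin.cons a y : Fin (n + 1) → Fˣ) + symbol (Fin.cons b y : Fin (n + 1) → Fˣ) :=
  Groth.Agent.Lib.Helper26.MilKBasic.symbol_cons_mul a b y

theorem symbol_cons_one {n : ℕ} (y : Fin n → Fˣ) :
    (symbol (Fin.cons 1 y : Fin (n + 1) → Fˣ) : K F (n + 1)) = 0 := by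
  have := symbol_cons_mul' (1 : Fˣ) 1 y
  rw [mul_one] at this
  exact left_eq_add.mp this

end ConsLemmas

section TameUnit

variable (B : Type u) [CommRing B] [IsDomain B] [IsDiscreteValuationRing B]
  (F : Type v) [Field F] [Algebra B F] [IsFractionRing B F]

theorem cons_unitToFrac {n : ℕ} (u : Bˣ) (v : Fin n → Bˣ) :
    (fun i => unitToFrac B F ((Fin.cons u v : Fin (n + 1) → Bˣ) i)) =
      (Fin.cons (unitToFrac B F u) fun i => unitToFrac B F (v i) : Fin (n + 1) → Fˣ) := by
  funext i
  refine Fin.cases ?_ (fun j => ?_) i <;> simp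

theorem cons_unitResidue {n : ℕ} (u : Bˣ) (v : Fin n → Bˣ) :
    (fun i => unitResidue B ((Fin.cons u v : Fin (n + 1) → Bˣ) i)) =
      (Fin.cons (unitResidue B u) fun i => unitResidue B (v i) :
        Fin (n + 1) → (IsLocalRing.ResidueField B)ˣ) := by
  funext i
  refine Fin.cases ?_ (fun j => ?_) i <;> simp

theorem tame_unit_mul (n : ℕ)
    (d : K F (n + 1) →+ K (IsLocalRing.ResidueField B) n) (hd : IsTameSymbol B F n d)
    (d' : K F (n + 1 + 1) →+ K (IsLocalRing.ResidueField B) (n + 1))
    (hd' : IsTameSymbol B F (n + 1) d')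
    (u : Bˣ) (ρ : K F (n + 1)) :
    d' (cast F (Nat.add_comm 1 (n + 1)) (mul F 1 (n + 1) (symbol ![unitToFrac B F u]) ρ)) =
      -(cast (IsLocalRing.ResidueField B) (Nat.add_comm 1 n)
          (mul (IsLocalRing.ResidueField B) 1 n (symbol ![unitResidue B u]) (d ρ))) := by
  obtain ⟨ϖ, hϖ⟩ := IsDiscreteValuationRing.exists_irreducible B
  let f : K F (n + 1) →+ K (IsLocalRing.ResidueField B) (n + 1) :=
    d'.comp ((cast F (Nat.add_comm 1 (n + 1))).toAddMonoidHom.comp
      (mul F 1 (n + 1) (symbol ![unitToFrac B F u])))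
  let g : K F (n + 1) →+ K (IsLocalRing.ResidueField B) (n + 1) :=
    -((cast (IsLocalRing.ResidueField B) (Nat.add_comm 1 n)).toAddMonoidHom.comp
      ((mul (IsLocalRing.ResidueField B) 1 n (symbol ![unitResidue B u])).comp d))
  have hfg : f = g := by
    refine hom_ext_tame F ϖ hϖ n f g (fun v => ?_) (fun w => ?_)
    · show d' (cast F (Nat.add_comm 1 (n + 1)) (mul F 1 (n + 1) (symbol ![unitToFrac B F u]) _)) =
        -(cast (IsLocalRing.ResidueField B) (Nat.add_comm 1 n)
          (mul (IsLocalRing.ResidueField B) 1 n (symbol ![unitResidue B u]) (d _)))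
      rw [cast_mul_one_left, symbol_cons_swap, map_neg, ← cons_unitToFrac, hd' ϖ hϖ, hd ϖ hϖ,
        cast_mul_one_left, cons_unitResidue]
    · show d' (cast F (Nat.add_comm 1 (n + 1)) (mul F 1 (n + 1) (symbol ![unitToFrac B F u]) _)) =
        -(cast (IsLocalRing.ResidueField B) (Nat.add_comm 1 n)
          (mul (IsLocalRing.ResidueField B) 1 n (symbol ![unitResidue B u]) (d _)))
      rw [cast_mul_one_left, tame_units_eq_zero d' hd' ϖ hϖ,
        Groth.Agent.Lib.Helper26.MilKBasic.tame_units_eq_zero B F n d hd w, map_zero, map_zero,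
        neg_zero]
  exact DFunLike.congr_fun hfg ρ

end TameUnit

section Ramification

variable (A B : Type u) [CommRing A] [IsDomain A] [IsDiscreteValuationRing A]
  [CommRing B] [IsDomain B] [IsDiscreteValuationRing B] [Algebra A B] [IsLocalHom (algebraMap A B)]
  (E F : Type v) [Field E] [Field F] [Algebra A E] [IsFractionRing A E] [Algebra B F]
  [IsFractionRing B F] [Algebra E F] [Algebra A F] [IsScalarTower A E F] [IsScalarTower A B F]

theorem algebraMap_comm (a : A) :
    algebraMap E F (algebraMap A E a) = algebraMap B F (algebraMap A B a) := by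
  rw [← IsScalarTower.algebraMap_apply A E F, ← IsScalarTower.algebraMap_apply A B F]

theorem map_unitToFrac (u : Aˣ) :
    Units.map (algebraMap E F : E →* F) (unitToFrac A E u) =
      unitToFrac B F (Units.map (algebraMap A B : A →* B) u) := by
  apply Units.ext
  simp only [unitToFrac, Units.coe_map, MonoidHom.coe_coe]
  exact algebraMap_comm A B E F _

theorem map_unitResidue (u : Aˣ) :
    Units.map (IsLocalRing.ResidueField.map (algebraMap A B) :
        IsLocalRing.ResidueField A →* IsLocalRing.ResidueField B) (unitResidue A u) =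
      unitResidue B (Units.map (algebraMap A B : A →* B) u) := by
  apply Units.ext
  simp only [unitResidue, Units.coe_map, MonoidHom.coe_coe]
  exact IsLocalRing.ResidueField.map_residue _ _

theorem tame_ramification (e : ℕ)
    (he : Ideal.map (algebraMap A B) (IsLocalRing.maximalIdeal A) = IsLocalRing.maximalIdeal B ^ e)
    (n : ℕ) (dA : K E (n + 1) →+ K (IsLocalRing.ResidueField A) n) (hdA : IsTameSymbol A E n dA)
    (dB : K F (n + 1) →+ K (IsLocalRing.ResidueField B) n) (hdB : IsTameSymbol B F n dB)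
    (x : K E (n + 1)) :
    dB (map (algebraMap E F) (n + 1) x) =
      e • map (IsLocalRing.ResidueField.map (algebraMap A B)) n (dA x) := by
  obtain ⟨ϖA, hϖA⟩ := IsDiscreteValuationRing.exists_irreducible A
  obtain ⟨ϖB, hϖB⟩ := IsDiscreteValuationRing.exists_irreducible B
  have h1 : Ideal.span {algebraMap A B ϖA} = Ideal.span {ϖB ^ e} := by
    rw [← Set.image_singleton, ← Ideal.map_span, ← hϖA.maximalIdeal_eq, he, hϖB.maximalIdeal_eq,
      Ideal.span_singleton_pow]
  obtain ⟨w, hw⟩ := Ideal.span_singleton_eq_span_singleton.1 h1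
  have hπ : Units.map (algebraMap E F : E →* F) (unitFrac A E ϖA hϖA.ne_zero) =
      unitFrac B F ϖB hϖB.ne_zero ^ (e : ℤ) * unitToFrac B F w⁻¹ := by
    apply Units.ext
    rw [Units.coe_map, Units.val_mul, Units.val_zpow_eq_zpow_val, coe_unitFrac, coe_unitFrac,
      coe_unitToFrac, zpow_natCast, ← map_pow, ← map_mul, ← hw, mul_assoc, Units.mul_inv, mul_one]
    exact algebraMap_comm A B E F ϖA
  let f : K E (n + 1) →+ K (IsLocalRing.ResidueField B) n := dB.comp (map (algebraMap E F) (n + 1))
  let g : K E (n + 1) →+ K (IsLocalRing.ResidueField B) n :=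
    e • (map (IsLocalRing.ResidueField.map (algebraMap A B)) n).comp dA
  have hfg : f = g := by
    refine hom_ext_tame E ϖA hϖA n f g (fun u => ?_) (fun u => ?_)
    · show dB (map (algebraMap E F) (n + 1) _) =
        e • map (IsLocalRing.ResidueField.map (algebraMap A B)) n (dA _)
      rw [map_symbol, hdA ϖA hϖA u, map_symbol]
      have e1 : (fun i => Units.map (algebraMap E F : E →* F)
          ((Fin.cons (unitFrac A E ϖA hϖA.ne_zero) fun i => unitToFrac A E (u i) :
            Fin (n + 1) → Eˣ) i)) =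
          (Fin.cons (unitFrac B F ϖB hϖB.ne_zero ^ (e : ℤ) * unitToFrac B F w⁻¹)
            fun i => unitToFrac B F (Units.map (algebraMap A B : A →* B) (u i)) :
              Fin (n + 1) → Fˣ) := by
        funext i
        refine Fin.cases ?_ (fun j => ?_) i
        · rw [Fin.cons_zero, Fin.cons_zero, hπ]
        · rw [Fin.cons_succ, Fin.cons_succ, map_unitToFrac A B E F]
      rw [e1, symbol_cons_mul', symbol_cons_zpow, map_add, map_zsmul, hdB ϖB hϖB,
        tame_units_eq_zero dB hdB ϖB hϖB, add_zero, natCast_zsmul]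
      have e2 : (fun i => unitResidue B (Units.map (algebraMap A B : A →* B) (u i))) =
          fun i => Units.map (IsLocalRing.ResidueField.map (algebraMap A B) :
            IsLocalRing.ResidueField A →* IsLocalRing.ResidueField B) (unitResidue A (u i)) := by
        funext i
        exact (map_unitResidue A B (u i)).symm
      rw [e2]
    · show dB (map (algebraMap E F) (n + 1) _) =
        e • map (IsLocalRing.ResidueField.map (algebraMap A B)) n (dA _)
      rw [map_symbol, Groth.Agent.Lib.Helper26.MilKBasic.tame_units_eq_zero A E n dA hdA u,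
        map_zero, smul_zero]
      have e1 : (fun i => Units.map (algebraMap E F : E →* F) (unitToFrac A E (u i))) =
          fun i => unitToFrac B F (Units.map (algebraMap A B : A →* B) (u i)) := by
        funext i
        exact map_unitToFrac A B E F (u i)
      rw [e1]
      exact Groth.Agent.Lib.Helper26.MilKBasic.tame_units_eq_zero B F n dB hdB _
  exact DFunLike.congr_fun hfg x

end Ramification

end Groth.Agent.Lib.Helper21.MilnorK
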