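import Mathlib

set_option autoImplicit false
set_option linter.style.haveILetI false

namespace Groth.Agent.Lib.Helper21.ModPSmooth

open TensorProduct KaehlerDifferential

universe u

section abstract

variable {Λ A B C : Type u} [CommRing Λ] [CommRing A] [CommRing B] [CommRing C]
  [Algebra Λ A] [Algebra A C] [Algebra Λ C] [IsScalarTower Λ A C]
  [Algebra Λ B] [Algebra A B] [Algebra B C] [IsScalarTower Λ A B] [IsScalarTower A B C]
  [IsScalarTower Λ B C]

/-- functoriality `C ⊗_A Ω_{A/Λ} → C ⊗_B Ω_{B/Λ}` -/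
noncomputable def tensorMap : C ⊗[A] Ω[A⁄Λ] →ₗ[C] C ⊗[B] Ω[B⁄Λ] :=
  LinearMap.liftBaseChange C
    (((TensorProduct.mk B C Ω[B⁄Λ] 1).restrictScalars A) ∘ₗ (KaehlerDifferential.map Λ Λ A B))

theorem tensorMap_tmul_D (c : C) (x : A) :
    tensorMap (Λ := Λ) (B := B) (c ⊗ₜ[A] D Λ A x) = c ⊗ₜ[B] D Λ B (algebraMap A B x) := by
  rw [tensorMap, LinearMap.liftBaseChange_tmul]
  simp [TensorProduct.smul_tmul']

/-- If `B → C` has square-zero kernel and a `Λ`-algebra section, then an element `x` of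
`ker (A → C)` with `1 ⊗ dx = 0` in `C ⊗_A Ω_{A/Λ}` maps to zero in `B`. -/
theorem algebraMap_eq_zero_of_section
    (hf' : (RingHom.ker (algebraMap B C)) ^ 2 = ⊥) (σ : C →ₐ[Λ] B)
    (hg : (IsScalarTower.toAlgHom Λ B C).comp σ = AlgHom.id Λ C)
    (x : A) (hx : algebraMap A C x = 0) (h0 : (1 : C) ⊗ₜ[A] D Λ A x = 0) :
    algebraMap A B x = 0 := by
  have h1 : (1 : C) ⊗ₜ[B] D Λ B (algebraMap A B x) = 0 := by
    rw [← tensorMap_tmul_D, h0, map_zero]
  have hmem : algebraMap A B x ∈ RingHom.ker (algebraMap B C) := by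
    rw [RingHom.mem_ker, ← IsScalarTower.algebraMap_apply, hx]
  have h2 : kerToTensor Λ B C ⟨algebraMap A B x, hmem⟩ = 0 := by
    rw [kerToTensor_apply]; exact h1
  have h3 := LinearMap.congr_fun (retractionOfSectionOfKerSqZero_comp_kerToTensor σ hf' hg)
    ⟨algebraMap A B x, hmem⟩
  rw [LinearMap.comp_apply, h2, map_zero, LinearMap.id_apply] at h3
  exact (congrArg Subtype.val h3).symm

end abstract

theorem S4594_aux {Λ A C : Type u} [CommRing Λ] [CommRing A]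
    [CommRing C] [Algebra Λ A] [Algebra A C] [Algebra Λ C] [IsScalarTower Λ A C]
    (hsurj : Function.Surjective (algebraMap A C)) (p : ℕ)
    [Algebra (Λ ⧸ Ideal.span {(p : Λ)}) C] [IsScalarTower Λ (Λ ⧸ Ideal.span {(p : Λ)}) C]
    [Algebra.FormallySmooth (Λ ⧸ Ideal.span {(p : Λ)}) C]
    (hp : (p : A) ∈ RingHom.ker (algebraMap A C)) :
    LinearMap.ker (kerCotangentToTensor Λ A C) =
        Submodule.span A {(RingHom.ker (algebraMap A C)).toCotangent ⟨(p : A), hp⟩} := by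
  classical
  let I : Ideal A := (RingHom.ker (algebraMap A C)) ^ 2 ⊔ Ideal.span {(p : A)}
  have hIJ : I ≤ RingHom.ker (algebraMap A C) :=
    sup_le (Ideal.pow_le_self two_ne_zero) ((Ideal.span_singleton_le_iff_mem _).mpr hp)
  have hJI : (RingHom.ker (algebraMap A C)) ^ 2 ≤ I := le_sup_left
  have hpI : (p : A) ∈ I :=
    (le_sup_right : Ideal.span {(p : A)} ≤ I) (Ideal.mem_span_singleton_self _)
  letI algBC : Algebra (A ⧸ I) C :=
    (Ideal.Quotient.lift I (algebraMap A C) (fun a ha => hIJ ha)).toAlgebra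
  have hBC : ∀ a : A, algebraMap (A ⧸ I) C (Ideal.Quotient.mk I a) = algebraMap A C a :=
    fun a => rfl
  haveI : IsScalarTower A (A ⧸ I) C := IsScalarTower.of_algebraMap_eq (fun a => rfl)
  haveI : IsScalarTower Λ (A ⧸ I) C := IsScalarTower.of_algebraMap_eq (fun r => by
    rw [IsScalarTower.algebraMap_apply Λ A C, IsScalarTower.algebraMap_apply Λ A (A ⧸ I),
      ← IsScalarTower.algebraMap_apply A (A ⧸ I) C])
  -- `A/I` is an algebra over `Λ/p`
  have hpB : ∀ r ∈ Ideal.span {(p : Λ)}, algebraMap Λ (A ⧸ I) r = 0 := by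
    intro r hr
    obtain ⟨s, rfl⟩ := Ideal.mem_span_singleton'.mp hr
    rw [map_mul, map_natCast, IsScalarTower.algebraMap_apply Λ A (A ⧸ I)]
    have : ((p : ℕ) : A ⧸ I) = 0 := by
      rw [← map_natCast (Ideal.Quotient.mk I)]
      exact Ideal.Quotient.eq_zero_iff_mem.mpr hpI
    rw [this, mul_zero]
  letI algΛB : Algebra (Λ ⧸ Ideal.span {(p : Λ)}) (A ⧸ I) :=
    (Ideal.Quotient.lift (Ideal.span {(p : Λ)}) (algebraMap Λ (A ⧸ I)) hpB).toAlgebra
  haveI : IsScalarTower Λ (Λ ⧸ Ideal.span {(p : Λ)}) (A ⧸ I) :=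
    IsScalarTower.of_algebraMap_eq (fun r => rfl)
  haveI : IsScalarTower (Λ ⧸ Ideal.span {(p : Λ)}) (A ⧸ I) C :=
    IsScalarTower.of_algebraMap_eq (fun r' => by
      obtain ⟨r, rfl⟩ := Ideal.Quotient.mk_surjective r'
      have e1 : algebraMap (Λ ⧸ Ideal.span {(p : Λ)}) C (Ideal.Quotient.mk _ r)
          = algebraMap Λ C r := (IsScalarTower.algebraMap_apply Λ (Λ ⧸ Ideal.span {(p : Λ)}) C r).symm
      have e2 : algebraMap (Λ ⧸ Ideal.span {(p : Λ)}) (A ⧸ I) (Ideal.Quotient.mk _ r)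
          = algebraMap Λ (A ⧸ I) r := rfl
      rw [e1, e2, ← IsScalarTower.algebraMap_apply Λ (A ⧸ I) C])
  -- square-zero kernel
  have hf' : (RingHom.ker (algebraMap (A ⧸ I) C)) ^ 2 = ⊥ := by
    rw [eq_bot_iff, pow_two, Ideal.mul_le]
    intro b₁ h₁ b₂ h₂
    obtain ⟨a₁, rfl⟩ := Ideal.Quotient.mk_surjective b₁
    obtain ⟨a₂, rfl⟩ := Ideal.Quotient.mk_surjective b₂
    rw [Ideal.mem_bot, ← map_mul, Ideal.Quotient.eq_zero_iff_mem]
    apply hJI
    rw [pow_two]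
    refine Ideal.mul_mem_mul ?_ ?_
    · rw [RingHom.mem_ker, hBC] at h₁; exact h₁
    · rw [RingHom.mem_ker, hBC] at h₂; exact h₂
  have hgs : Function.Surjective (IsScalarTower.toAlgHom (Λ ⧸ Ideal.span {(p : Λ)}) (A ⧸ I) C) := by
    intro c
    obtain ⟨a, rfl⟩ := hsurj c
    exact ⟨Ideal.Quotient.mk I a, rfl⟩
  have hnil : IsNilpotent (RingHom.ker
      ((IsScalarTower.toAlgHom (Λ ⧸ Ideal.span {(p : Λ)}) (A ⧸ I) C : (A ⧸ I) →ₐ[_] C) :
        (A ⧸ I) →+* C)) := ⟨2, hf'⟩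
  let σ' : C →ₐ[Λ ⧸ Ideal.span {(p : Λ)}] (A ⧸ I) :=
    Algebra.FormallySmooth.liftOfSurjective (AlgHom.id _ C)
      (IsScalarTower.toAlgHom (Λ ⧸ Ideal.span {(p : Λ)}) (A ⧸ I) C) hgs hnil
  have hσ' : ∀ c, algebraMap (A ⧸ I) C (σ' c) = c := fun c =>
    Algebra.FormallySmooth.liftOfSurjective_apply (AlgHom.id _ C)
      (IsScalarTower.toAlgHom (Λ ⧸ Ideal.span {(p : Λ)}) (A ⧸ I) C) hgs hnil c
  let σ : C →ₐ[Λ] (A ⧸ I) := σ'.restrictScalars Λ
  have hg : (IsScalarTower.toAlgHom Λ (A ⧸ I) C).comp σ = AlgHom.id Λ C :=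
    AlgHom.ext (fun c => hσ' c)
  -- the two inclusions
  apply le_antisymm
  · intro y hy
    obtain ⟨x, rfl⟩ := Ideal.toCotangent_surjective _ y
    rw [LinearMap.mem_ker, kerCotangentToTensor_toCotangent] at hy
    have hx0 : algebraMap A C (x : A) = 0 := RingHom.mem_ker.mp x.2
    have hxB : algebraMap A (A ⧸ I) (x : A) = 0 :=
      algebraMap_eq_zero_of_section (Λ := Λ) hf' σ hg (x : A) hx0 hy
    have hxI : (x : A) ∈ I := Ideal.Quotient.eq_zero_iff_mem.mp hxB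
    obtain ⟨j, hj, q, hq, hjq⟩ := Submodule.mem_sup.mp hxI
    obtain ⟨a, rfl⟩ := Ideal.mem_span_singleton'.mp hq
    have hjJ : j ∈ RingHom.ker (algebraMap A C) := Ideal.pow_le_self two_ne_zero hj
    have hx : x = ⟨j, hjJ⟩ + a • ⟨(p : A), hp⟩ := by
      apply Subtype.ext
      simp [← hjq]
    rw [hx, map_add, map_smul]
    have : (RingHom.ker (algebraMap A C)).toCotangent ⟨j, hjJ⟩ = 0 :=
      (Ideal.toCotangent_eq_zero _ _).mpr hj
    rw [this, zero_add]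
    exact Submodule.smul_mem _ _ (Submodule.subset_span rfl)
  · rw [Submodule.span_le]
    rintro _ rfl
    rw [SetLike.mem_coe, LinearMap.mem_ker, kerCotangentToTensor_toCotangent]
    have : ((p : ℕ) : A) = algebraMap Λ A (p : Λ) := (map_natCast _ _).symm
    change (1 : C) ⊗ₜ[A] D Λ A ((p : ℕ) : A) = 0
    rw [this, Derivation.map_algebraMap, tmul_zero]

end Groth.Agent.Lib.Helper21.ModPSmooth
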