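import Mathlib

namespace Groth.Agent.Lib.Helper21.MonicQuot

open MvPolynomial PiTensorProduct
open scoped TensorProduct

universe u

variable {A : Type u} [CommRing A] {r : ℕ} (F : Fin r → Polynomial A)

/-- The ideal `(F_1(T_1), …, F_r(T_r))`. -/
noncomputable def rel : Ideal (MvPolynomial (Fin r) A) :=
  Ideal.span (Set.range fun i => Polynomial.aeval (MvPolynomial.X i : MvPolynomial (Fin r) A) (F i))

/-- The generator `1 ⊗ … ⊗ x_i ⊗ … ⊗ 1`. -/
noncomputable def gen (i : Fin r) : ⨂[A] j, AdjoinRoot (F j) :=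
  singleAlgHom (R := A) (A := fun j => AdjoinRoot (F j)) i (AdjoinRoot.root (F i))

noncomputable def toTensor0 : MvPolynomial (Fin r) A →ₐ[A] ⨂[A] j, AdjoinRoot (F j) :=
  aeval (gen F)

theorem toTensor0_rel (g : MvPolynomial (Fin r) A) (hg : g ∈ rel F) : toTensor0 F g = 0 := by
  unfold rel at hg
  induction hg using Submodule.span_induction with
  | mem g hg =>
    obtain ⟨i, rfl⟩ := hg
    rw [toTensor0, ← Polynomial.aeval_algHom_apply, aeval_X, gen, Polynomial.aeval_algHom_apply,
      AdjoinRoot.aeval_eq, AdjoinRoot.mk_self, map_zero]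
  | zero => exact map_zero _
  | add g g' _ _ h h' => rw [map_add, h, h', add_zero]
  | smul a g _ h => rw [smul_eq_mul, map_mul, h, mul_zero]

noncomputable def toTensor : (MvPolynomial (Fin r) A ⧸ rel F) →ₐ[A] ⨂[A] j, AdjoinRoot (F j) :=
  Ideal.Quotient.liftₐ (rel F) (toTensor0 F) (toTensor0_rel F)

theorem toTensor_mk (g : MvPolynomial (Fin r) A) :
    toTensor F (Ideal.Quotient.mk (rel F) g) = toTensor0 F g := rfl

/-- The maps `A[X]/(F_i) → Q`. -/
noncomputable def comp (i : Fin r) : AdjoinRoot (F i) →ₐ[A] (MvPolynomial (Fin r) A ⧸ rel F) :=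
  AdjoinRoot.liftAlgHom (F i) (Algebra.ofId A _) (Ideal.Quotient.mk (rel F) (X i)) (by
    have h1 : Polynomial.eval₂ (Algebra.ofId A (MvPolynomial (Fin r) A ⧸ rel F) : A →+* _)
        (Ideal.Quotient.mk (rel F) (X i)) (F i) =
        Polynomial.aeval (Ideal.Quotient.mk (rel F) (X i)) (F i) := rfl
    have h2 : Polynomial.aeval (Ideal.Quotient.mk (rel F) (X i)) (F i) =
        Ideal.Quotient.mkₐ A (rel F) (Polynomial.aeval (X i) (F i)) :=
      Polynomial.aeval_algHom_apply (Ideal.Quotient.mkₐ A (rel F)) (X i) (F i)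
    rw [h1, h2]
    exact Ideal.Quotient.eq_zero_iff_mem.mpr (Ideal.subset_span ⟨i, rfl⟩))

theorem comp_root (i : Fin r) : comp F i (AdjoinRoot.root (F i)) = Ideal.Quotient.mk (rel F) (X i) :=
  AdjoinRoot.liftAlgHom_root _ _ _ _

noncomputable def ofTensor : (⨂[A] j, AdjoinRoot (F j)) →ₐ[A] (MvPolynomial (Fin r) A ⧸ rel F) :=
  liftAlgHom ((MultilinearMap.mkPiAlgebra A (Fin r) (MvPolynomial (Fin r) A ⧸ rel F)).compLinearMap
      (fun i => (comp F i).toLinearMap))
    (by simp [MultilinearMap.mkPiAlgebra_apply])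
    (by
      intro x y
      simp only [MultilinearMap.compLinearMap_apply, MultilinearMap.mkPiAlgebra_apply, Pi.mul_apply,
        AlgHom.toLinearMap_apply, map_mul, Finset.prod_mul_distrib])

theorem ofTensor_tprod (x : ∀ j, AdjoinRoot (F j)) :
    ofTensor F (tprod A x) = ∏ j, comp F j (x j) := by
  change (PiTensorProduct.lift _) (tprod A x) = _
  rw [PiTensorProduct.lift.tprod]
  rfl

theorem ofTensor_gen (i : Fin r) : ofTensor F (gen F i) = Ideal.Quotient.mk (rel F) (X i) := by
  classical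
  unfold gen
  rw [singleAlgHom_apply, ofTensor_tprod, Finset.prod_eq_single i]
  · rw [MonoidHom.mulSingle_apply, Pi.mulSingle_eq_same, comp_root]
  · intro j _ hj
    rw [MonoidHom.mulSingle_apply, Pi.mulSingle_eq_of_ne hj, map_one]
  · intro h; exact absurd (Finset.mem_univ i) h

theorem ofTensor_comp_toTensor :
    (ofTensor F).comp (toTensor F) = AlgHom.id A (MvPolynomial (Fin r) A ⧸ rel F) := by
  apply Ideal.Quotient.algHom_ext
  apply MvPolynomial.algHom_ext
  intro i
  simp only [AlgHom.comp_apply, Ideal.Quotient.mkₐ_eq_mk, AlgHom.id_apply]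
  rw [toTensor_mk, toTensor0, aeval_X, ofTensor_gen]

theorem toTensor_comp_ofTensor :
    (toTensor F).comp (ofTensor F) = AlgHom.id A (⨂[A] j, AdjoinRoot (F j)) := by
  classical
  apply PiTensorProduct.algHom_ext
  intro i
  apply AdjoinRoot.algHom_ext
  simp only [AlgHom.comp_apply, AlgHom.id_apply]
  have h1 : singleAlgHom (R := A) (A := fun j => AdjoinRoot (F j)) i (AdjoinRoot.root (F i)) =
      gen F i := rfl
  rw [h1, ofTensor_gen, toTensor_mk, toTensor0, aeval_X]

/-- `A[T_1, …, T_r]/(F_i(T_i))` is the tensor product of the `A[T]/(F_i)`. -/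
noncomputable def equivTensor :
    (MvPolynomial (Fin r) A ⧸ rel F) ≃ₐ[A] ⨂[A] j, AdjoinRoot (F j) :=
  AlgEquiv.ofAlgHom (toTensor F) (ofTensor F) (toTensor_comp_ofTensor F) (ofTensor_comp_toTensor F)

theorem free_and_finrank [Nontrivial A] (hF : ∀ i, (F i).Monic) :
    Module.Free A (MvPolynomial (Fin r) A ⧸ rel F) ∧
      Module.finrank A (MvPolynomial (Fin r) A ⧸ rel F) =
        Finset.univ.prod fun i => (F i).natDegree := by
  let b := _root_.Basis.piTensorProduct (fun i => (AdjoinRoot.powerBasis' (hF i)).basis)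
  let b' := b.map (equivTensor F).symm.toLinearEquiv
  refine ⟨Module.Free.of_basis b', ?_⟩
  rw [Module.finrank_eq_card_basis b', Fintype.card_pi]
  simp

end Groth.Agent.Lib.Helper21.MonicQuot
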