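import Mathlib

/-!
# The graded ring `S♮ = ⊕ S_{≥ n}` (helper21)

Setup: `𝒜` an `ℕ`-grading of `A`, `ℬ` an `ℕ`-grading of `B`, and an injective algebra map
`φ : B → A[X]` carrying `ℬ n` onto `A_{≥ n} X^n`.
-/

set_option autoImplicit false
universe u

namespace Groth.Agent.Lib.Helper21.Natural

open DirectSum

section Graded

variable {R A : Type u} [CommRing R] [CommRing A] [Algebra R A]
  (𝒜 : ℕ → Submodule R A) [GradedAlgebra 𝒜]

/-- `A_{≥ n}` as an `R`-submodule. -/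
def ge (n : ℕ) : Submodule R A := ⨆ (m : ℕ) (_ : n ≤ m), 𝒜 m

theorem le_ge {n m : ℕ} (h : n ≤ m) : 𝒜 m ≤ ge 𝒜 n := le_iSup₂_of_le m h le_rfl

theorem ge_anti {n m : ℕ} (h : n ≤ m) : ge 𝒜 m ≤ ge 𝒜 n :=
  iSup₂_le fun k hk => le_ge 𝒜 (h.trans hk)

theorem mul_le_graded (i j : ℕ) : 𝒜 i * 𝒜 j ≤ 𝒜 (i + j) :=
  Submodule.mul_le.2 fun _ ha _ hb => SetLike.mul_mem_graded ha hb

theorem ge_mul_ge (n k : ℕ) : ge 𝒜 n * ge 𝒜 k ≤ ge 𝒜 (n + k) := by
  simp only [ge, Submodule.iSup_mul, Submodule.mul_iSup]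
  refine iSup₂_le fun j hj => iSup₂_le fun i hi => ?_
  exact (mul_le_graded 𝒜 i j).trans (le_iSup₂_of_le (i + j) (by omega) le_rfl)

theorem ge_zero : ge 𝒜 0 = ⊤ := by
  classical
  rw [eq_top_iff]
  intro x _
  rw [← DirectSum.sum_support_decompose 𝒜 x]
  exact sum_mem fun i _ => le_ge 𝒜 (Nat.zero_le i) (SetLike.coe_mem _)

theorem proj_of_mem {i : ℕ} {a : A} (ha : a ∈ 𝒜 i) : GradedAlgebra.proj 𝒜 i a = a := by
  rw [GradedAlgebra.proj_apply, DirectSum.decompose_of_mem_same 𝒜 ha]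

theorem proj_of_mem_ne {i j : ℕ} {a : A} (ha : a ∈ 𝒜 i) (hij : i ≠ j) :
    GradedAlgebra.proj 𝒜 j a = 0 := by
  rw [GradedAlgebra.proj_apply, DirectSum.decompose_of_mem_ne 𝒜 ha hij]

theorem proj_mem (i : ℕ) (a : A) : GradedAlgebra.proj 𝒜 i a ∈ 𝒜 i := by
  rw [GradedAlgebra.proj_apply]; exact SetLike.coe_mem _

theorem map_proj_graded_ne {i j : ℕ} (hij : i ≠ j) :
    Submodule.map (GradedAlgebra.proj 𝒜 j) (𝒜 i) = ⊥ := by
  rw [eq_bot_iff]
  rintro _ ⟨a, ha, rfl⟩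
  rw [proj_of_mem_ne 𝒜 ha hij]; exact Submodule.zero_mem _

/-- projecting `A_{≥ n+1}` to degree `n` gives zero -/
theorem map_proj_ge_succ (n : ℕ) : Submodule.map (GradedAlgebra.proj 𝒜 n) (ge 𝒜 (n + 1)) = ⊥ := by
  rw [ge, Submodule.map_iSup, eq_bot_iff]
  refine iSup_le fun m => ?_
  rw [Submodule.map_iSup]
  refine iSup_le fun hm => ?_
  rw [map_proj_graded_ne 𝒜 (by omega)]

theorem proj_ge_succ {n : ℕ} {a : A} (ha : a ∈ ge 𝒜 (n + 1)) : GradedAlgebra.proj 𝒜 n a = 0 := by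
  have : GradedAlgebra.proj 𝒜 n a ∈ Submodule.map (GradedAlgebra.proj 𝒜 n) (ge 𝒜 (n + 1)) :=
    Submodule.mem_map_of_mem ha
  rw [map_proj_ge_succ] at this
  exact (Submodule.mem_bot R).1 this

/-- the degree `n+1` part of `A_{≥1} A_{≥n}` lies in `A_1 A_n`. -/
theorem graded_le_of_le_ge_mul {n : ℕ} (h : 𝒜 (n + 1) ≤ ge 𝒜 1 * ge 𝒜 n) :
    𝒜 (n + 1) ≤ 𝒜 1 * 𝒜 n := by
  intro x hx
  have hx' := h hx
  have key : Submodule.map (GradedAlgebra.proj 𝒜 (n + 1)) (ge 𝒜 1 * ge 𝒜 n) ≤ 𝒜 1 * 𝒜 n := by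
    simp only [ge, Submodule.iSup_mul, Submodule.mul_iSup, Submodule.map_iSup]
    refine iSup₂_le fun j hj => iSup₂_le fun i hi => ?_
    by_cases hij : i + j = n + 1
    · have hi1 : i = 1 := by omega
      have hjn : j = n := by omega
      subst hi1 hjn
      rintro _ ⟨y, hy, rfl⟩
      have : y ∈ 𝒜 (1 + j) := mul_le_graded 𝒜 1 j hy
      rw [Nat.add_comm] at this
      rw [proj_of_mem 𝒜 this]
      exact hy
    · rintro _ ⟨y, hy, rfl⟩
      rw [proj_of_mem_ne 𝒜 (mul_le_graded 𝒜 i j hy) hij]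
      exact Submodule.zero_mem _
  have := key (Submodule.mem_map_of_mem (f := GradedAlgebra.proj 𝒜 (n + 1)) hx')
  rwa [proj_of_mem 𝒜 hx] at this

theorem ge_succ_eq_iff (n₀ : ℕ) :
    (∀ n : ℕ, n₀ ≤ n → ge 𝒜 (n + 1) = ge 𝒜 1 * ge 𝒜 n) ↔
      (∀ n : ℕ, n₀ ≤ n → 𝒜 (n + 1) = 𝒜 1 * 𝒜 n) := by
  constructor
  · intro h n hn
    refine le_antisymm ?_ ?_
    · exact graded_le_of_le_ge_mul 𝒜 ((le_ge 𝒜 le_rfl).trans (h n hn).le)
    · rw [Nat.add_comm]; exact mul_le_graded 𝒜 1 n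
  · intro h n hn
    refine le_antisymm ?_ ?_
    · refine iSup₂_le fun m hm => ?_
      obtain ⟨m', rfl⟩ : ∃ m', m = m' + 1 := ⟨m - 1, by omega⟩
      rw [h m' (by omega)]
      exact mul_le_mul' (le_ge 𝒜 le_rfl) (le_ge 𝒜 (by omega))
    · rw [Nat.add_comm]; exact ge_mul_ge 𝒜 1 n

theorem one_pow_le (n : ℕ) : 𝒜 1 ^ n ≤ 𝒜 n := by
  induction n with
  | zero =>
    rw [pow_zero, Submodule.one_le]
    exact SetLike.GradedOne.one_mem
  | succ n ih =>
    rw [pow_succ]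
    exact (mul_le_mul' ih le_rfl).trans (mul_le_graded 𝒜 n 1)

theorem ge_one_pow_le (n : ℕ) : ge 𝒜 1 ^ n ≤ 𝒜 1 ^ n ⊔ ge 𝒜 (n + 1) := by
  induction n with
  | zero => rw [pow_zero, pow_zero]; exact le_sup_left
  | succ n ih =>
    rw [pow_succ, pow_succ]
    have h1 : ge 𝒜 1 ≤ 𝒜 1 ⊔ ge 𝒜 2 := by
      refine iSup₂_le fun m hm => ?_
      rcases Nat.eq_or_lt_of_le hm with h | h
      · subst h; exact le_sup_left
      · exact (le_ge 𝒜 (by omega)).trans le_sup_right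
    refine (mul_le_mul' ih h1).trans ?_
    rw [Submodule.sup_mul, Submodule.mul_sup, Submodule.mul_sup]
    refine sup_le (sup_le le_sup_left ?_) (sup_le ?_ ?_)
    · refine le_sup_of_le_right ?_
      refine (mul_le_mul' ((one_pow_le 𝒜 n).trans (le_ge 𝒜 le_rfl)) le_rfl).trans ?_
      exact ge_mul_ge 𝒜 n 2
    · refine le_sup_of_le_right ?_
      refine (mul_le_mul' le_rfl (le_ge 𝒜 le_rfl)).trans ?_
      exact (ge_mul_ge 𝒜 (n + 1) 1)
    · refine le_sup_of_le_right ?_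
      exact (ge_mul_ge 𝒜 (n + 1) 2).trans (ge_anti 𝒜 (by omega))

theorem ge_one_pow_le_ge (n : ℕ) : ge 𝒜 1 ^ n ≤ ge 𝒜 n := by
  induction n with
  | zero => rw [ge_zero]; exact le_top
  | succ n ih =>
    rw [pow_succ]
    exact (mul_le_mul' ih le_rfl).trans (ge_mul_ge 𝒜 n 1)

theorem ge_one_mul_top : ge 𝒜 1 * ⊤ ≤ ge 𝒜 1 := by
  rw [← ge_zero 𝒜]
  exact ge_mul_ge 𝒜 1 0

theorem ge_one_pow_mul_top {n : ℕ} (hn : 1 ≤ n) : ge 𝒜 1 ^ n * ⊤ ≤ ge 𝒜 1 ^ n := by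
  obtain ⟨k, rfl⟩ : ∃ k, n = k + 1 := ⟨n - 1, by omega⟩
  rw [pow_succ, mul_assoc]
  exact mul_le_mul' le_rfl (ge_one_mul_top 𝒜)

theorem ge_eq_pow_iff (n₀ : ℕ) (hn₀ : 1 ≤ n₀) :
    (∀ n : ℕ, n₀ ≤ n → ge 𝒜 n = ge 𝒜 1 ^ n) ↔ (∀ n : ℕ, n₀ ≤ n → 𝒜 n = 𝒜 1 ^ n) := by
  constructor
  · intro h n hn
    refine le_antisymm ?_ (one_pow_le 𝒜 n)
    intro x hx
    have hx' : x ∈ 𝒜 1 ^ n ⊔ ge 𝒜 (n + 1) :=
      ge_one_pow_le 𝒜 n ((h n hn).le (le_ge 𝒜 le_rfl hx))
    obtain ⟨y, hy, z, hz, rfl⟩ := Submodule.mem_sup.1 hx'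
    have e := proj_of_mem 𝒜 hx
    rw [map_add, proj_of_mem 𝒜 (one_pow_le 𝒜 n hy), proj_ge_succ 𝒜 hz, add_zero] at e
    rw [← e]; exact hy
  · intro h n hn
    refine le_antisymm ?_ (ge_one_pow_le_ge 𝒜 n)
    refine iSup₂_le fun m hm => ?_
    obtain ⟨k, rfl⟩ : ∃ k, m = n + k := ⟨m - n, by omega⟩
    rw [h (n + k) (by omega), pow_add]
    refine (mul_le_mul' ?_ le_top).trans (ge_one_pow_mul_top 𝒜 (by omega))
    exact pow_le_pow_left' (le_ge 𝒜 le_rfl) n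

end Graded

section Transfer

variable {R A B : Type u} [CommRing R] [CommRing A] [Algebra R A]
  (𝒜 : ℕ → Submodule R A) [GradedAlgebra 𝒜] [CommRing B] [Algebra R B]
  (ℬ : ℕ → Submodule R B) [GradedAlgebra ℬ]
  (φ : B →ₐ[R] Polynomial A) (hφ : Function.Injective φ)
  (hdeg : ∀ n : ℕ, Submodule.map φ.toLinearMap (ℬ n) =
      Submodule.map ((Polynomial.monomial n : A →ₗ[A] Polynomial A).restrictScalars R)
        (⨆ (m : ℕ) (_ : n ≤ m), 𝒜 m))

/-- `monomial n` as an `R`-linear map -/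
noncomputable abbrev mono (R : Type u) {A : Type u} [CommRing R] [CommRing A] [Algebra R A] (n : ℕ) :
    A →ₗ[R] Polynomial A :=
  (Polynomial.monomial n : A →ₗ[A] Polynomial A).restrictScalars R

theorem mono_apply (n : ℕ) (a : A) : mono R n a = Polynomial.monomial n a := rfl

theorem mono_injective (n : ℕ) : Function.Injective (mono R (A := A) n) :=
  Polynomial.monomial_injective n

theorem map_mono_mul (n k : ℕ) (M N : Submodule R A) :
    Submodule.map (mono R n) M * Submodule.map (mono R k) N =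
      Submodule.map (mono R (n + k)) (M * N) := by
  refine le_antisymm ?_ ?_
  · refine Submodule.mul_le.2 ?_
    rintro _ ⟨a, ha, rfl⟩ _ ⟨b, hb, rfl⟩
    refine ⟨a * b, Submodule.mul_mem_mul ha hb, ?_⟩
    rw [mono_apply, mono_apply, mono_apply, Polynomial.monomial_mul_monomial]
  · rw [Submodule.map_le_iff_le_comap]
    refine Submodule.mul_le.2 fun a ha b hb => ?_
    rw [Submodule.mem_comap, mono_apply, ← Polynomial.monomial_mul_monomial]
    exact Submodule.mul_mem_mul ⟨a, ha, rfl⟩ ⟨b, hb, rfl⟩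

theorem map_mono_pow (n : ℕ) (M : Submodule R A) :
    Submodule.map (mono R 1) M ^ n = Submodule.map (mono R n) (M ^ n) := by
  induction n with
  | zero =>
    rw [pow_zero, pow_zero, Submodule.one_eq_span, Submodule.one_eq_span, Submodule.map_span,
      Set.image_singleton, mono_apply]
    rfl
  | succ n ih => rw [pow_succ, pow_succ, ih, map_mono_mul]

include hφ hdeg

theorem hdeg' (n : ℕ) :
    Submodule.map φ.toLinearMap (ℬ n) = Submodule.map (mono R n) (ge 𝒜 n) := hdeg n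

theorem B_mul_eq_iff (a b c : ℕ) (h : c = a + b) :
    ℬ c = ℬ a * ℬ b ↔ ge 𝒜 c = ge 𝒜 a * ge 𝒜 b := by
  subst h
  have hinj : Function.Injective (Submodule.map φ.toLinearMap) :=
    Submodule.map_injective_of_injective (f := φ.toLinearMap) hφ
  rw [← hinj.eq_iff, Submodule.map_mul, hdeg' 𝒜 ℬ φ hφ hdeg, hdeg' 𝒜 ℬ φ hφ hdeg,
    hdeg' 𝒜 ℬ φ hφ hdeg, map_mono_mul,
    (Submodule.map_injective_of_injective (mono_injective (R := R) (A := A) (a + b))).eq_iff]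

theorem B_pow_eq_iff (n : ℕ) : ℬ n = ℬ 1 ^ n ↔ ge 𝒜 n = ge 𝒜 1 ^ n := by
  have hinj : Function.Injective (Submodule.map φ.toLinearMap) :=
    Submodule.map_injective_of_injective (f := φ.toLinearMap) hφ
  rw [← hinj.eq_iff, Submodule.map_pow, hdeg' 𝒜 ℬ φ hφ hdeg, hdeg' 𝒜 ℬ φ hφ hdeg,
    map_mono_pow,
    (Submodule.map_injective_of_injective (mono_injective (R := R) (A := A) n)).eq_iff]

theorem succ_iff (n₀ : ℕ) :
    (∀ n : ℕ, n₀ ≤ n → ℬ (n + 1) = ℬ 1 * ℬ n) ↔ (∀ n : ℕ, n₀ ≤ n → 𝒜 (n + 1) = 𝒜 1 * 𝒜 n) := by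
  rw [← ge_succ_eq_iff 𝒜 n₀]
  refine forall_congr' fun n => imp_congr_right fun _ => ?_
  exact B_mul_eq_iff 𝒜 ℬ φ hφ hdeg 1 n (n + 1) (Nat.add_comm n 1)

theorem pow_iff (n₀ : ℕ) (hn₀ : 1 ≤ n₀) :
    (∀ n : ℕ, n₀ ≤ n → ℬ n = ℬ 1 ^ n) ↔ (∀ n : ℕ, n₀ ≤ n → 𝒜 n = 𝒜 1 ^ n) := by
  rw [← ge_eq_pow_iff 𝒜 n₀ hn₀]
  refine forall_congr' fun n => imp_congr_right fun _ => ?_
  exact B_pow_eq_iff 𝒜 ℬ φ hφ hdeg n

end Transfer

section FT

variable {R A : Type u} [CommRing R] [CommRing A] [Algebra R A]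
  (𝒜 : ℕ → Submodule R A) [GradedAlgebra 𝒜]

/-- Lemma D -/
theorem exists_decomp (F : Finset A) (d : A → ℕ) (hF : ∀ f ∈ F, f ∈ 𝒜 (d f))
    (m : ℕ) (a : A) (ham : a ∈ 𝒜 m) (ha : a ∈ Ideal.span (F : Set A)) :
    ∃ c : A → A, (∀ f, c f ∈ 𝒜 (m - d f)) ∧ a = ∑ f ∈ F with d f ≤ m, c f * f := by
  classical
  obtain ⟨c, -, hc⟩ := Submodule.mem_span_finset.1 ha
  refine ⟨fun f => GradedAlgebra.proj 𝒜 (m - d f) (c f), fun f => proj_mem 𝒜 _ _, ?_⟩
  have e := proj_of_mem 𝒜 ham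
  conv_lhs at e => rw [← hc, map_sum]
  rw [← e, Finset.sum_filter]
  refine Finset.sum_congr rfl fun f hf => ?_
  rw [smul_eq_mul, GradedAlgebra.proj_apply,
    DirectSum.coe_decompose_mul_of_right_mem 𝒜 m (hF f hf)]
  rfl

/-- Lemma G -/
theorem adjoin_eq_top_of_le_span (F : Finset A) (d : A → ℕ) (hF : ∀ f ∈ F, f ∈ 𝒜 (d f))
    (hd : ∀ f ∈ F, 0 < d f) (h : ∀ m, 0 < m → ∀ a ∈ 𝒜 m, a ∈ Ideal.span (F : Set A)) :
    Algebra.adjoin (𝒜 0) (F : Set A) = ⊤ := by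
  classical
  have key : ∀ m, ∀ a ∈ 𝒜 m, a ∈ Algebra.adjoin (𝒜 0) (F : Set A) := by
    intro m
    induction m using Nat.strong_induction_on with
    | _ m ih =>
      intro a ha
      rcases Nat.eq_zero_or_pos m with rfl | hm
      · exact Subalgebra.algebraMap_mem _ (⟨a, ha⟩ : 𝒜 0)
      · obtain ⟨c, hc, rfl⟩ := exists_decomp 𝒜 F d hF m a ha (h m hm a ha)
        refine Subalgebra.sum_mem _ fun f hf => ?_
        rw [Finset.mem_filter] at hf
        exact Subalgebra.mul_mem _ (ih (m - d f) (by have := hd f hf.1; omega) _ (hc f))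
          (Algebra.subset_adjoin hf.1)
  rw [eq_top_iff]
  intro x _
  rw [← DirectSum.sum_support_decompose 𝒜 x]
  exact Subalgebra.sum_mem _ fun i _ => key i _ (SetLike.coe_mem _)

/-- Lemma E -/
theorem mem_span_of_adjoin_eq_top (F : Set A) (d : A → ℕ) (hF : ∀ f ∈ F, f ∈ 𝒜 (d f))
    (hd : ∀ f ∈ F, d f ≠ 0) (h : Algebra.adjoin (𝒜 0) F = ⊤) (m : ℕ) (hm : m ≠ 0) (a : A)
    (ha : a ∈ 𝒜 m) : a ∈ Ideal.span F := by
  classical
  have key : ∀ x ∈ Algebra.adjoin (𝒜 0) F,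
      x - GradedRing.projZeroRingHom 𝒜 x ∈ Ideal.span F := by
    intro x hx
    induction hx using Algebra.adjoin_induction with
    | mem x hx =>
      have : GradedRing.projZeroRingHom 𝒜 x = 0 := by
        rw [GradedRing.projZeroRingHom_apply, DirectSum.decompose_of_mem_ne 𝒜 (hF x hx) (hd x hx)]
      rw [this, sub_zero]; exact Ideal.subset_span hx
    | algebraMap r =>
      have : GradedRing.projZeroRingHom 𝒜 (algebraMap (𝒜 0) A r) = algebraMap (𝒜 0) A r := by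
        rw [GradedRing.projZeroRingHom_apply]; exact DirectSum.decompose_of_mem_same 𝒜 r.2
      rw [this, sub_self]; exact zero_mem _
    | add x y _ _ hx hy =>
      rw [map_add]
      have e : x + y - (GradedRing.projZeroRingHom 𝒜 x + GradedRing.projZeroRingHom 𝒜 y) =
        (x - GradedRing.projZeroRingHom 𝒜 x) + (y - GradedRing.projZeroRingHom 𝒜 y) := by ring
      rw [e]; exact add_mem hx hy
    | mul x y _ _ hx hy =>
      rw [map_mul]
      have e : x * y - GradedRing.projZeroRingHom 𝒜 x * GradedRing.projZeroRingHom 𝒜 y =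
        (x - GradedRing.projZeroRingHom 𝒜 x) * y +
          GradedRing.projZeroRingHom 𝒜 x * (y - GradedRing.projZeroRingHom 𝒜 y) := by ring
      rw [e]; exact add_mem (Ideal.mul_mem_right _ _ hx) (Ideal.mul_mem_left _ _ hy)
  have h1 := key a (h ▸ Algebra.mem_top)
  have h2 : GradedRing.projZeroRingHom 𝒜 a = 0 := by
    rw [GradedRing.projZeroRingHom_apply, DirectSum.decompose_of_mem_ne 𝒜 ha hm]
  rwa [h2, sub_zero] at h1

/-- Lemma H -/
theorem finiteType_of_span (G : Finset A) (hG : ∀ g ∈ G, GradedAlgebra.proj 𝒜 0 g = 0)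
    (h : ∀ m, 0 < m → ∀ a ∈ 𝒜 m, a ∈ Ideal.span (G : Set A)) :
    Algebra.FiniteType (𝒜 0) A := by
  classical
  let F : Finset A := G.biUnion fun g =>
    (DirectSum.decompose 𝒜 g).support.image fun i => ((DirectSum.decompose 𝒜 g i : 𝒜 i) : A)
  have hF : ∀ f ∈ F, ∃ i, 0 < i ∧ f ∈ 𝒜 i := by
    intro f hf
    simp only [F, Finset.mem_biUnion, Finset.mem_image] at hf
    obtain ⟨g, hg, i, hi, rfl⟩ := hf
    refine ⟨i, Nat.pos_of_ne_zero ?_, SetLike.coe_mem _⟩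
    rintro rfl
    rw [DFinsupp.mem_support_iff] at hi
    apply hi
    have := hG g hg
    rw [GradedAlgebra.proj_apply] at this
    exact Subtype.ext this
  choose! d hd1 hd2 using hF
  have hGF : Ideal.span (G : Set A) ≤ Ideal.span (F : Set A) := by
    rw [Ideal.span_le]
    intro g hg
    rw [SetLike.mem_coe, ← DirectSum.sum_support_decompose 𝒜 g]
    refine sum_mem fun i hi => Ideal.subset_span ?_
    simp only [F, Finset.coe_biUnion, Finset.coe_image, Set.mem_iUnion, Set.mem_image]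
    exact ⟨g, hg, i, hi, rfl⟩
  have := adjoin_eq_top_of_le_span 𝒜 F d hd2 hd1 fun m hm a ha => hGF (h m hm a ha)
  exact ⟨⟨F, this⟩⟩

end FT

section Nat

variable {R A B : Type u} [CommRing R] [CommRing A] [Algebra R A]
  (𝒜 : ℕ → Submodule R A) [GradedAlgebra 𝒜] [CommRing B] [Algebra R B]
  (ℬ : ℕ → Submodule R B) [GradedAlgebra ℬ]
  (φ : B →ₐ[R] Polynomial A) (hφ : Function.Injective φ)
  (hdeg : ∀ n : ℕ, Submodule.map φ.toLinearMap (ℬ n) =
      Submodule.map ((Polynomial.monomial n : A →ₗ[A] Polynomial A).restrictScalars R)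
        (⨆ (m : ℕ) (_ : n ≤ m), 𝒜 m))

/-- the degree-zero part of `B` maps to `A` (constant coefficient). -/
noncomputable def zeroHom : ℬ 0 →+* A :=
  Polynomial.constantCoeff.comp ((φ : B →+* Polynomial A).comp (algebraMap (ℬ 0) B))

theorem zeroHom_apply (x : ℬ 0) : zeroHom ℬ φ x = (φ (x : B)).coeff 0 := rfl

include hφ hdeg

theorem mem_B_iff (n : ℕ) (b : B) :
    b ∈ ℬ n ↔ ∃ a ∈ ge 𝒜 n, φ b = Polynomial.monomial n a := by
  constructor
  · intro hb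
    have : φ b ∈ Submodule.map φ.toLinearMap (ℬ n) := ⟨b, hb, rfl⟩
    rw [hdeg' 𝒜 ℬ φ hφ hdeg] at this
    obtain ⟨a, ha, e⟩ := this
    exact ⟨a, ha, e.symm⟩
  · rintro ⟨a, ha, e⟩
    have : φ b ∈ Submodule.map (mono R n) (ge 𝒜 n) := ⟨a, ha, e.symm⟩
    rw [← hdeg' 𝒜 ℬ φ hφ hdeg] at this
    obtain ⟨b', hb', e'⟩ := this
    have : b' = b := hφ e'
    rwa [← this]

theorem exists_of_mem_ge (n : ℕ) (a : A) (ha : a ∈ ge 𝒜 n) :
    ∃ b ∈ ℬ n, φ b = Polynomial.monomial n a := by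
  have : mono R n a ∈ Submodule.map (mono R n) (ge 𝒜 n) := ⟨a, ha, rfl⟩
  rw [← hdeg' 𝒜 ℬ φ hφ hdeg] at this
  obtain ⟨b, hb, e⟩ := this
  exact ⟨b, hb, e⟩

theorem zeroHom_bijective : Function.Bijective (zeroHom ℬ φ) := by
  constructor
  · rw [injective_iff_map_eq_zero]
    intro x hx
    obtain ⟨a, -, e⟩ := (mem_B_iff 𝒜 ℬ φ hφ hdeg 0 x).1 x.2
    rw [zeroHom_apply, e, Polynomial.coeff_monomial, if_pos rfl] at hx
    rw [hx, map_zero] at e
    have : (x : B) = 0 := hφ (e.trans (map_zero φ).symm)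
    exact Subtype.ext this
  · intro a
    obtain ⟨b, hb, e⟩ := exists_of_mem_ge 𝒜 ℬ φ hφ hdeg 0 a (by rw [ge_zero]; trivial)
    refine ⟨⟨b, hb⟩, ?_⟩
    rw [zeroHom_apply]
    show (φ b).coeff 0 = a
    rw [e, Polynomial.coeff_monomial, if_pos rfl]

theorem finiteType_B [Algebra.FiniteType (𝒜 0) A] : Algebra.FiniteType (ℬ 0) B := by
  classical
  obtain ⟨F, hF1, hF2⟩ := GradedAlgebra.exists_finset_adjoin_eq_top_and_homogeneous_ne_zero 𝒜
  choose! d hd1 hd2 using hF2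
  let T : Set (Polynomial A) :=
    ⋃ f ∈ F, ⋃ k ∈ Finset.range (d f + 1), {Polynomial.monomial k f}
  have hT : T.Finite := Set.Finite.biUnion F.finite_toSet fun f _ =>
    Set.Finite.biUnion (Finset.finite_toSet _) fun k _ => Set.finite_singleton _
  let G : Set B := φ ⁻¹' T
  have hG : G.Finite := hT.preimage hφ.injOn
  let S := Algebra.adjoin (ℬ 0) G
  have claim : ∀ m, ∀ n ≤ m, ∀ a ∈ 𝒜 m, ∀ b, φ b = Polynomial.monomial n a → b ∈ S := by
    intro m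
    induction m using Nat.strong_induction_on with
    | _ m ih =>
      intro n hn a ha b hb
      rcases Nat.eq_zero_or_pos m with rfl | hm
      · obtain rfl : n = 0 := by omega
        have hb0 : b ∈ ℬ 0 := (mem_B_iff 𝒜 ℬ φ hφ hdeg 0 b).2 ⟨a, le_ge 𝒜 le_rfl ha, hb⟩
        exact Subalgebra.algebraMap_mem S (⟨b, hb0⟩ : ℬ 0)
      · have ha' := mem_span_of_adjoin_eq_top 𝒜 (F : Set A) d hd2 hd1 hF1 m (by omega) a ha
        obtain ⟨c, hc, rfl⟩ := exists_decomp 𝒜 F d hd2 m a ha ha'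
        have hterm : ∀ f ∈ F.filter (fun f => d f ≤ m),
            ∃ bf ∈ S, φ bf = Polynomial.monomial n (c f * f) := by
          intro f hf
          rw [Finset.mem_filter] at hf
          have hdf : 0 < d f := Nat.pos_of_ne_zero (hd1 f hf.1)
          obtain ⟨b₁, -, e₁⟩ := exists_of_mem_ge 𝒜 ℬ φ hφ hdeg (n - min n (d f)) (c f)
            (le_ge 𝒜 (by omega) (hc f))
          obtain ⟨b₂, -, e₂⟩ := exists_of_mem_ge 𝒜 ℬ φ hφ hdeg (min n (d f)) f
            (le_ge 𝒜 (by omega) (hd2 f hf.1))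
          refine ⟨b₁ * b₂, Subalgebra.mul_mem _
            (ih (m - d f) (by omega) _ (by omega) (c f) (hc f) b₁ e₁)
            (Algebra.subset_adjoin ?_), ?_⟩
          · show φ b₂ ∈ T
            rw [e₂]
            simp only [T, Set.mem_iUnion, Set.mem_singleton_iff]
            exact ⟨f, hf.1, min n (d f), by rw [Finset.mem_range]; omega, rfl⟩
          · rw [map_mul, e₁, e₂, Polynomial.monomial_mul_monomial,
              Nat.sub_add_cancel (Nat.min_le_left _ _)]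
        choose! g hg1 hg2 using hterm
        have : b = ∑ f ∈ F.filter (fun f => d f ≤ m), g f := by
          apply hφ
          rw [hb, map_sum, map_sum]
          exact Finset.sum_congr rfl fun f hf => (hg2 f hf).symm
        rw [this]
        exact Subalgebra.sum_mem _ fun f hf => hg1 f hf
  have hS : ∀ n, ∀ b ∈ ℬ n, b ∈ S := by
    intro n b hb
    obtain ⟨a, ha, e⟩ := (mem_B_iff 𝒜 ℬ φ hφ hdeg n b).1 hb
    have hP : ∃ b' ∈ S, φ b' = Polynomial.monomial n a := by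
      refine Submodule.iSup_induction (fun m => ⨆ (_ : n ≤ m), 𝒜 m)
        (motive := fun a => ∃ b' ∈ S, φ b' = Polynomial.monomial n a) ha ?_ ?_ ?_
      · intro m x hx
        by_cases hnm : n ≤ m
        · rw [iSup_pos hnm] at hx
          obtain ⟨b', -, e'⟩ := exists_of_mem_ge 𝒜 ℬ φ hφ hdeg n x (le_ge 𝒜 hnm hx)
          exact ⟨b', claim m n hnm x hx b' e', e'⟩
        · rw [iSup_neg hnm] at hx
          rw [(Submodule.mem_bot R).1 hx]
          exact ⟨0, zero_mem _, by simp⟩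
      · exact ⟨0, zero_mem _, by simp⟩
      · rintro x y ⟨bx, hbx, ex⟩ ⟨by', hby, ey⟩
        exact ⟨bx + by', add_mem hbx hby, by rw [map_add, ex, ey, map_add]⟩
    obtain ⟨b', hb', e'⟩ := hP
    have : b = b' := hφ (e.trans e'.symm)
    rwa [this]
  have htop : S = ⊤ := by
    rw [eq_top_iff]
    intro x _
    rw [← DirectSum.sum_support_decompose ℬ x]
    exact Subalgebra.sum_mem _ fun i _ => hS i _ (SetLike.coe_mem _)
  exact ⟨⟨hG.toFinset, by rw [Set.Finite.coe_toFinset]; exact htop⟩⟩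

theorem finiteType_A [Algebra.FiniteType (ℬ 0) B] : Algebra.FiniteType (𝒜 0) A := by
  classical
  obtain ⟨s, hs1, hs2⟩ := GradedAlgebra.exists_finset_adjoin_eq_top_and_homogeneous_ne_zero ℬ
  choose! d hd1 hd2 using hs2
  have hg : ∀ f : B, ∃ g : A, f ∈ ℬ 1 → (g ∈ ge 𝒜 1 ∧ φ f = Polynomial.monomial 1 g) := by
    intro f
    by_cases hf : f ∈ ℬ 1
    · obtain ⟨a, ha, e⟩ := (mem_B_iff 𝒜 ℬ φ hφ hdeg 1 f).1 hf
      exact ⟨a, fun _ => ⟨ha, e⟩⟩
    · exact ⟨0, fun h => absurd h hf⟩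
  choose g hg using hg
  let G : Finset A := (s.filter (fun f => d f ≤ 1)).image g
  refine finiteType_of_span 𝒜 G ?_ ?_
  · intro x hx
    simp only [G, Finset.mem_image, Finset.mem_filter] at hx
    obtain ⟨f, ⟨hf, hdf⟩, rfl⟩ := hx
    have hd1f : d f = 1 := by have := hd1 f hf; omega
    have hf1 : f ∈ ℬ 1 := hd1f ▸ hd2 f hf
    exact proj_ge_succ 𝒜 (n := 0) (hg f hf1).1
  · intro m hm a ha
    obtain ⟨x, hx, ex⟩ := exists_of_mem_ge 𝒜 ℬ φ hφ hdeg 1 a (le_ge 𝒜 hm ha)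
    have hx' := mem_span_of_adjoin_eq_top ℬ (s : Set B) d hd2 hd1 hs1 1 one_ne_zero x hx
    obtain ⟨c, hc, rfl⟩ := exists_decomp ℬ s d hd2 1 x hx hx'
    have hterm : ∀ f ∈ s.filter (fun f => d f ≤ 1),
        ∃ r : A, φ (c f * f) = Polynomial.monomial 1 (r * g f) := by
      intro f hf
      rw [Finset.mem_filter] at hf
      have hd1f : d f = 1 := by have := hd1 f hf.1; omega
      have hf1 : f ∈ ℬ 1 := hd1f ▸ hd2 f hf.1
      have hc0 : c f ∈ ℬ 0 := by have := hc f; rwa [hd1f] at this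
      obtain ⟨r, -, er⟩ := (mem_B_iff 𝒜 ℬ φ hφ hdeg 0 (c f)).1 hc0
      refine ⟨r, ?_⟩
      rw [map_mul, er, (hg f hf1).2, Polynomial.monomial_mul_monomial]
    choose! r hr using hterm
    have : a = ∑ f ∈ s.filter (fun f => d f ≤ 1), r f * g f := by
      apply Polynomial.monomial_injective 1
      rw [← ex, map_sum, map_sum]
      exact Finset.sum_congr rfl fun f hf => hr f hf
    rw [this]
    refine sum_mem fun f hf => Ideal.mul_mem_left _ _ (Ideal.subset_span ?_)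
    exact Finset.mem_coe.2 (Finset.mem_image_of_mem g hf)

theorem finiteType_iff : Algebra.FiniteType (ℬ 0) B ↔ Algebra.FiniteType (𝒜 0) A :=
  ⟨fun _ => finiteType_A 𝒜 ℬ φ hφ hdeg, fun _ => finiteType_B 𝒜 ℬ φ hφ hdeg⟩

theorem noeth_iff : IsNoetherianRing B ↔ IsNoetherianRing A := by
  constructor
  · intro h
    exact isNoetherianRing_of_surjective (ℬ 0) A (zeroHom ℬ φ)
      (zeroHom_bijective 𝒜 ℬ φ hφ hdeg).2
  · intro h
    have : Algebra.FiniteType (𝒜 0) A := by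
      obtain ⟨G, hG⟩ := (isNoetherianRing_iff_ideal_fg A).1 h
        (RingHom.ker (GradedRing.projZeroRingHom 𝒜))
      refine finiteType_of_span 𝒜 G ?_ ?_
      · intro g hg
        have : g ∈ RingHom.ker (GradedRing.projZeroRingHom 𝒜) := hG ▸ Ideal.subset_span hg
        rw [RingHom.mem_ker, GradedRing.projZeroRingHom_apply] at this
        rw [GradedAlgebra.proj_apply, this]
      · intro m hm a ha
        rw [hG, RingHom.mem_ker, GradedRing.projZeroRingHom_apply,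
          DirectSum.decompose_of_mem_ne 𝒜 ha (by omega)]
    have := finiteType_B 𝒜 ℬ φ hφ hdeg
    have : IsNoetherianRing (ℬ 0) := isNoetherianRing_of_ringEquiv A
      (RingEquiv.ofBijective _ (zeroHom_bijective 𝒜 ℬ φ hφ hdeg)).symm
    exact Algebra.FiniteType.isNoetherianRing (ℬ 0) B

end Nat

end Groth.Agent.Lib.Helper21.Natural
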