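import Mathlib

/-!
# Sections of `K → C₁` vs subobjects completing a nine diagram
-/

namespace Groth.Agent.Lib.Helper21.NineDiag

open CategoryTheory CategoryTheory.Limits

universe v u

variable {C : Type u} [Category.{v} C] [Abelian C]

section General

variable (S : ShortComplex C) {C₁ : C} (s : C₁ ⟶ S.homology)

/-- The subobject of `S.X₂` attached to `s`. -/
noncomputable abbrev Phi : Subobject S.X₂ :=
  (Subobject.map S.iCycles).obj ((Subobject.pullback S.homologyπ).obj (imageSubobject s))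

/-- The pullback of `homologyπ` and `s`. -/
noncomputable abbrev P : C := pullback S.homologyπ s
noncomputable abbrev pZ : P S s ⟶ S.cycles := pullback.fst S.homologyπ s
noncomputable abbrev pC : P S s ⟶ C₁ := pullback.snd S.homologyπ s
noncomputable abbrev m : P S s ⟶ S.X₂ := pZ S s ≫ S.iCycles

theorem phi_eq [Mono s] : Phi S s = Subobject.mk (m S s) := by
  unfold Phi
  rw [imageSubobject_mono,
    Subobject.pullback_obj_mk (IsPullback.of_hasPullback S.homologyπ s).flip, Subobject.map_mk]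

/-- `A₁ → P`. -/
noncomputable def a₀ : S.X₁ ⟶ P S s := pullback.lift S.toCycles 0 (by simp)

@[reassoc (attr := simp)] theorem a₀_pZ : a₀ S s ≫ pZ S s = S.toCycles := pullback.lift_fst _ _ _
@[reassoc (attr := simp)] theorem a₀_pC : a₀ S s ≫ pC S s = 0 := pullback.lift_snd _ _ _
@[reassoc] theorem a₀_m : a₀ S s ≫ m S s = S.f := by
  simp [m]

theorem exact_toCycles : (ShortComplex.mk S.toCycles S.homologyπ S.toCycles_comp_homologyπ).Exact :=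
  ShortComplex.exact_of_g_is_cokernel _ S.homologyIsCokernel

theorem row1_shortExact [Mono S.f] :
    (ShortComplex.mk (a₀ S s) (pC S s) (a₀_pC S s)).ShortExact := by
  have hmono : Mono S.toCycles := mono_of_mono_fac S.toCycles_i
  have : Mono (a₀ S s) := mono_of_mono_fac (a₀_pZ S s)
  have : Epi (pC S s) := inferInstance
  refine { exact := ?_, mono_f := ‹_›, epi_g := ‹_› }
  rw [ShortComplex.exact_iff_exact_up_to_refinements]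
  intro T x hx
  change x ≫ pC S s = 0 at hx
  have h1 : (x ≫ pZ S s) ≫ S.homologyπ = 0 := by
    rw [Category.assoc, pullback.condition, ← Category.assoc, hx, zero_comp]
  obtain ⟨T', π, hπ, y, hy⟩ := (exact_toCycles S).exact_up_to_refinements (x ≫ pZ S s) h1
  change π ≫ x ≫ pZ S s = y ≫ S.toCycles at hy
  refine ⟨T', π, hπ, y, ?_⟩
  change π ≫ x = y ≫ a₀ S s
  apply pullback.hom_ext
  · rw [Category.assoc, Category.assoc, hy, a₀_pZ]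
  · rw [Category.assoc, Category.assoc, hx, a₀_pC, comp_zero, comp_zero]

end General

section Nine

variable {A₁ A₂ A₃ B₂ C₁ C₂ C₃ : C}
    (i₁ : A₁ ⟶ A₂) (p₁ : A₂ ⟶ A₃) (wA : i₁ ≫ p₁ = 0)
    (i₂ : A₂ ⟶ B₂) (π₂ : B₂ ⟶ C₂) (wB : i₂ ≫ π₂ = 0)
    (j : C₁ ⟶ C₂) (q : C₂ ⟶ C₃) (wC : j ≫ q = 0)
    (w : (i₁ ≫ i₂) ≫ (π₂ ≫ q) = 0) (h₂ : i₂ ≫ (π₂ ≫ q) = 0) (h₃ : (i₁ ≫ i₂) ≫ π₂ = 0)

/-- The short complex `A₁ → B₂ → C₃`. -/
abbrev SS : ShortComplex C := ShortComplex.mk (i₁ ≫ i₂) (π₂ ≫ q) w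

variable (g : (SS i₁ i₂ π₂ q w).homology ⟶ C₁)
    (hg : g ≫ j = (SS i₁ i₂ π₂ q w).homologyι ≫ (SS i₁ i₂ π₂ q w).descOpcycles π₂ h₃)

include hg in
theorem key {T : C} (c : T ⟶ (SS i₁ i₂ π₂ q w).cycles) :
    c ≫ (SS i₁ i₂ π₂ q w).homologyπ ≫ g ≫ j = c ≫ (SS i₁ i₂ π₂ q w).iCycles ≫ π₂ := by
  rw [hg, ShortComplex.homology_π_ι_assoc, ShortComplex.p_descOpcycles]

include hg in
/-- For a section `s`, `pC ≫ j = m ≫ π₂`. -/
theorem pC_j (s : C₁ ⟶ (SS i₁ i₂ π₂ q w).homology) (hs : s ≫ g = 𝟙 C₁) :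
    pC (SS i₁ i₂ π₂ q w) s ≫ j = m (SS i₁ i₂ π₂ q w) s ≫ π₂ := by
  have h := key i₁ i₂ π₂ j q w h₃ g hg (pZ (SS i₁ i₂ π₂ q w) s)
  rw [Category.assoc, ← h, pullback.condition_assoc, ← Category.assoc s, hs, Category.id_comp]

include hg wC in
/-- (→): from a first row, a section. -/
theorem exists_section_of_row [Mono j] [Mono (i₁ ≫ i₂)] (B₁ : Subobject B₂)
    (a : A₁ ⟶ (B₁ : C)) (c : (B₁ : C) ⟶ C₁) (wac : a ≫ c = 0)
    (ha : a ≫ B₁.arrow = i₁ ≫ i₂) (hc : c ≫ j = B₁.arrow ≫ π₂)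
    (hac : (ShortComplex.mk a c wac).ShortExact) :
    ∃ s : C₁ ⟶ (SS i₁ i₂ π₂ q w).homology, s ≫ g = 𝟙 C₁ ∧ Phi (SS i₁ i₂ π₂ q w) s = B₁ := by
  have hmβ : B₁.arrow ≫ (SS i₁ i₂ π₂ q w).g = 0 := by
    change B₁.arrow ≫ π₂ ≫ q = 0
    rw [← Category.assoc, ← hc, Category.assoc, wC, comp_zero]
  have hmZ : (SS i₁ i₂ π₂ q w).liftCycles B₁.arrow hmβ ≫ (SS i₁ i₂ π₂ q w).iCycles = B₁.arrow :=
    ShortComplex.liftCycles_i _ _ _
  have haZ : a ≫ (SS i₁ i₂ π₂ q w).liftCycles B₁.arrow hmβ = (SS i₁ i₂ π₂ q w).toCycles := by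
    rw [← cancel_mono (SS i₁ i₂ π₂ q w).iCycles, Category.assoc, hmZ, ha,
      ShortComplex.toCycles_i]
  have h0 : a ≫ (SS i₁ i₂ π₂ q w).liftCycles B₁.arrow hmβ ≫ (SS i₁ i₂ π₂ q w).homologyπ = 0 := by
    rw [← Category.assoc, haZ, ShortComplex.toCycles_comp_homologyπ]
  have : Epi c := hac.epi_g
  have : Mono a := hac.mono_f
  obtain ⟨s, hs⟩ : ∃ s : C₁ ⟶ (SS i₁ i₂ π₂ q w).homology,
      c ≫ s = (SS i₁ i₂ π₂ q w).liftCycles B₁.arrow hmβ ≫ (SS i₁ i₂ π₂ q w).homologyπ :=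
    ⟨hac.exact.desc _ h0, hac.exact.g_desc _ _⟩
  have hsg : s ≫ g = 𝟙 C₁ := by
    rw [← cancel_epi c, ← cancel_mono j, Category.assoc, Category.assoc, Category.comp_id,
      ← Category.assoc c, hs, Category.assoc, key i₁ i₂ π₂ j q w h₃ g hg, ← Category.assoc,
      hmZ, hc]
  refine ⟨s, hsg, ?_⟩
  have : Mono s := mono_of_mono_fac hsg
  rw [phi_eq]
  symm
  -- the comparison map
  let θ : (B₁ : C) ⟶ P (SS i₁ i₂ π₂ q w) s := pullback.lift _ c hs.symm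
  have hθZ : θ ≫ pZ (SS i₁ i₂ π₂ q w) s = (SS i₁ i₂ π₂ q w).liftCycles B₁.arrow hmβ :=
    pullback.lift_fst _ _ _
  have hθC : θ ≫ pC (SS i₁ i₂ π₂ q w) s = c := pullback.lift_snd _ _ _
  have haθ : a ≫ θ = a₀ (SS i₁ i₂ π₂ q w) s := by
    apply pullback.hom_ext
    · rw [Category.assoc, hθZ, haZ, a₀_pZ]
    · rw [Category.assoc, hθC, wac, a₀_pC]
  let φ : ShortComplex.mk a c wac ⟶
      ShortComplex.mk (a₀ (SS i₁ i₂ π₂ q w) s) (pC (SS i₁ i₂ π₂ q w) s) (a₀_pC _ s) :=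
    { τ₁ := 𝟙 _
      τ₂ := θ
      τ₃ := 𝟙 _
      comm₁₂ := by
        change 𝟙 _ ≫ a₀ (SS i₁ i₂ π₂ q w) s = a ≫ θ
        rw [Category.id_comp, haθ]
      comm₂₃ := by
        change θ ≫ pC (SS i₁ i₂ π₂ q w) s = c ≫ 𝟙 _
        rw [hθC, Category.comp_id] }
  have hiso : IsIso θ := by
    have h1 : IsIso φ.τ₁ := by dsimp [φ]; infer_instance
    have h3 : IsIso φ.τ₃ := by dsimp [φ]; infer_instance
    exact ShortComplex.isIso₂_of_shortExact_of_isIso₁₃ φ hac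
      (row1_shortExact (SS i₁ i₂ π₂ q w) s)
  refine Subobject.eq_mk_of_comm _ (asIso θ) ?_
  change θ ≫ pZ (SS i₁ i₂ π₂ q w) s ≫ (SS i₁ i₂ π₂ q w).iCycles = B₁.arrow
  rw [← Category.assoc, hθZ, hmZ]

include hg in
/-- Injectivity of `s ↦ Phi s` on sections. -/
theorem section_ext [Mono j] (s s' : C₁ ⟶ (SS i₁ i₂ π₂ q w).homology)
    (hs : s ≫ g = 𝟙 C₁) (hs' : s' ≫ g = 𝟙 C₁)
    (h : Phi (SS i₁ i₂ π₂ q w) s = Phi (SS i₁ i₂ π₂ q w) s') : s = s' := by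
  have : Mono s := mono_of_mono_fac hs
  have : Mono s' := mono_of_mono_fac hs'
  rw [phi_eq, phi_eq] at h
  have hθ : (Subobject.isoOfMkEqMk _ _ h).hom ≫ m (SS i₁ i₂ π₂ q w) s' = m (SS i₁ i₂ π₂ q w) s := by
    rw [Subobject.isoOfMkEqMk_hom, Subobject.ofMkLEMk_comp]
  have hθZ : (Subobject.isoOfMkEqMk _ _ h).hom ≫ pZ (SS i₁ i₂ π₂ q w) s' =
      pZ (SS i₁ i₂ π₂ q w) s := by
    rw [← cancel_mono (SS i₁ i₂ π₂ q w).iCycles, Category.assoc]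
    exact hθ
  have hθC : (Subobject.isoOfMkEqMk _ _ h).hom ≫ pC (SS i₁ i₂ π₂ q w) s' =
      pC (SS i₁ i₂ π₂ q w) s := by
    rw [← cancel_mono j, Category.assoc, pC_j i₁ i₂ π₂ j q w h₃ g hg s' hs',
      pC_j i₁ i₂ π₂ j q w h₃ g hg s hs, ← Category.assoc, hθ]
  have : Epi (pC (SS i₁ i₂ π₂ q w) s) := inferInstance
  rw [← cancel_epi (pC (SS i₁ i₂ π₂ q w) s)]
  calc pC (SS i₁ i₂ π₂ q w) s ≫ s
      = pZ (SS i₁ i₂ π₂ q w) s ≫ (SS i₁ i₂ π₂ q w).homologyπ := pullback.condition.symm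
    _ = ((Subobject.isoOfMkEqMk _ _ h).hom ≫ pZ (SS i₁ i₂ π₂ q w) s') ≫
          (SS i₁ i₂ π₂ q w).homologyπ := by rw [hθZ]
    _ = (Subobject.isoOfMkEqMk _ _ h).hom ≫ pC (SS i₁ i₂ π₂ q w) s' ≫ s' := by
        rw [Category.assoc]
        exact congrArg (fun t => _ ≫ t) pullback.condition
    _ = pC (SS i₁ i₂ π₂ q w) s ≫ s' := by rw [← Category.assoc, hθC]

include hg in
/-- (←): the second row. -/
theorem row2 (hA : (ShortComplex.mk i₁ p₁ wA).ShortExact)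
    (hB : (ShortComplex.mk i₂ π₂ wB).ShortExact) [Mono j] [Epi q] [Mono (i₁ ≫ i₂)]
    (f : A₃ ⟶ (SS i₁ i₂ π₂ q w).homology)
    (hf : p₁ ≫ f = (SS i₁ i₂ π₂ q w).liftCycles i₂ h₂ ≫ (SS i₁ i₂ π₂ q w).homologyπ)
    (wfg : f ≫ g = 0) (hfg : (ShortComplex.mk f g wfg).ShortExact)
    (s : C₁ ⟶ (SS i₁ i₂ π₂ q w).homology) (hs : s ≫ g = 𝟙 C₁)
    {B : C} (n : B ⟶ B₂) [Mono n] (e : B ≅ P (SS i₁ i₂ π₂ q w) s)
    (he : e.hom ≫ m (SS i₁ i₂ π₂ q w) s = n) :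
    ∃ (a' : A₃ ⟶ cokernel n) (c' : cokernel n ⟶ C₃) (wac' : a' ≫ c' = 0),
      p₁ ≫ a' = i₂ ≫ cokernel.π n ∧ cokernel.π n ≫ c' = π₂ ≫ q ∧
        (ShortComplex.mk a' c' wac').ShortExact := by
  have : Epi p₁ := hA.epi_g
  have : Mono i₂ := hB.mono_f
  have : Epi π₂ := hB.epi_g
  have hαn : i₁ ≫ i₂ = (a₀ (SS i₁ i₂ π₂ q w) s ≫ e.inv) ≫ n := by
    rw [Category.assoc, ← he, e.inv_hom_id_assoc, a₀_m]
  have h1 : i₁ ≫ (i₂ ≫ cokernel.π n) = 0 := by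
    rw [← Category.assoc, hαn, Category.assoc, cokernel.condition, comp_zero]
  obtain ⟨a', ha'⟩ : ∃ a' : A₃ ⟶ cokernel n, p₁ ≫ a' = i₂ ≫ cokernel.π n :=
    ⟨hA.exact.desc _ h1, hA.exact.g_desc _ _⟩
  have h2 : n ≫ (π₂ ≫ q) = 0 := by
    rw [← he, Category.assoc, Category.assoc]
    have : (SS i₁ i₂ π₂ q w).iCycles ≫ (π₂ ≫ q) = 0 := (SS i₁ i₂ π₂ q w).iCycles_g
    rw [this, comp_zero, comp_zero]
  have hc' : cokernel.π n ≫ cokernel.desc n (π₂ ≫ q) h2 = π₂ ≫ q := cokernel.π_desc _ _ _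
  have wac' : a' ≫ cokernel.desc n (π₂ ≫ q) h2 = 0 := by
    rw [← cancel_epi p₁, ← Category.assoc, ha', Category.assoc, hc', h₂, comp_zero]
  refine ⟨a', cokernel.desc n (π₂ ≫ q) h2, wac', ha', hc', ?_⟩
  have hEc : Epi (cokernel.desc n (π₂ ≫ q) h2) := epi_of_epi_fac hc'
  have hMa : Mono a' := by
    rw [Preadditive.mono_iff_cancel_zero]
    intro T x hx
    obtain ⟨T', π, hπ, y, hy⟩ := surjective_up_to_refinements_of_epi p₁ x
    have h3 : (y ≫ i₂) ≫ cokernel.π n = 0 := by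
      rw [Category.assoc, ← ha', ← Category.assoc, ← hy, Category.assoc, hx, comp_zero]
    obtain ⟨T'', π', hπ', z, hz⟩ :=
      (ShortComplex.exact_cokernel n).exact_up_to_refinements (y ≫ i₂) h3
    change π' ≫ y ≫ i₂ = z ≫ n at hz
    have h4 : (z ≫ e.hom) ≫ pC (SS i₁ i₂ π₂ q w) s = 0 := by
      rw [← cancel_mono j, zero_comp, Category.assoc, Category.assoc,
        pC_j i₁ i₂ π₂ j q w h₃ g hg s hs, ← Category.assoc e.hom, he, ← Category.assoc, ← hz,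
        Category.assoc, Category.assoc, wB, comp_zero, comp_zero]
    obtain ⟨T₃, π₃, hπ₃, t, ht⟩ :=
      (row1_shortExact (SS i₁ i₂ π₂ q w) s).exact.exact_up_to_refinements (z ≫ e.hom) h4
    change π₃ ≫ z ≫ e.hom = t ≫ a₀ (SS i₁ i₂ π₂ q w) s at ht
    have h5 : π₃ ≫ π' ≫ y = t ≫ i₁ := by
      rw [← cancel_mono i₂, Category.assoc, Category.assoc, hz, ← he, ← Category.assoc z,
        ← Category.assoc π₃, ht, Category.assoc, Category.assoc, a₀_m]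
    rw [← cancel_epi π, ← cancel_epi π', ← cancel_epi π₃, comp_zero, comp_zero, comp_zero, hy,
      ← Category.assoc π', ← Category.assoc π₃, h5, Category.assoc, wA, comp_zero]
  refine { exact := ?_, mono_f := hMa, epi_g := hEc }
  rw [ShortComplex.exact_iff_exact_up_to_refinements]
  intro T x hx
  change x ≫ cokernel.desc n (π₂ ≫ q) h2 = 0 at hx
  obtain ⟨T', π, hπ, b, hb⟩ := surjective_up_to_refinements_of_epi (cokernel.π n) x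
  have hbβ : b ≫ (SS i₁ i₂ π₂ q w).g = 0 := by
    change b ≫ π₂ ≫ q = 0
    rw [← hc', ← Category.assoc, ← hb, Category.assoc, hx, comp_zero]
  have hzi : (SS i₁ i₂ π₂ q w).liftCycles b hbβ ≫ (SS i₁ i₂ π₂ q w).iCycles = b :=
    ShortComplex.liftCycles_i _ _ _
  obtain ⟨z, hz⟩ : ∃ z : T' ⟶ (SS i₁ i₂ π₂ q w).cycles, z ≫ (SS i₁ i₂ π₂ q w).iCycles = b :=
    ⟨_, hzi⟩
  obtain ⟨k, hk⟩ : ∃ k : T' ⟶ (SS i₁ i₂ π₂ q w).homology,
      k = z ≫ (SS i₁ i₂ π₂ q w).homologyπ := ⟨_, rfl⟩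
  have hkg : (k - k ≫ g ≫ s) ≫ g = 0 := by
    rw [Preadditive.sub_comp, Category.assoc, Category.assoc, hs, Category.comp_id, sub_self]
  have : Mono f := hfg.mono_f
  obtain ⟨y, hy⟩ : ∃ y : T' ⟶ A₃, y ≫ f = k - k ≫ g ≫ s :=
    ⟨hfg.exact.lift _ hkg, hfg.exact.lift_f _ _⟩
  obtain ⟨T'', π', hπ', y', hy'⟩ := surjective_up_to_refinements_of_epi p₁ y
  have hz' : (π' ≫ z - y' ≫ (SS i₁ i₂ π₂ q w).liftCycles i₂ h₂) ≫
      (SS i₁ i₂ π₂ q w).homologyπ = (π' ≫ k ≫ g) ≫ s := by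
    rw [Preadditive.sub_comp, Category.assoc, Category.assoc, ← hf, ← Category.assoc y', ← hy',
      Category.assoc, hy, Preadditive.comp_sub, ← hk, sub_sub_cancel, Category.assoc,
      Category.assoc]
  have hl : pullback.lift _ _ hz' ≫ pZ (SS i₁ i₂ π₂ q w) s =
      π' ≫ z - y' ≫ (SS i₁ i₂ π₂ q w).liftCycles i₂ h₂ := pullback.lift_fst _ _ _
  have h6 : (π' ≫ z - y' ≫ (SS i₁ i₂ π₂ q w).liftCycles i₂ h₂) ≫
      (SS i₁ i₂ π₂ q w).iCycles ≫ cokernel.π n = 0 := by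
    rw [← hl, Category.assoc, ← Category.assoc (pZ (SS i₁ i₂ π₂ q w) s)]
    change _ ≫ m (SS i₁ i₂ π₂ q w) s ≫ _ = 0
    rw [← e.inv_hom_id_assoc (m (SS i₁ i₂ π₂ q w) s ≫ cokernel.π n), ← Category.assoc e.hom, he,
      cokernel.condition, comp_zero, comp_zero]
  refine ⟨T'', π' ≫ π, epi_comp _ _, y' ≫ p₁, ?_⟩
  change (π' ≫ π) ≫ x = (y' ≫ p₁) ≫ a'
  rw [Category.assoc, hb, Category.assoc y', ha', ← hz]
  have h7 : π' ≫ z ≫ (SS i₁ i₂ π₂ q w).iCycles =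
      (π' ≫ z - y' ≫ (SS i₁ i₂ π₂ q w).liftCycles i₂ h₂) ≫ (SS i₁ i₂ π₂ q w).iCycles +
        y' ≫ i₂ := by
    rw [Preadditive.sub_comp, Category.assoc, Category.assoc, ShortComplex.liftCycles_i,
      sub_add_cancel]
  rw [← Category.assoc π', h7, Preadditive.add_comp, Category.assoc, h6, zero_add, Category.assoc]

include hg in
/-- (←): all the data from a section. -/
theorem data_of_section (hA : (ShortComplex.mk i₁ p₁ wA).ShortExact)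
    (hB : (ShortComplex.mk i₂ π₂ wB).ShortExact) [Mono j] [Epi q] [Mono (i₁ ≫ i₂)]
    (f : A₃ ⟶ (SS i₁ i₂ π₂ q w).homology)
    (hf : p₁ ≫ f = (SS i₁ i₂ π₂ q w).liftCycles i₂ h₂ ≫ (SS i₁ i₂ π₂ q w).homologyπ)
    (wfg : f ≫ g = 0) (hfg : (ShortComplex.mk f g wfg).ShortExact)
    (s : C₁ ⟶ (SS i₁ i₂ π₂ q w).homology) (hs : s ≫ g = 𝟙 C₁)
    (B₁ : Subobject B₂) (hB₁ : Phi (SS i₁ i₂ π₂ q w) s = B₁) :
    ∃ (a : A₁ ⟶ (B₁ : C)) (c : (B₁ : C) ⟶ C₁) (wac : a ≫ c = 0)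
      (a' : A₃ ⟶ cokernel B₁.arrow) (c' : cokernel B₁.arrow ⟶ C₃) (wac' : a' ≫ c' = 0),
      a ≫ B₁.arrow = i₁ ≫ i₂ ∧ c ≫ j = B₁.arrow ≫ π₂ ∧ (ShortComplex.mk a c wac).ShortExact ∧
      p₁ ≫ a' = i₂ ≫ cokernel.π B₁.arrow ∧ cokernel.π B₁.arrow ≫ c' = π₂ ≫ q ∧
      (ShortComplex.mk a' c' wac').ShortExact := by
  have : Mono s := mono_of_mono_fac hs
  rw [phi_eq] at hB₁
  subst hB₁
  have he : (Subobject.underlyingIso (m (SS i₁ i₂ π₂ q w) s)).hom ≫ m (SS i₁ i₂ π₂ q w) s =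
      (Subobject.mk (m (SS i₁ i₂ π₂ q w) s)).arrow := Subobject.underlyingIso_hom_comp_eq_mk _
  obtain ⟨a', c', wac', h1, h2, h3⟩ := row2 i₁ p₁ wA i₂ π₂ wB j q w h₂ h₃ g hg hA hB f hf wfg hfg
    s hs (Subobject.mk (m (SS i₁ i₂ π₂ q w) s)).arrow
    (Subobject.underlyingIso (m (SS i₁ i₂ π₂ q w) s)) he
  have wac : (a₀ (SS i₁ i₂ π₂ q w) s ≫ (Subobject.underlyingIso (m (SS i₁ i₂ π₂ q w) s)).inv) ≫
      ((Subobject.underlyingIso (m (SS i₁ i₂ π₂ q w) s)).hom ≫ pC (SS i₁ i₂ π₂ q w) s) = 0 := by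
    rw [Category.assoc, Iso.inv_hom_id_assoc, a₀_pC]
  refine ⟨a₀ (SS i₁ i₂ π₂ q w) s ≫ (Subobject.underlyingIso (m (SS i₁ i₂ π₂ q w) s)).inv,
    (Subobject.underlyingIso (m (SS i₁ i₂ π₂ q w) s)).hom ≫ pC (SS i₁ i₂ π₂ q w) s, wac,
    a', c', wac', ?_, ?_, ?_, h1, h2, h3⟩
  · rw [Category.assoc, ← he, Iso.inv_hom_id_assoc, a₀_m]
  · rw [Category.assoc, pC_j i₁ i₂ π₂ j q w h₃ g hg s hs, ← Category.assoc, he]
  · refine ShortComplex.shortExact_of_iso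
      (ShortComplex.isoMk (Iso.refl _)
        (Subobject.underlyingIso (m (SS i₁ i₂ π₂ q w) s)).symm (Iso.refl _) ?_ ?_ :
        ShortComplex.mk (a₀ (SS i₁ i₂ π₂ q w) s) (pC (SS i₁ i₂ π₂ q w) s) (a₀_pC _ s) ≅
          ShortComplex.mk _ _ wac)
      (row1_shortExact (SS i₁ i₂ π₂ q w) s)
    · simp
    · simp

end Nine

end Groth.Agent.Lib.Helper21.NineDiag
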