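import Mathlib
import Groth.Prelude.Def_EGA4b
import Groth.Agent.Lib.Helper21.NorGeomB

/-!
# Helper library (helper21): base change of normal homomorphisms (S4749)
-/

set_option autoImplicit false

namespace Groth.Agent.Lib.Helper21.NorGeom

universe u

open TensorProduct

/-- transfer of geometric normality along an algebra isomorphism -/
theorem isGeomNormal_of_algEquiv {K S S' : Type u} [Field K] [CommRing S] [CommRing S']
    [Algebra K S] [Algebra K S'] (e : S ≃ₐ[K] S') (h : EGA4.IsGeomNormal K S) :
    EGA4.IsGeomNormal K S' := by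
  intro k' _ _ hfin
  exact Groth.Agent.Lib.Helper14.isNormalRing_of_ringEquiv
    (Algebra.TensorProduct.congr (AlgEquiv.refl (R := K) (A₁ := k')) e).toRingEquiv (h k' hfin)

section fibre

variable (A B A' : Type u) [CommRing A] [CommRing B] [CommRing A'] [Algebra A B] [Algebra A A']
  (p' : Ideal A') [p'.IsPrime]

/-- the fibre of `A' ⊗ B` over a prime `p'` of `A'` is geometrically normal iff the fibre of `B`
over the contraction of `p'` is -/
theorem isGeomNormal_fiber_tensor_iff :
    EGA4.IsGeomNormal p'.ResidueField (p'.Fiber (A' ⊗[A] B)) ↔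
      EGA4.IsGeomNormal (p'.comap (algebraMap A A')).ResidueField
        ((p'.comap (algebraMap A A')).Fiber B) := by
  letI : Algebra (p'.comap (algebraMap A A')).ResidueField p'.ResidueField :=
    (Ideal.ResidueField.map (p'.comap (algebraMap A A')) p' (algebraMap A A') rfl).toAlgebra
  letI : Algebra A p'.ResidueField :=
    ((algebraMap A' p'.ResidueField).comp (algebraMap A A')).toAlgebra
  haveI : IsScalarTower A A' p'.ResidueField := IsScalarTower.of_algebraMap_eq (fun _ => rfl)
  haveI : IsScalarTower A (p'.comap (algebraMap A A')).ResidueField p'.ResidueField :=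
    IsScalarTower.of_algebraMap_eq (fun a => by
      change algebraMap A' p'.ResidueField (algebraMap A A' a) =
        Ideal.ResidueField.map (p'.comap (algebraMap A A')) p'
          (algebraMap A A') rfl (algebraMap A _ a)
      rw [Ideal.ResidueField.map_algebraMap])
  let e : p'.Fiber (A' ⊗[A] B) ≃ₐ[p'.ResidueField]
      p'.ResidueField ⊗[(p'.comap (algebraMap A A')).ResidueField]
        ((p'.comap (algebraMap A A')).Fiber B) :=
    (Algebra.TensorProduct.cancelBaseChange A A' p'.ResidueField p'.ResidueField B).trans
      (Algebra.TensorProduct.cancelBaseChange A (p'.comap (algebraMap A A')).ResidueField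
        p'.ResidueField p'.ResidueField B).symm
  rw [S2675_aux (p'.comap (algebraMap A A')).ResidueField ((p'.comap (algebraMap A A')).Fiber B)
    p'.ResidueField]
  exact ⟨isGeomNormal_of_algEquiv e, isGeomNormal_of_algEquiv e.symm⟩

end fibre

/-- S4749 -/
theorem S4749_aux (A B A' : Type u) [CommRing A] [CommRing B] [CommRing A']
    [Algebra A B] [Algebra A A'] :
    (EGA4.IsNormalHom A B → EGA4.IsNormalHom A' (A' ⊗[A] B)) ∧
      (Module.FaithfullyFlat A A' → EGA4.IsNormalHom A' (A' ⊗[A] B) → EGA4.IsNormalHom A B) := by
  constructor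
  · rintro ⟨hflat, hfib⟩
    haveI := hflat
    refine ⟨inferInstance, fun p' _ => ?_⟩
    rw [isGeomNormal_fiber_tensor_iff]
    exact hfib _
  · rintro hff ⟨hflat, hfib⟩
    haveI := hff
    haveI := hflat
    refine ⟨Module.Flat.of_flat_tensorProduct A B A', fun p hp => ?_⟩
    obtain ⟨p', hp', hlo⟩ := Ideal.exists_isPrime_liesOver_of_faithfullyFlat (B := A') p
    have hpp : p = p'.comap (algebraMap A A') := hlo.over
    subst hpp
    rw [← isGeomNormal_fiber_tensor_iff]
    exact hfib p'

end Groth.Agent.Lib.Helper21.NorGeom
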