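import Mathlib
import Groth.Prelude.Def_EGA4b
import Groth.Agent.Lib.Helper21.NorGeom
import Groth.Agent.Lib.Helper21.NorTenE

/-!
# Helper library (helper21): normality of tensor products over a field, part F

The general statement: geometrically normal ⊗ normal is normal.
-/

set_option autoImplicit false

namespace Groth.Agent.Lib.Helper21.NorTen

universe u

open TensorProduct

/-- localising the left factor preserves normality of a tensor product -/
theorem isNormalRing_tensor_of_isLocalization_left (k A B : Type u) [CommRing k] [CommRing A]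
    [CommRing B] [Algebra k A] [Algebra k B] (M : Submonoid A) (A' : Type u) [CommRing A']
    [Algebra A A'] [IsLocalization M A'] [Algebra k A'] [IsScalarTower k A A']
    (h : EGA4.IsNormalRing (A ⊗[k] B)) : EGA4.IsNormalRing (A' ⊗[k] B) := by
  letI : Algebra (A ⊗[k] B) (A' ⊗[A] (A ⊗[k] B)) := Algebra.TensorProduct.rightAlgebra
  haveI : IsLocalization (Algebra.algebraMapSubmonoid (A ⊗[k] B) M) (A' ⊗[A] (A ⊗[k] B)) :=
    IsLocalization.tensorRight _ M
  have h1 : EGA4.IsNormalRing (A' ⊗[A] (A ⊗[k] B)) :=
    Groth.Agent.Lib.Helper14.isNormalRing_of_isLocalization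
      (Algebra.algebraMapSubmonoid (A ⊗[k] B) M) (A' ⊗[A] (A ⊗[k] B)) h
  exact Groth.Agent.Lib.Helper14.isNormalRing_of_ringEquiv
    (Algebra.TensorProduct.cancelBaseChange k A A' A' B).toRingEquiv h1

/-- localising the right factor preserves normality of a tensor product -/
theorem isNormalRing_tensor_of_isLocalization_right (k A B : Type u) [CommRing k] [CommRing A]
    [CommRing B] [Algebra k A] [Algebra k B] (M : Submonoid B) (B' : Type u) [CommRing B']
    [Algebra B B'] [IsLocalization M B'] [Algebra k B'] [IsScalarTower k B B']
    (h : EGA4.IsNormalRing (A ⊗[k] B)) : EGA4.IsNormalRing (A ⊗[k] B') := by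
  have h1 : EGA4.IsNormalRing (B ⊗[k] A) :=
    Groth.Agent.Lib.Helper14.isNormalRing_of_ringEquiv
      (Algebra.TensorProduct.comm k A B).toRingEquiv h
  exact Groth.Agent.Lib.Helper14.isNormalRing_of_ringEquiv
    (Algebra.TensorProduct.comm k B' A).toRingEquiv
    (isNormalRing_tensor_of_isLocalization_left k B A M B' h1)

/-- a localisation of a geometrically normal algebra is geometrically normal -/
theorem isGeomNormal_of_isLocalization (k A : Type u) [Field k] [CommRing A] [Algebra k A]
    (M : Submonoid A) (A' : Type u) [CommRing A'] [Algebra A A'] [IsLocalization M A']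
    [Algebra k A'] [IsScalarTower k A A'] (h : EGA4.IsGeomNormal k A) :
    EGA4.IsGeomNormal k A' := by
  intro k' _ _ hfin
  exact isNormalRing_tensor_of_isLocalization_right k k' A M A' (h k' hfin)

/-- a geometrically normal algebra is a normal ring -/
theorem isNormalRing_of_isGeomNormal (k A : Type u) [Field k] [CommRing A] [Algebra k A]
    (h : EGA4.IsGeomNormal k A) : EGA4.IsNormalRing A :=
  Groth.Agent.Lib.Helper14.isNormalRing_of_ringEquiv
    (Algebra.TensorProduct.lid k A).toRingEquiv (h k inferInstance)

/-- the fraction field of a geometrically normal domain is separable -/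
theorem isGeometricallyReduced_fractionRing_of_isGeomNormal (k D : Type u) [Field k] [CommRing D]
    [IsDomain D] [Algebra k D] (h : EGA4.IsGeomNormal k D) :
    Algebra.IsGeometricallyReduced k (FractionRing D) := by
  rw [Algebra.isGeometricallyReduced_field_iff]
  have h1 : EGA4.IsNormalRing (AlgebraicClosure k ⊗[k] D) :=
    Groth.Agent.Lib.Helper21.NorGeom.isNormalRing_tensor_of_isGeomNormal k D h (AlgebraicClosure k)
  have h2 : EGA4.IsNormalRing (AlgebraicClosure k ⊗[k] FractionRing D) :=
    isNormalRing_tensor_of_isLocalization_right k (AlgebraicClosure k) D (nonZeroDivisors D)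
      (FractionRing D) h1
  exact isReduced_of_isNormalRing _ h2

/-- **Geometrically normal ⊗ normal is normal** (no finiteness hypotheses). -/
theorem isNormalRing_tensor_of_isGeomNormal_of_isNormalRing (k : Type u) [Field k] (A : Type u)
    [CommRing A] [Algebra k A] (B : Type u) [CommRing B] [Algebra k B]
    (hA : EGA4.IsGeomNormal k A) (hB : EGA4.IsNormalRing B) : EGA4.IsNormalRing (A ⊗[k] B) := by
  apply isNormalRing_tensor_left
  intro p hp
  apply isNormalRing_tensor_right
  intro q hq
  obtain ⟨hBd, hBic⟩ := hB q
  obtain ⟨hAd, -⟩ := isNormalRing_of_isGeomNormal k A hA p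
  have hAp : EGA4.IsGeomNormal k (Localization.AtPrime p) :=
    isGeomNormal_of_isLocalization k A p.primeCompl (Localization.AtPrime p) hA
  haveI := isGeometricallyReduced_fractionRing_of_isGeomNormal k (Localization.AtPrime p) hAp
  apply isNormalRing_tensor_of_forall_sub k (Localization.AtPrime p) (Localization.AtPrime q)
  intro C _ _ _ ψ hψ
  exact Groth.Agent.Lib.Helper14.isNormalRing_of_ringEquiv
    (Algebra.TensorProduct.comm k (FractionRing C) (Localization.AtPrime p)).toRingEquiv
    (Groth.Agent.Lib.Helper21.NorGeom.isNormalRing_tensor_of_isGeomNormal k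
      (Localization.AtPrime p) hAp (FractionRing C))

end Groth.Agent.Lib.Helper21.NorTen
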