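import Mathlib

/-!
Localization of a site at a subterminal object `U` (every object has at most one morphism to `U`):
`Over.forget U` is fully faithful, hence extension by the initial object `j_!` is fully faithful,
i.e. the unit `F ⟶ j^* j_! F` is an isomorphism.  We use the adjoint triple `j_! ⊣ j^* ⊣ j_*`.
-/

set_option autoImplicit false

open CategoryTheory CategoryTheory.Limits Opposite

universe v u

namespace Groth.Agent.Lib.Helper21

variable {C : Type u} [Category.{v} C] (J : GrothendieckTopology C) (U : C)

theorem full_forget (hU : ∀ V : C, Subsingleton (V ⟶ U)) : (Over.forget U).Full where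
  map_surjective {_ _} f := ⟨Over.homMk f (Subsingleton.elim _ _), rfl⟩

theorem isIso_unit_sheafAdjunctionContinuous_over
    {A : Type (max u v + 1)} [Category.{max u v} A]
    [∀ (P : (Over U)ᵒᵖ ⥤ A), (Over.forget U).op.HasPointwiseRightKanExtension P]
    (hU : ∀ V : C, Subsingleton (V ⟶ U))
    [((Over.forget U).sheafPushforwardContinuous A (J.over U) J).IsRightAdjoint]
    (F : Sheaf (J.over U) A) :
    IsIso (((Over.forget U).sheafAdjunctionContinuous A (J.over U) J).unit.app F) := by
  have := full_forget U hU
  let t : Adjunction.Triple ((Over.forget U).sheafPullback A (J.over U) J)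
      ((Over.forget U).sheafPushforwardContinuous A (J.over U) J)
      ((Over.forget U).sheafPushforwardCocontinuous A (J.over U) J) :=
    ⟨(Over.forget U).sheafAdjunctionContinuous A (J.over U) J,
      (Over.forget U).sheafAdjunctionCocontinuous A (J.over U) J⟩
  have h2 : IsIso t.adj₂.counit := by
    have : ∀ G, IsIso (t.adj₂.counit.app G) := by
      intro G
      have : IsIso ((sheafToPresheaf _ _).map (t.adj₂.counit.app G)) := by
        change IsIso
          ((((Over.forget U).sheafAdjunctionCocontinuous A (J.over U) J).counit.app G).hom)
        rw [Functor.sheafAdjunctionCocontinuous_counit_app_hom]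
        have : (Over.forget U).op.Full := inferInstance
        have : (Over.forget U).op.Faithful := inferInstance
        have h3 : IsIso ((Over.forget U).op.ranAdjunction A).counit := Functor.reflective' _
        exact NatIso.isIso_app_of_isIso _ _
      exact isIso_of_fully_faithful (sheafToPresheaf _ _) _
    exact NatIso.isIso_of_isIso_app _
  have h1 : IsIso t.adj₁.unit := t.isIso_unit_iff_isIso_counit.2 h2
  exact (inferInstance : IsIso (t.adj₁.unit.app F))

end Groth.Agent.Lib.Helper21
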