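import Mathlib
import Groth.Prelude.Def_EGA41
import Groth.Agent.Lib.Helper21.PBasisJ

/-!
# The imperfection module of `B ⊇ A ⊇ B^p` (helper21)
-/

namespace Groth.Agent.Lib.Helper21.PBasis

open MvPolynomial TensorProduct

universe u

theorem imperfection_basis (p : ℕ) [Fact p.Prime] {R A B : Type u} [CommRing R] [CommRing A]
    [CommRing B] [IsReduced B] [Algebra R A] [Algebra A B] [Algebra R B] [IsScalarTower R A B]
    [CharP B p]
    (hinj : Function.Injective (algebraMap A B))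
    (hpow : ∀ b : B, b ^ p ∈ Set.range (algebraMap A B))
    (hR : Set.range (algebraMap R B) = Set.range fun b : B => b ^ p)
    {Λ M : Type u} (x : Λ → B) (hx : EGA41.IsPBasis p A x) (x' : Λ → A)
    (hx' : ∀ i, algebraMap A B (x' i) = x i ^ p)
    (y : M → A) (hy : EGA41.IsPBasis p R y) :
    ∃ b : Module.Basis Λ B (EGA41.imperfection ℤ A B),
      ∀ i, (b i : B ⊗[A] Ω[A⁄ℤ]) = (1 : B) ⊗ₜ[A] KaehlerDifferential.D ℤ A (x' i) := by
  classical
  haveI : CharP A p := (RingHom.charP_iff (algebraMap A B) hinj p).mpr inferInstance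
  haveI : IsReduced A := isReduced_of_injective (algebraMap A B) hinj
  -- Step 1: `x` is a `p`-basis of `B` over `A` itself
  have hC₁ : ∀ c ∈ EGA41.pPowerSubalgebra p A B, c ∈ Set.range (algebraMap A B) := by
    intro c hc
    induction hc using Algebra.adjoin_induction with
    | mem z hz =>
      obtain ⟨b, rfl⟩ := hz
      exact hpow b
    | algebraMap r => exact ⟨r, rfl⟩
    | add z w _ _ hz hw =>
      obtain ⟨a, rfl⟩ := hz
      obtain ⟨a', rfl⟩ := hw
      exact ⟨a + a', map_add _ _ _⟩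
    | mul z w _ _ hz hw =>
      obtain ⟨a, rfl⟩ := hz
      obtain ⟨a', rfl⟩ := hw
      exact ⟨a * a', map_mul _ _ _⟩
  let f₁ : A →+* ↥(EGA41.pPowerSubalgebra p A B) :=
    (algebraMap A B).codRestrict (EGA41.pPowerSubalgebra p A B)
      (fun a => Subalgebra.algebraMap_mem _ a)
  have hf₁ : Function.Bijective f₁ := by
    constructor
    · intro a a' h
      exact hinj (congrArg Subtype.val h)
    · rintro ⟨c, hc⟩
      obtain ⟨a, rfl⟩ := hC₁ c hc
      exact ⟨a, rfl⟩
  have hxA : IsQBasis A p x := by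
    have h1 := (isQBasis_of_isPBasis p A x hx).transport (RingEquiv.refl B)
      ((RingEquiv.ofBijective f₁ hf₁).symm : ↥(EGA41.pPowerSubalgebra p A B) →+* A)
      (RingEquiv.ofBijective f₁ hf₁).symm.surjective
      (fun c => by
        have h2 : f₁ ((RingEquiv.ofBijective f₁ hf₁).symm c) = c :=
          (RingEquiv.ofBijective f₁ hf₁).apply_symm_apply c
        exact (congrArg Subtype.val h2).symm)
    exact h1
  -- Step 2: the subalgebra `C₂ = R[A^p]` of `A`, which maps onto `B^p`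
  have hyQ := isQBasis_of_isPBasis p R y hy
  have hC₂a : ∀ c ∈ EGA41.pPowerSubalgebra p R A, ∃ b : B, algebraMap A B c = b ^ p := by
    intro c hc
    induction hc using Algebra.adjoin_induction with
    | mem z hz =>
      obtain ⟨a, rfl⟩ := hz
      exact ⟨algebraMap A B a, map_pow _ _ _⟩
    | algebraMap r =>
      have : algebraMap R B r ∈ Set.range fun b : B => b ^ p := hR ▸ ⟨r, rfl⟩
      obtain ⟨b, hb⟩ := this
      exact ⟨b, by rw [← IsScalarTower.algebraMap_apply, ← hb]⟩
    | add z w _ _ hz hw =>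
      obtain ⟨b, hb⟩ := hz
      obtain ⟨b', hb'⟩ := hw
      exact ⟨b + b', by rw [map_add, hb, hb', add_pow_char]⟩
    | mul z w _ _ hz hw =>
      obtain ⟨b, hb⟩ := hz
      obtain ⟨b', hb'⟩ := hw
      exact ⟨b * b', by rw [map_mul, hb, hb', mul_pow]⟩
  have hC₂b : ∀ b : B, ∃ c ∈ EGA41.pPowerSubalgebra p R A, algebraMap A B c = b ^ p := by
    intro b
    have : b ^ p ∈ Set.range (algebraMap R B) := hR ▸ ⟨b, rfl⟩
    obtain ⟨r, hr⟩ := this
    exact ⟨algebraMap R A r, Subalgebra.algebraMap_mem _ r, by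
      rw [← IsScalarTower.algebraMap_apply, hr]⟩
  have hx'mem : ∀ i, x' i ∈ EGA41.pPowerSubalgebra p R A := by
    intro i
    obtain ⟨c, hc, hc'⟩ := hC₂b (x i)
    rw [← hx' i] at hc'
    rw [← hinj hc']
    exact hc
  -- Step 3: the tower `C₂ → A → B` and the differentials of `B`
  have hB : IsQBasis ↥(EGA41.pPowerSubalgebra p R A) p (Sum.elim x (algebraMap A B ∘ y)) :=
    hxA.tower hyQ
  obtain ⟨eB, heB⟩ := kaehler_basis_int p (Sum.elim x (algebraMap A B ∘ y)) hB
    (Sum.elim (fun i => ⟨x' i, hx'mem i⟩) (fun j => ⟨y j ^ p, Algebra.subset_adjoin ⟨y j, rfl⟩⟩))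
    (by
      rintro (i | j)
      · exact hx' i
      · exact map_pow (algebraMap A B) (y j) p)
    (fun a => hC₂a a.1 a.2)
  -- Step 4: the tower `A^p → C₂ → A` and the differentials of `A`
  let P : Subring B := (algebraMap R B).range
  have hP : ∀ b : B, b ∈ P ↔ ∃ b' : B, b = b' ^ p := by
    intro b
    have h1 : b ∈ P ↔ b ∈ Set.range (algebraMap R B) := Iff.rfl
    rw [h1, hR]
    exact ⟨fun ⟨b', h⟩ => ⟨b', h.symm⟩, fun ⟨b', h⟩ => ⟨b', h.symm⟩⟩
  let φ : ↥(EGA41.pPowerSubalgebra p R A) →+* ↥P :=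
    ((algebraMap A B).comp (EGA41.pPowerSubalgebra p R A).val.toRingHom).codRestrict P
      (fun c => (hP _).mpr (hC₂a c.1 c.2))
  have hφ : Function.Bijective φ := by
    constructor
    · intro c c' h
      exact Subtype.ext (hinj (congrArg Subtype.val h))
    · rintro ⟨b, hb⟩
      obtain ⟨b', rfl⟩ := (hP b).mp hb
      obtain ⟨c, hc, hc'⟩ := hC₂b b'
      exact ⟨⟨c, hc⟩, Subtype.ext hc'⟩
  let ψ : B →+* ↥P := (frobenius B p).codRestrict P (fun b => (hP _).mpr ⟨b, rfl⟩)
  have hψ : Function.Bijective ψ := by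
    constructor
    · intro b b' h
      exact frobenius_inj B p (congrArg Subtype.val h)
    · rintro ⟨b, hb⟩
      obtain ⟨b', rfl⟩ := (hP b).mp hb
      exact ⟨b', rfl⟩
  let σ : B ≃+* ↥(EGA41.pPowerSubalgebra p R A) :=
    (RingEquiv.ofBijective ψ hψ).trans (RingEquiv.ofBijective φ hφ).symm
  have hσ : ∀ b : B, algebraMap A B (σ b).1 = b ^ p := by
    intro b
    have h1 : φ (σ b) = ψ b := (RingEquiv.ofBijective φ hφ).apply_symm_apply _
    exact congrArg Subtype.val h1
  let g : A →+* ↥(EGA41.pPowerSubalgebra p R A) :=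
    (frobenius A p).codRestrict (EGA41.pPowerSubalgebra p R A)
      (fun a => Algebra.subset_adjoin ⟨a, rfl⟩)
  let S : Subring ↥(EGA41.pPowerSubalgebra p R A) := g.range
  haveI : IsScalarTower ↥S ↥(EGA41.pPowerSubalgebra p R A) A :=
    IsScalarTower.of_algebraMap_eq (fun s => rfl)
  have hcomp : ∀ a : A, σ (algebraMap A B a) = algebraMap ↥S ↥(EGA41.pPowerSubalgebra p R A)
      (g.rangeRestrict a) := by
    intro a
    apply Subtype.ext
    apply hinj
    rw [hσ]
    exact (map_pow (algebraMap A B) a p).symm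
  have hC₂S : IsQBasis ↥S p (σ ∘ x) :=
    hxA.transport σ g.rangeRestrict g.rangeRestrict_surjective hcomp
  have hA : IsQBasis ↥S p
      (Sum.elim y (algebraMap ↥(EGA41.pPowerSubalgebra p R A) A ∘ (σ ∘ x))) :=
    hyQ.tower hC₂S
  obtain ⟨eA, heA⟩ := kaehler_basis_int p
    (Sum.elim y (algebraMap ↥(EGA41.pPowerSubalgebra p R A) A ∘ (σ ∘ x))) hA
    (fun i => g.rangeRestrict
      ((Sum.elim y (algebraMap ↥(EGA41.pPowerSubalgebra p R A) A ∘ (σ ∘ x))) i))
    (fun i => rfl)
    (by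
      rintro ⟨a, a', rfl⟩
      exact ⟨a', rfl⟩)
  have hσx : ∀ i, (σ (x i)).1 = x' i := by
    intro i
    apply hinj
    rw [hσ, hx']
  -- Step 5: the kernel
  let e := Algebra.TensorProduct.basis B eA
  have he : ∀ i, e i = (1 : B) ⊗ₜ[A] eA i := fun i => Algebra.TensorProduct.basis_apply eA i
  have h0 : ∀ j, KaehlerDifferential.mapBaseChange ℤ A B (e (Sum.inr j)) = 0 := by
    intro j
    rw [he, heA, KaehlerDifferential.mapBaseChange_tmul, one_smul, KaehlerDifferential.map_D]
    have : algebraMap A B ((Sum.elim y (algebraMap ↥(EGA41.pPowerSubalgebra p R A) A ∘ (σ ∘ x)))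
        (Sum.inr j)) = x j ^ p := by
      have h1 : (Sum.elim y (algebraMap ↥(EGA41.pPowerSubalgebra p R A) A ∘ (σ ∘ x))) (Sum.inr j)
          = (σ (x j)).1 := rfl
      rw [h1, hσ]
    rw [this, Derivation.leibniz_pow, nsmul_eq_zero_of_charP p B]
  have hli : LinearIndependent B
      (fun i => KaehlerDifferential.mapBaseChange ℤ A B (e (Sum.inl i))) := by
    have h1 : (fun i => KaehlerDifferential.mapBaseChange ℤ A B (e (Sum.inl i))) =
        eB ∘ Sum.inr := by
      funext i
      rw [he, heA, KaehlerDifferential.mapBaseChange_tmul, one_smul, KaehlerDifferential.map_D,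
        Function.comp_apply, heB]
      rfl
    rw [h1]
    exact eB.linearIndependent.comp Sum.inr Sum.inr_injective
  obtain ⟨b, hb⟩ := exists_basis_ker e (KaehlerDifferential.mapBaseChange ℤ A B) h0 hli
  refine ⟨b, fun i => ?_⟩
  refine (hb i).trans ?_
  rw [he, heA]
  have h1 : (Sum.elim y (algebraMap ↥(EGA41.pPowerSubalgebra p R A) A ∘ (σ ∘ x))) (Sum.inr i)
      = (σ (x i)).1 := rfl
  rw [h1, hσx]

end Groth.Agent.Lib.Helper21.PBasis
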