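import Mathlib
import Groth.Agent.Lib.Helper21.PBasisA

/-!
# Adjoining `p`-th roots of a `p`-independent family over a square-zero local ring (helper21)
-/

namespace Groth.Agent.Lib.Helper21.PBasis

open MvPolynomial IsLocalRing

section li

variable {C B : Type*} [CommRing C] [CommRing B] [Algebra C B] {ι : Type*} {q : ℕ} {x : ι → B}

theorem eq_zero_of_isRed_of_li
    (hli : LinearIndependent C (fun e : {e : ι →₀ ℕ // ∀ i, e i < q} => mon x e.1))
    (r : MvPolynomial ι C) (hr : IsRed q r) (h0 : aeval x r = 0) : r = 0 := by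
  classical
  have hsum : aeval x r = ∑ d ∈ r.support, coeff d r • mon x d := by
    conv_lhs => rw [r.as_sum, map_sum]
    exact Finset.sum_congr rfl fun d _ => aeval_monomial_eq d _
  rw [hsum] at h0
  have hli' := linearIndependent_iff'.mp hli
    (r.support.subtype fun e => ∀ i, e i < q) (fun e => coeff e.1 r)
  have h1 : ∑ e ∈ r.support.subtype (fun e => ∀ i, e i < q), coeff e.1 r • mon x e.1 = 0 := by
    rw [Finset.sum_subtype_eq_sum_filter (f := fun d => coeff d r • mon x d),
      Finset.filter_true_of_mem hr]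
    exact h0
  have h2 := hli' h1
  by_contra hne
  obtain ⟨d, hd⟩ := MvPolynomial.support_nonempty.mpr hne
  have h3 := h2 ⟨d, hr d hd⟩ (by simpa using hd)
  exact (mem_support_iff.mp hd) h3

end li

section frob

variable (p : ℕ) [Fact p.Prime] {K Ω : Type*} [CommRing K] [CommRing Ω] [CharP K p] [CharP Ω p]
  {ι : Type*} (j : K →+* Ω) (a : ι → Ω) (fb : ι → K)

theorem eval₂_pow_char (ha : ∀ i, a i ^ p = j (fb i)) (h : MvPolynomial ι K) :
    (eval₂ j a h) ^ p = j (eval₂ (frobenius K p) fb h) := by
  induction h using MvPolynomial.induction_on with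
  | C k => rw [eval₂_C, eval₂_C, frobenius_def, map_pow]
  | add h₁ h₂ ih₁ ih₂ => rw [eval₂_add, eval₂_add, add_pow_char, ih₁, ih₂, map_add]
  | mul_X h i ih => rw [eval₂_mul, eval₂_mul, eval₂_X, eval₂_X, mul_pow, ih, ha, map_mul]

end frob

section main

universe u

theorem isLocalRing_quotient_of_pInd {A : Type u} [CommRing A] [IsLocalRing A]
    (hm : maximalIdeal A ^ 2 = ⊥) (p : ℕ) [Fact p.Prime] [CharP (ResidueField A) p]
    {ι : Type u} (F : ι → MvPolynomial ι A) (f : ι → A)
    (hF : ∀ i, map (residue A) (F i) = X i ^ p - C (residue A (f i)))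
    (hind : LinearIndependent (↥(frobenius (ResidueField A) p).fieldRange)
      (fun e : {e : ι →₀ ℕ // ∀ i, e i < p} => mon (fun i => residue A (f i)) e.1)) :
    ∃ _ : IsLocalRing (MvPolynomial ι A ⧸ Ideal.span (Set.range F)),
      maximalIdeal (MvPolynomial ι A ⧸ Ideal.span (Set.range F)) =
        (maximalIdeal A).map (algebraMap A (MvPolynomial ι A ⧸ Ideal.span (Set.range F))) := by
  classical
  have hp : 0 < p := (Fact.out : p.Prime).pos
  set K := ResidueField A with hK
  let Ω := AlgebraicClosure K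
  let j : K →+* Ω := algebraMap K Ω
  have hj : Function.Injective j := j.injective
  haveI : CharP Ω p := charP_of_injective_algebraMap hj p
  let fb : ι → K := fun i => residue A (f i)
  have hex : ∀ i, ∃ z : Ω, z ^ p = j (fb i) := fun i => IsAlgClosed.exists_pow_nat_eq _ hp
  choose a ha using hex
  -- evaluation maps
  let evK : MvPolynomial ι K →+* Ω := eval₂Hom j a
  let ev : MvPolynomial ι A →+* Ω := eval₂Hom (j.comp (residue A)) a
  have hev : ∀ g, ev g = evK (map (residue A) g) := by
    intro g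
    exact (eval₂_map (residue A) a j g).symm
  have hrel : relIdeal p fb ≤ RingHom.ker evK := by
    rw [relIdeal, Ideal.span_le]
    rintro _ ⟨i, rfl⟩
    rw [SetLike.mem_coe, RingHom.mem_ker, map_sub, map_pow]
    change (eval₂ j a (X i)) ^ p - eval₂ j a (C (fb i)) = 0
    rw [eval₂_X, eval₂_C, ha, sub_self]
  set I := Ideal.span (Set.range F) with hI
  have hIker : ∀ g ∈ I, ev g = 0 := by
    intro g hg
    induction hg using Submodule.span_induction with
    | mem g hg =>
      obtain ⟨i, rfl⟩ := hg
      rw [hev, hF]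
      exact hrel (Ideal.subset_span ⟨i, rfl⟩)
    | zero => exact map_zero _
    | add g g' _ _ h h' => rw [map_add, h, h', add_zero]
    | smul c g _ h => rw [smul_eq_mul, map_mul, h, mul_zero]
  let ρ : (MvPolynomial ι A ⧸ I) →+* Ω := Ideal.Quotient.lift I ev hIker
  have hρ : ∀ g, ρ (Ideal.Quotient.mk I g) = ev g := fun g => Ideal.Quotient.lift_mk I ev hIker
  set mQ := (maximalIdeal A).map (algebraMap A (MvPolynomial ι A ⧸ I)) with hmQ
  have hmQ2 : ∀ n ∈ mQ, n * n = 0 := by
    intro n hn
    have h1 : n * n ∈ mQ ^ 2 := by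
      rw [pow_two]; exact Ideal.mul_mem_mul hn hn
    rw [hmQ, ← Ideal.map_pow, hm, Ideal.map_bot] at h1
    exact h1
  have hmQker : ∀ n ∈ mQ, ρ n = 0 := by
    intro n hn
    have h1 := hmQ2 n hn
    have h2 : ρ n * ρ n = 0 := by rw [← map_mul, h1, map_zero]
    exact mul_self_eq_zero.mp h2
  -- the image of `I` in `K[T]` is the relation ideal
  have hmapI : Ideal.map (map (residue A) : MvPolynomial ι A →+* MvPolynomial ι K) I =
      relIdeal p fb := by
    rw [hI, Ideal.map_span, relIdeal]
    congr 1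
    ext g
    constructor
    · rintro ⟨_, ⟨i, rfl⟩, rfl⟩
      exact ⟨i, (hF i).symm⟩
    · rintro ⟨i, rfl⟩
      exact ⟨F i, ⟨i, rfl⟩, hF i⟩
  have hsurj : Function.Surjective (map (residue A) : MvPolynomial ι A →+* MvPolynomial ι K) :=
    map_surjective _ residue_surjective
  have hlift : ∀ g : MvPolynomial ι A, map (residue A) g ∈ relIdeal p fb →
      Ideal.Quotient.mk I g ∈ mQ := by
    intro g hg
    rw [← hmapI] at hg
    have h1 : g ∈ Ideal.comap (map (residue A) : MvPolynomial ι A →+* MvPolynomial ι K)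
        (Ideal.map (map (residue A) : MvPolynomial ι A →+* MvPolynomial ι K) I) := hg
    rw [Ideal.comap_map_of_surjective _ hsurj] at h1
    obtain ⟨g₁, hg₁, g₂, hg₂, rfl⟩ := Submodule.mem_sup.mp h1
    have hg₂' : g₂ ∈ Ideal.map (C : A →+* MvPolynomial ι A) (maximalIdeal A) := by
      have : g₂ ∈ RingHom.ker (map (residue A) : MvPolynomial ι A →+* MvPolynomial ι K) := hg₂
      rw [MvPolynomial.ker_map, ker_residue] at this
      exact this
    rw [map_add, Ideal.Quotient.eq_zero_iff_mem.mpr hg₁, zero_add]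
    have h2 : Ideal.Quotient.mk I g₂ ∈ Ideal.map (Ideal.Quotient.mk I)
        (Ideal.map (C : A →+* MvPolynomial ι A) (maximalIdeal A)) :=
      Ideal.mem_map_of_mem _ hg₂'
    rw [Ideal.map_map] at h2
    exact h2
  -- the key: the kernel of `ρ` is `mQ`
  have hker : ∀ z, ρ z = 0 → z ∈ mQ := by
    intro z hz
    obtain ⟨g, rfl⟩ := Ideal.Quotient.mk_surjective z
    rw [hρ, hev] at hz
    obtain ⟨r, hr, hmem⟩ := exists_red hp fb (map (residue A) g)
    have hr0 : evK r = 0 := by
      have h1 := hrel hmem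
      rw [RingHom.mem_ker, map_sub, hz, zero_sub, neg_eq_zero] at h1
      exact h1
    have hr1 : eval₂ (frobenius K p) fb r = 0 := by
      apply hj
      rw [← eval₂_pow_char p j a fb ha r, map_zero]
      have : eval₂ j a r = 0 := hr0
      rw [this, zero_pow hp.ne']
    let σ : K →+* ↥(frobenius K p).fieldRange := (frobenius K p).rangeRestrictField
    have hσ : Function.Injective σ := σ.injective
    have hr2 : aeval fb (map σ r) = 0 := by
      rw [aeval_def, eval₂_map]
      exact hr1
    have hr3 : map σ r = 0 := by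
      refine eq_zero_of_isRed_of_li hind (map σ r) ?_ hr2
      intro e he i
      exact hr e (support_map_subset σ r he) i
    have hr4 : r = 0 := map_injective σ hσ (by rw [hr3, map_zero])
    rw [hr4, sub_zero] at hmem
    exact hlift g hmem
  -- units
  have hunit : ∀ z, ρ z ≠ 0 → IsUnit z := by
    intro z hz
    obtain ⟨g, rfl⟩ := Ideal.Quotient.mk_surjective z
    have h1 : ρ (Ideal.Quotient.mk I g) ^ p =
        j (eval₂ (frobenius K p) fb (map (residue A) g)) := by
      rw [hρ, hev]
      exact eval₂_pow_char p j a fb ha _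
    set u := eval₂ (frobenius K p) fb (map (residue A) g) with hu
    have hu0 : u ≠ 0 := by
      intro h0
      rw [h0, map_zero] at h1
      exact hz (pow_eq_zero_iff hp.ne' |>.mp h1)
    obtain ⟨ũ, hũ⟩ := residue_surjective u
    have hũunit : IsUnit ũ := (residue_ne_zero_iff_isUnit ũ).mp (by rw [hũ]; exact hu0)
    have hρũ : ρ (algebraMap A (MvPolynomial ι A ⧸ I) ũ) = j u := by
      have : algebraMap A (MvPolynomial ι A ⧸ I) ũ = Ideal.Quotient.mk I (C ũ) := rfl
      rw [this, hρ]
      change eval₂ (j.comp (residue A)) a (C ũ) = j u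
      rw [eval₂_C, RingHom.comp_apply, hũ]
    set n := Ideal.Quotient.mk I g ^ p - algebraMap A (MvPolynomial ι A ⧸ I) ũ with hn
    have hnm : n ∈ mQ := hker n (by rw [hn, map_sub, map_pow, h1, hρũ, sub_self])
    have hnil : IsNilpotent n := ⟨2, by rw [pow_two]; exact hmQ2 n hnm⟩
    have h2 : IsUnit (algebraMap A (MvPolynomial ι A ⧸ I) ũ + n) :=
      hnil.isUnit_add_left_of_commute (hũunit.map _) (Commute.all _ _)
    have h3 : algebraMap A (MvPolynomial ι A ⧸ I) ũ + n = Ideal.Quotient.mk I g ^ p := by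
      rw [hn]; ring
    rw [h3] at h2
    exact (isUnit_pow_iff hp.ne').mp h2
  haveI : Nontrivial (MvPolynomial ι A ⧸ I) := ρ.domain_nontrivial
  have hnonunit : ∀ z : MvPolynomial ι A ⧸ I, z ∈ nonunits (MvPolynomial ι A ⧸ I) ↔ ρ z = 0 := by
    intro z
    constructor
    · intro hz
      by_contra h
      exact hz (hunit z h)
    · intro hz hzu
      exact (hzu.map ρ).ne_zero hz
  have hloc : IsLocalRing (MvPolynomial ι A ⧸ I) := by
    apply IsLocalRing.of_nonunits_add
    intro z w hz hw
    rw [hnonunit] at hz hw ⊢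
    rw [map_add, hz, hw, add_zero]
  refine ⟨hloc, ?_⟩
  ext z
  rw [IsLocalRing.mem_maximalIdeal, hnonunit]
  exact ⟨hker z, hmQker z⟩

end main

end Groth.Agent.Lib.Helper21.PBasis
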