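import Mathlib
import Groth.Prelude.Def_EGA41
import Groth.Agent.Lib.Helper21.PBasisM

namespace Groth.Agent.Lib.Helper21.PBasis

open TensorProduct

universe u

section der

variable {k₀ K : Type u} [Field k₀] [Field K] [Algebra k₀ K]

/-- The field of constants of a derivation. -/
def constField (δ : Derivation k₀ K K) : IntermediateField k₀ K where
  carrier := {x | δ x = 0}
  mul_mem' := by
    intro a b ha hb
    simp only [Set.mem_setOf_eq] at ha hb ⊢
    rw [Derivation.leibniz, ha, hb, smul_zero, smul_zero, add_zero]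
  add_mem' := by
    intro a b ha hb
    simp only [Set.mem_setOf_eq] at ha hb ⊢
    rw [map_add, ha, hb, add_zero]
  algebraMap_mem' := fun r => δ.map_algebraMap r
  inv_mem' := by
    intro a ha
    simp only [Set.mem_setOf_eq] at ha ⊢
    rw [Derivation.leibniz_inv, ha, smul_zero]

theorem mem_constField (δ : Derivation k₀ K K) (x : K) : x ∈ constField δ ↔ δ x = 0 := Iff.rfl

/-- A derivation killing an intermediate field is linear over it. -/
def derivOver (δ : Derivation k₀ K K) (F : IntermediateField k₀ K) (hF : F ≤ constField δ) :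
    Derivation F K K :=
  Derivation.mk'
    { toFun := δ
      map_add' := map_add δ
      map_smul' := fun c x => by
        have hc : δ (c : K) = 0 := hF c.2
        rw [RingHom.id_apply, Algebra.smul_def, Derivation.leibniz]
        have : algebraMap F K c = (c : K) := rfl
        rw [this, hc, smul_zero, add_zero]
        rfl }
    (fun a b => Derivation.leibniz δ a b)

theorem derivOver_apply (δ : Derivation k₀ K K) (F : IntermediateField k₀ K)
    (hF : F ≤ constField δ) (x : K) : derivOver δ F hF x = δ x := rfl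

end der

end Groth.Agent.Lib.Helper21.PBasis

namespace Groth.Agent.Lib.Helper21.PBasis

open TensorProduct

universe u

section adm

variable (p : ℕ) [Fact p.Prime] {k₀ K : Type u} [Field k₀] [Field K] [Algebra k₀ K] [CharP K p]

/-- The subfield generated by `k₀`, `K^p` and the complement of a finite part of a `p`-basis. -/
def kCompl (Bs : Set K) (S : Finset ↥Bs) : IntermediateField k₀ K :=
  IntermediateField.adjoin k₀ ((Set.range fun y : K => y ^ p) ∪ {x | ∃ t : ↥Bs, t ∉ S ∧ t.1 = x})

theorem pow_mem_kCompl (Bs : Set K) (S : Finset ↥Bs) (y : K) :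
    y ^ p ∈ kCompl (k₀ := k₀) p Bs S :=
  IntermediateField.subset_adjoin k₀ _ (Or.inl ⟨y, rfl⟩)

theorem kCompl_anti (Bs : Set K) {S S' : Finset ↥Bs} (h : S ⊆ S') :
    kCompl (k₀ := k₀) p Bs S' ≤ kCompl p Bs S := by
  apply IntermediateField.adjoin.mono
  rintro x (hx | ⟨t, ht, rfl⟩)
  · exact Or.inl hx
  · exact Or.inr ⟨t, fun h' => ht (h h'), rfl⟩

theorem finite_kCompl (Bs : Set K)
    (hBtop : Algebra.adjoin ↥(EGA41.pPowerSubalgebra p k₀ K) Bs = ⊤) (S : Finset ↥Bs) :
    Module.Finite ↥(kCompl (k₀ := k₀) p Bs S) K := by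
  classical
  set F := kCompl (k₀ := k₀) p Bs S with hF
  let T : IntermediateField ↥F K :=
    IntermediateField.adjoin ↥F (↑(S.image Subtype.val) : Set K)
  haveI : Finite (↑(S.image Subtype.val) : Set K) := Finset.finite_toSet _
  have hint : ∀ x ∈ (↑(S.image Subtype.val) : Set K), IsIntegral ↥F x := by
    intro x _
    refine ⟨Polynomial.X ^ p - Polynomial.C ⟨x ^ p, pow_mem_kCompl p Bs S x⟩,
      Polynomial.monic_X_pow_sub_C _ (Fact.out : p.Prime).ne_zero, ?_⟩
    simp only [Polynomial.eval₂_sub, Polynomial.eval₂_pow, Polynomial.eval₂_X, Polynomial.eval₂_C]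
    exact sub_self _
  haveI hfd : FiniteDimensional ↥F ↥T := IntermediateField.finiteDimensional_adjoin hint
  have hTtop : T = ⊤ := by
    rw [eq_top_iff]
    intro x hxtop
    clear hxtop
    have hFT : ∀ y ∈ F, y ∈ T := fun y hy => T.algebraMap_mem ⟨y, hy⟩
    have hC : ∀ c ∈ EGA41.pPowerSubalgebra p k₀ K, c ∈ T := by
      intro c hc
      apply hFT
      rw [← mem_adjoin_pow_iff] at hc
      exact IntermediateField.adjoin.mono k₀ _ _ Set.subset_union_left hc
    have hx : x ∈ Algebra.adjoin ↥(EGA41.pPowerSubalgebra p k₀ K) Bs := by rw [hBtop]; trivial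
    induction hx using Algebra.adjoin_induction with
    | mem y hy =>
      by_cases hyS : (⟨y, hy⟩ : ↥Bs) ∈ S
      · exact IntermediateField.subset_adjoin _ _
          (Finset.mem_coe.mpr (Finset.mem_image.mpr ⟨⟨y, hy⟩, hyS, rfl⟩))
      · exact hFT y (IntermediateField.subset_adjoin k₀ _ (Or.inr ⟨⟨y, hy⟩, hyS, rfl⟩))
    | algebraMap r => exact hC r.1 r.2
    | add y z _ _ hy hz => exact add_mem hy hz
    | mul y z _ _ hy hz => exact mul_mem hy hz
  rw [hTtop] at hfd
  exact Module.Finite.equiv (IntermediateField.topEquiv (F := ↥F) (E := K)).toLinearEquiv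

end adm

end Groth.Agent.Lib.Helper21.PBasis

namespace Groth.Agent.Lib.Helper21.PBasis

open TensorProduct

universe u

theorem S4549_aux (p : ℕ) [Fact p.Prime] {k₀ K L : Type u} [Field k₀] [Field K] [Field L]
    [Algebra k₀ K] [Algebra K L] [Algebra k₀ L] [IsScalarTower k₀ K L] [CharP K p]
    [Module.Finite L (EGA41.imperfection k₀ K L)] :
    ∃ k : IntermediateField k₀ K, (∀ y : K, y ^ p ∈ k) ∧ Module.Finite k K ∧
      ∀ ω ∈ EGA41.imperfection k₀ K L,
        ((KaehlerDifferential.map k₀ k K K).restrictScalars K).baseChange L ω = 0 → ω = 0 := by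
  classical
  obtain ⟨Bs, -, hBs, hBtop, b, hb⟩ :=
    exists_kaehler_basis_of_pIndSet'' p k₀ (pIndSet_empty p k₀ (K := K))
  -- coordinate derivations
  let δ : ↥Bs → Derivation k₀ K K := fun t => (b.coord t).compDer (KaehlerDifferential.D k₀ K)
  have hδ : ∀ t x, δ t x = b.repr (KaehlerDifferential.D k₀ K x) t := fun t x => rfl
  have hδB : ∀ t t' : ↥Bs, δ t t'.1 = if t' = t then 1 else 0 := by
    intro t t'
    rw [hδ, ← hb, b.repr_self, Finsupp.single_apply]
  have hconst : ∀ (S : Finset ↥Bs) (t : ↥Bs), t ∈ S →
      kCompl (k₀ := k₀) p Bs S ≤ constField (δ t) := by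
    intro S t ht
    rw [kCompl, IntermediateField.adjoin_le_iff]
    rintro x (⟨y, rfl⟩ | ⟨t', ht', rfl⟩)
    · change δ t (y ^ p) = 0
      rw [Derivation.leibniz_pow, nsmul_eq_zero_of_charP p K]
    · change δ t t'.1 = 0
      rw [hδB, if_neg]
      rintro rfl
      exact ht' ht
  have hfin : (EGA41.imperfection k₀ K L).FG := Module.Finite.iff_fg.mp inferInstance
  obtain ⟨S, hS⟩ := exists_injOn_baseChange (K := K) (L := L) (V := Ω[K⁄k₀])
    (ι := Finset ↥Bs) (W := fun S => Ω[K⁄kCompl (k₀ := k₀) p Bs S])
    (fun S => (KaehlerDifferential.map k₀ (kCompl (k₀ := k₀) p Bs S) K K).restrictScalars K)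
    (by
      intro S S'
      exact ⟨S ∪ S', ker_map_le (kCompl_anti p Bs Finset.subset_union_left),
        ker_map_le (kCompl_anti p Bs Finset.subset_union_right)⟩)
    (by
      intro v hv
      set c := b.repr v with hc
      have hv' := hv c.support
      have key : ∀ t ∈ c.support, c t = 0 := by
        intro t ht
        let lam : Ω[K⁄kCompl (k₀ := k₀) p Bs c.support] →ₗ[K] K :=
          (derivOver (δ t) _ (hconst c.support t ht)).liftKaehlerDifferential
        have hlam : ∀ x : K, lam (KaehlerDifferential.D _ K x) = δ t x := fun x =>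
          Derivation.liftKaehlerDifferential_comp_D _ x
        have hcomp : ∀ w : Ω[K⁄k₀],
            lam (KaehlerDifferential.map k₀ (kCompl (k₀ := k₀) p Bs c.support) K K w) =
              b.repr w t := by
          intro w
          have hw : w ∈ Submodule.span K (Set.range (KaehlerDifferential.D k₀ K)) := by
            rw [KaehlerDifferential.span_range_derivation]; trivial
          induction hw using Submodule.span_induction with
          | mem y hy =>
            obtain ⟨x, rfl⟩ := hy
            rw [map_D', hlam, hδ]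
          | zero => simp
          | add y z _ _ hy hz => rw [map_add, map_add, map_add, Finsupp.add_apply, hy, hz]
          | smul a y _ hy =>
            rw [map_smul, map_smul, map_smul, Finsupp.smul_apply, hy]
        have h1 := hcomp v
        have h2 : KaehlerDifferential.map k₀ (kCompl (k₀ := k₀) p Bs c.support) K K v = 0 := hv'
        rw [h2, map_zero] at h1
        exact h1.symm
      have hsupp : c.support = ∅ := by
        rw [Finset.eq_empty_iff_forall_notMem]
        intro t ht
        exact (Finsupp.mem_support_iff.mp ht) (key t ht)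
      have hc0 : c = 0 := Finsupp.support_eq_empty.mp hsupp
      exact (LinearEquiv.map_eq_zero_iff b.repr).mp hc0)
    (EGA41.imperfection k₀ K L) hfin
  exact ⟨kCompl p Bs S, pow_mem_kCompl p Bs S, finite_kCompl p Bs hBtop S, hS⟩

end Groth.Agent.Lib.Helper21.PBasis
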