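import Mathlib
import Groth.Prelude.Def_PP16

/-!
# Helper library (helper21): principal parts along a section
-/

set_option autoImplicit false

namespace Groth.Agent.Lib.Helper21.PPSection

open TensorProduct KaehlerDifferential

universe u

section

variable {R X : Type u} [CommRing R] [CommRing X] [Algebra R X] (I : Ideal X)

/-- `ζ_c = 1 ⊗ c - c ⊗ 1` -/
noncomputable def zt (c : X) : X ⊗[R] X := (1 : X) ⊗ₜ[R] c - c ⊗ₜ[R] (1 : X)

theorem zt_mem (c : X) : zt (R := R) c ∈ KaehlerDifferential.ideal R X :=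
  KaehlerDifferential.one_smul_sub_smul_one_mem_ideal R c

theorem zt_add (a b : X) : zt (R := R) (a + b) = zt a + zt b := by
  simp only [zt, TensorProduct.tmul_add, TensorProduct.add_tmul]; ring

theorem zt_mul (a y : X) :
    zt (R := R) (a * y) = (a ⊗ₜ[R] (1 : X)) * zt y + zt a * zt y + (y ⊗ₜ[R] (1 : X)) * zt a := by
  simp only [zt, mul_sub, sub_mul, Algebra.TensorProduct.tmul_mul_tmul, mul_one, one_mul]
  rw [mul_comm y a]
  ring

theorem zt_algebraMap (r : R) : zt (R := R) (algebraMap R X r) = 0 := by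
  rw [zt, Algebra.algebraMap_eq_smul_one, TensorProduct.tmul_smul, TensorProduct.smul_tmul',
    sub_self]

/-- the ideal generated by `I ⊗ 1` -/
noncomputable def IL : Ideal (X ⊗[R] X) := I.map (algebraMap X (X ⊗[R] X))

theorem tmul_one_mem_IL (i : X) (hi : i ∈ I) : i ⊗ₜ[R] (1 : X) ∈ IL (R := R) I :=
  Ideal.mem_map_of_mem _ hi

theorem zt_mem_of_mem_pow (k : ℕ) : ∀ c ∈ I ^ (k + 1),
    zt (R := R) c ∈ IL I * KaehlerDifferential.ideal R X + KaehlerDifferential.ideal R X ^ (k + 1) := by
  induction k with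
  | zero =>
    intro c _
    rw [zero_add, pow_one]
    exact Ideal.mem_sup_right (zt_mem c)
  | succ k ih =>
    intro c hc
    have hps : I ^ (k + 1 + 1) = I ^ (k + 1) * I := pow_succ _ (k + 1)
    rw [hps] at hc
    refine Submodule.mul_induction_on hc ?_ ?_
    · intro a ha y hy
      have haI : a ∈ I := Ideal.pow_le_self (Nat.succ_ne_zero k) ha
      rw [zt_mul]
      refine add_mem (add_mem ?_ ?_) ?_
      · exact Ideal.mem_sup_left (Ideal.mul_mem_mul (tmul_one_mem_IL I a haI) (zt_mem y))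
      · have h1 := ih a ha
        rw [Submodule.add_eq_sup, Submodule.mem_sup] at h1
        obtain ⟨u, hu, v, hv, huv⟩ := h1
        rw [← huv, add_mul]
        refine add_mem ?_ ?_
        · exact Ideal.mem_sup_left (Ideal.mul_mem_right _ _ hu)
        · refine Ideal.mem_sup_right ?_
          have hp : KaehlerDifferential.ideal R X ^ (k + 1 + 1) =
              KaehlerDifferential.ideal R X ^ (k + 1) * KaehlerDifferential.ideal R X :=
            pow_succ _ (k + 1)
          rw [hp]
          exact Ideal.mul_mem_mul hv (zt_mem y)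
      · exact Ideal.mem_sup_left (Ideal.mul_mem_mul (tmul_one_mem_IL I y hy) (zt_mem a))
    · intro a b ha hb
      rw [zt_add]
      exact add_mem ha hb

end

section IT

variable {R X : Type u} [CommRing R] [CommRing X] [Algebra R X] (I : Ideal X) (n : ℕ)

/-- `I • T` -/
noncomputable def IT : Submodule X (PP16.P n R X) :=
  I • (PP16.augIdeal n R X).restrictScalars X

theorem mul_mem_IT (q : PP16.P n R X) (a : PP16.P n R X) (ha : a ∈ IT I n) :
    q * a ∈ IT I n := by
  refine Submodule.smul_induction_on ha ?_ ?_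
  · intro i hi t ht
    rw [mul_smul_comm]
    exact Submodule.smul_mem_smul hi (Ideal.mul_mem_left _ q ht)
  · intro x y hx hy
    rw [mul_add]
    exact add_mem hx hy

theorem mk_mul_mem_IT : ∀ a ∈ IL (R := R) I, ∀ w ∈ KaehlerDifferential.ideal R X,
    (Ideal.Quotient.mk (KaehlerDifferential.ideal R X ^ (n + 1)) (a * w) : PP16.P n R X) ∈
      IT I n := by
  intro a ha
  rw [IL, Ideal.map] at ha
  induction ha using Submodule.span_induction with
  | mem a ha =>
    obtain ⟨i, hi, rfl⟩ := ha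
    intro w hw
    rw [map_mul]
    show algebraMap X (PP16.P n R X) i * _ ∈ _
    rw [← Algebra.smul_def]
    exact Submodule.smul_mem_smul hi (Ideal.mem_map_of_mem _ hw)
  | zero =>
    intro w _
    rw [zero_mul, map_zero]
    exact zero_mem _
  | add x y _ _ hx hy =>
    intro w hw
    rw [add_mul, map_add]
    exact add_mem (hx w hw) (hy w hw)
  | smul r x _ hx =>
    intro w hw
    rw [smul_eq_mul, mul_comm r x, mul_assoc]
    exact hx (r * w) (Ideal.mul_mem_left _ r hw)

theorem mk_mem_IT_of_mem (z : X ⊗[R] X) (hz : z ∈ IL I * KaehlerDifferential.ideal R X) :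
    (Ideal.Quotient.mk (KaehlerDifferential.ideal R X ^ (n + 1)) z : PP16.P n R X) ∈ IT I n := by
  refine Submodule.mul_induction_on hz ?_ ?_
  · intro a ha w hw
    exact mk_mul_mem_IT I n a ha w hw
  · intro x y hx hy
    rw [map_add]
    exact add_mem hx hy

end IT

section rho

variable {R X : Type u} [CommRing R] [CommRing X] [Algebra R X] (σ : X →ₐ[R] R) (n : ℕ)

/-- `X ⊗ X → X/I^(n+1)`, `x ⊗ y ↦ σ(x) y` -/
noncomputable def rho₀ : X ⊗[R] X →ₐ[R] X ⧸ (RingHom.ker σ.toRingHom) ^ (n + 1) :=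
  Algebra.TensorProduct.lift ((Algebra.ofId R _).comp σ) (Ideal.Quotient.mkₐ R _)
    (fun _ _ => Commute.all _ _)

theorem rho₀_tmul (x y : X) :
    rho₀ σ n (x ⊗ₜ[R] y) = algebraMap R _ (σ x) * Ideal.Quotient.mk _ y :=
  Algebra.TensorProduct.lift_tmul _ _ _ x y

theorem rho₀_zt (c : X) :
    rho₀ σ n (zt c) = Ideal.Quotient.mk _ (c - algebraMap R X (σ c)) := by
  rw [zt, map_sub, rho₀_tmul, rho₀_tmul, map_one, map_one, one_mul, map_one, mul_one, map_sub,
    Ideal.Quotient.mk_algebraMap]

theorem sub_mem_ker (c : X) : c - algebraMap R X (σ c) ∈ RingHom.ker σ.toRingHom := by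
  rw [RingHom.mem_ker]
  show σ (c - algebraMap R X (σ c)) = 0
  rw [map_sub, AlgHom.commutes]
  simp

theorem rho₀_mem_pow (k : ℕ) (w : X ⊗[R] X) (hw : w ∈ KaehlerDifferential.ideal R X ^ k) :
    rho₀ σ n w ∈ ((RingHom.ker σ.toRingHom) ^ k).map
      (Ideal.Quotient.mk ((RingHom.ker σ.toRingHom) ^ (n + 1))) := by
  have h0 : (KaehlerDifferential.ideal R X).map (rho₀ σ n) ≤ (RingHom.ker σ.toRingHom).map
      (Ideal.Quotient.mk ((RingHom.ker σ.toRingHom) ^ (n + 1))) := by
    rw [← KaehlerDifferential.span_range_eq_ideal, Ideal.map_span, Ideal.span_le]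
    rintro _ ⟨_, ⟨c, rfl⟩, rfl⟩
    have := rho₀_zt σ n c
    rw [zt] at this
    rw [this]
    exact Ideal.mem_map_of_mem _ (sub_mem_ker σ c)
  have h1 : (KaehlerDifferential.ideal R X ^ k).map (rho₀ σ n) ≤
      ((RingHom.ker σ.toRingHom) ^ k).map
        (Ideal.Quotient.mk ((RingHom.ker σ.toRingHom) ^ (n + 1))) := by
    rw [Ideal.map_pow, Ideal.map_pow]
    exact Ideal.pow_right_mono h0 k
  exact h1 (Ideal.mem_map_of_mem _ hw)

/-- `P^n → X/I^(n+1)` -/
noncomputable def rho : PP16.P n R X →ₐ[R] X ⧸ (RingHom.ker σ.toRingHom) ^ (n + 1) :=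
  Ideal.Quotient.liftₐ _ (rho₀ σ n) (fun w hw => by
    have := rho₀_mem_pow σ n (n + 1) w hw
    rwa [Ideal.map_quotient_self, Ideal.mem_bot] at this)

theorem rho_mk (w : X ⊗[R] X) : rho σ n (Ideal.Quotient.mk _ w) = rho₀ σ n w := rfl

theorem rho_IT (a : PP16.P n R X) (ha : a ∈ IT (RingHom.ker σ.toRingHom) n) : rho σ n a = 0 := by
  refine Submodule.smul_induction_on ha ?_ ?_
  · intro i hi t _
    rw [Algebra.smul_def, map_mul]
    have : rho σ n (algebraMap X (PP16.P n R X) i) = 0 := by
      show rho σ n (Ideal.Quotient.mk _ (i ⊗ₜ[R] (1 : X))) = 0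
      rw [rho_mk, rho₀_tmul]
      have hi' : σ i = 0 := hi
      rw [hi', map_zero, zero_mul]
    rw [this, zero_mul]
  · intro x y hx hy
    rw [map_add, hx, hy, add_zero]

end rho

theorem S13936_aux (R SY SX : Type u)
    [CommRing R] [CommRing SY] [CommRing SX] [Algebra R SY] [Algebra R SX] [Algebra SY SX]
    [IsScalarTower R SY SX] (σ : SX →ₐ[R] R) (n : ℕ) :
    (∀ y ∈ PP16.augIdeal n R SY,
        PP16.map n R SY R SX y ∈
          RingHom.ker σ.toRingHom • (PP16.augIdeal n R SX).restrictScalars SX) ↔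
      (∀ b : SY, algebraMap SY SX b ∈ RingHom.ker σ.toRingHom →
        algebraMap SY SX b ∈ RingHom.ker σ.toRingHom ^ (n + 1)) := by
  have hmap : ∀ b : SY, PP16.map n R SY R SX (Ideal.Quotient.mk _ (zt b)) =
      Ideal.Quotient.mk _ (zt (algebraMap SY SX b)) := by
    intro b
    rw [PP16.map_mk, zt, map_sub, PP16.tensorMap_tmul, PP16.tensorMap_tmul, map_one]
    rfl
  constructor
  · intro h b hb
    have h1 := h (Ideal.Quotient.mk _ (zt b)) (Ideal.mem_map_of_mem _ (zt_mem b))
    rw [hmap] at h1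
    have h2 := rho_IT σ n _ h1
    rw [rho_mk, rho₀_zt] at h2
    have hb' : σ (algebraMap SY SX b) = 0 := hb
    rw [hb', map_zero, sub_zero, Ideal.Quotient.eq_zero_iff_mem] at h2
    exact h2
  · intro h y hy
    show PP16.map n R SY R SX y ∈ IT (RingHom.ker σ.toRingHom) n
    have e : (KaehlerDifferential.ideal R SY).map
        (Ideal.Quotient.mk (KaehlerDifferential.ideal R SY ^ (n + 1))) =
        (Ideal.span (Set.range fun s : SY => (1 : SY) ⊗ₜ[R] s - s ⊗ₜ[R] (1 : SY))).map
          (Ideal.Quotient.mk (KaehlerDifferential.ideal R SY ^ (n + 1))) :=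
      congrArg _ (KaehlerDifferential.span_range_eq_ideal R SY).symm
    rw [PP16.augIdeal, e, Ideal.map_span] at hy
    induction hy using Submodule.span_induction with
    | mem y hy =>
      obtain ⟨_, ⟨b, rfl⟩, rfl⟩ := hy
      show PP16.map n R SY R SX (Ideal.Quotient.mk _ (zt b)) ∈ _
      rw [hmap]
      set r : R := σ (algebraMap SY SX b) with hr
      have hb' : algebraMap SY SX (b - algebraMap R SY r) ∈ RingHom.ker σ.toRingHom := by
        rw [map_sub, ← IsScalarTower.algebraMap_apply]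
        exact sub_mem_ker σ _
      have h1 := h _ hb' 
      have h2 := zt_mem_of_mem_pow (R := R) (RingHom.ker σ.toRingHom) n _ h1
      have e1 : zt (R := R) (algebraMap SY SX b) =
          zt (algebraMap SY SX (b - algebraMap R SY r)) := by
        rw [map_sub, ← IsScalarTower.algebraMap_apply, sub_eq_add_neg, zt_add,
          ← map_neg, zt_algebraMap, add_zero]
      rw [e1]
      rw [Submodule.add_eq_sup, Submodule.mem_sup] at h2
      obtain ⟨u, hu, v, hv, huv⟩ := h2
      rw [← huv, map_add, Ideal.Quotient.eq_zero_iff_mem.mpr hv, add_zero]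
      exact mk_mem_IT_of_mem _ n u hu
    | zero =>
      rw [map_zero]
      exact zero_mem _
    | add x y _ _ hx hy =>
      rw [map_add]
      exact add_mem hx hy
    | smul q y _ hy =>
      rw [smul_eq_mul, map_mul]
      exact mul_mem_IT _ n _ _ hy

end Groth.Agent.Lib.Helper21.PPSection
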