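import Mathlib
import Groth.Prelude.Def_PP16
import Groth.Agent.Lib.Helper21.PPolyB

/-!
# Helper library (helper21): the monomial basis of `B[X]/(X)^(m+1)` and of `P^m_{B/A}`
-/

set_option autoImplicit false

namespace Groth.Agent.Lib.Helper21.DiffSmooth

open TensorProduct KaehlerDifferential MvPolynomial

universe u

section basis

variable (B : Type u) [CommRing B] (ι : Type) [Fintype ι] (m : ℕ)

/-- multi-indices of total degree at most `m` -/
abbrev Idx (ι : Type) [Fintype ι] (m : ℕ) : Type := {p : ι → ℕ // ∑ i, p i ≤ m}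

variable {ι} in
/-- exponent as finsupp -/
noncomputable def ex (p : ι → ℕ) : ι →₀ ℕ := Finsupp.equivFunOnFinite.symm p

variable {ι} in
theorem ex_apply (p : ι → ℕ) (i : ι) : ex p i = p i := rfl

variable {ι} in
theorem degree_ex (p : ι → ℕ) : (ex p).degree = ∑ i, p i := by
  rw [Finsupp.degree_eq_sum]
  rfl

variable {ι} in
theorem ex_injective : Function.Injective (ex (ι := ι)) :=
  Finsupp.equivFunOnFinite.symm.injective

variable {ι} in
theorem ex_coe (x : ι →₀ ℕ) : ex (⇑x) = x := Finsupp.equivFunOnFinite.symm_apply_apply x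

/-- polynomial with prescribed coefficients in degrees `≤ m` -/
noncomputable def G : (Idx ι m →₀ B) →ₗ[B] MvPolynomial ι B :=
  Finsupp.linearCombination B (fun p : Idx ι m => monomial (ex p.1) (1 : B))

theorem G_single (p : Idx ι m) (c : B) :
    G B ι m (Finsupp.single p c) = monomial (ex p.1) c := by
  rw [G, Finsupp.linearCombination_single, smul_monomial, smul_eq_mul, mul_one]

theorem coeff_G [DecidableEq ι] (l : Idx ι m →₀ B) (p₀ : Idx ι m) :
    coeff (ex p₀.1) (G B ι m l) = l p₀ := by
  classical
  induction l using Finsupp.induction_linear with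
  | zero => simp
  | add f g hf hg => rw [map_add, coeff_add, hf, hg, Finsupp.add_apply]
  | single p c =>
    rw [G_single, coeff_monomial, Finsupp.single_apply]
    by_cases hp : p = p₀
    · subst hp
      rw [if_pos rfl, if_pos rfl]
    · rw [if_neg hp, if_neg]
      intro h
      exact hp (Subtype.ext (ex_injective h))

/-- `(Idx →₀ B) → B[X]/(X)^(m+1)` -/
noncomputable def Phi : (Idx ι m →₀ B) →ₗ[B] (MvPolynomial ι B ⧸ idealOfVars ι B ^ (m + 1)) :=
  (Ideal.Quotient.mkₐ B (idealOfVars ι B ^ (m + 1))).toLinearMap ∘ₗ G B ι m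

theorem Phi_apply (l : Idx ι m →₀ B) :
    Phi B ι m l = Ideal.Quotient.mk _ (G B ι m l) := rfl

theorem coeff_eq_of_Phi_eq [DecidableEq ι] (l : Idx ι m →₀ B) (f : MvPolynomial ι B)
    (h : Phi B ι m l = Ideal.Quotient.mk _ f) (p : Idx ι m) : l p = coeff (ex p.1) f := by
  rw [Phi_apply, Ideal.Quotient.eq, mem_pow_idealOfVars_iff'] at h
  have := h (ex p.1) (by rw [degree_ex]; exact Nat.lt_succ_of_le p.2)
  rw [coeff_sub, coeff_G, sub_eq_zero] at this
  exact this

theorem Phi_injective [DecidableEq ι] : Function.Injective (Phi B ι m) := by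
  rw [injective_iff_map_eq_zero]
  intro l hl
  ext p
  have := coeff_eq_of_Phi_eq B ι m l 0 (by rw [hl, map_zero]) p
  rw [this, coeff_zero, Finsupp.zero_apply]

theorem Phi_surjective : Function.Surjective (Phi B ι m) := by
  classical
  intro t
  obtain ⟨f, rfl⟩ := Ideal.Quotient.mk_surjective t
  induction f using MvPolynomial.induction_on' with
  | monomial x c =>
    by_cases hx : x.degree ≤ m
    · have hx' : ∑ i, x i ≤ m := by rwa [← Finsupp.degree_eq_sum]
      refine ⟨Finsupp.single ⟨⇑x, hx'⟩ c, ?_⟩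
      rw [Phi_apply, G_single, ex_coe]
    · refine ⟨0, ?_⟩
      rw [map_zero, eq_comm, Ideal.Quotient.eq_zero_iff_mem, mem_pow_idealOfVars_iff]
      intro y hy
      have : y = x := by
        have := MvPolynomial.support_monomial_subset hy
        simpa using this
      rw [this]
      omega
  | add p q hp hq =>
    obtain ⟨l₁, h₁⟩ := hp
    obtain ⟨l₂, h₂⟩ := hq
    exact ⟨l₁ + l₂, by rw [map_add, h₁, h₂, map_add]⟩

/-- the monomial basis of the truncated polynomial ring -/
noncomputable def truncBasis [DecidableEq ι] :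
    Module.Basis (Idx ι m) B (MvPolynomial ι B ⧸ idealOfVars ι B ^ (m + 1)) :=
  Module.Basis.ofRepr
    (LinearEquiv.ofBijective (Phi B ι m) ⟨Phi_injective B ι m, Phi_surjective B ι m⟩).symm

theorem truncBasis_apply [DecidableEq ι] (p : Idx ι m) :
    truncBasis B ι m p = Ideal.Quotient.mk _ (monomial (ex p.1) (1 : B)) := by
  rw [truncBasis, Module.Basis.coe_ofRepr]
  simp only [LinearEquiv.symm_symm]
  show Phi B ι m (Finsupp.single p 1) = _
  rw [Phi_apply, G_single]

theorem truncBasis_repr_mk [DecidableEq ι] (f : MvPolynomial ι B) (p : Idx ι m) :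
    (truncBasis B ι m).repr (Ideal.Quotient.mk _ f) p = coeff (ex p.1) f := by
  apply coeff_eq_of_Phi_eq
  have : (truncBasis B ι m).repr = (LinearEquiv.ofBijective (Phi B ι m)
      ⟨Phi_injective B ι m, Phi_surjective B ι m⟩).symm := rfl
  rw [this]
  exact (LinearEquiv.ofBijective (Phi B ι m)
      ⟨Phi_injective B ι m, Phi_surjective B ι m⟩).apply_symm_apply _

end basis

section transport

variable {A B : Type u} [CommRing A] [CommRing B] [Algebra A B] {ι : Type} [Fintype ι]
  [DecidableEq ι] (z : ι → B) (m : ℕ)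

omit [Fintype ι] [DecidableEq ι] in
theorem mk_zeta (i : ι) :
    Ideal.Quotient.mk (KaehlerDifferential.ideal A B ^ (m + 1)) (zeta A B z i) =
      PP16.dn m A B (z i) - algebraMap B (PP16.P m A B) (z i) := by
  rw [zeta, map_sub]
  rfl

omit [DecidableEq ι] in
theorem monomial_ex (p : ι → ℕ) : monomial (ex p) (1 : B) = ∏ i, (X i : MvPolynomial ι B) ^ p i := by
  classical
  rw [MvPolynomial.prod_X_pow]
  have : (Finsupp.indicator Finset.univ fun i _ => p i) = ex p := by
    ext i
    simp [ex_apply]
  rw [this]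

omit [DecidableEq ι] in
theorem kappa_monomial (p : ι → ℕ) :
    kappa A B z m (Ideal.Quotient.mk _ (monomial (ex p) (1 : B))) =
      ∏ i, (PP16.dn m A B (z i) - algebraMap B (PP16.P m A B) (z i)) ^ p i := by
  rw [monomial_ex, map_prod, map_prod]
  refine Finset.prod_congr rfl fun i _ => ?_
  rw [map_pow, map_pow, kappa_mk, ev_X, mk_zeta]

/-- the monomial basis of `P^m_{B/A}` when `κ_m` is bijective -/
noncomputable def monBasis (hbij : Function.Bijective (kappa A B z m)) :
    Module.Basis (Idx ι m) B (PP16.P m A B) :=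
  (truncBasis B ι m).map (LinearEquiv.ofBijective (kappa A B z m).toLinearMap hbij)

theorem monBasis_apply (hbij : Function.Bijective (kappa A B z m)) (p : Idx ι m) :
    monBasis z m hbij p =
      ∏ i, (PP16.dn m A B (z i) - algebraMap B (PP16.P m A B) (z i)) ^ p.1 i := by
  rw [monBasis, Module.Basis.map_apply, truncBasis_apply]
  exact kappa_monomial z m p.1

theorem monBasis_repr (hbij : Function.Bijective (kappa A B z m)) (f : MvPolynomial ι B)
    (p : Idx ι m) :
    (monBasis z m hbij).repr (Ideal.Quotient.mk _ (ev A B z f)) p = coeff (ex p.1) f := by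
  rw [monBasis, Module.Basis.map_repr, LinearEquiv.trans_apply, ← truncBasis_repr_mk B ι m f p]
  congr 2
  rw [LinearEquiv.symm_apply_eq]
  rfl

end transport

end Groth.Agent.Lib.Helper21.DiffSmooth
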