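import Mathlib
import Groth.Prelude.Def_PP16
import Groth.Prelude.Def_DiffOp
import Groth.Agent.Lib.Helper21.PPolyC
import Groth.Agent.Lib.Helper5.DiffOpLinearize
import Groth.Agent.Lib.Helper5.DiffOpCoord
import Groth.Agent.Lib.Helper5.DiffOpTaylor

/-!
# Helper library (helper21): divided-power differential operators `D_p` with
`D_p(z^q) = binom(q,p) z^(q-p)` (EGA IV 16.11.2)
-/

set_option autoImplicit false

namespace Groth.Agent.Lib.Helper21.DiffSmooth

open TensorProduct KaehlerDifferential MvPolynomial Diff16 Groth.Agent.Lib.Helper5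

universe u

section onevar

variable {B : Type u} [CommRing B]

theorem one_var (z : B) (r p : ℕ) :
    (((r + 1).choose p : ℕ) : B) * z ^ (r + 1 - p) -
        z * (((r.choose p : ℕ) : B) * z ^ (r - p)) =
      if p = 0 then 0 else ((r.choose (p - 1) : ℕ) : B) * z ^ (r - (p - 1)) := by
  cases p with
  | zero =>
    rw [if_pos rfl, Nat.choose_zero_right, Nat.choose_zero_right, Nat.sub_zero, Nat.sub_zero,
      pow_succ]
    ring
  | succ p =>
    rw [if_neg (Nat.succ_ne_zero p), Nat.add_sub_cancel, Nat.choose_succ_succ,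
      Nat.add_sub_add_right, Nat.cast_add, add_mul, add_sub_assoc]
    have : ((r.choose (p + 1) : ℕ) : B) * z ^ (r - p) -
        z * (((r.choose (p + 1) : ℕ) : B) * z ^ (r - (p + 1))) = 0 := by
      rcases Nat.lt_or_ge r (p + 1) with h | h
      · rw [Nat.choose_eq_zero_of_lt h]; simp
      · have : r - p = (r - (p + 1)) + 1 := by omega
        rw [this, pow_succ]; ring
    rw [this, add_zero]

end onevar

section lin

variable {A B : Type u} [CommRing A] [CommRing B] [Algebra A B]

/-- `linearize` is the `B`-linear lift to the base change -/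
theorem linearize_eq (D : B →ₗ[A] B) (x : B ⊗[A] B) :
    linearize A B B B D x = LinearMap.liftBaseChangeEquiv B D x := by
  induction x using TensorProduct.induction_on with
  | zero => rw [map_zero, map_zero]
  | tmul b c => rw [linearize_tmul]; rfl
  | add x y hx hy => rw [map_add, map_add, hx, hy]

theorem linearize_algebraMap_mul (D : B →ₗ[A] B) (b : B) (x : B ⊗[A] B) :
    linearize A B B B D (algebraMap B (B ⊗[A] B) b * x) = b * linearize A B B B D x := by
  rw [linearize_eq, linearize_eq, ← Algebra.smul_def, map_smul, smul_eq_mul]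

end lin

section H

variable {A B : Type u} [CommRing A] [CommRing B] [Algebra A B]
  {ι : Type} [Fintype ι] [DecidableEq ι] (z : ι → B)
  (hz : Submodule.span B (Set.range fun i => KaehlerDifferential.D A B (z i)) = ⊤)
  (Dp : (ι → ℕ) → (B →ₗ[A] B)) (hD : ∀ p, ∃ k : ℕ, IsDiffOpLE A B B B k (Dp p))
  (hDz : ∀ p q : ι → ℕ, Dp p (∏ i, z i ^ q i) =
        ((∏ i, Nat.choose (q i) (p i) : ℕ) : B) * ∏ i, z i ^ (q i - p i))

include hDz in
omit [DecidableEq ι] in
theorem Dp_monomial (p q : ι → ℕ) : Dp p (∏ i, z i ^ q i) =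
    ∏ i, (((q i).choose (p i) : ℕ) : B) * z i ^ (q i - p i) := by
  rw [hDz, Nat.cast_prod, Finset.prod_mul_distrib]

include hDz in
theorem comm_value (p r : ι → ℕ) (i : ι) :
    Dp p (z i * ∏ j, z j ^ r j) - z i * Dp p (∏ j, z j ^ r j) =
      if p i = 0 then 0 else Dp (Function.update p i (p i - 1)) (∏ j, z j ^ r j) := by
  have hr' : z i * ∏ j, z j ^ r j = ∏ j, z j ^ (Function.update r i (r i + 1)) j := by
    rw [← Finset.mul_prod_erase _ _ (Finset.mem_univ i),
      ← Finset.mul_prod_erase _ (fun j => z j ^ (Function.update r i (r i + 1)) j)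
        (Finset.mem_univ i),
      Function.update_self, pow_succ', mul_assoc]
    congr 2
    refine Finset.prod_congr rfl fun j hj => ?_
    rw [Function.update_of_ne (Finset.ne_of_mem_erase hj)]
  rw [hr', Dp_monomial z Dp hDz p (Function.update r i (r i + 1)), Dp_monomial z Dp hDz p r,
    Dp_monomial z Dp hDz (Function.update p i (p i - 1)) r]
  set K := ∏ j ∈ Finset.univ.erase i, (((r j).choose (p j) : ℕ) : B) * z j ^ (r j - p j) with hK
  have e1 : ∏ j, ((((Function.update r i (r i + 1)) j).choose (p j) : ℕ) : B) *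
      z j ^ ((Function.update r i (r i + 1)) j - p j) =
        ((((r i + 1).choose (p i) : ℕ) : B) * z i ^ (r i + 1 - p i)) * K := by
    rw [← Finset.mul_prod_erase _ _ (Finset.mem_univ i), Function.update_self]
    congr 1
    refine Finset.prod_congr rfl fun j hj => ?_
    rw [Function.update_of_ne (Finset.ne_of_mem_erase hj)]
  have e2 : ∏ j, (((r j).choose (p j) : ℕ) : B) * z j ^ (r j - p j) =
      ((((r i).choose (p i) : ℕ) : B) * z i ^ (r i - p i)) * K :=
    (Finset.mul_prod_erase _ _ (Finset.mem_univ i)).symm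
  have e3 : ∏ j, (((r j).choose ((Function.update p i (p i - 1)) j) : ℕ) : B) *
      z j ^ (r j - (Function.update p i (p i - 1)) j) =
        ((((r i).choose (p i - 1) : ℕ) : B) * z i ^ (r i - (p i - 1))) * K := by
    rw [← Finset.mul_prod_erase _ _ (Finset.mem_univ i), Function.update_self]
    congr 1
    refine Finset.prod_congr rfl fun j hj => ?_
    rw [Function.update_of_ne (Finset.ne_of_mem_erase hj)]
  rw [e1, e2, e3]
  have := one_var (z i) (r i) (p i)
  split_ifs at this ⊢ with h0
  · linear_combination K * this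
  · linear_combination K * this

include hz hD hDz in
theorem commutator_Dp (p : ι → ℕ) (i : ι) :
    commutator A B B B (Dp p) (z i) =
      if p i = 0 then 0 else Dp (Function.update p i (p i - 1)) := by
  obtain ⟨k, hk⟩ := hD p
  obtain ⟨k', hk'⟩ := hD (Function.update p i (p i - 1))
  have h1 : IsDiffOpLE A B B B (max k k') (commutator A B B B (Dp p) (z i)) :=
    isDiffOpLE_mono (le_max_left k k') ((isDiffOpLE_succ_iff k _).mp (isDiffOpLE_succ hk) (z i))
  have h2 : IsDiffOpLE A B B B (max k k')
      (if p i = 0 then 0 else Dp (Function.update p i (p i - 1))) := by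
    split_ifs
    · exact isDiffOpLE_zero _
    · exact isDiffOpLE_mono (le_max_right k k') hk'
  rw [← sub_eq_zero]
  apply eq_zero_of_isDiffOpLE_of_monomials z hz (max k k') _ (isDiffOpLE_sub h1 h2)
  intro r
  rw [LinearMap.sub_apply, commutator_apply, smul_eq_mul, smul_eq_mul, comm_value z Dp hDz]
  split_ifs <;> simp

omit [DecidableEq ι] in
theorem ex_eq_zero_iff (p : ι → ℕ) : ex p = 0 ↔ p = 0 := by
  constructor
  · intro h
    funext j
    have := DFunLike.congr_fun h j
    rwa [ex_apply] at this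
  · rintro rfl
    ext j
    rfl

include hDz in
omit [DecidableEq ι] in
theorem Dp_one (p : ι → ℕ) : Dp p 1 = if p = 0 then 1 else 0 := by
  have := hDz p (fun _ => 0)
  simp only [pow_zero, Finset.prod_const_one, Nat.zero_sub, mul_one] at this
  rw [this]
  split_ifs with h0
  · subst h0; simp
  · have : ∃ j, p j ≠ 0 := by
      by_contra hcon
      push Not at hcon
      exact h0 (funext hcon)
    obtain ⟨j, hj⟩ := this
    rw [Finset.prod_eq_zero (Finset.mem_univ j)
      (Nat.choose_eq_zero_of_lt (Nat.pos_of_ne_zero hj)), Nat.cast_zero]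

include hz hD hDz in
theorem linearize_Dp_ev (f : MvPolynomial ι B) : ∀ p : ι → ℕ,
    linearize A B B B (Dp p) (ev A B z f) = coeff (ex p) f := by
  induction f using MvPolynomial.induction_on with
  | C b =>
    intro p
    have h1 : algebraMap B (B ⊗[A] B) b = b ⊗ₜ[A] (1 : B) := rfl
    rw [ev_C, h1, linearize_tmul, coeff_C, Dp_one z Dp hDz, smul_eq_mul]
    by_cases h0 : p = 0
    · rw [if_pos h0, if_pos ((ex_eq_zero_iff p).mpr h0).symm, mul_one]
    · rw [if_neg h0, if_neg (fun h => h0 ((ex_eq_zero_iff p).mp h.symm)), mul_zero]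
  | add f g hf hg =>
    intro p
    rw [map_add, map_add, hf, hg, coeff_add]
  | mul_X f i hf =>
    intro p
    have hζ : zeta A B z i = (1 : B) ⊗ₜ[A] z i - z i ⊗ₜ[A] (1 : B) := rfl
    rw [map_mul, ev_X, hζ, linearize_mul_gen, commutator_Dp z hz Dp hD hDz, coeff_mul_X']
    by_cases h0 : p i = 0
    · rw [if_pos h0, if_neg (by rw [Finsupp.mem_support_iff, ex_apply]; exact not_not.mpr h0),
        linearize_eq, map_zero, LinearMap.zero_apply]
    · rw [if_neg h0, if_pos (by rw [Finsupp.mem_support_iff, ex_apply]; exact h0), hf]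
      congr 1
      ext j
      rw [Finsupp.tsub_apply, ex_apply, ex_apply, Finsupp.single_apply]
      by_cases hj : j = i
      · subst hj
        rw [Function.update_self, if_pos rfl]
      · rw [Function.update_of_ne hj, if_neg (Ne.symm hj), Nat.sub_zero]

include hz hD hDz in
theorem isDiffOpLE_Dp (p : ι → ℕ) : IsDiffOpLE A B B B (∑ i, p i) (Dp p) := by
  obtain ⟨k, hk⟩ := hD p
  rw [isDiffOpLE_iff_linearize] at hk ⊢
  intro x hx
  obtain ⟨f, hfm, hf⟩ := exists_sub_ev_mem_pow_add z hz (∑ i, p i + 1) (k + 1) x hx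
  have h1 : linearize A B B B (Dp p) (x - ev A B z f) = 0 :=
    hk _ (Ideal.pow_le_pow_right (by omega) hf)
  rw [map_sub, sub_eq_zero] at h1
  rw [h1, linearize_Dp_ev z hz Dp hD hDz]
  exact (mem_pow_idealOfVars_iff' _ _).mp hfm _ (by rw [degree_ex]; exact Nat.lt_succ_self _)

include hz hD hDz in
theorem kappa_injective_of_Dp (m : ℕ) : Function.Injective (kappa A B z m) := by
  rw [injective_iff_map_eq_zero]
  intro t ht
  obtain ⟨f, rfl⟩ := Ideal.Quotient.mk_surjective t
  rw [kappa_mk, Ideal.Quotient.eq_zero_iff_mem] at ht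
  rw [Ideal.Quotient.eq_zero_iff_mem, mem_pow_idealOfVars_iff']
  intro x hx
  have hle : ∑ i, x i ≤ m := by
    rw [← Finsupp.degree_eq_sum]; omega
  have h1 := isDiffOpLE_mono hle (isDiffOpLE_Dp z hz Dp hD hDz ⇑x)
  rw [isDiffOpLE_iff_linearize] at h1
  have := h1 _ ht
  rwa [linearize_Dp_ev z hz Dp hD hDz, ex_coe] at this

omit [DecidableEq ι] in
theorem finite_Idx (m : ℕ) : Finite (Idx ι m) := by
  have hle : ∀ (p : Idx ι m) (i : ι), p.1 i < m + 1 := fun p i =>
    Nat.lt_succ_of_le (le_trans
      (Finset.single_le_sum (f := p.1) (fun j _ => Nat.zero_le _) (Finset.mem_univ i)) p.2)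
  refine Finite.of_injective (fun (p : Idx ι m) (i : ι) => (⟨p.1 i, hle p i⟩ : Fin (m + 1))) ?_
  intro p q hpq
  apply Subtype.ext
  funext i
  exact congrArg Fin.val (congrFun hpq i)

include hz in
omit [DecidableEq ι] in
theorem eq_zero_of_linearize (m : ℕ) (D' : B →ₗ[A] B) (hD' : IsDiffOpLE A B B B m D')
    (h0 : ∀ q : Idx ι m, linearize A B B B D' (ev A B z (monomial (ex q.1) 1)) = 0) : D' = 0 := by
  have hk := (isDiffOpLE_iff_linearize m D').mp hD'
  have h1 : ∀ l : Idx ι m →₀ B, linearize A B B B D' (ev A B z (G B ι m l)) = 0 := by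
    intro l
    induction l using Finsupp.induction_linear with
    | zero => rw [map_zero, map_zero, map_zero]
    | add f g hf hg => rw [map_add, map_add, map_add, hf, hg, add_zero]
    | single q c =>
      have : monomial (ex q.1) c = C c * monomial (ex q.1) (1 : B) := by
        rw [C_mul_monomial, mul_one]
      rw [G_single, this, map_mul, ev_C, linearize_algebraMap_mul, h0, mul_zero]
  have h2 : ∀ f : MvPolynomial ι B, linearize A B B B D' (ev A B z f) = 0 := by
    intro f
    obtain ⟨l, hl⟩ := Phi_surjective B ι m (Ideal.Quotient.mk _ f)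
    rw [Phi_apply, Ideal.Quotient.eq] at hl
    have h3 := hk _ (ev_mem_pow A B z (m + 1) _ hl)
    rw [map_sub, map_sub, h1, zero_sub, neg_eq_zero] at h3
    exact h3
  have h3 : ∀ x : B ⊗[A] B, linearize A B B B D' x = 0 := by
    intro x
    obtain ⟨f, hf⟩ := exists_sub_ev_mem_pow z hz (m + 1) x
    have := hk _ hf
    rwa [map_sub, h2, sub_zero] at this
  ext b
  have := h3 ((1 : B) ⊗ₜ[A] b)
  rwa [linearize_tmul, one_smul] at this

include hz hD hDz in
theorem linearize_sum_Dp (m : ℕ) (a : Idx ι m →₀ B) (q : Idx ι m) :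
    linearize A B B B (a.sum fun p c => c • Dp p.1) (ev A B z (monomial (ex q.1) 1)) = a q := by
  induction a using Finsupp.induction_linear with
  | zero =>
    rw [Finsupp.sum_zero_index, linearize_eq, map_zero, LinearMap.zero_apply, Finsupp.zero_apply]
  | add f g hf hg =>
    rw [Finsupp.sum_add_index' (fun p => zero_smul B (Dp p.1))
      (fun p c c' => add_smul c c' (Dp p.1)), linearize_eq, map_add, LinearMap.add_apply,
      ← linearize_eq, ← linearize_eq, hf, hg, Finsupp.add_apply]
  | single p c =>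
    rw [Finsupp.sum_single_index (zero_smul B (Dp p.1)), linearize_eq, map_smul,
      LinearMap.smul_apply, ← linearize_eq, linearize_Dp_ev z hz Dp hD hDz, coeff_monomial,
      Finsupp.single_apply, smul_eq_mul]
    by_cases hpq : p = q
    · subst hpq
      rw [if_pos rfl, if_pos rfl, mul_one]
    · rw [if_neg hpq, if_neg (fun h => hpq (Subtype.ext (ex_injective h)).symm), mul_zero]

include hz hD hDz in
theorem S3818_aux :
    (∀ p, IsDiffOpLE A B B B (∑ i, p i) (Dp p)) ∧
      ∀ (m : ℕ) (D : B →ₗ[A] B), IsDiffOpLE A B B B m D →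
        ∃! a : {p : ι → ℕ // ∑ i, p i ≤ m} →₀ B, D = a.sum fun p c => c • Dp p.1 := by
  refine ⟨isDiffOpLE_Dp z hz Dp hD hDz, fun m D hDm => ?_⟩
  have := finite_Idx (ι := ι) m
  let a : Idx ι m →₀ B := Finsupp.equivFunOnFinite.symm
    (fun q => linearize A B B B D (ev A B z (monomial (ex q.1) 1)))
  have ha : ∀ q, a q = linearize A B B B D (ev A B z (monomial (ex q.1) 1)) := fun q => rfl
  have hsum : ∀ a' : Idx ι m →₀ B, IsDiffOpLE A B B B m (a'.sum fun p c => c • Dp p.1) := by
    intro a'
    apply isDiffOpLE_sum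
    intro p _
    have h1 : a' p • Dp p.1 = smulMap (A := A) B (a' p) ∘ₗ Dp p.1 := by
      ext x; simp
    show IsDiffOpLE A B B B m (a' p • Dp p.1)
    rw [h1]
    exact isDiffOpLE_smul (isDiffOpLE_mono p.2 (isDiffOpLE_Dp z hz Dp hD hDz p.1)) _
  refine ⟨a, ?_, ?_⟩
  · show D = a.sum fun p c => c • Dp p.1
    rw [← sub_eq_zero]
    apply eq_zero_of_linearize z hz m _ (isDiffOpLE_sub hDm (hsum a))
    intro q
    rw [linearize_eq, map_sub, LinearMap.sub_apply, ← linearize_eq, ← linearize_eq,
      linearize_sum_Dp z hz Dp hD hDz, ha, sub_self]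
  · intro a' ha'
    ext q
    rw [ha, ha', linearize_sum_Dp z hz Dp hD hDz]

end H

end Groth.Agent.Lib.Helper21.DiffSmooth
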