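import Mathlib
import Groth.Prelude.Def_PP16
import Groth.Prelude.Def_DiffOp
import Groth.Agent.Lib.Helper21.PPolyD

/-!
# Helper library (helper21): differential smoothness with coordinates versus divided-power
differential operators (EGA IV 16.11.2)
-/

set_option autoImplicit false

namespace Groth.Agent.Lib.Helper21.DiffSmooth

open TensorProduct KaehlerDifferential MvPolynomial Diff16 Groth.Agent.Lib.Helper5

universe u

section back

variable {A B : Type u} [CommRing A] [CommRing B] [Algebra A B]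
  {ι : Type} [Fintype ι] [DecidableEq ι] (z : ι → B)
  (hz : Submodule.span B (Set.range fun i => KaehlerDifferential.D A B (z i)) = ⊤)

include hz in
omit [DecidableEq ι] in
theorem isAdicFormallySmooth_of_kappa_bijective
    (hbij : ∀ m, Function.Bijective (kappa A B z m)) :
    CAlgX.IsAdicFormallySmooth B (B ⊗[A] B) (KaehlerDifferential.ideal A B) := by
  intro C' _ _ J hJ ψ ⟨k, hk⟩
  choose c hc using fun i => Ideal.Quotient.mk_surjective (ψ (zeta A B z i))
  let g : MvPolynomial ι B →ₐ[B] C' := aeval c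
  have hgψ : (Ideal.Quotient.mkₐ B J).comp g = ψ.comp (ev A B z) := by
    apply MvPolynomial.algHom_ext
    intro i
    rw [AlgHom.comp_apply, AlgHom.comp_apply, ev_X, Ideal.Quotient.mkₐ_eq_mk]
    show Ideal.Quotient.mk J (aeval c (X i)) = _
    rw [aeval_X, hc]
  have hgψ' : ∀ f, Ideal.Quotient.mk J (g f) = ψ (ev A B z f) := fun f =>
    AlgHom.congr_fun hgψ f
  have hgJ : ∀ f ∈ idealOfVars ι B ^ k, g f ∈ J := by
    intro f hf
    rw [← Ideal.Quotient.eq_zero_iff_mem, hgψ']
    exact hk _ (ev_mem_pow A B z k f hf)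
  have hg0 : ∀ f ∈ idealOfVars ι B ^ (k + k), g f = 0 := by
    intro f hf
    rw [pow_add] at hf
    refine Submodule.mul_induction_on hf (fun a ha b hb => ?_) (fun a b ha hb => ?_)
    · have : g a * g b ∈ J ^ 2 := by
        rw [pow_two]; exact Ideal.mul_mem_mul (hgJ a ha) (hgJ b hb)
      rw [hJ, Ideal.mem_bot] at this
      rw [map_mul, this]
    · rw [map_add, ha, hb, add_zero]
  let gbar : (MvPolynomial ι B ⧸ idealOfVars ι B ^ (k + k + 1)) →ₐ[B] C' :=
    Ideal.Quotient.liftₐ _ g (fun f hf => hg0 f (Ideal.pow_le_pow_right (Nat.le_succ _) hf))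
  have hgbar : ∀ f, gbar (Ideal.Quotient.mk _ f) = g f := fun f => rfl
  let e := AlgEquiv.ofBijective (kappa A B z (k + k)) (hbij (k + k))
  refine ⟨gbar.comp (e.symm.toAlgHom.comp
    (Ideal.Quotient.mkₐ B (KaehlerDifferential.ideal A B ^ (k + k + 1)))), ?_⟩
  apply AlgHom.ext
  intro x
  obtain ⟨f, hf⟩ := exists_sub_ev_mem_pow z hz (k + k + 1) x
  have h1 : Ideal.Quotient.mk (KaehlerDifferential.ideal A B ^ (k + k + 1)) x =
      e (Ideal.Quotient.mk _ f) := by
    show _ = kappa A B z (k + k) (Ideal.Quotient.mk _ f)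
    rw [kappa_mk, Ideal.Quotient.eq]
    exact hf
  have h2 : e.symm (Ideal.Quotient.mk (KaehlerDifferential.ideal A B ^ (k + k + 1)) x) =
      Ideal.Quotient.mk _ f := by
    rw [h1, AlgEquiv.symm_apply_apply]
  rw [AlgHom.comp_apply, AlgHom.comp_apply, AlgHom.comp_apply, Ideal.Quotient.mkₐ_eq_mk,
    Ideal.Quotient.mkₐ_eq_mk]
  show Ideal.Quotient.mk J (gbar (e.symm (Ideal.Quotient.mk _ x))) = ψ x
  rw [h2, hgbar, hgψ']
  have h3 : ψ (x - ev A B z f) = 0 := hk _ (Ideal.pow_le_pow_right (by omega) hf)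
  rw [map_sub, sub_eq_zero] at h3
  exact h3.symm

include hz in
theorem exists_basis_of_kappa_injective (hinj : Function.Injective (kappa A B z 1)) :
    ∃ b : Module.Basis ι B Ω[B⁄A], ∀ i, b i = KaehlerDifferential.D A B (z i) := by
  have hli : LinearIndependent B (fun i => KaehlerDifferential.D A B (z i)) := by
    rw [Fintype.linearIndependent_iff]
    intro c hc i
    have h1 := toCotangent_ev_linear (A := A) z c
    rw [hc] at h1
    have h2 : (KaehlerDifferential.ideal A B).toCotangent ⟨_, ev_linear_mem z c⟩ = 0 := h1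
    rw [Ideal.toCotangent_eq_zero] at h2
    have h3 : kappa A B z 1 (Ideal.Quotient.mk _ (∑ i, C (c i) * X i)) = 0 := by
      rw [kappa_mk, Ideal.Quotient.eq_zero_iff_mem]
      exact h2
    have h4 := hinj (h3.trans (map_zero _).symm)
    rw [Ideal.Quotient.eq_zero_iff_mem, mem_pow_idealOfVars_iff'] at h4
    have h5 := h4 (Finsupp.single i 1) (by rw [Finsupp.degree_single]; omega)
    rw [coeff_sum] at h5
    simp only [coeff_C_mul, coeff_X, Finsupp.single_left_inj one_ne_zero, mul_ite, mul_one, mul_zero] at h5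
    rw [Finset.sum_ite_eq' Finset.univ i, if_pos (Finset.mem_univ i)] at h5
    exact h5
  exact ⟨Module.Basis.mk hli (le_of_eq hz.symm), fun i => Module.Basis.mk_apply hli _ i⟩

end back

section forward

variable {A B : Type u} [CommRing A] [CommRing B] [Algebra A B]
  {ι : Type} [Fintype ι] [DecidableEq ι] (z : ι → B)
  (hbij : ∀ m, Function.Bijective (kappa A B z m))

/-- the divided-power operator `D_p` read off from the monomial basis of `P^{|p|}` -/
noncomputable def DpOf (p : ι → ℕ) : B →ₗ[A] B :=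
  (((monBasis z (∑ i, p i) (hbij _)).coord ⟨p, le_rfl⟩).restrictScalars A) ∘ₗ
    (PP16.dn (∑ i, p i) A B).toLinearMap

theorem DpOf_apply (p : ι → ℕ) (b : B) :
    DpOf z hbij p b = (monBasis z (∑ i, p i) (hbij _)).repr
      (Ideal.Quotient.mk _ ((1 : B) ⊗ₜ[A] b)) ⟨p, le_rfl⟩ := rfl

theorem linearize_DpOf (p : ι → ℕ) (x : B ⊗[A] B) :
    linearize A B B B (DpOf z hbij p) x =
      (monBasis z (∑ i, p i) (hbij _)).repr (Ideal.Quotient.mk _ x) ⟨p, le_rfl⟩ := by
  induction x using TensorProduct.induction_on with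
  | zero => rw [map_zero, map_zero, map_zero, Finsupp.zero_apply]
  | tmul b c =>
    rw [linearize_tmul, DpOf_apply]
    have : Ideal.Quotient.mk (KaehlerDifferential.ideal A B ^ (∑ i, p i + 1)) (b ⊗ₜ[A] c) =
        b • Ideal.Quotient.mk (KaehlerDifferential.ideal A B ^ (∑ i, p i + 1))
          ((1 : B) ⊗ₜ[A] c) := by
      rw [Algebra.smul_def]
      show _ = Ideal.Quotient.mk _ (b ⊗ₜ[A] (1 : B)) * _
      rw [← map_mul, Algebra.TensorProduct.tmul_mul_tmul, mul_one, one_mul]
    rw [this, map_smul, Finsupp.smul_apply]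
  | add x y hx hy => rw [map_add, map_add, map_add, hx, hy, Finsupp.add_apply]

theorem isDiffOpLE_DpOf (p : ι → ℕ) : IsDiffOpLE A B B B (∑ i, p i) (DpOf z hbij p) := by
  rw [isDiffOpLE_iff_linearize]
  intro x hx
  rw [linearize_DpOf, Ideal.Quotient.eq_zero_iff_mem.mpr hx, map_zero, Finsupp.zero_apply]

theorem DpOf_monomial (p q : ι → ℕ) :
    DpOf z hbij p (∏ i, z i ^ q i) =
      ((∏ i, Nat.choose (q i) (p i) : ℕ) : B) * ∏ i, z i ^ (q i - p i) := by
  have h1 : (1 : B) ⊗ₜ[A] (∏ i, z i ^ q i) =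
      ev A B z (∏ i, (X i + C (z i) : MvPolynomial ι B) ^ q i) := by
    rw [map_prod]
    simp_rw [map_pow, map_add, ev_X, ev_C]
    show (Algebra.TensorProduct.includeRight : B →ₐ[A] B ⊗[A] B) (∏ i, z i ^ q i) = _
    rw [map_prod]
    refine Finset.prod_congr rfl fun i _ => ?_
    rw [map_pow]
    congr 1
    rw [zeta]
    show (1 : B) ⊗ₜ[A] z i = (1 : B) ⊗ₜ[A] z i - z i ⊗ₜ[A] (1 : B) + z i ⊗ₜ[A] (1 : B)
    rw [sub_add_cancel]
  rw [DpOf_apply, h1, monBasis_repr]
  exact coeff_prod_X_add_C_pow z q (ex p)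

end forward

theorem S3816_aux (A B : Type u) [CommRing A] [CommRing B]
    [Algebra A B] (ι : Type) [Fintype ι] [DecidableEq ι] (z : ι → B)
    (hz : Submodule.span B (Set.range fun i => KaehlerDifferential.D A B (z i)) = ⊤) :
    (PP16.IsDiffSmooth A B ∧
        ∃ b : Module.Basis ι B (KaehlerDifferential A B),
          ∀ i, b i = KaehlerDifferential.D A B (z i)) ↔
      ∃ Dp : (ι → ℕ) → (B →ₗ[A] B),
        (∀ p, ∃ k : ℕ, Diff16.IsDiffOpLE A B B B k (Dp p)) ∧
        ∀ p q : ι → ℕ, Dp p (∏ i, z i ^ q i) =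
          ((∏ i, Nat.choose (q i) (p i) : ℕ) : B) * ∏ i, z i ^ (q i - p i) := by
  constructor
  · rintro ⟨hDS, b, hb⟩
    have hbij : ∀ m, Function.Bijective (kappa A B z m) := fun m =>
      ⟨kappa_injective z hDS b hb m, kappa_surjective z hz m⟩
    exact ⟨DpOf z hbij, fun p => ⟨_, isDiffOpLE_DpOf z hbij p⟩, DpOf_monomial z hbij⟩
  · rintro ⟨Dp, hD, hDz⟩
    have hbij : ∀ m, Function.Bijective (kappa A B z m) := fun m =>
      ⟨kappa_injective_of_Dp z hz Dp hD hDz m, kappa_surjective z hz m⟩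
    exact ⟨(isDiffSmooth_iff A B).mpr (isAdicFormallySmooth_of_kappa_bijective z hz hbij),
      exists_basis_of_kappa_injective z hz (hbij 1).1⟩

end Groth.Agent.Lib.Helper21.DiffSmooth
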