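import Mathlib
import Groth.Agent.Lib.Helper21.PPolyC
import Groth.Prelude.Def_PP16

set_option autoImplicit false

namespace Groth.Agent.Lib.Helper21.DiffSmooth

open PP16 TensorProduct KaehlerDifferential MvPolynomial

universe u

theorem S5010_aux (k : Type u) [Field k] (r n : ℕ) :
    Function.Surjective
        (MvPolynomial.aeval (R := FractionRing (MvPolynomial (Fin r) k))
          (S₁ := PP16.P n k (FractionRing (MvPolynomial (Fin r) k)))
          (fun i : Fin r =>
            PP16.dn n k (FractionRing (MvPolynomial (Fin r) k))
                (algebraMap (MvPolynomial (Fin r) k) (FractionRing (MvPolynomial (Fin r) k)) (MvPolynomial.X i)) -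
              algebraMap (FractionRing (MvPolynomial (Fin r) k)) (PP16.P n k (FractionRing (MvPolynomial (Fin r) k)))
                (algebraMap (MvPolynomial (Fin r) k) (FractionRing (MvPolynomial (Fin r) k)) (MvPolynomial.X i)))) ∧
      RingHom.ker
          (MvPolynomial.aeval (R := FractionRing (MvPolynomial (Fin r) k))
            (S₁ := PP16.P n k (FractionRing (MvPolynomial (Fin r) k)))
            (fun i : Fin r =>
              PP16.dn n k (FractionRing (MvPolynomial (Fin r) k))
                  (algebraMap (MvPolynomial (Fin r) k) (FractionRing (MvPolynomial (Fin r) k)) (MvPolynomial.X i)) -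
                algebraMap (FractionRing (MvPolynomial (Fin r) k)) (PP16.P n k (FractionRing (MvPolynomial (Fin r) k)))
                  (algebraMap (MvPolynomial (Fin r) k) (FractionRing (MvPolynomial (Fin r) k)) (MvPolynomial.X i)))).toRingHom =
        (Ideal.span (Set.range (MvPolynomial.X : Fin r → MvPolynomial (Fin r) (FractionRing (MvPolynomial (Fin r) k))))) ^ (n + 1) := by
  set P := MvPolynomial (Fin r) k with hP
  set K := FractionRing P with hK
  have : Algebra.FormallyEtale P K := Algebra.FormallyEtale.of_isLocalization (nonZeroDivisors P)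
  have : Algebra.FormallySmooth k K := Algebra.FormallySmooth.comp k P K
  have hDS : PP16.IsDiffSmooth k K := isDiffSmooth_of_formallySmooth
  let z : Fin r → K := fun i => algebraMap P K (X i)
  let b : Module.Basis (Fin r) K Ω[K⁄k] :=
    ((KaehlerDifferential.mvPolynomialBasis k (Fin r)).baseChange K).map
      (KaehlerDifferential.tensorKaehlerEquivOfFormallyEtale k P K)
  have hb : ∀ i, b i = KaehlerDifferential.D k K (z i) := by
    intro i
    rw [Module.Basis.map_apply, Module.Basis.baseChange_apply,
      KaehlerDifferential.mvPolynomialBasis_apply]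
    have h1 := KaehlerDifferential.tensorKaehlerEquivOfFormallyEtale_symm_D_algebraMap k P K (X i)
    rw [LinearEquiv.symm_apply_eq] at h1
    exact h1.symm
  have hspan : Submodule.span K (Set.range fun i => KaehlerDifferential.D k K (z i)) = ⊤ := by
    have : (fun i => KaehlerDifferential.D k K (z i)) = ⇑b := funext fun i => (hb i).symm
    rw [this]
    exact b.span_eq
  have hinj := kappa_injective z hDS b hb n
  have hsurj := kappa_surjective z hspan n
  have hcomp : (MvPolynomial.aeval (R := K) (S₁ := PP16.P n k K)
      (fun i : Fin r => PP16.dn n k K (z i) - algebraMap K (PP16.P n k K) (z i))) =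
        (kappa k K z n).comp (Ideal.Quotient.mkₐ K _) := by
    apply MvPolynomial.algHom_ext
    intro i
    rw [aeval_X, AlgHom.comp_apply, Ideal.Quotient.mkₐ_eq_mk, kappa_mk, ev_X, mk_zeta]
  constructor
  · show Function.Surjective (MvPolynomial.aeval (R := K) (S₁ := PP16.P n k K)
      (fun i : Fin r => PP16.dn n k K (z i) - algebraMap K (PP16.P n k K) (z i)))
    rw [hcomp, AlgHom.coe_comp]
    exact hsurj.comp Ideal.Quotient.mk_surjective
  · show RingHom.ker (MvPolynomial.aeval (R := K) (S₁ := PP16.P n k K)
      (fun i : Fin r => PP16.dn n k K (z i) - algebraMap K (PP16.P n k K) (z i))).toRingHom = _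
    rw [hcomp]
    ext f
    rw [RingHom.mem_ker]
    show kappa k K z n (Ideal.Quotient.mk _ f) = 0 ↔ _
    rw [map_eq_zero_iff _ hinj, Ideal.Quotient.eq_zero_iff_mem]

end Groth.Agent.Lib.Helper21.DiffSmooth
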