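import Mathlib
import Groth.Prelude.Def_CAlgX
import Groth.Agent.Lib.Helper9.QuasiReg
import Groth.Agent.Lib.Helper21.RegSecA
import Groth.Agent.Lib.Helper21.RegSecD

/-!
# Helper library (helper21): a ring complete along a regular element with formally smooth
quotient is a power series ring over the quotient
-/

set_option autoImplicit false

namespace Groth.Agent.Lib.Helper21.RegSec

open MvPolynomial
open Groth.Agent.Lib.Helper21.TruncIso

universe u

theorem S15298_aux (k A : Type u) [Field k]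
    [CommRing A] [Algebra k A] (x : A) (hx : x ∈ nonZeroDivisors A)
    [IsAdicComplete (Ideal.span {x}) A] [Algebra.FormallySmooth k (A ⧸ Ideal.span {x})] :
    ∃ e : PowerSeries (A ⧸ Ideal.span {x}) ≃ₐ[k] A,
      e PowerSeries.X = x ∧
      ∀ f : PowerSeries (A ⧸ Ideal.span {x}),
        Ideal.Quotient.mk (Ideal.span {x}) (e f) = PowerSeries.constantCoeff f := by
  classical
  set I : Ideal A := Ideal.span {x} with hI
  -- the section
  obtain ⟨σ, hσ⟩ := Algebra.FormallySmooth.exists_mkₐ_comp_eq_of_isAdicComplete (I := I)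
    (AlgHom.id k (A ⧸ I))
  have hmkσ : ∀ b : A ⧸ I, Ideal.Quotient.mk I (σ b) = b := fun b => AlgHom.congr_fun hσ b
  letI algBA : Algebra (A ⧸ I) A := σ.toRingHom.toAlgebra
  have halg : ∀ b : A ⧸ I, algebraMap (A ⧸ I) A b = σ b := fun b => rfl
  haveI tower : IsScalarTower k (A ⧸ I) A :=
    IsScalarTower.of_algebraMap_eq (fun r => by rw [halg, AlgHom.commutes])
  have hsub : ∀ s : A, s - σ (Ideal.Quotient.mk I s) ∈ I := by
    intro s
    rw [← Ideal.Quotient.eq_zero_iff_mem, map_sub, hmkσ, sub_self]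
  have hxI : x ∈ I := Ideal.subset_span rfl
  let g : Fin 1 → A := fun _ => x
  have hg : ∀ i, g i ∈ I := fun _ => hxI
  have hspan : Ideal.span (Set.range g) = I := by
    rw [hI]
    congr 1
    ext a
    simp [g]
  -- quasi-regularity
  have hreg : RingTheory.Sequence.IsWeaklyRegular A (List.ofFn g) := by
    have : List.ofFn g = [x] := by simp [g]
    rw [this, RingTheory.Sequence.isWeaklyRegular_singleton_iff]
    exact (isRegular_iff_mem_nonZeroDivisors.mpr hx).left.isSMulRegular
  have hqg : CAlgX.IsQuasiRegular g :=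
    Groth.Agent.Lib.Helper9.QuasiReg.quasiRegular_of_isWeaklyRegular g hreg
  have hinj : ∀ b : A ⧸ I, algebraMap (A ⧸ I) A b ∈ Ideal.span (Set.range g) → b = 0 := by
    intro b hb
    rw [hspan, halg, ← Ideal.Quotient.eq_zero_iff_mem, hmkσ] at hb
    exact hb
  have h0 : ∀ s : A, ∃ b : A ⧸ I, s - algebraMap (A ⧸ I) A b ∈ I :=
    fun s => ⟨Ideal.Quotient.mk I s, hsub s⟩
  have h1 : ∀ y ∈ I, ∃ c : Fin 1 → A ⧸ I,
      y - ∑ i, algebraMap (A ⧸ I) A (c i) * g i ∈ I ^ 2 := by
    intro y hy
    obtain ⟨a, rfl⟩ := Ideal.mem_span_singleton'.mp hy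
    refine ⟨fun _ => Ideal.Quotient.mk I a, ?_⟩
    have e : a * x - ∑ i : Fin 1, algebraMap (A ⧸ I) A (Ideal.Quotient.mk I a) * g i =
        (a - σ (Ideal.Quotient.mk I a)) * x := by
      simp only [Fin.sum_univ_one, halg, g]
      ring
    rw [e, pow_two]
    exact Ideal.mul_mem_mul (hsub a) hxI
  have hbij : ∀ n, Function.Bijective (kap (A ⧸ I) I g hg n) := by
    intro n
    refine ⟨?_, kap_surjective I g hg h0 h1 n⟩
    rw [injective_iff_map_eq_zero]
    intro t ht
    obtain ⟨p, rfl⟩ := Ideal.Quotient.mk_surjective t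
    rw [kap_mk, Ideal.Quotient.eq_zero_iff_mem] at ht
    rw [Ideal.Quotient.eq_zero_iff_mem]
    apply mem_pow_of_ev_mem_pow g hqg hinj n p
    rw [hspan]
    exact ht
  -- assemble
  let E1 : AdicCompletion I A ≃ₐ[A ⧸ I] MvPowerSeries (Fin 1) (A ⧸ I) := theE I g hg hbij
  let E0 : A ≃ₐ[A ⧸ I] AdicCompletion I A := (AdicCompletion.ofAlgEquiv I).restrictScalars (A ⧸ I)
  have hE0 : ∀ a, E0 a = AdicCompletion.of I A a := fun a => AdicCompletion.ofAlgEquiv_apply I a
  let E2 : MvPowerSeries (Fin 1) (A ⧸ I) ≃ₐ[A ⧸ I] PowerSeries (A ⧸ I) :=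
    MvPowerSeries.renameEquiv (A ⧸ I) finOneEquiv
  let E : A ≃ₐ[A ⧸ I] PowerSeries (A ⧸ I) := (E0.trans E1).trans E2
  have hE : ∀ a, E a = E2 (E1 (AdicCompletion.of I A a)) := fun a => by
    show E2 (E1 (E0 a)) = _
    rw [hE0]
  have hEx : E x = PowerSeries.X := by
    rw [hE]
    have h2 : E1 (AdicCompletion.of I A x) = MvPowerSeries.X 0 := theE_of_f I g hg hbij 0
    rw [h2]
    show MvPowerSeries.rename finOneEquiv (MvPowerSeries.X 0) = _
    rw [MvPowerSeries.rename_X]
    rfl
  have hcc : ∀ a : A, PowerSeries.constantCoeff (E a) = Ideal.Quotient.mk I a := by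
    intro a
    rw [hE]
    have h3 : PowerSeries.constantCoeff (E2 (E1 (AdicCompletion.of I A a))) =
        MvPowerSeries.constantCoeff (E1 (AdicCompletion.of I A a)) :=
      MvPowerSeries.constantCoeff_rename _ _
    rw [h3]
    have h4 : a = σ (Ideal.Quotient.mk I a) + (a - σ (Ideal.Quotient.mk I a)) := by ring
    have h5 : MvPowerSeries.constantCoeff (E1 (AdicCompletion.of I A (σ (Ideal.Quotient.mk I a)))) =
        Ideal.Quotient.mk I a := by
      have : AdicCompletion.of I A (σ (Ideal.Quotient.mk I a)) =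
          algebraMap (A ⧸ I) (AdicCompletion I A) (Ideal.Quotient.mk I a) := rfl
      rw [this, AlgEquiv.commutes, MvPowerSeries.algebraMap_apply]
      simp
    have h6 : MvPowerSeries.constantCoeff
        (E1 (AdicCompletion.of I A (a - σ (Ideal.Quotient.mk I a)))) = 0 :=
      constantCoeff_theE I g hg hbij _ (hsub a)
    conv_lhs => rw [h4]
    rw [map_add, map_add, map_add, h5, h6, add_zero]
  refine ⟨(E.restrictScalars k).symm, ?_, ?_⟩
  · rw [AlgEquiv.symm_apply_eq]
    exact hEx.symm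
  · intro f
    have h7 := hcc ((E.restrictScalars k).symm f)
    have h8 : E ((E.restrictScalars k).symm f) = f :=
      (E.restrictScalars k).apply_symm_apply f
    rw [h8] at h7
    exact h7.symm

end Groth.Agent.Lib.Helper21.RegSec
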