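import Mathlib

namespace Groth.Agent.Lib.Helper21.PerfFlat

universe u

section
variable (p : ℕ) [Fact p.Prime]
  {A B A' B' : Type u} [CommRing A] [CommRing B] [CommRing A'] [CommRing B']
  [CharP A p] [CharP B p] [CharP A' p] [CharP B' p] [PerfectRing A' p] [PerfectRing B' p]

/-- a common exponent for finitely many elements of a perfect closure -/
theorem exists_common_pow {K L : Type u} [CommRing K] [CommRing L] [CharP K p] [CharP L p]
    [PerfectRing L p] (i : K →+* L) [IsPerfectClosure i p] {l : ℕ} (x : Fin l → L) :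
    ∃ N : ℕ, ∀ M, N ≤ M → ∀ k, ∃ a : K, i a = x k ^ p ^ M := by
  choose n a ha using fun k => IsPRadical.pow_mem i p (x k)
  refine ⟨Finset.univ.sup n, fun M hM k => ?_⟩
  have hk : n k ≤ M := le_trans (Finset.le_sup (Finset.mem_univ k)) hM
  obtain ⟨d, rfl⟩ := Nat.exists_eq_add_of_le hk
  refine ⟨a k ^ p ^ d, ?_⟩
  rw [map_pow, ha k, ← pow_mul, ← pow_add]

theorem flat_perfectClosure (φ : A →+* B) (hflat : φ.Flat) (i : A →+* A') (j : B →+* B')
    [IsPerfectClosure i p] [IsPerfectClosure j p] (φ' : A' →+* B')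
    (hφ : φ'.comp i = j.comp φ) : φ'.Flat := by
  letI := φ.toAlgebra
  letI := φ'.toAlgebra
  have hflat' : Module.Flat A B := hflat
  show Module.Flat A' B'
  have hφ' : ∀ a, φ' (i a) = j (φ a) := fun a => RingHom.congr_fun hφ a
  rw [Module.Flat.iff_forall_isTrivialRelation]
  intro l a' x hx
  have hx' : ∑ k, φ' (a' k) * x k = 0 := by
    rw [← hx]; exact Finset.sum_congr rfl fun k _ => (Algebra.smul_def _ _).symm
  obtain ⟨N₁, hN₁⟩ := exists_common_pow p i a'
  obtain ⟨N₂, hN₂⟩ := exists_common_pow p j x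
  set N := max N₁ N₂ with hN
  choose a ha using hN₁ N (le_max_left _ _)
  choose b hb using hN₂ N (le_max_right _ _)
  -- the relation comes from B up to a nilpotent
  have h1 : j (∑ k, φ (a k) * b k) = 0 := by
    have := congrArg (iterateFrobenius B' p N) hx'
    rw [map_sum, map_zero] at this
    rw [map_sum, ← this]
    apply Finset.sum_congr rfl
    intro k _
    rw [map_mul, map_mul, ← hφ', ha k, hb k, iterateFrobenius_def, iterateFrobenius_def, map_pow]
  obtain ⟨m, hm⟩ := mem_pNilradical.1 (IsPRadical.ker_le j p (show _ ∈ RingHom.ker j from h1))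
  have h2 : ∑ k, (a k ^ p ^ m) • (b k ^ p ^ m) = 0 := by
    have := congrArg id hm
    rw [← iterateFrobenius_def, map_sum] at hm
    rw [← hm]
    apply Finset.sum_congr rfl
    intro k _
    rw [Algebra.smul_def, map_mul, iterateFrobenius_def, iterateFrobenius_def]
    show φ (a k ^ p ^ m) * _ = _
    rw [map_pow]
  obtain ⟨K, c, y, hc1, hc2⟩ := Module.Flat.isTrivialRelation_of_sum_smul_eq_zero (R := A) (M := B)
    (f := fun k => a k ^ p ^ m) (x := fun k => b k ^ p ^ m) h2
  simp only at hc1 hc2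
  set T := N + m with hT
  have hrootA : ∀ z : A', ((iterateFrobeniusEquiv A' p T).symm z) ^ p ^ T = z := fun z => by
    have := (iterateFrobeniusEquiv A' p T).apply_symm_apply z
    rwa [iterateFrobeniusEquiv_def] at this
  have hrootB : ∀ z : B', ((iterateFrobeniusEquiv B' p T).symm z) ^ p ^ T = z := fun z => by
    have := (iterateFrobeniusEquiv B' p T).apply_symm_apply z
    rwa [iterateFrobeniusEquiv_def] at this
  have hinjA : Function.Injective (iterateFrobenius A' p T) :=
    (iterateFrobeniusEquiv A' p T).injective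
  have hinjB : Function.Injective (iterateFrobenius B' p T) :=
    (iterateFrobeniusEquiv B' p T).injective
  refine ⟨K, fun k q => (iterateFrobeniusEquiv A' p T).symm (i (c k q)),
    fun q => (iterateFrobeniusEquiv B' p T).symm (j (y q)), ?_, ?_⟩
  · intro k
    apply hinjB
    rw [map_sum, iterateFrobenius_def, hT, pow_add, pow_mul, ← hb k, ← map_pow, hc1 k, map_sum]
    apply Finset.sum_congr rfl
    intro q _
    simp only
    rw [Algebra.smul_def, Algebra.smul_def, map_mul, map_mul, iterateFrobenius_def,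
      iterateFrobenius_def, hrootB]
    show j (φ (c k q)) * _ = (φ' _) ^ _ * _
    rw [← map_pow, hrootA, hφ']
  · intro q
    apply hinjA
    rw [map_sum, map_zero]
    have h3 := congrArg i (hc2 q)
    rw [map_sum, map_zero] at h3
    rw [← h3]
    apply Finset.sum_congr rfl
    intro k _
    rw [map_mul, map_mul, iterateFrobenius_def, iterateFrobenius_def, hrootA, map_pow, ha k,
      ← pow_mul, ← pow_add]

omit [CharP A' p] [PerfectRing A' p] [CharP A p] in
theorem comap_injective_of_isPRadical (i : A →+* A') [IsPRadical i p] :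
    Function.Injective (PrimeSpectrum.comap i) := by
  have key : ∀ q₁ q₂ : PrimeSpectrum A', PrimeSpectrum.comap i q₁ = PrimeSpectrum.comap i q₂ →
      q₁.asIdeal ≤ q₂.asIdeal := by
    intro q₁ q₂ h x hx
    obtain ⟨n, a, ha⟩ := IsPRadical.pow_mem i p x
    have h1 : a ∈ (PrimeSpectrum.comap i q₁).asIdeal := by
      show i a ∈ q₁.asIdeal
      rw [ha]; exact Ideal.pow_mem_of_mem _ hx _ (pow_pos (Fact.out : p.Prime).pos n)
    rw [h] at h1
    have h2 : i a ∈ q₂.asIdeal := h1
    rw [ha] at h2
    exact q₂.isPrime.mem_of_pow_mem _ h2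
  intro q₁ q₂ h
  exact PrimeSpectrum.ext (le_antisymm (key q₁ q₂ h) (key q₂ q₁ h.symm))

omit [CharP B' p] [PerfectRing B' p] [CharP B p] in
theorem comap_surjective_of_isPRadical (j : B →+* B') [IsPRadical j p] :
    Function.Surjective (PrimeSpectrum.comap j) := by
  intro P
  letI := j.toAlgebra
  haveI : Algebra.IsIntegral B B' := ⟨fun x => by
    obtain ⟨n, b, hb⟩ := IsPRadical.pow_mem j p x
    apply IsIntegral.of_pow (pow_pos (Fact.out : p.Prime).pos n)
    rw [← hb]; exact isIntegral_algebraMap⟩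
  obtain ⟨Q, -, hQ, hQ'⟩ := Ideal.exists_ideal_over_prime_of_isIntegral P.asIdeal
    (⊥ : Ideal B') (by
      intro x hx
      have hx' : x ∈ RingHom.ker j := hx
      obtain ⟨m, hm⟩ := mem_pNilradical.1 (IsPRadical.ker_le j p hx')
      exact P.isPrime.mem_of_pow_mem _ (hm ▸ P.asIdeal.zero_mem))
  exact ⟨⟨Q, hQ⟩, PrimeSpectrum.ext hQ'⟩

theorem faithfullyFlat_perfectClosure (φ : A →+* B) (hflat : φ.FaithfullyFlat) (i : A →+* A')
    (j : B →+* B') [IsPerfectClosure i p] [IsPerfectClosure j p] (φ' : A' →+* B')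
    (hφ : φ'.comp i = j.comp φ) : φ'.FaithfullyFlat := by
  rw [RingHom.FaithfullyFlat.iff_flat_and_comap_surjective] at hflat ⊢
  refine ⟨flat_perfectClosure p φ hflat.1 i j φ' hφ, ?_⟩
  intro q'
  obtain ⟨P, hP⟩ := hflat.2 (PrimeSpectrum.comap i q')
  obtain ⟨P', hP'⟩ := comap_surjective_of_isPRadical p j P
  refine ⟨P', ?_⟩
  apply comap_injective_of_isPRadical p i
  rw [← PrimeSpectrum.comap_comp_apply, hφ, PrimeSpectrum.comap_comp_apply, hP', hP]

end

end Groth.Agent.Lib.Helper21.PerfFlat
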