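import Mathlib

/-!
# From a bounded complex of projectives with homology in degree 0 to a projective resolution
-/

set_option backward.isDefEq.respectTransparency false
set_option backward.isDefEq.respectTransparency.types false

namespace Groth.Agent.Lib.Helper21.PerfRes

open CategoryTheory CategoryTheory.Limits

universe v u

section Retract

variable {C : Type u} [Category.{v} C] [Abelian C]

/-- cycles of a bounded-above complex of projectives, exact in positive degrees, are retracts. -/
theorem prop_cycles (Pr : C → Prop) (hproj : ∀ X, Pr X → Projective X)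
    (hretract : ∀ (X Y : C) (i : X ⟶ Y) (r : Y ⟶ X), i ≫ r = 𝟙 X → Pr Y → Pr X)
    (hzero : ∀ X, IsZero X → Pr X)
    (E : CochainComplex C ℤ) (b : ℤ) (hb : ∀ i, b < i → IsZero (E.X i))
    (hE : ∀ i, Pr (E.X i)) (hex : ∀ i, 0 < i → E.ExactAt i) :
    ∀ (k : ℕ) (i : ℤ), i + k = b + 1 → 0 ≤ i → Pr (E.cycles i) := by
  intro k
  induction k with
  | zero =>
    intro i hi _
    have hz : IsZero (E.X i) := hb i (by lia)
    exact hzero _ (IsZero.of_mono (E.iCycles i) hz)
  | succ k ih =>
    intro i hi h0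
    have h1 := ih (i + 1) (by push_cast at hi ⊢; lia) (by lia)
    haveI : Projective (E.cycles (i + 1)) := hproj _ h1
    have hepi : Epi (E.toCycles i (i + 1)) := by
      have := hex (i + 1) (by lia)
      rw [HomologicalComplex.exactAt_iff' E i (i + 1) (i + 1 + 1) (by simp) (by simp)] at this
      have h2 := this.epi_toCycles
      have h3 : (E.sc' i (i + 1) (i + 1 + 1)).toCycles =
          E.toCycles i (i + 1) ≫ (E.cyclesIsoSc' i (i + 1) (i + 1 + 1) (by simp) (by simp)).hom := by
        rw [← cancel_mono (E.sc' i (i + 1) (i + 1 + 1)).iCycles]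
        simp
      have h4 : E.toCycles i (i + 1) = (E.sc' i (i + 1) (i + 1 + 1)).toCycles ≫
          (E.cyclesIsoSc' i (i + 1) (i + 1 + 1) (by simp) (by simp)).inv := by
        rw [h3, Category.assoc, Iso.hom_inv_id, Category.comp_id]
      rw [h4]
      infer_instance
    -- a section
    let s : E.cycles (i + 1) ⟶ E.X i := Projective.factorThru (𝟙 _) (E.toCycles i (i + 1))
    have hs : s ≫ E.toCycles i (i + 1) = 𝟙 _ := Projective.factorThru_comp _ _
    have hzc : E.iCycles i ≫ E.toCycles i (i + 1) = 0 := by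
      rw [← cancel_mono (E.iCycles (i + 1)), Category.assoc, E.toCycles_i, E.iCycles_d, zero_comp]
    have hr0 : (𝟙 (E.X i) - E.toCycles i (i + 1) ≫ s) ≫ E.d i (i + 1) = 0 := by
      rw [Preadditive.sub_comp, Category.id_comp, Category.assoc, ← E.toCycles_i i (i + 1),
        ← Category.assoc s, hs, Category.id_comp, sub_self]
    refine hretract _ _ (E.iCycles i)
      (E.liftCycles (𝟙 (E.X i) - E.toCycles i (i + 1) ≫ s) (i + 1) (by simp) hr0) ?_ (hE i)
    rw [← cancel_mono (E.iCycles i), Category.assoc, E.liftCycles_i, Preadditive.comp_sub,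
      Category.comp_id, ← Category.assoc, hzc, zero_comp, sub_zero, Category.id_comp]

end Retract

section Res

variable {C : Type u} [Category.{v} C] [Abelian C]

open ComplexShape

/-- The truncated chain complex. -/
noncomputable def P₀ (E : CochainComplex C ℤ) : ChainComplex C ℕ :=
  HomologicalComplex.truncLE' E (embeddingUpIntLE 0)

theorem emb_f (n : ℕ) : (embeddingUpIntLE 0).f n = -(n : ℤ) := by
  simp [embeddingUpIntLE_f]

/-- The terms in positive degree. -/
noncomputable def isoX (E : CochainComplex C ℤ) (n : ℕ) (hn : 0 < n) : (P₀ E).X n ≅ E.X (-(n : ℤ)) :=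
  HomologicalComplex.truncLE'XIso E (embeddingUpIntLE 0) (emb_f n)
    (by rw [boundaryLE_embeddingUpIntLE_iff]; lia)

/-- The term in degree zero. -/
noncomputable def isoC (E : CochainComplex C ℤ) : (P₀ E).X 0 ≅ E.cycles 0 :=
  HomologicalComplex.truncLE'XIsoCycles E (embeddingUpIntLE 0) (by simp [embeddingUpIntLE_f])
    (by rw [boundaryLE_embeddingUpIntLE_iff])

theorem d10 (E : CochainComplex C ℤ) :
    (P₀ E).d 1 0 = (isoX E 1 Nat.one_pos).hom ≫ E.toCycles (-((1 : ℕ) : ℤ)) 0 ≫ (isoC E).inv :=
  HomologicalComplex.truncLE'_d_eq_toCycles E (embeddingUpIntLE 0) (i := 1) (j := 0) (by simp) (emb_f 1)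
    (by simp [embeddingUpIntLE_f]) (by rw [boundaryLE_embeddingUpIntLE_iff])

/-- The homology of the truncated complex. -/
noncomputable def homologyIso (E : CochainComplex C ℤ) (n : ℕ) :
    (P₀ E).homology n ≅ E.homology ((embeddingUpIntLE 0).f n) :=
  ((P₀ E).extendHomologyIso (embeddingUpIntLE 0) rfl).symm ≪≫
    ((HomologicalComplex.homologyFunctor C _ ((embeddingUpIntLE 0).f n)).mapIso
      (HomologicalComplex.truncLEIso E (embeddingUpIntLE 0))).symm ≪≫
    asIso (HomologicalComplex.homologyMap (HomologicalComplex.ιTruncLE E (embeddingUpIntLE 0))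
      ((embeddingUpIntLE 0).f n))

/-- The augmentation. -/
noncomputable def π₀ (E : CochainComplex C ℤ) {M : C} (φ : E.homology 0 ≅ M) :
    P₀ E ⟶ (ChainComplex.single₀ C).obj M :=
  (ChainComplex.toSingle₀Equiv _ _).symm ⟨(isoC E).hom ≫ E.homologyπ 0 ≫ φ.hom, by
    rw [d10, Category.assoc, Category.assoc, Iso.inv_hom_id_assoc,
      HomologicalComplex.toCycles_comp_homologyπ_assoc, zero_comp, comp_zero]⟩

theorem π₀_f (E : CochainComplex C ℤ) {M : C} (φ : E.homology 0 ≅ M) :
    (π₀ E φ).f 0 = (isoC E).hom ≫ E.homologyπ 0 ≫ φ.hom :=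
  ChainComplex.toSingle₀Equiv_symm_apply_f_zero _ _

theorem quasiIso_π₀ (E : CochainComplex C ℤ) {M : C} (φ : E.homology 0 ≅ M)
    (hex : ∀ i : ℤ, i < 0 → E.ExactAt i) : QuasiIso (π₀ E φ) := by
  refine ⟨fun n => ?_⟩
  cases n with
  | zero =>
    rw [quasiIsoAt_iff_isIso_homologyMap]
    have hm : Mono (HomologicalComplex.homologyMap (π₀ E φ) 0) := by
      rw [HomologicalComplex.mono_homologyMap_iff_up_to_refinements (π₀ E φ) 1 0 0 (by simp)
        (by simp)]
      intro A x₂ _ y₁ hy
      have hy1 : y₁ = 0 := (HomologicalComplex.isZero_single_obj_X _ _ _ _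
        (by simp : (1 : ℕ) ≠ 0)).eq_of_tgt _ _
      rw [hy1, zero_comp, π₀_f] at hy
      have h1 : (x₂ ≫ (isoC E).hom) ≫ E.homologyπ 0 = 0 := by
        rw [← cancel_mono φ.hom, zero_comp, Category.assoc, Category.assoc]
        simpa using hy
      rw [E.comp_homologyπ_eq_zero_iff_up_to_refinements (-((1 : ℕ) : ℤ)) 0 (by simp)] at h1
      obtain ⟨A', π, hπ, x₁, hx₁⟩ := h1
      refine ⟨A', π, hπ, x₁ ≫ (isoX E 1 Nat.one_pos).inv, ?_⟩
      rw [d10, Category.assoc, Iso.inv_hom_id_assoc, ← Category.assoc x₁, ← hx₁]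
      simp
    have he : Epi (HomologicalComplex.homologyMap (π₀ E φ) 0) := by
      rw [HomologicalComplex.epi_homologyMap_iff_up_to_refinements (π₀ E φ) 1 0 0 (by simp)
        (by simp)]
      intro A y₂ _
      haveI : Epi ((π₀ E φ).f 0) := by rw [π₀_f]; infer_instance
      obtain ⟨A', π, hπ, x₂, hx₂⟩ := surjective_up_to_refinements_of_epi ((π₀ E φ).f 0) y₂
      refine ⟨A', π, hπ, x₂, ?_, 0, ?_⟩
      · rw [(P₀ E).shape 0 0 (by simp), comp_zero]
      · rw [zero_comp, add_zero, hx₂]
    exact isIso_of_mono_of_epi _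
  | succ n =>
    rw [quasiIsoAt_iff_exactAt]
    · exact ChainComplex.exactAt_succ_single_obj _ _
    · rw [HomologicalComplex.exactAt_iff_isZero_homology]
      refine IsZero.of_iso ?_ (homologyIso E (n + 1))
      rw [← HomologicalComplex.exactAt_iff_isZero_homology]
      exact hex _ (by rw [emb_f]; push_cast; lia)

end Res

end Groth.Agent.Lib.Helper21.PerfRes
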