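import Mathlib
import Groth.Prelude.Def_DRing2
import Groth.Agent.Lib.Helper21.PerfRes

/-!
# Perfect modules and finite projective resolutions
-/

set_option backward.isDefEq.respectTransparency false
set_option backward.isDefEq.respectTransparency.types false

namespace Groth.Agent.Lib.Helper21.PerfResMod

open CategoryTheory CategoryTheory.Limits

attribute [local instance] HasDerivedCategory.standard

universe u

variable (R : Type u) [CommRing R] (M : Type u) [AddCommGroup M] [Module R M]

theorem of_res (P : ProjectiveResolution (ModuleCat.of R M)) (d : ℕ)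
    (hz : ∀ i : ℕ, d < i → IsZero (P.complex.X i)) (hf : ∀ i : ℕ, Module.Finite R (P.complex.X i)) :
    DRing.IsPerfectModule R M := by
  refine ⟨P.cochainComplex, -d, 0, ?_, ?_, ⟨?_⟩⟩
  · intro i hi
    rcases hi with hi | hi
    · obtain ⟨k, rfl⟩ : ∃ k : ℕ, i = -(k : ℤ) := ⟨(-i).toNat, by lia⟩
      exact IsZero.of_iso (hz k (by lia)) (P.cochainComplexXIso (-(k : ℤ)) k)
    · exact CochainComplex.isZero_of_isStrictlyLE _ 0 _ hi
  · intro i
    by_cases hi : i ≤ 0
    · obtain ⟨k, rfl⟩ := Int.exists_eq_neg_ofNat hi
      have e := (P.cochainComplexXIso (-(k : ℤ)) k).toLinearEquiv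
      haveI := hf k
      haveI : Module.Projective R (P.complex.X k) := inferInstance
      exact ⟨Module.Finite.equiv e.symm, Module.Projective.of_equiv e.symm⟩
    · have := ModuleCat.subsingleton_of_isZero
        (CochainComplex.isZero_of_isStrictlyLE P.cochainComplex 0 i (by lia))
      exact ⟨inferInstance, inferInstance⟩
  · exact asIso (DerivedCategory.Q.map P.π') ≪≫
      ((DerivedCategory.singleFunctorIsoCompQ _ 0).app _).symm

/-- The property of being a finite projective module. -/
def Pr (X : ModuleCat.{u} R) : Prop := Module.Finite R X ∧ Module.Projective R X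

theorem to_res (hM : DRing.IsPerfectModule R M) :
    ∃ (P : ProjectiveResolution (ModuleCat.of R M)) (d : ℕ),
      (∀ i : ℕ, d < i → IsZero (P.complex.X i)) ∧ ∀ i : ℕ, Module.Finite R (P.complex.X i) := by
  obtain ⟨E, a, b, hvan, hproj, ⟨e⟩⟩ := hM
  -- homology of E
  have hH : ∀ i : ℤ, E.homology i ≅
      ((HomologicalComplex.single (ModuleCat.{u} R) (ComplexShape.up ℤ) 0).obj
        (ModuleCat.of R M)).homology i := fun i =>
    ((DerivedCategory.homologyFunctorFactors (ModuleCat.{u} R) i).app E).symm ≪≫
      (DerivedCategory.homologyFunctor (ModuleCat.{u} R) i).mapIso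
        (e ≪≫ (DerivedCategory.singleFunctorIsoCompQ _ 0).app (ModuleCat.of R M)) ≪≫
      (DerivedCategory.homologyFunctorFactors (ModuleCat.{u} R) i).app _
  have hex : ∀ i : ℤ, i ≠ 0 → E.ExactAt i := by
    intro i hi
    rw [HomologicalComplex.exactAt_iff_isZero_homology]
    exact IsZero.of_iso (HomologicalComplex.isZero_single_obj_homology _ _ _ _ hi) (hH i)
  let φ : E.homology 0 ≅ ModuleCat.of R M :=
    hH 0 ≪≫ HomologicalComplex.singleObjHomologySelfIso _ _ _
  -- cycles in degree 0
  have hcyc : Pr R (E.cycles 0) := by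
    refine PerfRes.prop_cycles (Pr R) (fun X hX => ?_) (fun X Y i r hir hY => ?_) (fun X hX => ?_)
      E (max b 0) (fun i hi => hvan i (Or.inr (by lia))) (fun i => hproj i)
      (fun i hi => hex i (by lia)) (max b 0 + 1).toNat 0 (by lia) le_rfl
    · haveI := hX.2
      infer_instance
    · haveI := hY.1
      haveI := hY.2
      have h1 : ∀ x, r.hom (i.hom x) = x := fun x => by
        have := congrArg (fun f => f.hom x) hir
        simpa using this
      exact ⟨Module.Finite.of_surjective r.hom (fun x => ⟨i.hom x, h1 x⟩),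
        Module.Projective.of_split i.hom r.hom (LinearMap.ext h1)⟩
    · have := ModuleCat.subsingleton_of_isZero hX
      exact ⟨inferInstance, inferInstance⟩
  have hPr : ∀ n : ℕ, Pr R ((PerfRes.P₀ E).X n) := by
    intro n
    cases n with
    | zero =>
      have e := (PerfRes.isoC E).toLinearEquiv
      haveI := hcyc.1
      haveI := hcyc.2
      exact ⟨Module.Finite.equiv e.symm, Module.Projective.of_equiv e.symm⟩
    | succ n =>
      have e := (PerfRes.isoX E (n + 1) (Nat.succ_pos n)).toLinearEquiv
      haveI := (hproj (-((n + 1 : ℕ) : ℤ))).1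
      haveI := (hproj (-((n + 1 : ℕ) : ℤ))).2
      exact ⟨Module.Finite.equiv e.symm, Module.Projective.of_equiv e.symm⟩
  refine ⟨{ complex := PerfRes.P₀ E
            projective := fun n => by haveI := (hPr n).2; infer_instance
            π := PerfRes.π₀ E φ
            quasiIso := PerfRes.quasiIso_π₀ E φ (fun i hi => hex i (by lia)) },
    (-a).toNat, ?_, fun n => (hPr n).1⟩
  intro i hi
  have hi0 : 0 < i := by lia
  exact IsZero.of_iso (hvan _ (Or.inl (by lia))) (PerfRes.isoX E i hi0)

end Groth.Agent.Lib.Helper21.PerfResMod
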