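import Mathlib

set_option autoImplicit false

namespace Groth.Agent.Lib.Helper21.PowSerSub

open MvPowerSeries

variable {σ : Type*} {k : Type*} [Field k]

/-- power series with all coefficients in the subfield `F`, as a subring -/
def coeffSubring (σ : Type*) (F : Subfield k) : Subring (MvPowerSeries σ k) where
  carrier := {f | ∀ n, coeff n f ∈ F}
  mul_mem' := by
    intro a b ha hb n
    classical
    rw [coeff_mul]
    exact Subfield.sum_mem _ fun p _ => mul_mem (ha _) (hb _)
  one_mem' := by
    intro n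
    classical
    rw [coeff_one]
    split_ifs
    · exact one_mem _
    · exact zero_mem _
  add_mem' := by
    intro a b ha hb n
    rw [map_add]
    exact add_mem (ha _) (hb _)
  zero_mem' := by
    intro n
    rw [map_zero]
    exact zero_mem _
  neg_mem' := by
    intro a ha n
    rw [map_neg]
    exact neg_mem (ha _)

theorem mem_coeffSubring {F : Subfield k} {f : MvPowerSeries σ k} :
    f ∈ coeffSubring σ F ↔ ∀ n, coeff n f ∈ F := Iff.rfl

theorem coeffSubring_mono {F G : Subfield k} (h : F ≤ G) : coeffSubring σ F ≤ coeffSubring σ G :=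
  fun _ hf n => h (hf n)

/-- The division lemma: if `v * c = u` with `u`, `v` having coefficients in `F` and `v ≠ 0`,
then `c` has coefficients in `F`. -/
theorem mem_of_mul_eq (F : Subfield k) {c u v : MvPowerSeries σ k}
    (hu : u ∈ coeffSubring σ F) (hv : v ∈ coeffSubring σ F) (hv0 : v ≠ 0) (h : v * c = u) :
    c ∈ coeffSubring σ F := by
  classical
  obtain ⟨π, hπ⟩ := LinearMap.exists_leftInverse_of_injective (Algebra.linearMap F k)
    (LinearMap.ker_eq_bot.mpr (algebraMap F k).injective)
  have hπ' : ∀ x : F, π (x : k) = x := fun x => by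
    have := LinearMap.congr_fun hπ x
    exact this
  set c' : MvPowerSeries σ k := fun m => (π (coeff m c) : k) with hc'
  have hcoeff : ∀ m, coeff m c' = (π (coeff m c) : k) := fun m => rfl
  have h1 : v * c' = u := by
    ext m
    rw [coeff_mul]
    have : ∀ p ∈ Finset.HasAntidiagonal.antidiagonal m, coeff p.1 v * coeff p.2 c' =
        ((π (coeff p.1 v * coeff p.2 c) : F) : k) := by
      intro p _
      rw [hcoeff]
      have : coeff p.1 v * coeff p.2 c = (⟨coeff p.1 v, hv p.1⟩ : F) • coeff p.2 c := rfl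
      rw [this, map_smul, smul_eq_mul]
      rfl
    rw [Finset.sum_congr rfl this, ← AddSubmonoidClass.coe_finsetSum, ← map_sum, ← coeff_mul, h]
    exact congrArg Subtype.val (hπ' ⟨coeff m u, hu m⟩)
  have h2 : c = c' := by
    have : v * c = v * c' := by rw [h, h1]
    exact mul_left_cancel₀ hv0 this
  intro m
  rw [h2, hcoeff]
  exact (π _).2


section Frac

variable {K : Type*} [Field K] [Algebra (MvPowerSeries σ k) K] [IsFractionRing (MvPowerSeries σ k) K]

omit [IsFractionRing (MvPowerSeries σ k) K] in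
theorem mem_closure_iff (F : Subfield k) {x : K} :
    x ∈ Subfield.closure (algebraMap (MvPowerSeries σ k) K '' {f | ∀ n, coeff n f ∈ F}) ↔
      ∃ u ∈ coeffSubring σ F, ∃ v ∈ coeffSubring σ F, v ≠ 0 ∧
        x = algebraMap (MvPowerSeries σ k) K u / algebraMap (MvPowerSeries σ k) K v := by
  constructor
  · intro hx
    rw [Subfield.mem_closure_iff] at hx
    obtain ⟨y, hy, z, hz, rfl⟩ := hx
    have hle : Subring.closure (algebraMap (MvPowerSeries σ k) K '' {f | ∀ n, coeff n f ∈ F}) ≤
        (coeffSubring σ F).map (algebraMap (MvPowerSeries σ k) K) := by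
      rw [Subring.closure_le]
      rintro _ ⟨f, hf, rfl⟩
      exact ⟨f, hf, rfl⟩
    obtain ⟨u, hu, rfl⟩ := hle hy
    obtain ⟨v, hv, rfl⟩ := hle hz
    by_cases hv0 : v = 0
    · refine ⟨0, zero_mem _, 1, one_mem _, one_ne_zero, ?_⟩
      rw [hv0]
      simp
    · exact ⟨u, hu, v, hv, hv0, rfl⟩
  · rintro ⟨u, hu, v, hv, -, rfl⟩
    exact div_mem (Subfield.subset_closure ⟨u, hu, rfl⟩) (Subfield.subset_closure ⟨v, hv, rfl⟩)

theorem iInf_closure_eq {ι : Type*} (F : ι → Subfield k) (e : ℕ)
    (hq : ∀ x : k, x ^ ringExpChar k ^ e ∈ ⨅ i, F i) :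
    (⨅ i, Subfield.closure (algebraMap (MvPowerSeries σ k) K '' {f | ∀ n, coeff n f ∈ F i})) =
      Subfield.closure (algebraMap (MvPowerSeries σ k) K '' {f | ∀ n, coeff n f ∈ ⨅ i, F i}) := by
  apply le_antisymm
  · intro x hx
    rw [Subfield.mem_iInf] at hx
    obtain ⟨a, b, hb, rfl⟩ := IsFractionRing.div_surjective (A := MvPowerSeries σ k) x
    have hb0 : b ≠ 0 := nonZeroDivisors.ne_zero hb
    set q := ringExpChar k ^ e with hqdef
    have hqpos : 0 < q := pow_pos (expChar_pos k (ringExpChar k)) _
    have hd : b ^ q ∈ coeffSubring σ (⨅ i, F i) := by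
      intro n
      rw [← map_iterateFrobenius_expand (ringExpChar k) (expChar_ne_zero k (ringExpChar k)) b e,
        coeff_map, iterateFrobenius_def]
      exact hq _
    have hd0 : b ^ q ≠ 0 := pow_ne_zero _ hb0
    have hbK : algebraMap (MvPowerSeries σ k) K b ≠ 0 := by
      rwa [Ne, FaithfulSMul.algebraMap_eq_zero_iff]
    have hx' : algebraMap (MvPowerSeries σ k) K a / algebraMap (MvPowerSeries σ k) K b =
        algebraMap (MvPowerSeries σ k) K (a * b ^ (q - 1)) / algebraMap (MvPowerSeries σ k) K (b ^ q) := by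
      rw [div_eq_div_iff hbK (by rw [map_pow]; exact pow_ne_zero _ hbK), ← map_mul, ← map_mul]
      congr 1
      rw [mul_assoc, ← pow_succ, Nat.sub_add_cancel hqpos]
    have hc : a * b ^ (q - 1) ∈ coeffSubring σ (⨅ i, F i) := by
      intro n
      rw [Subfield.mem_iInf]
      intro i
      obtain ⟨u, hu, v, hv, hv0, huv⟩ := (mem_closure_iff (F i)).mp (hx i)
      have hvK : algebraMap (MvPowerSeries σ k) K v ≠ 0 := by
        rwa [Ne, FaithfulSMul.algebraMap_eq_zero_iff]
      have h3 : v * (a * b ^ (q - 1)) = u * b ^ q := by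
        apply IsFractionRing.injective (MvPowerSeries σ k) K
        have h4 := hx'.symm.trans huv
        rw [div_eq_div_iff (by rw [map_pow]; exact pow_ne_zero _ hbK) hvK, ← map_mul, ← map_mul] at h4
        rw [mul_comm, h4]
      exact mem_of_mul_eq (F i) (mul_mem hu (coeffSubring_mono (iInf_le F i) hd)) hv hv0 h3 n
    rw [hx']
    exact div_mem (Subfield.subset_closure ⟨_, hc, rfl⟩) (Subfield.subset_closure ⟨_, hd, rfl⟩)
  · exact le_iInf fun i => Subfield.closure_mono
      (Set.image_mono fun f hf n => (iInf_le F i) (hf n))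

end Frac

end Groth.Agent.Lib.Helper21.PowSerSub
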