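import Mathlib
import Groth.Agent.Lib.Helper21.PowSerSub

set_option autoImplicit false

namespace Groth.Agent.Lib.Helper21.PowSerSub

open MvPowerSeries

section S4561

variable {σ : Type*} (p : ℕ) [Fact p.Prime] {k₀ K₀ : Type*} [Field k₀] [Field K₀] [Algebra k₀ K₀]
  [CharP k₀ p]

omit [Fact p.Prime] [CharP k₀ p] in
theorem algebraMap_mem_closure_pow {a : k₀} (ha : a ∈ Subfield.closure (Set.range fun x : k₀ => x ^ p)) :
    algebraMap k₀ K₀ a ∈ Subfield.closure (Set.range fun y : K₀ => y ^ p) := by
  have : Subfield.closure (Set.range fun x : k₀ => x ^ p) ≤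
      (Subfield.closure (Set.range fun y : K₀ => y ^ p)).comap (algebraMap k₀ K₀) := by
    rw [Subfield.closure_le]
    rintro _ ⟨x, rfl⟩
    refine Subfield.subset_closure ⟨algebraMap k₀ K₀ x, ?_⟩
    simp
  exact this ha

/-- every element of `k₀(K₀^p)` is a `K₀^p`-combination of the images of module generators of
`k₀` over `k₀^p` -/
theorem mem_span_of_mem_closure {n : ℕ} (e : Fin n → k₀)
    (he : Submodule.span (Subfield.closure (Set.range fun x : k₀ => x ^ p)) (Set.range e) = ⊤)
    {y : K₀} (hy : y ∈ Subfield.closure (Set.range (algebraMap k₀ K₀) ∪ Set.range fun y : K₀ => y ^ p)) :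
    y ∈ Submodule.span (Subfield.closure (Set.range fun y : K₀ => y ^ p))
      (Set.range fun j => algebraMap k₀ K₀ (e j)) := by
  set F₀ := Subfield.closure (Set.range fun y : K₀ => y ^ p) with hF₀
  set T := Algebra.adjoin F₀ (Set.range (algebraMap k₀ K₀)) with hT
  have : CharP K₀ p := (RingHom.charP_iff (algebraMap k₀ K₀) (algebraMap k₀ K₀).injective p).mp inferInstance
  have hp0 : 0 < p := (Fact.out : p.Prime).pos
  -- T is a subfield
  let T' : Subfield K₀ :=
    { T.toSubring with
      inv_mem' := by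
        intro x hx
        have hx' : x ∈ T := hx
        show x⁻¹ ∈ T
        by_cases hx0 : x = 0
        · rw [hx0, inv_zero]; exact zero_mem _
        have h1 : x⁻¹ = (x⁻¹) ^ p * x ^ (p - 1) := by
          have : x ^ p = x ^ (p - 1) * x := by rw [← pow_succ, Nat.sub_add_cancel hp0]
          rw [inv_pow, this, mul_inv, mul_comm, ← mul_assoc, mul_inv_cancel₀ (pow_ne_zero _ hx0), one_mul]
        rw [h1]
        refine mul_mem ?_ (pow_mem hx' _)
        have : (x⁻¹) ^ p ∈ F₀ := Subfield.subset_closure ⟨x⁻¹, rfl⟩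
        exact T.algebraMap_mem ⟨_, this⟩ }
  have hyT : y ∈ T' := by
    have : Subfield.closure (Set.range (algebraMap k₀ K₀) ∪ Set.range fun y : K₀ => y ^ p) ≤ T' := by
      rw [Subfield.closure_le]
      rintro z (hz | ⟨w, rfl⟩)
      · exact Algebra.subset_adjoin hz
      · have : w ^ p ∈ F₀ := Subfield.subset_closure ⟨w, rfl⟩
        exact T.algebraMap_mem ⟨_, this⟩
    exact this hy
  have hyT2 : y ∈ Subalgebra.toSubmodule T := hyT
  rw [hT, Algebra.adjoin_eq_span] at hyT2
  refine (Submodule.span_le.mpr ?_) hyT2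
  intro z hz
  have hz' : z ∈ Set.range (algebraMap k₀ K₀) := by
    have : Submonoid.closure (Set.range (algebraMap k₀ K₀)) ≤ MonoidHom.mrange (algebraMap k₀ K₀ : k₀ →* K₀) := by
      rw [Submonoid.closure_le]
      rintro _ ⟨x, rfl⟩
      exact ⟨x, rfl⟩
    obtain ⟨x, rfl⟩ := this hz
    exact ⟨x, rfl⟩
  obtain ⟨x, rfl⟩ := hz'
  have hx : x ∈ Submodule.span (Subfield.closure (Set.range fun x : k₀ => x ^ p)) (Set.range e) := by
    rw [he]; trivial
  rw [Submodule.mem_span_range_iff_exists_fun] at hx
  obtain ⟨a, rfl⟩ := hx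
  rw [map_sum]
  refine Submodule.sum_mem _ fun j _ => ?_
  have : algebraMap k₀ K₀ (a j • e j) =
      (⟨algebraMap k₀ K₀ (a j), algebraMap_mem_closure_pow p (a j).2⟩ : F₀) • algebraMap k₀ K₀ (e j) := by
    rw [Subfield.smul_def, Subfield.smul_def, smul_eq_mul, smul_eq_mul, map_mul]
  rw [this]
  exact Submodule.smul_mem _ _ (Submodule.subset_span ⟨j, rfl⟩)

variable {K : Type*} [Field K] [Algebra (MvPowerSeries σ K₀) K]

theorem closure_adjoin_eq
    (hfin : Module.Finite (Subfield.closure (Set.range fun x : k₀ => x ^ p)) k₀)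
    (g : k₀ →+* K) (hg : ∀ x, g x = algebraMap (MvPowerSeries σ K₀) K (C (algebraMap k₀ K₀ x))) :
    Subfield.closure (algebraMap (MvPowerSeries σ K₀) K '' {f | ∀ n, coeff n f ∈
        Subfield.closure (Set.range (algebraMap k₀ K₀) ∪ Set.range fun y : K₀ => y ^ p)}) =
      Subfield.closure (Set.range g ∪
        (Subfield.closure (algebraMap (MvPowerSeries σ K₀) K '' {f | ∀ n, coeff n f ∈
          Subfield.closure (Set.range fun y : K₀ => y ^ p)}) : Set K)) := by
  classical
  have hF01 : Subfield.closure (Set.range fun y : K₀ => y ^ p) ≤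
      Subfield.closure (Set.range (algebraMap k₀ K₀) ∪ Set.range fun y : K₀ => y ^ p) :=
    Subfield.closure_mono Set.subset_union_right
  apply le_antisymm
  · rw [Subfield.closure_le]
    rintro _ ⟨f, hf, rfl⟩
    obtain ⟨n, e, he⟩ := Module.Finite.exists_fin (R := Subfield.closure (Set.range fun x : k₀ => x ^ p)) (M := k₀)
    have hc : ∀ m, ∃ c : Fin n → Subfield.closure (Set.range fun y : K₀ => y ^ p),
        ∑ j, c j • algebraMap k₀ K₀ (e j) = coeff m f := by
      intro m
      have := mem_span_of_mem_closure p e he (hf m)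
      rwa [Submodule.mem_span_range_iff_exists_fun] at this
    choose c hc using hc
    let fj : Fin n → MvPowerSeries σ K₀ := fun j m => (c m j : K₀)
    have hfe : f = ∑ j, C (algebraMap k₀ K₀ (e j)) * fj j := by
      ext m
      rw [map_sum, ← hc m]
      refine Finset.sum_congr rfl fun j _ => ?_
      rw [coeff_C_mul, Subfield.smul_def, smul_eq_mul, mul_comm]
      rfl
    rw [hfe, map_sum]
    refine Subfield.sum_mem _ fun j _ => ?_
    rw [map_mul]
    refine mul_mem ?_ ?_
    · rw [← hg]
      exact Subfield.subset_closure (Or.inl ⟨_, rfl⟩)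
    · refine Subfield.subset_closure (Or.inr ?_)
      exact Subfield.subset_closure ⟨fj j, fun m => (c m j).2, rfl⟩
  · rw [Subfield.closure_le]
    rintro z (⟨x, rfl⟩ | hz)
    · rw [hg]
      refine Subfield.subset_closure ⟨_, ?_, rfl⟩
      intro m
      rw [coeff_C]
      split_ifs
      · exact Subfield.subset_closure (Or.inl ⟨x, rfl⟩)
      · exact zero_mem _
    · have hmono : {f : MvPowerSeries σ K₀ | ∀ n, coeff n f ∈
          Subfield.closure (Set.range fun y : K₀ => y ^ p)} ⊆ {f | ∀ n, coeff n f ∈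
          Subfield.closure (Set.range (algebraMap k₀ K₀) ∪ Set.range fun y : K₀ => y ^ p)} :=
        fun f hf m => hF01 (hf m)
      exact Subfield.closure_mono (Set.image_mono hmono) hz

end S4561

end Groth.Agent.Lib.Helper21.PowSerSub
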