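import Mathlib

set_option autoImplicit false

namespace Groth.Agent.Lib.Helper21.PowSerSub

open MvPowerSeries TensorProduct

section S4551

variable {σ : Type*} (k : Type*) [Field k] (B : Type*) [CommRing B] [IsDomain B] [Algebra k B]
  [Module.Finite k B]

/-- the comparison map `k[[T]] ⊗ B → B[[T]]` -/
noncomputable def toPS : (MvPowerSeries σ k) ⊗[k] B →ₐ[k] MvPowerSeries σ B :=
  Algebra.TensorProduct.productMap (MvPowerSeries.mapAlgHom (σ := σ) (Algebra.ofId k B))
    ((Algebra.ofId B (MvPowerSeries σ B)).restrictScalars k)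

omit [IsDomain B] [Module.Finite k B] in
theorem toPS_tmul (a : MvPowerSeries σ k) (b : B) :
    toPS (σ := σ) k B (a ⊗ₜ b) = MvPowerSeries.map (algebraMap k B) a * C b := by
  rw [toPS, Algebra.TensorProduct.productMap_apply_tmul]
  rfl

theorem toPS_injective : Function.Injective (toPS (σ := σ) k B) := by
  classical
  rw [injective_iff_map_eq_zero]
  intro z hz
  let b := Module.finBasis k B
  let bb := Algebra.TensorProduct.basis (MvPowerSeries σ k) b
  have hzsum : z = ∑ i, bb.repr z i • bb i := (bb.sum_repr z).symm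
  have hcoeff : ∀ m, ∑ i, coeff m (bb.repr z i) • b i = 0 := by
    intro m
    have h1 : coeff m (toPS (σ := σ) k B z) = 0 := by rw [hz, map_zero]
    rw [hzsum, map_sum, map_sum] at h1
    rw [← h1]
    refine Finset.sum_congr rfl fun i _ => ?_
    rw [Algebra.TensorProduct.basis_repr_symm_apply', toPS_tmul, coeff_mul_C, coeff_map,
      Algebra.smul_def]
  have hall : ∀ i, bb.repr z i = 0 := by
    intro i
    ext m
    have := Fintype.linearIndependent_iff.mp b.linearIndependent _ (hcoeff m) i
    rw [this, map_zero]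
  rw [hzsum]
  exact Finset.sum_eq_zero fun i _ => by rw [hall i, zero_smul]

instance : IsDomain (MvPowerSeries σ B) := NoZeroDivisors.to_isDomain _

theorem isReduced_tensor : IsReduced ((MvPowerSeries σ k) ⊗[k] B) :=
  isReduced_of_injective (toPS (σ := σ) k B) (toPS_injective k B)

theorem isReduced_frac_tensor (σ : Type*) (K : Type*) [Field K] [Algebra (MvPowerSeries σ k) K]
    [IsFractionRing (MvPowerSeries σ k) K]
    [Algebra k K] [IsScalarTower k (MvPowerSeries σ k) K] : IsReduced (K ⊗[k] B) := by
  classical
  have := isReduced_tensor (σ := σ) k B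
  constructor
  intro z hz
  let b := Module.finBasis k B
  let bb := Algebra.TensorProduct.basis K b
  obtain ⟨s, hs⟩ := IsLocalization.exist_integer_multiples_of_finite
    (nonZeroDivisors (MvPowerSeries σ k)) (fun i => bb.repr z i)
  choose a ha using hs
  let w : (MvPowerSeries σ k) ⊗[k] B := ∑ i, a i ⊗ₜ b i
  let ψ : (MvPowerSeries σ k) ⊗[k] B →ₐ[k] K ⊗[k] B :=
    Algebra.TensorProduct.map (IsScalarTower.toAlgHom k (MvPowerSeries σ k) K) (AlgHom.id k B)
  have hψinj : Function.Injective ψ :=
    Module.Flat.rTensor_preserves_injective_linearMap _ (IsFractionRing.injective _ _)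
  have hψw : ψ w = algebraMap (MvPowerSeries σ k) K s • z := by
    conv_rhs => rw [← bb.sum_repr z]
    rw [map_sum, Finset.smul_sum]
    refine Finset.sum_congr rfl fun i _ => ?_
    rw [Algebra.TensorProduct.map_tmul, smul_smul, ← Algebra.smul_def]
    show _ = ((s : MvPowerSeries σ k) • bb.repr z i) • bb i
    rw [← ha i, Algebra.TensorProduct.basis_repr_symm_apply']
    rfl
  have hnil : IsNilpotent (ψ w) := by
    rw [hψw]
    obtain ⟨n, hn⟩ := hz
    exact ⟨n, by rw [smul_pow, hn, smul_zero]⟩
  have hw0 : w = 0 := ((IsNilpotent.map_iff hψinj).mp hnil).eq_zero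
  rw [hw0, map_zero] at hψw
  have hs0 : algebraMap (MvPowerSeries σ k) K s ≠ 0 := by
    rw [Ne, FaithfulSMul.algebraMap_eq_zero_iff]
    exact nonZeroDivisors.ne_zero s.2
  exact (smul_eq_zero.mp hψw.symm).resolve_left hs0

theorem isGeometricallyReduced_frac (σ : Type*) (K : Type*) [Field K]
    [Algebra (MvPowerSeries σ k) K] [IsFractionRing (MvPowerSeries σ k) K]
    [Algebra k K] [IsScalarTower k (MvPowerSeries σ k) K] : Algebra.IsGeometricallyReduced k K := by
  rw [Algebra.isGeometricallyReduced_field_iff]
  have h : IsReduced (K ⊗[k] AlgebraicClosure k) := by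
    apply IsReduced.tensorProduct_of_flat_of_forall_fg
    intro B hB
    have h1 : Algebra.FiniteType k B := (Subalgebra.fg_iff_finiteType B).mp hB
    have h2 : Algebra.IsIntegral k B :=
      Algebra.IsIntegral.of_injective B.val Subtype.val_injective
    have h3 : Module.Finite k B := Algebra.IsIntegral.finite
    exact isReduced_frac_tensor k B σ K
  exact isReduced_of_injective (Algebra.TensorProduct.comm k (AlgebraicClosure k) K).toAlgHom
    (AlgEquiv.injective _)

end S4551

end Groth.Agent.Lib.Helper21.PowSerSub
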