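import Mathlib
import Groth.Prelude.Def_EGA41
import Groth.Agent.Lib.Helper21.PBasisG

set_option autoImplicit false

namespace Groth.Agent.Lib.Helper21.PowSerSub

open Groth.Agent.Lib.Helper21.PBasis

universe u

section Family

variable (p : ℕ) [Fact p.Prime] (K : Type u) [Field K] [CharP K p]

/-- the kernel of a family of derivations as a subfield -/
def derKer {k₀ : Type*} [Field k₀] [Algebra k₀ K] {ι : Type*} (d : ι → Derivation k₀ K K)
    (α : Set ι) : Subfield K where
  carrier := {y | ∀ i ∈ α, d i y = 0}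
  mul_mem' := by
    intro a b ha hb i hi
    rw [Derivation.leibniz, ha i hi, hb i hi, smul_zero, smul_zero, add_zero]
  one_mem' := fun i _ => Derivation.map_one_eq_zero _
  add_mem' := by
    intro a b ha hb i hi
    rw [map_add, ha i hi, hb i hi, add_zero]
  zero_mem' := fun i _ => map_zero _
  neg_mem' := by
    intro a ha i hi
    rw [map_neg, ha i hi, neg_zero]
  inv_mem' := by
    intro a ha i hi
    rw [Derivation.leibniz_inv, ha i hi, smul_zero]

theorem pPow_le_frobRange {y : K} (hy : y ∈ EGA41.pPowerSubalgebra p (⊥ : Subfield K) K) :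
    ∃ g : K, g ^ p = y := by
  have h3 : ∀ y ∈ EGA41.pPowerSubalgebra p (⊥ : Subfield K) K, y ∈ (frobenius K p).fieldRange := by
    intro y hy
    induction hy using Algebra.adjoin_induction with
    | mem z hz =>
      obtain ⟨b, rfl⟩ := hz
      exact ⟨b, rfl⟩
    | algebraMap r =>
      have : (r : K) ∈ (⊥ : Subfield K) := r.2
      exact (bot_le : (⊥ : Subfield K) ≤ (frobenius K p).fieldRange) this
    | add y z _ _ hy hz => exact add_mem hy hz
    | mul y z _ _ hy hz => exact mul_mem hy hz
  obtain ⟨g, hg⟩ := h3 y hy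
  exact ⟨g, hg⟩

/-- A downward directed family of subfields of finite index containing `K^p`, with intersection
`K^p`. -/
theorem exists_subfield_family :
    ∃ (Bs : Set K) (F : Finset Bs → Subfield K),
      (∀ α β, α ⊆ β → F β ≤ F α) ∧
      (∀ α, ∀ y : K, y ^ p ∈ F α) ∧
      (∀ α, Module.Finite (F α) K) ∧
      (∀ y : K, (∀ α, y ∈ F α) → ∃ g, g ^ p = y) := by
  classical
  let k₀ := (⊥ : Subfield K)
  obtain ⟨Bs, -, -, hBtop, b, hb⟩ := exists_kaehler_basis_of_pIndSet'' p k₀ (pIndSet_empty p k₀ (K := K))
  let d : Bs → Derivation k₀ K K := fun t => (b.coord t).compDer (KaehlerDifferential.D k₀ K)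
  have hd : ∀ t y, d t y = b.repr (KaehlerDifferential.D k₀ K y) t := fun t y => rfl
  have hp0 : 0 < p := (Fact.out : p.Prime).pos
  have hpow : ∀ y : K, KaehlerDifferential.D k₀ K (y ^ p) = 0 := by
    intro y
    rw [D_eq_zero_iff p k₀]
    exact pow_mem_Cp p k₀ K y
  refine ⟨Bs, fun α => derKer K d (α : Set Bs), ?_, ?_, ?_, ?_⟩
  · intro α β hαβ y hy i hi
    exact hy i (hαβ hi)
  · intro α y i _
    rw [hd, hpow, map_zero, Finsupp.zero_apply]
  · intro α
    set Fα := derKer K d (α : Set Bs) with hFα
    have hCle : ∀ c ∈ EGA41.pPowerSubalgebra p k₀ K, c ∈ Fα := by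
      intro c hc i _
      rw [hd, (D_eq_zero_iff p k₀ c).mpr hc, map_zero, Finsupp.zero_apply]
    have hadj : Algebra.adjoin Fα ((fun t : Bs => (t : K)) '' (α : Set Bs)) = ⊤ := by
      rw [eq_top_iff]
      intro y _
      have hy : y ∈ Algebra.adjoin ↥(EGA41.pPowerSubalgebra p k₀ K) Bs := by rw [hBtop]; trivial
      induction hy using Algebra.adjoin_induction with
      | mem z hz =>
        by_cases hzα : (⟨z, hz⟩ : Bs) ∈ α
        · exact Algebra.subset_adjoin ⟨⟨z, hz⟩, hzα, rfl⟩
        · have : z ∈ Fα := by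
            intro i hi
            rw [hd]
            have : KaehlerDifferential.D k₀ K z = b ⟨z, hz⟩ := (hb ⟨z, hz⟩).symm
            rw [this, b.repr_self, Finsupp.single_apply, if_neg]
            rintro rfl
            exact hzα hi
          exact Subalgebra.algebraMap_mem _ (⟨z, this⟩ : Fα)
      | algebraMap r => exact Subalgebra.algebraMap_mem _ (⟨r, hCle _ r.2⟩ : Fα)
      | add y z _ _ hy hz => exact add_mem (hy trivial) (hz trivial)
      | mul y z _ _ hy hz => exact mul_mem (hy trivial) (hz trivial)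
    have hfg := fg_adjoin_of_finite (R := Fα) (s := (fun t : Bs => (t : K)) '' (α : Set Bs))
      (α.finite_toSet.image _) (by
        rintro _ ⟨t, -, rfl⟩
        refine IsIntegral.of_pow hp0 ?_
        have : (t : K) ^ p ∈ Fα := by
          intro i _
          rw [hd, hpow, map_zero, Finsupp.zero_apply]
        exact isIntegral_algebraMap (x := (⟨_, this⟩ : Fα)))
    rw [hadj] at hfg
    exact Module.finite_def.mpr hfg
  · intro y hy
    apply pPow_le_frobRange p K
    rw [← D_eq_zero_iff p k₀]
    apply b.repr.injective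
    ext t
    rw [map_zero, Finsupp.zero_apply, ← hd]
    exact hy {t} t (Finset.mem_singleton_self t)

end Family

end Groth.Agent.Lib.Helper21.PowSerSub
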