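import Mathlib

set_option autoImplicit false
set_option linter.unusedSectionVars false

namespace Groth.Agent.Lib.Helper21.PowSerSub

open MvPowerSeries

section Decomp

variable {σ : Type*} [Fintype σ] [DecidableEq σ] (p : ℕ) (hp : p ≠ 0)
variable {F k : Type*} [Field F] [Field k] [Algebra F k]

/-- `h(T) ↦ h(T^p)` with coefficients pushed to `k` -/
noncomputable def rho : MvPowerSeries σ F →+* MvPowerSeries σ k :=
  (expand (σ := σ) (R := k) p hp).toRingHom.comp (MvPowerSeries.map (algebraMap F k))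

theorem rho_apply (h : MvPowerSeries σ F) :
    rho p hp (k := k) h = expand p hp (MvPowerSeries.map (algebraMap F k) h) := rfl

/-- exponent vector attached to a residue vector -/
noncomputable def tf (m : σ → Fin p) : σ →₀ ℕ := Finsupp.equivFunOnFinite.symm (fun s => (m s : ℕ))

theorem tf_apply (m : σ → Fin p) (s : σ) : tf p m s = (m s : ℕ) := rfl

theorem coeff_rho_smul (h : MvPowerSeries σ F) (M' : σ →₀ ℕ) :
    coeff (p • M') (rho p hp (k := k) h) = algebraMap F k (coeff M' h) := by
  rw [rho_apply, coeff_expand_smul, coeff_map]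

theorem coeff_rho_mul_monomial (h : MvPowerSeries σ F) (m m₀ : σ → Fin p) (a : k) (M' : σ →₀ ℕ) :
    coeff (p • M' + tf p m₀) (rho p hp h * monomial (tf p m) a) =
      if m = m₀ then algebraMap F k (coeff M' h) * a else 0 := by
  rw [coeff_mul_monomial]
  split_ifs with h1 h2 h2
  · subst h2
    rw [add_tsub_cancel_right, coeff_rho_smul]
  · obtain ⟨s, hs⟩ : ∃ s, m s ≠ m₀ s := Function.ne_iff.mp h2
    rw [rho_apply, coeff_expand_of_not_dvd (i := s), zero_mul]
    rw [Finsupp.tsub_apply, Finsupp.add_apply, Finsupp.smul_apply, tf_apply, tf_apply, smul_eq_mul]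
    have h1s := h1 s
    rw [Finsupp.add_apply, Finsupp.smul_apply, tf_apply, tf_apply, smul_eq_mul] at h1s
    rintro ⟨c, hc⟩
    apply hs
    apply Fin.ext
    have e1 : p * M' s + (m₀ s : ℕ) = p * c + (m s : ℕ) := by omega
    have e2 := congrArg (· % p) e1
    simp only [Nat.mul_add_mod] at e2
    rw [Nat.mod_eq_of_lt (m₀ s).2, Nat.mod_eq_of_lt (m s).2] at e2
    exact e2.symm
  · subst h2
    exact absurd (le_add_left le_rfl) h1
  · rfl

variable {J : Type*} [Fintype J] (e : Module.Basis J F k)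

theorem coeff_sum (h : J × (σ → Fin p) → MvPowerSeries σ F) (M' : σ →₀ ℕ) (m₀ : σ → Fin p) :
    coeff (p • M' + tf p m₀) (∑ i, rho p hp (h i) * monomial (tf p i.2) (e i.1)) =
      ∑ j, coeff M' (h (j, m₀)) • e j := by
  rw [map_sum, Fintype.sum_prod_type]
  refine Finset.sum_congr rfl fun j _ => ?_
  simp_rw [coeff_rho_mul_monomial]
  rw [Finset.sum_ite_eq' Finset.univ m₀, if_pos (Finset.mem_univ _), Algebra.smul_def]

include hp in
theorem exists_decomp (M : σ →₀ ℕ) : ∃ (M' : σ →₀ ℕ) (m₀ : σ → Fin p), M = p • M' + tf p m₀ := by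
  refine ⟨Finsupp.equivFunOnFinite.symm (fun s => M s / p),
    fun s => ⟨M s % p, Nat.mod_lt _ (Nat.pos_of_ne_zero hp)⟩, ?_⟩
  ext s
  rw [Finsupp.add_apply, Finsupp.smul_apply, tf_apply, smul_eq_mul]
  exact (Nat.div_add_mod (M s) p).symm

theorem psi_injective (h : J × (σ → Fin p) → MvPowerSeries σ F)
    (h0 : ∑ i, rho p hp (h i) * monomial (tf p i.2) (e i.1) = 0) : ∀ i, h i = 0 := by
  rintro ⟨j₀, m₀⟩
  ext M'
  have := coeff_sum p hp e h M' m₀
  rw [h0, map_zero] at this
  rw [Fintype.linearIndependent_iff.mp e.linearIndependent _ this.symm j₀, map_zero]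

theorem psi_surjective (f : MvPowerSeries σ k) :
    ∃ h : J × (σ → Fin p) → MvPowerSeries σ F,
      f = ∑ i, rho p hp (h i) * monomial (tf p i.2) (e i.1) := by
  let h : J × (σ → Fin p) → MvPowerSeries σ F :=
    fun i => (fun M' => e.repr (coeff (p • M' + tf p i.2) f) i.1 : MvPowerSeries σ F)
  have hh : ∀ i M', coeff M' (h i) = e.repr (coeff (p • M' + tf p i.2) f) i.1 := fun i M' => rfl
  refine ⟨h, ?_⟩
  ext M
  obtain ⟨M', m₀, rfl⟩ := exists_decomp p hp M
  rw [coeff_sum p hp e h M' m₀]
  simp_rw [hh]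
  exact (e.sum_repr _).symm

/-- the subring `F[[T^p]]` of `k[[T]]` -/
noncomputable def psSub (σ : Type*) (p : ℕ) (hp : p ≠ 0) (F k : Type*) [Field F] [Field k] [Algebra F k] :
    Subring (MvPowerSeries σ k) := (rho (σ := σ) p hp (F := F) (k := k)).range

theorem isNoetherianRing_psSub : IsNoetherianRing (psSub σ p hp F k) :=
  isNoetherianRing_of_surjective _ _ (rho (σ := σ) p hp (F := F) (k := k)).rangeRestrict
    (RingHom.rangeRestrict_surjective _)

theorem free_finite_psSub [Module.Finite F k] :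
    Module.Free (psSub σ p hp F k) (MvPowerSeries σ k) ∧
      Module.Finite (psSub σ p hp F k) (MvPowerSeries σ k) := by
  let e := Module.finBasis F k
  let v : Fin (Module.finrank F k) × (σ → Fin p) → MvPowerSeries σ k :=
    fun i => monomial (tf p i.2) (e i.1)
  have hli : LinearIndependent (psSub σ p hp F k) v := by
    rw [Fintype.linearIndependent_iff]
    intro g hg
    have hg' : ∀ i, ∃ h, rho p hp (F := F) (k := k) h = (g i : MvPowerSeries σ k) := fun i => (g i).2
    choose h hh using hg'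
    have h0 : ∑ i, rho p hp (h i) * monomial (tf p i.2) (e i.1) = 0 := by
      rw [← hg]
      refine Finset.sum_congr rfl fun i _ => ?_
      rw [hh, Subring.smul_def, smul_eq_mul]
    intro i
    apply Subtype.ext
    rw [← hh, psi_injective p hp e h h0 i, map_zero]
    rfl
  have hsp : ⊤ ≤ Submodule.span (psSub σ p hp F k) (Set.range v) := by
    intro f _
    obtain ⟨h, rfl⟩ := psi_surjective p hp e f
    refine Submodule.sum_mem _ fun i _ => ?_
    have : rho p hp (h i) * monomial (tf p i.2) (e i.1) =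
        (⟨rho p hp (h i), ⟨h i, rfl⟩⟩ : psSub σ p hp F k) • v i := by
      rw [Subring.smul_def, smul_eq_mul]
    rw [this]
    exact Submodule.smul_mem _ _ (Submodule.subset_span ⟨i, rfl⟩)
  let b := Module.Basis.mk hli hsp
  exact ⟨Module.Free.of_basis b, Module.Finite.of_basis b⟩

/-- division lemma -/
theorem mem_psSub_of_mul_eq [Module.Finite F k] {c u v : MvPowerSeries σ k}
    (hu : u ∈ psSub σ p hp F k) (hv : v ∈ psSub σ p hp F k) (hv0 : v ≠ 0) (h : v * c = u) :
    c ∈ psSub σ p hp F k := by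
  let e := Module.finBasis F k
  obtain ⟨π, hπ⟩ := LinearMap.exists_leftInverse_of_injective (Algebra.linearMap F k)
    (LinearMap.ker_eq_bot.mpr (algebraMap F k).injective)
  have hπ' : ∀ x : F, π (algebraMap F k x) = x := fun x => LinearMap.congr_fun hπ x
  obtain ⟨u', rfl⟩ := hu
  obtain ⟨v', rfl⟩ := hv
  obtain ⟨hc, rfl⟩ := psi_surjective p hp e c
  let c' : MvPowerSeries σ F := ∑ j, hc (j, fun _ => ⟨0, Nat.pos_of_ne_zero hp⟩) * C (π (e j))
  have htf0 : tf p (fun _ : σ => (⟨0, Nat.pos_of_ne_zero hp⟩ : Fin p)) = 0 := by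
    ext s; rfl
  have h1 : v' * c' = u' := by
    ext M'
    have e1 : coeff (p • M' + tf p (fun _ : σ => (⟨0, Nat.pos_of_ne_zero hp⟩ : Fin p)))
        (rho p hp (k := k) u') = algebraMap F k (coeff M' u') := by
      rw [htf0, add_zero, coeff_rho_smul]
    rw [← h, Finset.mul_sum] at e1
    have e2 : ∀ i : Fin (Module.finrank F k) × (σ → Fin p),
        rho p hp v' * (rho p hp (hc i) * monomial (tf p i.2) (e i.1)) =
          rho p hp ((fun i => v' * hc i) i) * monomial (tf p i.2) (e i.1) := by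
      intro i
      rw [map_mul, mul_assoc]
    rw [Finset.sum_congr rfl (fun i _ => e2 i),
      coeff_sum p hp e (fun i => v' * hc i) M' _] at e1
    have e3 := congrArg π e1
    rw [hπ', map_sum] at e3
    rw [← e3, Finset.mul_sum, map_sum]
    refine Finset.sum_congr rfl fun j _ => ?_
    rw [map_smul, smul_eq_mul, ← mul_assoc, coeff_mul_C]
  have h2 : rho p hp (k := k) v' * rho p hp c' =
      rho p hp v' * ∑ i, rho p hp (hc i) * monomial (tf p i.2) (e i.1) := by
    rw [← map_mul, h1, h]
  exact ⟨c', mul_left_cancel₀ hv0 h2⟩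

theorem pow_mem_psSub [ExpChar k p] (hF : ∀ y : k, ∃ z : F, algebraMap F k z = y ^ p)
    (b : MvPowerSeries σ k) : b ^ p ∈ psSub σ p hp F k := by
  choose z hz using hF
  let b' : MvPowerSeries σ F := fun M => z (coeff M b)
  have hb' : ∀ M, coeff M b' = z (coeff M b) := fun M => rfl
  refine ⟨b', ?_⟩
  rw [← map_frobenius_expand p hp, map_expand, rho_apply]
  congr 1
  ext M
  rw [coeff_map, coeff_map, hb']
  exact hz _

end Decomp

end Groth.Agent.Lib.Helper21.PowSerSub
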