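import Mathlib
import Groth.Agent.Lib.Helper21.PowSerSubD
import Groth.Agent.Lib.Helper21.PowSerSubE

set_option autoImplicit false
set_option linter.unusedSectionVars false

namespace Groth.Agent.Lib.Helper21.PowSerSub

open MvPowerSeries

universe u

theorem mem_closure_image_iff {A K : Type*} [CommRing A] [Field K] [Algebra A K]
    (S : Subring A) {x : K} :
    x ∈ Subfield.closure (algebraMap A K '' (S : Set A)) ↔
      ∃ u ∈ S, ∃ v ∈ S, v ≠ 0 ∧ x = algebraMap A K u / algebraMap A K v := by
  constructor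
  · intro hx
    rw [Subfield.mem_closure_iff] at hx
    obtain ⟨y, hy, z, hz, rfl⟩ := hx
    have hle : Subring.closure (algebraMap A K '' (S : Set A)) ≤ S.map (algebraMap A K) := by
      rw [Subring.closure_le]
      rintro _ ⟨f, hf, rfl⟩
      exact ⟨f, hf, rfl⟩
    obtain ⟨u, hu, rfl⟩ := hle hy
    obtain ⟨v, hv, rfl⟩ := hle hz
    by_cases hv0 : v = 0
    · refine ⟨0, zero_mem _, 1, one_mem _, ?_, ?_⟩
      · intro h10
        have : (algebraMap A K 1) = algebraMap A K 0 := by rw [h10]
        rw [map_one, map_zero] at this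
        exact one_ne_zero this
      · rw [hv0]
        simp
    · exact ⟨u, hu, v, hv, hv0, rfl⟩
  · rintro ⟨u, hu, v, hv, -, rfl⟩
    exact div_mem (Subfield.subset_closure ⟨u, hu, rfl⟩) (Subfield.subset_closure ⟨v, hv, rfl⟩)

section Main

variable (p : ℕ) [Fact p.Prime] (k : Type u) [Field k] [CharP k p]
  (σ : Type) [Fintype σ] [DecidableEq σ]

theorem psSub_mono (hp : p ≠ 0) {F₁ F₂ : Subfield k} (h : F₁ ≤ F₂) :
    psSub σ p hp F₁ k ≤ psSub σ p hp F₂ k := by
  rintro _ ⟨g, rfl⟩
  refine ⟨MvPowerSeries.map (Subfield.inclusion h) g, ?_⟩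
  rw [rho_apply, rho_apply]
  congr 1

theorem S4548_aux (K : Type u) [Field K] [Algebra (MvPowerSeries σ k) K]
    [IsFractionRing (MvPowerSeries σ k) K] :
    ∃ (ι : Type u) (_ : Nonempty ι) (S : ι → Subring (MvPowerSeries σ k)),
      (∀ a b : ι, ∃ c, S c ≤ S a ⊓ S b) ∧
      (∀ i, IsNoetherianRing (S i) ∧ Module.Free (S i) (MvPowerSeries σ k) ∧
        Module.Finite (S i) (MvPowerSeries σ k)) ∧
      ((⨅ i, (Subfield.closure (algebraMap (MvPowerSeries σ k) K '' (S i)) : Set K))) =
        Set.range fun x : K => x ^ p := by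
  classical
  have hp : p ≠ 0 := (Fact.out : p.Prime).ne_zero
  have hp0 : 0 < p := (Fact.out : p.Prime).pos
  have : ExpChar k p := ExpChar.prime Fact.out
  obtain ⟨Bs, F, hanti, hpow, hfin, hint⟩ := exists_subfield_family p k
  have hFpow : ∀ α, ∀ y : k, ∃ z : F α, algebraMap (F α) k z = y ^ p :=
    fun α y => ⟨⟨y ^ p, hpow α y⟩, rfl⟩
  refine ⟨Finset Bs, ⟨∅⟩, fun α => psSub σ p hp (F α) k, ?_, ?_, ?_⟩
  · intro a b
    exact ⟨a ∪ b, le_inf (psSub_mono p k σ hp (hanti _ _ Finset.subset_union_left))
      (psSub_mono p k σ hp (hanti _ _ Finset.subset_union_right))⟩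
  · intro α
    have := hfin α
    exact ⟨isNoetherianRing_psSub p hp, (free_finite_psSub p hp).1, (free_finite_psSub p hp).2⟩
  · have hinjK : Function.Injective (algebraMap (MvPowerSeries σ k) K) := IsFractionRing.injective _ _
    ext x
    rw [Set.iInf_eq_iInter, Set.mem_iInter]
    constructor
    · intro hx
      obtain ⟨a, b, hb, rfl⟩ := IsFractionRing.div_surjective (A := MvPowerSeries σ k) x
      have hb0 : b ≠ 0 := nonZeroDivisors.ne_zero hb
      have hbK : algebraMap (MvPowerSeries σ k) K b ≠ 0 := by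
        rwa [Ne, FaithfulSMul.algebraMap_eq_zero_iff]
      have hx' : algebraMap (MvPowerSeries σ k) K a / algebraMap (MvPowerSeries σ k) K b =
          algebraMap (MvPowerSeries σ k) K (a * b ^ (p - 1)) / algebraMap (MvPowerSeries σ k) K (b ^ p) := by
        rw [div_eq_div_iff hbK (by rw [map_pow]; exact pow_ne_zero _ hbK), ← map_mul, ← map_mul]
        congr 1
        rw [mul_assoc, ← pow_succ, Nat.sub_add_cancel hp0]
      have hc : ∀ α, a * b ^ (p - 1) ∈ psSub σ p hp (F α) k := by
        intro α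
        have := hfin α
        obtain ⟨u, hu, v, hv, hv0, huv⟩ := (mem_closure_image_iff _).mp (hx α)
        have hvK : algebraMap (MvPowerSeries σ k) K v ≠ 0 := by
          rwa [Ne, FaithfulSMul.algebraMap_eq_zero_iff]
        have h3 : v * (a * b ^ (p - 1)) = u * b ^ p := by
          apply hinjK
          have h4 := hx'.symm.trans huv
          rw [div_eq_div_iff (by rw [map_pow]; exact pow_ne_zero _ hbK) hvK, ← map_mul, ← map_mul] at h4
          rw [mul_comm, h4]
        exact mem_psSub_of_mul_eq p hp (mul_mem hu (pow_mem_psSub p hp (hFpow α) b)) hv hv0 h3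
      -- `c` is a `p`-th power
      obtain ⟨c', hc'⟩ := hc ∅
      have hcoef : ∀ M', ∃ g : k, g ^ p = coeff (p • M') (a * b ^ (p - 1)) := by
        intro M'
        apply hint
        intro α
        obtain ⟨h, hh⟩ := hc α
        rw [← hh, coeff_rho_smul]
        exact (coeff M' h).2
      choose g hg using hcoef
      let y : MvPowerSeries σ k := fun M' => g M'
      have hy : y ^ p = a * b ^ (p - 1) := by
        rw [← map_frobenius_expand p hp, map_expand, ← hc', rho_apply]
        congr 1
        ext M'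
        rw [coeff_map, coeff_map]
        have : coeff M' y = g M' := rfl
        rw [this, frobenius_def, hg, ← hc', coeff_rho_smul]
      refine ⟨algebraMap (MvPowerSeries σ k) K y / algebraMap (MvPowerSeries σ k) K b, ?_⟩
      show (_ / _) ^ p = _
      rw [hx', div_pow, ← map_pow, ← map_pow, hy]
    · rintro ⟨x, rfl⟩ α
      obtain ⟨a, b, hb, rfl⟩ := IsFractionRing.div_surjective (A := MvPowerSeries σ k) x
      show (_ / _) ^ p ∈ Subfield.closure _
      rw [div_pow, ← map_pow, ← map_pow]
      exact div_mem (Subfield.subset_closure ⟨_, pow_mem_psSub p hp (hFpow α) a, rfl⟩)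
        (Subfield.subset_closure ⟨_, pow_mem_psSub p hp (hFpow α) b, rfl⟩)

end Main

end Groth.Agent.Lib.Helper21.PowSerSub
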