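import Mathlib

/-!
# Maps from bounded complexes of projectives to complexes which are acyclic in high degrees
-/

set_option autoImplicit false
universe v u
open CategoryTheory CategoryTheory.Limits

namespace Groth.Agent.Lib.Helper21.ProjLift

variable {A : Type u} [Category.{v} A] [Abelian A]

lemma epi_map_of_natIso {C D : Type*} [Category C] [Category D] {F G : C ⥤ D} (e : F ≅ G)
    {X Y : C} (f : X ⟶ Y) [Epi (G.map f)] : Epi (F.map f) := by
  have : F.map f = e.hom.app X ≫ G.map f ≫ e.inv.app Y := by simp
  rw [this]
  infer_instance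

lemma mono_map_of_natIso {C D : Type*} [Category C] [Category D] {F G : C ⥤ D} (e : F ≅ G)
    {X Y : C} (f : X ⟶ Y) [Mono (G.map f)] : Mono (F.map f) := by
  have : F.map f = e.hom.app X ≫ G.map f ≫ e.inv.app Y := by simp
  rw [this]
  infer_instance

/-- A morphism from a bounded complex of projectives living in degrees `≥ n` to a complex whose
cohomology vanishes in degrees `≥ n` is homotopic to zero. -/
theorem homotopy_zero_of_isLE {P C : CochainComplex A ℤ} (n b : ℤ) [P.IsStrictlyGE n]
    [P.IsStrictlyLE b] [∀ i, Projective (P.X i)] (hC : C.IsLE (n - 1)) (f : P ⟶ C) :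
    Nonempty (Homotopy f 0) := by
  letI : HasDerivedCategory A := HasDerivedCategory.standard A
  haveI : P.IsKProjective := CochainComplex.isKProjective_of_projective P b
  let ι := C.ιTruncLE (n - 1)
  haveI : QuasiIso ι := (CochainComplex.quasiIso_ιTruncLE_iff C (n - 1)).2 hC
  let q := HomotopyCategory.quotient A (ComplexShape.up ℤ)
  refine ⟨HomotopyCategory.homotopyOfEq _ _ ?_⟩
  rw [Functor.map_zero]
  apply (CochainComplex.IsKProjective.Qh_map_bijective P (q.obj C)).1
  rw [Functor.map_zero]
  haveI hι : IsIso (DerivedCategory.Qh.map (q.map ι)) :=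
    (NatIso.isIso_map_iff (DerivedCategory.quotientCompQhIso A) ι).2 inferInstance
  obtain ⟨g, hg⟩ := (CochainComplex.IsKProjective.Qh_map_bijective P
    (q.obj (C.truncLE (n - 1)))).2 (DerivedCategory.Qh.map (q.map f) ≫
      inv (DerivedCategory.Qh.map (q.map ι)))
  obtain ⟨g₀, rfl⟩ := q.map_surjective g
  have hg₀ : g₀ = 0 := by
    ext i
    by_cases hi : i < n
    · exact (P.isZero_of_isStrictlyGE n i hi).eq_of_src _ _
    · exact ((C.truncLE (n - 1)).isZero_of_isStrictlyLE (n - 1) i (by omega)).eq_of_tgt _ _
  have h1 : DerivedCategory.Qh.map (q.map f) =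
      DerivedCategory.Qh.map (q.map g₀) ≫ DerivedCategory.Qh.map (q.map ι) := by
    rw [hg]
    simp
  rw [h1, hg₀]
  simp

/-- The cone of a morphism which is an isomorphism on cohomology in degrees `> n` and an
epimorphism in degree `n` has vanishing cohomology in degrees `≥ n`. -/
theorem mappingCone_isLE {E L : CochainComplex A ℤ} (α : E ⟶ L) (n : ℤ)
    (hiso : ∀ i : ℤ, n < i → IsIso (HomologicalComplex.homologyMap α i))
    (hepi : Epi (HomologicalComplex.homologyMap α n)) :
    (CochainComplex.mappingCone α).IsLE (n - 1) := by
  letI : HasDerivedCategory A := HasDerivedCategory.standard A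
  rw [CochainComplex.isLE_iff]
  intro i hi
  rw [HomologicalComplex.exactAt_iff_isZero_homology]
  let T := DerivedCategory.Q.mapTriangle.obj (CochainComplex.mappingCone.triangle α)
  have hT : T ∈ Pretriangulated.distinguishedTriangles :=
    DerivedCategory.mappingCone_triangle_distinguished α
  have e2 := DerivedCategory.HomologySequence.exact₂ T hT i
  have e3 := DerivedCategory.HomologySequence.exact₃ T hT i (i + 1) rfl
  have e1 := DerivedCategory.HomologySequence.exact₁ T hT i (i + 1) rfl
  have hepi' : Epi ((DerivedCategory.homologyFunctor A i).map (DerivedCategory.Q.map α)) := by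
    haveI : Epi ((HomologicalComplex.homologyFunctor A (ComplexShape.up ℤ) i).map α) := by
      change Epi (HomologicalComplex.homologyMap α i)
      rcases (show n = i ∨ n < i by omega) with rfl | h
      · exact hepi
      · haveI := hiso i h
        infer_instance
    exact epi_map_of_natIso (DerivedCategory.homologyFunctorFactors A i) α
  have hmono' : Mono ((DerivedCategory.homologyFunctor A (i + 1)).map
      (DerivedCategory.Q.map α)) := by
    haveI : Mono ((HomologicalComplex.homologyFunctor A (ComplexShape.up ℤ) (i + 1)).map α) := by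
      change Mono (HomologicalComplex.homologyMap α (i + 1))
      haveI := hiso (i + 1) (by omega)
      infer_instance
    exact mono_map_of_natIso (DerivedCategory.homologyFunctorFactors A (i + 1)) α
  have z2 : (DerivedCategory.homologyFunctor A i).map T.mor₂ = 0 := (e2.epi_f_iff).1 hepi'
  have z3 : DerivedCategory.HomologySequence.δ T i (i + 1) rfl = 0 := (e1.mono_g_iff).1 hmono'
  have hz : IsZero ((DerivedCategory.homologyFunctor A i).obj T.obj₃) :=
    e3.isZero_of_both_zeros z2 z3
  exact hz.of_iso ((DerivedCategory.homologyFunctorFactors A i).app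
    (CochainComplex.mappingCone α)).symm

end Groth.Agent.Lib.Helper21.ProjLift
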