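import Mathlib

namespace Groth.Agent.Lib.Helper21.PtDegDev

universe u v

open Finset

section
variable {A : Type u} {G : Type v} [AddCommGroup A] [AddCommGroup G] (f : A → G)

/-- shifted alternating sum over all subsets -/
def S (n : ℕ) (c : A) (x : Fin n → A) : G :=
  ∑ I ∈ (univ : Finset (Fin n)).powerset, ((-1 : ℤ) ^ I.card) • f (c + ∑ i ∈ I, x i)

/-- alternating sum over the subsets avoiding `j` -/
def W (n : ℕ) (j : Fin n) (y : Fin n → A) (c : A) : G :=
  ∑ I ∈ ((univ : Finset (Fin n)).erase j).powerset, ((-1 : ℤ) ^ I.card) • f (c + ∑ i ∈ I, y i)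

/-- the deviation, as in the statement -/
def D (n : ℕ) (x : Fin n → A) : G :=
  ∑ I ∈ ((univ : Finset (Fin n)).powerset.erase ∅), ((-1 : ℤ) ^ (n + I.card)) • f (∑ i ∈ I, x i)

theorem D_eq (n : ℕ) (x : Fin n → A) : D f n x = ((-1 : ℤ) ^ n) • (S f n 0 x - f 0) := by
  classical
  unfold D S
  rw [sum_erase_eq_sub (empty_mem_powerset _), smul_sub, smul_sum]
  congr 1
  · apply sum_congr rfl
    intro I _
    rw [zero_add, smul_smul, pow_add]

theorem S_update (n : ℕ) (j : Fin n) (y : Fin n → A) (b c : A) :
    S f n b (Function.update y j c) = W f n j y b - W f n j y (b + c) := by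
  classical
  unfold S W
  have hu : (univ : Finset (Fin n)) = insert j (univ.erase j) :=
    (insert_erase (mem_univ j)).symm
  conv_lhs => rw [hu]
  rw [sum_powerset_insert (notMem_erase j _), sub_eq_add_neg, ← sum_neg_distrib]
  have hsum : ∀ t ∈ ((univ : Finset (Fin n)).erase j).powerset,
      ∑ i ∈ t, Function.update y j c i = ∑ i ∈ t, y i := by
    intro t ht
    apply sum_congr rfl
    intro i hi
    have hij : i ≠ j := fun h => notMem_erase j _ (mem_powerset.1 ht (h ▸ hi))
    rw [Function.update_of_ne hij]
  congr 1
  · apply sum_congr rfl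
    intro t ht
    rw [hsum t ht]
  · apply sum_congr rfl
    intro t ht
    have hjt : j ∉ t := fun h => notMem_erase j _ (mem_powerset.1 ht h)
    rw [sum_insert hjt, card_insert_of_notMem hjt, Function.update_self, hsum t ht, pow_succ,
      mul_neg_one, neg_smul, add_assoc]

theorem S_cons (n : ℕ) (b : A) (z : Fin n → A) :
    S f (n + 1) 0 (Fin.cons b z) = S f n 0 z - S f n b z := by
  classical
  unfold S
  have hu : (univ : Finset (Fin (n + 1))) = insert 0 ((univ : Finset (Fin n)).image Fin.succ) := by
    ext k
    simp only [mem_univ, mem_insert, mem_image, true_and, true_iff]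
    rcases Fin.eq_zero_or_eq_succ k with h | ⟨i, h⟩
    · exact Or.inl h
    · exact Or.inr ⟨i, h.symm⟩
  have h0 : (0 : Fin (n + 1)) ∉ (univ : Finset (Fin n)).image Fin.succ := by
    simp only [mem_image, mem_univ, true_and, not_exists]
    intro i; exact Fin.succ_ne_zero i
  rw [hu, sum_powerset_insert h0, powerset_image,
    sum_image (fun s _ t _ h => image_injective (Fin.succ_injective n) h),
    sum_image (fun s _ t _ h => image_injective (Fin.succ_injective n) h), sub_eq_add_neg,
    ← sum_neg_distrib]
  have hsum : ∀ t : Finset (Fin n),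
      ∑ i ∈ t.image Fin.succ, (Fin.cons b z : Fin (n + 1) → A) i = ∑ i ∈ t, z i := by
    intro t
    rw [sum_image (fun s _ t _ h => Fin.succ_injective n h)]
    apply sum_congr rfl
    intro i _
    rw [Fin.cons_succ]
  congr 1
  · apply sum_congr rfl
    intro t _
    rw [hsum, card_image_of_injective _ (Fin.succ_injective n)]
  · apply sum_congr rfl
    intro t _
    have h0t : (0 : Fin (n + 1)) ∉ t.image Fin.succ := by
      simp only [mem_image, not_exists, not_and]
      intro i _; exact Fin.succ_ne_zero i
    rw [sum_insert h0t, card_insert_of_notMem h0t, hsum,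
      card_image_of_injective _ (Fin.succ_injective n), Fin.cons_zero, pow_succ, mul_neg_one,
      neg_smul, zero_add]

/-- the key identity between consecutive deviations -/
theorem D_cons (n : ℕ) (j : Fin n) (y : Fin n → A) (a b : A) :
    D f (n + 1) (Fin.cons b (Function.update y j a)) =
      D f n (Function.update y j (a + b)) - D f n (Function.update y j a) -
        D f n (Function.update y j b) := by
  rw [D_eq, D_eq, D_eq, D_eq, S_cons, S_update, S_update, S_update, S_update, pow_succ]
  simp only [zero_add]
  rw [add_comm b a]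
  module

theorem main (n : ℕ) (hn : 1 ≤ n) :
    (∀ x : Fin (n + 1) → A, D f (n + 1) x = 0) ↔
      (∀ (j : Fin n) (y : Fin n → A) (a b : A),
        D f n (Function.update y j (a + b)) =
          D f n (Function.update y j a) + D f n (Function.update y j b)) := by
  constructor
  · intro h j y a b
    have := D_cons f n j y a b
    rw [h] at this
    rw [eq_comm, sub_sub, sub_eq_zero] at this
    exact this
  · intro h x
    have hx : x = Fin.cons (x 0) (Function.update (Fin.tail x) ⟨0, hn⟩ (Fin.tail x ⟨0, hn⟩)) := by
      rw [Function.update_eq_self, Fin.cons_self_tail]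
    rw [hx, D_cons, h, sub_sub, sub_self]

end

end Groth.Agent.Lib.Helper21.PtDegDev
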