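import Mathlib

namespace Groth.Agent.Lib.Helper21.PtDegTwo

universe u v

section
variable {A : Type u} {G : Type v} [AddCommGroup A] [AddCommGroup G]
  (f : A → G)
  (hf : ∀ x y z : A, f (x + y + z) + f x + f y + f z = f (x + y) + f (x + z) + f (y + z))

/-- triangular numbers as integers -/
def T (k : ℤ) : ℤ := k * (k + 1) / 2

theorem two_mul_T (k : ℤ) : 2 * T k = k * (k + 1) :=
  Int.mul_ediv_cancel' (even_iff_two_dvd.1 (Int.even_mul_succ_self k))

theorem T_rec (k : ℤ) : T (k + 1) = 2 * T k - T (k - 1) + 1 := by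
  have h1 := two_mul_T (k + 1)
  have h2 := two_mul_T k
  have h3 := two_mul_T (k - 1)
  have e1 : (k + 1) * (k + 1 + 1) = k * k + 3 * k + 2 := by ring
  have e2 : k * (k + 1) = k * k + k := by ring
  have e3 : (k - 1) * (k - 1 + 1) = k * k - k := by ring
  rw [e1] at h1; rw [e2] at h2; rw [e3] at h3
  omega

theorem T_zero : T 0 = 0 := by simp [T]
theorem T_one : T 1 = 1 := by simp [T]
theorem T_neg_one : T (-1) = 0 := by simp [T]

theorem T_sub_T (k : ℤ) : T k - T (k - 1) = k := by
  have h2 := two_mul_T k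
  have h3 := two_mul_T (k - 1)
  have e2 : k * (k + 1) = k * k + k := by ring
  have e3 : (k - 1) * (k - 1 + 1) = k * k - k := by ring
  rw [e2] at h2; rw [e3] at h3
  omega

theorem T_add_T (k : ℤ) : T k + T (k - 1) = k * k := by
  have h2 := two_mul_T k
  have h3 := two_mul_T (k - 1)
  have e2 : k * (k + 1) = k * k + k := by ring
  have e3 : (k - 1) * (k - 1 + 1) = k * k - k := by ring
  rw [e2] at h2; rw [e3] at h3
  omega

include hf in
theorem map_zero' : f 0 = 0 := by
  have := hf 0 0 0
  simp only [add_zero] at this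
  -- f 0 + f 0 + f 0 + f 0 = f 0 + f 0 + f 0
  have h : (f 0 + f 0 + f 0) + f 0 = (f 0 + f 0 + f 0) + 0 := by
    rw [add_zero]; exact this
  exact add_left_cancel h

include hf in
theorem rec_step (x : A) (k : ℤ) :
    f ((k + 1) • x) + f ((k - 1) • x) = 2 • f (k • x) + f x + f (-x) := by
  have h := hf (k • x) x (-x)
  have e1 : k • x + x + -x = k • x := by abel
  have e2 : k • x + x = (k + 1) • x := by rw [add_smul, one_smul]
  have e3 : k • x + -x = (k - 1) • x := by rw [sub_smul, one_smul, sub_eq_add_neg]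
  have e4 : x + -x = 0 := add_neg_cancel x
  rw [e1, e2, e3, e4, map_zero' f hf, add_zero] at h
  rw [← h, two_smul]

include hf in
theorem formula_pair (x : A) (k : ℤ) :
    f (k • x) = T k • f x + T (k - 1) • f (-x) ∧
      f ((k + 1) • x) = T (k + 1) • f x + T k • f (-x) := by
  induction k using Int.induction_on with
  | zero =>
    refine ⟨?_, ?_⟩
    · rw [zero_smul, map_zero' f hf, T_zero, zero_sub, T_neg_one, zero_smul, zero_smul, add_zero]
    · rw [zero_add, one_smul, T_one, T_zero, one_smul, zero_smul, add_zero]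
  | succ k ih =>
    obtain ⟨h1, h2⟩ := ih
    refine ⟨?_, ?_⟩
    · rw [h2, add_sub_cancel_right]
    · have hr := rec_step f hf x ((k : ℤ) + 1)
      rw [add_sub_cancel_right, h1, h2] at hr
      have hT := T_rec ((k : ℤ) + 1)
      rw [add_sub_cancel_right] at hT
      have hT' := T_rec (k : ℤ)
      have hT'' : T ((k : ℤ) - 1) = 2 * T (k : ℤ) - T ((k : ℤ) + 1) + 1 := by linarith
      have : f (((k : ℤ) + 1 + 1) • x) = 2 • (T ((k : ℤ) + 1) • f x + T (k : ℤ) • f (-x)) + f x +
          f (-x) - (T (k : ℤ) • f x + T ((k : ℤ) - 1) • f (-x)) := eq_sub_of_add_eq hr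
      rw [this, hT, hT'']
      module
  | pred k ih =>
    obtain ⟨h1, h2⟩ := ih
    have e : (-(k : ℤ) - 1 + 1) = -(k : ℤ) := by ring
    refine ⟨?_, ?_⟩
    · have hr := rec_step f hf x (-(k : ℤ))
      rw [h1, h2] at hr
      have hT := T_rec (-(k : ℤ))
      have hT' := T_rec (-(k : ℤ) - 1)
      rw [e] at hT'
      have : f ((-(k : ℤ) - 1) • x) = 2 • (T (-(k : ℤ)) • f x + T (-(k : ℤ) - 1) • f (-x)) + f x +
          f (-x) - (T (-(k : ℤ) + 1) • f x + T (-(k : ℤ)) • f (-x)) := by
        rw [eq_sub_iff_add_eq, add_comm]; exact hr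
      rw [this]
      have hT'' : T (-(k : ℤ) - 1 - 1) = 2 * T (-(k : ℤ) - 1) - T (-(k : ℤ)) + 1 := by
        linarith
      rw [hT'', hT]
      module
    · rw [e]; exact h1

include hf in
theorem formula (x : A) (n : ℤ) :
    f (n • x) = (n * (n + 1) / 2) • f x + (n * (n - 1) / 2) • f (-x) := by
  have h := (formula_pair f hf x n).1
  have e : T (n - 1) = n * (n - 1) / 2 := by
    simp only [T]; rw [sub_add_cancel, mul_comm]
  rw [h, e]; rfl

end

end Groth.Agent.Lib.Helper21.PtDegTwo

namespace Groth.Agent.Lib.Helper21.PtDegTwo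

universe u v

section
variable {A : Type u} {G : Type v} [AddCommGroup A] [AddCommGroup G]
  (f : A → G)
  (hf : ∀ x y z : A, f (x + y + z) + f x + f y + f z = f (x + y) + f (x + z) + f (y + z))

include hf in
theorem torsion (n : ℤ) (hn : ∀ x : A, n • x = 0) :
    (∀ x : A, (2 * n) • f x = 0) ∧ (Odd n → ∀ x : A, n • f x = 0) := by
  have hf0 := map_zero' f hf
  -- E1 : T n a + T (n-1) b = 0
  have E1 : ∀ x : A, T n • f x + T (n - 1) • f (-x) = 0 := by
    intro x
    rw [← (formula_pair f hf x n).1, hn x, hf0]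
  have E2 : ∀ x : A, f x = T (n + 1) • f x + T n • f (-x) := by
    intro x
    have h := (formula_pair f hf x n).2
    rwa [add_smul, one_smul, hn x, zero_add] at h
  have E3 : ∀ x : A, n • f x + n • f (-x) = 0 := by
    intro x
    have h1 := E1 x
    have h2 := E2 x
    have hT := T_sub_T (n + 1)
    rw [add_sub_cancel_right] at hT
    have hT' := T_sub_T n
    have e1 : T (n + 1) = T n + (n + 1) := by linarith
    have e2 : T n = T (n - 1) + n := by linarith
    rw [e1] at h2
    have h3 : n • f x + n • f (-x) =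
        ((T n + (n + 1)) • f x + T n • f (-x)) - f x - (T n • f x + T (n - 1) • f (-x)) := by
      rw [e2]; module
    rw [h3, ← h2, h1]; abel
  have E4 : ∀ x : A, n • f x - n • f (-x) = 0 := by
    intro x
    have h1 := E1 x
    have h2 := E1 (-x)
    rw [neg_neg] at h2
    have hT' := T_sub_T n
    have e2 : T n = T (n - 1) + n := by linarith
    have h3 : n • f x - n • f (-x) =
        (T n • f x + T (n - 1) • f (-x)) - (T n • f (-x) + T (n - 1) • f x) := by
      rw [e2]; module
    rw [h3, h1, h2, sub_zero]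
  refine ⟨fun x => ?_, fun hodd x => ?_⟩
  · have h3 := E3 x
    have h4 := E4 x
    have : (2 * n) • f x = (n • f x + n • f (-x)) + (n • f x - n • f (-x)) := by module
    rw [this, h3, h4, add_zero]
  · obtain ⟨m, hm⟩ := hodd
    have hTn : T n = n * (m + 1) := by
      have h := two_mul_T n
      have : (2 : ℤ) * T n = 2 * (n * (m + 1)) := by rw [h]; subst hm; ring
      exact mul_left_cancel₀ two_ne_zero this
    have hTn1 : T (n - 1) = n * m := by
      have h := T_sub_T n
      rw [hTn] at h
      linarith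
    have h1 := E1 x
    rw [hTn, hTn1] at h1
    have h3 := E3 x
    have : n • f x = (n * (m + 1)) • f x + (n * m) • f (-x) - m • (n • f x + n • f (-x)) := by
      module
    rw [this, h1, h3, smul_zero, sub_zero]

end

section
variable {G : Type u} {H : Type v} [AddCommGroup G] [AddCommGroup H]

theorem quadratic_kill (n : ℤ) (hn : ∀ x : G, (2 * n ^ 2) • x = 0)
    (d : G → H)
    (hd : ∀ x y z : G, d (x + y + z) + d x + d y + d z = d (x + y) + d (x + z) + d (y + z))
    (heven : ∀ x : G, d (-x) = d x) (x : G) :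
    d ((2 * n) • x) = 0 := by
  have hd0 := map_zero' d hd
  -- d (k x) = k^2 d x
  have hsq : ∀ k : ℤ, d (k • x) = (k * k) • d x := by
    intro k
    rw [(formula_pair d hd x k).1, heven, ← add_smul, T_add_T]
  -- polar form additive in the first variable
  let Bx : G →+ H :=
    { toFun := fun y => d (y + x) - d y - d x
      map_zero' := by simp [hd0]
      map_add' := by
        intro y₁ y₂
        have h := hd y₁ y₂ x
        have : d (y₁ + y₂ + x) = d (y₁ + y₂) + d (y₁ + x) + d (y₂ + x) - d y₁ - d y₂ - d x := by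
          rw [← h]; abel
        show d (y₁ + y₂ + x) - d (y₁ + y₂) - d x =
          (d (y₁ + x) - d y₁ - d x) + (d (y₂ + x) - d y₂ - d x)
        rw [this]; abel }
  have hBx : ∀ y, Bx y = d (y + x) - d y - d x := fun y => rfl
  have h2 : d (x + x) = (4 : ℤ) • d x := by
    have := hsq 2
    rw [two_smul] at this
    rw [this]; norm_num
  have hBxx : Bx x = (2 : ℤ) • d x := by
    rw [hBx, h2]; module
  have h3 : Bx ((2 * n ^ 2) • x) = 0 := by rw [hn x, map_zero]
  rw [map_zsmul, hBxx] at h3
  rw [hsq (2 * n)]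
  have : (2 * n * (2 * n)) • d x = (2 * n ^ 2) • ((2 : ℤ) • d x) := by
    rw [smul_smul]; congr 1; ring
  rw [this, h3]

end

end Groth.Agent.Lib.Helper21.PtDegTwo
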