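import Mathlib
import Groth.Prelude.Def_FlatCA

/-!
# Universal purity along a fibre vs purity of all base changes (bookkeeping)
-/

namespace Groth.Agent.Lib.Helper21.PureBC

universe u

open FlatCA

theorem isEtaleNhd_self (A' : Type u) [CommRing A'] (t : Ideal A') [t.IsPrime] :
    IsEtaleNhd A' A' t t := by
  refine ⟨inferInstance, ⟨⟨rfl⟩, ?_⟩⟩
  have h : Algebra.ofId A' A' = AlgHom.id A' A' := by ext
  have h2 : Ideal.ResidueField.mapₐ t t (Algebra.ofId A' A') rfl = AlgHom.id _ _ := by
    rw [← Ideal.ResidueField.mapₐ_id]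
    congr 1
  rw [h2]
  exact Function.bijective_id

theorem univPure_of_forall {A B : Type u} [CommRing A] [CommRing B] [Algebra A B]
    (N : Type u) [AddCommGroup N] [Module B N] (p : Ideal A) [p.IsPrime]
    (h : ∀ (A' B' N' : Type u) [CommRing A'] [CommRing B'] [Algebra A A'] [Algebra B B']
      [Algebra A' B'] [Algebra A B'] [IsScalarTower A B B'] [IsScalarTower A A' B']
      [Algebra.IsPushout A B A' B'] [AddCommGroup N'] [Module B' N'] [Module B N']
      [IsScalarTower B B' N'] (g : N →ₗ[B] N'), IsBaseChange B' g →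
      ∀ (p' : Ideal A') [p'.IsPrime], p'.LiesOver p → FlatCA.IsPureAlong A' B' N' p') :
    FlatCA.IsUnivPureAlong A B N p := by
  intro A' B' N' _ _ _ _ _ _ _ _ _ _ _ _ _ _ f t' t _ _ P _ himp
  obtain ⟨hpush, hbc, hle, hlt, hlP, hass, hlast⟩ := himp
  have hpure := h A' B' N' f hbc t hlt
  refine hpure A' B' N' LinearMap.id t' t P (isEtaleNhd_self A' t) ⟨inferInstance, ?_, hle, ⟨rfl⟩, hlP, hass, hlast⟩
  exact IsBaseChange.ofEquiv (LinearEquiv.refl B' N')

theorem pureAlong_of_univPure {A B : Type u} [CommRing A] [CommRing B] [Algebra A B]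
    (N : Type u) [AddCommGroup N] [Module B N] (p : Ideal A) [p.IsPrime]
    (h : FlatCA.IsUnivPureAlong A B N p)
    (A' B' N' : Type u) [CommRing A'] [CommRing B'] [Algebra A A'] [Algebra B B']
    [Algebra A' B'] [Algebra A B'] [IsScalarTower A B B'] [IsScalarTower A A' B']
    [Algebra.IsPushout A B A' B'] [AddCommGroup N'] [Module B' N'] [Module B N']
    [IsScalarTower B B' N'] (g : N →ₗ[B] N') (hg : IsBaseChange B' g)
    (p' : Ideal A') [p'.IsPrime] (hp' : p'.LiesOver p) : FlatCA.IsPureAlong A' B' N' p' := by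
  intro A'' B'' N'' _ _ _ _ _ _ _ _ _ _ _ _ _ _ f' t' t _ _ P _ het himp
  obtain ⟨hpush, hbc, hle, hlt, hlP, hass, hlast⟩ := himp
  let : Algebra A A'' := ((algebraMap A' A'').comp (algebraMap A A')).toAlgebra
  let : Algebra B B'' := ((algebraMap B' B'').comp (algebraMap B B')).toAlgebra
  let : Algebra A B'' := ((algebraMap A' B'').comp (algebraMap A A')).toAlgebra
  have : IsScalarTower A A' A'' := IsScalarTower.of_algebraMap_eq (fun x => rfl)
  have : IsScalarTower B B' B'' := IsScalarTower.of_algebraMap_eq (fun x => rfl)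
  have : IsScalarTower A A' B'' := IsScalarTower.of_algebraMap_eq (fun x => rfl)
  have : IsScalarTower A A'' B'' := IsScalarTower.of_algebraMap_eq (fun x => by
    change algebraMap A' B'' (algebraMap A A' x) =
      algebraMap A'' B'' (algebraMap A' A'' (algebraMap A A' x))
    rw [← IsScalarTower.algebraMap_apply A' A'' B''])
  have : IsScalarTower A B' B'' := IsScalarTower.of_algebraMap_eq (fun x => by
    change algebraMap A' B'' (algebraMap A A' x) = algebraMap B' B'' (algebraMap A B' x)
    rw [IsScalarTower.algebraMap_apply A A' B', ← IsScalarTower.algebraMap_apply A' B' B''])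
  have : IsScalarTower A B B'' := IsScalarTower.of_algebraMap_eq (fun x => by
    change algebraMap A' B'' (algebraMap A A' x) =
      algebraMap B' B'' (algebraMap B B' (algebraMap A B x))
    rw [← IsScalarTower.algebraMap_apply A B B', IsScalarTower.algebraMap_apply A A' B',
      ← IsScalarTower.algebraMap_apply A' B' B''])
  let : Module B N'' := Module.compHom N'' (algebraMap B B'')
  have : IsScalarTower B B'' N'' := ⟨fun b b'' n => by
    change (algebraMap B B'' b * b'') • n = algebraMap B B'' b • (b'' • n)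
    rw [mul_smul]⟩
  have : IsScalarTower B B' N'' := ⟨fun b b' n => by
    rw [Algebra.smul_def, mul_smul]
    change _ = algebraMap B' B'' (algebraMap B B' b) • (b' • n)
    rw [algebraMap_smul B'' (algebraMap B B' b)]⟩
  have hbc' : IsBaseChange B'' ((f'.restrictScalars B).comp g) := IsBaseChange.comp hg hbc
  have hpush' : Algebra.IsPushout A B A'' B'' := by
    have h1 : Algebra.IsPushout A A' B B' := Algebra.IsPushout.symm inferInstance
    have h2 : Algebra.IsPushout A' A'' B' B'' := hpush.symm
    exact ((Algebra.IsPushout.comp_iff A A' B B').mpr h2).symm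
  have : t.LiesOver p := Ideal.LiesOver.trans t p' p
  exact h A'' B'' N'' ((f'.restrictScalars B).comp g) t' t P
    ⟨hpush', hbc', hle, inferInstance, hlP, hass, hlast⟩

end Groth.Agent.Lib.Helper21.PureBC
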