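import Groth.Agent.Lib.Helper21.DetUnits
import Mathlib.RingTheory.MvPolynomial.Groebner
import Mathlib.RingTheory.MvPolynomial.Basic
import Mathlib.RingTheory.Flat.FaithfullyFlat.Basic
import Mathlib.RingTheory.Ideal.Quotient.Basic

/-!
Quotient of a polynomial ring by a polynomial with unit leading coefficient is free.
-/

set_option autoImplicit false
universe u

namespace Groth.Agent.Lib.Helper21

open MvPolynomial

section
variable {σ : Type*} (m : MonomialOrder σ) {A : Type u} [CommRing A]

/-- the monomials not divisible by the leading monomial of `b` -/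
def remSet (b : MvPolynomial σ A) : Set (σ →₀ ℕ) := {c | ¬ (m.degree b ≤ c)}

/-- the linear map from the remainders to the quotient -/
noncomputable def remToQuot (b : MvPolynomial σ A) :
    restrictSupport A (remSet m b) →ₗ[A] (MvPolynomial σ A ⧸ Ideal.span {b}) :=
  (Ideal.Quotient.mkₐ A (Ideal.span {b})).toLinearMap.comp (restrictSupport A (remSet m b)).subtype

theorem remToQuot_surjective (b : MvPolynomial σ A) (hb : IsUnit (m.leadingCoeff b)) :
    Function.Surjective (remToQuot m b) := by
  intro x
  obtain ⟨f, rfl⟩ := Ideal.Quotient.mk_surjective x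
  obtain ⟨g, r, hf, _, hr⟩ := m.div_single hb f
  refine ⟨⟨r, ?_⟩, ?_⟩
  · rw [mem_restrictSupport_iff]
    intro c hc
    exact hr c (by simpa using hc)
  · change Ideal.Quotient.mk _ r = Ideal.Quotient.mk _ f
    rw [hf, map_add]
    have : Ideal.Quotient.mk (Ideal.span {b}) (g * b) = 0 := by
      rw [Ideal.Quotient.eq_zero_iff_mem]
      exact Ideal.mul_mem_left _ _ (Ideal.subset_span rfl)
    rw [this, zero_add]

theorem remToQuot_injective (b : MvPolynomial σ A) (hb : IsUnit (m.leadingCoeff b)) :
    Function.Injective (remToQuot m b) := by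
  rw [injective_iff_map_eq_zero]
  rintro ⟨r, hr⟩ h
  change Ideal.Quotient.mk _ r = 0 at h
  rw [Ideal.Quotient.eq_zero_iff_mem, Ideal.mem_span_singleton] at h
  obtain ⟨g, rfl⟩ := h
  by_cases hg : g = 0
  · subst hg; simp
  exfalso
  have hreg : IsRegular (m.leadingCoeff b) := hb.isRegular
  have hdeg : m.degree (b * g) = m.degree b + m.degree g := m.degree_mul_of_isRegular_left hreg hg
  have hne : b * g ≠ 0 := by
    intro h0
    have h1 := m.leadingCoeff_mul_of_isRegular_left (g := g) hreg
    rw [h0, m.leadingCoeff_zero] at h1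
    have h2 : m.leadingCoeff g = 0 := (hb.mul_right_eq_zero).1 h1.symm
    exact hg (m.leadingCoeff_eq_zero_iff.1 h2)
  have hmem := m.degree_mem_support hne
  rw [mem_restrictSupport_iff] at hr
  have := hr (Finset.mem_coe.2 hmem)
  apply this
  rw [hdeg]
  exact le_self_add

/-- the quotient by a polynomial with invertible leading coefficient is free -/
noncomputable def remEquivQuot (b : MvPolynomial σ A) (hb : IsUnit (m.leadingCoeff b)) :
    restrictSupport A (remSet m b) ≃ₗ[A] (MvPolynomial σ A ⧸ Ideal.span {b}) :=
  LinearEquiv.ofBijective (remToQuot m b) ⟨remToQuot_injective m b hb, remToQuot_surjective m b hb⟩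

theorem free_quot (b : MvPolynomial σ A) (hb : IsUnit (m.leadingCoeff b)) :
    Module.Free A (MvPolynomial σ A ⧸ Ideal.span {b}) :=
  Module.Free.of_equiv' (Module.Free.of_basis (basisRestrictSupport A (remSet m b))) (remEquivQuot m b hb)

end

theorem faithfullyFlat_quot_gdet (A : Type u) [CommRing A] (n : ℕ) (hn : 0 < n) :
    Module.FaithfullyFlat A
      (MvPolynomial (Fin n × Fin n) A ⧸ Ideal.span {(Matrix.mvPolynomialX (Fin n) (Fin n) A).det}) := by
  classical
  rcases subsingleton_or_nontrivial A with hA | hA
  · -- zero ring: the quotient is linearly equivalent to A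
    haveI : Subsingleton (MvPolynomial (Fin n × Fin n) A ⧸ Ideal.span {(Matrix.mvPolynomialX (Fin n) (Fin n) A).det}) :=
      ⟨fun x y => by
        obtain ⟨x, rfl⟩ := Ideal.Quotient.mk_surjective x
        obtain ⟨y, rfl⟩ := Ideal.Quotient.mk_surjective y
        rw [Subsingleton.elim x y]⟩
    exact Module.FaithfullyFlat.of_linearEquiv A A
      { toFun := fun _ => 0, invFun := fun _ => 0, map_add' := by simp, map_smul' := by simp,
        left_inv := fun x => Subsingleton.elim _ _, right_inv := fun x => Subsingleton.elim _ _ }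
  let lo : LinearOrder (Fin n × Fin n) := LinearOrder.lift' finProdFinEquiv finProdFinEquiv.injective
  have wf : @WellFoundedGT (Fin n × Fin n) lo.toLT :=
    @Finite.to_wellFoundedGT (Fin n × Fin n) _ lo.toPreorder
  let m : MonomialOrder (Fin n × Fin n) := @MonomialOrder.lex (Fin n × Fin n) lo wf
  have hne : (Matrix.mvPolynomialX (Fin n) (Fin n) A).det ≠ 0 := Matrix.det_mvPolynomialX_ne_zero _ A
  have hdeg := m.degree_mem_support hne
  obtain ⟨σ, hσ⟩ := exists_perm_of_mem_support A n _ hdeg
  have hunit : IsUnit (m.leadingCoeff (Matrix.mvPolynomialX (Fin n) (Fin n) A).det) := by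
    unfold MonomialOrder.leadingCoeff
    rw [hσ, coeff_det_mvPolynomialX]
    rcases Int.units_eq_one_or (Equiv.Perm.sign σ) with h | h
    · rw [h]; simp
    · rw [h]; simp
  haveI := free_quot m _ hunit
  -- nontriviality: evaluation at zero
  haveI : Nontrivial (MvPolynomial (Fin n × Fin n) A ⧸ Ideal.span {(Matrix.mvPolynomialX (Fin n) (Fin n) A).det}) := by
    let ev : (MvPolynomial (Fin n × Fin n) A ⧸ Ideal.span {(Matrix.mvPolynomialX (Fin n) (Fin n) A).det}) →+* A :=
      Ideal.Quotient.lift _ (MvPolynomial.eval (fun _ => (0 : A))) (by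
        intro a ha
        rw [Ideal.mem_span_singleton] at ha
        obtain ⟨c, rfl⟩ := ha
        rw [map_mul, eval_zero_gdet A n hn, zero_mul])
    exact ev.domain_nontrivial
  infer_instance

end Groth.Agent.Lib.Helper21
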