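import Mathlib
import Groth.Agent.Lib.Helper21.RGb

/-!
# `RΓ_I` is right adjoint to the inclusion of objects with torsion cohomology (helper21)
-/

set_option autoImplicit false
set_option linter.style.haveILetI false
set_option linter.unusedSectionVars false
universe u
open CategoryTheory CategoryTheory.Limits DerivedCategory

attribute [local instance] HasDerivedCategory.standard

namespace Groth.Agent.Lib.Helper21.RGc

open Groth.Agent.Lib.Helper21.RGb

variable {A : Type u} [CommRing A] [IsNoetherianRing A] (I : Ideal A) [DRing.HasRgammaI I]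

/-- objects with `I`-power torsion cohomology -/
abbrev PT : ObjectProperty (Dual.D A) :=
  fun L : Dual.D A => ∀ i : ℤ, LocCoh.IsPowerTorsion I (Dual.HD A L i)

variable (h : ∀ K : Dual.D A, PT I ((DRing.RgammaI I).obj K))

/-- composition with the canonical map `RΓ_I K ⟶ K` -/
noncomputable def psi (L : (PT I).FullSubcategory) (K : Dual.D A) :
    (L ⟶ (ObjectProperty.lift (PT I) (DRing.RgammaI I) h).obj K) → ((PT I).ι.obj L ⟶ K) :=
  fun g => g.hom ≫ (DRing.RgammaIε I).app K

lemma psi_bijective (L : (PT I).FullSubcategory) (K : Dual.D A) :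
    Function.Bijective (psi I h L K) := by
  have hb := bijective_comp_eps I L.obj K L.property
  constructor
  · intro g₁ g₂ hg
    exact ObjectProperty.hom_ext _ (hb.1 hg)
  · intro g
    obtain ⟨g', hg'⟩ := hb.2 g
    exact ⟨ObjectProperty.homMk g', hg'⟩

lemma psi_comp (L : (PT I).FullSubcategory) (K K' : Dual.D A)
    (x : L ⟶ (ObjectProperty.lift (PT I) (DRing.RgammaI I) h).obj K) (g : K ⟶ K') :
    psi I h L K' (x ≫ (ObjectProperty.lift (PT I) (DRing.RgammaI I) h).map g) =
      psi I h L K x ≫ g := by
  have hn := (DRing.RgammaIε I).naturality g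
  simp only [Functor.id_map] at hn
  change (x.hom ≫ (DRing.RgammaI I).map g) ≫ (DRing.RgammaIε I).app K' =
    (x.hom ≫ (DRing.RgammaIε I).app K) ≫ g
  rw [Category.assoc, hn, Category.assoc]

/-- the adjunction -/
noncomputable def adj : (PT I).ι ⊣ ObjectProperty.lift (PT I) (DRing.RgammaI I) h :=
  Adjunction.mkOfHomEquiv
    { homEquiv := fun L K => (Equiv.ofBijective (psi I h L K) (psi_bijective I h L K)).symm
      homEquiv_naturality_left_symm := by
        intro L' L K f g
        simp only [Equiv.symm_symm, Equiv.ofBijective_apply]
        exact Category.assoc _ _ _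
      homEquiv_naturality_right := by
        intro L K K' f g
        apply (Equiv.ofBijective (psi I h L K') (psi_bijective I h L K')).injective
        rw [Equiv.apply_symm_apply, Equiv.ofBijective_apply, psi_comp,
          ← Equiv.ofBijective_apply (psi I h L K) (psi_bijective I h L K),
          Equiv.apply_symm_apply] }

end Groth.Agent.Lib.Helper21.RGc
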