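import Mathlib
import Groth.Agent.Lib.Helper21.RGh
import Groth.Agent.Lib.Helper21.ExtTorsB
import Groth.Agent.Lib.Helper18.LBCAdj
import Groth.Agent.Lib.Helper18.DRExt2

/-!
# `RΓ_I` and flat extension of scalars (helper21)

For a flat map of Noetherian rings `A → B`, an ideal `I` of `A` and `K` in `D(A)`:
`RΓ_{IB}(K ⊗_A B) ≅ RΓ_I(K) ⊗_A B`, hence `H^i_{IB}(K ⊗^L_A B) ≅ H^i_I(K) ⊗_A B`.
-/

set_option autoImplicit false
set_option linter.style.haveILetI false
set_option linter.unusedSectionVars false
universe u v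
open CategoryTheory CategoryTheory.Limits CategoryTheory.Pretriangulated DerivedCategory
open scoped TensorProduct

attribute [local instance] HasDerivedCategory.standard

namespace Groth.Agent.Lib.Helper21.RGi

open Groth.Agent.Lib.Helper21.RGa Groth.Agent.Lib.Helper21.RGb Groth.Agent.Lib.Helper21.RGd
  Groth.Agent.Lib.Helper21.RGe Groth.Agent.Lib.Helper4.LC Groth.Agent.Lib.Helper18.DR
  Groth.Agent.Lib.Helper21.ExtTorsB

variable {A B : Type u} [CommRing A] [CommRing B] [Algebra A B]

/-- the base change of an `I`-power torsion module is `IB`-power torsion -/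
lemma isPowerTorsion_tensor (I : Ideal A) (M : Type v) [AddCommGroup M] [Module A M]
    (hM : LocCoh.IsPowerTorsion I M) :
    LocCoh.IsPowerTorsion (I.map (algebraMap A B)) (B ⊗[A] M) := by
  intro x
  induction x using TensorProduct.induction_on with
  | zero => exact ⟨0, fun a _ => smul_zero a⟩
  | tmul b m =>
    obtain ⟨n, hn⟩ := hM m
    refine ⟨n, fun a ha => ?_⟩
    rw [← Ideal.map_pow] at ha
    refine Submodule.span_induction (p := fun a _ => a • (b ⊗ₜ[A] m) = 0) ?_ ?_ ?_ ?_ ha
    · rintro _ ⟨c, hc, rfl⟩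
      rw [TensorProduct.smul_tmul', smul_eq_mul, ← Algebra.smul_def, TensorProduct.smul_tmul,
        hn c hc, TensorProduct.tmul_zero]
    · exact zero_smul _ _
    · intro x y _ _ hx hy
      rw [add_smul, hx, hy, add_zero]
    · intro r x _ hx
      rw [smul_eq_mul, mul_smul, hx, smul_zero]
  | add x y hx hy =>
    obtain ⟨n1, h1⟩ := hx
    obtain ⟨n2, h2⟩ := hy
    refine ⟨max n1 n2, fun a ha => ?_⟩
    rw [smul_add, h1 a (Ideal.pow_le_pow_right (le_max_left _ _) ha),
      h2 a (Ideal.pow_le_pow_right (le_max_right _ _) ha), add_zero]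

/-- comparison of `extendScalars` with the tensor product, in any universe -/
noncomputable def extEquiv₀ (M : ModuleCat.{v} A) :
    (resM (algebraMap A B) (ModuleCat.of B B)) ⊗[A] M ≃ₗ[A] B ⊗[A] M :=
  TensorProduct.congr resBEquiv (LinearEquiv.refl A M)

/-- comparison of `extendScalars` with the tensor product, in any universe -/
noncomputable def extEquivGen (M : ModuleCat.{v} A) :
    ((ModuleCat.extendScalars (algebraMap A B)).obj M) ≃ₗ[B] B ⊗[A] M :=
  { toFun := fun x => extEquiv₀ M x
    invFun := fun x => (extEquiv₀ M).symm x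
    map_add' := fun x y => map_add (extEquiv₀ M) x y
    map_smul' := by
      intro b x
      induction x using TensorProduct.induction_on with
      | zero =>
        have h1 : b • (0 : ↑((ModuleCat.extendScalars (algebraMap A B)).obj M)) = 0 :=
          smul_zero b
        have h2 : extEquiv₀ (B := B) M 0 = 0 := map_zero _
        exact (congrArg (extEquiv₀ M) h1).trans (h2.trans
          ((smul_zero b).symm.trans (congrArg (b • ·) h2.symm)))
      | tmul b' m =>
        erw [ModuleCat.ExtendScalars.smul_tmul]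
        erw [TensorProduct.congr_tmul, TensorProduct.congr_tmul]
        rw [RingHom.id_apply, TensorProduct.smul_tmul']
        rfl
      | add x y hx hy =>
        erw [smul_add]
        erw [map_add, map_add, smul_add]
        rw [← hx, ← hy]
    left_inv := fun x => (extEquiv₀ M).symm_apply_apply x
    right_inv := fun x => (extEquiv₀ M).apply_symm_apply x }

/-- extension of scalars of a linear equivalence (across universes) -/
noncomputable def extendEquiv {M : ModuleCat.{u} A} {N : ModuleCat.{u + 1} A} (e : M ≃ₗ[A] N) :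
    (ModuleCat.extendScalars (algebraMap A B)).obj M ≃ₗ[B]
      (ModuleCat.extendScalars (algebraMap A B)).obj N :=
  (extEquivGen (B := B) M) ≪≫ₗ
    (TensorProduct.AlgebraTensorModule.congr (LinearEquiv.refl B B) e) ≪≫ₗ
    (extEquivGen (B := B) N).symm

section flat

variable [Module.Flat A B]

lemma extD_map_smul_id (a : A) (X : Dual.D A) :
    (extD A B).map (a • 𝟙 X) = (algebraMap A B a) • 𝟙 ((extD A B).obj X) := by
  apply ((extAdj A B).homEquiv X ((extD A B).obj X)).injective
  rw [Adjunction.homEquiv_unit, Adjunction.homEquiv_unit, restrictD_map_smul_id]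
  have h := (extAdj A B).unit.naturality (a • 𝟙 X)
  rw [Functor.id_map, Functor.comp_map] at h
  rw [← h, Linear.smul_comp, Linear.comp_smul]
  exact congrArg (a • ·) ((Category.id_comp _).trans (Category.comp_id _).symm)

lemma finv_extD (a : A) (N : Dual.D A) (hN : FInv a N) :
    FInv (algebraMap A B a) ((extD A B).obj N) := by
  unfold FInv at hN ⊢
  rw [← extD_map_smul_id a N]
  infer_instance

lemma isPowerTorsion_extM (I : Ideal A) (M : ModuleCat.{u} A)
    (hM : LocCoh.IsPowerTorsion I M) :
    LocCoh.IsPowerTorsion (I.map (algebraMap A B)) ((extM (A := A) (B := B)).obj M) :=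
  isPowerTorsion_of_injective (I.map (algebraMap A B)) (extMEquiv (B := B) M).toLinearMap
    (extMEquiv (B := B) M).injective (isPowerTorsion_tensor I M hM)

lemma isPowerTorsion_HD_extD (I : Ideal A) (Y : Dual.D A)
    (hY : ∀ i : ℤ, LocCoh.IsPowerTorsion I (Dual.HD A Y i)) (i : ℤ) :
    LocCoh.IsPowerTorsion (I.map (algebraMap A B)) (Dual.HD B ((extD A B).obj Y) i) :=
  isPowerTorsion_of_injective (I.map (algebraMap A B))
    (homologyMapDIso (extM (A := A) (B := B)) Y i).hom.hom
    (injective_of_isIso _) (isPowerTorsion_extM I _ (hY i))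

variable [IsNoetherianRing A] [IsNoetherianRing B] (I : Ideal A)
  [DRing.HasRgammaI (I.map (algebraMap A B))]

/-- one generator -/
theorem bijective_comp_ext_iotaC_single (b : A) (hb : b ∈ I) (E : DRing.Cx A)
    (hE : ∀ n, Module.Injective A (E.X n)) (L : Dual.D B)
    (hL : ∀ i : ℤ, LocCoh.IsPowerTorsion (I.map (algebraMap A B)) (Dual.HD B L i)) :
    Function.Bijective (fun g : L ⟶ (extD A B).obj
        (DerivedCategory.Q.obj (gI (Ideal.span {b}) E)) =>
      g ≫ (extD A B).map (DerivedCategory.Q.map (iotaC (Ideal.span {b}) E))) := by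
  have hS := Sb_shortExact b E hE
  have hT : triangleOfSES hS ∈ distTriang (Dual.D A) := triangleOfSES_distinguished hS
  have hT' := (extD A B).map_distinguished _ hT
  have hR := finv_extD (B := B) b _ (finv_Q_Rb b E)
  have hbJ : algebraMap A B b ∈ I.map (algebraMap A B) := Ideal.mem_map_of_mem _ hb
  have hs0 : Subsingleton (L ⟶ (extD A B).obj (DerivedCategory.Q.obj (Rb b E))) :=
    subsingleton_hom_of_finv (I.map (algebraMap A B)) hbJ L _ hL hR
  have hs1 : Subsingleton (L ⟶ ((extD A B).obj (DerivedCategory.Q.obj (Rb b E)))⟦(-1 : ℤ)⟧) :=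
    subsingleton_hom_of_finv (I.map (algebraMap A B)) hbJ L _ hL (hR.shift (-1))
  constructor
  · intro g₁ g₂ hg
    have hg' : g₁ ≫ (extD A B).map (DerivedCategory.Q.map (iotaC (Ideal.span {b}) E)) =
        g₂ ≫ (extD A B).map (DerivedCategory.Q.map (iotaC (Ideal.span {b}) E)) := hg
    have h0 : (g₁ - g₂) ≫ ((extD A B).mapTriangle.obj
        (triangleOfSES hS)).invRotate.mor₂ = 0 := by
      change (g₁ - g₂) ≫ (extD A B).map
        (DerivedCategory.Q.map (iotaC (Ideal.span {b}) E)) = 0
      rw [Preadditive.sub_comp, hg', sub_self]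
    obtain ⟨h, hh⟩ : ∃ h : L ⟶ ((extD A B).obj
        (DerivedCategory.Q.obj (Rb b E)))⟦(-1 : ℤ)⟧,
        g₁ - g₂ = h ≫ ((extD A B).mapTriangle.obj
          (triangleOfSES hS)).invRotate.mor₁ :=
      Triangle.coyoneda_exact₂ _ (inv_rot_of_distTriang _ hT') (g₁ - g₂) h0
    have h1 : h = 0 := hs1.elim _ _
    subst h1
    exact sub_eq_zero.1 (hh.trans zero_comp)
  · intro g
    have h0 : g ≫ ((extD A B).mapTriangle.obj (triangleOfSES hS)).mor₂ = 0 := hs0.elim _ _
    obtain ⟨h, hh⟩ : ∃ h : L ⟶ (extD A B).obj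
        (DerivedCategory.Q.obj (gI (Ideal.span {b}) E)),
        g = h ≫ (extD A B).map (DerivedCategory.Q.map (iotaC (Ideal.span {b}) E)) :=
      Triangle.coyoneda_exact₂ _ hT' g h0
    exact ⟨h, hh.symm⟩

/-- finitely many generators -/
theorem bijective_comp_ext_iotaC (t : Finset A) :
    ∀ (_ : ∀ b ∈ t, b ∈ I) (E : DRing.Cx A)
      (_ : ∀ n, Module.Injective A (E.X n)) (L : Dual.D B)
      (_ : ∀ i : ℤ, LocCoh.IsPowerTorsion (I.map (algebraMap A B)) (Dual.HD B L i)),
      Function.Bijective (fun g : L ⟶ (extD A B).obj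
          (DerivedCategory.Q.obj (gI (Ideal.span (t : Set A)) E)) =>
        g ≫ (extD A B).map (DerivedCategory.Q.map (iotaC (Ideal.span (t : Set A)) E))) := by
  classical
  induction t using Finset.induction_on with
  | empty =>
    intro _ E hE L hL
    haveI : IsIso (iotaC (Ideal.span ((∅ : Finset A) : Set A)) E) :=
      isIso_iotaC_of_forall_mem _ E (fun n x => ⟨1, fun a ha => by
        rw [pow_one, Finset.coe_empty, Ideal.span_empty, Ideal.mem_bot] at ha
        rw [ha, zero_smul]⟩)
    exact bijective_comp_of_isIso _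
  | insert b t hb ih =>
    intro ht E hE L hL
    have hbI := ht b (Finset.mem_insert_self b t)
    have hmem : ∀ (M : Type u) [AddCommGroup M] [Module A M] (x : M),
        x ∈ DRing.torsionSub (Ideal.span ((insert b t : Finset A) : Set A)) M ↔
          x ∈ DRing.torsionSub (Ideal.span (t : Set A)) M ∧
            x ∈ DRing.torsionSub (Ideal.span {b}) M := by
      intro M _ _ x
      rw [Finset.coe_insert, Ideal.span_insert, mem_torsionSub_sup_iff, and_comm]
    obtain ⟨θ, hθ⟩ := exists_gI_comp_iso (Ideal.span (t : Set A)) (Ideal.span {b})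
      (Ideal.span ((insert b t : Finset A) : Set A)) hmem E
    have hE' : ∀ n, Module.Injective A ((gI (Ideal.span (t : Set A)) E).X n) := fun n => by
      haveI := hE n
      exact injective_torsionSub (Ideal.span (t : Set A)) (E.X n)
    have h1 := ih (fun c hc => ht c (Finset.mem_insert_of_mem hc)) E hE L hL
    have h2 := bijective_comp_ext_iotaC_single I b hbI (gI (Ideal.span (t : Set A)) E) hE' L hL
    have h3 : Function.Bijective
        (fun g : L ⟶ (extD A B).obj (DerivedCategory.Q.obj
          (gI (Ideal.span ((insert b t : Finset A) : Set A)) E)) =>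
          g ≫ (extD A B).map (DerivedCategory.Q.map θ.inv)) :=
      bijective_comp_of_isIso _
    have hc := h1.comp (h2.comp h3)
    have h4 : iotaC (Ideal.span ((insert b t : Finset A) : Set A)) E =
        θ.inv ≫ iotaC (Ideal.span {b}) (gI (Ideal.span (t : Set A)) E) ≫
          iotaC (Ideal.span (t : Set A)) E := by
      rw [← hθ, Iso.inv_hom_id_assoc]
    have e : (fun g : L ⟶ (extD A B).obj (DerivedCategory.Q.obj
          (gI (Ideal.span ((insert b t : Finset A) : Set A)) E)) =>
        g ≫ (extD A B).map (DerivedCategory.Q.map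
          (iotaC (Ideal.span ((insert b t : Finset A) : Set A)) E))) =
        (fun g => g ≫ (extD A B).map
          (DerivedCategory.Q.map (iotaC (Ideal.span (t : Set A)) E))) ∘
          ((fun g => g ≫ (extD A B).map (DerivedCategory.Q.map
            (iotaC (Ideal.span {b}) (gI (Ideal.span (t : Set A)) E)))) ∘
          (fun g => g ≫ (extD A B).map (DerivedCategory.Q.map θ.inv))) := by
      funext g
      simp only [Function.comp_apply]
      rw [h4, Functor.map_comp, Functor.map_comp, Functor.map_comp, Functor.map_comp,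
        Category.assoc, Category.assoc]
    rw [e]
    exact hc

/-- `RΓ_I(K) ⊗_A B ⟶ K ⊗_A B` is a coreflection into the `IB`-power torsion objects -/
theorem bijective_comp_ext_eps [DRing.HasRgammaI I] (K : Dual.D A)
    (L : Dual.D B)
    (hL : ∀ i : ℤ, LocCoh.IsPowerTorsion (I.map (algebraMap A B)) (Dual.HD B L i)) :
    Function.Bijective (fun g : L ⟶ (extD A B).obj ((DRing.RgammaI I).obj K) =>
      g ≫ (extD A B).map ((DRing.RgammaIε I).app K)) := by
  classical
  obtain ⟨s, hs⟩ := (IsNoetherian.noetherian I : I.FG)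
  have hs' : Ideal.span (s : Set A) = I := hs
  obtain ⟨E, hEK, hEinj, ⟨e⟩⟩ := RGa.exists_model K
  haveI := isIso_uu I E hEK
  have hb : Function.Bijective (fun g : L ⟶ (extD A B).obj
        (DerivedCategory.Q.obj (gI I E)) =>
      g ≫ (extD A B).map (DerivedCategory.Q.map (iotaC I E))) := by
    have := bijective_comp_ext_iotaC (B := B) I s (fun b hb => hs' ▸ Ideal.subset_span hb)
      E (moduleInjective_of_injective E hEinj) L hL
    rw [hs'] at this
    exact this
  have h1 : Function.Bijective (fun g : L ⟶ (extD A B).obj ((DRing.RgammaI I).obj K) =>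
      g ≫ (extD A B).map ((DRing.RgammaI I).map e.hom ≫ inv (uu I E))) :=
    bijective_comp_of_isIso _
  have h3 : Function.Bijective (fun g : L ⟶ (extD A B).obj (DerivedCategory.Q.obj E) =>
      g ≫ (extD A B).map e.inv) := bijective_comp_of_isIso _
  have hc := h3.comp (hb.comp h1)
  have e' : (fun g : L ⟶ (extD A B).obj ((DRing.RgammaI I).obj K) =>
      g ≫ (extD A B).map ((DRing.RgammaIε I).app K)) =
      (fun g : L ⟶ (extD A B).obj (DerivedCategory.Q.obj E) => g ≫ (extD A B).map e.inv) ∘
      ((fun g : L ⟶ (extD A B).obj (DerivedCategory.Q.obj (gI I E)) =>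
        g ≫ (extD A B).map (DerivedCategory.Q.map (iotaC I E))) ∘
      (fun g : L ⟶ (extD A B).obj ((DRing.RgammaI I).obj K) =>
        g ≫ (extD A B).map ((DRing.RgammaI I).map e.hom ≫ inv (uu I E)))) := by
    funext g
    simp only [Function.comp_apply, Category.assoc, ← Functor.map_comp]
    rw [eps_eq I K E hEK e]
  rw [e']
  exact hc

/-- `RΓ_{IB}(K ⊗_A B) ≅ RΓ_I(K) ⊗_A B` -/
theorem nonempty_RgammaI_extD_iso [DRing.HasRgammaI I] (K : Dual.D A) :
    Nonempty ((DRing.RgammaI (I.map (algebraMap A B))).obj ((extD A B).obj K) ≅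
      (extD A B).obj ((DRing.RgammaI I).obj K)) := by
  obtain ⟨e, -⟩ := exists_iso_of_corefl
    (fun L : Dual.D B => ∀ i : ℤ,
      LocCoh.IsPowerTorsion (I.map (algebraMap A B)) (Dual.HD B L i))
    ((DRing.RgammaIε (I.map (algebraMap A B))).app ((extD A B).obj K))
    ((extD A B).map ((DRing.RgammaIε I).app K))
    (fun i => isPowerTorsion_HD_RgammaI (I.map (algebraMap A B)) _ i)
    (fun i => isPowerTorsion_HD_extD I _ (fun j => isPowerTorsion_HD_RgammaI I K j) i)
    (fun L hL => bijective_comp_eps (I.map (algebraMap A B)) L _ hL)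
    (fun L hL => bijective_comp_ext_eps I K L hL)
  exact ⟨e⟩

/-- `H^i_{IB}(K ⊗^L_A B) ≅ H^i_I(K) ⊗_A B` -/
theorem nonempty_HDI_LBaseChange_iso [DRing.HasRgammaI I]
    [DRing.HasLBaseChange (algebraMap A B)] (K : Dual.D A) (i : ℤ) :
    Nonempty (Dual2.HDI B (I.map (algebraMap A B))
        ((DRing.LBaseChange (algebraMap A B)).obj K) i ≅
      (ModuleCat.extendScalars (algebraMap A B)).obj (Dual2.HDI A I K i)) := by
  let ν : DRing.LBaseChange (algebraMap A B) ≅ extD A B :=
    (LBCAdj.adjD (algebraMap A B)).leftAdjointUniq (extAdj A B)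
  obtain ⟨e0⟩ := nonempty_RgammaI_extD_iso (B := B) I K
  obtain ⟨e1⟩ := RGg.nonempty_HD_RgammaI_equiv_HDI (I.map (algebraMap A B)) i
    ((DRing.LBaseChange (algebraMap A B)).obj K)
  obtain ⟨e4⟩ := RGg.nonempty_HD_RgammaI_equiv_HDI I i K
  let e2 := ((DerivedCategory.homologyFunctor (ModuleCat.{u} B) i).mapIso
    ((DRing.RgammaI (I.map (algebraMap A B))).mapIso (ν.app K) ≪≫ e0)).toLinearEquiv
  let e3 := (homologyMapDIso (extM (A := A) (B := B))
    ((DRing.RgammaI I).obj K) i).toLinearEquiv
  exact ⟨(e1.symm ≪≫ₗ e2 ≪≫ₗ e3 ≪≫ₗ extendEquiv e4).toModuleIso⟩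

end flat

end Groth.Agent.Lib.Helper21.RGi
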