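import Mathlib
import Groth.Agent.Lib.Helper21.RGj
import Groth.Agent.Lib.Helper18.RHomKA
import Groth.Agent.Lib.Helper18.RHomCmpE
import Groth.Agent.Lib.Helper18.DCmp7
import Groth.Agent.Lib.Helper18.DTenB

/-!
# Local duality and derived completion (helper21)

`RHom(K, ω)^ ≅ RHom(RΓ_m K, E[0])` over a Noetherian local ring with normalized dualizing complex
`ω` and injective hull `E` of the residue field.
-/

set_option autoImplicit false
set_option linter.style.haveILetI false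
set_option linter.unusedSectionVars false
universe u
open CategoryTheory CategoryTheory.Limits CategoryTheory.Pretriangulated DerivedCategory
  HomologicalComplex CochainComplex.HomComplex

attribute [local instance] HasDerivedCategory.standard

namespace Groth.Agent.Lib.Helper21.RGk

open Groth.Agent.Lib.Helper21.RGa Groth.Agent.Lib.Helper21.RGb Groth.Agent.Lib.Helper21.RGd
  Groth.Agent.Lib.Helper21.RGe Groth.Agent.Lib.Helper21.RGj Groth.Agent.Lib.Helper4.LC
  Groth.Agent.Lib.Helper18.DR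

variable {A : Type u} [CommRing A]

/-! ## `Hom•(-, J)` and maps inducing bijections on `Hom(-, J[n])` -/

lemma mem_coboundaries_of_precomp' (J : DRing.Cx A) [J.IsKInjective] {K K' : DRing.Cx A}
    (b : K' ⟶ K)
    (hb : ∀ n : ℤ, Function.Bijective (fun g : DerivedCategory.Q.obj K ⟶
      DerivedCategory.Q.obj (J⟦n⟧) => DerivedCategory.Q.map b ≫ g))
    {n : ℤ} (z : Cocycle K J n)
    (h : z.precomp b ∈ coboundaries K' J n) : z ∈ coboundaries K J n := by
  rw [← CohomologyClass.toHom_mk_eq_zero_iff, CohomologyClass.toHom_mk,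
    HomotopyCategory.quotient_map_eq_zero_iff] at h ⊢
  rw [Cocycle.equivHomShift_symm_precomp] at h
  obtain ⟨H⟩ := h
  have h1 := Q_map_eq_of_homotopy H
  rw [Functor.map_comp, Functor.map_zero] at h1
  have h2 : DerivedCategory.Q.map (Cocycle.equivHomShift.symm z) = 0 := by
    apply (hb n).1
    change DerivedCategory.Q.map b ≫ DerivedCategory.Q.map (Cocycle.equivHomShift.symm z) =
      DerivedCategory.Q.map b ≫ 0
    rw [h1, comp_zero]
  exact nonempty_homotopy_of_map_eq_inj K (J⟦n⟧) _ 0 (by rw [h2, Functor.map_zero])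

lemma exists_cocycle_precomp' (J : DRing.Cx A) [J.IsKInjective] {K K' : DRing.Cx A}
    (b : K' ⟶ K)
    (hb : ∀ n : ℤ, Function.Bijective (fun g : DerivedCategory.Q.obj K ⟶
      DerivedCategory.Q.obj (J⟦n⟧) => DerivedCategory.Q.map b ≫ g))
    {n : ℤ} (z' : Cocycle K' J n) :
    ∃ z : Cocycle K J n, z.precomp b - z' ∈ coboundaries K' J n := by
  obtain ⟨g, hg⟩ := (hb n).2 (DerivedCategory.Q.map (Cocycle.equivHomShift.symm z'))
  have hg' : DerivedCategory.Q.map b ≫ g =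
      DerivedCategory.Q.map (Cocycle.equivHomShift.symm z') := hg
  obtain ⟨y, hy⟩ := exists_map_eq_inj K (J⟦n⟧) g
  have h1 : DerivedCategory.Q.map (b ≫ y) =
      DerivedCategory.Q.map (Cocycle.equivHomShift.symm z') := by
    rw [Functor.map_comp, hy, hg']
  obtain ⟨H⟩ := nonempty_homotopy_of_map_eq_inj K' (J⟦n⟧) _ _ h1
  refine ⟨Cocycle.equivHomShift y, ?_⟩
  rw [← CohomologyClass.toHom_mk_eq_zero_iff, CohomologyClass.mk_sub, map_sub,
    CohomologyClass.toHom_mk, CohomologyClass.toHom_mk, Cocycle.equivHomShift_symm_precomp,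
    AddEquiv.symm_apply_apply, HomotopyCategory.eq_of_homotopy _ _ H, sub_self]

/-- `Hom•(b, J)` is a quasi-isomorphism when `b` induces bijections on `Hom_{D(A)}(-, J[n])` -/
theorem quasiIso_precomp' (J : DRing.Cx A) [J.IsKInjective] {K K' : DRing.Cx A}
    (b : K' ⟶ K)
    (hb : ∀ n : ℤ, Function.Bijective (fun g : DerivedCategory.Q.obj K ⟶
      DerivedCategory.Q.obj (J⟦n⟧) => DerivedCategory.Q.map b ≫ g)) :
    QuasiIso (HomCx.precomp b J) := by
  rw [quasiIso_iff]
  intro n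
  rw [quasiIsoAt_iff' (HomCx.precomp b J) (n - 1) n (n + 1) (by simp) (by simp)]
  refine shortComplex_quasiIso_of_elementwise _ ?_ ?_
  · intro (x₂ : Cochain K J n) (hx₂ : δ n (n + 1) x₂ = 0) ⟨(y₁ : Cochain K' J (n - 1)), hy₁⟩
    have hy₁' : δ (n - 1) n y₁ = (Cochain.ofHom b).comp x₂ (zero_add n) := hy₁
    let z : Cocycle K J n := Cocycle.mk x₂ (n + 1) rfl hx₂
    have hz : z.precomp b ∈ coboundaries K' J n := by
      rw [mem_coboundaries_iff _ (n - 1) (by omega)]
      exact ⟨y₁, hy₁'⟩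
    have := mem_coboundaries_of_precomp' J b hb z hz
    rw [mem_coboundaries_iff _ (n - 1) (by omega)] at this
    obtain ⟨β, hβ⟩ := this
    exact ⟨β, hβ⟩
  · intro (y₂ : Cochain K' J n) (hy₂ : δ n (n + 1) y₂ = 0)
    let z' : Cocycle K' J n := Cocycle.mk y₂ (n + 1) rfl hy₂
    obtain ⟨z, hz⟩ := exists_cocycle_precomp' J b hb z'
    rw [mem_coboundaries_iff _ (n - 1) (by omega)] at hz
    obtain ⟨β, hβ⟩ := hz
    refine ⟨(z.1 : Cochain K J n), β, ?_, ?_⟩
    · exact z.δ_eq_zero (n + 1)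
    · change (Cochain.ofHom b).comp z.1 (zero_add n) = y₂ + δ (n - 1) n β
      rw [hβ]
      change _ = y₂ + ((Cochain.ofHom b).comp z.1 (zero_add n) - y₂)
      abel

/-! ## `Hom•(G, -)` and maps inducing bijections on `Hom(G, -[n])` -/

lemma mem_coboundaries_of_postcomp' (G : DRing.Cx A) {J J' : DRing.Cx A} [J.IsKInjective]
    [J'.IsKInjective] (f : J ⟶ J')
    (hf : ∀ n : ℤ, Function.Bijective (fun g : DerivedCategory.Q.obj G ⟶
      DerivedCategory.Q.obj (J⟦n⟧) => g ≫ DerivedCategory.Q.map (f⟦n⟧')))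
    {n : ℤ} (z : Cocycle G J n)
    (h : z.postcomp f ∈ coboundaries G J' n) : z ∈ coboundaries G J n := by
  rw [← CohomologyClass.toHom_mk_eq_zero_iff, CohomologyClass.toHom_mk,
    HomotopyCategory.quotient_map_eq_zero_iff] at h ⊢
  rw [Cocycle.equivHomShift_symm_postcomp] at h
  obtain ⟨H⟩ := h
  have h1 := Q_map_eq_of_homotopy H
  rw [Functor.map_comp, Functor.map_zero] at h1
  have h2 : DerivedCategory.Q.map (Cocycle.equivHomShift.symm z) = 0 := by
    apply (hf n).1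
    change DerivedCategory.Q.map (Cocycle.equivHomShift.symm z) ≫
      DerivedCategory.Q.map (f⟦n⟧') = 0 ≫ DerivedCategory.Q.map (f⟦n⟧')
    rw [h1, zero_comp]
  exact nonempty_homotopy_of_map_eq_inj G (J⟦n⟧) _ 0 (by rw [h2, Functor.map_zero])

lemma exists_cocycle_postcomp' (G : DRing.Cx A) {J J' : DRing.Cx A} [J.IsKInjective]
    [J'.IsKInjective] (f : J ⟶ J')
    (hf : ∀ n : ℤ, Function.Bijective (fun g : DerivedCategory.Q.obj G ⟶
      DerivedCategory.Q.obj (J⟦n⟧) => g ≫ DerivedCategory.Q.map (f⟦n⟧')))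
    {n : ℤ} (z' : Cocycle G J' n) :
    ∃ z : Cocycle G J n, z.postcomp f - z' ∈ coboundaries G J' n := by
  obtain ⟨g, hg⟩ := (hf n).2 (DerivedCategory.Q.map (Cocycle.equivHomShift.symm z'))
  have hg' : g ≫ DerivedCategory.Q.map (f⟦n⟧') =
      DerivedCategory.Q.map (Cocycle.equivHomShift.symm z') := hg
  obtain ⟨y, hy⟩ := exists_map_eq_inj G (J⟦n⟧) g
  have h1 : DerivedCategory.Q.map (y ≫ f⟦n⟧') =
      DerivedCategory.Q.map (Cocycle.equivHomShift.symm z') := by
    rw [Functor.map_comp, hy, hg']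
  obtain ⟨H⟩ := nonempty_homotopy_of_map_eq_inj G (J'⟦n⟧) _ _ h1
  refine ⟨Cocycle.equivHomShift y, ?_⟩
  rw [← CohomologyClass.toHom_mk_eq_zero_iff, CohomologyClass.mk_sub, map_sub,
    CohomologyClass.toHom_mk, CohomologyClass.toHom_mk, Cocycle.equivHomShift_symm_postcomp,
    AddEquiv.symm_apply_apply, HomotopyCategory.eq_of_homotopy _ _ H, sub_self]

/-- `Hom•(G, f)` is a quasi-isomorphism when `f` induces bijections on `Hom_{D(A)}(G, -[n])` -/
theorem quasiIso_homCxMap' (G : DRing.Cx A) {J J' : DRing.Cx A} [J.IsKInjective]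
    [J'.IsKInjective] (f : J ⟶ J')
    (hf : ∀ n : ℤ, Function.Bijective (fun g : DerivedCategory.Q.obj G ⟶
      DerivedCategory.Q.obj (J⟦n⟧) => g ≫ DerivedCategory.Q.map (f⟦n⟧'))) :
    QuasiIso (DRing.homCxMap G f) := by
  rw [quasiIso_iff]
  intro n
  rw [quasiIsoAt_iff' (DRing.homCxMap G f) (n - 1) n (n + 1) (by simp)
    (by simp)]
  refine shortComplex_quasiIso_of_elementwise _ ?_ ?_
  · intro (x₂ : Cochain G J n) (hx₂ : δ n (n + 1) x₂ = 0) ⟨(y₁ : Cochain G J' (n - 1)), hy₁⟩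
    have hy₁' : δ (n - 1) n y₁ = x₂.comp (Cochain.ofHom f) (add_zero n) := hy₁
    let z : Cocycle G J n := Cocycle.mk x₂ (n + 1) rfl hx₂
    have hz : z.postcomp f ∈ coboundaries G J' n := by
      rw [mem_coboundaries_iff _ (n - 1) (by omega)]
      exact ⟨y₁, hy₁'⟩
    have := mem_coboundaries_of_postcomp' G f hf z hz
    rw [mem_coboundaries_iff _ (n - 1) (by omega)] at this
    obtain ⟨β, hβ⟩ := this
    exact ⟨β, hβ⟩
  · intro (y₂ : Cochain G J' n) (hy₂ : δ n (n + 1) y₂ = 0)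
    let z' : Cocycle G J' n := Cocycle.mk y₂ (n + 1) rfl hy₂
    obtain ⟨z, hz⟩ := exists_cocycle_postcomp' G f hf z'
    rw [mem_coboundaries_iff _ (n - 1) (by omega)] at hz
    obtain ⟨β, hβ⟩ := hz
    refine ⟨(z.1 : Cochain G J n), β, ?_, ?_⟩
    · exact z.δ_eq_zero (n + 1)
    · change z.1.comp (Cochain.ofHom f) (add_zero n) = y₂ + δ (n - 1) n β
      rw [hβ]
      change _ = y₂ + (z.1.comp (Cochain.ofHom f) (add_zero n) - y₂)
      abel

/-! ## Consequences in `D(A)` -/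

/-- `Q` commutes with shifts -/
noncomputable def QShiftIso (J : DRing.Cx A) (n : ℤ) :
    DerivedCategory.Q.obj (J⟦n⟧) ≅ (DerivedCategory.Q.obj J)⟦n⟧ :=
  (DerivedCategory.Q.commShiftIso n).app J

lemma QShiftIso_naturality {J J' : DRing.Cx A} (f : J ⟶ J') (n : ℤ) :
    DerivedCategory.Q.map (f⟦n⟧') ≫ (QShiftIso J' n).hom =
      (QShiftIso J n).hom ≫ (DerivedCategory.Q.map f)⟦n⟧' :=
  (DerivedCategory.Q.commShiftIso n).hom.naturality f

/-- K-injective model of an object of `D(A)` -/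
lemma exists_kinj_model (L : Dual.D A) :
    ∃ (J : DRing.Cx A), J.IsKInjective ∧ Nonempty (L ≅ DerivedCategory.Q.obj J) := by
  obtain ⟨J, j, hJ, hj⟩ := RHomK.hasKInj (DerivedCategory.Q.objPreimage L)
  haveI := hj
  exact ⟨J, hJ, ⟨(DerivedCategory.Q.objObjPreimageIso L).symm ≪≫
    asIso (DerivedCategory.Q.map j)⟩⟩

/-- `RHom(X, u)` is an isomorphism when `u` induces bijections on `Hom(X[m], -)` -/
theorem isIso_RHomCx_map (X : DRing.Cx A) [DRing.HasRHomCx X] {L L' : Dual.D A} (u : L ⟶ L')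
    (h : ∀ m : ℤ, Function.Bijective (fun g : (DRing.toD X)⟦m⟧ ⟶ L => g ≫ u)) :
    IsIso ((DRing.RHomCx X).map u) := by
  obtain ⟨J, hJ, ⟨eL⟩⟩ := exists_kinj_model L
  obtain ⟨J', hJ', ⟨eL'⟩⟩ := exists_kinj_model L'
  haveI := hJ
  haveI := hJ'
  obtain ⟨ũ, hũ⟩ := exists_map_eq_inj J J' (eL.inv ≫ u ≫ eL'.hom)
  have hH : ∀ n : ℤ, Function.Bijective (fun g : DerivedCategory.Q.obj X ⟶
      DerivedCategory.Q.obj (J⟦n⟧) => g ≫ DerivedCategory.Q.map (ũ⟦n⟧')) := by
    intro n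
    have hmid : Function.Bijective (fun g : (DRing.toD X)⟦-n⟧ ⟶ DerivedCategory.Q.obj J =>
        g ≫ DerivedCategory.Q.map ũ) := by
      have e1 : (fun g : (DRing.toD X)⟦-n⟧ ⟶ DerivedCategory.Q.obj J =>
          g ≫ DerivedCategory.Q.map ũ) =
          (fun g : (DRing.toD X)⟦-n⟧ ⟶ L' => g ≫ eL'.hom) ∘
          ((fun g : (DRing.toD X)⟦-n⟧ ⟶ L => g ≫ u) ∘
          (fun g : (DRing.toD X)⟦-n⟧ ⟶ DerivedCategory.Q.obj J => g ≫ eL.inv)) := by
        funext g
        simp only [Function.comp_apply, Category.assoc, hũ]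
      rw [e1]
      exact (bijective_comp_of_isIso _).comp ((h (-n)).comp (bijective_comp_of_isIso _))
    have hsh := bijective_comp_shift (DerivedCategory.Q.map ũ) (-n) n (by omega)
      (DRing.toD X) hmid
    have e2 : (fun g : DerivedCategory.Q.obj X ⟶ DerivedCategory.Q.obj (J⟦n⟧) =>
        g ≫ DerivedCategory.Q.map (ũ⟦n⟧')) =
        (fun g : DerivedCategory.Q.obj X ⟶ (DerivedCategory.Q.obj J')⟦n⟧ =>
          g ≫ (QShiftIso J' n).inv) ∘
        ((fun g : DerivedCategory.Q.obj X ⟶ (DerivedCategory.Q.obj J)⟦n⟧ =>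
          g ≫ (DerivedCategory.Q.map ũ)⟦n⟧') ∘
        (fun g : DerivedCategory.Q.obj X ⟶ DerivedCategory.Q.obj (J⟦n⟧) =>
          g ≫ (QShiftIso J n).hom)) := by
      funext g
      simp only [Function.comp_apply, Category.assoc]
      rw [← Category.assoc (QShiftIso J n).hom, ← QShiftIso_naturality ũ n, Category.assoc,
        Iso.hom_inv_id, Category.comp_id]
    rw [e2]
    exact (bijective_comp_of_isIso _).comp (hsh.comp (bijective_comp_of_isIso _))
  haveI := quasiIso_homCxMap' X ũ hH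
  haveI := RHomK.isIso_unit_app X J
  haveI := RHomK.isIso_unit_app X J'
  haveI : IsIso ((DRing.homCxQ X).map ũ) :=
    (inferInstance : IsIso (DerivedCategory.Q.map (DRing.homCxMap X ũ)))
  have hn := (RHomK.unit X).naturality ũ
  have h5 : (DRing.RHomCx X).map (DerivedCategory.Q.map ũ) =
      inv ((RHomK.unit X).app J) ≫ (DRing.homCxQ X).map ũ ≫ (RHomK.unit X).app J' := by
    rw [hn, IsIso.inv_hom_id_assoc]
    rfl
  haveI : IsIso ((DRing.RHomCx X).map (DerivedCategory.Q.map ũ)) := by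
    rw [h5]
    infer_instance
  have h6 : u = eL.hom ≫ DerivedCategory.Q.map ũ ≫ eL'.inv := by
    rw [hũ]
    simp
  rw [h6, Functor.map_comp, Functor.map_comp]
  infer_instance

/-- `RHom(K, N) ≅ RHom(G, N)` when `v : G ⟶ K` induces bijections on `Hom(-, N[n])` -/
theorem nonempty_RHomCx_iso_of_bijective (K G : DRing.Cx A) [DRing.HasRHomCx K]
    [DRing.HasRHomCx G] (v : DRing.toD G ⟶ DRing.toD K) (N : Dual.D A)
    (h : ∀ n : ℤ, Function.Bijective (fun g : DRing.toD K ⟶ N⟦n⟧ => v ≫ g)) :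
    Nonempty ((DRing.RHomCx K).obj N ≅ (DRing.RHomCx G).obj N) := by
  obtain ⟨J, hJ, ⟨eN⟩⟩ := exists_kinj_model N
  haveI := hJ
  obtain ⟨P, p, hP, hp⟩ := DTenB.exists_kprojective_quasiIso G
  haveI := hP
  haveI := hp
  obtain ⟨e, he⟩ := exists_map_eq P K (DerivedCategory.Q.map p ≫ v)
  have hH : ∀ n : ℤ, Function.Bijective (fun g : DerivedCategory.Q.obj K ⟶
      DerivedCategory.Q.obj (J⟦n⟧) => DerivedCategory.Q.map e ≫ g) := by
    intro n
    let ι : N⟦n⟧ ≅ DerivedCategory.Q.obj (J⟦n⟧) :=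
      (shiftFunctor (Dual.D A) n).mapIso eN ≪≫ (QShiftIso J n).symm
    have e1 : (fun g : DerivedCategory.Q.obj K ⟶ DerivedCategory.Q.obj (J⟦n⟧) =>
        DerivedCategory.Q.map e ≫ g) =
        (fun g : DerivedCategory.Q.obj G ⟶ DerivedCategory.Q.obj (J⟦n⟧) =>
          DerivedCategory.Q.map p ≫ g) ∘
        ((fun g : DerivedCategory.Q.obj G ⟶ N⟦n⟧ => g ≫ ι.hom) ∘
        ((fun g : DerivedCategory.Q.obj K ⟶ N⟦n⟧ => v ≫ g) ∘
        (fun g : DerivedCategory.Q.obj K ⟶ DerivedCategory.Q.obj (J⟦n⟧) => g ≫ ι.inv))) := by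
      funext g
      simp only [Function.comp_apply, Category.assoc, Iso.inv_hom_id, Category.comp_id, he]
    rw [e1]
    exact (bijective_isIso_comp _).comp ((bijective_comp_of_isIso _).comp
      ((h n).comp (bijective_comp_of_isIso _)))
  haveI := quasiIso_precomp' J e hH
  haveI := HomCx.quasiIso_precomp J p
  obtain ⟨iK⟩ := RHomK.nonempty_RHomCx_iso_of_kinjective K (𝟙 J)
  obtain ⟨iG⟩ := RHomK.nonempty_RHomCx_iso_of_kinjective G (𝟙 J)
  exact ⟨(DRing.RHomCx K).mapIso eN ≪≫ iK ≪≫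
    asIso (DerivedCategory.Q.map (HomCx.precomp e J)) ≪≫
    (asIso (DerivedCategory.Q.map (HomCx.precomp p J))).symm ≪≫ iG.symm ≪≫
    ((DRing.RHomCx G).mapIso eN).symm⟩

/-! ## Local duality with derived completion -/

/-- `RΓ_m ω ≅ E[0]` for a normalized dualizing complex -/
theorem nonempty_RgammaI_dualizing_iso [IsLocalRing A] [IsNoetherianRing A]
    [DRing.HasRgammaI (IsLocalRing.maximalIdeal A)] (ω : Dual.D A)
    (hω : Dual.IsDualizing A ω) (hn : Dual.IsNormalized A ω) (E : Type u) [AddCommGroup E]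
    [Module A E] (f : IsLocalRing.ResidueField A →ₗ[A] E) (hf : InjHull.IsInjectiveHull f) :
    Nonempty ((DRing.RgammaI (IsLocalRing.maximalIdeal A)).obj ω ≅ Dual.inD A E) := by
  obtain ⟨⟨e0⟩, hz⟩ := Groth.Agent.S1718.result A ω hω hn E f hf
  have h0 : Nonempty (Dual.HD A ((DRing.RgammaI (IsLocalRing.maximalIdeal A)).obj ω) 0
      ≃ₗ[A] E) := by
    obtain ⟨e⟩ := RGg.nonempty_HD_RgammaI_equiv_HDI (IsLocalRing.maximalIdeal A) 0 ω
    exact ⟨e ≪≫ₗ e0⟩
  have hz' : ∀ q : ℤ, q ≠ 0 → Subsingleton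
      (Dual.HD A ((DRing.RgammaI (IsLocalRing.maximalIdeal A)).obj ω) q) := fun q hq => by
    obtain ⟨e⟩ := RGg.nonempty_HD_RgammaI_equiv_HDI (IsLocalRing.maximalIdeal A) q ω
    haveI := hz q hq
    exact e.toEquiv.subsingleton
  exact nonempty_iso_Sg_of_HD _ E h0 hz'

/-- **local duality with derived completion** -/
theorem local_duality_derivedCompletion [IsLocalRing A] [IsNoetherianRing A] (ω : Dual.D A)
    (hω : Dual.IsDualizing A ω) (hn : Dual.IsNormalized A ω) (E : Type u) [AddCommGroup E]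
    [Module A E] (f : IsLocalRing.ResidueField A →ₗ[A] E) (hf : InjHull.IsInjectiveHull f)
    [DRing.HasRgammaI (IsLocalRing.maximalIdeal A)]
    [DRing.HasDerivedCompletion (IsLocalRing.maximalIdeal A)]
    (K : DRing.Cx A) [DRing.HasRHomCx K] (G : DRing.Cx A) [DRing.HasRHomCx G]
    (hG : Nonempty (DRing.toD G ≅
      (DRing.RgammaI (IsLocalRing.maximalIdeal A)).obj (DRing.toD K))) :
    Nonempty (((DRing.derivedCompletion (IsLocalRing.maximalIdeal A)).obj
        ((DRing.RHomCx K).obj ω)).obj ≅ (DRing.RHomCx G).obj (Dual.inD A E)) := by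
  obtain ⟨eG⟩ := hG
  obtain ⟨θ⟩ := nonempty_RgammaI_dualizing_iso ω hω hn E f hf
  -- step 1: commute completion and `RHom(K, -)`
  obtain ⟨hcomp, huniv⟩ := RHomCmp.derivedCompletion_RHomCx (IsLocalRing.maximalIdeal A)
    (IsNoetherian.noetherian (IsLocalRing.maximalIdeal A)) K ω
  obtain ⟨c1, -⟩ := nonempty_iso_of_universal
    (P := fun L => DRing.IsDerivedComplete (IsLocalRing.maximalIdeal A) L)
    (DRing.toDerivedCompletion (IsLocalRing.maximalIdeal A) ((DRing.RHomCx K).obj ω))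
    ((DRing.RHomCx K).map (DRing.toDerivedCompletion (IsLocalRing.maximalIdeal A) ω))
    ((DRing.derivedCompletion (IsLocalRing.maximalIdeal A)).obj
      ((DRing.RHomCx K).obj ω)).property
    hcomp
    (fun L hL => bijective_toDerivedCompletion_comp _ _ L hL)
    huniv
  -- torsion of `G[k]`
  have hGt : ∀ (k j : ℤ), LocCoh.IsPowerTorsion (IsLocalRing.maximalIdeal A)
      (Dual.HD A ((DRing.toD G)⟦k⟧) j) := fun k j =>
    isPowerTorsion_HD_shift _ _ k (fun j' => isPowerTorsion_HD_of_iso _ eG.symm j'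
      (isPowerTorsion_HD_RgammaI _ (DRing.toD K) j')) j
  -- step 2: `RHom(K, ω^) ≅ RHom(G, ω^)`
  have hωc : DRing.IsDerivedComplete (IsLocalRing.maximalIdeal A)
      ((DRing.derivedCompletion (IsLocalRing.maximalIdeal A)).obj ω).obj :=
    ((DRing.derivedCompletion (IsLocalRing.maximalIdeal A)).obj ω).property
  let εK : (DRing.RgammaI (IsLocalRing.maximalIdeal A)).obj (DRing.toD K) ⟶ DRing.toD K :=
    (DRing.RgammaIε (IsLocalRing.maximalIdeal A)).app (DRing.toD K)
  obtain ⟨c2⟩ := nonempty_RHomCx_iso_of_bijective K G (eG.hom ≫ εK)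
    ((DRing.derivedCompletion (IsLocalRing.maximalIdeal A)).obj ω).obj (fun n => by
      have e1 : (fun g : DRing.toD K ⟶
          (((DRing.derivedCompletion (IsLocalRing.maximalIdeal A)).obj ω).obj)⟦n⟧ =>
          (eG.hom ≫ εK) ≫ g) =
          (fun g => eG.hom ≫ g) ∘ (fun g : DRing.toD K ⟶
            (((DRing.derivedCompletion (IsLocalRing.maximalIdeal A)).obj ω).obj)⟦n⟧ =>
            εK ≫ g) := by
        funext g
        simp only [Function.comp_apply, Category.assoc]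
      rw [e1]
      exact (bijective_isIso_comp _).comp (bijective_eps_comp _ _ _
        (isDerivedComplete_shift _ hωc n)))
  -- step 3: `RHom(G, ω) ≅ RHom(G, ω^)`
  haveI h3 : IsIso ((DRing.RHomCx G).map
      (DRing.toDerivedCompletion (IsLocalRing.maximalIdeal A) ω)) :=
    isIso_RHomCx_map G _ (fun k =>
      bijective_comp_toDerivedCompletion (IsLocalRing.maximalIdeal A) _ ω (hGt k))
  -- step 4: `RHom(G, RΓ ω) ≅ RHom(G, ω)`
  let εω : (DRing.RgammaI (IsLocalRing.maximalIdeal A)).obj ω ⟶ ω :=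
    (DRing.RgammaIε (IsLocalRing.maximalIdeal A)).app ω
  haveI h4 : IsIso ((DRing.RHomCx G).map εω) :=
    isIso_RHomCx_map G εω (fun k =>
      bijective_comp_eps (IsLocalRing.maximalIdeal A) _ ω (hGt k))
  exact ⟨c1 ≪≫ c2 ≪≫ (asIso ((DRing.RHomCx G).map
      (DRing.toDerivedCompletion (IsLocalRing.maximalIdeal A) ω))).symm ≪≫
    (asIso ((DRing.RHomCx G).map εω)).symm ≪≫ (DRing.RHomCx G).mapIso θ⟩

end Groth.Agent.Lib.Helper21.RGk
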