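import Mathlib
import Groth.Agent.Lib.Helper21.RGe
import Groth.Agent.Lib.Helper18.GfA
import Groth.Agent.Lib.Helper18.DRRestr
import Groth.Agent.Lib.Helper18.DCmp6
import Groth.Agent.Lib.Helper18.LBCAdj

/-!
# `RΓ_I` and derived base change along a power-like endomorphism (helper21)

For an endomorphism `φ` of a Noetherian ring `A` with `φ(I) ⊆ I` and such that `φ f` acts
invertibly wherever `f` does (e.g. Frobenius), `RΓ_I(A) ⊗^L_{A,φ} A ≅ RΓ_I(A)`.
-/

set_option autoImplicit false
set_option linter.style.haveILetI false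
set_option linter.unusedSectionVars false
universe u
open CategoryTheory CategoryTheory.Limits CategoryTheory.Pretriangulated DerivedCategory

attribute [local instance] HasDerivedCategory.standard

namespace Groth.Agent.Lib.Helper21.RGl

open Groth.Agent.Lib.Helper21.RGa Groth.Agent.Lib.Helper21.RGb Groth.Agent.Lib.Helper21.RGd
  Groth.Agent.Lib.Helper21.RGe Groth.Agent.Lib.Helper4.LC Groth.Agent.Lib.Helper18.DR

section restr

variable {A B : Type u} [CommRing A] [CommRing B] (φ : A →+* B)

lemma restrictD_map_smul_id' (a : A) (Y : Dual.D B) :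
    (DRing.restrictD φ).map ((φ a) • 𝟙 Y) = a • 𝟙 _ := by
  let K' := DerivedCategory.Q.objPreimage Y
  let e : DerivedCategory.Q.obj K' ≅ Y := DerivedCategory.Q.objObjPreimageIso Y
  have h1 : (φ a) • 𝟙 Y = e.inv ≫ DerivedCategory.Q.map ((φ a) • 𝟙 K') ≫
      e.hom := by
    rw [Functor.map_smul, CategoryTheory.Functor.map_id, Linear.smul_comp, Linear.comp_smul,
      Category.id_comp, Iso.inv_hom_id]
  have h2 : ((ModuleCat.restrictScalars.{u} φ).mapHomologicalComplex
      (ComplexShape.up ℤ)).map ((φ a) • 𝟙 K') = a • 𝟙 _ := by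
    ext i x
    rfl
  have h3 := (ModuleCat.restrictScalars.{u} φ).mapDerivedCategoryFactors_hom_naturality
    ((φ a) • 𝟙 K')
  rw [h2] at h3
  have h5 : DerivedCategory.Q.map (a • 𝟙 (((ModuleCat.restrictScalars.{u}
      φ).mapHomologicalComplex (ComplexShape.up ℤ)).obj K')) = a • 𝟙 _ := by
    rw [Functor.map_smul, CategoryTheory.Functor.map_id]
  rw [h5, Linear.comp_smul] at h3
  erw [Category.comp_id] at h3
  have h4 : (DRing.restrictD φ).map
      (DerivedCategory.Q.map ((φ a) • 𝟙 K')) = a • 𝟙 _ := by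
    rw [← cancel_mono ((ModuleCat.restrictScalars.{u}
      φ).mapDerivedCategoryFactors.hom.app K')]
    rw [Linear.smul_comp, Category.id_comp]
    exact h3
  rw [h1, Functor.map_comp, Functor.map_comp, h4, Linear.smul_comp, Linear.comp_smul,
    Category.id_comp, ← Functor.map_comp, Iso.inv_hom_id, CategoryTheory.Functor.map_id]

lemma finv_restrictD' (a : A) (N : Dual.D B) (hN : FInv (φ a) N) :
    FInv a ((DRing.restrictD φ).obj N) := by
  unfold FInv at hN ⊢
  rw [← restrictD_map_smul_id' φ a N]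
  infer_instance

end restr

variable {A : Type u} [CommRing A]

lemma finv_pow {f : A} {N : Dual.D A} (h : FInv f N) (k : ℕ) : FInv (f ^ k) N := by
  unfold FInv at h ⊢
  induction k with
  | zero =>
    rw [pow_zero, one_smul]
    infer_instance
  | succ k ih =>
    have e : f ^ (k + 1) • 𝟙 N = (f ^ k • 𝟙 N) ≫ (f • 𝟙 N) := by
      rw [Linear.smul_comp, Linear.comp_smul, Category.id_comp, smul_smul, pow_succ]
    rw [e]
    infer_instance

/-- left orthogonality to objects on which an element of `I` acts invertibly -/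
def Orth (I : Ideal A) (X : Dual.D A) : Prop :=
  ∀ f ∈ I, ∀ N : Dual.D A, FInv f N → Subsingleton (X ⟶ N)

variable [IsNoetherianRing A] (I : Ideal A)

/-- one generator -/
theorem bijective_comp_iotaC_single_of_orth (b : A) (hb : b ∈ I) (E : DRing.Cx A)
    (hE : ∀ n, Module.Injective A (E.X n)) (X : Dual.D A) (hX : Orth I X) :
    Function.Bijective (fun g : X ⟶ DerivedCategory.Q.obj (gI (Ideal.span {b}) E) =>
      g ≫ DerivedCategory.Q.map (iotaC (Ideal.span {b}) E)) := by
  have hS := Sb_shortExact b E hE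
  have hT : triangleOfSES hS ∈ distTriang (Dual.D A) := triangleOfSES_distinguished hS
  have hR := finv_Q_Rb b E
  have hs0 : Subsingleton (X ⟶ DerivedCategory.Q.obj (Rb b E)) := hX b hb _ hR
  have hs1 : Subsingleton (X ⟶ (DerivedCategory.Q.obj (Rb b E))⟦(-1 : ℤ)⟧) :=
    hX b hb _ (hR.shift (-1))
  constructor
  · intro g₁ g₂ hg
    have hg' : g₁ ≫ DerivedCategory.Q.map (iotaC (Ideal.span {b}) E) =
        g₂ ≫ DerivedCategory.Q.map (iotaC (Ideal.span {b}) E) := hg
    have h0 : (g₁ - g₂) ≫ (triangleOfSES hS).invRotate.mor₂ = 0 := by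
      change (g₁ - g₂) ≫ DerivedCategory.Q.map (iotaC (Ideal.span {b}) E) = 0
      rw [Preadditive.sub_comp, hg', sub_self]
    obtain ⟨h, hh⟩ : ∃ h : X ⟶ (DerivedCategory.Q.obj (Rb b E))⟦(-1 : ℤ)⟧,
        g₁ - g₂ = h ≫ (triangleOfSES hS).invRotate.mor₁ :=
      Triangle.coyoneda_exact₂ _ (inv_rot_of_distTriang _ hT) (g₁ - g₂) h0
    have h1 : h = 0 := hs1.elim _ _
    subst h1
    exact sub_eq_zero.1 (hh.trans zero_comp)
  · intro g
    have h0 : g ≫ (triangleOfSES hS).mor₂ = 0 := hs0.elim _ _
    obtain ⟨h, hh⟩ : ∃ h : X ⟶ DerivedCategory.Q.obj (gI (Ideal.span {b}) E),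
        g = h ≫ DerivedCategory.Q.map (iotaC (Ideal.span {b}) E) :=
      Triangle.coyoneda_exact₂ _ hT g h0
    exact ⟨h, hh.symm⟩

/-- finitely many generators -/
theorem bijective_comp_iotaC_of_orth (s : Finset A) :
    ∀ (_ : ∀ b ∈ s, b ∈ I) (E : DRing.Cx A) (_ : ∀ n, Module.Injective A (E.X n))
      (X : Dual.D A) (_ : Orth I X),
      Function.Bijective (fun g : X ⟶ DerivedCategory.Q.obj (gI (Ideal.span (s : Set A)) E) =>
        g ≫ DerivedCategory.Q.map (iotaC (Ideal.span (s : Set A)) E)) := by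
  classical
  induction s using Finset.induction_on with
  | empty =>
    intro _ E hE X hX
    haveI : IsIso (iotaC (Ideal.span ((∅ : Finset A) : Set A)) E) :=
      isIso_iotaC_of_forall_mem _ E (fun n x => ⟨1, fun a ha => by
        rw [pow_one, Finset.coe_empty, Ideal.span_empty, Ideal.mem_bot] at ha
        rw [ha, zero_smul]⟩)
    exact bijective_comp_of_isIso _
  | insert b s hb ih =>
    intro hs E hE X hX
    have hmem : ∀ (M : Type u) [AddCommGroup M] [Module A M] (x : M),
        x ∈ DRing.torsionSub (Ideal.span ((insert b s : Finset A) : Set A)) M ↔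
          x ∈ DRing.torsionSub (Ideal.span (s : Set A)) M ∧
            x ∈ DRing.torsionSub (Ideal.span {b}) M := by
      intro M _ _ x
      rw [Finset.coe_insert, Ideal.span_insert, mem_torsionSub_sup_iff, and_comm]
    obtain ⟨θ, hθ⟩ := exists_gI_comp_iso (Ideal.span (s : Set A)) (Ideal.span {b})
      (Ideal.span ((insert b s : Finset A) : Set A)) hmem E
    have hE' : ∀ n, Module.Injective A ((gI (Ideal.span (s : Set A)) E).X n) := fun n => by
      haveI := hE n
      exact injective_torsionSub (Ideal.span (s : Set A)) (E.X n)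
    have h1 := ih (fun c hc => hs c (Finset.mem_insert_of_mem hc)) E hE X hX
    have h2 := bijective_comp_iotaC_single_of_orth I b (hs b (Finset.mem_insert_self b s))
      (gI (Ideal.span (s : Set A)) E) hE' X hX
    have h3 : Function.Bijective
        (fun g : X ⟶ DerivedCategory.Q.obj
            (gI (Ideal.span ((insert b s : Finset A) : Set A)) E) =>
          g ≫ DerivedCategory.Q.map θ.inv) := bijective_comp_of_isIso _
    have e : (fun g : X ⟶ DerivedCategory.Q.obj
          (gI (Ideal.span ((insert b s : Finset A) : Set A)) E) =>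
        g ≫ DerivedCategory.Q.map (iotaC (Ideal.span ((insert b s : Finset A) : Set A)) E)) =
        (fun g => g ≫ DerivedCategory.Q.map (iotaC (Ideal.span (s : Set A)) E)) ∘
          ((fun g => g ≫ DerivedCategory.Q.map
            (iotaC (Ideal.span {b}) (gI (Ideal.span (s : Set A)) E))) ∘
          (fun g => g ≫ DerivedCategory.Q.map θ.inv)) := by
      funext g
      simp only [Function.comp_apply, Category.assoc, ← Functor.map_comp]
      rw [← hθ, Iso.inv_hom_id_assoc]
    rw [e]
    exact h1.comp (h2.comp h3)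

variable [DRing.HasRgammaI I]

/-- the coreflection property of `RΓ_I` holds against `Orth`-objects -/
theorem bijective_comp_eps_of_orth (X K : Dual.D A) (hX : Orth I X) :
    Function.Bijective (fun g : X ⟶ (DRing.RgammaI I).obj K =>
      g ≫ (DRing.RgammaIε I).app K) := by
  classical
  obtain ⟨s, hs⟩ := (IsNoetherian.noetherian I : I.FG)
  have hs' : Ideal.span (s : Set A) = I := hs
  obtain ⟨E, hEK, hEinj, ⟨e⟩⟩ := RGa.exists_model K
  haveI := isIso_uu I E hEK
  have hb : Function.Bijective (fun g : X ⟶ DerivedCategory.Q.obj (gI I E) =>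
      g ≫ DerivedCategory.Q.map (iotaC I E)) := by
    have := bijective_comp_iotaC_of_orth I s (fun b hb => hs' ▸ Ideal.subset_span hb)
      E (moduleInjective_of_injective E hEinj) X hX
    rw [hs'] at this
    exact this
  have h1 : Function.Bijective (fun g : X ⟶ (DRing.RgammaI I).obj K =>
      g ≫ ((DRing.RgammaI I).map e.hom ≫ inv (uu I E))) := bijective_comp_of_isIso _
  have h3 : Function.Bijective (fun g : X ⟶ DerivedCategory.Q.obj E => g ≫ e.inv) :=
    bijective_comp_of_isIso _
  have hc := h3.comp (hb.comp h1)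
  have e' : (fun g : X ⟶ (DRing.RgammaI I).obj K => g ≫ (DRing.RgammaIε I).app K) =
      (fun g : X ⟶ DerivedCategory.Q.obj E => g ≫ e.inv) ∘
      ((fun g : X ⟶ DerivedCategory.Q.obj (gI I E) =>
        g ≫ DerivedCategory.Q.map (iotaC I E)) ∘
      (fun g : X ⟶ (DRing.RgammaI I).obj K =>
        g ≫ ((DRing.RgammaI I).map e.hom ≫ inv (uu I E)))) := by
    funext g
    simp only [Function.comp_apply, Category.assoc]
    rw [eps_eq I K E hEK e]
  rw [e']
  exact hc

/-- `Orth`-objects have `I`-power torsion cohomology -/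
theorem isPowerTorsion_HD_of_orth (X : Dual.D A) (hX : Orth I X) (i : ℤ) :
    LocCoh.IsPowerTorsion I (Dual.HD A X i) := by
  obtain ⟨s, hs⟩ := (bijective_comp_eps_of_orth I X X hX).2 (𝟙 X)
  have hs' : s ≫ (DRing.RgammaIε I).app X = 𝟙 X := hs
  have hinj : Function.Injective ((H A i).map s).hom := by
    intro x y hxy
    have h1 : ((H A i).map s ≫ (H A i).map ((DRing.RgammaIε I).app X)).hom x =
        ((H A i).map s ≫ (H A i).map ((DRing.RgammaIε I).app X)).hom y := by
      change ((H A i).map ((DRing.RgammaIε I).app X)).hom (((H A i).map s).hom x) =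
        ((H A i).map ((DRing.RgammaIε I).app X)).hom (((H A i).map s).hom y)
      rw [hxy]
    rw [← Functor.map_comp, hs', CategoryTheory.Functor.map_id] at h1
    exact h1
  exact isPowerTorsion_of_injective I ((H A i).map s).hom hinj
    (isPowerTorsion_HD_RgammaI I X i)

/-- a map of torsion objects inducing bijections on maps to complete objects is invertible -/
theorem isIso_of_bijective_precomp_complete [DRing.HasDerivedCompletion I] {X X' : Dual.D A}
    (s : X ⟶ X') (hX : ∀ i : ℤ, LocCoh.IsPowerTorsion I (Dual.HD A X i))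
    (hX' : ∀ i : ℤ, LocCoh.IsPowerTorsion I (Dual.HD A X' i))
    (h : ∀ N : Dual.D A, DRing.IsDerivedComplete I N →
      Function.Bijective (fun g : X' ⟶ N => s ≫ g)) : IsIso s := by
  have cX : DRing.IsDerivedComplete I ((DRing.derivedCompletion I).obj X).obj :=
    ((DRing.derivedCompletion I).obj X).property
  have cX' : DRing.IsDerivedComplete I ((DRing.derivedCompletion I).obj X').obj :=
    ((DRing.derivedCompletion I).obj X').property
  obtain ⟨t, ht⟩ := (h _ cX).2 (DRing.toDerivedCompletion I X)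
  have ht' : s ≫ t = DRing.toDerivedCompletion I X := ht
  obtain ⟨r, hr⟩ := (bijective_comp_toDerivedCompletion I X' X hX').2 t
  have hr' : r ≫ DRing.toDerivedCompletion I X = t := hr
  have h1 : s ≫ r = 𝟙 X := by
    apply (bijective_comp_toDerivedCompletion I X X hX).1
    change (s ≫ r) ≫ DRing.toDerivedCompletion I X = 𝟙 X ≫ DRing.toDerivedCompletion I X
    rw [Category.assoc, hr', ht', Category.id_comp]
  have h2 : r ≫ s = 𝟙 X' := by
    apply (bijective_comp_toDerivedCompletion I X' X' hX').1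
    change (r ≫ s) ≫ DRing.toDerivedCompletion I X' = 𝟙 X' ≫ DRing.toDerivedCompletion I X'
    rw [Category.id_comp, Category.assoc]
    apply (h _ cX').1
    change s ≫ r ≫ s ≫ DRing.toDerivedCompletion I X' = s ≫ DRing.toDerivedCompletion I X'
    rw [← Category.assoc s r, h1, Category.id_comp]
  exact ⟨⟨r, h1, h2⟩⟩

/-- **`RΓ_I(A) ⊗^L_{A,φ} A ≅ RΓ_I(A)`** for a power-like endomorphism `φ` -/
theorem nonempty_LBaseChange_RgammaI_iso (φ : A →+* A) [DRing.HasLBaseChange φ]
    (h1 : I.map φ ≤ I) (h2 : ∀ (f : A) (N : Dual.D A), FInv f N → FInv (φ f) N) :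
    Nonempty ((DRing.LBaseChange φ).obj ((DRing.RgammaI I).obj (Dual.inD A A)) ≅
      (DRing.RgammaI I).obj (Dual.inD A A)) := by
  haveI := hasDerivedCompletion_of_fg I (IsNoetherian.noetherian I)
  let Λ := DRing.LBaseChange φ
  let R := DRing.restrictD φ
  let adj : Λ ⊣ R := LBCAdj.adjD φ
  let A0 : Dual.D A := Dual.inD A A
  let G : Dual.D A := (DRing.RgammaI I).obj A0
  let ε : G ⟶ A0 := (DRing.RgammaIε I).app A0
  let u : Λ.obj A0 ≅ A0 := Gf.lbcUnitIso φ
  have hGt : ∀ i : ℤ, LocCoh.IsPowerTorsion I (Dual.HD A G i) :=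
    fun i => isPowerTorsion_HD_RgammaI I A0 i
  have hXo : Orth I (Λ.obj G) := by
    intro f hf N hN
    have hRN : FInv f (R.obj N) := finv_restrictD' φ f N (h2 f N hN)
    haveI : Subsingleton (G ⟶ R.obj N) := subsingleton_hom_of_finv I hf G _ hGt hRN
    exact (adj.homEquiv G N).subsingleton
  have hXt : ∀ i : ℤ, LocCoh.IsPowerTorsion I (Dual.HD A (Λ.obj G) i) :=
    fun i => isPowerTorsion_HD_of_orth I _ hXo i
  let ψ : Λ.obj G ⟶ A0 := Λ.map ε ≫ u.hom
  have hψ : ∀ N : Dual.D A, DRing.IsDerivedComplete I N →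
      Function.Bijective (fun g : A0 ⟶ N => ψ ≫ g) := by
    intro N hN
    have hRN : DRing.IsDerivedComplete I (R.obj N) :=
      (isDerivedComplete_map_iff φ I N).1 (fun f hf => hN f (h1 hf))
    have hb := bijective_eps_comp I A0 (R.obj N) hRN
    have e1 : (fun g : Λ.obj A0 ⟶ N => Λ.map ε ≫ g) =
        (adj.homEquiv G N).symm ∘ ((fun g : A0 ⟶ R.obj N => ε ≫ g) ∘ (adj.homEquiv A0 N)) := by
      funext g
      simp only [Function.comp_apply]
      rw [Equiv.eq_symm_apply]
      exact adj.homEquiv_naturality_left ε g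
    have hb2 : Function.Bijective (fun g : Λ.obj A0 ⟶ N => Λ.map ε ≫ g) := by
      rw [e1]
      exact (adj.homEquiv G N).symm.bijective.comp (hb.comp (adj.homEquiv A0 N).bijective)
    have e2 : (fun g : A0 ⟶ N => ψ ≫ g) =
        (fun g : Λ.obj A0 ⟶ N => Λ.map ε ≫ g) ∘ (fun g : A0 ⟶ N => u.hom ≫ g) := by
      funext g
      simp only [Function.comp_apply, Category.assoc, ψ]
    rw [e2]
    exact hb2.comp (bijective_isIso_comp _)
  obtain ⟨s, hs⟩ := (bijective_comp_eps I (Λ.obj G) A0 hXt).2 ψ
  have hs' : s ≫ ε = ψ := hs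
  have hsb : ∀ N : Dual.D A, DRing.IsDerivedComplete I N →
      Function.Bijective (fun g : G ⟶ N => s ≫ g) := by
    intro N hN
    have hbε := bijective_eps_comp I A0 N hN
    have hbψ := hψ N hN
    have e3 : (fun g : A0 ⟶ N => ψ ≫ g) =
        (fun g : G ⟶ N => s ≫ g) ∘ (fun g : A0 ⟶ N => ε ≫ g) := by
      funext g
      simp only [Function.comp_apply, ← hs', Category.assoc]
    rw [e3] at hbψ
    exact (Function.Bijective.of_comp_iff _ hbε).1 hbψ
  haveI := isIso_of_bijective_precomp_complete I s hXt hGt hsb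
  exact ⟨asIso s⟩

end Groth.Agent.Lib.Helper21.RGl
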