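import Mathlib
import Groth.Agent.Lib.Helper21.RGk
import Groth.Agent.Lib.Helper18.HomLoc6
import Groth.Agent.Lib.Helper18.DualFin
import Groth.Agent.Lib.Helper18.DCmp6
import Groth.Agent.Lib.Helper1.InjHullLib
import Groth.Agent.S7060

/-!
# Existence of `RHom(K, -)`, cohomology of `RHom`, and vanishing of `Hom(M, ω[-i])` versus
# vanishing of local cohomology (helper21)

* `hasRHomCx K : DRing.HasRHomCx K` for every complex `K` over every commutative ring.
* `nonempty_HD_RHomCx_equiv`: `H^n(RHom(K, L)) ≃ₗ Hom_{D(A)}(K, L[n])`.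
* `subsingleton_of_subsingleton_hom_injHull`: the injective hull of the residue field of a local
  ring is a cogenerator.
* `subsingleton_hom_iff_subsingleton_HD`: over a Noetherian local ring with normalized dualizing
  complex `ω`, for `M` bounded with finite cohomology, `Hom(M, ω[-i]) = 0 ↔ H^i_m(M) = 0`.
-/

set_option autoImplicit false
set_option linter.style.haveILetI false
set_option linter.unusedSectionVars false
universe u
open CategoryTheory CategoryTheory.Limits CategoryTheory.Pretriangulated DerivedCategory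
  HomologicalComplex CochainComplex.HomComplex

attribute [local instance] HasDerivedCategory.standard

namespace Groth.Agent.Lib.Helper21.RGm

open Groth.Agent.Lib.Helper21.RGa Groth.Agent.Lib.Helper21.RGb Groth.Agent.Lib.Helper21.RGd
  Groth.Agent.Lib.Helper21.RGe Groth.Agent.Lib.Helper21.RGj Groth.Agent.Lib.Helper21.RGk
  Groth.Agent.Lib.Helper4.LC Groth.Agent.Lib.Helper18.DR Groth.Agent.Lib.Helper18.DR.HomLoc

/-! ## Left Kan extensions along a functor factoring through a quotient category -/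

section Kan

universe v₁ v₂ v₃ u₁ u₂ u₃

variable {C : Type u₁} [Category.{v₁} C] {D : Type u₂} [Category.{v₂} D]
  {T : Type u₃} [Category.{v₃} T]

/-- auxiliary: a natural transformation `functor r ⋙ Fh ⟶ L ⋙ G` rewritten along
`e : functor r ⋙ Lh ≅ L` -/
def upτ (r : HomRel C) (Lh : Quotient r ⥤ D) (L : C ⥤ D)
    (e : Quotient.functor r ⋙ Lh ≅ L) (Fh : Quotient r ⥤ T) (G : D ⥤ T)
    (β' : Quotient.functor r ⋙ Fh ⟶ L ⋙ G) :
    Quotient.functor r ⋙ Fh ⟶ Quotient.functor r ⋙ (Lh ⋙ G) where
  app X := β'.app X ≫ G.map (e.inv.app X)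
  naturality X Y f := by
    have h1 := β'.naturality f
    have h2 := e.inv.naturality f
    dsimp at h1 h2 ⊢
    rw [reassoc_of% h1, ← G.map_comp, h2, G.map_comp, Category.assoc]

/-- transfer of the left Kan extension property from a quotient category of `C` to `C` -/
theorem isLeftKanExtension_downβ (r : HomRel C) (Lh : Quotient r ⥤ D) (L : C ⥤ D)
    (e : Quotient.functor r ⋙ Lh ≅ L) (Fh : Quotient r ⥤ T) (RF : D ⥤ T)
    (αh : Fh ⟶ Lh ⋙ RF) [h : RF.IsLeftKanExtension αh] :
    RF.IsLeftKanExtension (RHomK.downβ r Lh L e Fh RF αh) := by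
  have key : ∀ (G : D ⥤ T) (β : Fh ⟶ Lh ⋙ G) (τ : RF ⟶ G),
      (αh ≫ Functor.whiskerLeft Lh τ = β) ↔
        (RHomK.downβ r Lh L e Fh RF αh ≫ Functor.whiskerLeft L τ =
          RHomK.downβ r Lh L e Fh G β) := by
    intro G β τ
    constructor
    · intro hτ
      ext X
      have h1 := congr_app hτ ((Quotient.functor r).obj X)
      dsimp [RHomK.downβ] at h1 ⊢
      rw [Category.assoc, τ.naturality, ← Category.assoc, h1]
    · intro hτ
      refine Quotient.natTrans_ext _ _ ?_
      ext X
      have h1 := congr_app hτ X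
      dsimp [RHomK.downβ] at h1 ⊢
      rw [Category.assoc, τ.naturality, ← Category.assoc] at h1
      have : IsIso (G.map (e.hom.app X)) := inferInstance
      exact (cancel_mono (G.map (e.hom.app X))).1 h1
  have hup : ∀ (G : D ⥤ T) (β' : Quotient.functor r ⋙ Fh ⟶ L ⋙ G),
      RHomK.downβ r Lh L e Fh G (Quotient.natTransLift r (upτ r Lh L e Fh G β')) = β' := by
    intro G β'
    ext X
    change (Quotient.natTransLift r (upτ r Lh L e Fh G β')).app ((Quotient.functor r).obj X) ≫
      G.map (e.hom.app X) = β'.app X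
    rw [Quotient.natTransLift_app]
    change (β'.app X ≫ G.map (e.inv.app X)) ≫ G.map (e.hom.app X) = β'.app X
    rw [Category.assoc, ← G.map_comp, Iso.inv_hom_id_app, G.map_id]
    exact Category.comp_id _
  refine ⟨⟨IsInitial.ofUniqueHom (fun Y => ?_) (fun Y m => ?_)⟩⟩
  · refine StructuredArrow.homMk (RF.descOfIsLeftKanExtension αh Y.right
      (Quotient.natTransLift r (upτ r Lh L e Fh Y.right Y.hom))) ?_
    exact ((key Y.right (Quotient.natTransLift r (upτ r Lh L e Fh Y.right Y.hom)) _).1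
      (RF.descOfIsLeftKanExtension_fac αh Y.right _)).trans (hup Y.right Y.hom)
  · ext1
    refine RF.hom_ext_of_isLeftKanExtension αh _ _ ?_
    have hm : RHomK.downβ r Lh L e Fh RF αh ≫ Functor.whiskerLeft L m.right =
        RHomK.downβ r Lh L e Fh Y.right
          (Quotient.natTransLift r (upτ r Lh L e Fh Y.right Y.hom)) :=
      (StructuredArrow.w m).trans (hup Y.right Y.hom).symm
    rw [(key Y.right _ m.right).2 hm]
    exact (RF.descOfIsLeftKanExtension_fac αh Y.right _).symm

end Kan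

/-! ## Existence of `RHom(K, -)` -/

/-- **the total right derived functor of `Hom•(K, -)` exists**, for every complex `K` -/
theorem hasRHomCx {A : Type u} [CommRing A] (K : DRing.Cx A) : DRing.HasRHomCx K := by
  haveI hF : (RHomK.Fh K).HasRightDerivedFunctor
      (HomotopyCategory.quasiIso (ModuleCat.{u} A) (ComplexShape.up ℤ)) :=
    Groth.Agent.Lib.Helper2.LocalRes.hasRightDerivedFunctor _
      (Groth.Agent.Lib.Helper2.exists_local_resolution RHomK.hasKInj) _
  let RF : Dual.D A ⥤ Dual.D A := (RHomK.Fh K).totalRightDerived DerivedCategory.Qh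
    (HomotopyCategory.quasiIso (ModuleCat.{u} A) (ComplexShape.up ℤ))
  let αh : RHomK.Fh K ⟶ DerivedCategory.Qh ⋙ RF :=
    (RHomK.Fh K).totalRightDerivedUnit DerivedCategory.Qh
      (HomotopyCategory.quasiIso (ModuleCat.{u} A) (ComplexShape.up ℤ))
  have h1 : RF.IsLeftKanExtension αh :=
    Functor.IsRightDerivedFunctor.isLeftKanExtension RF αh
      (HomotopyCategory.quasiIso (ModuleCat.{u} A) (ComplexShape.up ℤ))
  haveI h2 := isLeftKanExtension_downβ (h := h1) _ DerivedCategory.Qh DerivedCategory.Q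
    (DerivedCategory.quotientCompQhIso (ModuleCat.{u} A)) (RHomK.Fh K) RF αh
  have h3 := Functor.HasLeftKanExtension.mk RF
    (RHomK.downβ _ DerivedCategory.Qh DerivedCategory.Q
      (DerivedCategory.quotientCompQhIso (ModuleCat.{u} A)) (RHomK.Fh K) RF αh)
  exact (Functor.hasRightDerivedFunctor_iff (DRing.homCxQ K) DerivedCategory.Q
    (HomologicalComplex.quasiIso (ModuleCat.{u} A) (ComplexShape.up ℤ))).2
    ((Functor.hasLeftExtension_iff_of_iso₂ DerivedCategory.Q
      (Quotient.lift.isLift _ _ _)).1 h3)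

/-! ## Cohomology of `Hom•(K, J)` for `J` K-injective -/

section HomologyHom

variable {A : Type u} [CommRing A]

lemma ofHom_smul' (a : A) {K L : DRing.Cx A} (b : K ⟶ L) :
    Cochain.ofHom (a • b) = a • Cochain.ofHom b := by
  refine Cochain.ext₀ _ _ (fun p => ?_)
  rw [Cochain.ofHom_v, Cochain.smul_v, Cochain.ofHom_v]
  rfl

/-- the short complex computing `H^n(Hom•(K, J))` -/
noncomputable abbrev Scx (K J : DRing.Cx A) (n : ℤ) : ShortComplex (ModuleCat.{u} A) :=
  (DRing.homCx K J).sc' (n - 1) n (n + 1)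

/-- the cocycle attached to an element of the kernel of the differential of `Hom•(K, J)` -/
noncomputable def kerCocycle (K J : DRing.Cx A) (n : ℤ)
    (z : LinearMap.ker (Scx K J n).g.hom) : Cocycle K J n :=
  Cocycle.mk (show Cochain K J n from z.1) (n + 1) rfl
    (show δ n (n + 1) (show Cochain K J n from z.1) = 0 from LinearMap.mem_ker.1 z.2)

/-- the class map `ker d ⟶ Hom_{D(A)}(K, J[n])` -/
noncomputable def clsLin (K J : DRing.Cx A) (n : ℤ) :
    LinearMap.ker (Scx K J n).g.hom →ₗ[A]
      (DerivedCategory.Q.obj K ⟶ (DerivedCategory.Q.obj J)⟦n⟧) where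
  toFun z := DerivedCategory.Q.map (Cocycle.equivHomShift.symm (kerCocycle K J n z)) ≫
    (QShiftIso J n).hom
  map_add' z z' := by
    have h : kerCocycle K J n (z + z') = kerCocycle K J n z + kerCocycle K J n z' :=
      Cocycle.ext rfl
    rw [h, map_add, Functor.map_add, Preadditive.add_comp]
  map_smul' a z := by
    have h : kerCocycle K J n (a • z) = (kerCocycle K J n z).postcomp (a • 𝟙 J) := by
      refine Cocycle.ext ?_
      change a • (show Cochain K J n from z.1) =
        (show Cochain K J n from z.1).comp (Cochain.ofHom (a • 𝟙 J)) (add_zero n)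
      rw [ofHom_smul', Cochain.comp_smul, Cochain.comp_id]
    have h2 : (a • 𝟙 J)⟦n⟧' = a • 𝟙 (J⟦n⟧) := by
      rw [Functor.map_smul, CategoryTheory.Functor.map_id]
    rw [RingHom.id_apply, h, Cocycle.equivHomShift_symm_postcomp, h2, Linear.comp_smul,
      Category.comp_id, Functor.map_smul, Linear.smul_comp]

lemma clsLin_apply (K J : DRing.Cx A) (n : ℤ)
    (z : LinearMap.ker (Scx K J n).g.hom) :
    clsLin K J n z = DerivedCategory.Q.map (Cocycle.equivHomShift.symm (kerCocycle K J n z)) ≫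
      (QShiftIso J n).hom := rfl

lemma clsLin_surjective (K J : DRing.Cx A) [J.IsKInjective] (n : ℤ) :
    Function.Surjective (clsLin K J n) := by
  intro g
  obtain ⟨y, hy⟩ := exists_map_eq_inj K (J⟦n⟧) (g ≫ (QShiftIso J n).inv)
  have hδ : δ n (n + 1) ((Cocycle.equivHomShift y : Cocycle K J n) : Cochain K J n) = 0 :=
    (Cocycle.equivHomShift y).δ_eq_zero (n + 1)
  let x : ((Scx K J n).X₂ : Type u) :=
    ((Cocycle.equivHomShift y : Cocycle K J n) : Cochain K J n)
  have hmem : x ∈ LinearMap.ker (Scx K J n).g.hom :=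
    LinearMap.mem_ker.2 (show (Scx K J n).g.hom x = 0 from hδ)
  refine ⟨⟨x, hmem⟩, ?_⟩
  have h : kerCocycle K J n ⟨x, hmem⟩ = Cocycle.equivHomShift y := Cocycle.ext rfl
  rw [clsLin_apply, h, AddEquiv.symm_apply_apply, hy, Category.assoc, Iso.inv_hom_id,
    Category.comp_id]

lemma clsLin_eq_zero_iff (K J : DRing.Cx A) [J.IsKInjective] (n : ℤ)
    (z : LinearMap.ker (Scx K J n).g.hom) :
    clsLin K J n z = 0 ↔
      ∃ β : Cochain K J (n - 1), δ (n - 1) n β = (show Cochain K J n from z.1) := by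
  rw [clsLin_apply]
  constructor
  · intro h
    have h2 : DerivedCategory.Q.map (Cocycle.equivHomShift.symm (kerCocycle K J n z)) = 0 := by
      rw [← cancel_mono (QShiftIso J n).hom, h, zero_comp]
    obtain ⟨Hh⟩ := nonempty_homotopy_of_map_eq_inj K (J⟦n⟧) _ 0
      (by rw [h2, Functor.map_zero])
    have h3 : kerCocycle K J n z ∈ coboundaries K J n := by
      rw [← CohomologyClass.toHom_mk_eq_zero_iff, CohomologyClass.toHom_mk,
        HomotopyCategory.quotient_map_eq_zero_iff]
      exact ⟨Hh⟩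
    rw [mem_coboundaries_iff _ (n - 1) (by omega)] at h3
    exact h3
  · rintro ⟨β, hβ⟩
    have h3 : kerCocycle K J n z ∈ coboundaries K J n := by
      rw [mem_coboundaries_iff _ (n - 1) (by omega)]
      exact ⟨β, hβ⟩
    rw [← CohomologyClass.toHom_mk_eq_zero_iff, CohomologyClass.toHom_mk,
      HomotopyCategory.quotient_map_eq_zero_iff] at h3
    obtain ⟨Hh⟩ := h3
    have h1 := Q_map_eq_of_homotopy Hh
    rw [h1, Functor.map_zero, zero_comp]

/-- `H^n(Hom•(K, J)) ≃ₗ Hom_{D(A)}(K, J[n])` for `J` K-injective -/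
theorem nonempty_homology_homCx_equiv (K J : DRing.Cx A) [J.IsKInjective] (n : ℤ) :
    Nonempty ((DRing.homCx K J).homology n ≃ₗ[A]
      (DerivedCategory.Q.obj K ⟶ (DerivedCategory.Q.obj J)⟦n⟧)) := by
  let e1 : (DRing.homCx K J).homology n ≅ (Scx K J n).homology :=
    ShortComplex.homologyMapIso ((DRing.homCx K J).isoSc' (n - 1) n (n + 1) (by simp) (by simp))
  let e2 : (Scx K J n).homology ≅
      ModuleCat.of A (LinearMap.ker (Scx K J n).g.hom ⧸
        LinearMap.range (Scx K J n).moduleCatToCycles) :=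
    (Scx K J n).moduleCatHomologyIso
  have hker : LinearMap.range (Scx K J n).moduleCatToCycles = LinearMap.ker (clsLin K J n) := by
    ext z
    rw [LinearMap.mem_ker, clsLin_eq_zero_iff, LinearMap.mem_range]
    constructor
    · rintro ⟨β, hβ⟩
      exact ⟨β, congrArg Subtype.val hβ⟩
    · rintro ⟨β, hβ⟩
      exact ⟨β, Subtype.ext hβ⟩
  let l3 : (LinearMap.ker (Scx K J n).g.hom ⧸ LinearMap.range (Scx K J n).moduleCatToCycles) ≃ₗ[A]
      (DerivedCategory.Q.obj K ⟶ (DerivedCategory.Q.obj J)⟦n⟧) :=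
    (Submodule.quotEquivOfEq _ _ hker).trans
      ((clsLin K J n).quotKerEquivOfSurjective (clsLin_surjective K J n))
  exact ⟨(e1 ≪≫ e2).toLinearEquiv.trans l3⟩

/-- **`H^n(RHom(K, L)) ≃ₗ Hom_{D(A)}(K, L[n])`** -/
theorem nonempty_HD_RHomCx_equiv (K : DRing.Cx A) [DRing.HasRHomCx K] (L : Dual.D A) (n : ℤ) :
    Nonempty (Dual.HD A ((DRing.RHomCx K).obj L) n ≃ₗ[A] (DRing.toD K ⟶ L⟦n⟧)) := by
  obtain ⟨J, hJ, ⟨eL⟩⟩ := exists_kinj_model L
  haveI := hJ
  obtain ⟨iK⟩ := RHomK.nonempty_RHomCx_iso_of_kinjective K (𝟙 J)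
  let iso0 : (DRing.RHomCx K).obj L ≅ DerivedCategory.Q.obj (DRing.homCx K J) :=
    (DRing.RHomCx K).mapIso eL ≪≫ iK
  let l1 : Dual.HD A ((DRing.RHomCx K).obj L) n ≃ₗ[A]
      Dual.HD A (DerivedCategory.Q.obj (DRing.homCx K J)) n :=
    ((DerivedCategory.homologyFunctor (ModuleCat.{u} A) n).mapIso iso0).toLinearEquiv
  let l2 : Dual.HD A (DerivedCategory.Q.obj (DRing.homCx K J)) n ≃ₗ[A]
      (DRing.homCx K J).homology n :=
    ((DerivedCategory.homologyFunctorFactors (ModuleCat.{u} A) n).app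
      (DRing.homCx K J)).toLinearEquiv
  obtain ⟨l3⟩ := nonempty_homology_homCx_equiv K J n
  let l4 : (DerivedCategory.Q.obj K ⟶ (DerivedCategory.Q.obj J)⟦n⟧) ≃ₗ[A]
      (DRing.toD K ⟶ L⟦n⟧) :=
    LinearEquiv.ofBijective (Linear.rightComp A (DerivedCategory.Q.obj K) ((eL.inv)⟦n⟧'))
      (bijective_comp_of_isIso _)
  exact ⟨((l1.trans l2).trans l3).trans l4⟩

end HomologyHom

/-! ## The injective hull of the residue field is a cogenerator -/

section Local

variable {A : Type u} [CommRing A] [IsLocalRing A]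

theorem subsingleton_of_subsingleton_hom_injHull (E : Type u) [AddCommGroup E] [Module A E]
    (f : IsLocalRing.ResidueField A →ₗ[A] E) (hf : InjHull.IsInjectiveHull f)
    (N : Type u) [AddCommGroup N] [Module A N] (h : Subsingleton (N →ₗ[A] E)) :
    Subsingleton N := by
  by_contra hN
  rw [not_subsingleton_iff_nontrivial] at hN
  obtain ⟨x, hx⟩ := exists_ne (0 : N)
  haveI : Module.Injective A E := hf.isInjective
  let φ : A →ₗ[A] N := LinearMap.toSpanSingleton A N x
  let ψ : A →ₗ[A] E := f ∘ₗ (Algebra.linearMap A (IsLocalRing.ResidueField A))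
  have hker : LinearMap.ker φ ≤ LinearMap.ker ψ := by
    intro a ha
    have ha' : a • x = 0 := ha
    have ham : a ∈ IsLocalRing.maximalIdeal A := by
      by_contra hu
      have hunit : IsUnit a := by
        rwa [IsLocalRing.mem_maximalIdeal, mem_nonunits_iff, not_not] at hu
      exact hx ((hunit.smul_eq_zero).1 ha')
    rw [LinearMap.mem_ker]
    change f (algebraMap A (IsLocalRing.ResidueField A) a) = 0
    have h0 : algebraMap A (IsLocalRing.ResidueField A) a = 0 :=
      (IsLocalRing.residue_eq_zero_iff a).2 ham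
    rw [h0, map_zero]
  let ψ' : (A ⧸ LinearMap.ker φ) →ₗ[A] E := (LinearMap.ker φ).liftQ ψ hker
  let ι : (A ⧸ LinearMap.ker φ) →ₗ[A] N := (LinearMap.ker φ).liftQ φ le_rfl
  have hι : Function.Injective ι := by
    rw [← LinearMap.ker_eq_bot]
    exact Submodule.ker_liftQ_eq_bot _ _ _ le_rfl
  obtain ⟨G, hG⟩ := Module.Injective.out ι hι ψ'
  have h1 := hG (Submodule.Quotient.mk 1)
  rw [Subsingleton.elim G 0, LinearMap.zero_apply] at h1
  have h2 : ψ' (Submodule.Quotient.mk 1) = f 1 := by
    change f (algebraMap A (IsLocalRing.ResidueField A) 1) = f 1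
    rw [map_one]
  have h3 : f 1 ≠ 0 := fun h0 =>
    one_ne_zero (hf.injective (h0.trans (map_zero f).symm))
  exact h3 (h2.symm.trans h1.symm)

variable [IsNoetherianRing A]

/-- local duality for the derived completion of a normalized dualizing complex -/
theorem nonempty_hom_completion_equiv [DRing.HasRgammaI (IsLocalRing.maximalIdeal A)]
    [DRing.HasDerivedCompletion (IsLocalRing.maximalIdeal A)] (ω : Dual.D A)
    (hω : Dual.IsDualizing A ω) (hn : Dual.IsNormalized A ω) (E : Type u) [AddCommGroup E]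
    [Module A E] (f : IsLocalRing.ResidueField A →ₗ[A] E) (hf : InjHull.IsInjectiveHull f)
    (M : Dual.D A) (i : ℤ) :
    Nonempty ((M ⟶
        (((DRing.derivedCompletion (IsLocalRing.maximalIdeal A)).obj ω).obj)⟦-i⟧) ≃ₗ[A]
      (Dual.HD A ((DRing.RgammaI (IsLocalRing.maximalIdeal A)).obj M) i →ₗ[A] E)) := by
  haveI : Module.Injective A E := hf.isInjective
  obtain ⟨θ⟩ := nonempty_RgammaI_dualizing_iso ω hω hn E f hf
  obtain ⟨c⟩ := nonempty_iso_RgammaI_completion (IsLocalRing.maximalIdeal A) ω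
  obtain ⟨e1⟩ := nonempty_hom_equiv_dual_HDI (IsLocalRing.maximalIdeal A)
    ((DRing.derivedCompletion (IsLocalRing.maximalIdeal A)).obj ω).obj E (c ≪≫ θ)
    ((DRing.derivedCompletion (IsLocalRing.maximalIdeal A)).obj ω).property M i
  obtain ⟨e5⟩ := RGg.nonempty_HD_RgammaI_equiv_HDI (IsLocalRing.maximalIdeal A) i M
  exact ⟨e1.trans (LinearEquiv.arrowCongr e5 (LinearEquiv.refl A E)).symm⟩

/-- `Hom(M, ω[n])` is a finite module for `M` bounded with finite cohomology -/
lemma finite_hom_dualizing (ω : Dual.D A) (hω : Dual.IsDualizing A ω) (M : Dual.D A)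
    (hfin : ∀ i : ℤ, Module.Finite A (Dual.HD A M i))
    (hbd : ∃ a b : ℤ, ∀ i : ℤ, (i < a ∨ b < i) → Subsingleton (Dual.HD A M i)) (n : ℤ) :
    Module.Finite A (M ⟶ ω⟦n⟧) := by
  obtain ⟨a, b, hab⟩ := hbd
  haveI : M.IsLE b := by
    rw [DerivedCategory.isLE_iff]
    intro i hi
    haveI := hab i (Or.inr hi)
    exact ModuleCat.isZero_of_subsingleton _
  have hPC : DRing.IsPseudoCoherent' A M := isPseudoCoherent'_of_isLE_of_finite M b hfin
  obtain ⟨a0, b0, hfid⟩ := hω.finite_injective_dimension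
  have hfid' : FidIn ω a0 b0 := hfid
  refine finite_hom_of_isPseudoCoherent'_of_boundedBelow M hPC b (ω⟦n⟧) (a0 - n) ?_ ?_
  · intro i hi
    have hz : IsZero ((H A (n + i)).obj ω) := hfid'.isZero_H (n + i) (Or.inl (by omega))
    exact ModuleCat.subsingleton_of_isZero (hz.of_iso ((HShiftIso A n i (n + i) rfl).app ω))
  · intro i
    haveI := hω.finite_cohomology (n + i)
    exact Module.Finite.equiv ((HShiftIso A n i (n + i) rfl).app ω).toLinearEquiv.symm

/-- **`Hom(M, ω[-i]) = 0 ↔ H^i_m(M) = 0`** for `M` bounded with finite cohomology over a Noetherian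
local ring with normalized dualizing complex `ω` -/
theorem subsingleton_hom_iff_subsingleton_HD (ω : Dual.D A) (hω : Dual.IsDualizing A ω)
    (hn : Dual.IsNormalized A ω) [DRing.HasRgammaI (IsLocalRing.maximalIdeal A)]
    (M : Dual.D A) (hfin : ∀ i : ℤ, Module.Finite A (Dual.HD A M i))
    (hbd : ∃ a b : ℤ, ∀ i : ℤ, (i < a ∨ b < i) → Subsingleton (Dual.HD A M i)) (i : ℤ) :
    Subsingleton (M ⟶ ω⟦-i⟧) ↔
      Subsingleton (Dual.HD A ((DRing.RgammaI (IsLocalRing.maximalIdeal A)).obj M) i) := by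
  haveI : DRing.HasDerivedCompletion (IsLocalRing.maximalIdeal A) :=
    hasDerivedCompletion_of_fg _ (IsNoetherian.noetherian _)
  obtain ⟨E, _, _, f, hf⟩ :=
    Groth.Agent.Lib.Helper1.InjHullLib.exists_injective_hull A (IsLocalRing.ResidueField A)
  -- local duality for the completion of `ω`
  obtain ⟨eD⟩ := nonempty_hom_completion_equiv ω hω hn E f hf M i
  have hD : Subsingleton (M ⟶
      (((DRing.derivedCompletion (IsLocalRing.maximalIdeal A)).obj ω).obj)⟦-i⟧) ↔
      Subsingleton (Dual.HD A ((DRing.RgammaI (IsLocalRing.maximalIdeal A)).obj M) i) := by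
    constructor
    · intro h
      have h' : Subsingleton
          (Dual.HD A ((DRing.RgammaI (IsLocalRing.maximalIdeal A)).obj M) i →ₗ[A] E) :=
        eD.symm.toEquiv.subsingleton
      exact subsingleton_of_subsingleton_hom_injHull E f hf _ h'
    · intro h
      exact eD.toEquiv.subsingleton
  -- `RHom(K, -)` for a complex `K` representing `M`
  let K : DRing.Cx A := DerivedCategory.Q.objPreimage M
  let eK : DRing.toD K ≅ M := DerivedCategory.Q.objObjPreimageIso M
  haveI : DRing.HasRHomCx K := hasRHomCx K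
  have key : ∀ (L : Dual.D A) (n : ℤ),
      Nonempty (Dual.HD A ((DRing.RHomCx K).obj L) n ≃ₗ[A] (M ⟶ L⟦n⟧)) := fun L n => by
    obtain ⟨l⟩ := nonempty_HD_RHomCx_equiv K L n
    exact ⟨l.trans (LinearEquiv.ofBijective (Linear.leftComp A (L⟦n⟧) eK.inv)
      (bijective_isIso_comp eK.inv))⟩
  have hNfin : ∀ n : ℤ, Module.Finite A (Dual.HD A ((DRing.RHomCx K).obj ω) n) := fun n => by
    obtain ⟨l⟩ := key ω n
    haveI := finite_hom_dualizing ω hω M hfin hbd n
    exact Module.Finite.equiv l.symm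
  -- completion commutes with `RHom(K, -)`
  obtain ⟨hcomp, huniv⟩ := RHomCmp.derivedCompletion_RHomCx (IsLocalRing.maximalIdeal A)
    (IsNoetherian.noetherian (IsLocalRing.maximalIdeal A)) K ω
  obtain ⟨c1, -⟩ := nonempty_iso_of_universal
    (P := fun L => DRing.IsDerivedComplete (IsLocalRing.maximalIdeal A) L)
    (DRing.toDerivedCompletion (IsLocalRing.maximalIdeal A) ((DRing.RHomCx K).obj ω))
    ((DRing.RHomCx K).map (DRing.toDerivedCompletion (IsLocalRing.maximalIdeal A) ω))
    ((DRing.derivedCompletion (IsLocalRing.maximalIdeal A)).obj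
      ((DRing.RHomCx K).obj ω)).property
    hcomp
    (fun L hL => bijective_toDerivedCompletion_comp _ _ L hL)
    huniv
  obtain ⟨e7, -⟩ := Groth.Agent.S7060.result (IsLocalRing.maximalIdeal A)
    ((DRing.RHomCx K).obj ω) hNfin (-i)
  obtain ⟨lc⟩ := key (((DRing.derivedCompletion (IsLocalRing.maximalIdeal A)).obj ω).obj) (-i)
  obtain ⟨l0⟩ := key ω (-i)
  let lcc : Dual.HD A ((DRing.derivedCompletion (IsLocalRing.maximalIdeal A)).obj
        ((DRing.RHomCx K).obj ω)).obj (-i) ≃ₗ[A]
      Dual.HD A ((DRing.RHomCx K).obj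
        (((DRing.derivedCompletion (IsLocalRing.maximalIdeal A)).obj ω).obj)) (-i) :=
    ((DerivedCategory.homologyFunctor (ModuleCat.{u} A) (-i)).mapIso c1).toLinearEquiv
  have hR : Subsingleton (M ⟶ ω⟦-i⟧) ↔ Subsingleton (M ⟶
      (((DRing.derivedCompletion (IsLocalRing.maximalIdeal A)).obj ω).obj)⟦-i⟧) := by
    constructor
    · intro h
      haveI h1 : Subsingleton (Dual.HD A ((DRing.RHomCx K).obj ω) (-i)) :=
        l0.toEquiv.subsingleton
      haveI h2 : Subsingleton (AdicCompletion (IsLocalRing.maximalIdeal A)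
          (Dual.HD A ((DRing.RHomCx K).obj ω) (-i))) :=
        ⟨fun x y => AdicCompletion.ext (fun n => by
          haveI : Subsingleton (Dual.HD A ((DRing.RHomCx K).obj ω) (-i) ⧸
              ((IsLocalRing.maximalIdeal A) ^ n • ⊤ :
                Submodule A (Dual.HD A ((DRing.RHomCx K).obj ω) (-i)))) :=
            (Submodule.mkQ_surjective _).subsingleton
          exact Subsingleton.elim _ _)⟩
      haveI h3 : Subsingleton (Dual.HD A ((DRing.derivedCompletion
          (IsLocalRing.maximalIdeal A)).obj ((DRing.RHomCx K).obj ω)).obj (-i)) :=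
        e7.toEquiv.subsingleton
      haveI h4 : Subsingleton (Dual.HD A ((DRing.RHomCx K).obj
          (((DRing.derivedCompletion (IsLocalRing.maximalIdeal A)).obj ω).obj)) (-i)) :=
        lcc.symm.toEquiv.subsingleton
      exact lc.symm.toEquiv.subsingleton
    · intro h
      haveI h4 : Subsingleton (Dual.HD A ((DRing.RHomCx K).obj
          (((DRing.derivedCompletion (IsLocalRing.maximalIdeal A)).obj ω).obj)) (-i)) :=
        lc.toEquiv.subsingleton
      haveI h3 : Subsingleton (Dual.HD A ((DRing.derivedCompletion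
          (IsLocalRing.maximalIdeal A)).obj ((DRing.RHomCx K).obj ω)).obj (-i)) :=
        lcc.toEquiv.subsingleton
      haveI h2 : Subsingleton (AdicCompletion (IsLocalRing.maximalIdeal A)
          (Dual.HD A ((DRing.RHomCx K).obj ω) (-i))) :=
        e7.symm.toEquiv.subsingleton
      haveI := hNfin (-i)
      haveI h1 : Subsingleton (Dual.HD A ((DRing.RHomCx K).obj ω) (-i)) :=
        (AdicCompletion.of_injective (I := IsLocalRing.maximalIdeal A)
          (M := Dual.HD A ((DRing.RHomCx K).obj ω) (-i))).subsingleton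
      exact l0.symm.toEquiv.subsingleton
  exact hR.trans hD

end Local

end Groth.Agent.Lib.Helper21.RGm
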