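import Mathlib

/-!
# Ghost lemma in the derived category and an Artin-Rees statement for perfect complexes

* `ghostPow_eq_zero`: a composite of `d` morphisms of `D(C)` each inducing zero on all cohomology
  objects, starting from an object in `D^{≤ b}` and ending in an object of `D^{≥ a}` with
  `b < a + d`, is zero.
* `exists_pow_Q_map_ιJ_eq_zero`: Artin-Rees in the derived category for a bounded complex of
  finite projective modules whose cohomology is killed by `J`.
-/

set_option autoImplicit false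
universe w v u

open CategoryTheory Limits

namespace Groth.Agent.Lib.Helper21.RGn

section Ghost

variable {C : Type u} [Category.{v} C] [Abelian C] [HasDerivedCategory.{w} C]

lemma Q_hom_eq_zero_of_homology (X Y : CochainComplex C ℤ) (b : ℤ)
    [X.IsStrictlyLE b] [Y.IsStrictlyGE b]
    (f : DerivedCategory.Q.obj X ⟶ DerivedCategory.Q.obj Y)
    (hf : (DerivedCategory.homologyFunctor C b).map f = 0) : f = 0 := by
  obtain ⟨X', hX', s, hs, g, rfl⟩ := DerivedCategory.right_fac_of_isStrictlyLE f b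
  have h1 : (DerivedCategory.homologyFunctor C b).map (DerivedCategory.Q.map g) = 0 := by
    have e : (DerivedCategory.homologyFunctor C b).map (DerivedCategory.Q.map s) ≫
        (DerivedCategory.homologyFunctor C b).map
          (inv (DerivedCategory.Q.map s) ≫ DerivedCategory.Q.map g) =
        (DerivedCategory.homologyFunctor C b).map (DerivedCategory.Q.map g) := by
      rw [← Functor.map_comp, IsIso.hom_inv_id_assoc]
    rw [← e, hf, comp_zero]
  have hg : HomologicalComplex.homologyMap g b = 0 := by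
    have h2 := DerivedCategory.homologyFunctorFactors_hom_naturality g b
    rw [h1, zero_comp] at h2
    exact (cancel_epi ((DerivedCategory.homologyFunctorFactors C b).hom.app X')).1
      (h2.symm.trans comp_zero.symm)
  have hg0 : g = 0 := by
    ext i
    by_cases hi : b < i
    · exact (X'.isZero_of_isStrictlyLE b i hi).eq_of_src _ _
    by_cases hi' : i < b
    · exact (Y.isZero_of_isStrictlyGE b i hi').eq_of_tgt _ _
    obtain rfl : i = b := by omega
    have hd1 : X'.d i (i + 1) = 0 :=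
      (X'.isZero_of_isStrictlyLE i (i + 1) (by omega)).eq_of_tgt _ _
    have hd2 : Y.d (i - 1) i = 0 :=
      (Y.isZero_of_isStrictlyGE i (i - 1) (by omega)).eq_of_src _ _
    have i1 : IsIso (X'.iCycles i) := X'.isIso_iCycles i (i + 1) (by simp) hd1
    have i2 : IsIso (Y.pOpcycles i) := Y.isIso_pOpcycles (i - 1) i (by simp) hd2
    have h4 : X'.iCycles i ≫ g.f i ≫ Y.pOpcycles i =
        X'.homologyπ i ≫ HomologicalComplex.homologyMap g i ≫ Y.homologyι i := by
      rw [HomologicalComplex.homologyπ_naturality_assoc, HomologicalComplex.homology_π_ι,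
        HomologicalComplex.cyclesMap_i_assoc]
    have h5 : X'.iCycles i ≫ g.f i ≫ Y.pOpcycles i = 0 := by
      rw [h4, hg, zero_comp, comp_zero]
    have h6 : g.f i ≫ Y.pOpcycles i = 0 := by
      rw [← cancel_epi (X'.iCycles i), h5, comp_zero]
    have h7 : g.f i = 0 := by
      rw [← cancel_mono (Y.pOpcycles i), h6, zero_comp]
    rw [h7]
    rfl
  rw [hg0, Functor.map_zero, comp_zero]

lemma hom_eq_zero_of_homology (X Z : DerivedCategory C) (b : ℤ) [X.IsLE b] [Z.IsGE b]
    (φ : X ⟶ Z) (hφ : (DerivedCategory.homologyFunctor C b).map φ = 0) : φ = 0 := by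
  obtain ⟨K, hK, ⟨e⟩⟩ := X.exists_iso_Q_obj_of_isLE b
  obtain ⟨L, hL, ⟨e'⟩⟩ := Z.exists_iso_Q_obj_of_isGE b
  have h := Q_hom_eq_zero_of_homology K L b (e.inv ≫ φ ≫ e'.hom) (by
    rw [Functor.map_comp, Functor.map_comp, hφ, zero_comp, comp_zero])
  have h' : φ = e.hom ≫ (e.inv ≫ φ ≫ e'.hom) ≫ e'.inv := by simp
  rw [h', h, zero_comp, comp_zero]

lemma exists_fac_truncLT (X Y : DerivedCategory C) (b : ℤ) [X.IsLE b] (f : X ⟶ Y)
    (hf : (DerivedCategory.homologyFunctor C b).map f = 0) :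
    ∃ f' : X ⟶ (DerivedCategory.TStructure.t.truncLT b).obj Y,
      f = f' ≫ (DerivedCategory.TStructure.t.truncLTι b).app Y := by
  have hz : f ≫ (DerivedCategory.TStructure.t.truncGEπ b).app Y = 0 :=
    hom_eq_zero_of_homology X _ b _ (by rw [Functor.map_comp, hf, zero_comp])
  exact Pretriangulated.Triangle.coyoneda_exact₂ _
    (DerivedCategory.TStructure.t.triangleLTGE_distinguished b Y) f hz

/-- A morphism of `D(C)` inducing zero on all cohomology objects. -/
def Ghost {X Y : DerivedCategory C} (f : X ⟶ Y) : Prop :=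
  ∀ q : ℤ, (DerivedCategory.homologyFunctor C q).map f = 0

/-- A composite of `d` ghosts (for `d = 0`: any morphism). -/
def GhostPow : ℕ → ∀ {X Z : DerivedCategory C}, (X ⟶ Z) → Prop
  | 0, _, _, _ => True
  | (d + 1), X, Z, φ => ∃ (Y : DerivedCategory C) (f : X ⟶ Y) (g : Y ⟶ Z),
      Ghost f ∧ GhostPow d g ∧ φ = f ≫ g

lemma ghostPow_zero {X Z : DerivedCategory C} (φ : X ⟶ Z) : GhostPow 0 φ := by
  unfold GhostPow
  trivial

lemma ghostPow_succ {d : ℕ} {X Y Z : DerivedCategory C} (f : X ⟶ Y) (g : Y ⟶ Z)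
    (hf : Ghost f) (hg : GhostPow d g) : GhostPow (d + 1) (f ≫ g) := by
  unfold GhostPow
  exact ⟨Y, f, g, hf, hg, rfl⟩

lemma ghostPow_succ_iff {d : ℕ} {X Z : DerivedCategory C} (φ : X ⟶ Z) :
    GhostPow (d + 1) φ ↔ ∃ (Y : DerivedCategory C) (f : X ⟶ Y) (g : Y ⟶ Z),
      Ghost f ∧ GhostPow d g ∧ φ = f ≫ g := by
  conv_lhs => unfold GhostPow

lemma Ghost.precomp {W X Y : DerivedCategory C} (h : W ⟶ X) {f : X ⟶ Y} (hf : Ghost f) :
    Ghost (h ≫ f) := fun q => by rw [Functor.map_comp, hf q, comp_zero]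

lemma GhostPow.precomp (d : ℕ) {W X Z : DerivedCategory C} (h : W ⟶ X) (g : X ⟶ Z)
    (hg : GhostPow d g) : GhostPow d (h ≫ g) := by
  cases d with
  | zero => exact ghostPow_zero _
  | succ d =>
    obtain ⟨Y, f, g', hf, hg', rfl⟩ := (ghostPow_succ_iff g).1 hg
    rw [← Category.assoc]
    exact ghostPow_succ (h ≫ f) g' (hf.precomp h) hg'

/-- **Ghost lemma.** -/
theorem ghostPow_eq_zero (d : ℕ) : ∀ (a b : ℤ) (_ : b < a + d) {X Z : DerivedCategory C}
    (φ : X ⟶ Z) (_ : X.IsLE b) (_ : Z.IsGE a), GhostPow d φ → φ = 0 := by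
  induction d with
  | zero =>
    intro a b hab X Z φ hX hZ _
    exact DerivedCategory.TStructure.t.zero_of_isLE_of_isGE φ b a (by simpa using hab) hX hZ
  | succ d ih =>
    intro a b hab X Z φ hX hZ hφ
    obtain ⟨Y, f, g, hf, hg, rfl⟩ := (ghostPow_succ_iff φ).1 hφ
    obtain ⟨f', hf'⟩ := exists_fac_truncLT X Y b f (hf b)
    have h1 : (DerivedCategory.TStructure.t.truncLTι b).app Y ≫ g = 0 :=
      ih a (b - 1) (by push_cast at hab; omega) _ inferInstance hZ (GhostPow.precomp d _ g hg)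
    rw [hf', Category.assoc, h1, comp_zero]

lemma ghost_Q_map {K L : CochainComplex C ℤ} (φ : K ⟶ L)
    (h : ∀ q : ℤ, HomologicalComplex.homologyMap φ q = 0) : Ghost (DerivedCategory.Q.map φ) := by
  intro q
  have h2 := DerivedCategory.homologyFunctorFactors_hom_naturality φ q
  have h3 : (DerivedCategory.homologyFunctorFactors C q).hom.app K ≫
      HomologicalComplex.homologyMap φ q = 0 := by
    rw [h q]
    exact comp_zero
  exact (cancel_mono ((DerivedCategory.homologyFunctorFactors C q).hom.app L)).1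
    ((h2.trans h3).trans zero_comp.symm)

end Ghost

section Alg

open TensorProduct

variable {A : Type u} [CommRing A]

/-- The multiplication map `I ⊗ P → P`. -/
noncomputable def mulMap (I : Ideal A) (P : Type*) [AddCommGroup P] [Module A P] :
    ↥I ⊗[A] P →ₗ[A] P :=
  (TensorProduct.lid A P).toLinearMap ∘ₗ LinearMap.rTensor P I.subtype

@[simp] lemma mulMap_tmul (I : Ideal A) (P : Type*) [AddCommGroup P] [Module A P]
    (a : I) (p : P) : mulMap I P (a ⊗ₜ p) = (a : A) • p := by
  simp [mulMap]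

lemma mulMap_injective (I : Ideal A) (P : Type*) [AddCommGroup P] [Module A P]
    [Module.Flat A P] : Function.Injective (mulMap I P) := by
  have h := Module.Flat.rTensor_preserves_injective_linearMap (M := P) I.subtype
    Subtype.val_injective
  exact (TensorProduct.lid A P).injective.comp h

lemma range_mulMap (I : Ideal A) (P : Type*) [AddCommGroup P] [Module A P] :
    LinearMap.range (mulMap I P) = I • (⊤ : Submodule A P) := by
  apply le_antisymm
  · rintro _ ⟨z, rfl⟩
    induction z using TensorProduct.induction_on with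
    | zero => simp
    | tmul a p =>
      rw [mulMap_tmul]
      exact Submodule.smul_mem_smul a.2 Submodule.mem_top
    | add x y hx hy =>
      rw [map_add]
      exact Submodule.add_mem _ hx hy
  · rw [Submodule.smul_le]
    intro r hr n _
    exact ⟨(⟨r, hr⟩ : I) ⊗ₜ n, by simp⟩

lemma mulMap_lTensor (I : Ideal A) {P Q : Type*} [AddCommGroup P] [Module A P]
    [AddCommGroup Q] [Module A Q] (f : P →ₗ[A] Q) (z : ↥I ⊗[A] P) :
    mulMap I Q (LinearMap.lTensor ↥I f z) = f (mulMap I P z) := by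
  induction z using TensorProduct.induction_on with
  | zero => simp
  | tmul a p => simp
  | add x y hx hy => simp only [map_add, hx, hy]

lemma mulMap_rTensor_inclusion {I I' : Ideal A} (h : I ≤ I') (P : Type*) [AddCommGroup P]
    [Module A P] (z : ↥I ⊗[A] P) :
    mulMap I' P (LinearMap.rTensor P (Submodule.inclusion h) z) = mulMap I P z := by
  induction z using TensorProduct.induction_on with
  | zero => simp
  | tmul a p => simp
  | add x y hx hy => simp only [map_add, hx, hy]

lemma artinRees_step [IsNoetherianRing A] (J : Ideal A) {P Q R : Type*}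
    [AddCommGroup P] [Module A P] [AddCommGroup Q] [Module A Q] [AddCommGroup R] [Module A R]
    [Module.Finite A Q] (f : P →ₗ[A] Q) (g : Q →ₗ[A] R)
    (hJ : ∀ r ∈ J, ∀ z, g z = 0 → ∃ v, f v = r • z) :
    ∃ c : ℕ, ∀ k m : ℕ, c + 1 + m ≤ k → ∀ w ∈ (J ^ k • ⊤ : Submodule A Q), g w = 0 →
      ∃ u ∈ (J ^ m • ⊤ : Submodule A P), f u = w := by
  obtain ⟨c, hc⟩ := Ideal.exists_pow_inf_eq_pow_smul J (LinearMap.ker g)
  refine ⟨c, fun k m hk w hw hgw => ?_⟩
  have h1 : w ∈ (J ^ k • ⊤ ⊓ LinearMap.ker g : Submodule A Q) := ⟨hw, hgw⟩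
  rw [hc k (by omega)] at h1
  have h3 : J • (J ^ c • ⊤ ⊓ LinearMap.ker g : Submodule A Q) ≤ LinearMap.range f := by
    rw [Submodule.smul_le]
    intro r hr z hz
    obtain ⟨v, hv⟩ := hJ r hr z (LinearMap.mem_ker.1 hz.2)
    exact ⟨v, hv⟩
  obtain ⟨t, ht⟩ : ∃ t : ℕ, k - c = m + (t + 1) := ⟨k - c - m - 1, by omega⟩
  rw [ht] at h1
  have h2 : J ^ (m + (t + 1)) • (J ^ c • ⊤ ⊓ LinearMap.ker g : Submodule A Q) ≤
      Submodule.map f (J ^ m • ⊤) := by
    calc J ^ (m + (t + 1)) • (J ^ c • ⊤ ⊓ LinearMap.ker g : Submodule A Q)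
        = J ^ m • (J ^ t • (J • (J ^ c • ⊤ ⊓ LinearMap.ker g : Submodule A Q))) := by
          rw [pow_add, pow_succ, Submodule.mul_smul, Submodule.mul_smul]
      _ ≤ J ^ m • LinearMap.range f :=
          Submodule.smul_mono le_rfl
            ((Submodule.smul_mono le_rfl h3).trans Submodule.smul_le_right)
      _ = Submodule.map f (J ^ m • ⊤) := by
          rw [Submodule.map_smul'', Submodule.map_top]
  obtain ⟨u, hu, huw⟩ := h2 h1
  exact ⟨u, hu, huw⟩

end Alg

section Cx

variable {A : Type u} [CommRing A]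

lemma homologyMap_eq_zero_of_forall {K L : CochainComplex (ModuleCat.{u} A) ℤ} (φ : K ⟶ L)
    (q : ℤ)
    (h : ∀ x : K.X q, (K.d q (q + 1)).hom x = 0 →
      ∃ v : L.X (q - 1), (L.d (q - 1) q).hom v = (φ.f q).hom x) :
    HomologicalComplex.homologyMap φ q = 0 := by
  rw [← cancel_epi (K.homologyπ q), HomologicalComplex.homologyπ_naturality, comp_zero]
  apply ModuleCat.hom_ext
  apply LinearMap.ext
  intro x
  have hx0 : (K.d q (q + 1)).hom ((K.iCycles q).hom x) = 0 := by
    have h0 := congrArg (fun f => f.hom x) (K.iCycles_d q (q + 1))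
    simpa only [ModuleCat.hom_comp, LinearMap.comp_apply, ModuleCat.hom_zero,
      LinearMap.zero_apply] using h0
  obtain ⟨v, hv⟩ := h _ hx0
  have hinj : Function.Injective (L.iCycles q).hom :=
    (ModuleCat.mono_iff_injective _).1 inferInstance
  have h1 : (HomologicalComplex.cyclesMap φ q).hom x = (L.toCycles (q - 1) q).hom v := by
    apply hinj
    have e1 := congrArg (fun f => f.hom x) (HomologicalComplex.cyclesMap_i φ q)
    have e2 := congrArg (fun f => f.hom v) (L.toCycles_i (q - 1) q)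
    simp only [ModuleCat.hom_comp, LinearMap.comp_apply] at e1 e2
    rw [e1, e2, hv]
  have h2 := congrArg (fun f => f.hom v) (L.toCycles_comp_homologyπ (q - 1) q)
  simp only [ModuleCat.hom_comp, LinearMap.comp_apply, ModuleCat.hom_zero,
    LinearMap.zero_apply] at h2
  rw [ModuleCat.hom_comp, LinearMap.comp_apply, h1, h2, ModuleCat.hom_zero,
    LinearMap.zero_apply]

lemma smul_mem_range_of_homology_smul {K : CochainComplex (ModuleCat.{u} A) ℤ} (q : ℤ) (r : A)
    (hr : ∀ c : K.homology q, r • c = 0) (z : K.X q) (hz : (K.d q (q + 1)).hom z = 0) :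
    ∃ v : K.X (q - 1), (K.d (q - 1) q).hom v = r • z := by
  let k : ModuleCat.of A A ⟶ K.X q := ModuleCat.ofHom (LinearMap.toSpanSingleton A (K.X q) z)
  have hk : k ≫ K.d q (q + 1) = 0 := by
    apply ModuleCat.hom_ext
    apply LinearMap.ext_ring
    simp [k, hz]
  let zt : K.cycles q := (K.liftCycles k (q + 1) (by simp) hk).hom (1 : A)
  have hzt : (K.iCycles q).hom zt = z := by
    have h0 : (K.liftCycles k (q + 1) (by simp) hk ≫ K.iCycles q).hom (1 : A) = k.hom (1 : A) := by
      rw [K.liftCycles_i]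
    rw [ModuleCat.hom_comp, LinearMap.comp_apply] at h0
    have h00 : k.hom (1 : A) = z := by simp [k]
    exact h0.trans h00
  have hex : (ShortComplex.mk (K.toCycles (q - 1) q) (K.homologyπ q)
      (K.toCycles_comp_homologyπ (q - 1) q)).Exact :=
    ShortComplex.exact_of_g_is_cokernel _ (K.homologyIsCokernel (q - 1) q (by simp))
  have hrz : (K.homologyπ q).hom (r • zt) = 0 := by
    rw [map_smul]
    exact hr _
  obtain ⟨v, hv⟩ := (ShortComplex.moduleCat_exact_iff _).1 hex (r • zt) hrz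
  have hv' : (K.toCycles (q - 1) q).hom v = r • zt := hv
  refine ⟨v, ?_⟩
  have e2 := congrArg (fun f => f.hom v) (K.toCycles_i (q - 1) q)
  simp only [ModuleCat.hom_comp, LinearMap.comp_apply] at e2
  rw [← e2, hv', map_smul, hzt]

open MonoidalCategory

/-- The complex `J^k ⊗ K`. -/
noncomputable abbrev TJ (J : Ideal A) (K : CochainComplex (ModuleCat.{u} A) ℤ) (k : ℕ) :
    CochainComplex (ModuleCat.{u} A) ℤ :=
  (((curriedTensor (ModuleCat.{u} A)).obj (ModuleCat.of A ↥(J ^ k))).mapHomologicalComplex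
    (ComplexShape.up ℤ)).obj K

/-- The inclusion `J^k → J^l` for `l ≤ k`. -/
noncomputable abbrev inclJ (J : Ideal A) (k l : ℕ) (h : l ≤ k) :
    ModuleCat.of A ↥(J ^ k) ⟶ ModuleCat.of A ↥(J ^ l) :=
  ModuleCat.ofHom (Submodule.inclusion (p := J ^ k) (p' := J ^ l) (Ideal.pow_le_pow_right h))

/-- The map `J^k ⊗ K → J^l ⊗ K` for `l ≤ k`. -/
noncomputable abbrev ιJ (J : Ideal A) (K : CochainComplex (ModuleCat.{u} A) ℤ) (k l : ℕ)
    (h : l ≤ k) : TJ J K k ⟶ TJ J K l :=
  (NatTrans.mapHomologicalComplex ((curriedTensor (ModuleCat.{u} A)).map (inclJ J k l h))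
    (ComplexShape.up ℤ)).app K

lemma inclJ_comp (J : Ideal A) (k l m : ℕ) (h : l ≤ k) (h' : m ≤ l) :
    inclJ J k l h ≫ inclJ J l m h' = inclJ J k m (h'.trans h) := by
  apply ModuleCat.hom_ext
  apply LinearMap.ext
  intro x
  rfl

lemma ιJ_comp (J : Ideal A) (K : CochainComplex (ModuleCat.{u} A) ℤ) (k l m : ℕ) (h : l ≤ k)
    (h' : m ≤ l) : ιJ J K k l h ≫ ιJ J K l m h' = ιJ J K k m (h'.trans h) := by
  ext q : 1
  simp only [HomologicalComplex.comp_f, NatTrans.mapHomologicalComplex_app_f]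
  have e := congrArg (fun α => (α.app (K.X q)))
    (congrArg ((curriedTensor (ModuleCat.{u} A)).map) (inclJ_comp J k l m h h'))
  simp only [Functor.map_comp, NatTrans.comp_app] at e
  exact e

lemma isZero_TJ_X (J : Ideal A) (K : CochainComplex (ModuleCat.{u} A) ℤ) (k : ℕ) (q : ℤ)
    (h : IsZero (K.X q)) : IsZero ((TJ J K k).X q) :=
  Functor.map_isZero ((curriedTensor (ModuleCat.{u} A)).obj (ModuleCat.of A ↥(J ^ k))) h

theorem exists_homologyMap_ιJ_eq_zero [IsNoetherianRing A] (J : Ideal A)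
    (K : CochainComplex (ModuleCat.{u} A) ℤ)
    (hJ : ∀ q : ℤ, ∀ x ∈ J, ∀ c : ↑(K.homology q), x • c = 0) (q : ℤ)
    [Module.Finite A (K.X q)] [Module.Flat A (K.X q)] :
    ∃ c : ℕ, ∀ (k m : ℕ) (h : m ≤ k), c + 1 + m ≤ k →
      HomologicalComplex.homologyMap (ιJ J K k m h) q = 0 := by
  obtain ⟨c, hc⟩ := artinRees_step J (K.d (q - 1) q).hom (K.d q (q + 1)).hom
    (fun r hr z hz => smul_mem_range_of_homology_smul q r (hJ q r hr) z hz)
  refine ⟨c, fun k m h hk => ?_⟩
  apply homologyMap_eq_zero_of_forall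
  intro x hx
  have hx' : LinearMap.lTensor ↥(J ^ k) (K.d q (q + 1)).hom x = 0 := hx
  have hw1 : mulMap (J ^ k) (K.X q) x ∈ (J ^ k • ⊤ : Submodule A (K.X q)) := by
    rw [← range_mulMap]
    exact ⟨x, rfl⟩
  have hw2 : (K.d q (q + 1)).hom (mulMap (J ^ k) (K.X q) x) = 0 := by
    have e := mulMap_lTensor (J ^ k) (K.d q (q + 1)).hom x
    rw [hx', map_zero] at e
    exact e.symm
  obtain ⟨u, hu, huw⟩ := hc k m hk _ hw1 hw2
  rw [← range_mulMap] at hu
  obtain ⟨v, rfl⟩ := hu
  refine ⟨v, ?_⟩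
  show LinearMap.lTensor ↥(J ^ m) (K.d (q - 1) q).hom v =
    LinearMap.rTensor (K.X q) (Submodule.inclusion (Ideal.pow_le_pow_right h)) x
  apply mulMap_injective (J ^ m) (K.X q)
  have e1 := mulMap_lTensor (J ^ m) (K.d (q - 1) q).hom v
  have e2 := mulMap_rTensor_inclusion (Ideal.pow_le_pow_right h : J ^ k ≤ J ^ m) (K.X q) x
  exact e1.trans (huw.trans e2.symm)

theorem exists_pow_Q_map_ιJ_eq_zero [IsNoetherianRing A]
    [HasDerivedCategory.{w} (ModuleCat.{u} A)]
    (K : CochainComplex (ModuleCat.{u} A) ℤ) (a b : ℤ)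
    (hK : ∀ q : ℤ, q < a ∨ b < q → IsZero (K.X q))
    (hfin : ∀ q : ℤ, Module.Finite A (K.X q)) (hproj : ∀ q : ℤ, Module.Projective A (K.X q))
    (J : Ideal A) (hJ : ∀ q : ℤ, ∀ x ∈ J, ∀ c : ↑(K.homology q), x • c = 0) :
    ∃ n : ℕ, ∀ (m : ℕ) (h : m ≤ n + m), DerivedCategory.Q.map (ιJ J K (n + m) m h) = 0 := by
  have hex : ∀ q : ℤ, ∃ c : ℕ, ∀ (k m : ℕ) (h : m ≤ k), c + 1 + m ≤ k →
      HomologicalComplex.homologyMap (ιJ J K k m h) q = 0 := by
    intro q
    have := hfin q
    have := hproj q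
    exact exists_homologyMap_ιJ_eq_zero J K hJ q
  choose cq hcq using hex
  set c : ℕ := (Finset.Icc a b).sup cq with hc
  -- every step of length `c + 1` is a ghost
  have hghost : ∀ (k m : ℕ) (h : m ≤ k), c + 1 + m ≤ k →
      Ghost (DerivedCategory.Q.map (ιJ J K k m h)) := by
    intro k m h hk
    apply ghost_Q_map
    intro q
    by_cases hq : q < a ∨ b < q
    · apply homologyMap_eq_zero_of_forall
      intro x _
      refine ⟨0, ?_⟩
      have hz : (ιJ J K k m h).f q = 0 := (isZero_TJ_X J K m q (hK q hq)).eq_of_tgt _ _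
      rw [hz, map_zero, ModuleCat.hom_zero, LinearMap.zero_apply]
    · have hq' : q ∈ Finset.Icc a b := by
        rw [Finset.mem_Icc]
        omega
      have hle : cq q ≤ c := Finset.le_sup hq'
      exact hcq q k m h (by omega)
  -- composites
  have hpow : ∀ (d m : ℕ) (h : m ≤ d * (c + 1) + m),
      GhostPow d (DerivedCategory.Q.map (ιJ J K (d * (c + 1) + m) m h)) := by
    intro d
    induction d with
    | zero => intro m h; exact ghostPow_zero _
    | succ d ih =>
      intro m h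
      have h1 : d * (c + 1) + m ≤ (d + 1) * (c + 1) + m := by
        rw [Nat.succ_mul]; omega
      have h2 : m ≤ d * (c + 1) + m := Nat.le_add_left _ _
      rw [← ιJ_comp J K _ _ _ h1 h2, Functor.map_comp]
      exact ghostPow_succ _ _ (hghost _ _ h1 (by rw [Nat.succ_mul]; omega)) (ih m h2)
  refine ⟨(b - a + 1).toNat * (c + 1), fun m h => ?_⟩
  have hLE : (TJ J K ((b - a + 1).toNat * (c + 1) + m)).IsStrictlyLE b := by
    rw [CochainComplex.isStrictlyLE_iff]
    intro i hi
    exact isZero_TJ_X J K _ i (hK i (Or.inr hi))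
  have hGE : (TJ J K m).IsStrictlyGE a := by
    rw [CochainComplex.isStrictlyGE_iff]
    intro i hi
    exact isZero_TJ_X J K _ i (hK i (Or.inl hi))
  exact ghostPow_eq_zero (b - a + 1).toNat a b (by omega) _ inferInstance inferInstance
    (hpow _ m h)

end Cx

end Groth.Agent.Lib.Helper21.RGn
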