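import Mathlib
import Groth.Agent.Lib.Helper21.RGp
import Groth.Agent.Lib.Helper18.WayOut
import Groth.Agent.Lib.Helper18.Ampl
import Groth.Agent.Lib.Helper18.ShrB

/-!
# Base change for derived hom: pseudo-coherent source, bounded below target (helper21)

A contravariant way-out lemma (after helper18's `WayOut`), and the base change map `bcRHom` for `K`
pseudo-coherent and `M` bounded below when derived base change has bounded cohomological amplitude
(e.g. for a flat ring map).
-/

set_option autoImplicit false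
set_option linter.style.haveILetI false
set_option linter.unusedSectionVars false

universe u
open CategoryTheory CategoryTheory.Limits CategoryTheory.Pretriangulated MonoidalCategory Opposite
  DerivedCategory
attribute [local instance] HasDerivedCategory.standard

namespace Groth.Agent.Lib.Helper21.RGq

open DTen Groth.Agent.Lib.Helper18.DR Groth.Agent.Lib.Helper18.DR.DistPair
  Groth.Agent.Lib.Helper18.DR.ContraExact Groth.Agent.Lib.Helper21.RGo Groth.Agent.Lib.Helper21.RGp

/-! ### the contravariant way-out lemma -/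

section wayout

variable {R R' : Type u} [CommRing R] [CommRing R']
  {G G' : (Dual.D R)ᵒᵖ ⥤ Dual.D R'} [G.PreservesZeroMorphisms] [G'.PreservesZeroMorphisms]

/-- **way-out lemma, contravariant**: a natural transformation between contravariant hom-exact
functors `D(R)ᵒᵖ ⥤ D(R')` which send `D^{≤ -N}` into `D^{≥ c + N}`, invertible on perfect objects,
is invertible on pseudo-coherent objects. -/
theorem isIso_app_of_isPseudoCoherent' (hG : HomExactOp G) (hG' : HomExactOp G') (τ : G ⟶ G')
    (c : ℤ)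
    (hc : ∀ (N : ℤ) (X : Dual.D R), X.IsLE (-N) → (G.obj (op X)).IsGE (c + N))
    (hc' : ∀ (N : ℤ) (X : Dual.D R), X.IsLE (-N) → (G'.obj (op X)).IsGE (c + N))
    (hperf : ∀ P : Dual.D R, DRing.IsPerfect R P → IsIso (τ.app (op P)))
    (K : Dual.D R) (hK : DRing.IsPseudoCoherent' R K) : IsIso (τ.app (op K)) := by
  obtain ⟨E, b, hEb, hEf, ⟨e⟩⟩ := hK
  suffices hE : IsIso (τ.app (op (DRing.toD E))) from ContraExact.isIso_app_of_iso τ e hE
  refine WayOut.isIso_of_bijective_hom_Sg _ (fun i => ?_)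
  let N : ℤ := i + 1 - c
  let Tr := sigmaTriangle E (-N)
  have hTr : Tr ∈ distTriang (Dual.D R) := sigmaTriangle_distinguished E (-N)
  have hperf₁ : DRing.IsPerfect R Tr.obj₁ :=
    ⟨sigmaGE E (-N), -N, b, vanishesOutside_sigmaGE E (-N) hEb,
      fun j => ⟨((termwiseFiniteFree_sigmaGE E (-N) hEf) j).1,
        haveI := ((termwiseFiniteFree_sigmaGE E (-N) hEf) j).2; inferInstance⟩, ⟨Iso.refl _⟩⟩
  haveI : IsIso (τ.app (op Tr.obj₁)) := hperf _ hperf₁
  have hLE₃ : Tr.obj₃.IsLE (-N - 1) := by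
    change (DerivedCategory.Q.obj (sigmaLT E (-N))).IsLE (-N - 1)
    infer_instance
  have hLE₃' : Tr.obj₃.IsLE (-(N + 1)) := by
    have : -(N + 1) = -N - 1 := by ring
    rw [this]; exact hLE₃
  have hLE₃s : (Tr.obj₃⟦(-1 : ℤ)⟧).IsLE (-N) := by
    haveI := hLE₃
    exact TStructure.t.isLE_shift Tr.obj₃ (-N - 1) (-1) (-N) (by ring)
  let T := Sg i (ModuleCat.of R' R')
  have hz : ∀ (Y : Dual.D R') (m : ℤ), Y.IsGE m → i < m → ∀ φ : T ⟶ Y, φ = 0 := by
    intro Y m hm him φ
    haveI := hm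
    haveI : Y.IsGE (i + 1) := TStructure.t.isGE_of_ge Y (i + 1) m (by omega)
    exact hom_Sg_eq_zero_of_isGE i _ Y φ
  have hnat : G.map Tr.mor₁.op ≫ τ.app (op Tr.obj₁) = τ.app (op Tr.obj₂) ≫ G'.map Tr.mor₁.op :=
    τ.naturality Tr.mor₁.op
  have hinj : ∀ (F : (Dual.D R)ᵒᵖ ⥤ Dual.D R') [F.PreservesZeroMorphisms], HomExactOp F →
      (∀ (N : ℤ) (X : Dual.D R), X.IsLE (-N) → (F.obj (op X)).IsGE (c + N)) →
      ∀ y : T ⟶ F.obj (op Tr.obj₂), y ≫ F.map Tr.mor₁.op = 0 → y = 0 := by
    intro F _ hF hcF y hy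
    obtain ⟨x, hx⟩ := ((hF.exact₂ Tr hTr T) y).1 hy
    have hx0 : x = 0 := hz _ _ (hcF (N + 1) _ hLE₃') (by dsimp only [N]; omega) x
    rw [← hx, hx0]
    exact (zero_comp : (0 : T ⟶ _) ≫ F.map Tr.mor₂.op = 0)
  have hsurj : ∀ (F : (Dual.D R)ᵒᵖ ⥤ Dual.D R') [F.PreservesZeroMorphisms], HomExactOp F →
      (∀ (N : ℤ) (X : Dual.D R), X.IsLE (-N) → (F.obj (op X)).IsGE (c + N)) →
      ∀ x : T ⟶ F.obj (op Tr.obj₁), ∃ z : T ⟶ F.obj (op Tr.obj₂), z ≫ F.map Tr.mor₁.op = x := by
    intro F _ hF hcF x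
    have hx0 : x ≫ F.map Tr.invRotate.mor₁.op = 0 :=
      hz _ _ (hcF N _ hLE₃s) (by dsimp only [N]; omega) _
    obtain ⟨z, hz'⟩ := ((hF.exact₂ Tr.invRotate (inv_rot_of_distTriang _ hTr) T) x).1 hx0
    exact ⟨z, hz'⟩
  change Function.Bijective (fun φ : T ⟶ G.obj (op Tr.obj₂) => φ ≫ τ.app (op Tr.obj₂))
  constructor
  · intro z₁ z₂ hzz
    have hzz' : z₁ ≫ τ.app (op Tr.obj₂) = z₂ ≫ τ.app (op Tr.obj₂) := hzz
    have h0 : (z₁ - z₂) ≫ G.map Tr.mor₁.op = 0 := by
      rw [← cancel_mono (τ.app (op Tr.obj₁)), Category.assoc, hnat, zero_comp, ← Category.assoc,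
        Preadditive.sub_comp, hzz', sub_self, zero_comp]
    exact sub_eq_zero.1 (hinj G hG hc _ h0)
  · intro w
    obtain ⟨z, hz'⟩ := hsurj G hG hc (w ≫ G'.map Tr.mor₁.op ≫ inv (τ.app (op Tr.obj₁)))
    refine ⟨z, ?_⟩
    change z ≫ τ.app (op Tr.obj₂) = w
    have h0 : (z ≫ τ.app (op Tr.obj₂) - w) ≫ G'.map Tr.mor₁.op = 0 := by
      rw [Preadditive.sub_comp, Category.assoc, ← hnat, ← Category.assoc, hz', Category.assoc,
        Category.assoc, IsIso.inv_hom_id, Category.comp_id, sub_self]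
    exact sub_eq_zero.1 (hinj G' hG' hc' _ h0)

end wayout

/-! ### base change with bounded amplitude -/

section amplitude

variable {R R' : Type u} [CommRing R] [CommRing R'] (φ : R →+* R')
  [HasLTen R] [HasLTen R'] [HasLBase φ] [HasResTen φ] [ResLegIso φ] [HasRHom R] [HasRHom R']

/-- `bcRHom` is an isomorphism for `K` pseudo-coherent and `M` bounded below, as soon as derived
base change is right t-exact and has cohomological amplitude bounded below by `-d`. -/
theorem isIso_bcRHom_of_amplitude (d : ℤ)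
    (hLE : ∀ (X : Dual.D R) (p : ℤ), X.IsLE p → ((LBase φ).obj X).IsLE p)
    (hGE : ∀ (X : Dual.D R) (m : ℤ), X.IsGE m → ((LBase φ).obj X).IsGE (m - d))
    (K M : Dual.D R) (hK : DRing.IsPseudoCoherent' R K) (n : ℤ) (hM : M.IsGE n) :
    IsIso (bcRHom φ K M) := by
  have h := isIso_app_of_isPseudoCoherent' (homExactOp_G₁ φ M) (homExactOp_G₂ φ M) (τ φ M) (n - d)
    (fun N X hX => by
      haveI := hX
      haveI := hM
      have h1 : ((RHomR R X).obj M).IsGE (n - -N) := Ampl.isGE_RHom X M (-N) n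
      have h2 := hGE _ _ h1
      have e : n - -N - d = n - d + N := by ring
      rw [e] at h2
      exact h2)
    (fun N X hX => by
      haveI : ((LBase φ).obj X).IsLE (-N) := hLE X (-N) hX
      haveI : ((LBase φ).obj M).IsGE (n - d) := hGE M n hM
      have h1 : ((RHomR R' ((LBase φ).obj X)).obj ((LBase φ).obj M)).IsGE (n - d - -N) :=
        Ampl.isGE_RHom ((LBase φ).obj X) ((LBase φ).obj M) (-N) (n - d)
      have e : n - d - -N = n - d + N := by ring
      rw [e] at h1
      exact h1)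
    (fun P hP => isIso_bcRHom_of_isPerfect φ P M hP) K hK
  exact h

end amplitude

/-! ### the flat case -/

section flat

variable (R R' : Type u) [CommRing R] [CommRing R'] [Algebra R R'] [Module.Flat R R']

lemma isGE_extD (X : Dual.D R) (m : ℤ) [X.IsGE m] : ((extD R R').obj X).IsGE m := by
  obtain ⟨X₀, hX₀, ⟨e⟩⟩ := DerivedCategory.exists_iso_Q_obj_of_isGE X m
  haveI := hX₀
  haveI : CochainComplex.IsStrictlyGE (((Groth.Agent.Lib.Helper18.DR.extM (A := R)
      (B := R')).mapHomologicalComplex (ComplexShape.up ℤ)).obj X₀) m := by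
    rw [CochainComplex.isStrictlyGE_iff]
    intro i hi
    exact (Groth.Agent.Lib.Helper18.DR.extM (A := R) (B := R')).map_isZero
      (X₀.isZero_of_isStrictlyGE m i hi)
  have hQ : (DerivedCategory.Q.obj (((Groth.Agent.Lib.Helper18.DR.extM (A := R)
      (B := R')).mapHomologicalComplex (ComplexShape.up ℤ)).obj X₀)).IsGE m := inferInstance
  have e1 : DerivedCategory.Q.obj (((Groth.Agent.Lib.Helper18.DR.extM (A := R)
      (B := R')).mapHomologicalComplex (ComplexShape.up ℤ)).obj X₀) ≅ (extD R R').obj X :=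
    ((Groth.Agent.Lib.Helper18.DR.extM (A := R) (B := R')).mapDerivedCategoryFactors.app X₀).symm ≪≫
      (extD R R').mapIso e.symm
  haveI := hQ
  exact TStructure.t.isGE_of_iso e1 m

lemma isLE_extD (X : Dual.D R) (p : ℤ) [X.IsLE p] : ((extD R R').obj X).IsLE p := by
  obtain ⟨X₀, hX₀, ⟨e⟩⟩ := DerivedCategory.exists_iso_Q_obj_of_isLE X p
  haveI := hX₀
  haveI : CochainComplex.IsStrictlyLE (((Groth.Agent.Lib.Helper18.DR.extM (A := R)
      (B := R')).mapHomologicalComplex (ComplexShape.up ℤ)).obj X₀) p := by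
    rw [CochainComplex.isStrictlyLE_iff]
    intro i hi
    exact (Groth.Agent.Lib.Helper18.DR.extM (A := R) (B := R')).map_isZero
      (X₀.isZero_of_isStrictlyLE p i hi)
  have hQ : (DerivedCategory.Q.obj (((Groth.Agent.Lib.Helper18.DR.extM (A := R)
      (B := R')).mapHomologicalComplex (ComplexShape.up ℤ)).obj X₀)).IsLE p := inferInstance
  have e1 : DerivedCategory.Q.obj (((Groth.Agent.Lib.Helper18.DR.extM (A := R)
      (B := R')).mapHomologicalComplex (ComplexShape.up ℤ)).obj X₀) ≅ (extD R R').obj X :=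
    ((Groth.Agent.Lib.Helper18.DR.extM (A := R) (B := R')).mapDerivedCategoryFactors.app X₀).symm ≪≫
      (extD R R').mapIso e.symm
  haveI := hQ
  exact TStructure.t.isLE_of_iso e1 p

variable [HasLBase (algebraMap R R')]

/-- derived base change along a flat map is the exact extension of scalars -/
noncomputable def LBaseIsoExtD : LBase (algebraMap R R') ≅ extD R R' :=
  (baseAdj (algebraMap R R')).leftAdjointUniq (Shr.extAdj R R')

variable [HasLTen R] [HasLTen R'] [HasResTen (algebraMap R R')] [ResLegIso (algebraMap R R')]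
  [HasRHom R] [HasRHom R']

/-- base change for derived hom along a flat ring map: pseudo-coherent source, bounded below
target -/
theorem isIso_bcRHom_of_flat (K M : Dual.D R) (hK : DRing.IsPseudoCoherent' R K) (n : ℤ)
    (hM : M.IsGE n) : IsIso (bcRHom (algebraMap R R') K M) := by
  refine isIso_bcRHom_of_amplitude (algebraMap R R') 0 ?_ ?_ K M hK n hM
  · intro X p hX
    haveI := hX
    haveI := isLE_extD R R' X p
    exact TStructure.t.isLE_of_iso ((LBaseIsoExtD R R').symm.app X) p
  · intro X m hX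
    haveI := hX
    haveI := isGE_extD R R' X m
    have h := TStructure.t.isGE_of_iso ((LBaseIsoExtD R R').symm.app X) m
    rw [sub_zero]
    exact h

end flat

end Groth.Agent.Lib.Helper21.RGq
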