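import Mathlib
import Groth.Agent.Lib.Helper21.RGq
import Groth.Agent.Lib.Helper18.KProjC
import Groth.Agent.Lib.Helper18.DRChain
import Groth.Agent.Lib.Helper18.DTenC

/-!
# Cohomological amplitude of derived base change; `bcRHom` for finite tor dimension (helper21)

* `exactAt_map_of_leftDerived_isZero`: a hyper-derived-functor vanishing statement: if `F` is an
  additive functor whose left derived functors vanish above `d` and `P` is a complex of projectives
  exact in degrees `< m`, then `F P` is exact in degrees `< m - d`.
* `isLE_LBase`: derived base change is right t-exact (any ring map).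
* `isGE_LBase_of_hasTorDimLE`: derived base change along `R → R'` with `R'` of tor dimension `≤ d`
  sends `D^{≥ m}` into `D^{≥ m - d}`.
* `isIso_bcRHom_of_hasFiniteTorDim`.
-/

set_option autoImplicit false
set_option linter.style.haveILetI false
set_option linter.unusedSectionVars false

universe u
open CategoryTheory CategoryTheory.Limits

namespace Groth.Agent.Lib.Helper21.RGr

section hyper

variable {C D : Type*} [Category C] [Category D] [Abelian C] [Abelian D]

/-- exactness of the restriction of a cochain complex along `n ↦ m - n`, in positive degrees -/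
lemma exactAt_restriction_succ_iff (K : CochainComplex C ℤ) (m : ℤ) (n : ℕ) :
    (K.restriction (ComplexShape.embeddingUpIntLE m)).ExactAt (n + 1) ↔
      K.ExactAt (m - ((n + 1 : ℕ) : ℤ)) := by
  have hp : (ComplexShape.up ℤ).prev (m - ((n + 1 : ℕ) : ℤ)) = m - ((n + 1 + 1 : ℕ) : ℤ) := by
    rw [CochainComplex.prev]; push_cast; ring
  have hn : (ComplexShape.up ℤ).next (m - ((n + 1 : ℕ) : ℤ)) = m - ((n : ℕ) : ℤ) := by
    rw [CochainComplex.next]; push_cast; ring
  rw [HomologicalComplex.exactAt_iff' _ (n + 1 + 1) (n + 1) n (by simp) (by simp),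
    HomologicalComplex.exactAt_iff' K _ _ _ hp hn]
  exact ShortComplex.exact_iff_of_iso
    (HomologicalComplex.restriction.sc'Iso K (ComplexShape.embeddingUpIntLE m) (n + 1 + 1) (n + 1) n
      rfl rfl rfl hp hn)

variable [HasProjectiveResolutions C] (F : C ⥤ D) [F.Additive]

set_option backward.isDefEq.respectTransparency false in
set_option backward.defeqAttrib.useBackward true in
/-- hyper-derived functor vanishing: for an additive functor whose left derived functors vanish
above `d`, applied to a complex of projectives exact below `m` -/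
theorem exactAt_map_of_leftDerived_isZero (P : CochainComplex C ℤ)
    (hproj : ∀ i, Projective (P.X i))
    (m : ℤ) (hex : ∀ j, j < m → P.ExactAt j) (d : ℕ)
    (hF : ∀ (Z : C) (p : ℕ), d < p → IsZero ((F.leftDerived p).obj Z)) (i : ℤ) (hi : i < m - d) :
    ((F.mapHomologicalComplex (ComplexShape.up ℤ)).obj P).ExactAt i := by
  obtain ⟨n, hn⟩ : ∃ n : ℕ, i = m - ((n + 1 : ℕ) : ℤ) := ⟨(m - i - 1).toNat, by
    push_cast
    rw [Int.toNat_of_nonneg (by omega)]
    ring⟩
  subst hn
  let Q := P.restriction (ComplexShape.embeddingUpIntLE m)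
  have hQex : ∀ k : ℕ, Q.ExactAt (k + 1) := fun k =>
    (exactAt_restriction_succ_iff P m k).2 (hex _ (by push_cast; omega))
  let Z := cokernel (Q.d 1 0)
  let π : Q ⟶ (ChainComplex.single₀ C).obj Z :=
    (ChainComplex.toSingle₀Equiv Q Z).symm ⟨cokernel.π (Q.d 1 0), cokernel.condition _⟩
  have hπ : QuasiIso π := ⟨fun k => by
    cases k with
    | zero =>
      rw [ChainComplex.quasiIsoAt₀_iff, ShortComplex.quasiIso_iff_of_zeros']
      · dsimp
        refine (ShortComplex.exact_and_epi_g_iff_of_iso ?_).2
          ⟨ShortComplex.exact_of_g_is_cokernel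
            (ShortComplex.mk (Q.d 1 0) (cokernel.π (Q.d 1 0)) (cokernel.condition _))
            (cokernelIsCokernel _), by dsimp; infer_instance⟩
        exact ShortComplex.isoMk (Iso.refl _) (Iso.refl _) (Iso.refl _) (by simp) (by simp [π])
      · exact Q.shape 0 0 (by simp)
      · simp
      · simp
    | succ k =>
      rw [quasiIsoAt_iff_exactAt']
      · exact hQex k
      · exact ChainComplex.exactAt_succ_single_obj _ _⟩
  let R : ProjectiveResolution Z :=
    { complex := Q
      projective := fun k => hproj _
      π := π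
      quasiIso := hπ }
  have hz : IsZero ((F.leftDerived (n + 1)).obj Z) := hF Z (n + 1) (by push_cast at hi; omega)
  have hz' := hz.of_iso (R.isoLeftDerivedObj F (n + 1)).symm
  have h1 : (((F.mapHomologicalComplex _).obj P).restriction
      (ComplexShape.embeddingUpIntLE m)).ExactAt (n + 1) := by
    rw [HomologicalComplex.exactAt_iff_isZero_homology]
    exact hz'
  exact (exactAt_restriction_succ_iff ((F.mapHomologicalComplex _).obj P) m n).1 h1

end hyper

attribute [local instance] HasDerivedCategory.standard

open DTen Groth.Agent.Lib.Helper18.DR Groth.Agent.Lib.Helper21.RGo DerivedCategory MonoidalCategory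

section amplitude

variable {R R' : Type u} [CommRing R] [CommRing R'] (φ : R →+* R') [HasLBase φ]

/-- derived base change is right t-exact -/
theorem isLE_LBase (X : Dual.D R) (p : ℤ) (hX : X.IsLE p) : ((LBase φ).obj X).IsLE p := by
  haveI := hX
  obtain ⟨E, hE, hEf, ⟨e⟩⟩ := exists_free_resolution X p
  haveI : E.IsKProjective := isKProjective_of_vanishesAbove E p hE
    (fun i => haveI := hEf i; inferInstance)
  haveI : IsIso (bc φ E) := DTenA.isIso_baseCmp_app φ E
  have hv : DRing.VanishesAbove ((extCx φ).obj E) p := fun i hi =>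
    (ModuleCat.extendScalars.{u, u, u} φ).map_isZero (hE i hi)
  haveI := isStrictlyLE_of_vanishesAbove ((extCx φ).obj E) p hv
  haveI h1 : (DerivedCategory.Q.obj ((extCx φ).obj E)).IsLE p := inferInstance
  exact TStructure.t.isLE_of_iso ((asIso (bc φ E)).symm ≪≫ (LBase φ).mapIso e) p

end amplitude

section tordim

variable (R R' : Type u) [CommRing R] [CommRing R'] [Algebra R R']

/-- `R'` as an `R`-module through its algebra structure, and through restriction of scalars -/
noncomputable def algModIso : ModuleCat.of R R' ≅ DTenC.CB (algebraMap R R') :=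
  LinearEquiv.toModuleIso
    ({ toFun := fun x => x
       invFun := fun x => x
       map_add' := fun _ _ => rfl
       map_smul' := fun r x => Algebra.smul_def r x
       left_inv := fun _ => rfl
       right_inv := fun _ => rfl } : R' ≃ₗ[R] ↑(DTenC.CB (algebraMap R R')))

variable [HasLBase (algebraMap R R')]

/-- derived base change along `R → R'`, with `R'` of tor dimension `≤ d` over `R`, sends
`D^{≥ m}` into `D^{≥ m - d}` -/
theorem isGE_LBase_of_hasTorDimLE (d : ℕ) (hd : DRing.HasTorDimLE R d R') (X : Dual.D R) (m : ℤ)
    (hX : X.IsGE m) : ((LBase (algebraMap R R')).obj X).IsGE (m - (d : ℤ)) := by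
  haveI := hX
  obtain ⟨P, hPK, hPproj, ⟨e⟩⟩ := exists_kprojective_resolution X
  haveI := hPK
  haveI : IsIso (bc (algebraMap R R') P) := DTenA.isIso_baseCmp_app (algebraMap R R') P
  have hex : ∀ j, j < m → P.ExactAt j := fun j hj => by
    rw [← isZero_H_toD_iff_exactAt]
    exact (DerivedCategory.isZero_of_isGE X m j hj).of_iso
      ((DerivedCategory.homologyFunctor (ModuleCat.{u} R) j).mapIso e)
  have hproj : ∀ i, Projective (P.X i) := fun i =>
    (IsProjective.iff_projective (R := R) (P := P.X i)).mp (hPproj i)
  have hF : ∀ (Z : ModuleCat.{u} R) (p : ℕ), d < p →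
      IsZero (((tensorLeft (DTenC.CB (algebraMap R R'))).leftDerived p).obj Z) := fun Z p hp => by
    have h0 : IsZero (((Tor (ModuleCat.{u} R) p).obj (ModuleCat.of R R')).obj Z) :=
      @ModuleCat.isZero_of_subsingleton _ _ _ (hd Z p hp)
    exact h0.of_iso ((((Tor (ModuleCat.{u} R) p).mapIso (algModIso R R')).app Z).symm)
  have h1 : ∀ i, i < m - (d : ℤ) →
      (((tensorLeft (DTenC.CB (algebraMap R R'))).mapHomologicalComplex
        (ComplexShape.up ℤ)).obj P).ExactAt i := fun i hi =>
    exactAt_map_of_leftDerived_isZero (tensorLeft (DTenC.CB (algebraMap R R'))) P hproj m hex d hF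
      i hi
  have h2 : ∀ i, i < m - (d : ℤ) →
      (((ModuleCat.extendScalars.{u, u, u} (algebraMap R R') ⋙
        ModuleCat.restrictScalars.{u} (algebraMap R R')).mapHomologicalComplex
          (ComplexShape.up ℤ)).obj P).ExactAt i := fun i hi =>
    (h1 i hi).of_iso ((NatIso.mapHomologicalComplex (DTenC.extResIso (algebraMap R R'))
      (ComplexShape.up ℤ)).app P)
  have h3 : ∀ i, i < m - (d : ℤ) → ((extCx (algebraMap R R')).obj P).ExactAt i := fun i hi => by
    have h := h2 i hi
    rw [HomologicalComplex.exactAt_iff] at h ⊢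
    exact (ShortComplex.exact_map_iff_of_faithful _
      (ModuleCat.restrictScalars.{u} (algebraMap R R'))).1 h
  rw [DerivedCategory.isGE_iff]
  intro i hi
  have h4 : IsZero ((DerivedCategory.homologyFunctor (ModuleCat.{u} R') i).obj
      (DRing.toD ((extCx (algebraMap R R')).obj P))) :=
    (isZero_H_toD_iff_exactAt _ i).2 (h3 i hi)
  exact h4.of_iso ((DerivedCategory.homologyFunctor (ModuleCat.{u} R') i).mapIso
    ((LBase (algebraMap R R')).mapIso e.symm ≪≫ asIso (bc (algebraMap R R') P)))

variable [HasLTen R] [HasLTen R'] [HasResTen (algebraMap R R')] [ResLegIso (algebraMap R R')]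
  [HasRHom R] [HasRHom R']

/-- base change for derived hom along a ring map of finite tor dimension: pseudo-coherent
source, bounded below target -/
theorem isIso_bcRHom_of_hasFiniteTorDim (K M : Dual.D R) (hR' : DRing.HasFiniteTorDim R R')
    (hK : DRing.IsPseudoCoherent' R K) (n : ℤ) (hM : M.IsGE n) :
    IsIso (bcRHom (algebraMap R R') K M) := by
  obtain ⟨d, hd⟩ := hR'
  exact Groth.Agent.Lib.Helper21.RGq.isIso_bcRHom_of_amplitude (algebraMap R R') (d : ℤ)
    (fun X p hX => isLE_LBase (algebraMap R R') X p hX)
    (fun X m hX => isGE_LBase_of_hasTorDimLE R R' d hd X m hX) K M hK n hM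

end tordim

end Groth.Agent.Lib.Helper21.RGr
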