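import Mathlib
import Groth.Agent.Lib.Helper21.RGn

/-!
# Artin-Rees in the derived category for the subcomplexes `J^k L` (helper21)

For a bounded complex `L` of finite modules over a Noetherian ring whose cohomology is killed by
the ideal `J`, the inclusion of the subcomplex `J^n L ⊆ L` is zero in the derived category for
some `n > 0` (`exists_pow_Q_map_inclTop_eq_zero`).  No flatness is needed (compare `RGn`, where the
complexes `J^k ⊗ L` are used).
-/

set_option autoImplicit false
universe w v u

open CategoryTheory Limits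

namespace Groth.Agent.Lib.Helper21.RGs

open Groth.Agent.Lib.Helper21.RGn

section Ghost

variable {C : Type u} [Category.{v} C] [Abelian C] [HasDerivedCategory.{w} C]

lemma GhostPow.postcomp (d : ℕ) : ∀ {X Y Z : DerivedCategory C} (g : X ⟶ Y) (h : Y ⟶ Z),
    GhostPow d g → GhostPow d (g ≫ h) := by
  induction d with
  | zero =>
    intro X Y Z g h _
    exact ghostPow_zero _
  | succ d ih =>
    intro X Y Z g h hg
    obtain ⟨W, f, g', hf, hg', rfl⟩ := (ghostPow_succ_iff g).1 hg
    rw [Category.assoc]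
    exact ghostPow_succ f (g' ≫ h) hf (ih g' h hg')

end Ghost

section Alg

variable {A : Type u} [CommRing A]

lemma map_mem_smul_top (I : Ideal A) {P Q : Type*} [AddCommGroup P] [Module A P]
    [AddCommGroup Q] [Module A Q] (f : P →ₗ[A] Q) {x : P}
    (hx : x ∈ (I • ⊤ : Submodule A P)) : f x ∈ (I • ⊤ : Submodule A Q) := by
  have h1 : f x ∈ Submodule.map f (I • ⊤) := Submodule.mem_map_of_mem hx
  rw [Submodule.map_smul''] at h1
  exact Submodule.smul_mono le_rfl le_top h1

/-- The subcomplex `J^k L` of `L`. -/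
noncomputable def subJ (J : Ideal A) (L : CochainComplex (ModuleCat.{u} A) ℤ) (k : ℕ) :
    CochainComplex (ModuleCat.{u} A) ℤ where
  X q := ModuleCat.of A ↥(J ^ k • (⊤ : Submodule A (L.X q)))
  d q q' := ModuleCat.ofHom
    ((L.d q q').hom.restrict (fun x hx => map_mem_smul_top (J ^ k) (L.d q q').hom hx))
  shape q q' h := by
    apply ModuleCat.hom_ext
    apply LinearMap.ext
    intro x
    apply Subtype.ext
    have h0 : (L.d q q').hom x.1 = 0 := by
      rw [L.shape q q' h]
      rfl
    exact h0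
  d_comp_d' q q' q'' _ _ := by
    apply ModuleCat.hom_ext
    apply LinearMap.ext
    intro x
    apply Subtype.ext
    have h0 := congrArg (fun f => f.hom x.1) (L.d_comp_d q q' q'')
    simp only [ModuleCat.hom_comp, LinearMap.comp_apply, ModuleCat.hom_zero,
      LinearMap.zero_apply] at h0
    exact h0

variable (J : Ideal A) (L : CochainComplex (ModuleCat.{u} A) ℤ)

/-- The inclusion `J^k L → L`. -/
noncomputable def inclTop (k : ℕ) : subJ J L k ⟶ L where
  f q := ModuleCat.ofHom (J ^ k • (⊤ : Submodule A (L.X q))).subtype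
  comm' q q' _ := by
    apply ModuleCat.hom_ext
    apply LinearMap.ext
    intro x
    rfl

/-- The inclusion `J^k L → J^m L` for `m ≤ k`. -/
noncomputable def incl (k m : ℕ) (h : m ≤ k) : subJ J L k ⟶ subJ J L m where
  f q := ModuleCat.ofHom (Submodule.inclusion
    (Submodule.smul_mono (Ideal.pow_le_pow_right h) (le_refl (⊤ : Submodule A (L.X q)))))
  comm' q q' _ := by
    apply ModuleCat.hom_ext
    apply LinearMap.ext
    intro x
    rfl

lemma incl_comp_inclTop (k m : ℕ) (h : m ≤ k) :
    incl J L k m h ≫ inclTop J L m = inclTop J L k := by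
  ext q : 1
  apply ModuleCat.hom_ext
  apply LinearMap.ext
  intro x
  rfl

lemma incl_comp (k l m : ℕ) (h : l ≤ k) (h' : m ≤ l) :
    incl J L k l h ≫ incl J L l m h' = incl J L k m (h'.trans h) := by
  ext q : 1
  apply ModuleCat.hom_ext
  apply LinearMap.ext
  intro x
  rfl

lemma isZero_subJ_X (k : ℕ) (q : ℤ) (h : IsZero (L.X q)) : IsZero ((subJ J L k).X q) := by
  haveI : Subsingleton (L.X q) := ModuleCat.subsingleton_of_isZero h
  haveI : Subsingleton ((subJ J L k).X q) := by
    change Subsingleton ↥(J ^ k • (⊤ : Submodule A (L.X q)))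
    infer_instance
  exact ModuleCat.isZero_of_subsingleton _

theorem exists_homologyMap_incl_eq_zero [IsNoetherianRing A]
    (hJ : ∀ q : ℤ, ∀ x ∈ J, ∀ c : ↑(L.homology q), x • c = 0) (q : ℤ)
    [Module.Finite A (L.X q)] :
    ∃ c : ℕ, ∀ (k m : ℕ) (h : m ≤ k), c + 1 + m ≤ k →
      HomologicalComplex.homologyMap (incl J L k m h) q = 0 := by
  obtain ⟨c, hc⟩ := artinRees_step J (L.d (q - 1) q).hom (L.d q (q + 1)).hom
    (fun r hr z hz => smul_mem_range_of_homology_smul q r (hJ q r hr) z hz)
  refine ⟨c, fun k m h hk => ?_⟩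
  apply homologyMap_eq_zero_of_forall
  intro x hx
  obtain ⟨x0, hx0⟩ := x
  have hw2 : (L.d q (q + 1)).hom x0 = 0 := congrArg Subtype.val hx
  obtain ⟨u, hu, huw⟩ := hc k m hk x0 hx0 hw2
  refine ⟨⟨u, hu⟩, ?_⟩
  apply Subtype.ext
  exact huw

theorem exists_pow_Q_map_inclTop_eq_zero [IsNoetherianRing A]
    [HasDerivedCategory.{w} (ModuleCat.{u} A)] (a b : ℤ)
    (hL : ∀ q : ℤ, q < a ∨ b < q → IsZero (L.X q))
    (hfin : ∀ q : ℤ, Module.Finite A (L.X q))
    (hJ : ∀ q : ℤ, ∀ x ∈ J, ∀ c : ↑(L.homology q), x • c = 0) :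
    ∃ n : ℕ, 0 < n ∧ DerivedCategory.Q.map (inclTop J L n) = 0 := by
  have hex : ∀ q : ℤ, ∃ c : ℕ, ∀ (k m : ℕ) (h : m ≤ k), c + 1 + m ≤ k →
      HomologicalComplex.homologyMap (incl J L k m h) q = 0 := by
    intro q
    have := hfin q
    exact exists_homologyMap_incl_eq_zero J L hJ q
  choose cq hcq using hex
  set c : ℕ := (Finset.Icc a b).sup cq with hc
  -- every step of length `c + 1` is a ghost
  have hghost : ∀ (k m : ℕ) (h : m ≤ k), c + 1 + m ≤ k →
      Ghost (DerivedCategory.Q.map (incl J L k m h)) := by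
    intro k m h hk
    apply ghost_Q_map
    intro q
    by_cases hq : q < a ∨ b < q
    · apply homologyMap_eq_zero_of_forall
      intro x _
      refine ⟨0, ?_⟩
      have hz : (incl J L k m h).f q = 0 := (isZero_subJ_X J L m q (hL q hq)).eq_of_tgt _ _
      rw [hz, map_zero, ModuleCat.hom_zero, LinearMap.zero_apply]
    · have hq' : q ∈ Finset.Icc a b := by
        rw [Finset.mem_Icc]
        omega
      have hle : cq q ≤ c := Finset.le_sup hq'
      exact hcq q k m h (by omega)
  -- composites
  have hpow : ∀ (d m : ℕ) (h : m ≤ d * (c + 1) + m),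
      GhostPow d (DerivedCategory.Q.map (incl J L (d * (c + 1) + m) m h)) := by
    intro d
    induction d with
    | zero => intro m h; exact ghostPow_zero _
    | succ d ih =>
      intro m h
      have h1 : d * (c + 1) + m ≤ (d + 1) * (c + 1) + m := by
        rw [Nat.succ_mul]; omega
      have h2 : m ≤ d * (c + 1) + m := Nat.le_add_left _ _
      rw [← incl_comp J L _ _ _ h1 h2, Functor.map_comp]
      exact ghostPow_succ _ _ (hghost _ _ h1 (by rw [Nat.succ_mul]; omega)) (ih m h2)
  refine ⟨(b - a + 1).toNat * (c + 1) + 1, Nat.succ_pos _, ?_⟩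
  have h1 : (1 : ℕ) ≤ (b - a + 1).toNat * (c + 1) + 1 := Nat.le_add_left _ _
  rw [← incl_comp_inclTop J L _ 1 h1, Functor.map_comp]
  have hLE : (subJ J L ((b - a + 1).toNat * (c + 1) + 1)).IsStrictlyLE b := by
    rw [CochainComplex.isStrictlyLE_iff]
    intro i hi
    exact isZero_subJ_X J L _ i (hL i (Or.inr hi))
  have hGE : L.IsStrictlyGE a := by
    rw [CochainComplex.isStrictlyGE_iff]
    intro i hi
    exact hL i (Or.inl hi)
  exact ghostPow_eq_zero (b - a + 1).toNat a b (by omega) _ inferInstance inferInstance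
    (GhostPow.postcomp _ _ _ (hpow _ 1 h1))

end Alg

end Groth.Agent.Lib.Helper21.RGs
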