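import Mathlib
import Groth.Agent.Lib.Helper21.RGs
import Groth.Agent.Lib.Helper21.RGt
import Groth.Agent.Lib.Helper18.DTenC
import Groth.Agent.Lib.Helper18.KProjC

/-!
# `I^n M ⟶ M` factors through `I ⊗^L M ⟶ M` (helper21)

For a Noetherian ring `A`, an ideal `I` and a finite module `M`, there is `n > 0` such that the
inclusion `I^n M ⟶ M` factors in `D(A)` through `I ⊗^L M ⟶ A ⊗^L M ≅ M`.

Proof: resolve `M` by a bounded above complex `F` of free modules; then `I ⊗^L M` is computed by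
`I[0] ⊗ F`, and `I[0] ⊗ F ⟶ F` is a monomorphism of complexes whose cokernel is killed by `I`.
Hence `F ⟶ coker` factors through the Koszul complex `KosC l F` (`l` generators of `I`), which is
quasi-isomorphic to `KosC l M`, a bounded complex of finite modules whose cohomology is killed by
`I`; the Artin-Rees vanishing of `RGs` gives `n` such that `I^n M ⟶ M ⟶ KosC l M` is zero in `D(A)`.
-/

set_option autoImplicit false
set_option linter.style.haveILetI false
universe u

open CategoryTheory CategoryTheory.Limits MonoidalCategory HomologicalComplex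
open TensorProduct

attribute [local instance] HasDerivedCategory.standard

namespace Groth.Agent.Lib.Helper21.RGu

open Groth.Agent.Lib.Helper21.RGn Groth.Agent.Lib.Helper21.RGs Groth.Agent.Lib.Helper21.RGt
open Groth.Agent.Lib.Helper18 Groth.Agent.Lib.Helper18.DR
open DTen

variable {A : Type u} [CommRing A]

/-- the single complex -/
noncomputable abbrev SS (N : ModuleCat.{u} A) : DRing.Cx A :=
  (HomologicalComplex.single (ModuleCat.{u} A) (ComplexShape.up ℤ) 0).obj N

/-- the inclusion of the ideal, with values in the unit object -/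
noncomputable abbrev ιI (I : Ideal A) : ModuleCat.of A ↥I ⟶ 𝟙_ (ModuleCat.{u} A) :=
  ModuleCat.ofHom I.subtype

/-- `I[0] ⟶ A[0]` -/
noncomputable abbrev SιI (I : Ideal A) : SS (ModuleCat.of A ↥I) ⟶ 𝟙_ (DRing.Cx A) :=
  (HomologicalComplex.single (ModuleCat.{u} A) (ComplexShape.up ℤ) 0).map (ιI I)

/-- the "multiplication" map `I[0] ⊗ F ⟶ F` -/
noncomputable def mu (I : Ideal A) (F : DRing.Cx A) : SS (ModuleCat.of A ↥I) ⊗ F ⟶ F :=
  (SιI I ▷ F) ≫ (λ_ F).hom

lemma ι_leftUnitor_hom (F : DRing.Cx A) (n : ℤ) :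
    ιTensorObj (𝟙_ (DRing.Cx A)) F 0 n n (zero_add n) ≫ (λ_ F).hom.f n =
      ((singleObjXSelf (ComplexShape.up ℤ) 0 (𝟙_ (ModuleCat.{u} A))).hom ▷ F.X n) ≫
        (λ_ (F.X n)).hom := by
  have h2 : (λ_ F).inv.f n = (λ_ (F.X n)).inv ≫
      ((singleObjXSelf (ComplexShape.up ℤ) 0 (𝟙_ (ModuleCat.{u} A))).inv ▷ F.X n) ≫
        ιTensorObj (𝟙_ (DRing.Cx A)) F 0 n n (zero_add n) :=
    HomologicalComplex.leftUnitor'_inv F n
  have h3 : (λ_ F).inv.f n ≫ (λ_ F).hom.f n = 𝟙 _ := by
    rw [← HomologicalComplex.comp_f, Iso.inv_hom_id, HomologicalComplex.id_f]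
  have h5 : ((singleObjXSelf (ComplexShape.up ℤ) 0 (𝟙_ (ModuleCat.{u} A))).hom ▷ F.X n) ≫
      (λ_ (F.X n)).hom ≫ (λ_ F).inv.f n =
      ιTensorObj (𝟙_ (DRing.Cx A)) F 0 n n (zero_add n) := by
    rw [h2, Iso.hom_inv_id_assoc, ← MonoidalCategory.comp_whiskerRight_assoc, Iso.hom_inv_id,
      MonoidalCategory.id_whiskerRight, Category.id_comp]
  rw [← h5, Category.assoc, Category.assoc, h3, Category.comp_id]

/-- the key termwise computation of `mu` -/
lemma phi_mu (I : Ideal A) (F : DRing.Cx A) (n : ℤ) :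
    TotSingle.φ (curriedTensor (ModuleCat.{u} A)) (ModuleCat.of A ↥I) F n ≫ (mu I F).f n =
      (ιI I ▷ F.X n) ≫ (λ_ (F.X n)).hom := by
  have e0 : (singleObjXSelf (ComplexShape.up ℤ) 0 (ModuleCat.of A ↥I)).inv ≫ (SιI I).f 0 ≫
      (singleObjXSelf (ComplexShape.up ℤ) 0 (𝟙_ (ModuleCat.{u} A))).hom = ιI I := by
    rw [HomologicalComplex.single_map_f_self]
    simp
  have e1 : ιTensorObj (SS (ModuleCat.of A ↥I)) F 0 n n (zero_add n) ≫ (SιI I ▷ F).f n =
      ((SιI I).f 0 ▷ F.X n) ≫ ιTensorObj (𝟙_ (DRing.Cx A)) F 0 n n (zero_add n) := by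
    have h := HomologicalComplex.ι_mapBifunctorMap (SιI I) (𝟙 F)
      (curriedTensor (ModuleCat.{u} A)) (ComplexShape.up ℤ) 0 n n (zero_add n)
    simp only [HomologicalComplex.id_f, CategoryTheory.Functor.map_id, Category.id_comp] at h
    exact h
  have e2 := ι_leftUnitor_hom F n
  have e12 : ιTensorObj (SS (ModuleCat.of A ↥I)) F 0 n n (zero_add n) ≫
      ((SιI I ▷ F).f n ≫ (λ_ F).hom.f n) =
      ((SιI I).f 0 ▷ F.X n) ≫
        ((singleObjXSelf (ComplexShape.up ℤ) 0 (𝟙_ (ModuleCat.{u} A))).hom ▷ F.X n) ≫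
          (λ_ (F.X n)).hom := by
    rw [← Category.assoc, e1, Category.assoc, e2]
  change (((singleObjXSelf (ComplexShape.up ℤ) 0 (ModuleCat.of A ↥I)).inv ▷ F.X n) ≫
    ιTensorObj (SS (ModuleCat.of A ↥I)) F 0 n n (zero_add n)) ≫
      ((SιI I ▷ F).f n ≫ (λ_ F).hom.f n) = _
  rw [Category.assoc, e12, ← MonoidalCategory.comp_whiskerRight_assoc,
    ← MonoidalCategory.comp_whiskerRight_assoc, Category.assoc, e0]

lemma isIso_phi (N : ModuleCat.{u} A) (F : DRing.Cx A) (n : ℤ) :
    IsIso (TotSingle.φ (curriedTensor (ModuleCat.{u} A)) N F n) :=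
  ⟨⟨TotSingle.ψ (curriedTensor (ModuleCat.{u} A)) N F n,
    TotSingle.φ_ψ (curriedTensor (ModuleCat.{u} A)) N F n,
    TotSingle.ψ_φ (curriedTensor (ModuleCat.{u} A)) N F n⟩⟩

lemma mono_mu (I : Ideal A) (F : DRing.Cx A) (hF : ∀ n, Module.Flat A (F.X n)) :
    Mono (mu I F) := by
  apply HomologicalComplex.mono_of_mono_f
  intro n
  have h1 := phi_mu I F n
  haveI := isIso_phi (ModuleCat.of A ↥I) F n
  haveI := hF n
  have h2 : Mono ((ιI I ▷ F.X n) ≫ (λ_ (F.X n)).hom) := by
    rw [ModuleCat.mono_iff_injective]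
    exact mulMap_injective I (F.X n)
  rw [← h1] at h2
  have h3 : (mu I F).f n =
      inv (TotSingle.φ (curriedTensor (ModuleCat.{u} A)) (ModuleCat.of A ↥I) F n) ≫
        (TotSingle.φ (curriedTensor (ModuleCat.{u} A)) (ModuleCat.of A ↥I) F n ≫
          (mu I F).f n) := by
    rw [IsIso.inv_hom_id_assoc]
  rw [h3]
  infer_instance

lemma cokernel_π_smul_apply (I : Ideal A) (F : DRing.Cx A) (a : A) (ha : a ∈ I) (n : ℤ)
    (x : F.X n) : ((cokernel.π (mu I F)).f n).hom (a • x) = 0 := by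
  have h1 := phi_mu I F n
  have h3 : ((mu I F).f n).hom
      ((TotSingle.φ (curriedTensor (ModuleCat.{u} A)) (ModuleCat.of A ↥I) F n).hom
        ((⟨a, ha⟩ : I) ⊗ₜ[A] x)) = a • x := by
    have h := congrArg (fun f => f.hom ((⟨a, ha⟩ : I) ⊗ₜ[A] x)) h1
    exact h.trans (mulMap_tmul I (F.X n) ⟨a, ha⟩ x)
  have h4 : (mu I F).f n ≫ (cokernel.π (mu I F)).f n = 0 := by
    rw [← HomologicalComplex.comp_f, cokernel.condition]
    rfl
  have h5 := congrArg (fun f => f.hom
    ((TotSingle.φ (curriedTensor (ModuleCat.{u} A)) (ModuleCat.of A ↥I) F n).hom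
      ((⟨a, ha⟩ : I) ⊗ₜ[A] x))) h4
  rw [← h3]
  exact h5

lemma smul_cokernel_π (I : Ideal A) (F : DRing.Cx A) (a : A) (ha : a ∈ I) :
    a • cokernel.π (mu I F) = 0 := by
  ext n : 1
  apply ModuleCat.hom_ext
  apply LinearMap.ext
  intro x
  have h6 : ((a • cokernel.π (mu I F)).f n).hom x =
      ((cokernel.π (mu I F)).f n).hom (a • x) := by
    rw [map_smul]
    rfl
  rw [h6, cokernel_π_smul_apply I F a ha n x]
  rfl

lemma exists_lift (I : Ideal A) (F : DRing.Cx A) (hF : ∀ n, Module.Flat A (F.X n))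
    {N : DerivedCategory (ModuleCat.{u} A)} (x : N ⟶ DerivedCategory.Q.obj F)
    (hx : x ≫ DerivedCategory.Q.map (cokernel.π (mu I F)) = 0) :
    ∃ g₀ : N ⟶ DerivedCategory.Q.obj (SS (ModuleCat.of A ↥I) ⊗ F),
      g₀ ≫ DerivedCategory.Q.map (mu I F) = x := by
  haveI := mono_mu I F hF
  have hS : (ShortComplex.mk (mu I F) (cokernel.π (mu I F))
      (cokernel.condition (mu I F))).ShortExact :=
    { exact := ShortComplex.exact_cokernel (mu I F) }
  obtain ⟨g₀, hg₀⟩ := Pretriangulated.Triangle.coyoneda_exact₂ _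
    (DerivedCategory.triangleOfSES_distinguished hS) x hx
  exact ⟨g₀, hg₀.symm⟩

lemma finite_single_X (M : Type u) [AddCommGroup M] [Module A M] [Module.Finite A M] (i : ℤ) :
    Module.Finite A ((SS (ModuleCat.of A M)).X i) := by
  by_cases h : i = 0
  · subst h
    haveI : Module.Finite A (ModuleCat.of A M) := inferInstanceAs (Module.Finite A M)
    exact Module.Finite.equiv
      (HomologicalComplex.singleObjXSelf (ComplexShape.up ℤ) (0 : ℤ)
        (ModuleCat.of A M)).symm.toLinearEquiv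
  · haveI : Subsingleton ((SS (ModuleCat.of A M)).X i) :=
      ModuleCat.subsingleton_of_isZero
        (HomologicalComplex.isZero_single_obj_X (ComplexShape.up ℤ) (0 : ℤ) _ i h)
    infer_instance

/-- S13578 -/
theorem exists_factor (A : Type u) [CommRing A] [IsNoetherianRing A]
    [DTen.HasLTen A] (I : Ideal A) (M : Type u) [AddCommGroup M] [Module A M]
    [Module.Finite A M] :
    ∃ (n : ℕ) (_ : 0 < n)
      (g : DerivedCategory.Q.obj ((HomologicalComplex.single (ModuleCat.{u} A) (ComplexShape.up ℤ) 0).obj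
              (ModuleCat.of A ↥(I ^ n • (⊤ : Submodule A M)))) ⟶
            (DTen.LTen₂ A).obj (DerivedCategory.Q.obj ((HomologicalComplex.single (ModuleCat.{u} A) (ComplexShape.up ℤ) 0).obj
              (ModuleCat.of A ↥I)),
              DerivedCategory.Q.obj ((HomologicalComplex.single (ModuleCat.{u} A) (ComplexShape.up ℤ) 0).obj
              (ModuleCat.of A M)))),
      g ≫ (DTen.LTen₂ A).map (Prod.mkHom
              (DerivedCategory.Q.map ((HomologicalComplex.single (ModuleCat.{u} A) (ComplexShape.up ℤ) 0).map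
                (ModuleCat.ofHom I.subtype)))
              (𝟙 _)) ≫
          (DTen.unitL A).app (DerivedCategory.Q.obj ((HomologicalComplex.single (ModuleCat.{u} A) (ComplexShape.up ℤ) 0).obj
              (ModuleCat.of A M))) =
        DerivedCategory.Q.map ((HomologicalComplex.single (ModuleCat.{u} A) (ComplexShape.up ℤ) 0).map
          (ModuleCat.ofHom (I ^ n • (⊤ : Submodule A M)).subtype)) := by
  -- generators of `I`
  obtain ⟨s, hs⟩ : (I : Submodule A A).FG := IsNoetherian.noetherian I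
  have hl : Ideal.span {x | x ∈ s.toList} = I := by
    rw [← hs]
    congr 1
    ext x
    simp
  generalize s.toList = l at hl
  -- a free resolution of `M`
  haveI : (SS (ModuleCat.of A M)).IsStrictlyLE 0 := by
    rw [CochainComplex.isStrictlyLE_iff]
    intro i hi
    exact HomologicalComplex.isZero_single_obj_X _ _ _ _ (by omega)
  obtain ⟨F, hFb, hFfree, ⟨eF⟩⟩ :=
    exists_free_resolution (DerivedCategory.Q.obj (SS (ModuleCat.of A M))) 0
  have hFproj : ∀ i, Module.Projective A (F.X i) := fun i => by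
    haveI := hFfree i
    exact Module.Projective.of_free
  haveI : F.IsKProjective := isKProjective_of_vanishesAbove F 0 hFb hFproj
  have hFflat : ∀ i, Module.Flat A (F.X i) := fun i => by
    haveI := hFproj i
    infer_instance
  obtain ⟨r, hr⟩ := exists_map_eq F (SS (ModuleCat.of A M)) eF.hom
  have hrIso : IsIso (DerivedCategory.Q.map r) := by
    rw [hr]
    infer_instance
  haveI := hrIso
  -- the Koszul factorisation of `F ⟶ coker`
  have hkill : ∀ f ∈ l, f • 𝟙 (cokernel (mu I F)) = 0 := by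
    intro f hf
    have hfI : f ∈ I := by
      rw [← hl]
      exact Ideal.subset_span hf
    have h1 := smul_cokernel_π I F f hfI
    rw [← cancel_epi (cokernel.π (mu I F)), comp_zero, Linear.comp_smul, Category.comp_id]
    exact h1
  have hψ : kosι l F ≫ kosDesc l (cokernel.π (mu I F)) hkill = cokernel.π (mu I F) :=
    kosι_desc l _ hkill
  -- the bounded complex `KosC l M`
  have hLz : ∀ q : ℤ, q < 0 - (l.length : ℤ) ∨ 0 < q →
      IsZero ((KosC l (SS (ModuleCat.of A M))).X q) :=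
    kosC_isZero l (SS (ModuleCat.of A M)) 0 0
      (fun i hi => HomologicalComplex.isZero_single_obj_X _ _ _ _ (by omega))
  have hLfin : ∀ q, Module.Finite A ((KosC l (SS (ModuleCat.of A M))).X q) :=
    kosC_finite l (SS (ModuleCat.of A M)) (finite_single_X M)
  have hLJ : ∀ q : ℤ, ∀ x ∈ I, ∀ c : ↑((KosC l (SS (ModuleCat.of A M))).homology q),
      x • c = 0 := fun q x hx c =>
    kosC_homology_smul (SS (ModuleCat.of A M)) l x (by rw [hl]; exact hx) q c
  obtain ⟨n, hn, hzero⟩ := exists_pow_Q_map_inclTop_eq_zero I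
    (KosC l (SS (ModuleCat.of A M))) (0 - (l.length : ℤ)) 0 hLz hLfin hLJ
  -- the factorisation of `I^n M ⟶ M ⟶ KosC l M` through `I^n (KosC l M)`
  let j₀ : M →ₗ[A] ↑((KosC l (SS (ModuleCat.of A M))).X 0) :=
    ((singleObjXSelf (ComplexShape.up ℤ) 0 (ModuleCat.of A M)).inv ≫
      (kosι l (SS (ModuleCat.of A M))).f 0).hom
  let φ₀ : ModuleCat.of A ↥(I ^ n • (⊤ : Submodule A M)) ⟶
      (subJ I (KosC l (SS (ModuleCat.of A M))) n).X 0 :=
    ModuleCat.ofHom (LinearMap.codRestrict
      (I ^ n • (⊤ : Submodule A ↑((KosC l (SS (ModuleCat.of A M))).X 0)))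
      (j₀ ∘ₗ (I ^ n • (⊤ : Submodule A M)).subtype)
      (fun y => map_mem_smul_top (I ^ n) j₀ y.2))
  let θ : SS (ModuleCat.of A ↥(I ^ n • (⊤ : Submodule A M))) ⟶
      subJ I (KosC l (SS (ModuleCat.of A M))) n :=
    HomologicalComplex.mkHomFromSingle φ₀ (fun k hk =>
      (isZero_subJ_X I (KosC l (SS (ModuleCat.of A M))) n k (hLz k (Or.inr (by
        have h1 : (0 : ℤ) + 1 = k := hk
        omega)))).eq_of_tgt _ _)
  have hθ : θ ≫ inclTop I (KosC l (SS (ModuleCat.of A M))) n =
      (HomologicalComplex.single (ModuleCat.{u} A) (ComplexShape.up ℤ) 0).map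
        (ModuleCat.ofHom (I ^ n • (⊤ : Submodule A M)).subtype) ≫
        kosι l (SS (ModuleCat.of A M)) := by
    apply HomologicalComplex.from_single_hom_ext
    have key : φ₀ ≫ (inclTop I (KosC l (SS (ModuleCat.of A M))) n).f 0 =
        ModuleCat.ofHom (I ^ n • (⊤ : Submodule A M)).subtype ≫
          (singleObjXSelf (ComplexShape.up ℤ) 0 (ModuleCat.of A M)).inv ≫
            (kosι l (SS (ModuleCat.of A M))).f 0 := by
      apply ModuleCat.hom_ext
      apply LinearMap.ext
      intro y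
      rfl
    rw [HomologicalComplex.comp_f, HomologicalComplex.comp_f,
      HomologicalComplex.mkHomFromSingle_f, HomologicalComplex.single_map_f_self]
    simp only [Category.assoc]
    rw [key]
  have hvan : DerivedCategory.Q.map
      ((HomologicalComplex.single (ModuleCat.{u} A) (ComplexShape.up ℤ) 0).map
        (ModuleCat.ofHom (I ^ n • (⊤ : Submodule A M)).subtype) ≫
        kosι l (SS (ModuleCat.of A M))) = 0 := by
    rw [← hθ, Functor.map_comp, hzero, comp_zero]
  -- the Koszul complexes of `F` and `M` are quasi-isomorphic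
  haveI hkr : IsIso (DerivedCategory.Q.map (kosMap l r)) := isIso_Q_map_kosMap l r hrIso
  have hnat : kosι l F ≫ kosMap l r = r ≫ kosι l (SS (ModuleCat.of A M)) :=
    kosι_naturality l r
  have h1 : inv (DerivedCategory.Q.map r) ≫ DerivedCategory.Q.map (kosι l F) =
      DerivedCategory.Q.map (kosι l (SS (ModuleCat.of A M))) ≫
        inv (DerivedCategory.Q.map (kosMap l r)) := by
    rw [IsIso.inv_comp_eq, ← Category.assoc, IsIso.eq_comp_inv, ← Functor.map_comp,
      ← Functor.map_comp, hnat]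
  -- the morphism to lift
  have hx : (DerivedCategory.Q.map
      ((HomologicalComplex.single (ModuleCat.{u} A) (ComplexShape.up ℤ) 0).map
        (ModuleCat.ofHom (I ^ n • (⊤ : Submodule A M)).subtype)) ≫
      inv (DerivedCategory.Q.map r)) ≫ DerivedCategory.Q.map (cokernel.π (mu I F)) = 0 := by
    have h2 : (DerivedCategory.Q.map
        ((HomologicalComplex.single (ModuleCat.{u} A) (ComplexShape.up ℤ) 0).map
          (ModuleCat.ofHom (I ^ n • (⊤ : Submodule A M)).subtype)) ≫
        inv (DerivedCategory.Q.map r)) ≫ DerivedCategory.Q.map (kosι l F) =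
        DerivedCategory.Q.map
          ((HomologicalComplex.single (ModuleCat.{u} A) (ComplexShape.up ℤ) 0).map
            (ModuleCat.ofHom (I ^ n • (⊤ : Submodule A M)).subtype) ≫
            kosι l (SS (ModuleCat.of A M))) ≫
          inv (DerivedCategory.Q.map (kosMap l r)) := by
      rw [Category.assoc, h1, ← Category.assoc, ← Functor.map_comp]
    rw [← hψ, Functor.map_comp, ← Category.assoc, h2, hvan, zero_comp, zero_comp]
  obtain ⟨g₀, hg₀⟩ := exists_lift I F hFflat _ hx
  haveI := DTenB.isIso_ε_app_right (SS (ModuleCat.of A ↥I)) F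
  refine ⟨n, hn, g₀ ≫ inv ((ε A).app (SS (ModuleCat.of A ↥I), F)) ≫
    (LTen₂ A).map (Prod.mkHom (𝟙 (DerivedCategory.Q.obj (SS (ModuleCat.of A ↥I))))
      (DerivedCategory.Q.map r)), ?_⟩
  -- the verification
  have hprod : (Prod.mkHom (𝟙 (DerivedCategory.Q.obj (SS (ModuleCat.of A ↥I))))
      (DerivedCategory.Q.map r)) ≫
      (Prod.mkHom (DerivedCategory.Q.map (SιI I))
        (𝟙 (DerivedCategory.Q.obj (SS (ModuleCat.of A M))))) =
      (QQ A).map (Prod.mkHom (SιI I) r :
        (SS (ModuleCat.of A ↥I), F) ⟶ (𝟙_ (DRing.Cx A), SS (ModuleCat.of A M))) := by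
    apply Prod.hom_ext
    · exact Category.id_comp _
    · exact Category.comp_id _
  have hnatε := (ε A).naturality (Prod.mkHom (SιI I) r :
    (SS (ModuleCat.of A ↥I), F) ⟶ (𝟙_ (DRing.Cx A), SS (ModuleCat.of A M)))
  have hc : (tensor₂ A).map (Prod.mkHom (SιI I) r :
      (SS (ModuleCat.of A ↥I), F) ⟶ (𝟙_ (DRing.Cx A), SS (ModuleCat.of A M))) =
      DerivedCategory.Q.map ((SιI I ▷ F) ≫ (𝟙_ (DRing.Cx A) ◁ r)) := rfl
  have hA : (LTen₂ A).map (Prod.mkHom (𝟙 (DerivedCategory.Q.obj (SS (ModuleCat.of A ↥I))))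
        (DerivedCategory.Q.map r)) ≫
      (LTen₂ A).map (Prod.mkHom (DerivedCategory.Q.map (SιI I))
        (𝟙 (DerivedCategory.Q.obj (SS (ModuleCat.of A M))))) ≫
      (unitL A).app (DerivedCategory.Q.obj (SS (ModuleCat.of A M))) =
      (ε A).app (SS (ModuleCat.of A ↥I), F) ≫ DerivedCategory.Q.map (mu I F ≫ r) := by
    have hm : mu I F ≫ r = (SιI I ▷ F) ≫ (𝟙_ (DRing.Cx A) ◁ r) ≫
        (λ_ (SS (ModuleCat.of A M))).hom := by
      rw [MonoidalCategory.leftUnitor_naturality]
      rfl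
    rw [← Category.assoc, ← Functor.map_comp, hprod, unitL_app, ← Category.assoc]
    refine (congrArg (fun t => t ≫ DerivedCategory.Q.map (λ_ (SS (ModuleCat.of A M))).hom)
      hnatε).trans ?_
    rw [hc, Category.assoc, ← Functor.map_comp, Category.assoc, ← hm]
  change (g₀ ≫ inv ((ε A).app (SS (ModuleCat.of A ↥I), F)) ≫
    (LTen₂ A).map (Prod.mkHom (𝟙 (DerivedCategory.Q.obj (SS (ModuleCat.of A ↥I))))
      (DerivedCategory.Q.map r))) ≫
    (LTen₂ A).map (Prod.mkHom (DerivedCategory.Q.map (SιI I))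
      (𝟙 (DerivedCategory.Q.obj (SS (ModuleCat.of A M))))) ≫
    (unitL A).app (DerivedCategory.Q.obj (SS (ModuleCat.of A M))) = _
  rw [Category.assoc, Category.assoc, hA, IsIso.inv_hom_id_assoc, Functor.map_comp,
    ← Category.assoc, hg₀, Category.assoc, IsIso.inv_hom_id, Category.comp_id]

end Groth.Agent.Lib.Helper21.RGu
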