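import Mathlib
import Groth.Agent.Lib.Helper21.RGs
import Groth.Agent.Lib.Helper21.RGt
import Groth.Agent.Lib.Helper21.RGu

/-!
# Subcomplexes `𝔟 L`, Koszul factorisation of maps to torsion objects, derived Artin-Rees (helper21)

* `sub 𝔟 L`: the subcomplex `𝔟 L ⊆ L` for an arbitrary ideal `𝔟` (`RGs.subJ J L k = sub (J^k) L`),
  with inclusion `inclS`, lifting `subLift`, functoriality `subMap`, `subIncl`, nesting `subNest`.
* `exists_factor_kosι`: a map `QX ⟶ T` in `D(A)` with `T` killed by all `f ∈ l` factors through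
  `Q(KosC l X)`.
* `exists_pow_Q_map_inclS_comp_eq_zero`: for a bounded complex `X` of finite modules over a
  Noetherian ring, some power `𝔞^k X ⟶ X` kills all maps from `QX` to objects of `D(A)` killed by `𝔞`.
* `exists_pow_factor_mu`: `𝔞^k X ⟶ X` factors in `D(A)` through `𝔞 ⊗^L X ⟶ X`
  (computed on a flat resolution `F ⟶ X`).
-/

set_option autoImplicit false
set_option linter.style.haveILetI false
universe u

open CategoryTheory CategoryTheory.Limits MonoidalCategory HomologicalComplex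
open TensorProduct

attribute [local instance] HasDerivedCategory.standard

namespace Groth.Agent.Lib.Helper21.RGv

open Groth.Agent.Lib.Helper21.RGn Groth.Agent.Lib.Helper21.RGs Groth.Agent.Lib.Helper21.RGt
  Groth.Agent.Lib.Helper21.RGu
open Groth.Agent.Lib.Helper18 Groth.Agent.Lib.Helper18.DR

variable {A : Type u} [CommRing A]

/-! ### subcomplexes -/

/-- The subcomplex `𝔟 L` of `L`. -/
noncomputable def sub (𝔟 : Ideal A) (L : DRing.Cx A) : DRing.Cx A where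
  X q := ModuleCat.of A ↥(𝔟 • (⊤ : Submodule A (L.X q)))
  d q q' := ModuleCat.ofHom
    ((L.d q q').hom.restrict (fun x hx => map_mem_smul_top 𝔟 (L.d q q').hom hx))
  shape q q' h := by
    apply ModuleCat.hom_ext
    apply LinearMap.ext
    intro x
    apply Subtype.ext
    have h0 : (L.d q q').hom x.1 = 0 := by
      rw [L.shape q q' h]
      rfl
    exact h0
  d_comp_d' q q' q'' _ _ := by
    apply ModuleCat.hom_ext
    apply LinearMap.ext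
    intro x
    apply Subtype.ext
    have h0 := congrArg (fun f => f.hom x.1) (L.d_comp_d q q' q'')
    simp only [ModuleCat.hom_comp, LinearMap.comp_apply, ModuleCat.hom_zero,
      LinearMap.zero_apply] at h0
    exact h0

lemma subJ_eq_sub (J : Ideal A) (L : DRing.Cx A) (k : ℕ) : subJ J L k = sub (J ^ k) L := rfl

/-- The inclusion `𝔟 L → L`. -/
noncomputable def inclS (𝔟 : Ideal A) (L : DRing.Cx A) : sub 𝔟 L ⟶ L where
  f q := ModuleCat.ofHom (𝔟 • (⊤ : Submodule A (L.X q))).subtype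
  comm' q q' _ := by
    apply ModuleCat.hom_ext
    apply LinearMap.ext
    intro x
    rfl

lemma inclTop_eq_inclS (J : Ideal A) (L : DRing.Cx A) (k : ℕ) :
    inclTop J L k = inclS (J ^ k) L := rfl

instance mono_inclS (𝔟 : Ideal A) (L : DRing.Cx A) : Mono (inclS 𝔟 L) := by
  apply HomologicalComplex.mono_of_mono_f
  intro q
  rw [ModuleCat.mono_iff_injective]
  exact (𝔟 • (⊤ : Submodule A (L.X q))).injective_subtype

/-- a chain map with values in `𝔟 L` lifts to `sub 𝔟 L` -/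
noncomputable def subLift (𝔟 : Ideal A) {U L : DRing.Cx A} (f : U ⟶ L)
    (hf : ∀ (i : ℤ) (x : U.X i), (f.f i).hom x ∈ (𝔟 • ⊤ : Submodule A (L.X i))) :
    U ⟶ sub 𝔟 L where
  f i := ModuleCat.ofHom (LinearMap.codRestrict _ (f.f i).hom (hf i))
  comm' i j _ := by
    apply ModuleCat.hom_ext
    apply LinearMap.ext
    intro x
    apply Subtype.ext
    have h := congrArg (fun g => g.hom x) (f.comm i j)
    exact h

lemma subLift_comp_inclS (𝔟 : Ideal A) {U L : DRing.Cx A} (f : U ⟶ L)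
    (hf : ∀ (i : ℤ) (x : U.X i), (f.f i).hom x ∈ (𝔟 • ⊤ : Submodule A (L.X i))) :
    subLift 𝔟 f hf ≫ inclS 𝔟 L = f := by
  ext q : 1
  apply ModuleCat.hom_ext
  apply LinearMap.ext
  intro x
  rfl

/-- the inclusion `𝔠 L ⟶ 𝔟 L` for `𝔠 ≤ 𝔟` -/
noncomputable def subIncl {𝔠 𝔟 : Ideal A} (h : 𝔠 ≤ 𝔟) (L : DRing.Cx A) : sub 𝔠 L ⟶ sub 𝔟 L :=
  subLift 𝔟 (inclS 𝔠 L) (fun _ x => Submodule.smul_mono h le_rfl x.2)

lemma subIncl_comp_inclS {𝔠 𝔟 : Ideal A} (h : 𝔠 ≤ 𝔟) (L : DRing.Cx A) :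
    subIncl h L ≫ inclS 𝔟 L = inclS 𝔠 L :=
  subLift_comp_inclS _ _ _

/-- functoriality of `sub 𝔟` -/
noncomputable def subMap (𝔟 : Ideal A) {L L' : DRing.Cx A} (f : L ⟶ L') : sub 𝔟 L ⟶ sub 𝔟 L' :=
  subLift 𝔟 (inclS 𝔟 L ≫ f) (fun i x => map_mem_smul_top 𝔟 (f.f i).hom x.2)

lemma subMap_comp_inclS (𝔟 : Ideal A) {L L' : DRing.Cx A} (f : L ⟶ L') :
    subMap 𝔟 f ≫ inclS 𝔟 L' = inclS 𝔟 L ≫ f :=
  subLift_comp_inclS _ _ _

lemma mem_smul_top_nest {M : Type*} [AddCommGroup M] [Module A M] (𝔞 𝔟 𝔠 : Ideal A)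
    (h : 𝔠 ≤ 𝔞 * 𝔟) (x : M) (hx : x ∈ (𝔠 • ⊤ : Submodule A M))
    (hx' : x ∈ (𝔟 • ⊤ : Submodule A M)) :
    (⟨x, hx'⟩ : ↥(𝔟 • ⊤ : Submodule A M)) ∈
      (𝔞 • ⊤ : Submodule A ↥(𝔟 • ⊤ : Submodule A M)) := by
  have h1 : x ∈ ((𝔞 * 𝔟) • ⊤ : Submodule A M) := Submodule.smul_mono h le_rfl hx
  rw [Submodule.mul_smul] at h1
  have h2 : (𝔞 • (𝔟 • ⊤ : Submodule A M)) =
      Submodule.map (𝔟 • ⊤ : Submodule A M).subtype (𝔞 • ⊤) := by
    rw [Submodule.map_smul'', Submodule.map_subtype_top]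
  rw [h2] at h1
  obtain ⟨y, hy, hyx⟩ := h1
  have h3 : y = ⟨x, hx'⟩ := Subtype.ext hyx
  rw [← h3]
  exact hy

/-- `𝔠 L ⟶ 𝔞 (𝔟 L)` for `𝔠 ≤ 𝔞 𝔟` -/
noncomputable def subNest {𝔞 𝔟 𝔠 : Ideal A} (h : 𝔠 ≤ 𝔞 * 𝔟) (L : DRing.Cx A) :
    sub 𝔠 L ⟶ sub 𝔞 (sub 𝔟 L) :=
  subLift 𝔞 (subIncl (h.trans (Ideal.mul_le_right : 𝔞 * 𝔟 ≤ 𝔟)) L)
    (fun _ x => mem_smul_top_nest 𝔞 𝔟 𝔠 h x.1 x.2 _)

lemma subNest_comp_inclS {𝔞 𝔟 𝔠 : Ideal A} (h : 𝔠 ≤ 𝔞 * 𝔟) (L : DRing.Cx A) :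
    subNest h L ≫ inclS 𝔞 (sub 𝔟 L) =
      subIncl (h.trans (Ideal.mul_le_right : 𝔞 * 𝔟 ≤ 𝔟)) L :=
  subLift_comp_inclS _ _ _

lemma isZero_sub_X (𝔟 : Ideal A) (L : DRing.Cx A) (q : ℤ) (h : IsZero (L.X q)) :
    IsZero ((sub 𝔟 L).X q) := by
  haveI : Subsingleton (L.X q) := ModuleCat.subsingleton_of_isZero h
  haveI : Subsingleton ((sub 𝔟 L).X q) := by
    change Subsingleton ↥(𝔟 • (⊤ : Submodule A (L.X q)))
    infer_instance
  exact ModuleCat.isZero_of_subsingleton _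

lemma finite_sub_X [IsNoetherianRing A] (𝔟 : Ideal A) (L : DRing.Cx A) (q : ℤ)
    (h : Module.Finite A (L.X q)) : Module.Finite A ((sub 𝔟 L).X q) := by
  haveI := h
  change Module.Finite A ↥(𝔟 • (⊤ : Submodule A (L.X q)))
  infer_instance

/-! ### maps to torsion objects factor through the Koszul complex -/

lemma exists_factor_kosι (l : List A) (X : DRing.Cx A) {T : DerivedCategory (ModuleCat.{u} A)}
    (hT : ∀ f ∈ l, f • 𝟙 T = 0) (ξ : DerivedCategory.Q.obj X ⟶ T) :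
    ∃ ξ' : DerivedCategory.Q.obj (KosC l X) ⟶ T,
      DerivedCategory.Q.map (kosι l X) ≫ ξ' = ξ := by
  induction l with
  | nil =>
    refine ⟨ξ, ?_⟩
    change DerivedCategory.Q.map (𝟙 X) ≫ ξ = ξ
    rw [CategoryTheory.Functor.map_id, Category.id_comp]
  | cons f fs ih =>
    obtain ⟨ξ₁, h₁⟩ := ih (fun g hg => hT g (List.mem_cons_of_mem _ hg))
    have hf : f • 𝟙 T = 0 := hT f List.mem_cons_self
    have h2 : DerivedCategory.Q.map (f • 𝟙 (KosC fs X)) ≫ ξ₁ = 0 := by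
      rw [Functor.map_smul, CategoryTheory.Functor.map_id, Linear.smul_comp, Category.id_comp]
      have h3 : f • ξ₁ = ξ₁ ≫ (f • 𝟙 T) := by rw [Linear.comp_smul, Category.comp_id]
      rw [h3, hf, comp_zero]
    obtain ⟨ξ₂, h₂⟩ : ∃ ξ₂ : DerivedCategory.Q.obj
        (CochainComplex.mappingCone (f • 𝟙 (KosC fs X))) ⟶ T,
        ξ₁ = DerivedCategory.Q.map (CochainComplex.mappingCone.inr (f • 𝟙 (KosC fs X))) ≫ ξ₂ :=
      Pretriangulated.Triangle.yoneda_exact₂ _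
        (DerivedCategory.mappingCone_triangle_distinguished (f • 𝟙 (KosC fs X))) ξ₁ h2
    refine ⟨ξ₂, ?_⟩
    change DerivedCategory.Q.map (kosι fs X ≫
      CochainComplex.mappingCone.inr (f • 𝟙 (KosC fs X))) ≫ ξ₂ = ξ
    rw [Functor.map_comp, Category.assoc, ← h₁]
    congr 1
    exact h₂.symm

/-! ### derived Artin-Rees -/

lemma exists_pow_Q_map_inclS_kosι_eq_zero [IsNoetherianRing A] (𝔞 : Ideal A) (l : List A)
    (hl : Ideal.span {x | x ∈ l} = 𝔞) (X : DRing.Cx A) (a b : ℤ)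
    (hX : ∀ q : ℤ, q < a ∨ b < q → IsZero (X.X q)) (hfin : ∀ q, Module.Finite A (X.X q)) :
    ∃ k : ℕ, 0 < k ∧ ∀ 𝔠 : Ideal A, 𝔠 ≤ 𝔞 ^ k →
      DerivedCategory.Q.map (inclS 𝔠 X ≫ kosι l X) = 0 := by
  have hLz : ∀ q : ℤ, q < a - (l.length : ℤ) ∨ b < q → IsZero ((KosC l X).X q) :=
    kosC_isZero l X a b hX
  have hLfin : ∀ q, Module.Finite A ((KosC l X).X q) := kosC_finite l X hfin
  have hLJ : ∀ q : ℤ, ∀ x ∈ 𝔞, ∀ c : ↑((KosC l X).homology q), x • c = 0 := fun q x hx c =>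
    kosC_homology_smul X l x (by rw [hl]; exact hx) q c
  obtain ⟨k, hk, hzero⟩ := exists_pow_Q_map_inclTop_eq_zero 𝔞 (KosC l X)
    (a - (l.length : ℤ)) b hLz hLfin hLJ
  refine ⟨k, hk, fun 𝔠 h𝔠 => ?_⟩
  have h1 : inclS 𝔠 X ≫ kosι l X =
      subMap 𝔠 (kosι l X) ≫ subIncl h𝔠 (KosC l X) ≫ inclS (𝔞 ^ k) (KosC l X) := by
    rw [subIncl_comp_inclS, subMap_comp_inclS]
  have h2 : DerivedCategory.Q.map (inclS (𝔞 ^ k) (KosC l X)) = 0 := hzero
  rw [h1, Functor.map_comp, Functor.map_comp, h2, comp_zero, comp_zero]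

theorem exists_pow_Q_map_inclS_comp_eq_zero [IsNoetherianRing A] (𝔞 : Ideal A) (l : List A)
    (hl : Ideal.span {x | x ∈ l} = 𝔞) (X : DRing.Cx A) (a b : ℤ)
    (hX : ∀ q : ℤ, q < a ∨ b < q → IsZero (X.X q)) (hfin : ∀ q, Module.Finite A (X.X q)) :
    ∃ k : ℕ, 0 < k ∧ ∀ 𝔠 : Ideal A, 𝔠 ≤ 𝔞 ^ k →
      ∀ (T : DerivedCategory (ModuleCat.{u} A)), (∀ f ∈ 𝔞, f • 𝟙 T = 0) →
        ∀ ξ : DerivedCategory.Q.obj X ⟶ T, DerivedCategory.Q.map (inclS 𝔠 X) ≫ ξ = 0 := by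
  obtain ⟨k, hk, h⟩ := exists_pow_Q_map_inclS_kosι_eq_zero 𝔞 l hl X a b hX hfin
  refine ⟨k, hk, fun 𝔠 h𝔠 T hT ξ => ?_⟩
  obtain ⟨ξ', hξ'⟩ := exists_factor_kosι l X
    (fun f hf => hT f (by rw [← hl]; exact Ideal.subset_span hf)) ξ
  rw [← hξ', ← Category.assoc, ← Functor.map_comp, h 𝔠 h𝔠, zero_comp]

/-! ### factorisation through `𝔞 ⊗ F ⟶ F` -/

theorem exists_factor_mu (𝔞 : Ideal A) (l : List A)
    (hl : Ideal.span {x | x ∈ l} = 𝔞) (X F : DRing.Cx A) (hF : ∀ n, Module.Flat A (F.X n))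
    (r : F ⟶ X) (hr : IsIso (DerivedCategory.Q.map r)) {U : DRing.Cx A} (ι₀ : U ⟶ X)
    (hvan : DerivedCategory.Q.map (ι₀ ≫ kosι l X) = 0) :
    ∃ g₀ : DerivedCategory.Q.obj U ⟶ DerivedCategory.Q.obj (SS (ModuleCat.of A ↥𝔞) ⊗ F),
      g₀ ≫ DerivedCategory.Q.map (mu 𝔞 F) =
        DerivedCategory.Q.map ι₀ ≫ inv (DerivedCategory.Q.map r) := by
  haveI := hr
  -- the cokernel is killed by `l`
  have hkill : ∀ f ∈ l, f • 𝟙 (DerivedCategory.Q.obj (cokernel (mu 𝔞 F))) = 0 := by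
    intro f hf
    have hfI : f ∈ 𝔞 := by
      rw [← hl]
      exact Ideal.subset_span hf
    have h1 := smul_cokernel_π 𝔞 F f hfI
    have h2 : f • 𝟙 (cokernel (mu 𝔞 F)) = 0 := by
      rw [← cancel_epi (cokernel.π (mu 𝔞 F)), comp_zero, Linear.comp_smul, Category.comp_id]
      exact h1
    rw [← CategoryTheory.Functor.map_id, ← Functor.map_smul, h2, Functor.map_zero]
  obtain ⟨ξ', hξ'⟩ := exists_factor_kosι l F hkill
    (DerivedCategory.Q.map (cokernel.π (mu 𝔞 F)))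
  haveI hkr : IsIso (DerivedCategory.Q.map (kosMap l r)) := isIso_Q_map_kosMap l r hr
  have hnat : kosι l F ≫ kosMap l r = r ≫ kosι l X := kosι_naturality l r
  have h1 : inv (DerivedCategory.Q.map r) ≫ DerivedCategory.Q.map (kosι l F) =
      DerivedCategory.Q.map (kosι l X) ≫ inv (DerivedCategory.Q.map (kosMap l r)) := by
    rw [IsIso.inv_comp_eq, ← Category.assoc, IsIso.eq_comp_inv, ← Functor.map_comp,
      ← Functor.map_comp, hnat]
  have hx : (DerivedCategory.Q.map ι₀ ≫ inv (DerivedCategory.Q.map r)) ≫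
      DerivedCategory.Q.map (cokernel.π (mu 𝔞 F)) = 0 := by
    rw [← hξ', Category.assoc, ← Category.assoc (inv (DerivedCategory.Q.map r)), h1,
      Category.assoc, ← Category.assoc (DerivedCategory.Q.map ι₀), ← Functor.map_comp, hvan,
      zero_comp]
  exact exists_lift 𝔞 F hF _ hx

theorem exists_pow_factor_mu [IsNoetherianRing A] (𝔞 : Ideal A) (l : List A)
    (hl : Ideal.span {x | x ∈ l} = 𝔞) (X : DRing.Cx A) (a b : ℤ)
    (hX : ∀ q : ℤ, q < a ∨ b < q → IsZero (X.X q)) (hfin : ∀ q, Module.Finite A (X.X q))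
    (F : DRing.Cx A) (hF : ∀ n, Module.Flat A (F.X n))
    (r : F ⟶ X) (hr : IsIso (DerivedCategory.Q.map r)) :
    ∃ k : ℕ, 0 < k ∧ ∀ 𝔠 : Ideal A, 𝔠 ≤ 𝔞 ^ k →
      ∃ g₀ : DerivedCategory.Q.obj (sub 𝔠 X) ⟶
          DerivedCategory.Q.obj (SS (ModuleCat.of A ↥𝔞) ⊗ F),
        g₀ ≫ DerivedCategory.Q.map (mu 𝔞 F) =
          DerivedCategory.Q.map (inclS 𝔠 X) ≫ inv (DerivedCategory.Q.map r) := by
  obtain ⟨k, hk, h⟩ := exists_pow_Q_map_inclS_kosι_eq_zero 𝔞 l hl X a b hX hfin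
  exact ⟨k, hk, fun 𝔠 h𝔠 => exists_factor_mu 𝔞 l hl X F hF r hr (inclS 𝔠 X) (h 𝔠 h𝔠)⟩

end Groth.Agent.Lib.Helper21.RGv
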