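import Mathlib
import Groth.Agent.Lib.Helper21.RGv

/-!
# Tensoring a complex with `𝔟 ⟶ A ⟶ A/𝔟` (helper21)

For an ideal `𝔟` and a complex `W`:  the map `proj 𝔟 W : W ⟶ (A/𝔟)[0] ⊗ W`, its termwise
description, the short exact sequences `𝔟[0] ⊗ W ⟶ W ⟶ (A/𝔟)[0] ⊗ W` (`W` termwise flat) and
`𝔟 W ⟶ W ⟶ (A/𝔟)[0] ⊗ W` (any `W`), their functoriality, and the fact that `𝔟` kills
`(A/𝔟)[0] ⊗ W`.
-/

set_option autoImplicit false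
set_option linter.style.haveILetI false
universe u

open CategoryTheory CategoryTheory.Limits MonoidalCategory HomologicalComplex
open TensorProduct

attribute [local instance] HasDerivedCategory.standard

namespace Groth.Agent.Lib.Helper21.RGw

open Groth.Agent.Lib.Helper21.RGn Groth.Agent.Lib.Helper21.RGs Groth.Agent.Lib.Helper21.RGt
  Groth.Agent.Lib.Helper21.RGu Groth.Agent.Lib.Helper21.RGv
open Groth.Agent.Lib.Helper18 Groth.Agent.Lib.Helper18.DR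

variable {A : Type u} [CommRing A]

/-- the single functor -/
noncomputable abbrev Sf : ModuleCat.{u} A ⥤ DRing.Cx A :=
  HomologicalComplex.single (ModuleCat.{u} A) (ComplexShape.up ℤ) 0

/-- the termwise comparison `M ⊗ W^n ≅ (M[0] ⊗ W)^n` -/
noncomputable abbrev ph (M : ModuleCat.{u} A) (W : DRing.Cx A) (n : ℤ) :
    M ⊗ W.X n ⟶ (SS M ⊗ W).X n :=
  TotSingle.φ (curriedTensor (ModuleCat.{u} A)) M W n

instance (M : ModuleCat.{u} A) (W : DRing.Cx A) (n : ℤ) : IsIso (ph M W n) := isIso_phi M W n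

lemma ph_surjective (M : ModuleCat.{u} A) (W : DRing.Cx A) (n : ℤ) (y : (SS M ⊗ W).X n) :
    ∃ t : (M ⊗ W.X n : ModuleCat.{u} A), (ph M W n).hom t = y := by
  refine ⟨(inv (ph M W n)).hom y, ?_⟩
  have h : inv (ph M W n) ≫ ph M W n = 𝟙 _ := IsIso.inv_hom_id _
  exact congrArg (fun f => f.hom y) h

lemma ph_injective (M : ModuleCat.{u} A) (W : DRing.Cx A) (n : ℤ) :
    Function.Injective (ph M W n).hom := by
  intro t t' htt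
  have h : ph M W n ≫ inv (ph M W n) = 𝟙 _ := IsIso.hom_inv_id _
  have h1 := congrArg (fun f => f.hom t) h
  have h2 := congrArg (fun f => f.hom t') h
  have h3 : (inv (ph M W n)).hom ((ph M W n).hom t) = (inv (ph M W n)).hom ((ph M W n).hom t') := by
    rw [htt]
  exact h1.symm.trans (h3.trans h2)

lemma ph_whiskerRight {M M' : ModuleCat.{u} A} (f : M ⟶ M') (W : DRing.Cx A) (n : ℤ) :
    ph M W n ≫ (Sf.map f ▷ W).f n = (f ▷ W.X n) ≫ ph M' W n := by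
  have e0 : (singleObjXSelf (ComplexShape.up ℤ) 0 M).inv ≫ (Sf.map f).f 0 =
      f ≫ (singleObjXSelf (ComplexShape.up ℤ) 0 M').inv := by
    rw [HomologicalComplex.single_map_f_self]
    simp
  have e1 : ιTensorObj (SS M) W 0 n n (zero_add n) ≫ (Sf.map f ▷ W).f n =
      ((Sf.map f).f 0 ▷ W.X n) ≫ ιTensorObj (SS M') W 0 n n (zero_add n) := by
    have h := HomologicalComplex.ι_mapBifunctorMap (Sf.map f) (𝟙 W)
      (curriedTensor (ModuleCat.{u} A)) (ComplexShape.up ℤ) 0 n n (zero_add n)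
    simp only [HomologicalComplex.id_f, CategoryTheory.Functor.map_id, Category.id_comp] at h
    exact h
  change (((singleObjXSelf (ComplexShape.up ℤ) 0 M).inv ▷ W.X n) ≫
    ιTensorObj (SS M) W 0 n n (zero_add n)) ≫ (Sf.map f ▷ W).f n =
    (f ▷ W.X n) ≫ (((singleObjXSelf (ComplexShape.up ℤ) 0 M').inv ▷ W.X n) ≫
      ιTensorObj (SS M') W 0 n n (zero_add n))
  rw [Category.assoc, e1, ← MonoidalCategory.comp_whiskerRight_assoc, e0,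
    MonoidalCategory.comp_whiskerRight, Category.assoc]

lemma leftUnitor_inv_f (W : DRing.Cx A) (n : ℤ) :
    (λ_ W).inv.f n = (λ_ (W.X n)).inv ≫ ph (𝟙_ (ModuleCat.{u} A)) W n :=
  HomologicalComplex.leftUnitor'_inv W n

/-! ### the quotient -/

/-- `A/𝔟` -/
noncomputable abbrev Lq (𝔟 : Ideal A) : ModuleCat.{u} A := ModuleCat.of A (A ⧸ 𝔟)

/-- `A ⟶ A/𝔟` -/
noncomputable abbrev qq (𝔟 : Ideal A) : 𝟙_ (ModuleCat.{u} A) ⟶ Lq 𝔟 :=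
  ModuleCat.ofHom (Submodule.mkQ 𝔟)

/-- `A/𝔠 ⟶ A/𝔟` -/
noncomputable abbrev tq {𝔠 𝔟 : Ideal A} (h : 𝔠 ≤ 𝔟) : Lq 𝔠 ⟶ Lq 𝔟 :=
  ModuleCat.ofHom (Submodule.factor h)

/-- `𝔠 ⟶ 𝔟` -/
noncomputable abbrev ii {𝔠 𝔟 : Ideal A} (h : 𝔠 ≤ 𝔟) : ModuleCat.of A ↥𝔠 ⟶ ModuleCat.of A ↥𝔟 :=
  ModuleCat.ofHom (Submodule.inclusion h)

lemma qq_tq {𝔠 𝔟 : Ideal A} (h : 𝔠 ≤ 𝔟) : qq 𝔠 ≫ tq h = qq 𝔟 := by
  apply ModuleCat.hom_ext
  apply LinearMap.ext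
  intro x
  rfl

lemma ii_ιI {𝔠 𝔟 : Ideal A} (h : 𝔠 ≤ 𝔟) : ii h ≫ ιI 𝔟 = ιI 𝔠 := by
  apply ModuleCat.hom_ext
  apply LinearMap.ext
  intro x
  rfl

/-- the projection `W ⟶ (A/𝔟)[0] ⊗ W` -/
noncomputable def proj (𝔟 : Ideal A) (W : DRing.Cx A) : W ⟶ SS (Lq 𝔟) ⊗ W :=
  (λ_ W).inv ≫ (Sf.map (qq 𝔟) ▷ W)

/-- the linear map `w ↦ 1 ⊗ w` -/
noncomputable def piLin (𝔟 : Ideal A) (M : Type u) [AddCommGroup M] [Module A M] :
    M →ₗ[A] (A ⧸ 𝔟) ⊗[A] M :=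
  (LinearMap.rTensor M (Submodule.mkQ 𝔟)) ∘ₗ (TensorProduct.lid A M).symm.toLinearMap

lemma quot_piLin (𝔟 : Ideal A) (M : Type u) [AddCommGroup M] [Module A M] (w : M) :
    TensorProduct.quotTensorEquivQuotSMul M 𝔟 (piLin 𝔟 M w) =
      (𝔟 • ⊤ : Submodule A M).mkQ w := by
  have h := LinearMap.congr_fun (TensorProduct.quotTensorEquivQuotSMul_comp_mkQ_rTensor
    (M := M) 𝔟) ((TensorProduct.lid A M).symm w)
  simp only [LinearMap.coe_comp, Function.comp_apply, LinearEquiv.coe_coe,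
    LinearEquiv.apply_symm_apply] at h
  exact h

lemma piLin_eq_zero_iff (𝔟 : Ideal A) (M : Type u) [AddCommGroup M] [Module A M] (w : M) :
    piLin 𝔟 M w = 0 ↔ w ∈ (𝔟 • ⊤ : Submodule A M) := by
  rw [← (TensorProduct.quotTensorEquivQuotSMul M 𝔟).map_eq_zero_iff, quot_piLin,
    Submodule.mkQ_apply, Submodule.Quotient.mk_eq_zero]

lemma piLin_surjective (𝔟 : Ideal A) (M : Type u) [AddCommGroup M] [Module A M] :
    Function.Surjective (piLin 𝔟 M) := by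
  intro t
  obtain ⟨w, hw⟩ := Submodule.mkQ_surjective (𝔟 • ⊤ : Submodule A M)
    (TensorProduct.quotTensorEquivQuotSMul M 𝔟 t)
  refine ⟨w, ?_⟩
  apply (TensorProduct.quotTensorEquivQuotSMul M 𝔟).injective
  rw [quot_piLin, hw]

lemma proj_f (𝔟 : Ideal A) (W : DRing.Cx A) (n : ℤ) :
    (proj 𝔟 W).f n = ModuleCat.ofHom (piLin 𝔟 (W.X n)) ≫ ph (Lq 𝔟) W n := by
  have h1 : (proj 𝔟 W).f n = (λ_ W).inv.f n ≫ (Sf.map (qq 𝔟) ▷ W).f n := rfl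
  rw [h1, leftUnitor_inv_f, Category.assoc, ph_whiskerRight, ← Category.assoc]
  rfl

lemma proj_f_apply (𝔟 : Ideal A) (W : DRing.Cx A) (n : ℤ) (w : W.X n) :
    ((proj 𝔟 W).f n).hom w = (ph (Lq 𝔟) W n).hom (piLin 𝔟 (W.X n) w) := by
  rw [proj_f]
  rfl

lemma proj_f_eq_zero_iff (𝔟 : Ideal A) (W : DRing.Cx A) (n : ℤ) (w : W.X n) :
    ((proj 𝔟 W).f n).hom w = 0 ↔ w ∈ (𝔟 • ⊤ : Submodule A (W.X n)) := by
  rw [proj_f_apply, ← piLin_eq_zero_iff]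
  constructor
  · intro h
    apply ph_injective (Lq 𝔟) W n
    rw [h, map_zero]
  · intro h
    rw [h, map_zero]

lemma proj_f_surjective (𝔟 : Ideal A) (W : DRing.Cx A) (n : ℤ) :
    Function.Surjective ((proj 𝔟 W).f n).hom := by
  intro y
  obtain ⟨t, rfl⟩ := ph_surjective (Lq 𝔟) W n y
  obtain ⟨w, rfl⟩ := piLin_surjective 𝔟 (W.X n) t
  exact ⟨w, proj_f_apply 𝔟 W n w⟩

/-! ### the multiplication map, termwise -/

lemma mu_f_ph_apply (𝔟 : Ideal A) (W : DRing.Cx A) (n : ℤ)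
    (t : (ModuleCat.of A ↥𝔟 ⊗ W.X n : ModuleCat.{u} A)) :
    ((mu 𝔟 W).f n).hom ((ph (ModuleCat.of A ↥𝔟) W n).hom t) = mulMap 𝔟 (W.X n) t := by
  have h := congrArg (fun f => f.hom t) (phi_mu 𝔟 W n)
  exact h

lemma mu_f_mem (𝔟 : Ideal A) (W : DRing.Cx A) (n : ℤ) (y : (SS (ModuleCat.of A ↥𝔟) ⊗ W).X n) :
    ((mu 𝔟 W).f n).hom y ∈ (𝔟 • ⊤ : Submodule A (W.X n)) := by
  obtain ⟨t, rfl⟩ := ph_surjective (ModuleCat.of A ↥𝔟) W n y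
  rw [mu_f_ph_apply, ← range_mulMap]
  exact ⟨t, rfl⟩

lemma exists_mu_f_eq (𝔟 : Ideal A) (W : DRing.Cx A) (n : ℤ) (w : W.X n)
    (hw : w ∈ (𝔟 • ⊤ : Submodule A (W.X n))) :
    ∃ y : (SS (ModuleCat.of A ↥𝔟) ⊗ W).X n, ((mu 𝔟 W).f n).hom y = w := by
  rw [← range_mulMap] at hw
  obtain ⟨t, rfl⟩ := hw
  exact ⟨(ph (ModuleCat.of A ↥𝔟) W n).hom t, mu_f_ph_apply 𝔟 W n t⟩

/-! ### short exact sequences -/

lemma shortExact_of_termwise (S : ShortComplex (DRing.Cx A)) [Mono S.f]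
    (hsurj : ∀ i, Function.Surjective (S.g.f i).hom)
    (hex : ∀ (i : ℤ) (x : S.X₂.X i), (S.g.f i).hom x = 0 → ∃ y, (S.f.f i).hom y = x) :
    S.ShortExact :=
  { exact := HomologicalComplex.exact_of_degreewise_exact S
      (fun i => (ShortComplex.moduleCat_exact_iff _).2 (hex i))
    epi_g := HomologicalComplex.epi_of_epi_f _
      (fun i => (ModuleCat.epi_iff_surjective _).2 (hsurj i)) }

lemma mu_proj (𝔟 : Ideal A) (W : DRing.Cx A) : mu 𝔟 W ≫ proj 𝔟 W = 0 := by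
  ext n : 1
  apply ModuleCat.hom_ext
  apply LinearMap.ext
  intro y
  exact (proj_f_eq_zero_iff 𝔟 W n _).2 (mu_f_mem 𝔟 W n y)

lemma inclS_proj (𝔟 : Ideal A) (W : DRing.Cx A) : inclS 𝔟 W ≫ proj 𝔟 W = 0 := by
  ext n : 1
  apply ModuleCat.hom_ext
  apply LinearMap.ext
  intro y
  exact (proj_f_eq_zero_iff 𝔟 W n _).2 y.2

/-- `𝔟[0] ⊗ W ⟶ W ⟶ (A/𝔟)[0] ⊗ W` -/
noncomputable def sesP (𝔟 : Ideal A) (W : DRing.Cx A) : ShortComplex (DRing.Cx A) :=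
  ShortComplex.mk (mu 𝔟 W) (proj 𝔟 W) (mu_proj 𝔟 W)

/-- `𝔟 W ⟶ W ⟶ (A/𝔟)[0] ⊗ W` -/
noncomputable def sesK (𝔟 : Ideal A) (W : DRing.Cx A) : ShortComplex (DRing.Cx A) :=
  ShortComplex.mk (inclS 𝔟 W) (proj 𝔟 W) (inclS_proj 𝔟 W)

lemma sesP_shortExact (𝔟 : Ideal A) (W : DRing.Cx A) (hW : ∀ n, Module.Flat A (W.X n)) :
    (sesP 𝔟 W).ShortExact := by
  haveI : Mono (sesP 𝔟 W).f := mono_mu 𝔟 W hW
  apply shortExact_of_termwise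
  · exact fun i => proj_f_surjective 𝔟 W i
  · intro i x hx
    exact exists_mu_f_eq 𝔟 W i x ((proj_f_eq_zero_iff 𝔟 W i x).1 hx)

lemma sesK_shortExact (𝔟 : Ideal A) (W : DRing.Cx A) : (sesK 𝔟 W).ShortExact := by
  haveI : Mono (sesK 𝔟 W).f := mono_inclS 𝔟 W
  apply shortExact_of_termwise
  · exact fun i => proj_f_surjective 𝔟 W i
  · intro i x hx
    exact ⟨⟨x, (proj_f_eq_zero_iff 𝔟 W i x).1 hx⟩, rfl⟩

/-! ### functoriality -/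

lemma ii_mu {𝔠 𝔟 : Ideal A} (h : 𝔠 ≤ 𝔟) (W : DRing.Cx A) :
    (Sf.map (ii h) ▷ W) ≫ mu 𝔟 W = mu 𝔠 W := by
  have h1 : Sf.map (ii h) ≫ SιI 𝔟 = SιI 𝔠 := by
    change Sf.map (ii h) ≫ Sf.map (ιI 𝔟) = Sf.map (ιI 𝔠)
    rw [← Functor.map_comp, ii_ιI]
  change (Sf.map (ii h) ▷ W) ≫ (SιI 𝔟 ▷ W) ≫ (λ_ W).hom = (SιI 𝔠 ▷ W) ≫ (λ_ W).hom
  rw [← Category.assoc, ← MonoidalCategory.comp_whiskerRight, h1]

lemma proj_tq {𝔠 𝔟 : Ideal A} (h : 𝔠 ≤ 𝔟) (W : DRing.Cx A) :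
    proj 𝔠 W ≫ (Sf.map (tq h) ▷ W) = proj 𝔟 W := by
  change ((λ_ W).inv ≫ (Sf.map (qq 𝔠) ▷ W)) ≫ (Sf.map (tq h) ▷ W) =
    (λ_ W).inv ≫ (Sf.map (qq 𝔟) ▷ W)
  rw [Category.assoc, ← MonoidalCategory.comp_whiskerRight, ← Functor.map_comp, qq_tq]

lemma proj_naturality (𝔟 : Ideal A) {W W' : DRing.Cx A} (p : W ⟶ W') :
    proj 𝔟 W ≫ (SS (Lq 𝔟) ◁ p) = p ≫ proj 𝔟 W' := by
  change ((λ_ W).inv ≫ (Sf.map (qq 𝔟) ▷ W)) ≫ (SS (Lq 𝔟) ◁ p) =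
    p ≫ (λ_ W').inv ≫ (Sf.map (qq 𝔟) ▷ W')
  rw [Category.assoc, ← MonoidalCategory.whisker_exchange, ← Category.assoc,
    ← Category.assoc, MonoidalCategory.leftUnitor_inv_naturality]
  rfl

/-- transition maps of `sesP` -/
noncomputable def sesPMap {𝔠 𝔟 : Ideal A} (h : 𝔠 ≤ 𝔟) (W : DRing.Cx A) : sesP 𝔠 W ⟶ sesP 𝔟 W :=
  ShortComplex.homMk (Sf.map (ii h) ▷ W) (𝟙 W) (Sf.map (tq h) ▷ W)
    (by
      change (Sf.map (ii h) ▷ W) ≫ mu 𝔟 W = mu 𝔠 W ≫ 𝟙 W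
      rw [ii_mu, Category.comp_id])
    (by
      change 𝟙 W ≫ proj 𝔟 W = proj 𝔠 W ≫ (Sf.map (tq h) ▷ W)
      rw [proj_tq, Category.id_comp])

/-- transition maps of `sesK` -/
noncomputable def sesKMap {𝔠 𝔟 : Ideal A} (h : 𝔠 ≤ 𝔟) (W : DRing.Cx A) : sesK 𝔠 W ⟶ sesK 𝔟 W :=
  ShortComplex.homMk (subIncl h W) (𝟙 W) (Sf.map (tq h) ▷ W)
    (by
      change subIncl h W ≫ inclS 𝔟 W = inclS 𝔠 W ≫ 𝟙 W
      rw [subIncl_comp_inclS, Category.comp_id])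
    (by
      change 𝟙 W ≫ proj 𝔟 W = proj 𝔠 W ≫ (Sf.map (tq h) ▷ W)
      rw [proj_tq, Category.id_comp])

/-- `𝔟[0] ⊗ P ⟶ 𝔟 K` induced by `p : P ⟶ K` -/
noncomputable def rho (𝔟 : Ideal A) {P K : DRing.Cx A} (p : P ⟶ K) :
    SS (ModuleCat.of A ↥𝔟) ⊗ P ⟶ sub 𝔟 K :=
  subLift 𝔟 (mu 𝔟 P ≫ p) (fun i y => map_mem_smul_top 𝔟 (p.f i).hom (mu_f_mem 𝔟 P i y))

/-- comparison of `sesP` for `P` with `sesK` for `K` -/
noncomputable def sesPK (𝔟 : Ideal A) {P K : DRing.Cx A} (p : P ⟶ K) : sesP 𝔟 P ⟶ sesK 𝔟 K :=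
  ShortComplex.homMk (rho 𝔟 p) p (SS (Lq 𝔟) ◁ p)
    (by
      change rho 𝔟 p ≫ inclS 𝔟 K = mu 𝔟 P ≫ p
      exact subLift_comp_inclS _ _ _)
    (by
      change p ≫ proj 𝔟 K = proj 𝔟 P ≫ (SS (Lq 𝔟) ◁ p)
      rw [proj_naturality])

/-! ### torsion -/

lemma smul_tensor_quot_eq_zero (𝔟 : Ideal A) (M : Type u) [AddCommGroup M] [Module A M]
    (j : A) (hj : j ∈ 𝔟) (t : (A ⧸ 𝔟) ⊗[A] M) : j • t = 0 := by
  induction t using TensorProduct.induction_on with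
  | zero => simp
  | tmul a w =>
    rw [TensorProduct.smul_tmul']
    have h : j • a = 0 := by
      obtain ⟨a', rfl⟩ := Submodule.mkQ_surjective 𝔟 a
      rw [← map_smul, Submodule.mkQ_apply, Submodule.Quotient.mk_eq_zero, smul_eq_mul]
      exact Ideal.mul_mem_right _ _ hj
    rw [h, TensorProduct.zero_tmul]
  | add x y hx hy => rw [smul_add, hx, hy, add_zero]

lemma smul_id_tensor_quot (𝔟 : Ideal A) (W : DRing.Cx A) (j : A) (hj : j ∈ 𝔟) :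
    j • 𝟙 (SS (Lq 𝔟) ⊗ W) = 0 := by
  ext n : 1
  apply ModuleCat.hom_ext
  apply LinearMap.ext
  intro y
  obtain ⟨t, rfl⟩ := ph_surjective (Lq 𝔟) W n y
  have h1 : ((j • 𝟙 (SS (Lq 𝔟) ⊗ W)).f n).hom ((ph (Lq 𝔟) W n).hom t) =
      j • (ph (Lq 𝔟) W n).hom t := rfl
  rw [h1, ← map_smul, smul_tensor_quot_eq_zero 𝔟 (W.X n) j hj t, map_zero]
  rfl

end Groth.Agent.Lib.Helper21.RGw
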