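import Mathlib
import Groth.Agent.Lib.Helper21.RGw
import Groth.Agent.Lib.Helper18.DTenB

/-!
# Nullity on the flat side (helper21)

* `Q_map_mu_comp_eq_zero`: for a K-flat complex `Y` and a complex `Z` killed by `J`, every map
  `QY ⟶ QZ` in `D(A)` vanishes on `J[0] ⊗ Y ⟶ Y`.
* `exists_pow_Q_map_whiskerRight_comp_eq_zero`: for a bounded complex `X₀` of finite modules over
  a Noetherian ring and a K-projective complex `P`, there is `k` such that
  `(J^k X₀) ⊗ P ⟶ X₀ ⊗ P` kills all maps from `Q(X₀ ⊗ P)` to `QZ`, `Z` killed by `J`.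
-/

set_option autoImplicit false
set_option linter.style.haveILetI false
universe u

open CategoryTheory CategoryTheory.Limits MonoidalCategory HomologicalComplex
open TensorProduct

attribute [local instance] HasDerivedCategory.standard

namespace Groth.Agent.Lib.Helper21.RGx

open Groth.Agent.Lib.Helper21.RGn Groth.Agent.Lib.Helper21.RGs
  Groth.Agent.Lib.Helper21.RGu Groth.Agent.Lib.Helper21.RGv Groth.Agent.Lib.Helper21.RGw
open Groth.Agent.Lib.Helper18 Groth.Agent.Lib.Helper18.DR Groth.Agent.Lib.Helper18.DR.DTenB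
open Groth.Agent.Lib.Helper2.Tot Groth.Agent.Lib.Helper2.Tot.DR

variable {A : Type u} [CommRing A]

lemma smul_eq_zero_of_smul_id (Z : DRing.Cx A) (j : A) (h : j • 𝟙 Z = 0) (n : ℤ) (z : Z.X n) :
    j • z = 0 := by
  have h1 := congrArg (fun f => (f.f n).hom z) h
  exact h1

lemma kflat_tensor {Y₁ Y₂ : DRing.Cx A} (h₁ : KFlat (T A) Y₁) (h₂ : KFlat (T A) Y₂) :
    KFlat (T A) (Y₁ ⊗ Y₂) := by
  intro K₁ hK₁
  have h3 : (K₁ ⊗ Y₁ : DRing.Cx A).Acyclic := h₁ K₁ hK₁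
  have h4 : ((K₁ ⊗ Y₁) ⊗ Y₂ : DRing.Cx A).Acyclic := h₂ _ h3
  intro i
  exact (h4 i).of_iso (α_ K₁ Y₁ Y₂)

lemma mu_naturality (J : Ideal A) {Y' Y : DRing.Cx A} (s : Y' ⟶ Y) :
    (SS (ModuleCat.of A ↥J) ◁ s) ≫ mu J Y = mu J Y' ≫ s := by
  change (SS (ModuleCat.of A ↥J) ◁ s) ≫ (SιI J ▷ Y) ≫ (λ_ Y).hom =
    ((SιI J ▷ Y') ≫ (λ_ Y').hom) ≫ s
  rw [← Category.assoc, MonoidalCategory.whisker_exchange, Category.assoc, Category.assoc,
    MonoidalCategory.leftUnitor_naturality]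

lemma mu_comp_eq_zero (J : Ideal A) (Y Z : DRing.Cx A) (hZ : ∀ j ∈ J, j • 𝟙 Z = 0)
    (β : Y ⟶ Z) : mu J Y ≫ β = 0 := by
  ext n : 1
  apply ModuleCat.hom_ext
  apply LinearMap.ext
  intro y
  obtain ⟨t, rfl⟩ := ph_surjective (ModuleCat.of A ↥J) Y n y
  have h1 : ((mu J Y ≫ β).f n).hom ((ph (ModuleCat.of A ↥J) Y n).hom t) =
      (β.f n).hom (mulMap J (Y.X n) t) := by
    have h0 := mu_f_ph_apply J Y n t
    change (β.f n).hom (((mu J Y).f n).hom ((ph (ModuleCat.of A ↥J) Y n).hom t)) = _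
    rw [h0]
  have h2 : ∀ w ∈ (J • ⊤ : Submodule A (Y.X n)), (β.f n).hom w = 0 := by
    intro w hw
    refine Submodule.smul_induction_on hw (fun j hj w _ => ?_) (fun x y hx hy => ?_)
    · rw [map_smul]
      exact smul_eq_zero_of_smul_id Z j (hZ j hj) n _
    · rw [map_add, hx, hy, add_zero]
  have h3 : mulMap J (Y.X n) t ∈ (J • ⊤ : Submodule A (Y.X n)) := by
    rw [← range_mulMap]
    exact ⟨t, rfl⟩
  rw [h1, h2 _ h3]
  rfl

theorem Q_map_mu_comp_eq_zero (J : Ideal A) (Y : DRing.Cx A) (hY : KFlat (T A) Y)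
    (Z : DRing.Cx A) (hZ : ∀ j ∈ J, j • 𝟙 Z = 0)
    (ξ : DerivedCategory.Q.obj Y ⟶ DerivedCategory.Q.obj Z) :
    DerivedCategory.Q.map (mu J Y) ≫ ξ = 0 := by
  obtain ⟨Y', s, hY', hs⟩ := exists_kprojective_quasiIso Y
  haveI := hY'
  haveI := hs
  haveI : IsIso (DerivedCategory.Q.map s) := (DerivedCategory.isIso_Q_map_iff_quasiIso _ s).2 hs
  obtain ⟨β, hβ⟩ := exists_map_eq Y' Z (DerivedCategory.Q.map s ≫ ξ)
  have hq : QuasiIso (SS (ModuleCat.of A ↥J) ◁ s) :=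
    quasiIso_map₂ (kflat_of_isKProjective Y') hY s (SS (ModuleCat.of A ↥J))
  haveI : IsIso (DerivedCategory.Q.map (SS (ModuleCat.of A ↥J) ◁ s)) :=
    (DerivedCategory.isIso_Q_map_iff_quasiIso _ _).2 hq
  rw [← cancel_epi (DerivedCategory.Q.map (SS (ModuleCat.of A ↥J) ◁ s)), comp_zero,
    ← Category.assoc, ← Functor.map_comp, mu_naturality, Functor.map_comp, Category.assoc, ← hβ,
    ← Functor.map_comp, mu_comp_eq_zero J Y' Z hZ β, Functor.map_zero]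

lemma mu_whiskerRight (J : Ideal A) (G P : DRing.Cx A) :
    mu J G ▷ P = (α_ (SS (ModuleCat.of A ↥J)) G P).hom ≫ mu J (G ⊗ P) := by
  change ((SιI J ▷ G) ≫ (λ_ G).hom) ▷ P =
    (α_ (SS (ModuleCat.of A ↥J)) G P).hom ≫ (SιI J ▷ (G ⊗ P)) ≫ (λ_ (G ⊗ P)).hom
  rw [MonoidalCategory.leftUnitor_tensor_hom, ← MonoidalCategory.associator_naturality_left_assoc,
    Iso.hom_inv_id_assoc, ← MonoidalCategory.comp_whiskerRight]

theorem exists_pow_Q_map_whiskerRight_comp_eq_zero [IsNoetherianRing A] (J : Ideal A)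
    (X₀ : DRing.Cx A) (a b : ℤ)
    (hX : ∀ q : ℤ, q < a ∨ b < q → IsZero (X₀.X q)) (hfin : ∀ q, Module.Finite A (X₀.X q))
    (P : DRing.Cx A) [P.IsKProjective] :
    ∃ k : ℕ, 0 < k ∧ ∀ 𝔠 : Ideal A, 𝔠 ≤ J ^ k → ∀ (Z : DRing.Cx A), (∀ j ∈ J, j • 𝟙 Z = 0) →
      ∀ ξ : DerivedCategory.Q.obj (X₀ ⊗ P) ⟶ DerivedCategory.Q.obj Z,
        DerivedCategory.Q.map (inclS 𝔠 X₀ ▷ P) ≫ ξ = 0 := by
  -- generators of `J`
  obtain ⟨s₀, hs₀⟩ : (J : Submodule A A).FG := IsNoetherian.noetherian J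
  have hl : Ideal.span {x | x ∈ s₀.toList} = J := by
    rw [← hs₀]
    congr 1
    ext x
    simp
  generalize s₀.toList = l at hl
  -- a K-projective resolution of `X₀` with projective terms
  obtain ⟨G, hG, hGproj, ⟨eG⟩⟩ := exists_kprojective_resolution (DerivedCategory.Q.obj X₀)
  haveI := hG
  have hGflat : ∀ i, Module.Flat A (G.X i) := fun i => by
    haveI := hGproj i
    infer_instance
  obtain ⟨r, hr⟩ := exists_map_eq G X₀ eG.hom
  have hrIso : IsIso (DerivedCategory.Q.map r) := by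
    rw [hr]
    infer_instance
  haveI := hrIso
  obtain ⟨k, hk, h⟩ := exists_pow_factor_mu J l hl X₀ a b hX hfin G hGflat r hrIso
  refine ⟨k, hk, fun 𝔠 h𝔠 Z hZ ξ => ?_⟩
  obtain ⟨g₀, hg₀⟩ := h 𝔠 h𝔠
  obtain ⟨G', s, hG', hs⟩ := exists_kprojective_quasiIso (sub 𝔠 X₀)
  haveI := hG'
  haveI := hs
  obtain ⟨γ, hγ⟩ := exists_map_eq G' (SS (ModuleCat.of A ↥J) ⊗ G) (DerivedCategory.Q.map s ≫ g₀)
  have hQ : DerivedCategory.Q.map (γ ≫ mu J G ≫ r) = DerivedCategory.Q.map (s ≫ inclS 𝔠 X₀) := by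
    rw [Functor.map_comp, Functor.map_comp, Functor.map_comp, hγ, Category.assoc,
      ← Category.assoc g₀, hg₀, Category.assoc, IsIso.inv_hom_id, Category.comp_id]
  obtain ⟨H⟩ := nonempty_homotopy_of_map_eq G' X₀ _ _ hQ
  have hQ' : DerivedCategory.Q.map ((γ ≫ mu J G ≫ r) ▷ P) =
      DerivedCategory.Q.map ((s ≫ inclS 𝔠 X₀) ▷ P) := by
    have H' := tensorHomHomotopy H (Homotopy.refl (𝟙 P))
    rw [MonoidalCategory.tensorHom_id, MonoidalCategory.tensorHom_id] at H'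
    exact DerivedCategory.Q_map_eq_of_homotopy _ H'
  haveI : IsIso (DerivedCategory.Q.map (s ▷ P)) :=
    (DerivedCategory.isIso_Q_map_iff_quasiIso _ _).2 inferInstance
  have hGP : KFlat (T A) (G ⊗ P) :=
    kflat_tensor (kflat_of_isKProjective G) (kflat_of_isKProjective P)
  have hzero : DerivedCategory.Q.map (mu J (G ⊗ P)) ≫
      (DerivedCategory.Q.map (r ▷ P) ≫ ξ) = 0 :=
    Q_map_mu_comp_eq_zero J (G ⊗ P) hGP Z hZ _
  rw [← cancel_epi (DerivedCategory.Q.map (s ▷ P)), comp_zero, ← Category.assoc,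
    ← Functor.map_comp, ← MonoidalCategory.comp_whiskerRight, ← hQ',
    MonoidalCategory.comp_whiskerRight, MonoidalCategory.comp_whiskerRight, mu_whiskerRight,
    Functor.map_comp, Functor.map_comp, Functor.map_comp, Category.assoc, Category.assoc,
    Category.assoc, hzero, comp_zero, comp_zero]

end Groth.Agent.Lib.Helper21.RGx
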