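import Mathlib
import Groth.Agent.Lib.Helper21.RGx

/-!
# The pro-isomorphism `P/𝔞^n P ⟶ K/𝔞^n K` for a resolution `P ⟶ K` (helper21)

`exists_pro_inverse`: for a bounded complex `K` of finite modules over a Noetherian ring, a
K-projective resolution `p : P ⟶ K` with flat terms and an ideal `𝔞`, there is `N > 0` such that
for every ideal `𝔠 ≤ 𝔞^N` there is a map `b : Q(A/𝔠 ⊗ K) ⟶ Q(A/𝔞 ⊗ P)` in `D(A)` inverting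
`A/? ⊗ p` up to the transition maps.
-/

set_option autoImplicit false
set_option linter.style.haveILetI false
universe u

open CategoryTheory CategoryTheory.Limits MonoidalCategory HomologicalComplex
open TensorProduct

attribute [local instance] HasDerivedCategory.standard

namespace Groth.Agent.Lib.Helper21.RGy

open Groth.Agent.Lib.Helper21.RGn Groth.Agent.Lib.Helper21.RGs
  Groth.Agent.Lib.Helper21.RGu Groth.Agent.Lib.Helper21.RGv Groth.Agent.Lib.Helper21.RGw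
  Groth.Agent.Lib.Helper21.RGx
open Groth.Agent.Lib.Helper18 Groth.Agent.Lib.Helper18.DR

section Skeleton

open Pretriangulated

variable {C : Type*} [Category C] [Preadditive C] [HasZeroObject C] [HasShift C ℤ]
  [∀ n : ℤ, (shiftFunctor C n).Additive] [Pretriangulated C]

lemma skeleton
    {Pb Kb : C} (pb : Pb ⟶ Kb) (v : Kb ⟶ Pb) (hpv : pb ≫ v = 𝟙 Pb) (hvp : v ≫ pb = 𝟙 Kb)
    {Un Xn Yn : C} (un : Un ⟶ Pb) (πn : Pb ⟶ Xn) (δn : Xn ⟶ Un⟦(1 : ℤ)⟧)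
    (hTPn : Triangle.mk un πn δn ∈ distTriang C)
    (ϖn : Kb ⟶ Yn) (an : Xn ⟶ Yn) (han : πn ≫ an = pb ≫ ϖn)
    {Um Xm Vm Ym : C} (um : Um ⟶ Pb) (πm : Pb ⟶ Xm) (δm : Xm ⟶ Um⟦(1 : ℤ)⟧)
    (hTPm : Triangle.mk um πm δm ∈ distTriang C)
    (vm : Vm ⟶ Kb) (ϖm : Kb ⟶ Ym) (dm : Ym ⟶ Vm⟦(1 : ℤ)⟧)
    (hTKm : Triangle.mk vm ϖm dm ∈ distTriang C)
    (am : Xm ⟶ Ym) (ham : πm ≫ am = pb ≫ ϖm)
    (τX : Xm ⟶ Xn) (τY : Ym ⟶ Yn) (hτX : πm ≫ τX = πn) (hτY : ϖm ≫ τY = ϖn)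
    (g : Vm ⟶ Un) (hg : g ≫ un = vm ≫ v)
    {Xc Yc Uc Vc : C} (ac : Xc ⟶ Yc) (σX : Xc ⟶ Xm) (σY : Yc ⟶ Ym)
    (hσ : σX ≫ am = ac ≫ σY)
    (δc : Xc ⟶ Uc⟦(1 : ℤ)⟧) (dc : Yc ⟶ Vc⟦(1 : ℤ)⟧) (κP : Uc ⟶ Um) (κK : Vc ⟶ Vm)
    (hδ : σX ≫ δm = δc ≫ κP⟦(1 : ℤ)⟧') (hd : σY ≫ dm = dc ≫ κK⟦(1 : ℤ)⟧')
    (hκP : ∀ e : Um⟦(1 : ℤ)⟧ ⟶ Xn, κP⟦(1 : ℤ)⟧' ≫ e = 0)
    (hκK : ∀ e : Vm⟦(1 : ℤ)⟧ ⟶ Yn, κK⟦(1 : ℤ)⟧' ≫ e = 0) :
    ∃ b : Yc ⟶ Xn, ac ≫ b = σX ≫ τX ∧ b ≫ an = σY ≫ τY := by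
  obtain ⟨b₀, hb₀, -⟩ : ∃ b₀ : Ym ⟶ Xn, ϖm ≫ b₀ = v ≫ πn ∧
      dm ≫ g⟦(1 : ℤ)⟧' = b₀ ≫ δn :=
    complete_distinguished_triangle_morphism _ _ hTKm hTPn g v hg.symm
  have hD : ϖm ≫ (b₀ ≫ an - τY) = 0 := by
    rw [Preadditive.comp_sub, ← Category.assoc, hb₀, Category.assoc, han, ← Category.assoc v,
      hvp, Category.id_comp, hτY, sub_self]
  obtain ⟨e, he⟩ : ∃ e : Vm⟦(1 : ℤ)⟧ ⟶ Yn, b₀ ≫ an - τY = dm ≫ e :=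
    Triangle.yoneda_exact₃ _ hTKm (b₀ ≫ an - τY) hD
  have hD' : πm ≫ (am ≫ b₀ - τX) = 0 := by
    rw [Preadditive.comp_sub, ← Category.assoc, ham, Category.assoc, hb₀, ← Category.assoc pb,
      hpv, Category.id_comp, hτX, sub_self]
  obtain ⟨e', he'⟩ : ∃ e' : Um⟦(1 : ℤ)⟧ ⟶ Xn, am ≫ b₀ - τX = δm ≫ e' :=
    Triangle.yoneda_exact₃ _ hTPm (am ≫ b₀ - τX) hD'
  refine ⟨σY ≫ b₀, ?_, ?_⟩
  · have h1 : am ≫ b₀ = τX + δm ≫ e' := by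
      rw [← he']
      abel
    rw [← Category.assoc, ← hσ, Category.assoc, h1, Preadditive.comp_add, ← Category.assoc σX δm,
      hδ, Category.assoc, hκP, comp_zero, add_zero]
  · have h1 : b₀ ≫ an = τY + dm ≫ e := by
      rw [← he]
      abel
    rw [Category.assoc, h1, Preadditive.comp_add, ← Category.assoc σY dm, hd, Category.assoc,
      hκK, comp_zero, add_zero]

/-- killing after a shift: reduce to killing before the shift -/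
lemma shift_map_comp_eq_zero {U' U X : C} (κ : U' ⟶ U)
    (h : ∀ e : U ⟶ X⟦(-1 : ℤ)⟧, κ ≫ e = 0) (e : U⟦(1 : ℤ)⟧ ⟶ X) : κ⟦(1 : ℤ)⟧' ≫ e = 0 := by
  have adj := (shiftEquiv C (1 : ℤ)).toAdjunction
  apply (adj.homEquiv U' X).injective
  have h1 : adj.homEquiv U' X ((shiftEquiv C (1 : ℤ)).functor.map κ ≫ e) =
      κ ≫ adj.homEquiv U X e := adj.homEquiv_naturality_left κ e
  have h2 : adj.homEquiv U' X 0 = 0 := by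
    rw [Adjunction.homEquiv_unit, Functor.map_zero, comp_zero]
  exact (h1.trans (h _)).trans h2.symm

end Skeleton

variable {A : Type u} [CommRing A]

lemma smul_id_shift (W : DRing.Cx A) (j : A) (h : j • 𝟙 W = 0) (s : ℤ) :
    j • 𝟙 (W⟦s⟧) = 0 := by
  have h1 : j • 𝟙 (W⟦s⟧) = (shiftFunctor (DRing.Cx A) s).map (j • 𝟙 W) := by
    rw [Functor.map_smul, CategoryTheory.Functor.map_id]
  rw [h1, h, Functor.map_zero]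

lemma smul_id_Q_obj (W : DRing.Cx A) (j : A) (h : j • 𝟙 W = 0) :
    j • 𝟙 (DerivedCategory.Q.obj W) = 0 := by
  rw [← CategoryTheory.Functor.map_id, ← Functor.map_smul, h, Functor.map_zero]

lemma smul_id_shift_D (T : DerivedCategory (ModuleCat.{u} A)) (j : A) (h : j • 𝟙 T = 0) (s : ℤ) :
    j • 𝟙 (T⟦s⟧) = 0 := by
  have h1 : j • 𝟙 (T⟦s⟧) =
      (shiftFunctor (DerivedCategory (ModuleCat.{u} A)) s).map (j • 𝟙 T) := by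
    rw [Functor.map_smul, CategoryTheory.Functor.map_id]
  rw [h1, h, Functor.map_zero]

lemma mem_smul_top_of_mem_mul (𝔞 𝔟 : Ideal A) (y : ↥𝔟) (hy : (y : A) ∈ 𝔞 * 𝔟) :
    y ∈ (𝔞 • ⊤ : Submodule A ↥𝔟) := by
  have h2 : (𝔞 * 𝔟 : Ideal A) = Submodule.map (Submodule.subtype 𝔟) (𝔞 • ⊤) := by
    rw [Submodule.map_smul'', Submodule.map_subtype_top]
    rfl
  rw [h2] at hy
  obtain ⟨v, hv, hvy⟩ := hy
  have h3 : v = y := Subtype.ext hvy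
  rw [← h3]
  exact hv

/-- `𝔠[0] ⟶ 𝔞 (𝔟[0])` for `𝔠 ≤ 𝔞 𝔟` -/
noncomputable def theta {𝔞 𝔟 𝔠 : Ideal A} (h : 𝔠 ≤ 𝔞 * 𝔟) :
    SS (ModuleCat.of A ↥𝔠) ⟶ sub 𝔞 (SS (ModuleCat.of A ↥𝔟)) :=
  subLift 𝔞 (Sf.map (ii (h.trans (Ideal.mul_le_right : 𝔞 * 𝔟 ≤ 𝔟)))) (by
    intro i x
    by_cases hi : i = 0
    · subst hi
      have h1 : ((Sf.map (ii (h.trans (Ideal.mul_le_right : 𝔞 * 𝔟 ≤ 𝔟)))).f 0).hom x =
          ((singleObjXSelf (ComplexShape.up ℤ) 0 (ModuleCat.of A ↥𝔟)).inv).hom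
            ((ii (h.trans (Ideal.mul_le_right : 𝔞 * 𝔟 ≤ 𝔟))).hom
              (((singleObjXSelf (ComplexShape.up ℤ) 0 (ModuleCat.of A ↥𝔠)).hom).hom x)) := by
        have h0 := HomologicalComplex.single_map_f_self (ComplexShape.up ℤ) (0 : ℤ)
          (ii (h.trans (Ideal.mul_le_right : 𝔞 * 𝔟 ≤ 𝔟)))
        exact congrArg (fun f => f.hom x) h0
      rw [h1]
      apply map_mem_smul_top
      apply mem_smul_top_of_mem_mul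
      exact h (((singleObjXSelf (ComplexShape.up ℤ) 0 (ModuleCat.of A ↥𝔠)).hom).hom x).2
    · haveI : Subsingleton ((SS (ModuleCat.of A ↥𝔟)).X i) :=
        ModuleCat.subsingleton_of_isZero
          (HomologicalComplex.isZero_single_obj_X (ComplexShape.up ℤ) (0 : ℤ) _ i hi)
      rw [Subsingleton.elim (((Sf.map (ii (h.trans (Ideal.mul_le_right : 𝔞 * 𝔟 ≤ 𝔟)))).f i).hom x) 0]
      exact Submodule.zero_mem _)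

lemma theta_comp_inclS {𝔞 𝔟 𝔠 : Ideal A} (h : 𝔠 ≤ 𝔞 * 𝔟) :
    theta h ≫ inclS 𝔞 (SS (ModuleCat.of A ↥𝔟)) =
      Sf.map (ii (h.trans (Ideal.mul_le_right : 𝔞 * 𝔟 ≤ 𝔟))) :=
  subLift_comp_inclS _ _ _

lemma tq_comp {𝔠 𝔟 𝔞 : Ideal A} (h₁ : 𝔠 ≤ 𝔟) (h₂ : 𝔟 ≤ 𝔞) :
    tq h₁ ≫ tq h₂ = tq (h₁.trans h₂) := by
  apply ModuleCat.hom_ext
  apply Submodule.linearMap_qext
  apply LinearMap.ext
  intro x
  rfl

theorem exists_pro_inverse [IsNoetherianRing A] (K : DRing.Cx A) (a b : ℤ)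
    (hK : ∀ q : ℤ, q < a ∨ b < q → IsZero (K.X q)) (hKf : ∀ i, Module.Finite A (K.X i))
    (P : DRing.Cx A) [P.IsKProjective] (hPflat : ∀ i, Module.Flat A (P.X i))
    (p : P ⟶ K) (hp : IsIso (DerivedCategory.Q.map p)) (𝔞 : Ideal A) :
    ∃ N : ℕ, 0 < N ∧ ∀ (𝔠 : Ideal A) (_ : 𝔠 ≤ 𝔞 ^ N) (h𝔠𝔞 : 𝔠 ≤ 𝔞),
      ∃ bb : DerivedCategory.Q.obj (SS (Lq 𝔠) ⊗ K) ⟶ DerivedCategory.Q.obj (SS (Lq 𝔞) ⊗ P),
        DerivedCategory.Q.map (SS (Lq 𝔠) ◁ p) ≫ bb =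
          DerivedCategory.Q.map (Sf.map (tq h𝔠𝔞) ▷ P) ∧
        bb ≫ DerivedCategory.Q.map (SS (Lq 𝔞) ◁ p) =
          DerivedCategory.Q.map (Sf.map (tq h𝔠𝔞) ▷ K) := by
  haveI := hp
  -- generators of `𝔞`
  obtain ⟨s₀, hs₀⟩ : (𝔞 : Submodule A A).FG := IsNoetherian.noetherian 𝔞
  have hl : Ideal.span {x | x ∈ s₀.toList} = 𝔞 := by
    rw [← hs₀]
    congr 1
    ext x
    simp
  generalize s₀.toList = l at hl
  -- (H1)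
  obtain ⟨k₁, hk₁, H1⟩ := exists_pow_factor_mu 𝔞 l hl K a b hK hKf P hPflat p hp
  obtain ⟨g, hg⟩ := H1 (𝔞 ^ k₁) le_rfl
  have h𝔟𝔞 : 𝔞 ^ k₁ ≤ 𝔞 := Ideal.pow_le_self (Nat.pos_iff_ne_zero.1 hk₁)
  -- K-side nullity
  obtain ⟨k₂, hk₂, H2⟩ := exists_pow_Q_map_inclS_comp_eq_zero 𝔞 l hl (sub (𝔞 ^ k₁) K) a b
    (fun q hq => isZero_sub_X _ K q (hK q hq)) (fun q => finite_sub_X _ K q (hKf q))
  -- P-side nullity
  obtain ⟨k₃, hk₃, H3⟩ := exists_pow_Q_map_whiskerRight_comp_eq_zero 𝔞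
    (SS (ModuleCat.of A ↥(𝔞 ^ k₁))) 0 0
    (fun i hi => HomologicalComplex.isZero_single_obj_X _ _ _ _ (by omega))
    (finite_single_X ↥(𝔞 ^ k₁)) P
  refine ⟨k₂ + k₃ + k₁, by omega, fun 𝔠 h𝔠 h𝔠𝔞 => ?_⟩
  have hc2 : 𝔠 ≤ 𝔞 ^ k₂ * 𝔞 ^ k₁ := by
    refine h𝔠.trans ?_
    rw [← pow_add]
    exact Ideal.pow_le_pow_right (by omega)
  have hc3 : 𝔠 ≤ 𝔞 ^ k₃ * 𝔞 ^ k₁ := by
    refine h𝔠.trans ?_
    rw [← pow_add]
    exact Ideal.pow_le_pow_right (by omega)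
  have h𝔠𝔟 : 𝔠 ≤ 𝔞 ^ k₁ := hc2.trans Ideal.mul_le_right
  have hSP𝔞 := sesP_shortExact 𝔞 P hPflat
  have hSP𝔟 := sesP_shortExact (𝔞 ^ k₁) P hPflat
  have hSP𝔠 := sesP_shortExact 𝔠 P hPflat
  have hSK𝔟 := sesK_shortExact (𝔞 ^ k₁) K
  have hSK𝔠 := sesK_shortExact 𝔠 K
  have hκP : ∀ e : (DerivedCategory.Q.obj (SS (ModuleCat.of A ↥(𝔞 ^ k₁)) ⊗ P))⟦(1 : ℤ)⟧ ⟶
      DerivedCategory.Q.obj (SS (Lq 𝔞) ⊗ P),
      (DerivedCategory.Q.map (Sf.map (ii h𝔠𝔟) ▷ P))⟦(1 : ℤ)⟧' ≫ e = 0 := by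
    intro e
    apply shift_map_comp_eq_zero
    intro e₁
    have hZ : ∀ j ∈ 𝔞, j • 𝟙 ((SS (Lq 𝔞) ⊗ P)⟦(-1 : ℤ)⟧) = 0 := fun j hj =>
      smul_id_shift _ j (smul_id_tensor_quot 𝔞 P j hj) (-1)
    have h0 := H3 (𝔞 ^ k₃) le_rfl _ hZ
      (e₁ ≫ ((DerivedCategory.Q.commShiftIso (-1 : ℤ)).app (SS (Lq 𝔞) ⊗ P)).inv)
    have h1 : Sf.map (ii h𝔠𝔟) ▷ P =
        (theta hc3 ▷ P) ≫ (inclS (𝔞 ^ k₃) (SS (ModuleCat.of A ↥(𝔞 ^ k₁))) ▷ P) := by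
      rw [← MonoidalCategory.comp_whiskerRight, theta_comp_inclS]
    rw [← cancel_mono ((DerivedCategory.Q.commShiftIso (-1 : ℤ)).app (SS (Lq 𝔞) ⊗ P)).inv,
      zero_comp, Category.assoc, h1, Functor.map_comp, Category.assoc, h0, comp_zero]
  have hκK : ∀ e : (DerivedCategory.Q.obj (sub (𝔞 ^ k₁) K))⟦(1 : ℤ)⟧ ⟶
      DerivedCategory.Q.obj (SS (Lq 𝔞) ⊗ K),
      (DerivedCategory.Q.map (subIncl h𝔠𝔟 K))⟦(1 : ℤ)⟧' ≫ e = 0 := by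
    intro e
    apply shift_map_comp_eq_zero
    intro e₁
    have hT : ∀ j ∈ 𝔞, j • 𝟙 ((DerivedCategory.Q.obj (SS (Lq 𝔞) ⊗ K))⟦(-1 : ℤ)⟧) = 0 :=
      fun j hj => smul_id_shift_D _ j (smul_id_Q_obj _ j (smul_id_tensor_quot 𝔞 K j hj)) (-1)
    have h0 := H2 (𝔞 ^ k₂) le_rfl _ hT e₁
    have h1 : subIncl h𝔠𝔟 K = subNest hc2 K ≫ inclS (𝔞 ^ k₂) (sub (𝔞 ^ k₁) K) := by
      rw [subNest_comp_inclS]
    rw [h1, Functor.map_comp, Category.assoc, h0, comp_zero]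
  have key := skeleton (C := DerivedCategory (ModuleCat.{u} A))
    (DerivedCategory.Q.map p) (inv (DerivedCategory.Q.map p))
    (IsIso.hom_inv_id _) (IsIso.inv_hom_id _)
    (DerivedCategory.Q.map (mu 𝔞 P)) (DerivedCategory.Q.map (proj 𝔞 P))
    (DerivedCategory.triangleOfSESδ hSP𝔞) (DerivedCategory.triangleOfSES_distinguished hSP𝔞)
    (DerivedCategory.Q.map (proj 𝔞 K)) (DerivedCategory.Q.map (SS (Lq 𝔞) ◁ p))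
    (by rw [← Functor.map_comp, ← Functor.map_comp, proj_naturality])
    (DerivedCategory.Q.map (mu (𝔞 ^ k₁) P)) (DerivedCategory.Q.map (proj (𝔞 ^ k₁) P))
    (DerivedCategory.triangleOfSESδ hSP𝔟) (DerivedCategory.triangleOfSES_distinguished hSP𝔟)
    (DerivedCategory.Q.map (inclS (𝔞 ^ k₁) K)) (DerivedCategory.Q.map (proj (𝔞 ^ k₁) K))
    (DerivedCategory.triangleOfSESδ hSK𝔟) (DerivedCategory.triangleOfSES_distinguished hSK𝔟)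
    (DerivedCategory.Q.map (SS (Lq (𝔞 ^ k₁)) ◁ p))
    (by rw [← Functor.map_comp, ← Functor.map_comp, proj_naturality])
    (DerivedCategory.Q.map (Sf.map (tq h𝔟𝔞) ▷ P)) (DerivedCategory.Q.map (Sf.map (tq h𝔟𝔞) ▷ K))
    (by rw [← Functor.map_comp, proj_tq]) (by rw [← Functor.map_comp, proj_tq])
    g hg
    (DerivedCategory.Q.map (SS (Lq 𝔠) ◁ p))
    (DerivedCategory.Q.map (Sf.map (tq h𝔠𝔟) ▷ P)) (DerivedCategory.Q.map (Sf.map (tq h𝔠𝔟) ▷ K))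
    (by rw [← Functor.map_comp, ← Functor.map_comp, MonoidalCategory.whisker_exchange])
    (DerivedCategory.triangleOfSESδ hSP𝔠) (DerivedCategory.triangleOfSESδ hSK𝔠)
    (DerivedCategory.Q.map (Sf.map (ii h𝔠𝔟) ▷ P)) (DerivedCategory.Q.map (subIncl h𝔠𝔟 K))
    (DerivedCategory.triangleOfSESδ_naturality hSP𝔠 hSP𝔟 (sesPMap h𝔠𝔟 P)).symm
    (DerivedCategory.triangleOfSESδ_naturality hSK𝔠 hSK𝔟 (sesKMap h𝔠𝔟 K)).symm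
    hκP hκK
  obtain ⟨bb, hb1, hb2⟩ := key
  refine ⟨bb, ?_, ?_⟩
  · rw [hb1, ← Functor.map_comp, ← MonoidalCategory.comp_whiskerRight, ← Functor.map_comp,
      tq_comp]
  · rw [hb2, ← Functor.map_comp, ← MonoidalCategory.comp_whiskerRight, ← Functor.map_comp,
      tq_comp]

end Groth.Agent.Lib.Helper21.RGy
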