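import Mathlib
import Groth.Agent.Lib.Helper21.RGy
import Groth.Prelude.Def_ega3
import Groth.Prelude.Def_DerCA

/-!
# `K ⊗^L A/I^{n+1} ⟶ K/I^{n+1}K` is a pro-isomorphism (helper21)

Translation of `RGy.exists_pro_inverse` to the derived tensor product `DTen.LTen₂` and to the
adic system of the prelude.
-/

set_option autoImplicit false
set_option linter.style.haveILetI false
universe u

open CategoryTheory CategoryTheory.Limits MonoidalCategory HomologicalComplex Opposite
open TensorProduct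

attribute [local instance] HasDerivedCategory.standard

namespace Groth.Agent.Lib.Helper21.RGz

open Groth.Agent.Lib.Helper21.RGn Groth.Agent.Lib.Helper21.RGs
  Groth.Agent.Lib.Helper21.RGu Groth.Agent.Lib.Helper21.RGv Groth.Agent.Lib.Helper21.RGw
  Groth.Agent.Lib.Helper21.RGx Groth.Agent.Lib.Helper21.RGy
open Groth.Agent.Lib.Helper18 Groth.Agent.Lib.Helper18.DR
open DTen

variable {A : Type u} [CommRing A]

section eps

variable [HasLTen A]

lemma eps_nat_left {P K : DRing.Cx A} (p : P ⟶ K) (L : DRing.Cx A) :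
    (LTen₂ A).map (Prod.mkHom (DerivedCategory.Q.map p) (𝟙 (DerivedCategory.Q.obj L))) ≫
      (ε A).app (K, L) = (ε A).app (P, L) ≫ DerivedCategory.Q.map (p ▷ L) := by
  have h := (ε A).naturality (Prod.mkHom p (𝟙 L) : (P, L) ⟶ (K, L))
  have hc : (tensor₂ A).map (Prod.mkHom p (𝟙 L) : (P, L) ⟶ (K, L)) =
      DerivedCategory.Q.map (p ▷ L) := by
    change DerivedCategory.Q.map ((p ▷ L) ≫ (K ◁ 𝟙 L)) = _
    rw [MonoidalCategory.whiskerLeft_id, Category.comp_id]
  have hq : (QQ A).map (Prod.mkHom p (𝟙 L) : (P, L) ⟶ (K, L)) =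
      Prod.mkHom (DerivedCategory.Q.map p) (𝟙 (DerivedCategory.Q.obj L)) := by
    apply Prod.hom_ext
    · rfl
    · exact DerivedCategory.Q.map_id L
  rw [← hc, ← hq]
  exact h

lemma eps_nat_right (P : DRing.Cx A) {L L' : DRing.Cx A} (t : L ⟶ L') :
    (LTen₂ A).map (Prod.mkHom (𝟙 (DerivedCategory.Q.obj P)) (DerivedCategory.Q.map t)) ≫
      (ε A).app (P, L') = (ε A).app (P, L) ≫ DerivedCategory.Q.map (P ◁ t) := by
  have h := (ε A).naturality (Prod.mkHom (𝟙 P) t : (P, L) ⟶ (P, L'))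
  have hc : (tensor₂ A).map (Prod.mkHom (𝟙 P) t : (P, L) ⟶ (P, L')) =
      DerivedCategory.Q.map (P ◁ t) := by
    change DerivedCategory.Q.map ((𝟙 P ▷ L) ≫ (P ◁ t)) = _
    rw [MonoidalCategory.id_whiskerRight, Category.id_comp]
  have hq : (QQ A).map (Prod.mkHom (𝟙 P) t : (P, L) ⟶ (P, L')) =
      Prod.mkHom (𝟙 (DerivedCategory.Q.obj P)) (DerivedCategory.Q.map t) := by
    apply Prod.hom_ext
    · exact DerivedCategory.Q.map_id P
    · rfl
  rw [← hc, ← hq]
  exact h

end eps

lemma braid_nat_left {P K : DRing.Cx A} (p : P ⟶ K) (L : DRing.Cx A) :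
    (p ▷ L) ≫ (braidCx K L).hom = (braidCx P L).hom ≫ (L ◁ p) := by
  have h := braidCx_naturality p (𝟙 L)
  rw [MonoidalCategory.tensorHom_id, MonoidalCategory.id_tensorHom] at h
  exact h

lemma braid_nat_right (W : DRing.Cx A) {L L' : DRing.Cx A} (t : L ⟶ L') :
    (W ◁ t) ≫ (braidCx W L').hom = (braidCx W L).hom ≫ (t ▷ W) := by
  have h := braidCx_naturality (𝟙 W) t
  rw [MonoidalCategory.tensorHom_id, MonoidalCategory.id_tensorHom] at h
  exact h

theorem transl [HasLTen A] (K P : DRing.Cx A) [P.IsKProjective] (p : P ⟶ K)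
    (hp : IsIso (DerivedCategory.Q.map p)) {Lc La : DRing.Cx A} (t : Lc ⟶ La)
    (bb : DerivedCategory.Q.obj (Lc ⊗ K) ⟶ DerivedCategory.Q.obj (La ⊗ P))
    (hb1 : DerivedCategory.Q.map (Lc ◁ p) ≫ bb = DerivedCategory.Q.map (t ▷ P))
    (hb2 : bb ≫ DerivedCategory.Q.map (La ◁ p) = DerivedCategory.Q.map (t ▷ K)) :
    ∃ b : DerivedCategory.Q.obj (K ⊗ Lc) ⟶
        (LTen₂ A).obj (DerivedCategory.Q.obj K, DerivedCategory.Q.obj La),
      (ε A).app (K, Lc) ≫ b =
        (LTen₂ A).map (Prod.mkHom (𝟙 (DerivedCategory.Q.obj K)) (DerivedCategory.Q.map t)) ∧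
      b ≫ (ε A).app (K, La) = DerivedCategory.Q.map (K ◁ t) := by
  haveI := hp
  haveI hεa := DTenB.isIso_ε_app_left P La
  haveI hφa : IsIso ((LTen₂ A).map (Prod.mkHom (DerivedCategory.Q.map p)
      (𝟙 (DerivedCategory.Q.obj La)))) := by
    haveI : IsIso (Prod.mkHom (DerivedCategory.Q.map p) (𝟙 (DerivedCategory.Q.obj La))) :=
      (isIso_prod_iff _ _).2 ⟨inferInstance, inferInstance⟩
    infer_instance
  haveI hφc : IsIso ((LTen₂ A).map (Prod.mkHom (DerivedCategory.Q.map p)
      (𝟙 (DerivedCategory.Q.obj Lc)))) := by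
    haveI : IsIso (Prod.mkHom (DerivedCategory.Q.map p) (𝟙 (DerivedCategory.Q.obj Lc))) :=
      (isIso_prod_iff _ _).2 ⟨inferInstance, inferInstance⟩
    infer_instance
  refine ⟨DerivedCategory.Q.map (braidCx K Lc).hom ≫ bb ≫
    DerivedCategory.Q.map (braidCx P La).inv ≫ inv ((ε A).app (P, La)) ≫
      (LTen₂ A).map (Prod.mkHom (DerivedCategory.Q.map p) (𝟙 (DerivedCategory.Q.obj La))), ?_, ?_⟩
  · -- first identity
    rw [← cancel_epi ((LTen₂ A).map (Prod.mkHom (DerivedCategory.Q.map p)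
      (𝟙 (DerivedCategory.Q.obj Lc))))]
    have e1 : (t ▷ P) ≫ (braidCx P La).inv = (braidCx P Lc).inv ≫ (P ◁ t) := by
      rw [Iso.comp_inv_eq, Category.assoc, braid_nat_right, Iso.inv_hom_id_assoc]
    have lhs : (LTen₂ A).map (Prod.mkHom (DerivedCategory.Q.map p)
        (𝟙 (DerivedCategory.Q.obj Lc))) ≫ (ε A).app (K, Lc) ≫
        DerivedCategory.Q.map (braidCx K Lc).hom ≫ bb ≫
        DerivedCategory.Q.map (braidCx P La).inv ≫ inv ((ε A).app (P, La)) ≫
        (LTen₂ A).map (Prod.mkHom (DerivedCategory.Q.map p) (𝟙 (DerivedCategory.Q.obj La))) =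
        (LTen₂ A).map (Prod.mkHom (𝟙 (DerivedCategory.Q.obj P)) (DerivedCategory.Q.map t)) ≫
        (LTen₂ A).map (Prod.mkHom (DerivedCategory.Q.map p)
          (𝟙 (DerivedCategory.Q.obj La))) := by
      calc _ = (ε A).app (P, Lc) ≫ DerivedCategory.Q.map ((p ▷ Lc) ≫ (braidCx K Lc).hom) ≫ bb ≫
            DerivedCategory.Q.map (braidCx P La).inv ≫ inv ((ε A).app (P, La)) ≫
            (LTen₂ A).map (Prod.mkHom (DerivedCategory.Q.map p)
              (𝟙 (DerivedCategory.Q.obj La))) := by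
            rw [← Category.assoc, eps_nat_left, Functor.map_comp, Category.assoc, Category.assoc]
        _ = (ε A).app (P, Lc) ≫ DerivedCategory.Q.map (braidCx P Lc).hom ≫
            (DerivedCategory.Q.map (Lc ◁ p) ≫ bb) ≫
            DerivedCategory.Q.map (braidCx P La).inv ≫ inv ((ε A).app (P, La)) ≫
            (LTen₂ A).map (Prod.mkHom (DerivedCategory.Q.map p)
              (𝟙 (DerivedCategory.Q.obj La))) := by
            rw [braid_nat_left, Functor.map_comp, Category.assoc, Category.assoc]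
        _ = (ε A).app (P, Lc) ≫ DerivedCategory.Q.map (braidCx P Lc).hom ≫
            DerivedCategory.Q.map ((t ▷ P) ≫ (braidCx P La).inv) ≫ inv ((ε A).app (P, La)) ≫
            (LTen₂ A).map (Prod.mkHom (DerivedCategory.Q.map p)
              (𝟙 (DerivedCategory.Q.obj La))) := by
            rw [hb1, Functor.map_comp, Category.assoc]
        _ = ((ε A).app (P, Lc) ≫ DerivedCategory.Q.map (P ◁ t)) ≫ inv ((ε A).app (P, La)) ≫
            (LTen₂ A).map (Prod.mkHom (DerivedCategory.Q.map p)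
              (𝟙 (DerivedCategory.Q.obj La))) := by
            rw [e1, ← Category.assoc (DerivedCategory.Q.map (braidCx P Lc).hom),
              ← Functor.map_comp, Iso.hom_inv_id_assoc, Category.assoc]
        _ = _ := by
            rw [← eps_nat_right, Category.assoc, IsIso.hom_inv_id_assoc]
    rw [lhs, ← Functor.map_comp, ← Functor.map_comp]
    congr 1
  · -- second identity
    have e2 : (braidCx P La).inv ≫ (p ▷ La) = (La ◁ p) ≫ (braidCx K La).inv := by
      rw [Iso.inv_comp_eq, ← Category.assoc, Iso.eq_comp_inv, braid_nat_left]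
    have e3 : (braidCx K Lc).hom ≫ (t ▷ K) ≫ (braidCx K La).inv = K ◁ t := by
      rw [← Category.assoc, ← braid_nat_right, Category.assoc, Iso.hom_inv_id, Category.comp_id]
    calc _ = DerivedCategory.Q.map (braidCx K Lc).hom ≫ bb ≫
          DerivedCategory.Q.map (braidCx P La).inv ≫ inv ((ε A).app (P, La)) ≫
          ((LTen₂ A).map (Prod.mkHom (DerivedCategory.Q.map p)
            (𝟙 (DerivedCategory.Q.obj La))) ≫ (ε A).app (K, La)) := by
          simp only [Category.assoc]
      _ = DerivedCategory.Q.map (braidCx K Lc).hom ≫ bb ≫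
          DerivedCategory.Q.map ((braidCx P La).inv ≫ (p ▷ La)) := by
          rw [eps_nat_left, IsIso.inv_hom_id_assoc, Functor.map_comp]
      _ = DerivedCategory.Q.map (braidCx K Lc).hom ≫ (bb ≫ DerivedCategory.Q.map (La ◁ p)) ≫
          DerivedCategory.Q.map (braidCx K La).inv := by
          rw [e2, Functor.map_comp, Category.assoc]
      _ = DerivedCategory.Q.map ((braidCx K Lc).hom ≫ (t ▷ K) ≫ (braidCx K La).inv) := by
          rw [hb2, Functor.map_comp, Functor.map_comp]
      _ = _ := by rw [e3]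

/-! ### the adic system -/

lemma adic_le (I : Ideal A) {n m : ℕ} (h : n ≤ m) :
    (I ^ (m + 1) • (⊤ : Submodule A A) : Ideal A) ≤ I ^ (n + 1) • (⊤ : Submodule A A) :=
  Submodule.smul_mono_left (Ideal.pow_le_pow_right (Nat.succ_le_succ h))

lemma tq_refl (𝔟 : Ideal A) : tq (le_refl 𝔟) = 𝟙 (Lq 𝔟) := by
  apply ModuleCat.hom_ext
  apply Submodule.linearMap_qext
  apply LinearMap.ext
  intro x
  rfl

lemma adic_map (I : Ideal A) (n : ℕ) : ∀ (m : ℕ) (h : n ≤ m),
    (CohIII.adicSystem I (ModuleCat.of A A)).map (homOfLE h).op = tq (adic_le I h) := by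
  intro m h
  induction m, h using Nat.le_induction with
  | base =>
    have h0 : (homOfLE (le_refl n)).op = 𝟙 (op n) := Subsingleton.elim _ _
    rw [h0, CategoryTheory.Functor.map_id]
    exact (tq_refl _).symm
  | succ m h ih =>
    have h0 : (homOfLE (Nat.le_succ_of_le h)).op =
        (homOfLE (Nat.le_add_right m 1)).op ≫ (homOfLE h).op := Subsingleton.elim _ _
    have h1 : (CohIII.adicSystem I (ModuleCat.of A A)).map (homOfLE (Nat.le_add_right m 1)).op =
        tq (adic_le I (Nat.le_add_right m 1)) := by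
      unfold CohIII.adicSystem
      rw [Functor.ofOpSequence_map_homOfLE_succ]
    rw [h0, Functor.map_comp, ih, h1]
    exact tq_comp _ _

theorem isProIso_adic [IsNoetherianRing A] [HasLTen A] (I : Ideal A) (K : DRing.Cx A) (a b : ℤ)
    (hK : ∀ q : ℤ, q < a ∨ b < q → IsZero (K.X q)) (hKf : ∀ i, Module.Finite A (K.X i)) :
    DerCA.IsProIso (Functor.whiskerLeft
      (CohIII.adicSystem I (ModuleCat.of A A) ⋙
        HomologicalComplex.single (ModuleCat.{u} A) (ComplexShape.up ℤ) 0)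
      (DTen.εLeft A K)) := by
  obtain ⟨P, hP, hPproj, ⟨eP⟩⟩ := exists_kprojective_resolution (DerivedCategory.Q.obj K)
  haveI := hP
  have hPflat : ∀ i, Module.Flat A (P.X i) := fun i => by
    haveI := hPproj i
    infer_instance
  obtain ⟨p, hp⟩ := exists_map_eq P K eP.hom
  have hpIso : IsIso (DerivedCategory.Q.map p) := by
    rw [hp]
    infer_instance
  intro n
  obtain ⟨N, hN, H⟩ := exists_pro_inverse K a b hK hKf P hPflat p hpIso
    (I ^ (n + 1) • (⊤ : Submodule A A) : Ideal A)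
  have hmn : n ≤ (n + 1) * N + n := Nat.le_add_left n _
  have hle : (I ^ ((n + 1) * N + n + 1) • (⊤ : Submodule A A) : Ideal A) ≤
      (I ^ (n + 1) • (⊤ : Submodule A A) : Ideal A) ^ N := by
    have h1 : ∀ k : ℕ, (I ^ k • (⊤ : Submodule A A) : Ideal A) = I ^ k := fun k => by
      rw [smul_eq_mul, Ideal.mul_top]
    rw [h1, h1, ← pow_mul]
    exact Ideal.pow_le_pow_right (by omega)
  obtain ⟨bb, hb1, hb2⟩ := H _ hle (adic_le I hmn)
  obtain ⟨b', hb'1, hb'2⟩ := transl K P p hpIso (Sf.map (tq (adic_le I hmn))) bb hb1 hb2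
  rw [← adic_map I n _ hmn] at hb'1 hb'2
  exact ⟨(n + 1) * N + n, hmn, b', hb'1, hb'2⟩

end Groth.Agent.Lib.Helper21.RGz
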