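import Mathlib
import Groth.Agent.Lib.Helper18.MixRes
import Groth.Agent.Lib.Helper18.DRTorB
import Groth.Agent.Lib.Helper18.LTCxB
import Groth.Agent.Lib.Helper18.DTenB
import Groth.Agent.Lib.Helper18.DCAdicA
import Groth.Agent.Lib.Helper21.DRingTorGE
import Groth.Agent.Lib.Helper2.Tot.DRingSymm

/-!
# Tor amplitude of a restriction of scalars through the mixed tensor product (helper21)

For `φ : R → A`, an `A`-complex `X` and a K-projective resolution `Q → M[0]` of an `R`-module,
the `A`-complex `mixT φ (Q, X) = (Q ⊗_R A) ⊗_A X` computes `M ⊗^L_R X` with its `A`-structure.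

* `isZero_homology_mixT`: if `X|_R` has tor amplitude in `[c, d]` then `mixT φ (Q, X)` is acyclic
  outside `[c, d]`.
* `hasTorAmplitudeIn_res`: the converse criterion.
* `swapIso`: `N ⊗ mixT φ (Q, X) ≅ mixT φ (Q, N ⊗ X)`.
* homology of `N[0] ⊗ W` for (faithfully) flat `N`.
-/

set_option autoImplicit false
set_option linter.style.haveILetI false
universe u

open CategoryTheory CategoryTheory.Limits MonoidalCategory HomologicalComplex
open TensorProduct

attribute [local instance] HasDerivedCategory.standard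

namespace Groth.Agent.Lib.Helper21.RHa

open Groth.Agent.Lib.Helper18 Groth.Agent.Lib.Helper18.DR Groth.Agent.Lib.Helper18.DR.DTenB
open Groth.Agent.Lib.Helper2.Tot Groth.Agent.Lib.Helper2.Tot.DR
open Groth.Agent.Lib.Helper18.DR.MixRes Groth.Agent.Lib.Helper18.DR.ProjCx
open Groth.Agent.Lib.Helper18.DR.LTCx
open Groth.Agent.Lib.Helper21

/-- `M[0]` -/
noncomputable abbrev S0 {R : Type u} [CommRing R] (M : ModuleCat.{u} R) : DRing.Cx R :=
  (HomologicalComplex.single (ModuleCat.{u} R) (ComplexShape.up ℤ) 0).obj M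

section basic

variable {R : Type u} [CommRing R]

lemma isZero_homology_iff_of_quasiIso {X Y : DRing.Cx R} (f : X ⟶ Y) [QuasiIso f] (i : ℤ) :
    IsZero (X.homology i) ↔ IsZero (Y.homology i) := by
  haveI : IsIso (HomologicalComplex.homologyMap f i) :=
    (quasiIsoAt_iff_isIso_homologyMap f i).1 inferInstance
  exact (asIso (HomologicalComplex.homologyMap f i)).isZero_iff

lemma vanishesOutside_S0 (M : ModuleCat.{u} R) : DRing.VanishesOutside (S0 M) 0 0 := fun j hj =>
  HomologicalComplex.isZero_single_obj_X (ComplexShape.up ℤ) 0 M j (by omega)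

instance isKProjective_unit : (S0 (𝟙_ (ModuleCat.{u} R))).IsKProjective := by
  have hb : DRing.VanishesAbove (S0 (𝟙_ (ModuleCat.{u} R))) 0 := fun i hi =>
    HomologicalComplex.isZero_single_obj_X (ComplexShape.up ℤ) 0 _ i (by omega)
  refine isKProjective_of_vanishesAbove (S0 (𝟙_ (ModuleCat.{u} R))) 0 hb (fun i => ?_)
  by_cases hi : i = 0
  · subst hi
    exact (projProp R).iso
      (HomologicalComplex.singleObjXSelf (ComplexShape.up ℤ) 0 (𝟙_ (ModuleCat.{u} R))).symm
      (inferInstanceAs (Module.Projective R R))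
  · exact (projProp R).zero
      (HomologicalComplex.isZero_single_obj_X (ComplexShape.up ℤ) 0 _ i hi)

/-- a quasi-isomorphism from a K-projective complex to a complex K-flat in the first variable
stays a quasi-isomorphism after `- ⊗ W` -/
theorem quasiIso_whiskerRight_of_kflat_flip {P E : DRing.Cx R} [P.IsKProjective]
    (hE : KFlat (T R).flip E) (β : P ⟶ E) [QuasiIso β] (W : DRing.Cx R) : QuasiIso (β ▷ W) := by
  obtain ⟨F, s, hF, hs⟩ := exists_kprojective_quasiIso W
  haveI := hF
  haveI := hs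
  haveI h1 : QuasiIso (E ◁ s) := quasiIso_map₂_of_kflat_flip hE s
  have hsq : (P ◁ s) ≫ (β ▷ W) = (β ▷ F) ≫ (E ◁ s) := whisker_exchange β s
  haveI : QuasiIso ((P ◁ s) ≫ (β ▷ W)) := by
    rw [hsq]
    infer_instance
  exact quasiIso_of_comp_left (P ◁ s) (β ▷ W)

/-- homology of `P ⊗ W` for `P` of tor amplitude `[a, b]` and `W` acyclic outside `[c, d]` -/
theorem isZero_homology_tensor_of_bounds (P E : DRing.Cx R) [P.IsKProjective] (β : P ⟶ E)
    [QuasiIso β] (a b : ℤ) (hE : DRing.VanishesOutside E a b) (hEf : DRing.TermwiseFlat E)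
    (W : DRing.Cx R) (c d : ℤ) (hW : ∀ j : ℤ, j < c ∨ d < j → IsZero (W.homology j))
    (i : ℤ) (hi : i < a + c ∨ b + d < i) : IsZero ((P ⊗ W : DRing.Cx R).homology i) := by
  haveI := isStrictlyLE_of_vanishesAbove E b (VanishesOutside.above hE)
  have hEK : KFlat (T R).flip E := kflat_flip_of_isStrictlyLE E b hEf
  haveI := quasiIso_whiskerRight_of_kflat_flip hEK β W
  rw [isZero_homology_iff_of_quasiIso (β ▷ W) i]
  rcases hi with hi | hi
  · haveI : W.IsGE c := by
      rw [CochainComplex.isGE_iff]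
      intro j hj
      exact (HomologicalComplex.exactAt_iff_isZero_homology _ _).2 (hW j (Or.inl hj))
    haveI : QuasiIso (E ◁ W.πTruncGE c) := quasiIso_map₂_of_kflat_flip hEK (W.πTruncGE c)
    rw [isZero_homology_iff_of_quasiIso (E ◁ W.πTruncGE c) i]
    apply DRingTorGE.isZero_homology_of_isZero_X
    refine DRingTorGE.isZero_tot_X (T R) E (W.truncGE c) i (fun p q hpq => ?_)
    by_cases hp : p < a
    · exact Or.inl (hE p (Or.inl hp))
    · exact Or.inr (CochainComplex.isZero_of_isStrictlyGE (W.truncGE c) c q (by omega))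
  · haveI : W.IsLE d := by
      rw [CochainComplex.isLE_iff]
      intro j hj
      exact (HomologicalComplex.exactAt_iff_isZero_homology _ _).2 (hW j (Or.inr hj))
    haveI : QuasiIso (E ◁ W.ιTruncLE d) := quasiIso_map₂_of_kflat_flip hEK (W.ιTruncLE d)
    rw [← isZero_homology_iff_of_quasiIso (E ◁ W.ιTruncLE d) i]
    apply DRingTorGE.isZero_homology_of_isZero_X
    refine DRingTorGE.isZero_tot_X (T R) E (W.truncLE d) i (fun p q hpq => ?_)
    by_cases hp : b < p
    · exact Or.inl (hE p (Or.inr hp))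
    · exact Or.inr (CochainComplex.isZero_of_isStrictlyLE (W.truncLE d) d q (by omega))

section flat

variable (N : ModuleCat.{u} R) (W : DRing.Cx R) (i : ℤ)

lemma isZero_homology_S0_tensor [Module.Flat R N] (h : IsZero (W.homology i)) :
    IsZero ((S0 N ⊗ W : DRing.Cx R).homology i) := by
  haveI : PreservesFiniteLimits (tensorLeft N) := inferInstance
  haveI : (tensorLeft N).PreservesHomology := inferInstance
  exact ((tensorLeft N).map_isZero h).of_iso (DCAdic.ζ N W i)

lemma isZero_homology_of_S0_tensor [Module.FaithfullyFlat R N]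
    (h : IsZero ((S0 N ⊗ W : DRing.Cx R).homology i)) : IsZero (W.homology i) := by
  haveI : PreservesFiniteLimits (tensorLeft N) := inferInstance
  haveI : (tensorLeft N).PreservesHomology := inferInstance
  have h1 : IsZero (N ⊗ W.homology i) := h.of_iso (DCAdic.ζ N W i).symm
  haveI h2 : Subsingleton (N ⊗[R] (W.homology i)) := ModuleCat.subsingleton_of_isZero h1
  haveI : Subsingleton (W.homology i) :=
    (Module.FaithfullyFlat.subsingleton_tensorProduct_iff_right R N).1 h2
  exact ModuleCat.isZero_of_subsingleton _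

end flat

end basic

variable {R A : Type u} [CommRing R] [CommRing A] (φ : R →+* A)

lemma isZero_homology_res_iff (W : DRing.Cx A) (i : ℤ) :
    IsZero (((DTen.resCx φ).obj W).homology i) ↔ IsZero (W.homology i) := by
  rw [← HomologicalComplex.exactAt_iff_isZero_homology,
    ← HomologicalComplex.exactAt_iff_isZero_homology]
  exact exactAt_resCx_iff φ W i

/-- **(⇒)** if `X|_R` has tor amplitude in `[c, d]`, then `(Q ⊗_R A) ⊗_A X` is acyclic outside
`[c, d]` for every K-projective resolution `Q` of an `R`-module. -/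
theorem isZero_homology_mixT (X : DRing.Cx A) (c d : ℤ)
    (h : DRing.HasTorAmplitudeIn R c d (DRing.toD ((DTen.resCx φ).obj X)))
    (M : ModuleCat.{u} R) (Q : DRing.Cx R) [Q.IsKProjective] (q : Q ⟶ S0 M) [QuasiIso q]
    (i : ℤ) (hi : i < c ∨ d < i) : IsZero (((DTen.mixT φ).obj (Q, X)).homology i) := by
  obtain ⟨E, hE, hEf, ⟨e⟩⟩ := h
  obtain ⟨F, s, hF, hs⟩ := exists_kprojective_quasiIso ((DTen.resCx φ).obj X)
  haveI := hF
  haveI := hs
  haveI : IsIso (DerivedCategory.Q.map s) := (DerivedCategory.isIso_Q_map_iff_quasiIso _ s).2 hs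
  obtain ⟨β, hβ⟩ := exists_map_eq F E (DerivedCategory.Q.map s ≫ e.inv)
  haveI : QuasiIso β := by
    rw [← DerivedCategory.isIso_Q_map_iff_quasiIso, hβ]
    infer_instance
  haveI := isStrictlyLE_of_vanishesAbove E d (VanishesOutside.above hE)
  have hEK : KFlat (T R) E := kflat_of_isStrictlyLE E d hEf
  haveI hq' : QuasiIso (q ▷ E) := quasiIso_map₁_of_kflat hEK q
  have h1 : IsZero ((S0 M ⊗ E : DRing.Cx R).homology i) :=
    DRingTorGE.isZero_homology_of_isZero_X _ i
      (vanishesOutside_tensor (S0 M) E 0 0 c d (vanishesOutside_S0 M) hE i (by omega))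
  have h2 : IsZero ((Q ⊗ E : DRing.Cx R).homology i) :=
    (isZero_homology_iff_of_quasiIso (q ▷ E) i).2 h1
  have h3 : IsZero ((Q ⊗ F : DRing.Cx R).homology i) :=
    (isZero_homology_iff_of_quasiIso (Q ◁ β) i).2 h2
  have h4 : IsZero ((Q ⊗ (DTen.resCx φ).obj X : DRing.Cx R).homology i) :=
    (isZero_homology_iff_of_quasiIso (Q ◁ s) i).1 h3
  rw [← isZero_homology_res_iff φ]
  exact h4.of_iso ((HomologicalComplex.homologyFunctor _ _ i).mapIso (mixResIso φ Q X).symm)

/-- **(⇐)** the criterion: if `(Q ⊗_R A) ⊗_A X` is acyclic outside `[a, b]` for all K-projective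
resolutions `Q` of `R`-modules, then `X|_R` has tor amplitude in `[a, b]`. -/
theorem hasTorAmplitudeIn_res (X : DRing.Cx A) (a b : ℤ)
    (h : ∀ (M : ModuleCat.{u} R) (Q : DRing.Cx R) (_ : Q.IsKProjective) (q : Q ⟶ S0 M)
      (_ : QuasiIso q) (i : ℤ), i < a ∨ b < i →
        IsZero (((DTen.mixT φ).obj (Q, X)).homology i)) :
    DRing.HasTorAmplitudeIn R a b (DRing.toD ((DTen.resCx φ).obj X)) := by
  obtain ⟨a', rfl⟩ : ∃ a', a = a' + 1 := ⟨a - 1, by omega⟩
  have hres : ∀ (M : ModuleCat.{u} R) (Q : DRing.Cx R) (_ : Q.IsKProjective) (q : Q ⟶ S0 M)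
      (_ : QuasiIso q) (i : ℤ), i < a' + 1 ∨ b < i →
        IsZero ((Q ⊗ (DTen.resCx φ).obj X : DRing.Cx R).homology i) :=
    fun M Q hQ q hq i hi =>
      ((isZero_homology_res_iff φ _ i).2 (h M Q hQ q hq i hi)).of_iso
        ((HomologicalComplex.homologyFunctor _ _ i).mapIso (mixResIso φ Q X))
  generalize (DTen.resCx φ).obj X = Y at hres ⊢
  have hY0 : ∀ i : ℤ, i < a' + 1 ∨ b < i → IsZero (Y.homology i) := fun i hi => by
    have h1 := hres (𝟙_ (ModuleCat.{u} R)) (S0 (𝟙_ (ModuleCat.{u} R))) isKProjective_unit (𝟙 _)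
      inferInstance i hi
    exact h1.of_iso ((HomologicalComplex.homologyFunctor _ _ i).mapIso (λ_ Y).symm)
  have hH : ∀ i : ℤ, i < a' + 1 ∨ b < i → IsZero ((H R i).obj (DRing.toD Y)) := fun i hi =>
    (HtoDIso Y i).isZero_iff.2 (hY0 i hi)
  haveI : (DRing.toD Y).IsLE b := by
    rw [DerivedCategory.isLE_iff]
    intro i hi
    exact hH i (Or.inr hi)
  obtain ⟨G, hGb, hGfree, ⟨eG⟩⟩ := exists_free_resolution (DRing.toD Y) b
  have hGproj : ∀ i, Module.Projective R (G.X i) := fun i => by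
    haveI := hGfree i
    exact Module.Projective.of_free
  have hGflat : DRing.TermwiseFlat G := fun i => by
    haveI := hGproj i
    infer_instance
  haveI : G.IsKProjective := isKProjective_of_vanishesAbove G b hGb hGproj
  obtain ⟨r, hr⟩ := exists_map_eq G Y eG.hom
  haveI : IsIso (DerivedCategory.Q.map r) := by
    rw [hr]
    infer_instance
  haveI : QuasiIso r := (DerivedCategory.isIso_Q_map_iff_quasiIso _ r).1 inferInstance
  have hvan : ∀ M : ModuleCat.{u} R, IsZero ((DRingTorGE.sg M ⊗ G).homology a') := fun M => by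
    obtain ⟨Q, q, hQ, hq⟩ := exists_kprojective_quasiIso (S0 M)
    haveI := hQ
    haveI := hq
    have h1 := hres M Q hQ q hq a' (Or.inl (by omega))
    have h2 : IsZero ((Q ⊗ G : DRing.Cx R).homology a') :=
      (isZero_homology_iff_of_quasiIso (Q ◁ r) a').2 h1
    exact (isZero_homology_iff_of_quasiIso (q ▷ G) a').1 h2
  have hcok : Module.Flat R (cokernel (G.d a' (a' + 1)) : ModuleCat.{u} R) :=
    DRingTorGE.flat_cokernel G hGflat a' hvan
  have hop : Module.Flat R (cok G a' (a' + 1)) :=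
    DRingTorGE.flat_of_iso (ModuleCat.cokernelIsoRangeQuotient (G.d a' (a' + 1))) hcok
  exact hasTorAmplitudeIn_of_iso eG
    (hasTorAmplitudeIn_of_flat_cok G b (a' + 1) b a' rfl hGb hGflat
      (fun i hi => (hH i (Or.inl hi)).of_iso ((H R i).mapIso eG))
      (fun i hi => (hH i (Or.inr hi)).of_iso ((H R i).mapIso eG)) hop)

/-- `N ⊗ ((Q ⊗_R A) ⊗ X) ≅ (Q ⊗_R A) ⊗ (N ⊗ X)` -/
noncomputable def swapIso (N : DRing.Cx A) (Q : DRing.Cx R) (X : DRing.Cx A) :
    N ⊗ (DTen.mixT φ).obj (Q, X) ≅ (DTen.mixT φ).obj (Q, N ⊗ X) :=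
  (α_ N ((DTen.extCx φ).obj Q) X).symm ≪≫
    MonoidalCategory.whiskerRightIso (DTen.braidCx N ((DTen.extCx φ).obj Q)) X ≪≫
    α_ ((DTen.extCx φ).obj Q) N X

/-- `mixT φ (Q, -)` on isomorphisms -/
noncomputable def mixTIso (Q : DRing.Cx R) {X X' : DRing.Cx A} (e : X ≅ X') :
    (DTen.mixT φ).obj (Q, X) ≅ (DTen.mixT φ).obj (Q, X') :=
  MonoidalCategory.whiskerLeftIso ((DTen.extCx φ).obj Q) e

end Groth.Agent.Lib.Helper21.RHa
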