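import Mathlib
import Groth.Agent.Lib.Helper21.RHa
import Groth.Agent.Lib.Helper18.LTCxC
import Groth.Agent.Lib.Helper18.KProjC

/-!
# Tor amplitude of `(K ⊗^L_B L)|_A` (helper21)
-/

set_option autoImplicit false
set_option linter.style.haveILetI false
universe u

open CategoryTheory CategoryTheory.Limits MonoidalCategory HomologicalComplex

attribute [local instance] HasDerivedCategory.standard

namespace Groth.Agent.Lib.Helper21.RHb

open Groth.Agent.Lib.Helper18 Groth.Agent.Lib.Helper18.DR Groth.Agent.Lib.Helper18.DR.DTenB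
open Groth.Agent.Lib.Helper18.DR.LTCx
open Groth.Agent.Lib.Helper21.RHa

theorem main {A B : Type u} [CommRing A] [CommRing B] [Algebra A B]
    (K : Dual.D B) (a b c d : ℤ) (hK : DRing.HasTorAmplitudeIn B a b K) (L : DRing.Cx B)
    (hL : DRing.HasTorAmplitudeIn A c d (DRing.toD ((DRing.restrictCx (algebraMap A B)).obj L)))
    [DRing.HasLTensorCx B L] :
    DRing.HasTorAmplitudeIn A (a + c) (b + d)
      ((DRing.restrictD (algebraMap A B)).obj ((DRing.LTensorCx B L).obj K)) := by
  obtain ⟨E, hE, hEf, ⟨eE⟩⟩ := hK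
  obtain ⟨P, hP, -, ⟨eP⟩⟩ := exists_kprojective_resolution K
  haveI := hP
  obtain ⟨β, hβ⟩ := exists_map_eq P E (eP.hom ≫ eE.inv)
  haveI : QuasiIso β := by
    rw [← DerivedCategory.isIso_Q_map_iff_quasiIso, hβ]
    infer_instance
  have hL' : DRing.HasTorAmplitudeIn A c d
      (DRing.toD ((DTen.resCx (algebraMap A B)).obj L)) := hL
  have key : DRing.HasTorAmplitudeIn A (a + c) (b + d)
      (DRing.toD ((DTen.resCx (algebraMap A B)).obj (P ⊗ L))) := by
    apply hasTorAmplitudeIn_res (algebraMap A B)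
    intro M Q hQ q hq i hi
    haveI := hQ
    haveI := hq
    have hW : ∀ j : ℤ, j < c ∨ d < j →
        IsZero (((DTen.mixT (algebraMap A B)).obj (Q, L)).homology j) :=
      fun j hj => isZero_homology_mixT (algebraMap A B) L c d hL' M Q q j hj
    refine IsZero.of_iso ?_ ((HomologicalComplex.homologyFunctor _ _ i).mapIso
      (swapIso (algebraMap A B) P Q L).symm)
    exact isZero_homology_tensor_of_bounds P E β a b hE hEf _ c d hW i hi
  refine hasTorAmplitudeIn_of_iso ?_ key
  exact ((DRing.restrictD (algebraMap A B)).mapIso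
    ((DRing.LTensorCx B L).mapIso eP.symm ≪≫ LTensorCxIso L P) ≪≫
      (DTen.resFactors (algebraMap A B)).app (P ⊗ L)).symm

end Groth.Agent.Lib.Helper21.RHb
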