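import Mathlib
import Groth.Agent.Lib.Helper21.RHa
import Groth.Agent.Lib.Helper18.KProjC
import Groth.Agent.Lib.Helper18.DRLBC
import Groth.Agent.Lib.Helper18.DRExt2
import Groth.Agent.Lib.Helper18.DuH1

/-!
# Tor amplitude of restrictions and faithfully flat base change (helper21)
-/

set_option autoImplicit false
set_option linter.style.haveILetI false
universe u

open CategoryTheory CategoryTheory.Limits MonoidalCategory HomologicalComplex

attribute [local instance] HasDerivedCategory.standard

namespace Groth.Agent.Lib.Helper21.RHc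

open Groth.Agent.Lib.Helper18 Groth.Agent.Lib.Helper18.DR Groth.Agent.Lib.Helper18.DR.DTenB
open Groth.Agent.Lib.Helper18.DR.MixRes
open Groth.Agent.Lib.Helper21.RHa

/-- `(P ⊗_A B)|_A ≅ B[0] ⊗_A P` -/
noncomputable def resExtIso {A B : Type u} [CommRing A] [CommRing B] [Algebra A B]
    (P : DRing.Cx A) :
    (DTen.resCx (algebraMap A B)).obj ((DTen.extCx (algebraMap A B)).obj P) ≅
      S0 (ModuleCat.of A B) ⊗ P :=
  ((DTen.resCx (algebraMap A B)).mapIso (ρ_ ((DTen.extCx (algebraMap A B)).obj P))).symm ≪≫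
    (mixResIso (algebraMap A B) P (𝟙_ (DRing.Cx B))).symm ≪≫
    MonoidalCategory.whiskerLeftIso P
      ((HomologicalComplex.singleMapHomologicalComplex
          (ModuleCat.restrictScalars.{u} (algebraMap A B)) (ComplexShape.up ℤ) 0).app
          (𝟙_ (ModuleCat.{u} B)) ≪≫
        (HomologicalComplex.single (ModuleCat.{u} A) (ComplexShape.up ℤ) 0).mapIso
          (resBEquiv (A := A) (B := B)).toModuleIso) ≪≫
    DTen.braidCx P (S0 (ModuleCat.of A B))

theorem main {R A B : Type u} [CommRing R] [CommRing A] [CommRing B] [Algebra A B]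
    [Module.FaithfullyFlat A B] [DRing.HasLBaseChange (algebraMap A B)]
    (φ : R →+* A) (φB : R →+* B) (hcomp : φB = (algebraMap A B).comp φ)
    (K : Dual.D A) (a b : ℤ) :
    DRing.HasTorAmplitudeIn R a b ((DRing.restrictD φ).obj K) ↔
      DRing.HasTorAmplitudeIn R a b ((DRing.restrictD φB).obj
        ((DRing.LBaseChange (algebraMap A B)).obj K)) := by
  obtain ⟨P, hP, -, ⟨eP⟩⟩ := exists_kprojective_resolution K
  haveI := hP
  haveI : Module.FaithfullyFlat A (ModuleCat.of A B) :=
    inferInstanceAs (Module.FaithfullyFlat A B)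
  let e1 : (DRing.restrictD φ).obj K ≅ DRing.toD ((DTen.resCx φ).obj P) :=
    (DRing.restrictD φ).mapIso eP.symm ≪≫ (DTen.resFactors φ).app P
  let e2 : (DRing.restrictD φB).obj ((DRing.LBaseChange (algebraMap A B)).obj K) ≅
      DRing.toD ((DTen.resCx φ).obj (S0 (ModuleCat.of A B) ⊗ P)) :=
    (DRing.restrictD φB).mapIso
        ((DRing.LBaseChange (algebraMap A B)).mapIso eP.symm ≪≫
          LBaseChangeIso (algebraMap A B) P) ≪≫
      (DTen.resFactors φB).app ((DTen.extCx (algebraMap A B)).obj P) ≪≫
      DerivedCategory.Q.mapIso (DuH.resCxCompIso φ (algebraMap A B) φB hcomp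
        ((DTen.extCx (algebraMap A B)).obj P)) ≪≫
      DerivedCategory.Q.mapIso ((DTen.resCx φ).mapIso (resExtIso P))
  constructor
  · intro h
    refine hasTorAmplitudeIn_of_iso e2.symm ?_
    have h' := hasTorAmplitudeIn_of_iso e1 h
    apply hasTorAmplitudeIn_res φ
    intro M Q hQ q hq i hi
    haveI := hQ
    haveI := hq
    have hz := isZero_homology_mixT φ P a b h' M Q q i hi
    exact (isZero_homology_S0_tensor (ModuleCat.of A B) _ i hz).of_iso
      ((HomologicalComplex.homologyFunctor _ _ i).mapIso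
        (swapIso φ (S0 (ModuleCat.of A B)) Q P).symm)
  · intro h
    refine hasTorAmplitudeIn_of_iso e1.symm ?_
    have h' := hasTorAmplitudeIn_of_iso e2 h
    apply hasTorAmplitudeIn_res φ
    intro M Q hQ q hq i hi
    haveI := hQ
    haveI := hq
    have hz := isZero_homology_mixT φ (S0 (ModuleCat.of A B) ⊗ P) a b h' M Q q i hi
    apply isZero_homology_of_S0_tensor (ModuleCat.of A B)
    exact hz.of_iso ((HomologicalComplex.homologyFunctor _ _ i).mapIso
      (swapIso φ (S0 (ModuleCat.of A B)) Q P))

end Groth.Agent.Lib.Helper21.RHc
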