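import Mathlib
import Groth.Agent.Lib.Helper21.RHa
import Groth.Agent.Lib.Helper21.RHc

/-!
# Tor amplitude of a restriction can be checked at the maximal ideals of the source (helper21)
-/

set_option autoImplicit false
set_option linter.style.haveILetI false
universe u

open CategoryTheory CategoryTheory.Limits MonoidalCategory HomologicalComplex
open TensorProduct

attribute [local instance] HasDerivedCategory.standard

namespace Groth.Agent.Lib.Helper21.RHd

open Groth.Agent.Lib.Helper18 Groth.Agent.Lib.Helper18.DR Groth.Agent.Lib.Helper18.DR.DTenB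
open Groth.Agent.Lib.Helper21.RHa Groth.Agent.Lib.Helper21.RHc

lemma flat_restrictScalars {A A' : Type u} [CommRing A] [CommRing A'] [Algebra A A']
    [Module.Flat A A'] (M : ModuleCat.{u} A') [Module.Flat A' M] :
    Module.Flat A ((ModuleCat.restrictScalars.{u} (algebraMap A A')).obj M) := by
  haveI : IsScalarTower A A' ((ModuleCat.restrictScalars.{u} (algebraMap A A')).obj M) :=
    IsScalarTower.of_algebraMap_smul (fun a m => rfl)
  haveI : Module.Flat A' ((ModuleCat.restrictScalars.{u} (algebraMap A A')).obj M) :=
    inferInstanceAs (Module.Flat A' M)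
  exact Module.Flat.trans A A' _

lemma isZero_homology_of_forall_maximal {B : Type u} [CommRing B] (W : DRing.Cx B) (i : ℤ)
    (h : ∀ (m : Ideal B) [m.IsMaximal],
      IsZero ((S0 (ModuleCat.of B (Localization.AtPrime m)) ⊗ W : DRing.Cx B).homology i)) :
    IsZero (W.homology i) := by
  haveI : Subsingleton (W.homology i) := by
    refine Module.subsingleton_of_localization_maximal
      (fun m _ => Localization.AtPrime m ⊗[B] (W.homology i))
      (fun m _ => TensorProduct.mk B (Localization.AtPrime m) (W.homology i) 1) (fun m hm => ?_)
    haveI := hm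
    haveI : Module.Flat B (ModuleCat.of B (Localization.AtPrime m)) :=
      inferInstanceAs (Module.Flat B (Localization.AtPrime m))
    haveI : PreservesFiniteLimits (tensorLeft (ModuleCat.of B (Localization.AtPrime m))) :=
      inferInstance
    haveI : (tensorLeft (ModuleCat.of B (Localization.AtPrime m))).PreservesHomology :=
      inferInstance
    have h1 : IsZero (ModuleCat.of B (Localization.AtPrime m) ⊗ W.homology i) :=
      (h m).of_iso (DCAdic.ζ _ W i).symm
    exact ModuleCat.subsingleton_of_isZero h1
  exact ModuleCat.isZero_of_subsingleton _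

theorem hasTorAmplitudeIn_loc (A B : Type u) [CommRing A] [CommRing B] [Algebra A B]
    (K : DRing.Cx B) (a b : ℤ) (m : Ideal B) [m.IsMaximal]
    (h : DRing.HasTorAmplitudeIn (Localization.AtPrime (m.comap (algebraMap A B))) a b
      (DRing.toD ((DTen.resCx (Localization.localRingHom (m.comap (algebraMap A B)) m
        (algebraMap A B) rfl)).obj
          ((DTen.extCx (algebraMap B (Localization.AtPrime m))).obj K)))) :
    DRing.HasTorAmplitudeIn A a b
      (DRing.toD ((DTen.resCx (algebraMap A B)).obj
        (S0 (ModuleCat.of B (Localization.AtPrime m)) ⊗ K))) := by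
  obtain ⟨E, hE, hEf, ⟨e⟩⟩ := h
  have hcomm : (Localization.localRingHom (m.comap (algebraMap A B)) m (algebraMap A B) rfl).comp
      (algebraMap A (Localization.AtPrime (m.comap (algebraMap A B)))) =
      (algebraMap B (Localization.AtPrime m)).comp (algebraMap A B) :=
    RingHom.ext (fun x => Localization.localRingHom_to_map _ _ _ rfl x)
  refine ⟨(DTen.resCx (algebraMap A (Localization.AtPrime (m.comap (algebraMap A B))))).obj E,
    ?_, ?_, ⟨?_⟩⟩
  · exact vanishesOutside_mapHC (ModuleCat.restrictScalars.{u}
      (algebraMap A (Localization.AtPrime (m.comap (algebraMap A B))))) E a b hE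
  · intro j
    haveI : Module.Flat (Localization.AtPrime (m.comap (algebraMap A B))) (E.X j) := hEf j
    exact flat_restrictScalars (E.X j)
  · exact ((DTen.resFactors
        (algebraMap A (Localization.AtPrime (m.comap (algebraMap A B))))).app E).symm ≪≫
      (DRing.restrictD
        (algebraMap A (Localization.AtPrime (m.comap (algebraMap A B))))).mapIso e ≪≫
      (DTen.resFactors (algebraMap A (Localization.AtPrime (m.comap (algebraMap A B))))).app
        ((DTen.resCx (Localization.localRingHom (m.comap (algebraMap A B)) m
          (algebraMap A B) rfl)).obj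
            ((DTen.extCx (algebraMap B (Localization.AtPrime m))).obj K)) ≪≫
      DerivedCategory.Q.mapIso
        ((DuH.resCxCompIso (algebraMap A (Localization.AtPrime (m.comap (algebraMap A B))))
            (Localization.localRingHom (m.comap (algebraMap A B)) m (algebraMap A B) rfl) _ rfl
            ((DTen.extCx (algebraMap B (Localization.AtPrime m))).obj K)).symm ≪≫
          DuH.resCxCompIso (algebraMap A B) (algebraMap B (Localization.AtPrime m)) _ hcomm
            ((DTen.extCx (algebraMap B (Localization.AtPrime m))).obj K) ≪≫
          (DTen.resCx (algebraMap A B)).mapIso (resExtIso K))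

theorem main (A B : Type u) [CommRing A] [CommRing B] [Algebra A B] (K : DRing.Cx B) (a b : ℤ)
    (h3 : ∀ (m : Ideal B) [m.IsMaximal],
      DRing.HasTorAmplitudeIn (Localization.AtPrime (m.comap (algebraMap A B))) a b
        (DRing.toD ((DRing.restrictCx (Localization.localRingHom (m.comap (algebraMap A B)) m
          (algebraMap A B) rfl)).obj
          (((ModuleCat.extendScalars (algebraMap B (Localization.AtPrime m))).mapHomologicalComplex
            (ComplexShape.up ℤ)).obj K)))) :
    DRing.HasTorAmplitudeIn A a b (DRing.toD ((DRing.restrictCx (algebraMap A B)).obj K)) := by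
  change DRing.HasTorAmplitudeIn A a b (DRing.toD ((DTen.resCx (algebraMap A B)).obj K))
  apply hasTorAmplitudeIn_res (algebraMap A B)
  intro M Q hQ q hq i hi
  haveI := hQ
  haveI := hq
  apply isZero_homology_of_forall_maximal
  intro m hm
  haveI := hm
  refine IsZero.of_iso ?_ ((HomologicalComplex.homologyFunctor _ _ i).mapIso
    (swapIso (algebraMap A B) (S0 (ModuleCat.of B (Localization.AtPrime m))) Q K))
  refine isZero_homology_mixT (algebraMap A B) _ a b ?_ M Q q i hi
  exact hasTorAmplitudeIn_loc A B K a b m (h3 m)

end Groth.Agent.Lib.Helper21.RHd
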