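import Mathlib
import Groth.Agent.Lib.Helper8.AdjoinRootLocal

/-!
# A uniform normal form for Weierstrass curves with `j` and `j - 1728` invertible

For a Weierstrass curve `W` over a ring `A` with `c₄` invertible there is a canonical translation
`x₀ = (18 b₆ - b₂ b₄) / c₄`.  After translating by it, a quadratic étale cover
`A[s]/(s² + a₁ s - a₂)` (whose discriminant is `b₂ = -c₆/c₄`, a unit) brings the curve into the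
normal form `y² + x y = x³ - 36 β x - β` with `β = 1/(j - 1728)`, uniformly in all
characteristics.
-/

set_option autoImplicit false

open Polynomial WeierstrassCurve

universe u

namespace Groth.Agent.Lib.Helper21.RHh

section Identities

variable {A : Type u} [CommRing A]

theorem I1_aux (b₂ b₄ b₆ i₄ : A) (hc : (b₂ ^ 2 - 24 * b₄) * i₄ = 1) :
    (b₂ + 12 * ((18 * b₆ - b₂ * b₄) * i₄)) * (b₂ ^ 2 - 24 * b₄)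
      = -(-b₂ ^ 3 + 36 * b₂ * b₄ - 216 * b₆) := by
  linear_combination (12 * (18 * b₆ - b₂ * b₄)) * hc

theorem I2_aux (b₂ b₄ b₆ b₈ i₄ : A) (hb : 4 * b₈ = b₂ * b₆ - b₄ ^ 2)
    (hc : (b₂ ^ 2 - 24 * b₄) * i₄ = 1) :
    (b₄ + ((18 * b₆ - b₂ * b₄) * i₄) * b₂ + 6 * ((18 * b₆ - b₂ * b₄) * i₄) ^ 2)
        * (b₂ ^ 2 - 24 * b₄) ^ 2
      = -72 * (-b₂ ^ 2 * b₈ - 8 * b₄ ^ 3 - 27 * b₆ ^ 2 + 9 * b₂ * b₄ * b₆) := by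
  linear_combination
    ((18 * b₆ - b₂ * b₄) * b₂ * (b₂ ^ 2 - 24 * b₄)
      + 6 * (18 * b₆ - b₂ * b₄) ^ 2 * ((b₂ ^ 2 - 24 * b₄) * i₄ + 1)) * hc
    - 18 * b₂ ^ 2 * hb

theorem I4_aux (b₂ b₄ b₆ b₈ i₄ : A) (hb : 4 * b₈ = b₂ * b₆ - b₄ ^ 2)
    (hc : (b₂ ^ 2 - 24 * b₄) * i₄ = 1) :
    (b₈ + 3 * ((18 * b₆ - b₂ * b₄) * i₄) * b₆ + 3 * ((18 * b₆ - b₂ * b₄) * i₄) ^ 2 * b₄
        + ((18 * b₆ - b₂ * b₄) * i₄) ^ 3 * b₂ + 3 * ((18 * b₆ - b₂ * b₄) * i₄) ^ 4)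
        * (b₂ ^ 2 - 24 * b₄) ^ 4
      = -(-b₂ ^ 2 * b₈ - 8 * b₄ ^ 3 - 27 * b₆ ^ 2 + 9 * b₂ * b₄ * b₆)
          * ((-b₂ ^ 3 + 36 * b₂ * b₄ - 216 * b₆) ^ 2
            + 1296 * (-b₂ ^ 2 * b₈ - 8 * b₄ ^ 3 - 27 * b₆ ^ 2 + 9 * b₂ * b₄ * b₆)) := by
  linear_combination
    (3 * (18 * b₆ - b₂ * b₄) * b₆ * (b₂ ^ 2 - 24 * b₄) ^ 3
      + 3 * (18 * b₆ - b₂ * b₄) ^ 2 * b₄ * (b₂ ^ 2 - 24 * b₄) ^ 2
          * ((b₂ ^ 2 - 24 * b₄) * i₄ + 1)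
      + (18 * b₆ - b₂ * b₄) ^ 3 * b₂ * (b₂ ^ 2 - 24 * b₄)
          * (((b₂ ^ 2 - 24 * b₄) * i₄) ^ 2 + (b₂ ^ 2 - 24 * b₄) * i₄ + 1)
      + 3 * (18 * b₆ - b₂ * b₄) ^ 4
          * (((b₂ ^ 2 - 24 * b₄) * i₄) ^ 3 + ((b₂ ^ 2 - 24 * b₄) * i₄) ^ 2
              + (b₂ ^ 2 - 24 * b₄) * i₄ + 1)) * hc
    + (324 * b₂ ^ 4 * b₈ + (82944 * b₄ ^ 4 - 8640 * b₂ ^ 2 * b₄ ^ 3 + 5832 * b₂ ^ 2 * b₆ ^ 2
        - 1944 * b₂ ^ 3 * b₄ * b₆ + 459 * b₂ ^ 4 * b₄ ^ 2 - 27 * b₂ ^ 5 * b₆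
        - 6 * b₂ ^ 6 * b₄)) * hb

end Identities

section Translation

variable {A : Type u} [CommRing A] (W : WeierstrassCurve A) (i₄ : A)

/-- The canonical `x`-coordinate `(18 b₆ - b₂ b₄)/c₄`. -/
def x₀ : A := (18 * W.b₆ - W.b₂ * W.b₄) * i₄

/-- Translation by the canonical `x`-coordinate. -/
def T : VariableChange A := ⟨1, x₀ W i₄, 0, 0⟩

theorem T_b₂ : (T W i₄ • W).b₂ = W.b₂ + 12 * x₀ W i₄ := by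
  rw [variableChange_b₂]; simp [T]

theorem T_b₄ : (T W i₄ • W).b₄ = W.b₄ + x₀ W i₄ * W.b₂ + 6 * x₀ W i₄ ^ 2 := by
  rw [variableChange_b₄]; simp [T]

theorem T_b₈ : (T W i₄ • W).b₈ = W.b₈ + 3 * x₀ W i₄ * W.b₆ + 3 * x₀ W i₄ ^ 2 * W.b₄
    + x₀ W i₄ ^ 3 * W.b₂ + 3 * x₀ W i₄ ^ 4 := by
  rw [variableChange_b₈]; simp [T]

variable (hc : W.c₄ * i₄ = 1)
include hc

theorem I1 : (T W i₄ • W).b₂ * W.c₄ = -W.c₆ := by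
  rw [T_b₂]; exact I1_aux W.b₂ W.b₄ W.b₆ i₄ hc

theorem I2 : (T W i₄ • W).b₄ * W.c₄ ^ 2 = -72 * W.Δ := by
  rw [T_b₄]; exact I2_aux W.b₂ W.b₄ W.b₆ W.b₈ i₄ W.b_relation hc

theorem I4 : (T W i₄ • W).b₈ * W.c₄ ^ 4 = -W.Δ * (W.c₆ ^ 2 + 1296 * W.Δ) := by
  rw [T_b₈]; exact I4_aux W.b₂ W.b₄ W.b₆ W.b₈ i₄ W.b_relation hc

end Translation

/-- The normal form `y² + x y = x³ - 36 β x - β`. -/
def nf {A : Type u} [CommRing A] (β : A) : WeierstrassCurve A := ⟨1, 0, 0, -36 * β, -β⟩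

theorem nf_map {A B : Type u} [CommRing A] [CommRing B] (φ : A →+* B) (β : A) :
    (nf β).map φ = nf (φ β) := by
  ext <;> simp [nf, map_ofNat]

/-- The key computation: a root `s` of `s² + a₁ s - a₂` with `a₁ + 2 s` invertible brings a
curve satisfying the two normalised identities into normal form. -/
theorem smul_eq_nf {B : Type u} [CommRing B] (V : WeierstrassCurve B) (β s ui : B)
    (hs : s ^ 2 + V.a₁ * s - V.a₂ = 0) (hui : ui * (V.a₁ + 2 * s) = 1)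
    (H2 : V.b₄ = -72 * β * V.b₂ ^ 2) (H4 : V.b₈ = -β * (1 + 1296 * β) * V.b₂ ^ 4) :
    ∃ C : VariableChange B, C • V = nf β := by
  have hu2 : (V.a₁ + 2 * s) ^ 2 = V.a₁ ^ 2 + 4 * V.a₂ := by linear_combination 4 * hs
  have H2' : 2 * V.a₄ + V.a₁ * V.a₃ = -72 * β * (V.a₁ ^ 2 + 4 * V.a₂) ^ 2 := H2
  have H4' : V.a₁ ^ 2 * V.a₆ + 4 * V.a₂ * V.a₆ - V.a₁ * V.a₃ * V.a₄ + V.a₂ * V.a₃ ^ 2 - V.a₄ ^ 2
      = -β * (1 + 1296 * β) * (V.a₁ ^ 2 + 4 * V.a₂) ^ 4 := H4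
  have e1 : (V.a₁ + 2 * s) * V.a₃ + 2 * (V.a₄ - s * V.a₃ + 36 * β * (V.a₁ + 2 * s) ^ 4) = 0 := by
    linear_combination H2' + 72 * β * ((V.a₁ + 2 * s) ^ 2 + (V.a₁ ^ 2 + 4 * V.a₂)) * hu2
  have g3 : V.a₃ + 2 * (ui * (V.a₄ - s * V.a₃ + 36 * β * (V.a₁ + 2 * s) ^ 4)) = 0 := by
    linear_combination (-V.a₃) * hui + ui * e1
  have e6 : (V.a₁ + 2 * s) ^ 2 * V.a₆ + (V.a₄ - s * V.a₃ + 36 * β * (V.a₁ + 2 * s) ^ 4) ^ 2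
      = -β * (V.a₁ + 2 * s) ^ 8 := by
    linear_combination H4' + (4 * V.a₆ + V.a₃ ^ 2) * hs + (V.a₄ - s * V.a₃) * e1
      + β * (1 + 1296 * β) * ((V.a₁ + 2 * s) ^ 4 + (V.a₁ ^ 2 + 4 * V.a₂) ^ 2)
          * ((V.a₁ + 2 * s) ^ 2 + (V.a₁ ^ 2 + 4 * V.a₂)) * hu2
  let uu : Bˣ := ⟨V.a₁ + 2 * s, ui, by rw [mul_comm]; exact hui, hui⟩
  refine ⟨⟨uu, 0, s, ui * (V.a₄ - s * V.a₃ + 36 * β * (V.a₁ + 2 * s) ^ 4)⟩, ?_⟩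
  ext
  · show ui * (V.a₁ + 2 * s) = 1
    exact hui
  · show ui ^ 2 * (V.a₂ - s * V.a₁ + 3 * 0 - s ^ 2) = 0
    linear_combination (-(ui ^ 2)) * hs
  · show ui ^ 3 * (V.a₃ + 0 * V.a₁
        + 2 * (ui * (V.a₄ - s * V.a₃ + 36 * β * (V.a₁ + 2 * s) ^ 4))) = 0
    linear_combination ui ^ 3 * g3
  · show ui ^ 4 * (V.a₄ - s * V.a₃ + 2 * 0 * V.a₂
        - (ui * (V.a₄ - s * V.a₃ + 36 * β * (V.a₁ + 2 * s) ^ 4) + 0 * s) * V.a₁ + 3 * 0 ^ 2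
        - 2 * s * (ui * (V.a₄ - s * V.a₃ + 36 * β * (V.a₁ + 2 * s) ^ 4))) = -36 * β
    linear_combination
      (-36 * β * ((ui * (V.a₁ + 2 * s)) ^ 3 + (ui * (V.a₁ + 2 * s)) ^ 2
          + ui * (V.a₁ + 2 * s) + 1)
        - ui ^ 4 * (V.a₄ - s * V.a₃ + 36 * β * (V.a₁ + 2 * s) ^ 4)) * hui
  · show ui ^ 6 * (V.a₆ + 0 * V.a₄ + 0 ^ 2 * V.a₂ + 0 ^ 3
        - ui * (V.a₄ - s * V.a₃ + 36 * β * (V.a₁ + 2 * s) ^ 4) * V.a₃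
        - (ui * (V.a₄ - s * V.a₃ + 36 * β * (V.a₁ + 2 * s) ^ 4)) ^ 2
        - 0 * (ui * (V.a₄ - s * V.a₃ + 36 * β * (V.a₁ + 2 * s) ^ 4)) * V.a₁) = -β
    linear_combination
      (-(ui ^ 6) * (ui * (V.a₄ - s * V.a₃ + 36 * β * (V.a₁ + 2 * s) ^ 4))) * g3
      + ui ^ 8 * e6
      + (-(ui ^ 6) * (ui * (V.a₁ + 2 * s) + 1) * (β * (V.a₁ + 2 * s) ^ 6 + V.a₆)
          - β * ((ui * (V.a₁ + 2 * s)) ^ 5 + (ui * (V.a₁ + 2 * s)) ^ 4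
              + (ui * (V.a₁ + 2 * s)) ^ 3 + (ui * (V.a₁ + 2 * s)) ^ 2
              + ui * (V.a₁ + 2 * s) + 1)) * hui

end Groth.Agent.Lib.Helper21.RHh
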