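import Mathlib
import Groth.Agent.Lib.Helper8.AdjoinRootLocal
import Groth.Agent.Lib.Helper21.RHh

/-!
# Étale-local normal form of Weierstrass curves with `j`, `j - 1728` invertible
-/

set_option autoImplicit false
set_option linter.style.haveILetI false

open Polynomial WeierstrassCurve

universe u

namespace Groth.Agent.Lib.Helper21.RHi

open Groth.Agent.Lib.Helper21.RHh

section Quadratic

variable {A : Type u} [CommRing A] (a b : A)

/-- The monic quadratic `X² + a X + b`. -/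
noncomputable def qf : A[X] := X ^ 2 + (C a * X + C b)

theorem qf_deg : (C a * X + C b : A[X]).degree < ((2 : ℕ) : WithBot ℕ) :=
  lt_of_le_of_lt degree_linear_le (by norm_num)

theorem qf_monic : (qf a b).Monic := monic_X_pow_add (qf_deg a b)

theorem qf_not_isUnit [Nontrivial A] : ¬ IsUnit (qf a b) := by
  intro h
  have h1 := (qf_monic a b).eq_one_of_isUnit h
  have h2 := congrArg (fun q : A[X] => q.coeff 2) h1
  simp [qf, coeff_X, coeff_one] at h2

theorem qf_root : (AdjoinRoot.root (qf a b)) ^ 2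
    + (algebraMap A (AdjoinRoot (qf a b)) a * AdjoinRoot.root (qf a b)
      + algebraMap A (AdjoinRoot (qf a b)) b) = 0 := by
  have h : AdjoinRoot.mk (qf a b) (qf a b) = 0 := AdjoinRoot.mk_self
  have h2 : AdjoinRoot.mk (qf a b) (X ^ 2 + (C a * X + C b)) = 0 := h
  simpa only [map_add, map_mul, map_pow, AdjoinRoot.mk_X, AdjoinRoot.mk_C,
    AdjoinRoot.algebraMap_eq] using h2

theorem qf_deriv : aeval (AdjoinRoot.root (qf a b)) (derivative (qf a b))
    = algebraMap A (AdjoinRoot (qf a b)) a + 2 * AdjoinRoot.root (qf a b) := by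
  have : derivative (qf a b) = C a + C 2 * X := by
    rw [qf]
    simp only [derivative_add, derivative_X_pow, derivative_mul, derivative_C, derivative_X,
      zero_mul, zero_add, mul_one, add_zero, Nat.cast_ofNat, Nat.add_one_sub_one, pow_one]
    simp [add_comm]
  rw [this]
  simp only [map_add, map_mul, aeval_C, aeval_X, map_ofNat]

end Quadratic

/-- Quadratic étale cover bringing a normalised curve into normal form. -/
theorem exists_etale_nf {A : Type u} [CommRing A] (V : WeierstrassCurve A) (β w : A)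
    (hw : V.b₂ * w = 1) (H2 : V.b₄ = -72 * β * V.b₂ ^ 2)
    (H4 : V.b₈ = -β * (1 + 1296 * β) * V.b₂ ^ 4) (p : PrimeSpectrum A) :
    ∃ (B : Type u) (_ : CommRing B) (_ : Algebra A B), Algebra.Etale A B ∧
      p ∈ Set.range (PrimeSpectrum.comap (algebraMap A B)) ∧
      ∃ C : VariableChange B, C • (V.map (algebraMap A B)) = (nf β).map (algebraMap A B) := by
  classical
  haveI : Nontrivial A :=
    ⟨⟨0, 1, fun h => p.2.ne_top ((Ideal.eq_top_iff_one _).mpr (h ▸ p.asIdeal.zero_mem))⟩⟩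
  have hf := qf_monic V.a₁ (-V.a₂)
  have hnu := qf_not_isUnit V.a₁ (-V.a₂)
  have hs : (AdjoinRoot.root (qf V.a₁ (-V.a₂))) ^ 2
      + algebraMap A (AdjoinRoot (qf V.a₁ (-V.a₂))) V.a₁ * AdjoinRoot.root (qf V.a₁ (-V.a₂))
      - algebraMap A (AdjoinRoot (qf V.a₁ (-V.a₂))) V.a₂ = 0 := by
    have h := qf_root V.a₁ (-V.a₂)
    rw [map_neg] at h
    linear_combination h
  have hu2 : (algebraMap A (AdjoinRoot (qf V.a₁ (-V.a₂))) V.a₁
      + 2 * AdjoinRoot.root (qf V.a₁ (-V.a₂))) ^ 2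
      = algebraMap A (AdjoinRoot (qf V.a₁ (-V.a₂))) V.b₂ := by
    simp only [b₂, map_add, map_mul, map_pow, map_ofNat]
    linear_combination 4 * hs
  have hui : (algebraMap A (AdjoinRoot (qf V.a₁ (-V.a₂))) V.a₁
        + 2 * AdjoinRoot.root (qf V.a₁ (-V.a₂)))
      * algebraMap A (AdjoinRoot (qf V.a₁ (-V.a₂))) w
      * (algebraMap A (AdjoinRoot (qf V.a₁ (-V.a₂))) V.a₁
        + 2 * AdjoinRoot.root (qf V.a₁ (-V.a₂))) = 1 := by
    have h1 : algebraMap A (AdjoinRoot (qf V.a₁ (-V.a₂))) V.b₂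
        * algebraMap A (AdjoinRoot (qf V.a₁ (-V.a₂))) w = 1 := by
      rw [← map_mul, hw, map_one]
    linear_combination algebraMap A (AdjoinRoot (qf V.a₁ (-V.a₂))) w * hu2 + h1
  have hder : IsUnit (aeval (AdjoinRoot.root (qf V.a₁ (-V.a₂)))
      (derivative (qf V.a₁ (-V.a₂)))) := by
    rw [qf_deriv]
    exact IsUnit.of_mul_eq_one ((algebraMap A (AdjoinRoot (qf V.a₁ (-V.a₂))) V.a₁
        + 2 * AdjoinRoot.root (qf V.a₁ (-V.a₂)))
      * algebraMap A (AdjoinRoot (qf V.a₁ (-V.a₂))) w) (by linear_combination hui)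
  haveI : Algebra.Etale A (AdjoinRoot (qf V.a₁ (-V.a₂))) :=
    Groth.Agent.Lib.Helper8.AdjoinRootLocal.etale_of_isUnit_derivative A _ hf hder
  haveI := hf.free_adjoinRoot
  haveI := hf.finite_adjoinRoot
  haveI : Nontrivial (AdjoinRoot (qf V.a₁ (-V.a₂))) :=
    Ideal.Quotient.nontrivial_iff.mpr (by simpa [Ideal.span_singleton_eq_top] using hnu)
  refine ⟨AdjoinRoot (qf V.a₁ (-V.a₂)), inferInstance, inferInstance, inferInstance,
    PrimeSpectrum.comap_surjective_of_faithfullyFlat p, ?_⟩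
  rw [nf_map]
  exact smul_eq_nf (V.map (algebraMap A (AdjoinRoot (qf V.a₁ (-V.a₂)))))
    (algebraMap A (AdjoinRoot (qf V.a₁ (-V.a₂))) β) (AdjoinRoot.root (qf V.a₁ (-V.a₂)))
    ((algebraMap A (AdjoinRoot (qf V.a₁ (-V.a₂))) V.a₁
        + 2 * AdjoinRoot.root (qf V.a₁ (-V.a₂)))
      * algebraMap A (AdjoinRoot (qf V.a₁ (-V.a₂))) w)
    (by simpa using hs) (by simpa using hui)
    (by rw [map_b₄, map_b₂, H2]; simp [map_ofNat])
    (by rw [map_b₈, map_b₂, H4]; simp [map_ofNat])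

/-- Every Weierstrass curve with `j` and `j - 1728` invertible is, étale-locally around any
prime, isomorphic to the normal form with `β = 1/(j - 1728)`. -/
theorem exists_nf {A : Type u} [CommRing A] (W : WeierstrassCurve A) [W.IsElliptic] (β : A)
    (h0 : IsUnit W.j) (hβ : β * (W.j - 1728) = 1) (p : PrimeSpectrum A) :
    ∃ (B : Type u) (_ : CommRing B) (_ : Algebra A B), Algebra.Etale A B ∧
      p ∈ Set.range (PrimeSpectrum.comap (algebraMap A B)) ∧
      ∃ C : VariableChange B, C • (W.map (algebraMap A B)) = (nf β).map (algebraMap A B) := by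
  obtain ⟨d, hd⟩ : ∃ d, W.Δ * d = 1 := W.isUnit_Δ.exists_right_inv
  have hj : W.Δ * W.j = W.c₄ ^ 3 := W.Δ'.mul_inv_cancel_left _
  have hc4 : IsUnit W.c₄ := by
    have h3 : IsUnit (W.c₄ ^ 3) := hj ▸ W.isUnit_Δ.mul h0
    exact (isUnit_pow_iff (by norm_num)).mp h3
  obtain ⟨i₄, hi₄⟩ := hc4.exists_right_inv
  have hc6 : W.c₆ ^ 2 = W.Δ * (W.j - 1728) := by linear_combination W.c_relation - hj
  have hc6u : IsUnit W.c₆ := by
    have h2 : IsUnit (W.c₆ ^ 2) :=
      IsUnit.of_mul_eq_one (d * β) (by rw [hc6]; linear_combination (W.j - 1728) * β * hd + hβ)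
    exact (isUnit_pow_iff (by norm_num)).mp h2
  obtain ⟨i₆, hi₆⟩ := hc6u.exists_right_inv
  have hβΔ : β * W.c₆ ^ 2 = W.Δ := by rw [hc6]; linear_combination W.Δ * hβ
  have h1 := I1 W i₄ hi₄
  have h2 := I2 W i₄ hi₄
  have h4 := I4 W i₄ hi₄
  have hw : (T W i₄ • W).b₂ * (-W.c₄ * i₆) = 1 := by linear_combination (-i₆) * h1 + hi₆
  have H2 : (T W i₄ • W).b₄ = -72 * β * (T W i₄ • W).b₂ ^ 2 := by
    refine (IsUnit.mul_left_inj (hc4.pow 2)).mp ?_
    linear_combination h2 + 72 * β * ((T W i₄ • W).b₂ * W.c₄ - W.c₆) * h1 + 72 * hβΔ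
  have H4 : (T W i₄ • W).b₈ = -β * (1 + 1296 * β) * (T W i₄ • W).b₂ ^ 4 := by
    refine (IsUnit.mul_left_inj (hc4.pow 4)).mp ?_
    linear_combination h4
      + β * (1 + 1296 * β) * (((T W i₄ • W).b₂ * W.c₄) ^ 2 + W.c₆ ^ 2)
          * ((T W i₄ • W).b₂ * W.c₄ - W.c₆) * h1
      + (W.c₆ ^ 2 + 1296 * (β * W.c₆ ^ 2 + W.Δ)) * hβΔ
  obtain ⟨B, iB, iAB, het, hp, C, hC⟩ := exists_etale_nf (T W i₄ • W) β (-W.c₄ * i₆) hw H2 H4 p
  refine ⟨B, iB, iAB, het, hp, C * (T W i₄).map (algebraMap A B), ?_⟩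
  rw [mul_smul, map_variableChange, hC]

/-- Two Weierstrass curves with the same `j`-invariant, `j` and `j - 1728` invertible, are
isomorphic on an étale neighbourhood of every prime. -/
theorem exists_etale_variableChange {A : Type u} [CommRing A]
    (W₁ W₂ : WeierstrassCurve A) [W₁.IsElliptic] [W₂.IsElliptic] (hj : W₁.j = W₂.j)
    (h0 : IsUnit W₁.j) (h1728 : IsUnit (W₁.j - 1728)) (p : PrimeSpectrum A) :
    ∃ (B : Type u) (_ : CommRing B) (_ : Algebra A B), Algebra.Etale A B ∧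
      p ∈ Set.range (PrimeSpectrum.comap (algebraMap A B)) ∧
      ∃ C : WeierstrassCurve.VariableChange B,
        C • (W₁.map (algebraMap A B)) = W₂.map (algebraMap A B) := by
  obtain ⟨β, hβ⟩ := h1728.exists_left_inv
  obtain ⟨B₁, iB₁, iAB₁, het₁, ⟨q₁, hq₁⟩, C₁, hC₁⟩ := exists_nf W₁ β h0 hβ p
  have h0' : IsUnit (W₂.map (algebraMap A B₁)).j := by
    rw [map_j, ← hj]; exact h0.map _
  have hβ' : algebraMap A B₁ β * ((W₂.map (algebraMap A B₁)).j - 1728) = 1 := by
    rw [map_j, ← hj]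
    have := congrArg (algebraMap A B₁) hβ
    simpa [map_ofNat] using this
  obtain ⟨B₂, iB₂, iB₁B₂, het₂, ⟨q₂, hq₂⟩, C₂, hC₂⟩ :=
    exists_nf (W₂.map (algebraMap A B₁)) (algebraMap A B₁ β) h0' hβ' q₁
  letI : Algebra A B₂ := ((algebraMap B₁ B₂).comp (algebraMap A B₁)).toAlgebra
  haveI : IsScalarTower A B₁ B₂ := IsScalarTower.of_algebraMap_eq (fun x => rfl)
  refine ⟨B₂, iB₂, inferInstance, Algebra.Etale.comp A B₁ B₂, ⟨q₂, ?_⟩,
    C₂⁻¹ * C₁.map (algebraMap B₁ B₂), ?_⟩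
  · rw [← hq₁, ← hq₂]; rfl
  · have e1 : W₁.map (algebraMap A B₂) = (W₁.map (algebraMap A B₁)).map (algebraMap B₁ B₂) := by
      rw [WeierstrassCurve.map_map]; rfl
    have e2 : W₂.map (algebraMap A B₂) = (W₂.map (algebraMap A B₁)).map (algebraMap B₁ B₂) := by
      rw [WeierstrassCurve.map_map]; rfl
    rw [e1, e2, mul_smul, map_variableChange, hC₁, nf_map (algebraMap A B₁) β, ← hC₂,
      inv_smul_smul]

end Groth.Agent.Lib.Helper21.RHi
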