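import Mathlib
import Groth.Agent.Lib.Helper21.SepSmoothG

set_option autoImplicit false

open KaehlerDifferential TensorProduct MvPolynomial Algebra

universe u

namespace Groth.Agent.Lib.Helper21.RHj

section Nat

variable {R S T T' : Type u} [CommRing R] [CommRing S] [CommRing T] [CommRing T']
  [Algebra R S] [Algebra R T] [Algebra S T] [IsScalarTower R S T]
  [Algebra R T'] [Algebra S T'] [IsScalarTower R S T'] [Algebra T T'] [IsScalarTower S T T']

variable (R S T T') in
/-- the comparison map `T ⊗[S] Ω[S⁄R] → T' ⊗[S] Ω[S⁄R]` -/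
noncomputable def τ : T ⊗[S] Ω[S⁄R] →ₗ[T] T' ⊗[S] Ω[S⁄R] :=
  TensorProduct.AlgebraTensorModule.map (Algebra.linearMap T T') (LinearMap.id)

@[simp]
theorem τ_tmul (t : T) (ω : Ω[S⁄R]) : τ R S T T' (t ⊗ₜ ω) = algebraMap T T' t ⊗ₜ ω := by
  simp [τ]

theorem δAux_nat (y : (Generators.self S T).Ring) :
    Generators.H1Cotangent.δAux R (Generators.self S T')
        ((Generators.defaultHom (Generators.self S T) (Generators.self S T')).toAlgHom y)
      = τ R S T T' (Generators.H1Cotangent.δAux R (Generators.self S T) y) := by
  induction y using MvPolynomial.induction_on with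
  | C s =>
    simp [Generators.H1Cotangent.δAux_C]
  | add p q hp hq => simp only [map_add, hp, hq]
  | mul_X p i ih =>
    rw [map_mul, Generators.Hom.toAlgHom_X, Generators.H1Cotangent.δAux_mul,
      Generators.H1Cotangent.δAux_mul, ih]
    simp
    rw [← @IsScalarTower.algebraMap_smul (Generators.self S T').Ring T',
      ← @IsScalarTower.algebraMap_smul (Generators.self S T).Ring T, map_smul]
    simp only [Generators.algebraMap_apply, aeval_X, Generators.self_val, id_eq]
    rw [algebraMap_smul]


set_option backward.isDefEq.respectTransparency false in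
theorem δ_nat (h : Algebra.H1Cotangent S T) :
    Algebra.H1Cotangent.δ R S T' (Algebra.H1Cotangent.map S S T T' h)
      = τ R S T T' (Algebra.H1Cotangent.δ R S T h) := by
  obtain ⟨x, hx⟩ := h
  obtain ⟨y, rfl⟩ := Extension.Cotangent.mk_surjective x
  unfold Algebra.H1Cotangent.δ Algebra.H1Cotangent.map
  change Generators.H1Cotangent.δ _ _ ⟨_, _⟩ = τ R S T T' (Generators.H1Cotangent.δ _ _ _)
  simp only [LinearMap.domRestrict_apply, Extension.Cotangent.map_mk, Generators.H1Cotangent.δ_eq_δAux]
  exact δAux_nat y.1

end Nat

section Fields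

variable {E F L : Type u} [Field E] [Field F] [Field L] [Algebra E F] [Algebra E L] [Algebra F L]
  [IsScalarTower E F L]

open Groth.Agent.Lib.Helper21.SepSmooth

theorem δ_bot_injective : Function.Injective (Algebra.H1Cotangent.δ (⊥ : Subfield E) E F) := by
  have hfs : Algebra.FormallySmooth (⊥ : Subfield E) F := formallySmooth_bot'
  have hsub : Subsingleton (Algebra.H1Cotangent (⊥ : Subfield E) F) := hfs.subsingleton_h1Cotangent
  rw [← LinearMap.ker_eq_bot,
    LinearMap.exact_iff.mp (Algebra.H1Cotangent.exact_map_δ (⊥ : Subfield E) E F)]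
  refine LinearMap.range_eq_bot.mpr (LinearMap.ext fun x => ?_)
  rw [Subsingleton.elim x 0, map_zero]
  rfl

theorem injective_liftBaseChange_map :
    Function.Injective ((Algebra.H1Cotangent.map E E F L).liftBaseChange L) := by
  rw [injective_iff_map_eq_zero]
  intro ξ hξ
  have hΘ : Function.Injective ((Algebra.H1Cotangent.δ (⊥ : Subfield E) E F).baseChange L) := by
    rw [LinearMap.baseChange_eq_ltensor]
    exact Module.Flat.lTensor_preserves_injective_linearMap (M := L) _ δ_bot_injective
  have key : ∀ ξ : L ⊗[F] Algebra.H1Cotangent E F,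
      Algebra.H1Cotangent.δ (⊥ : Subfield E) E L
          ((Algebra.H1Cotangent.map E E F L).liftBaseChange L ξ)
        = TensorProduct.AlgebraTensorModule.cancelBaseChange E F L L Ω[E⁄(⊥ : Subfield E)]
            ((Algebra.H1Cotangent.δ (⊥ : Subfield E) E F).baseChange L ξ) := by
    intro ξ
    induction ξ using TensorProduct.induction_on with
    | zero => simp
    | add a b ha hb => simp only [map_add, ha, hb]
    | tmul l h =>
      rw [LinearMap.liftBaseChange_tmul, map_smul, δ_nat, LinearMap.baseChange_tmul]
      generalize Algebra.H1Cotangent.δ (⊥ : Subfield E) E F h = z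
      induction z using TensorProduct.induction_on with
      | zero => simp
      | add a b ha hb => simp only [map_add, smul_add, tmul_add, ha, hb]
      | tmul f ω =>
        rw [τ_tmul, TensorProduct.AlgebraTensorModule.cancelBaseChange_tmul, smul_tmul',
          smul_eq_mul, Algebra.smul_def, mul_comm]
  apply hΘ
  rw [map_zero]
  apply (TensorProduct.AlgebraTensorModule.cancelBaseChange E F L L
    Ω[E⁄(⊥ : Subfield E)]).injective
  rw [← key, hξ, map_zero, map_zero]

end Fields

end Groth.Agent.Lib.Helper21.RHj
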