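import Mathlib
import Groth.Agent.Lib.Helper6.CartierEq3
import Groth.Agent.Lib.Helper21.RHj

/-!
# The index formula for the comparison maps on `Ω` and `H¹(L)` in a square of fields

For a commutative square of fields `k → K → K'`, `k → k' → K'` with `k'/k` and `K'/K` finitely
generated, the maps `α : K' ⊗ Ω_{K/k} → Ω_{K'/k'}` and `β : K' ⊗ H¹(L_{K/k}) → H¹(L_{K'/k'})` are
Fredholm and `ind β - ind α = trdeg_k k' - trdeg_K K'`.
-/

set_option autoImplicit false
set_option linter.style.haveILetI false

open KaehlerDifferential TensorProduct Module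
open Groth.Agent.Lib.Helper6.CartierEq

universe u

namespace Groth.Agent.Lib.Helper21.RHk

section FredLemmas

variable {L : Type*} [Field L] {U V W Z : Type*} [AddCommGroup U] [Module L U]
  [AddCommGroup V] [Module L V] [AddCommGroup W] [Module L W] [AddCommGroup Z] [Module L Z]

theorem fred_of_exact (g : U →ₗ[L] V) (f : V →ₗ[L] W) (ψ : W →ₗ[L] Z)
    (h1 : Function.Exact g f) (h2 : Function.Exact f ψ)
    [Module.Finite L (LinearMap.range g)] [Module.Finite L (LinearMap.range ψ)] :
    Fred f ((finrank L (LinearMap.range ψ) : ℤ) - finrank L (LinearMap.range g)) := by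
  have e₁ : LinearMap.ker f ≃ₗ[L] LinearMap.range g :=
    LinearEquiv.ofEq _ _ (LinearMap.exact_iff.mp h1)
  have hr : LinearMap.range f = LinearMap.ker ψ := (LinearMap.exact_iff.mp h2).symm
  have e₂ : (W ⧸ LinearMap.range f) ≃ₗ[L] LinearMap.range ψ :=
    (Submodule.quotEquivOfEq _ _ hr).trans ψ.quotKerEquivRange
  exact ⟨Module.Finite.equiv e₁.symm, Module.Finite.equiv e₂.symm,
    by rw [e₁.finrank_eq, e₂.finrank_eq]⟩

theorem fred_of_injective_exact (f : V →ₗ[L] W) (ψ : W →ₗ[L] Z) (hf : Function.Injective f)
    (h2 : Function.Exact f ψ) [Module.Finite L (LinearMap.range ψ)] :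
    Fred f (finrank L (LinearMap.range ψ) : ℤ) := by
  have hk : LinearMap.ker f = ⊥ := LinearMap.ker_eq_bot.mpr hf
  have hr : LinearMap.range f = LinearMap.ker ψ := (LinearMap.exact_iff.mp h2).symm
  have e₂ : (W ⧸ LinearMap.range f) ≃ₗ[L] LinearMap.range ψ :=
    (Submodule.quotEquivOfEq _ _ hr).trans ψ.quotKerEquivRange
  refine ⟨?_, Module.Finite.equiv e₂.symm, ?_⟩
  · rw [hk]; infer_instance
  · rw [e₂.finrank_eq, hk, finrank_bot]; simp

theorem fred_of_exact_surjective (g : U →ₗ[L] V) (f : V →ₗ[L] W)
    (h1 : Function.Exact g f) (hf : Function.Surjective f)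
    [Module.Finite L (LinearMap.range g)] :
    Fred f (-(finrank L (LinearMap.range g) : ℤ)) := by
  have e₁ : LinearMap.ker f ≃ₗ[L] LinearMap.range g :=
    LinearEquiv.ofEq _ _ (LinearMap.exact_iff.mp h1)
  haveI : Subsingleton (W ⧸ LinearMap.range f) :=
    Submodule.Quotient.subsingleton_iff.mpr (LinearMap.range_eq_top.mpr hf)
  refine ⟨Module.Finite.equiv e₁.symm, inferInstance, ?_⟩
  rw [e₁.finrank_eq, Module.finrank_zero_of_subsingleton]; simp

end FredLemmas

section Main

variable {k k' K K' : Type u} [Field k] [Field k'] [Field K] [Field K'] [Algebra k k']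
  [Algebra k K] [Algebra k K'] [Algebra k' K'] [Algebra K K'] [IsScalarTower k k' K']
  [IsScalarTower k K K']

theorem kaehler_map_map (ω : Ω[K⁄k]) :
    KaehlerDifferential.map k k' K' K' (KaehlerDifferential.map k k K K' ω)
      = KaehlerDifferential.map k k' K K' ω := by
  have hω : ω ∈ Submodule.span K (Set.range (KaehlerDifferential.D k K)) := by
    rw [KaehlerDifferential.span_range_derivation]; trivial
  induction hω using Submodule.span_induction with
  | mem x hx =>
    obtain ⟨a, rfl⟩ := hx
    rw [KaehlerDifferential.map_D, KaehlerDifferential.map_D, KaehlerDifferential.map_D]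
    rfl
  | zero => rw [map_zero, map_zero, map_zero]
  | add x y _ _ hx hy => rw [map_add, map_add, map_add, hx, hy]
  | smul a x _ hx =>
    rw [(KaehlerDifferential.map k k K K').map_smul, (KaehlerDifferential.map k k' K K').map_smul,
      ← hx, ← algebraMap_smul K' a (KaehlerDifferential.map k k K K' x),
      (KaehlerDifferential.map k k' K' K').map_smul, algebraMap_smul]

theorem alpha_factor :
    (KaehlerDifferential.map k k' K K').liftBaseChange K'
      = (KaehlerDifferential.map k k' K' K') ∘ₗ (KaehlerDifferential.mapBaseChange k K K') := by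
  apply LinearMap.ext
  intro w
  induction w using TensorProduct.induction_on with
  | zero => simp only [map_zero]
  | add x y hx hy => simp only [map_add, hx, hy]
  | tmul c ω =>
    rw [LinearMap.liftBaseChange_tmul, LinearMap.comp_apply,
      KaehlerDifferential.mapBaseChange_tmul, map_smul, kaehler_map_map]

theorem h1_map_map (h : Algebra.H1Cotangent k K) :
    Algebra.H1Cotangent.map k k' K' K' (Algebra.H1Cotangent.map k k K K' h)
      = Algebra.H1Cotangent.map k k' K K' h := by
  unfold Algebra.H1Cotangent.map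
  rw [← Algebra.Extension.H1Cotangent.map_comp_apply]
  exact congrFun (congrArg DFunLike.coe (Algebra.Extension.H1Cotangent.map_eq _ _)) h

theorem beta_factor :
    (Algebra.H1Cotangent.map k k' K K').liftBaseChange K'
      = (Algebra.H1Cotangent.map k k' K' K') ∘ₗ
          (Algebra.H1Cotangent.map k k K K').liftBaseChange K' := by
  apply LinearMap.ext
  intro w
  induction w using TensorProduct.induction_on with
  | zero => simp only [map_zero]
  | add x y hx hy => simp only [map_add, hx, hy]
  | tmul c h =>
    rw [LinearMap.liftBaseChange_tmul, LinearMap.comp_apply, LinearMap.liftBaseChange_tmul,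
      map_smul, h1_map_map]

theorem main [Algebra.EssFiniteType k k'] [Algebra.EssFiniteType K K'] :
    ∃ nα nβ : ℤ, Fred ((KaehlerDifferential.map k k' K K').liftBaseChange K') nα ∧
      Fred ((Algebra.H1Cotangent.map k k' K K').liftBaseChange K') nβ ∧
      nβ - nα = (Cardinal.toNat (Algebra.trdeg k k') : ℤ) - Cardinal.toNat (Algebra.trdeg K K') := by
  obtain ⟨fH, fΩ, nK, hnK, hK⟩ := exact_of_essFiniteType K K'
  obtain ⟨fH', fΩ', nk, hnk, hk⟩ := exact_of_essFiniteType k k'
  have x1 := Algebra.H1Cotangent.exact_liftBaseChange_map_of_flat k K K'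
  have x2 := Algebra.H1Cotangent.exact_map_δ k K K'
  have x3 := Algebra.H1Cotangent.exact_δ_mapBaseChange k K K'
  have x4 := KaehlerDifferential.exact_mapBaseChange_map k K K'
  have x5 := KaehlerDifferential.map_surjective k K K'
  have y1 := Algebra.H1Cotangent.exact_liftBaseChange_map_of_flat k k' K'
  have y2 := Algebra.H1Cotangent.exact_map_δ k k' K'
  have y3 := Algebra.H1Cotangent.exact_δ_mapBaseChange k k' K'
  have y4 := KaehlerDifferential.exact_mapBaseChange_map k k' K'
  have y5 := KaehlerDifferential.map_surjective k k' K'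
  have inj1 := RHj.injective_liftBaseChange_map (E := k) (F := K) (L := K')
  have inj2 := RHj.injective_liftBaseChange_map (E := k) (F := k') (L := K')
  have Fβ₁ := fred_of_injective_exact _ _ inj1 x1
  have Fα₁ := fred_of_exact _ _ _ x3 x4
  have Fβ₂ := fred_of_exact _ _ _ y1 y2
  have Fα₂ := fred_of_exact_surjective _ _ y4 y5
  have Fα := Fα₁.comp Fα₂
  rw [← alpha_factor] at Fα
  have Fβ := Fβ₁.comp Fβ₂
  rw [← beta_factor] at Fβ
  refine ⟨_, _, Fα, Fβ, ?_⟩
  have r1 : finrank K' (LinearMap.range (KaehlerDifferential.map k K K' K')) = finrank K' Ω[K'⁄K] := by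
    rw [LinearMap.range_eq_top.mpr x5, finrank_top]
  have r2 := LinearMap.finrank_range_add_finrank_ker (Algebra.H1Cotangent.δ k K K')
  rw [LinearMap.exact_iff.mp x2] at r2
  have r3 := LinearMap.finrank_range_add_finrank_ker (KaehlerDifferential.mapBaseChange k k' K')
  rw [LinearMap.exact_iff.mp y3] at r3
  have r4 : finrank K' (LinearMap.range ((Algebra.H1Cotangent.map k k k' K').liftBaseChange K'))
      = finrank k' (Algebra.H1Cotangent k k') := by
    rw [LinearMap.finrank_range_of_inj inj2, Module.finrank_baseChange]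
  have r5 : finrank K' (K' ⊗[k'] Ω[k'⁄k]) = finrank k' Ω[k'⁄k] := Module.finrank_baseChange
  rw [hnK, hnk, Cardinal.toNat_natCast, Cardinal.toNat_natCast]
  omega

end Main

end Groth.Agent.Lib.Helper21.RHk
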