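import Mathlib
import Groth.Agent.Lib.Helper18.DRFib2
import Groth.Agent.Lib.Helper18.DRTorF

/-!
# Derived tensor with a module on bounded above flat complexes; a local fibre criterion (helper21)

* `nonempty_LTensor_iso_of_flat`: `- ⊗^L M` is computed termwise on bounded above complexes of
  flat modules.
* `exact_lTensor_of_isZero_H_LTensor`: vanishing of `H^j(G ⊗^L M)` gives exactness of `M ⊗ G`.
* `hasTorAmplitudeIn_of_local_fibre`: for a flat local homomorphism `A → B` of local rings whose
  closed fibre ring has global dimension `≤ d`, a pseudo-coherent `K` over `B` whose derived fibre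
  `K|_A ⊗^L κ(A)` is acyclic outside `[a, b]` has tor amplitude in `[a - d, b]` over `B`
  (helper18's proof of S6977, with the hypothesis phrased through `DRing.LTensor`).
-/

set_option autoImplicit false
set_option linter.style.haveILetI false
universe u
open CategoryTheory CategoryTheory.Limits CategoryTheory.Pretriangulated DerivedCategory
open TensorProduct MonoidalCategory

attribute [local instance] HasDerivedCategory.standard

namespace Groth.Agent.Lib.Helper21.RHl

open Groth.Agent.Lib.Helper18.DR

section LT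

variable {A : Type u} [CommRing A] (M : ModuleCat.{u} A) [DRing.HasLTensor A M]

/-- derived tensor product of a bounded above complex of flat modules is computed termwise -/
theorem nonempty_LTensor_iso_of_flat (G : DRing.Cx A) (c : ℤ) (hGc : DRing.VanishesAbove G c)
    (hGflat : DRing.TermwiseFlat G) :
    Nonempty ((DRing.LTensor A M).obj (DRing.toD G) ≅
      DRing.toD (((tensorRight M).mapHomologicalComplex (ComplexShape.up ℤ)).obj G)) := by
  haveI : (DRing.toD G).IsLE c := isLE_toD_of_vanishesAbove G c hGc
  obtain ⟨E, hEb, hEfree, ⟨eE⟩⟩ := exists_free_resolution (DRing.toD G) c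
  have hEproj : ∀ i, Module.Projective A (E.X i) := fun i => by
    haveI := hEfree i; exact Module.Projective.of_free
  have hEflat : DRing.TermwiseFlat E := fun i => by haveI := hEproj i; infer_instance
  haveI : E.IsKProjective := isKProjective_of_vanishesAbove E c hEb hEproj
  obtain ⟨f, hf⟩ := exists_map_eq E G eE.hom
  have hiso : IsIso (DerivedCategory.Q.map f) := by rw [hf]; infer_instance
  haveI := (tensorLike_tensorRight M).isIso_Q_map E G f c
    (VanishesAbove.mono hEb (by omega)) hGc hEflat hGflat hiso
  exact ⟨(DRing.LTensor A M).mapIso eE.symm ≪≫ LTensorIso M E ≪≫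
    asIso (DerivedCategory.Q.map
      (((tensorRight M).mapHomologicalComplex (ComplexShape.up ℤ)).map f))⟩

theorem exact_lTensor_of_isZero_H_LTensor (G : DRing.Cx A) (c : ℤ)
    (hGc : DRing.VanishesAbove G c) (hGflat : DRing.TermwiseFlat G) (j : ℤ)
    (hH : IsZero ((H A j).obj ((DRing.LTensor A M).obj (DRing.toD G))))
    (i k : ℤ) (hij : i + 1 = j) (hjk : j + 1 = k) :
    Function.Exact ((G.d i j).hom.lTensor M) ((G.d j k).hom.lTensor M) := by
  obtain ⟨e⟩ := nonempty_LTensor_iso_of_flat M G c hGc hGflat
  have h1 : IsZero ((H A j).obj (DRing.toD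
      (((tensorRight M).mapHomologicalComplex (ComplexShape.up ℤ)).obj G))) :=
    hH.of_iso ((H A j).mapIso e.symm)
  have h2 := (isZero_H_toD_iff _ i j k hij hjk).mp h1
  exact ((tensorLike_tensorRight M).exact_iff (G.d i j) (G.d j k)).mp h2

/-- the converse: exactness of `M ⊗ G` gives the vanishing of `H^j(G ⊗^L M)` -/
theorem isZero_H_LTensor_of_exact_lTensor (G : DRing.Cx A) (c : ℤ)
    (hGc : DRing.VanishesAbove G c) (hGflat : DRing.TermwiseFlat G) (j : ℤ)
    (i k : ℤ) (hij : i + 1 = j) (hjk : j + 1 = k)
    (hex : Function.Exact ((G.d i j).hom.lTensor M) ((G.d j k).hom.lTensor M)) :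
    IsZero ((H A j).obj ((DRing.LTensor A M).obj (DRing.toD G))) := by
  obtain ⟨e⟩ := nonempty_LTensor_iso_of_flat M G c hGc hGflat
  have h2 := ((tensorLike_tensorRight M).exact_iff (G.d i j) (G.d j k)).mpr hex
  have h1 := (isZero_H_toD_iff
    (((tensorRight M).mapHomologicalComplex (ComplexShape.up ℤ)).obj G) i j k hij hjk).mpr h2
  exact h1.of_iso ((H A j).mapIso e)

end LT

section core

variable {A B : Type u} [CommRing A] [CommRing B] [Algebra A B]

/-- the exactness form of helper18's S6977 -/
theorem hasTorAmplitudeIn_of_local_fibre_exact [IsLocalRing A] [IsLocalRing B]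
    [IsLocalHom (algebraMap A B)] [Module.Flat A B] (d : ℕ)
    (hgl : ∀ (M : Type u) [AddCommGroup M]
      [Module (B ⧸ (IsLocalRing.maximalIdeal A).map (algebraMap A B)) M],
      HasProjectiveDimensionLT
        (ModuleCat.of (B ⧸ (IsLocalRing.maximalIdeal A).map (algebraMap A B)) M) (d + 1))
    (a b : ℤ) (F : DRing.Cx B) (c : ℤ) (hFc : DRing.VanishesAbove F c)
    (hFff : DRing.TermwiseFiniteFree F)
    (hex : ∀ i j k : ℤ, i + 1 = j → j + 1 = k → (j < a ∨ b < j) →
      Function.Exact
        (((ModuleCat.restrictScalars.{u} (algebraMap A B)).map (F.d i j)).hom.lTensor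
          (A ⧸ IsLocalRing.maximalIdeal A))
        (((ModuleCat.restrictScalars.{u} (algebraMap A B)).map (F.d j k)).hom.lTensor
          (A ⧸ IsLocalRing.maximalIdeal A))) :
    DRing.HasTorAmplitudeIn B (a - d) b (DRing.toD F) := by
  have hFproj : ∀ i, Module.Projective B (F.X i) := fun i => by
    haveI := (hFff i).2; exact Module.Projective.of_free
  haveI := isPushout_quotient (B := B) (IsLocalRing.maximalIdeal A)
  refine hasTorAmplitudeIn_of_fibres F c hFc hFff (a - d) b ?_
  intro m hm i j k hij hjk hj
  have hle : (IsLocalRing.maximalIdeal A).map (algebraMap A B) ≤ m := by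
    rw [IsLocalRing.eq_maximalIdeal hm]
    exact ((IsLocalRing.local_hom_TFAE (algebraMap A B)).out 0 2).mp
      ‹IsLocalHom (algebraMap A B)›
  letI : Algebra (B ⧸ (IsLocalRing.maximalIdeal A).map (algebraMap A B)) (B ⧸ m) :=
    (Ideal.Quotient.factor hle).toAlgebra
  haveI : IsScalarTower B (B ⧸ (IsLocalRing.maximalIdeal A).map (algebraMap A B)) (B ⧸ m) :=
    IsScalarTower.of_algebraMap_eq (fun r => rfl)
  exact lTensor_exact_of_pushout_fibre (A := A) (κ := A ⧸ IsLocalRing.maximalIdeal A)
    (C := B ⧸ (IsLocalRing.maximalIdeal A).map (algebraMap A B)) (κ' := B ⧸ m) d hgl F c hFc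
    hFproj a b hex i j k hij hjk hj

/-- S6977 of helper18 with the fibre hypothesis phrased through `DRing.LTensor` -/
theorem hasTorAmplitudeIn_of_local_fibre [IsLocalRing A] [IsLocalRing B]
    [IsLocalHom (algebraMap A B)] [Module.Flat A B] (d : ℕ)
    (hgl : ∀ (M : Type u) [AddCommGroup M]
      [Module (B ⧸ (IsLocalRing.maximalIdeal A).map (algebraMap A B)) M],
      HasProjectiveDimensionLT
        (ModuleCat.of (B ⧸ (IsLocalRing.maximalIdeal A).map (algebraMap A B)) M) (d + 1))
    [DRing.HasLTensor A (ModuleCat.of A (IsLocalRing.ResidueField A))] (a b : ℤ) (K : Dual.D B)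
    (hK : DRing.IsPseudoCoherent' B K)
    (h : ∀ i : ℤ, (i < a ∨ b < i) → IsZero ((H A i).obj
      ((DRing.LTensor A (ModuleCat.of A (IsLocalRing.ResidueField A))).obj
        ((DRing.restrictD (algebraMap A B)).obj K)))) :
    DRing.HasTorAmplitudeIn B (a - d) b K := by
  obtain ⟨F, c, hFc, hFff, ⟨e⟩⟩ := hK
  have hFproj : ∀ i, Module.Projective B (F.X i) := fun i => by
    haveI := (hFff i).2; exact Module.Projective.of_free
  have hFflat : DRing.TermwiseFlat F := fun i => by haveI := hFproj i; infer_instance
  let G : DRing.Cx A := ((ModuleCat.restrictScalars.{u} (algebraMap A B)).mapHomologicalComplex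
    (ComplexShape.up ℤ)).obj F
  have hGc : DRing.VanishesAbove G c :=
    vanishesAbove_mapHC (ModuleCat.restrictScalars.{u} (algebraMap A B)) F c hFc
  have hGflat : DRing.TermwiseFlat G := fun i => by
    haveI := hFflat i
    exact flat_restrictScalars (F.X i)
  let eG : (DRing.restrictD (algebraMap A B)).obj K ≅ DRing.toD G :=
    (DRing.restrictD (algebraMap A B)).mapIso e.symm ≪≫
      (ModuleCat.restrictScalars.{u} (algebraMap A B)).mapDerivedCategoryFactors.app F
  have hex : ∀ i j k : ℤ, i + 1 = j → j + 1 = k → (j < a ∨ b < j) →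
      Function.Exact
        (((ModuleCat.restrictScalars.{u} (algebraMap A B)).map (F.d i j)).hom.lTensor
          (A ⧸ IsLocalRing.maximalIdeal A))
        (((ModuleCat.restrictScalars.{u} (algebraMap A B)).map (F.d j k)).hom.lTensor
          (A ⧸ IsLocalRing.maximalIdeal A)) :=
    fun i j k hij hjk hj => exact_lTensor_of_isZero_H_LTensor
      (ModuleCat.of A (IsLocalRing.ResidueField A)) G c hGc hGflat j
      ((h j hj).of_iso ((H _ j).mapIso ((DRing.LTensor A _).mapIso eG.symm))) i k hij hjk
  exact hasTorAmplitudeIn_of_iso e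
    (hasTorAmplitudeIn_of_local_fibre_exact d hgl a b F c hFc hFff hex)

end core

end Groth.Agent.Lib.Helper21.RHl
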