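import Mathlib
import Groth.Agent.Lib.Helper21.RHl
import Groth.Agent.Lib.Helper18.FbcB
import Groth.Agent.Lib.Helper18.BCHom6
import Groth.Agent.Lib.Helper18.ShrA
import Groth.Agent.Lib.Helper18.DRPCRestr
import Groth.Agent.Lib.Helper25.PCFlatFP
import Groth.Agent.Lib.Helper14.CMMod.Fib
import Groth.Agent.Lib.Helper26.SerreReg
import Groth.Agent.S0563

/-!
# Tor amplitude of the localization of a pseudo-coherent complex from its fibre (helper21)

Stacks 0GEG-type statement: for `A = R[x_1, …, x_d]/I` flat of finite presentation over `R`, a
prime `q` of `A` over `p`, and `K` pseudo-coherent over `A`: if `K_q ⊗^L_{R_p} κ(p)` is acyclic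
outside `[a, b]` then `K_q` has tor amplitude in `[a - d, b]` over `R`.
-/

set_option autoImplicit false
set_option linter.style.haveILetI false
universe u
open CategoryTheory CategoryTheory.Limits CategoryTheory.Pretriangulated DerivedCategory
open TensorProduct

attribute [local instance] HasDerivedCategory.standard

namespace Groth.Agent.Lib.Helper21.RHm

open Groth.Agent.Lib.Helper18.DR Groth.Agent.Lib.Helper21.RHl

section dim

/-- the fibre local rings of a polynomial ring in `n` variables have dimension `≤ n` -/
theorem ringKrullDim_fibLocRing_mvPolynomial_le (R : Type u) [CommRing R] (n : ℕ)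
    (Q : Ideal (MvPolynomial (Fin n) R)) [Q.IsPrime] :
    ringKrullDim (EGA4.FibLocRing R (MvPolynomial (Fin n) R) Q) ≤ n := by
  haveI : (Q.comap (algebraMap R (MvPolynomial (Fin n) R))).IsPrime := Ideal.IsPrime.comap _
  refine Groth.Agent.Lib.Helper14.CMMod.fibLocRing_of_fiber R (MvPolynomial (Fin n) R)
    (Q.comap (algebraMap R (MvPolynomial (Fin n) R))) (fun X _ => ringKrullDim X ≤ n)
    (fun X Y _ _ e hX => by rw [← ringKrullDim_eq_of_ringEquiv e]; exact hX) ?_ Q rfl
  intro 𝔮 _
  set p := Q.comap (algebraMap R (MvPolynomial (Fin n) R)) with hp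
  have e : p.Fiber (MvPolynomial (Fin n) R) ≃ₐ[p.ResidueField]
      MvPolynomial (Fin n) p.ResidueField := MvPolynomial.algebraTensorAlgEquiv R p.ResidueField
  have hdim : ringKrullDim (p.Fiber (MvPolynomial (Fin n) R)) = n := by
    rw [ringKrullDim_eq_of_ringEquiv e.toRingEquiv, MvPolynomial.ringKrullDim_of_isNoetherianRing,
      ringKrullDim_eq_zero_of_field, zero_add, Nat.card_fin]
  rw [IsLocalization.AtPrime.ringKrullDim_eq_height 𝔮 (Localization.AtPrime 𝔮), ← hdim]
  exact Ideal.height_le_ringKrullDim_of_isPrime

end dim

section restr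

variable {A B : Type u} [CommRing A] [CommRing B] [Algebra A B]

/-- restriction of scalars along a flat algebra preserves tor amplitude -/
theorem hasTorAmplitudeIn_restrictD_of_flat [Module.Flat A B] (K : Dual.D B) (a b : ℤ)
    (hK : DRing.HasTorAmplitudeIn B a b K) :
    DRing.HasTorAmplitudeIn A a b ((DRing.restrictD (algebraMap A B)).obj K) := by
  obtain ⟨E, hE, hEf, ⟨e⟩⟩ := hK
  refine ⟨((ModuleCat.restrictScalars.{u} (algebraMap A B)).mapHomologicalComplex
    (ComplexShape.up ℤ)).obj E,
    vanishesOutside_mapHC (ModuleCat.restrictScalars.{u} (algebraMap A B)) E a b hE,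
    fun j => ?_, ⟨?_⟩⟩
  · haveI : Module.Flat B (E.X j) := hEf j
    exact flat_restrictScalars (E.X j)
  · exact ((ModuleCat.restrictScalars.{u} (algebraMap A B)).mapDerivedCategoryFactors.app E).symm ≪≫
      (DRing.restrictD (algebraMap A B)).mapIso e

end restr

section main

variable (R A : Type u) [CommRing R] [CommRing A] [Algebra R A] [Module.Flat R A]
  [Algebra.FinitePresentation R A] (d : ℕ)
  [Algebra (MvPolynomial (Fin d) R) A] [IsScalarTower R (MvPolynomial (Fin d) R) A]

/-- a flat finitely presented quotient of a polynomial ring is a pseudo-coherent module over it -/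
theorem isPseudoCoherentModule'_of_surjective
    (hψ : Function.Surjective (algebraMap (MvPolynomial (Fin d) R) A)) :
    DRing.IsPseudoCoherentModule' (MvPolynomial (Fin d) R) A := by
  have hker : (RingHom.ker (IsScalarTower.toAlgHom R (MvPolynomial (Fin d) R) A).toRingHom).FG :=
    Algebra.FinitePresentation.ker_fG_of_surjective
      (IsScalarTower.toAlgHom R (MvPolynomial (Fin d) R) A) hψ
  haveI : Module.FinitePresentation (MvPolynomial (Fin d) R) A := by
    refine Module.finitePresentation_of_surjective
      (Algebra.linearMap (MvPolynomial (Fin d) R) A) hψ ?_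
    have h1 : LinearMap.ker (Algebra.linearMap (MvPolynomial (Fin d) R) A) =
        RingHom.ker (IsScalarTower.toAlgHom R (MvPolynomial (Fin d) R) A).toRingHom := by
      ext x
      rw [LinearMap.mem_ker, RingHom.mem_ker]
      rfl
    rw [h1]
    exact hker
  exact Groth.Agent.Lib.Helper25.PCFlatFP.isPseudoCoherentModule'_of_flat_fp R d A

theorem main (hψ : Function.Surjective (algebraMap (MvPolynomial (Fin d) R) A))
    (q : Ideal A) [q.IsPrime] (p : Ideal R) [p.IsPrime]
    (hpq : p = Ideal.comap (algebraMap R A) q)
    [DRing.HasLBaseChange (algebraMap A (Localization.AtPrime q))]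
    [DRing.HasLTensor (Localization.AtPrime p)
      (ModuleCat.of (Localization.AtPrime p) p.ResidueField)]
    (K : Dual.D A) (hK : DRing.IsPseudoCoherent' A K) (a b : ℤ)
    (hfib : ∀ i : ℤ, i < a ∨ b < i → Subsingleton (Dual.HD (Localization.AtPrime p)
      ((DRing.LTensor (Localization.AtPrime p)
        (ModuleCat.of (Localization.AtPrime p) p.ResidueField)).obj
        ((DRing.restrictD (Localization.localRingHom p q (algebraMap R A) hpq)).obj
          ((DRing.LBaseChange (algebraMap A (Localization.AtPrime q))).obj K))) i)) :
    DRing.HasTorAmplitudeIn R (a - d) b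
      ((DRing.restrictD (algebraMap R (Localization.AtPrime q))).obj
        ((DRing.LBaseChange (algebraMap A (Localization.AtPrime q))).obj K)) := by
  classical
  obtain ⟨q', hq'⟩ : ∃ q' : Ideal (MvPolynomial (Fin d) R),
      q' = q.comap (algebraMap (MvPolynomial (Fin d) R) A) := ⟨_, rfl⟩
  haveI hq'prime : q'.IsPrime := by rw [hq']; exact Ideal.comap_isPrime _ q
  have hpq' : p = q'.comap (algebraMap R (MvPolynomial (Fin d) R)) := by
    rw [hq', Ideal.comap_comap, ← IsScalarTower.algebraMap_eq]
    exact hpq
  haveI : q'.LiesOver p := ⟨hpq'⟩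
  haveI : q.LiesOver q' := ⟨hq'⟩
  haveI : q.LiesOver p := ⟨hpq⟩
  letI alg1 : Algebra (Localization.AtPrime p) (Localization.AtPrime q') :=
    Localization.AtPrime.algebraOfLiesOver p q'
  letI alg2 : Algebra (Localization.AtPrime q') (Localization.AtPrime q) :=
    Localization.AtPrime.algebraOfLiesOver q' q
  letI alg3 : Algebra (Localization.AtPrime p) (Localization.AtPrime q) :=
    Localization.AtPrime.algebraOfLiesOver p q
  -- flatness
  haveI : Module.Flat (Localization.AtPrime p) (Localization.AtPrime q') :=
    (Module.flat_iff_of_isLocalization (Localization.AtPrime p) p.primeCompl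
      (Localization.AtPrime q')).mpr inferInstance
  -- the fibre ring
  have hI : (IsLocalRing.maximalIdeal (Localization.AtPrime p)).map
      (algebraMap (Localization.AtPrime p) (Localization.AtPrime q')) =
      (q'.comap (algebraMap R (MvPolynomial (Fin d) R))).map
        (algebraMap R (Localization.AtPrime q')) := by
    rw [← hpq', ← Localization.AtPrime.map_eq_maximalIdeal, Ideal.map_map,
      ← IsScalarTower.algebraMap_eq]
  let eC : EGA4.FibLocRing R (MvPolynomial (Fin d) R) q' ≃+*
      (Localization.AtPrime q' ⧸ (IsLocalRing.maximalIdeal (Localization.AtPrime p)).map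
        (algebraMap (Localization.AtPrime p) (Localization.AtPrime q'))) :=
    Ideal.quotEquivOfEq hI.symm
  haveI hCreg : IsRegularLocalRing
      (Localization.AtPrime q' ⧸ (IsLocalRing.maximalIdeal (Localization.AtPrime p)).map
        (algebraMap (Localization.AtPrime p) (Localization.AtPrime q'))) := by
    haveI := Groth.Agent.Lib.Helper14.CMMod.isRegularLocalRing_fibLocRing_mvPolynomial R d q'
    exact IsRegularLocalRing.of_ringEquiv eC
  have hCdim : ringKrullDim
      (Localization.AtPrime q' ⧸ (IsLocalRing.maximalIdeal (Localization.AtPrime p)).map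
        (algebraMap (Localization.AtPrime p) (Localization.AtPrime q'))) ≤ d := by
    rw [← ringKrullDim_eq_of_ringEquiv eC]
    exact ringKrullDim_fibLocRing_mvPolynomial_le R d q'
  obtain ⟨dC, hdC⟩ := Groth.Agent.Lib.Helper26.SerreReg.exists_nat_ringKrullDim
    (Localization.AtPrime q' ⧸ (IsLocalRing.maximalIdeal (Localization.AtPrime p)).map
      (algebraMap (Localization.AtPrime p) (Localization.AtPrime q')))
  have hdle : dC ≤ d := by
    rw [hdC] at hCdim
    exact_mod_cast hCdim
  have hgl : ∀ (M : Type u) [AddCommGroup M]
      [Module (Localization.AtPrime q' ⧸ (IsLocalRing.maximalIdeal (Localization.AtPrime p)).map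
        (algebraMap (Localization.AtPrime p) (Localization.AtPrime q'))) M],
      HasProjectiveDimensionLT (ModuleCat.of
        (Localization.AtPrime q' ⧸ (IsLocalRing.maximalIdeal (Localization.AtPrime p)).map
          (algebraMap (Localization.AtPrime p) (Localization.AtPrime q'))) M) (d + 1) := by
    intro M _ _
    haveI := Groth.Agent.S0563.result _ dC hdC M
    exact hasProjectiveDimensionLT_of_ge _ (dC + 1) (d + 1) (by omega)
  -- pseudo-coherence of the restriction of the localization
  obtain ⟨e1⟩ := HomBC.nonempty_LBaseChange_iso_extD (A := A) (B := Localization.AtPrime q) K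
  have hsub : Algebra.algebraMapSubmonoid A q'.primeCompl = q.primeCompl := by
    ext x
    constructor
    · rintro ⟨y, hy, rfl⟩
      intro hx
      exact hy (by rw [hq']; exact hx)
    · intro hx
      obtain ⟨y, rfl⟩ := hψ x
      exact ⟨y, fun hy => hx (by rw [hq'] at hy; exact hy), rfl⟩
  haveI : IsLocalization (Algebra.algebraMapSubmonoid A q'.primeCompl)
      (Localization.AtPrime q) := by
    rw [hsub]
    infer_instance
  haveI hpo : Algebra.IsPushout (MvPolynomial (Fin d) R) (Localization.AtPrime q') A
      (Localization.AtPrime q) :=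
    (Algebra.isPushout_of_isLocalization q'.primeCompl (Localization.AtPrime q') A
      (Localization.AtPrime q)).symm
  have hA : DRing.IsPseudoCoherentModule' (MvPolynomial (Fin d) R) A :=
    isPseudoCoherentModule'_of_surjective R A d hψ
  have hL : DRing.IsPseudoCoherent' (MvPolynomial (Fin d) R)
      ((DRing.restrictD (algebraMap (MvPolynomial (Fin d) R) A)).obj K) :=
    (isPseudoCoherent_restrictD_iff_of_algebra hA K 0).2.mp hK
  have hK' : DRing.IsPseudoCoherent' (Localization.AtPrime q')
      ((DRing.restrictD (algebraMap (Localization.AtPrime q') (Localization.AtPrime q))).obj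
        ((DRing.LBaseChange (algebraMap A (Localization.AtPrime q))).obj K)) :=
    isPseudoCoherent'_of_iso
      (((Fbc.betaIso (MvPolynomial (Fin d) R) A (Localization.AtPrime q')
        (Localization.AtPrime q)).app K).symm ≪≫
        (DRing.restrictD (algebraMap (Localization.AtPrime q') (Localization.AtPrime q))).mapIso
          e1.symm)
      (isPseudoCoherent'_extD (A := MvPolynomial (Fin d) R) (B := Localization.AtPrime q') _ hL)
  -- the fibre hypothesis
  have hcomp : algebraMap (Localization.AtPrime p) (Localization.AtPrime q) =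
      (algebraMap (Localization.AtPrime q') (Localization.AtPrime q)).comp
        (algebraMap (Localization.AtPrime p) (Localization.AtPrime q')) :=
    IsScalarTower.algebraMap_eq _ _ _
  let e2 := (Shr.resCompIso (algebraMap (Localization.AtPrime p) (Localization.AtPrime q'))
    (algebraMap (Localization.AtPrime q') (Localization.AtPrime q))
    (algebraMap (Localization.AtPrime p) (Localization.AtPrime q)) hcomp).app
      ((DRing.LBaseChange (algebraMap A (Localization.AtPrime q))).obj K)
  have h : ∀ i : ℤ, (i < a ∨ b < i) → IsZero ((H (Localization.AtPrime p) i).obj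
      ((DRing.LTensor (Localization.AtPrime p) (ModuleCat.of (Localization.AtPrime p)
        (IsLocalRing.ResidueField (Localization.AtPrime p)))).obj
        ((DRing.restrictD (algebraMap (Localization.AtPrime p) (Localization.AtPrime q'))).obj
          ((DRing.restrictD (algebraMap (Localization.AtPrime q') (Localization.AtPrime q))).obj
            ((DRing.LBaseChange (algebraMap A (Localization.AtPrime q))).obj K))))) :=
    fun i hi => (isZero_H_of_subsingleton _ i (hfib i hi)).of_iso
      ((H _ i).mapIso ((DRing.LTensor _ _).mapIso e2.symm))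
  have hTA := hasTorAmplitudeIn_of_local_fibre (A := Localization.AtPrime p)
    (B := Localization.AtPrime q') d hgl a b _ hK' h
  -- back to `R`
  have hcomp' : algebraMap R (Localization.AtPrime q) =
      (algebraMap (Localization.AtPrime q') (Localization.AtPrime q)).comp
        (algebraMap R (Localization.AtPrime q')) :=
    IsScalarTower.algebraMap_eq _ _ _
  let e3 := (Shr.resCompIso (algebraMap R (Localization.AtPrime q'))
    (algebraMap (Localization.AtPrime q') (Localization.AtPrime q))
    (algebraMap R (Localization.AtPrime q)) hcomp').app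
      ((DRing.LBaseChange (algebraMap A (Localization.AtPrime q))).obj K)
  exact hasTorAmplitudeIn_of_iso e3.symm
    (hasTorAmplitudeIn_restrictD_of_flat (A := R) (B := Localization.AtPrime q') _ _ _ hTA)

end main

end Groth.Agent.Lib.Helper21.RHm
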