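import Mathlib
import Groth.Agent.Lib.Helper21.RHl
import Groth.Agent.Lib.Helper18.DRDesc
import Groth.Agent.Lib.Helper18.DRTorF
import Groth.Agent.Lib.Helper18.DRFib2

/-!
# Fibres of complexes over a polynomial ring, prime by prime (helper21)

* `lTensor_exact_extM_of_exact`: the converse of helper18's `lTensor_exact_of_extM`.
* `hgl_fiber`: the fibre rings `κ(p) ⊗_R R[x_1, …, x_d]` have global dimension `≤ d`.
* `exact_lTensor_residueField`: for a bounded above complex `F` of projective `R[x]`-modules whose
  fibre `κ(p) ⊗_R F` is exact below `a`, the fibre `κ(x) ⊗_{R[x]} F` at a prime `x` over `p` is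
  exact below `a - d`.
* `hasTorAmplitudeIn_localization`: exactness of `κ(x) ⊗ F` below `a'` gives tor amplitude
  `[a', c]` for the localization `F_x` over `R[x]_x`.
* `flat_cok_of_hasTorAmplitudeIn`: tor amplitude `[n, b]` makes `coker (G^{n-1} → G^n)` flat.
-/

set_option autoImplicit false
set_option linter.style.haveILetI false
universe u
open CategoryTheory CategoryTheory.Limits CategoryTheory.Pretriangulated DerivedCategory
open TensorProduct MonoidalCategory

attribute [local instance] HasDerivedCategory.standard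
attribute [local instance] Algebra.TensorProduct.rightAlgebra

namespace Groth.Agent.Lib.Helper21.RHn

open Groth.Agent.Lib.Helper18.DR Groth.Agent.Lib.Helper21.RHl

section triv

lemma exact_of_subsingleton {R : Type*} [Ring R] {X Y Z : Type*} [AddCommGroup X]
    [AddCommGroup Y] [AddCommGroup Z] [Module R X] [Module R Y] [Module R Z]
    (f : X →ₗ[R] Y) (g : Y →ₗ[R] Z) [Subsingleton Y] : Function.Exact f g := fun y =>
  ⟨fun _ => ⟨0, Subsingleton.elim _ _⟩, fun _ => by rw [Subsingleton.elim y 0, map_zero]⟩

lemma subsingleton_tensor_right (R : Type*) [CommRing R] (N Y : Type*) [AddCommGroup N]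
    [Module R N] [AddCommGroup Y] [Module R Y] [Subsingleton Y] : Subsingleton (N ⊗[R] Y) :=
  ⟨fun a b => by
    have h0 : ∀ z : N ⊗[R] Y, z = 0 := fun z => by
      induction z using TensorProduct.induction_on with
      | zero => rfl
      | tmul n y => rw [Subsingleton.elim y 0, TensorProduct.tmul_zero]
      | add x y hx hy => rw [hx, hy, add_zero]
    rw [h0 a, h0 b]⟩

end triv

section nat

variable {R : Type u} [CommRing R] {S : Type u} [CommRing S] [Algebra R S] (κ : Type u)
  [CommRing κ] [Algebra S κ] [Algebra R κ] [IsScalarTower R S κ]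

/-- exactness of `κ ⊗_R -` gives exactness of `κ ⊗_S (S ⊗_R -)` -/
lemma lTensor_exact_extM_of_exact {M₀ M₁ M₂ : ModuleCat.{u} R} (f : M₀ ⟶ M₁) (g : M₁ ⟶ M₂)
    (h : Function.Exact (f.hom.lTensor κ) (g.hom.lTensor κ)) :
    Function.Exact (((extM (A := R) (B := S)).map f).hom.lTensor κ)
      (((extM (A := R) (B := S)).map g).hom.lTensor κ) := by
  have hnat : ∀ {M M' : ModuleCat.{u} R} (f : M ⟶ M'),
      ((extMEquiv (B := S) M' : _ ≃ₗ[S] _) : _ →ₗ[S] _) ∘ₗ ((extM (A := R) (B := S)).map f).hom =
        (f.hom.baseChange S) ∘ₗ ((extMEquiv (B := S) M : _ ≃ₗ[S] _) : _ →ₗ[S] _) := by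
    intro M M' f
    apply LinearMap.ext
    intro x
    exact extMEquiv_naturality f x
  have step1 : ∀ {M M' : ModuleCat.{u} R} (f : M ⟶ M')
      (z : κ ⊗[S] ((extM (A := R) (B := S)).obj M)),
      (LinearEquiv.lTensor κ (extMEquiv (B := S) M'))
        ((((extM (A := R) (B := S)).map f).hom.lTensor κ) z) =
      ((f.hom.baseChange S).lTensor κ) ((LinearEquiv.lTensor κ (extMEquiv (B := S) M)) z) := by
    intro M M' f z
    have h1 := LinearMap.congr_fun (congrArg (LinearMap.lTensor κ) (hnat f)) z
    rw [LinearMap.lTensor_comp, LinearMap.lTensor_comp] at h1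
    exact h1
  let E : ∀ M : ModuleCat.{u} R, κ ⊗[S] ((extM (A := R) (B := S)).obj M) ≃+ κ ⊗[R] M :=
    fun M => (LinearEquiv.lTensor κ (extMEquiv (B := S) M)).toAddEquiv.trans
      (AlgebraTensorModule.cancelBaseChange R S S κ M).toAddEquiv
  have hE : ∀ {M M' : ModuleCat.{u} R} (f : M ⟶ M')
      (z : κ ⊗[S] ((extM (A := R) (B := S)).obj M)),
      E M' ((((extM (A := R) (B := S)).map f).hom.lTensor κ) z) = (f.hom.lTensor κ) (E M z) := by
    intro M M' f z
    change AlgebraTensorModule.cancelBaseChange R S S κ M'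
      ((LinearEquiv.lTensor κ (extMEquiv (B := S) M'))
        ((((extM (A := R) (B := S)).map f).hom.lTensor κ) z)) = _
    rw [step1, cancelBaseChange_naturality]
    rfl
  exact exact_of_ladder' (E M₀) (E M₁) (E M₂) (fun x => hE f x) (fun x => hE g x) h

end nat

section prime

variable {R : Type u} [CommRing R] (d : ℕ)

/-- the fibre rings of a polynomial ring in `d` variables have global dimension `≤ d` -/
theorem hgl_fiber (p : Ideal R) [p.IsPrime] (M : Type u) [AddCommGroup M]
    [Module (p.ResidueField ⊗[R] MvPolynomial (Fin d) R) M] :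
    HasProjectiveDimensionLT
      (ModuleCat.of (p.ResidueField ⊗[R] MvPolynomial (Fin d) R) M) (d + 1) := by
  let e : p.ResidueField ⊗[R] MvPolynomial (Fin d) R ≃ₐ[p.ResidueField]
      MvPolynomial (Fin d) p.ResidueField := MvPolynomial.algebraTensorAlgEquiv R p.ResidueField
  haveI : IsRegularRing (p.ResidueField ⊗[R] MvPolynomial (Fin d) R) :=
    IsRegularRing.of_ringEquiv e.symm.toRingEquiv
  have hdim : ringKrullDim (p.ResidueField ⊗[R] MvPolynomial (Fin d) R) = d := by
    rw [ringKrullDim_eq_of_ringEquiv e.toRingEquiv, MvPolynomial.ringKrullDim_of_isNoetherianRing,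
      ringKrullDim_eq_zero_of_field, zero_add, Nat.card_fin]
  exact globalDim_le_of_regular
    (fun 𝔮 => IsRegularRing.isRegularLocalRing_localization 𝔮.asIdeal) d hdim M

/-- exactness of the fibre over `p` below `a` gives exactness of the fibre at a prime `x` over `p`
below `a - d` -/
theorem exact_lTensor_residueField (F : DRing.Cx (MvPolynomial (Fin d) R)) (c : ℤ)
    (hFc : DRing.VanishesAbove F c)
    (hFproj : ∀ i, Module.Projective (MvPolynomial (Fin d) R) (F.X i))
    (x : Ideal (MvPolynomial (Fin d) R)) [x.IsPrime] (p : Ideal R) [p.IsPrime]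
    (hpx : p = x.comap (algebraMap R (MvPolynomial (Fin d) R))) (a : ℤ)
    (hex : ∀ i j k : ℤ, i + 1 = j → j + 1 = k → j < a → Function.Exact
      (((ModuleCat.restrictScalars.{u} (algebraMap R (MvPolynomial (Fin d) R))).map
        (F.d i j)).hom.lTensor p.ResidueField)
      (((ModuleCat.restrictScalars.{u} (algebraMap R (MvPolynomial (Fin d) R))).map
        (F.d j k)).hom.lTensor p.ResidueField))
    (i j k : ℤ) (hij : i + 1 = j) (hjk : j + 1 = k) (hj : j < a - d) :
    Function.Exact ((F.d i j).hom.lTensor x.ResidueField)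
      ((F.d j k).hom.lTensor x.ResidueField) := by
  let g₁ : p.ResidueField →ₐ[R] x.ResidueField :=
    Ideal.ResidueField.mapₐ p x (Algebra.ofId R (MvPolynomial (Fin d) R)) hpx
  let g₂ : MvPolynomial (Fin d) R →ₐ[R] x.ResidueField :=
    IsScalarTower.toAlgHom R (MvPolynomial (Fin d) R) x.ResidueField
  let ψ : p.ResidueField ⊗[R] MvPolynomial (Fin d) R →ₐ[R] x.ResidueField :=
    Algebra.TensorProduct.lift g₁ g₂ (fun _ _ => Commute.all _ _)
  letI algC : Algebra (p.ResidueField ⊗[R] MvPolynomial (Fin d) R) x.ResidueField :=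
    ψ.toRingHom.toAlgebra
  haveI : IsScalarTower (MvPolynomial (Fin d) R) (p.ResidueField ⊗[R] MvPolynomial (Fin d) R)
      x.ResidueField :=
    IsScalarTower.of_algebraMap_eq (fun y => by
      change algebraMap (MvPolynomial (Fin d) R) x.ResidueField y =
        ψ ((1 : p.ResidueField) ⊗ₜ[R] y)
      rw [Algebra.TensorProduct.lift_tmul, map_one, one_mul]
      rfl)
  refine lTensor_exact_of_pushout_fibre (A := R) (κ := p.ResidueField)
    (C := p.ResidueField ⊗[R] MvPolynomial (Fin d) R) (κ' := x.ResidueField) d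
    (fun M _ _ => hgl_fiber d p M) F c hFc hFproj a c ?_ i j k hij hjk (Or.inl hj)
  intro i j k hij hjk hj
  rcases hj with hj | hj
  · exact hex i j k hij hjk hj
  · haveI : Subsingleton (F.X j) := ModuleCat.subsingleton_of_isZero (hFc j hj)
    haveI : Subsingleton ((ModuleCat.restrictScalars.{u}
        (algebraMap R (MvPolynomial (Fin d) R))).obj (F.X j)) :=
      inferInstanceAs (Subsingleton (F.X j))
    haveI := subsingleton_tensor_right R p.ResidueField ((ModuleCat.restrictScalars.{u}
        (algebraMap R (MvPolynomial (Fin d) R))).obj (F.X j))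
    exact exact_of_subsingleton _ _

end prime

section loc

variable {P : Type u} [CommRing P]

/-- exactness of `κ(x) ⊗ F` below `a'` gives tor amplitude `[a', c]` for the localization at `x` -/
theorem hasTorAmplitudeIn_localization (F : DRing.Cx P) (c : ℤ) (hFc : DRing.VanishesAbove F c)
    (hFff : DRing.TermwiseFiniteFree F) (x : Ideal P) [x.IsPrime] (a' : ℤ)
    (hex : ∀ i j k : ℤ, i + 1 = j → j + 1 = k → j < a' →
      Function.Exact ((F.d i j).hom.lTensor x.ResidueField)
        ((F.d j k).hom.lTensor x.ResidueField)) :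
    DRing.HasTorAmplitudeIn (Localization.AtPrime x) a' c
      (DRing.toD (((extM (A := P) (B := Localization.AtPrime x)).mapHomologicalComplex
        (ComplexShape.up ℤ)).obj F)) := by
  have hFxc : DRing.VanishesAbove (((extM (A := P)
      (B := Localization.AtPrime x)).mapHomologicalComplex (ComplexShape.up ℤ)).obj F) c :=
    vanishesAbove_mapHC extM F c hFc
  have hFxff : DRing.TermwiseFiniteFree (((extM (A := P)
      (B := Localization.AtPrime x)).mapHomologicalComplex (ComplexShape.up ℤ)).obj F) :=
    fun i => by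
      haveI := (hFff i).1
      haveI := (hFff i).2
      exact ⟨finite_extM (B := Localization.AtPrime x) (F.X i),
        free_extM (B := Localization.AtPrime x) (F.X i)⟩
  refine hasTorAmplitudeIn_of_fibres _ c hFxc hFxff a' c ?_
  intro m hm i j k hij hjk hj
  obtain rfl : m = IsLocalRing.maximalIdeal (Localization.AtPrime x) :=
    IsLocalRing.eq_maximalIdeal hm
  rcases hj with hj | hj
  · exact lTensor_exact_extM_of_exact (S := Localization.AtPrime x) x.ResidueField
      (F.d i j) (F.d j k) (hex i j k hij hjk hj)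
  · haveI : Subsingleton ((((extM (A := P)
        (B := Localization.AtPrime x)).mapHomologicalComplex (ComplexShape.up ℤ)).obj F).X j) :=
      ModuleCat.subsingleton_of_isZero (hFxc j hj)
    haveI := subsingleton_tensor_right (Localization.AtPrime x)
      (Localization.AtPrime x ⧸ IsLocalRing.maximalIdeal (Localization.AtPrime x))
      ((((extM (A := P) (B := Localization.AtPrime x)).mapHomologicalComplex
        (ComplexShape.up ℤ)).obj F).X j)
    exact exact_of_subsingleton _ _

end loc

section cokflat

variable {S : Type u} [CommRing S]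

/-- tor amplitude in `[n, b]` makes the cokernel of `G^{n-1} → G^n` flat -/
theorem flat_cok_of_hasTorAmplitudeIn (G : DRing.Cx S) (c : ℤ) (hGc : DRing.VanishesAbove G c)
    (hGproj : ∀ i, Module.Projective S (G.X i)) (n b : ℤ)
    (hTA : DRing.HasTorAmplitudeIn S n b (DRing.toD G)) : Module.Flat S (cok G (n - 1) n) := by
  haveI : Module.Flat S (G.X n) := by haveI := hGproj n; infer_instance
  apply flat_quotient_of_inf_smul_le
  intro I
  refine inf_smul_le_of_exact (G.d (n - 1 - 1) (n - 1)).hom (G.d (n - 1) n).hom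
    (by rw [← ModuleCat.hom_comp, G.d_comp_d]; rfl) I ?_
  have h1 := (tensorLike_tensorRight (ModuleCat.of S (S ⧸ I))).isZero_H_of_hasTorAmplitudeIn
    G c hGc hGproj n b hTA (n - 1) (Or.inl (by omega))
  have h2 := (isZero_H_toD_iff _ (n - 1 - 1) (n - 1) n (by omega) (by omega)).mp h1
  exact ((tensorLike_tensorRight (ModuleCat.of S (S ⧸ I))).exact_iff _ _).mp h2

end cokflat

end Groth.Agent.Lib.Helper21.RHn
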