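import Mathlib
import Groth.Agent.Lib.Helper21.RHn
import Groth.Agent.Lib.Helper21.RHm

/-!
# Relative perfectness from bounded below fibres (helper21)

* `exists_hasTorAmplitudeIn_of_forall_prime`: a bounded above complex of finite free modules,
  exact in low degrees, all of whose localizations at primes have finite tor dimension, has finite
  tor dimension (quasi-compactness of the spectrum and openness of free loci).
* `exists_hasTorAmplitudeIn_of_fibres`: over a polynomial ring `R[x_1, …, x_d]`, it suffices that
  the fibres `κ(p) ⊗_R F` are exact in low degrees.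
* `isRelPerfect_iff`: Stacks 0GEH for `R → A` flat of finite presentation.
-/

set_option autoImplicit false
set_option linter.style.haveILetI false
universe u
open CategoryTheory CategoryTheory.Limits CategoryTheory.Pretriangulated DerivedCategory
open TensorProduct MonoidalCategory

attribute [local instance] HasDerivedCategory.standard

namespace Groth.Agent.Lib.Helper21.RHo

open Groth.Agent.Lib.Helper18.DR Groth.Agent.Lib.Helper21.RHl Groth.Agent.Lib.Helper21.RHn
  Groth.Agent.Lib.Helper21.RHm

section compact

variable {P : Type u} [CommRing P]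

theorem exists_hasTorAmplitudeIn_of_forall_prime (F : DRing.Cx P) (c : ℤ)
    (hFc : DRing.VanishesAbove F c) (hFff : DRing.TermwiseFiniteFree F) (a₀ : ℤ)
    (hlow : ∀ i, i < a₀ → IsZero ((H P i).obj (DRing.toD F)))
    (hloc : ∀ x : PrimeSpectrum P, ∃ a' : ℤ,
      DRing.HasTorAmplitudeIn (Localization.AtPrime x.asIdeal) a' c
        (DRing.toD (((extM (A := P) (B := Localization.AtPrime x.asIdeal)).mapHomologicalComplex
          (ComplexShape.up ℤ)).obj F))) :
    ∃ n : ℤ, DRing.HasTorAmplitudeIn P n c (DRing.toD F) := by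
  classical
  have hFproj : ∀ i, Module.Projective P (F.X i) := fun i => by
    haveI := (hFff i).2; exact Module.Projective.of_free
  have hFflat : DRing.TermwiseFlat F := fun i => by haveI := hFproj i; infer_instance
  have hhigh : ∀ i, c < i → IsZero ((H P i).obj (DRing.toD F)) := fun i hi =>
    (isZero_H_toD_iff_exactAt F i).mpr (HomologicalComplex.ExactAt.of_isZero (hFc i hi))
  haveI hfp : ∀ i j : ℤ, Module.FinitePresentation P (cok F i j) := fun i j => by
    haveI := (hFff i).1
    haveI := (hFff j).1
    haveI := (hFff j).2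
    refine Module.finitePresentation_of_free_of_surjective
      (LinearMap.range (F.d i j).hom).mkQ (Submodule.mkQ_surjective _) ?_
    rw [Submodule.ker_mkQ, LinearMap.range_eq_map]
    exact (Module.Finite.fg_top).map _
  have hloc1 : ∀ (x : PrimeSpectrum P) (n : ℤ),
      DRing.HasTorAmplitudeIn (Localization.AtPrime x.asIdeal) n c
        (DRing.toD (((extM (A := P) (B := Localization.AtPrime x.asIdeal)).mapHomologicalComplex
          (ComplexShape.up ℤ)).obj F)) →
      x ∈ Module.freeLocus P (cok F (n - 1) n) := by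
    intro x n hTA
    have h1 : Module.Flat (Localization.AtPrime x.asIdeal)
        (cok (((extM (A := P) (B := Localization.AtPrime x.asIdeal)).mapHomologicalComplex
          (ComplexShape.up ℤ)).obj F) (n - 1) n) :=
      flat_cok_of_hasTorAmplitudeIn _ c (vanishesAbove_mapHC extM F c hFc)
        (fun i => by
          haveI := hFproj i
          exact projective_extM (B := Localization.AtPrime x.asIdeal) (F.X i)) n c hTA
    haveI : Module.Flat (Localization.AtPrime x.asIdeal)
        (Localization.AtPrime x.asIdeal ⊗[P] cok F (n - 1) n) :=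
      Module.Flat.of_linearEquiv
        (cokExtMEquiv (B := Localization.AtPrime x.asIdeal) F (n - 1) n).symm
    rw [Module.mem_freeLocus_iff_tensor x (Localization.AtPrime x.asIdeal)]
    exact Module.free_of_flat_of_isLocalRing
  have hloc2 : ∀ (x : PrimeSpectrum P) (n : ℤ), n ≤ a₀ →
      x ∈ Module.freeLocus P (cok F (n - 1) n) →
      DRing.HasTorAmplitudeIn (Localization.AtPrime x.asIdeal) n c
        (DRing.toD (((extM (A := P) (B := Localization.AtPrime x.asIdeal)).mapHomologicalComplex
          (ComplexShape.up ℤ)).obj F)) := by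
    intro x n hn hx
    rw [Module.mem_freeLocus_iff_tensor x (Localization.AtPrime x.asIdeal)] at hx
    haveI := hx
    have hop : Module.Flat (Localization.AtPrime x.asIdeal)
        (cok (((extM (A := P) (B := Localization.AtPrime x.asIdeal)).mapHomologicalComplex
          (ComplexShape.up ℤ)).obj F) (n - 1) n) :=
      Module.Flat.of_linearEquiv (cokExtMEquiv (B := Localization.AtPrime x.asIdeal) F (n - 1) n)
    refine hasTorAmplitudeIn_of_flat_cok _ c n c (n - 1) (by omega)
      (vanishesAbove_mapHC extM F c hFc)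
      (fun i => by
        haveI := hFflat i
        exact flat_extM (B := Localization.AtPrime x.asIdeal) (F.X i)) ?_ ?_ hop
    · intro i hi
      have h0 := hlow i (by omega)
      exact (((extM (A := P) (B := Localization.AtPrime x.asIdeal)).map_isZero h0).of_iso
        (homologyMapDIso (extM (A := P) (B := Localization.AtPrime x.asIdeal))
          (DRing.toD F) i)).of_iso
        ((H _ i).mapIso (mapDToDIso (extM (A := P) (B := Localization.AtPrime x.asIdeal)) F).symm)
    · intro i hi
      exact (isZero_H_toD_iff_exactAt _ i).mpr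
        (HomologicalComplex.ExactAt.of_isZero (vanishesAbove_mapHC extM F c hFc i hi))
  let U : ℕ → Set (PrimeSpectrum P) := fun k =>
    Module.freeLocus P (cok F (a₀ - k - 1) (a₀ - k))
  have hUo : ∀ k, IsOpen (U k) := fun k => Module.isOpen_freeLocus
  have hcover : (Set.univ : Set (PrimeSpectrum P)) ⊆ ⋃ k, U k := by
    intro x _
    obtain ⟨a', ha'⟩ := hloc x
    refine Set.mem_iUnion.mpr ⟨(a₀ - a').toNat, ?_⟩
    exact hloc1 x (a₀ - ((a₀ - a').toNat : ℤ)) (hasTorAmplitudeIn_mono ha' (by omega) le_rfl)
  have hmono : Monotone U := by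
    intro k k' hkk' x hx
    have h1 := hloc2 x (a₀ - k) (by omega) hx
    exact hloc1 x (a₀ - k') (hasTorAmplitudeIn_mono h1 (by omega) le_rfl)
  obtain ⟨k, hk⟩ := isCompact_univ.elim_directed_cover U hUo hcover
    (Monotone.directed_le hmono)
  have hproj : Module.Projective P (cok F (a₀ - k - 1) (a₀ - k)) :=
    Module.freeLocus_eq_univ_iff.mp (Set.eq_univ_of_univ_subset hk)
  have hflat : Module.Flat P (cok F (a₀ - k - 1) (a₀ - k)) := by
    haveI := hproj
    infer_instance
  exact ⟨a₀ - k, hasTorAmplitudeIn_of_flat_cok F c (a₀ - k) c (a₀ - k - 1) (by omega) hFc hFflat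
    (fun i hi => hlow i (by omega)) hhigh hflat⟩

end compact

section poly

variable {R : Type u} [CommRing R] (d : ℕ)

theorem exists_hasTorAmplitudeIn_of_fibres (F : DRing.Cx (MvPolynomial (Fin d) R)) (c : ℤ)
    (hFc : DRing.VanishesAbove F c) (hFff : DRing.TermwiseFiniteFree F) (a₀ : ℤ)
    (hlow : ∀ i, i < a₀ → IsZero ((H (MvPolynomial (Fin d) R) i).obj (DRing.toD F)))
    (hfib : ∀ p : PrimeSpectrum R, ∃ a : ℤ, ∀ i j k : ℤ, i + 1 = j → j + 1 = k → j < a →
      Function.Exact
        (((ModuleCat.restrictScalars.{u} (algebraMap R (MvPolynomial (Fin d) R))).map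
          (F.d i j)).hom.lTensor p.asIdeal.ResidueField)
        (((ModuleCat.restrictScalars.{u} (algebraMap R (MvPolynomial (Fin d) R))).map
          (F.d j k)).hom.lTensor p.asIdeal.ResidueField)) :
    ∃ n : ℤ, DRing.HasTorAmplitudeIn (MvPolynomial (Fin d) R) n c (DRing.toD F) := by
  refine exists_hasTorAmplitudeIn_of_forall_prime F c hFc hFff a₀ hlow (fun x => ?_)
  have hFproj : ∀ i, Module.Projective (MvPolynomial (Fin d) R) (F.X i) := fun i => by
    haveI := (hFff i).2; exact Module.Projective.of_free
  haveI hcp : (x.asIdeal.comap (algebraMap R (MvPolynomial (Fin d) R))).IsPrime :=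
    Ideal.comap_isPrime _ _
  obtain ⟨a, ha⟩ := hfib ⟨x.asIdeal.comap (algebraMap R (MvPolynomial (Fin d) R)), hcp⟩
  exact ⟨a - d, hasTorAmplitudeIn_localization F c hFc hFff x.asIdeal (a - d)
    (fun i j k hij hjk hj => exact_lTensor_residueField d F c hFc hFproj x.asIdeal
      (x.asIdeal.comap (algebraMap R (MvPolynomial (Fin d) R))) rfl a ha i j k hij hjk hj)⟩

end poly

section main

variable (R A : Type u) [CommRing R] [CommRing A] [Algebra R A] [Module.Flat R A]
  [Algebra.FinitePresentation R A]
  [∀ p : PrimeSpectrum R, DRing.HasLTensor R (ModuleCat.of R p.asIdeal.ResidueField)]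

theorem isRelPerfect_of_bounded_below (K : Dual.D A) (hK : DRing.IsPseudoCoherent' A K)
    (h1 : ∃ a : ℤ, ∀ i : ℤ, i < a → Subsingleton (Dual.HD A K i))
    (h2 : ∀ p : PrimeSpectrum R, ∃ a : ℤ, ∀ i : ℤ, i < a →
      Subsingleton (Dual.HD R ((DRing.LTensor R (ModuleCat.of R p.asIdeal.ResidueField)).obj
        ((DRing.restrictD (algebraMap R A)).obj K)) i)) :
    Dual2.IsRelPerfect R A K := by
  classical
  obtain ⟨d, f, hf, -⟩ := Algebra.FinitePresentation.out (R := R) (A := A)
  letI : Algebra (MvPolynomial (Fin d) R) A := f.toRingHom.toAlgebra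
  haveI : IsScalarTower R (MvPolynomial (Fin d) R) A :=
    IsScalarTower.of_algebraMap_eq (fun r => (f.commutes r).symm)
  have hA : DRing.IsPseudoCoherentModule' (MvPolynomial (Fin d) R) A :=
    isPseudoCoherentModule'_of_surjective R A d hf
  have hL : DRing.IsPseudoCoherent' (MvPolynomial (Fin d) R)
      ((DRing.restrictD (algebraMap (MvPolynomial (Fin d) R) A)).obj K) :=
    (isPseudoCoherent_restrictD_iff_of_algebra hA K 0).2.mp hK
  obtain ⟨F, c, hFc, hFff, ⟨e⟩⟩ := hL
  have hFproj : ∀ i, Module.Projective (MvPolynomial (Fin d) R) (F.X i) := fun i => by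
    haveI := (hFff i).2; exact Module.Projective.of_free
  have hFflat : DRing.TermwiseFlat F := fun i => by haveI := hFproj i; infer_instance
  obtain ⟨a₀, ha₀⟩ := h1
  -- vanishing of the low cohomology of `F`
  have hlow : ∀ i, i < a₀ → IsZero ((H (MvPolynomial (Fin d) R) i).obj (DRing.toD F)) := by
    intro i hi
    haveI := ha₀ i hi
    have h3 : IsZero ((ModuleCat.restrictScalars.{u} (algebraMap (MvPolynomial (Fin d) R) A)).obj
        ((H A i).obj K)) := by
      haveI : Subsingleton ((ModuleCat.restrictScalars.{u}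
          (algebraMap (MvPolynomial (Fin d) R) A)).obj ((H A i).obj K)) :=
        inferInstanceAs (Subsingleton (Dual.HD A K i))
      exact ModuleCat.isZero_of_subsingleton _
    exact (h3.of_iso (homologyMapDIso
      (ModuleCat.restrictScalars.{u} (algebraMap (MvPolynomial (Fin d) R) A)) K i)).of_iso
      ((H _ i).mapIso e)
  -- the restriction to `R`
  let G : DRing.Cx R := ((ModuleCat.restrictScalars.{u}
    (algebraMap R (MvPolynomial (Fin d) R))).mapHomologicalComplex (ComplexShape.up ℤ)).obj F
  have hGc : DRing.VanishesAbove G c :=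
    vanishesAbove_mapHC (ModuleCat.restrictScalars.{u} (algebraMap R (MvPolynomial (Fin d) R)))
      F c hFc
  have hGflat : DRing.TermwiseFlat G := fun i => by
    haveI := hFflat i
    exact flat_restrictScalars (F.X i)
  let eR : (DRing.restrictD (algebraMap R A)).obj K ≅ DRing.toD G :=
    (Shr.resCompIso (algebraMap R (MvPolynomial (Fin d) R))
      (algebraMap (MvPolynomial (Fin d) R) A) (algebraMap R A)
      (IsScalarTower.algebraMap_eq R (MvPolynomial (Fin d) R) A)).app K ≪≫
    (DRing.restrictD (algebraMap R (MvPolynomial (Fin d) R))).mapIso e.symm ≪≫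
    (ModuleCat.restrictScalars.{u}
      (algebraMap R (MvPolynomial (Fin d) R))).mapDerivedCategoryFactors.app F
  have hfib : ∀ p : PrimeSpectrum R, ∃ a : ℤ, ∀ i j k : ℤ, i + 1 = j → j + 1 = k → j < a →
      Function.Exact
        (((ModuleCat.restrictScalars.{u} (algebraMap R (MvPolynomial (Fin d) R))).map
          (F.d i j)).hom.lTensor p.asIdeal.ResidueField)
        (((ModuleCat.restrictScalars.{u} (algebraMap R (MvPolynomial (Fin d) R))).map
          (F.d j k)).hom.lTensor p.asIdeal.ResidueField) := by
    intro p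
    obtain ⟨a, ha⟩ := h2 p
    refine ⟨a, fun i j k hij hjk hj => ?_⟩
    exact exact_lTensor_of_isZero_H_LTensor (ModuleCat.of R p.asIdeal.ResidueField) G c hGc
      hGflat j ((isZero_H_of_subsingleton _ j (ha j hj)).of_iso
        ((H _ j).mapIso ((DRing.LTensor R _).mapIso eR.symm))) i k hij hjk
  obtain ⟨n, hn⟩ := exists_hasTorAmplitudeIn_of_fibres d F c hFc hFff a₀ hlow hfib
  refine ⟨hK, n, c, ?_⟩
  have h4 := hasTorAmplitudeIn_restrictD_of_flat (A := R) (B := MvPolynomial (Fin d) R) _ n c hn
  exact hasTorAmplitudeIn_of_iso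
    ((ModuleCat.restrictScalars.{u}
      (algebraMap R (MvPolynomial (Fin d) R))).mapDerivedCategoryFactors.app F ≪≫ eR.symm) h4

theorem bounded_below_of_isRelPerfect (K : Dual.D A) (h : Dual2.IsRelPerfect R A K) :
    (∃ a : ℤ, ∀ i : ℤ, i < a → Subsingleton (Dual.HD A K i)) ∧
      ∀ p : PrimeSpectrum R, ∃ a : ℤ, ∀ i : ℤ, i < a →
        Subsingleton (Dual.HD R ((DRing.LTensor R (ModuleCat.of R p.asIdeal.ResidueField)).obj
          ((DRing.restrictD (algebraMap R A)).obj K)) i) := by
  obtain ⟨-, a, b, E, hE, hEf, ⟨e⟩⟩ := h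
  refine ⟨⟨a, fun i hi => ?_⟩, fun p => ⟨a, fun i hi => ?_⟩⟩
  · have h1 : IsZero ((H R i).obj (DRing.toD E)) :=
      (isZero_H_toD_iff_exactAt E i).mpr (HomologicalComplex.ExactAt.of_isZero (hE i (Or.inl hi)))
    have h2 : IsZero ((H R i).obj ((DRing.restrictD (algebraMap R A)).obj K)) :=
      h1.of_iso ((H R i).mapIso e.symm)
    have h3 : IsZero ((ModuleCat.restrictScalars.{u} (algebraMap R A)).obj ((H A i).obj K)) :=
      h2.of_iso (homologyMapDIso (ModuleCat.restrictScalars.{u} (algebraMap R A)) K i).symm
    haveI : Subsingleton ((ModuleCat.restrictScalars.{u} (algebraMap R A)).obj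
        ((H A i).obj K)) := ModuleCat.subsingleton_of_isZero h3
    exact inferInstanceAs (Subsingleton ((ModuleCat.restrictScalars.{u} (algebraMap R A)).obj
      ((H A i).obj K)))
  · obtain ⟨e'⟩ := nonempty_LTensor_iso_of_flat (ModuleCat.of R p.asIdeal.ResidueField) E b
      (VanishesOutside.above hE) hEf
    have h1 : IsZero ((H R i).obj (DRing.toD
        (((tensorRight (ModuleCat.of R p.asIdeal.ResidueField)).mapHomologicalComplex
          (ComplexShape.up ℤ)).obj E))) :=
      (isZero_H_toD_iff_exactAt _ i).mpr (HomologicalComplex.ExactAt.of_isZero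
        (vanishesOutside_mapHC (tensorRight (ModuleCat.of R p.asIdeal.ResidueField)) E a b hE i
          (Or.inl hi)))
    have h2 : IsZero ((H R i).obj
        ((DRing.LTensor R (ModuleCat.of R p.asIdeal.ResidueField)).obj
          ((DRing.restrictD (algebraMap R A)).obj K))) :=
      h1.of_iso ((H R i).mapIso
        ((DRing.LTensor R (ModuleCat.of R p.asIdeal.ResidueField)).mapIso e.symm ≪≫ e'))
    exact ModuleCat.subsingleton_of_isZero h2

end main

end Groth.Agent.Lib.Helper21.RHo
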