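import Mathlib
import Groth.Prelude.Def_SheafNL
import Groth.Agent.Lib.Helper19.NLHtpy
import Groth.Agent.S7221

/-!
# Base change of the naive cotangent complex (helper21)

* `tensorCotangentHom_injective_of_lTensor`: Mathlib's `Ideal.tensorCotangentHom_injective_of_flat`
  under the weaker hypothesis that `T ⊗ I/I² → T ⊗ S/I²` is injective.
* `cotangent_bc_injective`: for a morphism of extensions `f : P → P'` over a cocartesian square with
  `P'.Ring = R' ⊗ P.Ring`, the map `S' ⊗_S I/I² → I'/I'²` is injective under that hypothesis.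
* `hinj_of_flat_base`, `hinj_of_flat_top`: the hypothesis holds if `R'` is `R`-flat, or if `S` is.
* `isIso_bcMap_of_bijective`, `bcMap_comp`, `isIso_bcMap_sameVars`, `exists_homotopyEquiv_bcMapSelf`.
-/

set_option autoImplicit false
universe u

open CategoryTheory CategoryTheory.Limits TensorProduct HomologicalComplex

namespace Groth.Agent.Lib.Helper21.RHp

open Groth.Agent.Lib.Helper19.DoubleHtpy

section IdealLemma

variable (R : Type*) {S : Type*} [CommRing R] [CommRing S] [Algebra R S]
variable (T : Type*) [CommRing T] [Algebra R T] (I : Ideal S)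

set_option backward.isDefEq.respectTransparency.types false in
set_option backward.defeqAttrib.useBackward true in
/-- `Ideal.tensorCotangentHom` is injective as soon as `T ⊗ I/I² → T ⊗ S/I²` is. -/
lemma tensorCotangentHom_injective_of_lTensor
    (hinj : Function.Injective ((I.cotangentToQuotientSquare.restrictScalars R).lTensor T)) :
    Function.Injective (I.tensorCotangentHom R T) := by
  let a : S →+* T ⊗[R] S := Algebra.TensorProduct.includeRight.toRingHom
  let f : (I.map a).Cotangent →ₗ[T] T ⊗[R] S ⧸ (I.map a) ^ 2 :=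
    (Ideal.cotangentToQuotientSquare _).restrictScalars T
  suffices h : Function.Injective (f ∘ₗ Ideal.tensorCotangentHom R T I) from .of_comp h
  let g : T ⊗[R] I.Cotangent →ₗ[T] T ⊗[R] (S ⧸ I ^ 2) :=
    AlgebraTensorModule.lTensor T T I.cotangentToQuotientSquare
  let hₐ : T ⊗[R] (S ⧸ I ^ 2) ≃ₐ[T] T ⊗[R] S ⧸ (I.map a) ^ 2 :=
    (Algebra.TensorProduct.tensorQuotientEquiv _ _ _ _).trans
      (Ideal.quotientEquivAlgOfEq T (Ideal.map_pow _ _ _))
  have : f ∘ₗ Ideal.tensorCotangentHom R T I = hₐ.toLinearMap ∘ₗ g := by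
    ext x
    obtain ⟨x, rfl⟩ := I.toCotangent_surjective x
    dsimp [f, g, hₐ]
    rw [Ideal.tensorCotangentHom_tmul, one_smul, Ideal.toCotangent_to_quotient_square]
    simp
  rw [this, LinearMap.coe_comp]
  apply hₐ.injective.comp
  exact hinj

/-- the hypothesis holds when `T` is flat -/
lemma hinj_of_flat_base [Module.Flat R T] :
    Function.Injective ((I.cotangentToQuotientSquare.restrictScalars R).lTensor T) := by
  apply Module.Flat.lTensor_preserves_injective_linearMap (M := T)
    (I.cotangentToQuotientSquare.restrictScalars R)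
  apply Ideal.cotangentToQuotientSquare_injective

end IdealLemma

section Top

variable {R S : Type u} [CommRing R] [CommRing S] [Algebra R S]

/-- the hypothesis holds when `S = P/I` is flat over `R` -/
lemma hinj_of_flat_top [Module.Flat R S] (P : Algebra.Extension.{u} R S) (T : Type u)
    [CommRing T] [Algebra R T] :
    Function.Injective ((P.ker.cotangentToQuotientSquare.restrictScalars R).lTensor T) := by
  have hsq : ∀ a ∈ P.ker ^ 2, (IsScalarTower.toAlgHom R P.Ring S) a = 0 := fun a ha =>
    RingHom.mem_ker.mp (Ideal.pow_le_self two_ne_zero ha)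
  let q : (P.Ring ⧸ P.ker ^ 2) →ₗ[R] S :=
    (Ideal.Quotient.liftₐ (P.ker ^ 2) (IsScalarTower.toAlgHom R P.Ring S) hsq).toLinearMap
  have hq : ∀ p : P.Ring, q (Ideal.Quotient.mk _ p) = algebraMap P.Ring S p := fun p => rfl
  refine LinearMap.lTensor_injective_of_exact_of_flat q ?_
    (P.ker.cotangentToQuotientSquare.restrictScalars R) P.ker.cotangentToQuotientSquare_injective
    ?_ T
  · intro s
    obtain ⟨p, rfl⟩ := P.algebraMap_surjective s
    exact ⟨Ideal.Quotient.mk _ p, hq p⟩
  · intro y
    obtain ⟨p, rfl⟩ := Ideal.Quotient.mk_surjective y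
    constructor
    · intro hy
      rw [hq] at hy
      have hp : p ∈ P.ker := RingHom.mem_ker.mpr hy
      exact ⟨P.ker.toCotangent ⟨p, hp⟩, rfl⟩
    · rintro ⟨u, hu⟩
      obtain ⟨⟨x, hx⟩, rfl⟩ := P.ker.toCotangent_surjective u
      rw [← hu]
      show q (Ideal.Quotient.mk _ x) = 0
      rw [hq]
      exact RingHom.mem_ker.mp hx

end Top

section Main

variable {R S R' S' : Type u} [CommRing R] [CommRing S] [CommRing R'] [CommRing S']
  [Algebra R S] [Algebra R' S'] [Algebra R R'] [Algebra S S'] [Algebra R S']
  [IsScalarTower R R' S'] [IsScalarTower R S S']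
  {P : Algebra.Extension.{u} R S} {P' : Algebra.Extension.{u} R' S'}

/-- the `R'`-linear extension of `Cotangent.map f` -/
noncomputable def theta (f : P.Hom P') : R' ⊗[R] P.Cotangent →ₗ[R'] P'.Cotangent :=
  LinearMap.liftBaseChange R' ((Algebra.Extension.Cotangent.map f).restrictScalars R)

theorem theta_tmul (f : P.Hom P') (t : R') (x : P.Cotangent) :
    theta f (t ⊗ₜ[R] x) = t • Algebra.Extension.Cotangent.map f x := by
  rw [theta, LinearMap.liftBaseChange_tmul, LinearMap.restrictScalars_apply]

variable (f : P.Hom P') (Ψ : R' ⊗[R] P.Ring ≃ₐ[R'] P'.Ring)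
  (hΨ : ∀ y : P.Ring, Ψ ((1 : R') ⊗ₜ[R] y) = f.toRingHom y)

include hΨ in
theorem map_includeRight_le :
    P.ker.map (Algebra.TensorProduct.includeRight.toRingHom : P.Ring →+* R' ⊗[R] P.Ring) ≤
      P'.ker.comap Ψ.toAlgHom := by
  rw [Ideal.map_le_iff_le_comap]
  intro y hy
  rw [Ideal.mem_comap, Ideal.mem_comap]
  show Ψ ((1 : R') ⊗ₜ[R] y) ∈ P'.ker
  rw [hΨ, RingHom.mem_ker, f.algebraMap_toRingHom, RingHom.mem_ker.mp hy, map_zero]

/-- the map on cotangent spaces induced by `Ψ` -/
noncomputable def mu :
    (P.ker.map (Algebra.TensorProduct.includeRight.toRingHom :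
      P.Ring →+* R' ⊗[R] P.Ring)).Cotangent →ₗ[R'] P'.ker.Cotangent :=
  Ideal.mapCotangent _ _ Ψ.toAlgHom (map_includeRight_le f Ψ hΨ)

include hΨ in
theorem mu_injective (hker : P'.ker ≤ Ideal.map f.toRingHom P.ker) :
    Function.Injective (mu f Ψ hΨ) := by
  rw [injective_iff_map_eq_zero]
  intro u hu
  obtain ⟨⟨z, hz⟩, rfl⟩ := Ideal.toCotangent_surjective _ u
  rw [mu, Ideal.mapCotangent_toCotangent, Ideal.toCotangent_eq_zero] at hu
  rw [Ideal.toCotangent_eq_zero]
  let a : P.Ring →+* R' ⊗[R] P.Ring := Algebra.TensorProduct.includeRight.toRingHom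
  let ψ : R' ⊗[R] P.Ring →+* P'.Ring := Ψ.toAlgHom.toRingHom
  have hcomp : ψ.comp a = f.toRingHom := RingHom.ext fun y => hΨ y
  have h1 : P'.ker ^ 2 ≤ Ideal.map ψ ((P.ker.map a) ^ 2) := by
    calc P'.ker ^ 2 ≤ (Ideal.map f.toRingHom P.ker) ^ 2 := Ideal.pow_right_mono hker 2
      _ = Ideal.map ψ ((P.ker.map a) ^ 2) := by
        rw [Ideal.map_pow, Ideal.map_map, hcomp]
  have h2 : ψ z ∈ Ideal.map ψ ((P.ker.map a) ^ 2) := h1 hu
  obtain ⟨x, hx, hxz⟩ := (Ideal.mem_map_iff_of_surjective ψ Ψ.surjective).mp h2
  have hxz' : x = z := Ψ.injective hxz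
  exact hxz' ▸ hx

include hΨ in
theorem val_theta (w : R' ⊗[R] P.Cotangent) :
    (P'.cotangentEquivCotangentKer.restrictScalars R') (theta f w) =
      mu f Ψ hΨ (P.ker.tensorCotangentHom R R'
        ((AlgebraTensorModule.congr (LinearEquiv.refl R' R')
          (P.cotangentEquivCotangentKer.restrictScalars R)) w)) := by
  have key : (P'.cotangentEquivCotangentKer.restrictScalars R').toLinearMap ∘ₗ theta f =
      mu f Ψ hΨ ∘ₗ P.ker.tensorCotangentHom R R' ∘ₗ
        (AlgebraTensorModule.congr (LinearEquiv.refl R' R')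
          (P.cotangentEquivCotangentKer.restrictScalars R)).toLinearMap := by
    apply TensorProduct.AlgebraTensorModule.ext
    intro t x
    have h1 : t ⊗ₜ[R] x = t • ((1 : R') ⊗ₜ[R] x) := by
      rw [TensorProduct.smul_tmul', smul_eq_mul, mul_one]
    rw [h1, map_smul, map_smul]
    congr 1
    obtain ⟨y, rfl⟩ := Algebra.Extension.Cotangent.mk_surjective x
    simp only [LinearMap.comp_apply, LinearEquiv.coe_coe, theta_tmul, one_smul,
      AlgebraTensorModule.congr_tmul, LinearEquiv.refl_apply, LinearEquiv.restrictScalars_apply,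
      Algebra.Extension.cotangentEquivCotangentKer_apply, Algebra.Extension.Cotangent.val_mk,
      Ideal.tensorCotangentHom_tmul, Algebra.Extension.Cotangent.map_mk]
    rw [mu, Ideal.mapCotangent_toCotangent]
    congr 1
    exact Subtype.ext (hΨ y).symm
  exact congr($key w)

include hΨ in
theorem theta_injective (hker : P'.ker ≤ Ideal.map f.toRingHom P.ker)
    (hinj : Function.Injective ((P.ker.cotangentToQuotientSquare.restrictScalars R).lTensor R')) :
    Function.Injective (theta f) := by
  intro w₁ w₂ h
  have h' := congrArg (P'.cotangentEquivCotangentKer.restrictScalars R') h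
  rw [val_theta f Ψ hΨ, val_theta f Ψ hΨ] at h'
  exact (AlgebraTensorModule.congr (LinearEquiv.refl R' R')
    (P.cotangentEquivCotangentKer.restrictScalars R)).injective
    (tensorCotangentHom_injective_of_lTensor R R' P.ker hinj (mu_injective f Ψ hΨ hker h'))

include hΨ in
/-- `S' ⊗_S I/I² → I'/I'²` is injective -/
theorem cotangent_bc_injective [Algebra.IsPushout R R' S S']
    (hker : P'.ker ≤ Ideal.map f.toRingHom P.ker)
    (hinj : Function.Injective ((P.ker.cotangentToQuotientSquare.restrictScalars R).lTensor R')) :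
    Function.Injective (LinearMap.liftBaseChange S' (Algebra.Extension.Cotangent.map f)) := by
  have hθ := theta_injective f Ψ hΨ hker hinj
  have hcomp : ∀ w : R' ⊗[R] P.Cotangent,
      LinearMap.liftBaseChange S' (Algebra.Extension.Cotangent.map f)
        ((Algebra.IsPushout.cancelBaseChange R R' S S' P.Cotangent).symm w) = theta f w := by
    intro w
    induction w using TensorProduct.induction_on with
    | zero => rw [map_zero, map_zero, map_zero]
    | tmul t x =>
      rw [Algebra.IsPushout.cancelBaseChange_symm_tmul, LinearMap.liftBaseChange_tmul, theta_tmul,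
        algebraMap_smul]
    | add x y hx hy => rw [map_add, map_add, map_add, hx, hy]
  intro z₁ z₂ h
  have h1 : theta f (Algebra.IsPushout.cancelBaseChange R R' S S' P.Cotangent z₁) =
      theta f (Algebra.IsPushout.cancelBaseChange R R' S S' P.Cotangent z₂) := by
    rw [← hcomp, ← hcomp, LinearEquiv.symm_apply_apply, LinearEquiv.symm_apply_apply, h]
  exact (Algebra.IsPushout.cancelBaseChange R R' S S' P.Cotangent).injective (hθ h1)

end Main

section BcMap

variable {R S R' S' : Type u} [CommRing R] [CommRing S] [CommRing R'] [CommRing S']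
  [Algebra R S] [Algebra R' S'] [Algebra R R'] [Algebra S S'] [Algebra R S']
  [IsScalarTower R R' S'] [IsScalarTower R S S']
  {P : Algebra.Extension.{u} R S} {P' : Algebra.Extension.{u} R' S'}

theorem bcMap_f₀ (f : P.Hom P') : (NLCx.bcMap (S' := S') f).f (-1) =
    (doubleXIso₀ (ModuleCat.ofHom (P.cotangentComplex.baseChange S')) rel).hom ≫
      ModuleCat.ofHom (LinearMap.liftBaseChange S' (Algebra.Extension.Cotangent.map f)) ≫
        (doubleXIso₀ (ModuleCat.ofHom P'.cotangentComplex) rel).inv := by
  unfold NLCx.bcMap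
  exact HomologicalComplex.mkHomFromDouble_f₀ _ _ _ _ _ _

theorem bcMap_f₁ (f : P.Hom P') : (NLCx.bcMap (S' := S') f).f 0 =
    (doubleXIso₁ (ModuleCat.ofHom (P.cotangentComplex.baseChange S')) rel ne).hom ≫
      ModuleCat.ofHom (LinearMap.liftBaseChange S' (Algebra.Extension.CotangentSpace.map f)) ≫
        (doubleXIso₁ (ModuleCat.ofHom P'.cotangentComplex) rel ne).inv := by
  unfold NLCx.bcMap
  exact HomologicalComplex.mkHomFromDouble_f₁ _ _ _ _ _ _

theorem isIso_bcMap_of_bijective (f : P.Hom P')
    (h1 : Function.Bijective (LinearMap.liftBaseChange S' (Algebra.Extension.Cotangent.map f)))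
    (h2 : Function.Bijective
      (LinearMap.liftBaseChange S' (Algebra.Extension.CotangentSpace.map f))) :
    IsIso (NLCx.bcMap (S' := S') f) := by
  have : ∀ n : ℤ, IsIso ((NLCx.bcMap (S' := S') f).f n) := by
    intro n
    by_cases hn : n = -1
    · subst hn
      rw [bcMap_f₀]
      refine @IsIso.comp_isIso' _ _ _ _ _ _ _ (Iso.isIso_hom _)
        (@IsIso.comp_isIso' _ _ _ _ _ _ _ ?_ (Iso.isIso_inv _))
      exact (ConcreteCategory.isIso_iff_bijective _).mpr h1
    · by_cases hn0 : n = 0
      · subst hn0
        rw [bcMap_f₁]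
        refine @IsIso.comp_isIso' _ _ _ _ _ _ _ (Iso.isIso_hom _)
          (@IsIso.comp_isIso' _ _ _ _ _ _ _ ?_ (Iso.isIso_inv _))
        exact (ConcreteCategory.isIso_iff_bijective _).mpr h2
      · have z1 : IsZero ((NLCx.bcCx P S').X n) :=
          HomologicalComplex.isZero_double_X _ _ n hn hn0
        have z2 : IsZero ((NLCx.cx P').X n) := HomologicalComplex.isZero_double_X _ _ n hn hn0
        exact ⟨⟨0, z1.eq_of_src _ _, z2.eq_of_src _ _⟩⟩
  exact HomologicalComplex.Hom.isIso_of_components _

theorem bcMap_comp {P'' : Algebra.Extension.{u} R' S'} (f : P.Hom P') (g : P'.Hom P'') :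
    NLCx.bcMap (S' := S') (g.comp f) = NLCx.bcMap (S' := S') f ≫ NLCx.map g := by
  have hA : ModuleCat.ofHom (LinearMap.liftBaseChange S'
      (Algebra.Extension.Cotangent.map (g.comp f))) =
      ModuleCat.ofHom (LinearMap.liftBaseChange S' (Algebra.Extension.Cotangent.map f)) ≫
        ModuleCat.ofHom (Algebra.Extension.Cotangent.map g) := by
    refine ModuleCat.hom_ext (LinearMap.ext fun y => ?_)
    show LinearMap.liftBaseChange S' (Algebra.Extension.Cotangent.map (g.comp f)) y =
      Algebra.Extension.Cotangent.map g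
        (LinearMap.liftBaseChange S' (Algebra.Extension.Cotangent.map f) y)
    induction y using TensorProduct.induction_on with
    | zero => simp
    | tmul s c =>
      rw [LinearMap.liftBaseChange_tmul, LinearMap.liftBaseChange_tmul, LinearMap.map_smul,
        Algebra.Extension.Cotangent.map_comp]
      rfl
    | add y z hy hz => rw [map_add, map_add, map_add, hy, hz]
  have hB : ModuleCat.ofHom (LinearMap.liftBaseChange S'
      (Algebra.Extension.CotangentSpace.map (g.comp f))) =
      ModuleCat.ofHom (LinearMap.liftBaseChange S' (Algebra.Extension.CotangentSpace.map f)) ≫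
        ModuleCat.ofHom (Algebra.Extension.CotangentSpace.map g) := by
    refine ModuleCat.hom_ext (LinearMap.ext fun y => ?_)
    show LinearMap.liftBaseChange S' (Algebra.Extension.CotangentSpace.map (g.comp f)) y =
      Algebra.Extension.CotangentSpace.map g
        (LinearMap.liftBaseChange S' (Algebra.Extension.CotangentSpace.map f) y)
    induction y using TensorProduct.induction_on with
    | zero => simp
    | tmul s c =>
      rw [LinearMap.liftBaseChange_tmul, LinearMap.liftBaseChange_tmul, LinearMap.map_smul,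
        Algebra.Extension.CotangentSpace.map_comp]
      rfl
    | add y z hy hz => rw [map_add, map_add, map_add, hy, hz]
  apply HomologicalComplex.from_double_hom_ext
  · rw [HomologicalComplex.comp_f, bcMap_f₀, bcMap_f₀, Groth.Agent.Lib.Helper19.NLHtpy.map_f₀, hA]
    dsimp only [NLCx.cx, NLCx.bcCx]
    simp only [Category.assoc, Iso.inv_hom_id_assoc]
  · rw [HomologicalComplex.comp_f, bcMap_f₁, bcMap_f₁, Groth.Agent.Lib.Helper19.NLHtpy.map_f₁, hB]
    dsimp only [NLCx.cx, NLCx.bcCx]
    simp only [Category.assoc, Iso.inv_hom_id_assoc]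

end BcMap

section SameVars

variable {R S R' S' : Type u} [CommRing R] [CommRing S] [CommRing R'] [CommRing S']
  [Algebra R S] [Algebra R' S'] [Algebra R R'] [Algebra S S'] [Algebra R S']
  [IsScalarTower R R' S'] [IsScalarTower R S S']
  {ι : Type u} (G : Algebra.Generators R S ι) (G' : Algebra.Generators R' S' ι)
  (h : ∀ i, G'.val i = algebraMap S S' (G.val i))

theorem aeval_X_eq_map {A A' : Type u} [CommRing A] [CommRing A'] [Algebra A A'] {ι : Type u}
    (p : MvPolynomial ι A) :
    MvPolynomial.aeval (R := A) (fun i => (MvPolynomial.X i : MvPolynomial ι A')) p =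
      MvPolynomial.map (algebraMap A A') p := by
  induction p using MvPolynomial.induction_on with
  | C a => rw [MvPolynomial.aeval_C, MvPolynomial.map_C]; rfl
  | add p q hp hq => rw [map_add, map_add, hp, hq]
  | mul_X p i hp => rw [map_mul, map_mul, hp, MvPolynomial.aeval_X, MvPolynomial.map_X]

theorem sameVars_toRingHom (y : MvPolynomial ι R) :
    (NLCx.sameVarsHom G G' h).toExtensionHom.toRingHom y =
      MvPolynomial.map (algebraMap R R') y := by
  show MvPolynomial.aeval (R := R) (fun i => (MvPolynomial.X i : MvPolynomial ι R')) y = _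
  exact aeval_X_eq_map y

theorem cotangent_bc_injective_sameVars [Algebra.IsPushout R R' S S']
    (hinj : Function.Injective
      ((G.toExtension.ker.cotangentToQuotientSquare.restrictScalars R).lTensor R')) :
    Function.Injective (LinearMap.liftBaseChange S'
      (Algebra.Extension.Cotangent.map (NLCx.sameVarsHom G G' h).toExtensionHom)) :=
  cotangent_bc_injective (NLCx.sameVarsHom G G' h).toExtensionHom
    (MvPolynomial.algebraTensorAlgEquiv R R' :
      R' ⊗[R] MvPolynomial ι R ≃ₐ[R'] MvPolynomial ι R')
    (fun y => ((MvPolynomial.algebraTensorAlgEquiv_tmul R R' 1 y).trans (one_smul _ _)).trans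
      (sameVars_toRingHom G G' h y).symm)
    (Groth.Agent.S7221.ker_le_map_of_adjoin _ (Groth.Agent.S7221.adjoin_range_sameVars G G' h))
    hinj

theorem isIso_bcMap_sameVars [Algebra.IsPushout R R' S S']
    (hinj : Function.Injective
      ((G.toExtension.ker.cotangentToQuotientSquare.restrictScalars R).lTensor R')) :
    IsIso (NLCx.bcMap (S' := S') (NLCx.sameVarsHom G G' h).toExtensionHom) :=
  isIso_bcMap_of_bijective _
    ⟨cotangent_bc_injective_sameVars G G' h hinj,
      Groth.Agent.S7221.cotangent_bc_surjective _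
        (Groth.Agent.S7221.ker_le_map_of_adjoin _
          (Groth.Agent.S7221.adjoin_range_sameVars G G' h))⟩
    (Groth.Agent.S7221.cotangentSpace_bc_bijective G G' h)

end SameVars

section Self

variable (R S R' S' : Type u) [CommRing R] [CommRing S] [CommRing R'] [CommRing S']
  [Algebra R S] [Algebra R' S'] [Algebra R R'] [Algebra S S'] [Algebra R S']
  [IsScalarTower R R' S'] [IsScalarTower R S S']

/-- `NL_{S/R} ⊗_S S' → NL_{S'/R'}` is (the map of) a homotopy equivalence -/
theorem exists_homotopyEquiv_bcMapSelf [Algebra.IsPushout R R' S S']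
    (hinj : Function.Injective
      (((Algebra.Generators.self R S).toExtension.ker.cotangentToQuotientSquare.restrictScalars
        R).lTensor R')) :
    ∃ e : HomotopyEquiv (NLCx.bcCx (Algebra.Generators.self R S).toExtension S')
        (NLCx.cx (Algebra.Generators.self R' S').toExtension),
      e.hom = NLCx.bcMapSelf R S R' S' := by
  have hsurj : Function.Surjective
      (MvPolynomial.aeval (R := R') (fun s : S => algebraMap S S' s)) := by
    intro x
    have hbc : IsBaseChange R' (IsScalarTower.toAlgHom R S S').toLinearMap :=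
      Algebra.IsPushout.out (R := R) (S := R') (R' := S) (S' := S')
    refine hbc.inductionOn x
      (fun x => x ∈ (MvPolynomial.aeval (R := R') (fun s : S => algebraMap S S' s)).range)
      ?_ ?_ ?_ ?_
    · exact Subalgebra.zero_mem _
    · intro s
      exact ⟨MvPolynomial.X s, MvPolynomial.aeval_X _ s⟩
    · intro r' n hn
      exact Subalgebra.smul_mem _ hn r'
    · intro n₁ n₂ h₁ h₂
      exact Subalgebra.add_mem _ h₁ h₂
  let G₁ : Algebra.Generators R' S' S :=
    Algebra.Generators.ofSurjective (fun s : S => algebraMap S S' s) hsurj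
  have h₁ : ∀ s, G₁.val s = algebraMap S S' ((Algebra.Generators.self R S).val s) := fun s => rfl
  let g : G₁.Hom (Algebra.Generators.self R' S') :=
    ⟨fun s => MvPolynomial.X (algebraMap S S' s), fun s => by
      rw [MvPolynomial.aeval_X]; rfl⟩
  have hdef : (Algebra.Generators.self R S).defaultHom (Algebra.Generators.self R' S') =
      g.comp (NLCx.sameVarsHom (Algebra.Generators.self R S) G₁ h₁) := by
    apply Algebra.Generators.Hom.ext
    funext s
    show (Algebra.Generators.self R' S').σ (algebraMap S S' s) =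
      MvPolynomial.aeval g.val (MvPolynomial.X s)
    rw [MvPolynomial.aeval_X]
    rfl
  have hdef' : ((Algebra.Generators.self R S).defaultHom
      (Algebra.Generators.self R' S')).toExtensionHom =
      g.toExtensionHom.comp
        (NLCx.sameVarsHom (Algebra.Generators.self R S) G₁ h₁).toExtensionHom := by
    rw [hdef, Algebra.Generators.Hom.toExtensionHom_comp]
  have := isIso_bcMap_sameVars (Algebra.Generators.self R S) G₁ h₁ hinj
  let e₁ : HomotopyEquiv (NLCx.bcCx (Algebra.Generators.self R S).toExtension S')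
      (NLCx.cx G₁.toExtension) :=
    HomotopyEquiv.ofIso (asIso (NLCx.bcMap (S' := S')
      (NLCx.sameVarsHom (Algebra.Generators.self R S) G₁ h₁).toExtensionHom))
  let e₂ : HomotopyEquiv (NLCx.cx G₁.toExtension)
      (NLCx.cx (Algebra.Generators.self R' S').toExtension) :=
    Groth.Agent.Lib.Helper19.NLHtpy.homotopyEquiv g.toExtensionHom
      ((Algebra.Generators.self R' S').defaultHom G₁).toExtensionHom
  refine ⟨e₁.trans e₂, ?_⟩
  show NLCx.bcMap (S' := S')
      (NLCx.sameVarsHom (Algebra.Generators.self R S) G₁ h₁).toExtensionHom ≫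
      NLCx.map g.toExtensionHom = NLCx.bcMapSelf R S R' S'
  rw [← bcMap_comp]
  unfold NLCx.bcMapSelf
  rw [hdef']

end Self

end Groth.Agent.Lib.Helper21.RHp
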