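import Mathlib
import Groth.Prelude.Def_SheafNL
import Groth.Prelude.Def_LCI2
import Groth.Agent.Lib.Helper18.DRFib
import Groth.Agent.Lib.Helper21.RHp

/-!
# Derived base change of the naive cotangent complex (helper21)

* `flat_cok_of_flat_above`: helper18's S6944 with flatness only required above degree `a`.
* `flat_of_double_hasTorAmplitudeIn`: a two-term complex `[M₀ → M₁]` with `M₁` flat and tor amplitude
  in `[-1, 0]` has `M₀` flat.
* `psi`, `isIso_psi`: termwise extension of scalars of a two-term complex is the two-term complex of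
  the base-changed map.
* `nonempty_LBaseChange_NL_iso`: `NL_{B/A} ⊗^L_B B' ≅ NL_{B'/A'}` for `B` flat over `A` with
  `NL_{B/A}` of tor amplitude in `[-1, 0]`.
-/

set_option autoImplicit false
set_option linter.style.haveILetI false
universe u

open CategoryTheory CategoryTheory.Limits TensorProduct HomologicalComplex

attribute [local instance] HasDerivedCategory.standard

namespace Groth.Agent.Lib.Helper21.RHq

open Groth.Agent.Lib.Helper18.DR Groth.Agent.Lib.Helper19.DoubleHtpy

section Cok

variable {R : Type u} [CommRing R]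

/-- S6944 with flatness only in degrees `> a` -/
theorem flat_cok_of_flat_above (K : DRing.Cx R) (b : ℤ)
    (hb : DRing.VanishesAbove K b) (a c : ℤ)
    (hflat : ∀ i, a < i → Module.Flat R (K.X i))
    (hamp : DRing.HasTorAmplitudeIn R a c (DRing.toD K)) :
    Module.Flat R ((K.X a) ⧸ LinearMap.range (K.d (a - 1) a).hom) := by
  obtain ⟨b', hb1, hb2⟩ : ∃ b' : ℤ, b ≤ b' + 1 ∧ c ≤ b' :=
    ⟨max b c, by have := le_max_left b c; omega, le_max_right b c⟩
  have hsig : DRing.TermwiseFlat (sigmaGE K (a + 1)) := fun i => by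
    by_cases h : a + 1 ≤ i
    · exact (flatProp R).iso (sigmaGEXIso K (a + 1) h).symm (hflat i (by omega))
    · exact (flatProp R).zero (isZero_sigmaGE_X K (a + 1) (by omega))
  have h1 : DRing.HasTorAmplitudeIn R (a + 1) (b' + 1) (DRing.toD (sigmaGE K (a + 1))) :=
    ⟨sigmaGE K (a + 1), VanishesOutside.mono (vanishesOutside_sigmaGE K (a + 1) hb) le_rfl hb1,
      hsig, ⟨Iso.refl _⟩⟩
  have h2 : DRing.HasTorAmplitudeIn R a b' (DRing.toD K) := hasTorAmplitudeIn_mono hamp le_rfl hb2
  have h3 : DRing.HasTorAmplitudeIn R a b' (DRing.toD (sigmaLT K (a + 1))) :=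
    hasTorAmplitudeIn_obj₃ (sigmaTriangle K (a + 1)) (sigmaTriangle_distinguished K (a + 1)) a b'
      h1 h2
  haveI : (sigmaLT K (a + 1)).IsStrictlyLE a := by
    have : (sigmaLT K (a + 1)).IsStrictlyLE (a + 1 - 1) := inferInstance
    rwa [show a + 1 - 1 = a by omega] at this
  haveI : (DRing.toD (sigmaLT K (a + 1))).IsLE a := inferInstance
  haveI := flat_H_of_hasTorAmplitudeIn (DRing.toD (sigmaLT K (a + 1))) a b' h3
  obtain ⟨e⟩ := nonempty_cokEquivH K a
  exact Module.Flat.of_linearEquiv e

variable {M₀ M₁ : Type u} [AddCommGroup M₀] [Module R M₀] [AddCommGroup M₁] [Module R M₁]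

/-- a two-term complex `[M₀ → M₁]` with `M₁` flat and tor amplitude in `[-1, 0]` has `M₀` flat -/
theorem flat_of_double_hasTorAmplitudeIn [Module.Flat R M₁] (φ : M₀ →ₗ[R] M₁)
    (h : DRing.HasTorAmplitudeIn R (-1) 0
      (DRing.toD (HomologicalComplex.double (ModuleCat.ofHom φ) rel))) : Module.Flat R M₀ := by
  let K : DRing.Cx R := HomologicalComplex.double (ModuleCat.ofHom φ) rel
  have hb : DRing.VanishesAbove K 0 := fun i hi =>
    HomologicalComplex.isZero_double_X _ _ i (by omega) (by omega)
  have hflat : ∀ i, (-1 : ℤ) < i → Module.Flat R (K.X i) := by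
    intro i hi
    by_cases h0 : i = 0
    · subst h0
      exact Module.Flat.of_linearEquiv
        (doubleXIso₁ (ModuleCat.ofHom φ) rel ne).toLinearEquiv
    · haveI : Subsingleton (K.X i) := ModuleCat.subsingleton_of_isZero
        (HomologicalComplex.isZero_double_X _ _ i (by omega) h0)
      infer_instance
  have h1 := flat_cok_of_flat_above K 0 hb (-1) 0 hflat h
  have hbot : LinearMap.range (K.d (-1 - 1) (-1)).hom = ⊥ := by
    haveI : Subsingleton (K.X (-1 - 1)) := ModuleCat.subsingleton_of_isZero
      (HomologicalComplex.isZero_double_X _ _ _ (by omega) (by omega))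
    rw [LinearMap.range_eq_bot]
    apply LinearMap.ext
    intro x
    rw [Subsingleton.elim x 0, map_zero]
    rfl
  have e2 := Submodule.quotEquivOfEqBot _ hbot
  have e3 : K.X (-1) ≃ₗ[R] M₀ := (doubleXIso₀ (ModuleCat.ofHom φ) rel).toLinearEquiv
  haveI := h1
  exact Module.Flat.of_linearEquiv (e3.symm.trans e2.symm)

end Cok

section DoubleBC

variable {B B' : Type u} [CommRing B] [CommRing B'] [Algebra B B']
  {M₀ M₁ : Type u} [AddCommGroup M₀] [Module B M₀] [AddCommGroup M₁] [Module B M₁]
  (φ : M₀ →ₗ[B] M₁)

/-- `B' ⊗_B M ≅ extM M` as an isomorphism with the expected source and target -/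
noncomputable def eIso (M : ModuleCat.{u} B) :
    ModuleCat.of B' (B' ⊗[B] M) ≅ (extM (A := B) (B := B')).obj M :=
  (extMEquiv (B := B') M).symm.toModuleIso

theorem eIso_nat :
    (eIso (B' := B') (ModuleCat.of B M₀)).hom ≫
        (extM (A := B) (B := B')).map (ModuleCat.ofHom φ) =
      ModuleCat.ofHom (φ.baseChange B') ≫ (eIso (B' := B') (ModuleCat.of B M₁)).hom := by
  refine ModuleCat.hom_ext (LinearMap.ext fun y => ?_)
  show ((extM (A := B) (B := B')).map (ModuleCat.ofHom φ)).hom
      ((extMEquiv (B := B') (ModuleCat.of B M₀)).symm y) =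
    (extMEquiv (B := B') (ModuleCat.of B M₁)).symm ((φ.baseChange B') y)
  apply (extMEquiv (B := B') (ModuleCat.of B M₁)).injective
  rw [extMEquiv_naturality, LinearEquiv.apply_symm_apply, LinearEquiv.apply_symm_apply]
  rfl

/-- degree `-1` component of `psi` -/
noncomputable def psi0 : ModuleCat.of B' (B' ⊗[B] M₀) ⟶
    (extM (A := B) (B := B')).obj ((HomologicalComplex.double (ModuleCat.ofHom φ) rel).X (-1)) :=
  (eIso (B' := B') (ModuleCat.of B M₀)).hom ≫
    (extM (A := B) (B := B')).map (doubleXIso₀ (ModuleCat.ofHom φ) rel).inv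

/-- degree `0` component of `psi` -/
noncomputable def psi1 : ModuleCat.of B' (B' ⊗[B] M₁) ⟶
    (extM (A := B) (B := B')).obj ((HomologicalComplex.double (ModuleCat.ofHom φ) rel).X 0) :=
  (eIso (B' := B') (ModuleCat.of B M₁)).hom ≫
    (extM (A := B) (B := B')).map (doubleXIso₁ (ModuleCat.ofHom φ) rel ne).inv

instance : IsIso (psi0 (B' := B') φ) := by unfold psi0; infer_instance

instance : IsIso (psi1 (B' := B') φ) := by unfold psi1; infer_instance

theorem psi_comm : psi0 (B' := B') φ ≫ (extM (A := B) (B := B')).map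
      ((HomologicalComplex.double (ModuleCat.ofHom φ) rel).d (-1) 0) =
    ModuleCat.ofHom (φ.baseChange B') ≫ psi1 (B' := B') φ := by
  unfold psi0 psi1
  rw [HomologicalComplex.double_d _ _ ne, Functor.map_comp, Functor.map_comp]
  simp only [Category.assoc, Iso.map_inv_hom_id_assoc]
  rw [reassoc_of% (eIso_nat (B' := B') φ)]

/-- comparison of the two-term complex of the base-changed map with the termwise extension of
scalars -/
noncomputable def psi :
    HomologicalComplex.double (ModuleCat.ofHom (φ.baseChange B')) rel ⟶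
      ((extM (A := B) (B := B')).mapHomologicalComplex (ComplexShape.up ℤ)).obj
        (HomologicalComplex.double (ModuleCat.ofHom φ) rel) :=
  HomologicalComplex.mkHomFromDouble rel ne (psi0 (B' := B') φ) (psi1 (B' := B') φ)
    (psi_comm (B' := B') φ)
    (by
      intro k _
      show psi1 (B' := B') φ ≫ (extM (A := B) (B := B')).map
        ((HomologicalComplex.double (ModuleCat.ofHom φ) rel).d 0 k) = 0
      rw [HomologicalComplex.double_d_eq_zero₀ _ _ 0 k (by decide), Functor.map_zero, comp_zero])

theorem isIso_psi : IsIso (psi (B' := B') φ) := by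
  have : ∀ n : ℤ, IsIso ((psi (B' := B') φ).f n) := by
    intro n
    by_cases hn : n = -1
    · subst hn
      have e : (psi (B' := B') φ).f (-1) =
          (doubleXIso₀ (ModuleCat.ofHom (φ.baseChange B')) rel).hom ≫ psi0 (B' := B') φ := by
        unfold psi
        exact HomologicalComplex.mkHomFromDouble_f₀ _ _ _ _ _ _
      rw [e]
      exact @IsIso.comp_isIso' _ _ _ _ _ _ _ (Iso.isIso_hom _)
        (inferInstanceAs (IsIso (psi0 (B' := B') φ)))
    · by_cases hn0 : n = 0
      · subst hn0
        have e : (psi (B' := B') φ).f 0 =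
            (doubleXIso₁ (ModuleCat.ofHom (φ.baseChange B')) rel ne).hom ≫ psi1 (B' := B') φ := by
          unfold psi
          exact HomologicalComplex.mkHomFromDouble_f₁ _ _ _ _ _ _
        rw [e]
        exact @IsIso.comp_isIso' _ _ _ _ _ _ _ (Iso.isIso_hom _)
          (inferInstanceAs (IsIso (psi1 (B' := B') φ)))
      · have z1 : IsZero ((HomologicalComplex.double (ModuleCat.ofHom (φ.baseChange B')) rel).X n) :=
          HomologicalComplex.isZero_double_X _ _ n hn hn0
        have z2 : IsZero ((((extM (A := B) (B := B')).mapHomologicalComplex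
            (ComplexShape.up ℤ)).obj (HomologicalComplex.double (ModuleCat.ofHom φ) rel)).X n) := by
          show IsZero ((extM (A := B) (B := B')).obj
            ((HomologicalComplex.double (ModuleCat.ofHom φ) rel).X n))
          exact Functor.map_isZero _ (HomologicalComplex.isZero_double_X _ _ n hn hn0)
        exact ⟨⟨0, z1.eq_of_src _ _, z2.eq_of_src _ _⟩⟩
  exact HomologicalComplex.Hom.isIso_of_components _

end DoubleBC

section NL

variable (A B A' B' : Type u) [CommRing A] [CommRing B] [CommRing A'] [CommRing B']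
  [Algebra A B] [Algebra A' B'] [Algebra A A'] [Algebra B B'] [Algebra A B']
  [IsScalarTower A A' B'] [IsScalarTower A B B']

theorem quasiIso_bcMapSelf_of_flat [Algebra.IsPushout A A' B B'] [Module.Flat A B] :
    QuasiIso (NLCx.bcMapSelf A B A' B') := by
  obtain ⟨e, he⟩ := Groth.Agent.Lib.Helper21.RHp.exists_homotopyEquiv_bcMapSelf A B A' B'
    (Groth.Agent.Lib.Helper21.RHp.hinj_of_flat_top (Algebra.Generators.self A B).toExtension A')
  rw [← he]
  infer_instance

theorem nonempty_LBaseChange_NL_iso [Algebra.IsPushout A A' B B'] [Module.Flat A B]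
    (h : DRing.HasTorAmplitudeIn B (-1) 0 (LCI.NL A B))
    [DRing.HasLBaseChange (algebraMap B B')] :
    Nonempty ((DRing.LBaseChange (algebraMap B B')).obj (LCI.NL A B) ≅ LCI.NL A' B') := by
  haveI hM0 : Module.Flat B (Algebra.Generators.self A B).toExtension.Cotangent :=
    flat_of_double_hasTorAmplitudeIn (Algebra.Generators.self A B).toExtension.cotangentComplex h
  have hb : DRing.VanishesAbove (LCI.NLcx A B) 0 := fun i hi =>
    HomologicalComplex.isZero_double_X _ _ i (by omega) (by omega)
  have hflat : DRing.TermwiseFlat (LCI.NLcx A B) := by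
    intro i
    by_cases hn : i = -1
    · subst hn
      exact Module.Flat.of_linearEquiv (doubleXIso₀ (ModuleCat.ofHom
        (Algebra.Generators.self A B).toExtension.cotangentComplex) rel).toLinearEquiv
    · by_cases h0 : i = 0
      · subst h0
        exact Module.Flat.of_linearEquiv (doubleXIso₁ (ModuleCat.ofHom
          (Algebra.Generators.self A B).toExtension.cotangentComplex) rel ne).toLinearEquiv
      · haveI : Subsingleton ((LCI.NLcx A B).X i) := ModuleCat.subsingleton_of_isZero
          (HomologicalComplex.isZero_double_X _ _ i hn h0)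
        infer_instance
  obtain ⟨e1⟩ := nonempty_LBaseChange_iso_of_flat (κ := B') (LCI.NLcx A B) 0 hb hflat
  have hpsi := isIso_psi (B' := B') (Algebra.Generators.self A B).toExtension.cotangentComplex
  let e2 : DRing.toD (NLCx.bcCx (Algebra.Generators.self A B).toExtension B') ≅
      DRing.toD (((extM (A := B) (B := B')).mapHomologicalComplex (ComplexShape.up ℤ)).obj
        (LCI.NLcx A B)) :=
    DerivedCategory.Q.mapIso (@asIso _ _ _ _ _ hpsi)
  have h3 : IsIso (DerivedCategory.Q.map (NLCx.bcMapSelf A B A' B')) :=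
    (DerivedCategory.isIso_Q_map_iff_quasiIso (C := ModuleCat.{u} B') (NLCx.bcMapSelf A B A' B')).mpr
      (quasiIso_bcMapSelf_of_flat A B A' B')
  let e3 : DRing.toD (NLCx.bcCx (Algebra.Generators.self A B).toExtension B') ≅
      DRing.toD (NLCx.cx (Algebra.Generators.self A' B').toExtension) := @asIso _ _ _ _ _ h3
  exact ⟨e1 ≪≫ e2.symm ≪≫ e3⟩

end NL

end Groth.Agent.Lib.Helper21.RHq
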