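import Mathlib
import Groth.Prelude.Def_SheafNL
import Groth.Prelude.Def_LCI2
import Groth.Agent.S2189
import Groth.Agent.Lib.Helper4.PolyKos1
import Groth.Agent.Lib.Helper14.KoszulReg
import Groth.Agent.Lib.Helper14.KoszulLCI
import Groth.Agent.Lib.Helper9.TorDimLib
import Groth.Agent.Lib.Helper9.PerfKoszul
import Groth.Agent.Lib.Helper18.DRNoeth
import Groth.Agent.Lib.Helper25.PdTorFlatFP
import Groth.Agent.Lib.Helper21.RHq

/-!
# `NL_{B/A}` of tor amplitude `[-1, 0]` implies lci (helper21)

* `hasProjectiveDimensionLT_of_pc`: pseudo-coherent module of tor dimension `≤ d` has projective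
  dimension `≤ d` (helper25's argument with the pseudo-coherence as a hypothesis).
* `hasProjectiveDimensionLT_ker`: Noetherian `P`, `P → B` surjective with `B` of tor dimension `≤ e`
  over `P`: the kernel has projective dimension `≤ e`.
* `hasTorDimLE_mvPolynomial`: `B` of tor dimension `≤ d` over `A` and a `A[x_1..x_n]`-algebra has tor
  dimension `≤ d + n` over `A[x_1..x_n]`.
* `projective_ker_cotangent`: `P.Cotangent` projective over `S` gives `I/I²` projective over `P.Ring/I`.
* `isLCI_of_torAmp_of_finiteTorDim`, `isLCI_of_torAmp_of_flat`.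
-/

set_option autoImplicit false
set_option linter.style.haveILetI false
universe u

open CategoryTheory CategoryTheory.Limits TensorProduct HomologicalComplex DerivedCategory

attribute [local instance] HasDerivedCategory.standard

namespace Groth.Agent.Lib.Helper21.RHr

open Groth.Agent.Lib.Helper18.DR Groth.Agent.Lib.Helper19.DoubleHtpy
open Groth.Agent.Lib.Helper25.PCFlatFP

section PD

variable {R : Type u} [CommRing R]

/-- a pseudo-coherent module of tor dimension `≤ d` has projective dimension `≤ d` -/
theorem hasProjectiveDimensionLT_of_pc (M : Type u) [AddCommGroup M] [Module R M]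
    (hpc : DRing.IsPseudoCoherentModule' R M) (d : ℕ) (h : DRing.HasTorDimLE R d M) :
    HasProjectiveDimensionLT (ModuleCat.of R M) (d + 1) := by
  haveI : (Dual.inD R M).IsLE 0 := inferInstance
  obtain ⟨E, hE0, hEff, ⟨e⟩⟩ := exists_finite_free_resolution_le (Dual.inD R M) 0 hpc
  have hEflat : DRing.TermwiseFlat E := fun i => by
    haveI := (hEff i).2
    infer_instance
  have hEproj : ∀ i, Module.Projective R (E.X i) := fun i => by
    haveI := (hEff i).2
    infer_instance
  have hex : ∀ i j k : ℤ, i + 1 = j → j + 1 = k → j < 0 →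
      Function.Exact (E.d i j).hom (E.d j k).hom := by
    intro i j k hij hjk hj
    rw [← isZero_H_toD_iff E i j k hij hjk]
    exact (isZero_of_isGE (Sg 0 (ModuleCat.of R M)) 0 j hj).of_iso ((H R j).mapIso e)
  let eM : ModuleCat.of R (cok E (-1) 0) ≅ ModuleCat.of R M :=
    (h0IsoCok E hE0).symm ≪≫ (H R 0).mapIso e ≪≫ HSg 0 (ModuleCat.of R M)
  have hTA : DRing.HasTorAmplitudeIn R (-(d : ℤ)) 0 (DRing.toD E) :=
    hasTorAmplitudeIn_of_iso e.symm ((hasTorDimLE_iff_hasTorAmplitudeIn_single R M d).1.mp h)
  haveI hfl : Module.Flat R (cok E (-(d : ℤ) - 1) (-(d : ℤ))) :=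
    flat_cok_of_flat_of_hasTorAmplitudeIn E 0 hE0 hEflat (-(d : ℤ)) 0 hTA
  haveI : Module.FinitePresentation R (cok E (-(d : ℤ) - 1) (-(d : ℤ))) := by
    haveI := (hEff (-(d : ℤ))).1
    haveI := (hEff (-(d : ℤ))).2
    haveI := (hEff (-(d : ℤ) - 1)).1
    refine Module.finitePresentation_of_free_of_surjective
      (LinearMap.range (E.d (-(d : ℤ) - 1) (-(d : ℤ))).hom).mkQ (Submodule.mkQ_surjective _) ?_
    rw [Submodule.ker_mkQ, ← Module.Finite.iff_fg]
    exact Module.Finite.range _
  haveI : Module.Projective R (cok E (-(d : ℤ) - 1) (-(d : ℤ))) :=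
    Module.Flat.projective_of_finitePresentation
  have hbase : HasProjectiveDimensionLT (ModuleCat.of R (cok E (-(d : ℤ) - 1) (-(d : ℤ)))) 1 := by
    haveI : Projective (ModuleCat.of R (cok E (-(d : ℤ) - 1) (-(d : ℤ)))) := by
      rw [← IsProjective.iff_projective]
      infer_instance
    infer_instance
  have h1 := Groth.Agent.Lib.Helper25.PCFlatFP.pd_cok_iter E hEproj hex d (-(d : ℤ)) (by omega)
    hbase 0 (by omega)
  have h2 : HasProjectiveDimensionLT (ModuleCat.of R (cok E (-1) 0)) (d + 1) := by
    simpa using h1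
  exact hasProjectiveDimensionLT_of_iso eM (d + 1)

/-- `P` Noetherian, `P → B` surjective, `B` of tor dimension `≤ e` over `P`: the kernel has
projective dimension `≤ e` -/
theorem hasProjectiveDimensionLT_ker {P B : Type u} [CommRing P] [CommRing B] [Algebra P B]
    [IsNoetherianRing P] (hs : Function.Surjective (algebraMap P B)) (e : ℕ)
    (h : DRing.HasTorDimLE P e B) :
    HasProjectiveDimensionLT (ModuleCat.of P (RingHom.ker (algebraMap P B))) (e + 1) := by
  haveI : Module.Finite P B := Module.Finite.of_surjective (Algebra.linearMap P B) hs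
  haveI h3 : HasProjectiveDimensionLT (ModuleCat.of P B) (e + 1) :=
    hasProjectiveDimensionLT_of_pc B (isPseudoCoherentModule'_of_finite_noetherian B) e h
  let S : ShortComplex (ModuleCat.{u} P) :=
    ModuleCat.shortComplexOfCompEqZero (Submodule.subtype (RingHom.ker (algebraMap P B)))
      (Algebra.linearMap P B) (by
        apply LinearMap.ext
        intro x
        show algebraMap P B (x : P) = 0
        exact (RingHom.mem_ker (f := algebraMap P B)).mp x.2)
  have hS : S.ShortExact := ModuleCat.shortComplex_shortExact S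
    (by
      intro y
      constructor
      · intro hy
        have hy' : algebraMap P B y = 0 := hy
        exact ⟨⟨y, (RingHom.mem_ker (f := algebraMap P B)).mpr hy'⟩, rfl⟩
      · rintro ⟨x, rfl⟩
        show algebraMap P B (x : P) = 0
        exact (RingHom.mem_ker (f := algebraMap P B)).mp x.2)
    (fun a b hab => Subtype.ext hab) hs
  have h2 : HasProjectiveDimensionLT S.X₂ (e + 1) := by
    haveI : Projective (ModuleCat.of P P) := by
      rw [← IsProjective.iff_projective]
      infer_instance
    exact hasProjectiveDimensionLT_of_ge (ModuleCat.of P P) 1 (e + 1) (by omega)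
  have h3' : HasProjectiveDimensionLT S.X₃ (e + 1 + 1) :=
    hasProjectiveDimensionLT_of_ge (ModuleCat.of P B) (e + 1) (e + 1 + 1) (by omega)
  exact hS.hasProjectiveDimensionLT_X₁ (e + 1) h2 h3'

end PD

theorem isKoszulRegularSeq_of_isWeaklyRegular {R : Type u} [CommRing R] (l : List R)
    (h : RingTheory.Sequence.IsWeaklyRegular R l) : LCI.IsKoszulRegularSeq R l := by
  rw [Groth.Agent.Lib.Helper14.KoszulFun.isKoszulRegularSeq_iff]
  exact Groth.Agent.Lib.Helper14.KoszulFun.isZero_homology_of_isWeaklyRegular l R h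

section TorDimPoly

open Groth.Agent.Lib.Helper9.PCM

/-- abstract core: `A → P` flat, `Q = P ⊗_A B`, `Q → B` a surjection with Koszul-regular kernel -/
theorem hasTorDimLE_core {A P B Q : Type u} [CommRing A] [CommRing P] [CommRing B] [CommRing Q]
    [Algebra A P] [Algebra A B] [Algebra P Q] [Algebra B Q] [Algebra A Q]
    [IsScalarTower A P Q] [IsScalarTower A B Q] [Algebra.IsPushout A P B Q] [Module.Flat A P]
    [Algebra Q B] [Algebra P B] [IsScalarTower P Q B]
    (hs : Function.Surjective (algebraMap Q B)) (l : List Q) (hl : LCI.IsKoszulRegularSeq Q l)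
    (hker : RingHom.ker (algebraMap Q B) = Ideal.ofList l) (d : ℕ)
    (h : DRing.HasTorDimLE A d B) : DRing.HasTorDimLE P (d + l.length) B := by
  have h1 : DRing.HasTorDimLE P d Q :=
    hasTorDimLE_of_linearEquiv (Algebra.IsPushout.equiv A P B Q).toLinearEquiv d
      (hasTorDimLE_tensorProduct d h)
  have hk : (Ideal.ofList l : Submodule Q Q) = LinearMap.ker (Algebra.linearMap Q B) := by
    rw [← hker]
    ext x
    rw [RingHom.mem_ker, LinearMap.mem_ker]
    rfl
  let eq : (Q ⧸ Ideal.ofList l) ≃ₗ[Q] B :=
    (Submodule.quotEquivOfEq _ _ hk) ≪≫ₗ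
      (LinearMap.quotKerEquivOfSurjective (Algebra.linearMap Q B) hs)
  have h2' := ((perfModLE_of_koszulRegular l hl).of_linearEquiv eq).2
  have h2 : DRing.HasTorDimLE Q l.length B :=
    (hasTorDimLE_iff_hasTorAmplitudeIn_single Q B l.length).1.2 h2'
  exact hasTorDimLE_trans d l.length h1 h2

attribute [local instance] MvPolynomial.algebraMvPolynomial

open MvPolynomial Groth.Agent.Lib.Helper4.PolyKos

/-- `B` of tor dimension `≤ d` over `A` has tor dimension `≤ d + n` over `A[x_1..x_n]`, for the
algebra structure `x_j ↦ b j` -/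
theorem hasTorDimLE_mvPolynomial {A B : Type u} [CommRing A] [CommRing B] [Algebra A B] (n : ℕ)
    (b : Fin n → B) (d : ℕ) (h : DRing.HasTorDimLE A d B) :
    @DRing.HasTorDimLE (MvPolynomial (Fin n) A) _ (d + n) B _
      ((aeval b : MvPolynomial (Fin n) A →ₐ[A] B).toRingHom.toAlgebra.toModule) := by
  have hker : RingHom.ker (ev n b).toRingHom = Ideal.ofList (gl n b) := by
    apply le_antisymm
    · intro x hx
      have hx0 : ev n b x = 0 := hx
      have h2 := sub_C_ev_mem n b x
      rwa [hx0, C_0, sub_zero] at h2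
    · intro x hx
      exact ev_eq_zero_of_mem n b x hx
  have htower : (aeval b : MvPolynomial (Fin n) A →ₐ[A] B).toRingHom =
      (ev n b).toRingHom.comp (MvPolynomial.map (algebraMap A B)) := by
    refine MvPolynomial.ringHom_ext ?_ ?_
    · intro r
      show aeval b (C r) = ev n b (MvPolynomial.map (algebraMap A B) (C r))
      rw [MvPolynomial.map_C, ev_C, aeval_C]
    · intro i
      show aeval b (X i) = ev n b (MvPolynomial.map (algebraMap A B) (X i))
      rw [MvPolynomial.map_X, ev_X, aeval_X]
  have key := @hasTorDimLE_core A (MvPolynomial (Fin n) A) B (MvPolynomial (Fin n) B) _ _ _ _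
    _ _ MvPolynomial.algebraMvPolynomial _ _ inferInstance inferInstance inferInstance
    inferInstance (ev n b).toRingHom.toAlgebra
    (aeval b : MvPolynomial (Fin n) A →ₐ[A] B).toRingHom.toAlgebra
    (@IsScalarTower.of_algebraMap_eq' (MvPolynomial (Fin n) A) (MvPolynomial (Fin n) B) B _ _ _
      MvPolynomial.algebraMvPolynomial (ev n b).toRingHom.toAlgebra
      (aeval b : MvPolynomial (Fin n) A →ₐ[A] B).toRingHom.toAlgebra htower)
    (fun r => ⟨C r, ev_C n b r⟩) (gl n b)
    (isKoszulRegularSeq_of_isWeaklyRegular _ (gl_weaklyRegular n b)) hker d h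
  rw [length_gl] at key
  exact key

end TorDimPoly

section Cot

variable {A B : Type u} [CommRing A] [CommRing B] [Algebra A B]

/-- `P.Cotangent` projective over `B` gives `I/I²` projective over `P.Ring/I` -/
theorem projective_ker_cotangent (P : Algebra.Extension.{u} A B)
    [Module.Projective B P.Cotangent] :
    Module.Projective (P.Ring ⧸ P.ker) P.ker.Cotangent := by
  let e₁ : (P.Ring ⧸ P.ker) ≃+* B :=
    RingHom.quotientKerEquivOfRightInverse (f := algebraMap P.Ring B) (g := P.σ) P.algebraMap_σ
  haveI i1 : RingHomInvPair (e₁ : P.Ring ⧸ P.ker →+* B) (e₁.symm : B →+* P.Ring ⧸ P.ker) :=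
    RingHomInvPair.of_ringEquiv e₁
  haveI i2 : RingHomInvPair (e₁.symm : B →+* P.Ring ⧸ P.ker) (e₁ : P.Ring ⧸ P.ker →+* B) :=
    RingHomInvPair.symm _ _
  have hσ : ∀ b : B, e₁.symm b = Ideal.Quotient.mk P.ker (P.σ b) := fun b => rfl
  let e₂ : P.Cotangent ≃ₛₗ[(e₁.symm : B →+* P.Ring ⧸ P.ker)] P.ker.Cotangent :=
    { toFun := fun x => x.val
      invFun := fun y => Algebra.Extension.Cotangent.of y
      map_add' := fun _ _ => rfl
      map_smul' := fun b x => by
        show (b • x).val = (e₁.symm b) • x.val
        rw [Algebra.Extension.Cotangent.val_smul, hσ]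
        exact (algebraMap_smul (P.Ring ⧸ P.ker) (P.σ b) x.val).symm
      left_inv := fun _ => rfl
      right_inv := fun _ => rfl }
  exact Module.Projective.of_equiv e₂

end Cot

section Main

open Groth.Agent.Lib.Helper9.PCM

/-- Noetherian base, finite type, finite tor dimension: `NL` of tor amplitude `[-1, 0]` implies
lci -/
theorem isLCI_of_torAmp_of_finiteTorDim {A B : Type u} [CommRing A] [CommRing B] [Algebra A B]
    [IsNoetherianRing A] [hft : Algebra.FiniteType A B] (hB : DRing.HasFiniteTorDim A B)
    (h : DRing.HasTorAmplitudeIn B (-1) 0 (LCI.NL A B)) : LCI.IsLCI A B := by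
  obtain ⟨n, α, hα⟩ := Algebra.FiniteType.iff_quotient_mvPolynomial''.mp hft
  let G : Algebra.Generators A B (Fin n) := Algebra.Generators.ofAlgHom α hα
  have hGα : (MvPolynomial.aeval (R := A) G.val : MvPolynomial (Fin n) A →ₐ[A] B) = α := by
    apply MvPolynomial.algHom_ext
    intro i
    rw [MvPolynomial.aeval_X]; rfl
  have h0 : G.toExtension.ker = RingHom.ker α.toRingHom := by
    ext x
    have hx : algebraMap G.toExtension.Ring B x = α x := by
      have h1 := Algebra.Generators.algebraMap_apply G x
      rw [hGα] at h1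
      exact h1
    constructor
    · intro h1
      have h2 : algebraMap G.toExtension.Ring B x = 0 := h1
      rw [hx] at h2
      exact h2
    · intro h1
      have h2 : α x = 0 := h1
      show algebraMap G.toExtension.Ring B x = 0
      rw [hx]
      exact h2
  refine ⟨hft, n, α, hα, ?_⟩
  rw [← h0]
  have hiso : Nonempty (DRing.toD (NLCx.cx G.toExtension) ≅ LCI.NL A B) := by
    let u := (G.defaultHom (Algebra.Generators.self A B)).toExtensionHom
    let u' := ((Algebra.Generators.self A B).defaultHom G).toExtensionHom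
    let he := Groth.Agent.Lib.Helper19.NLHtpy.homotopyEquiv u u'
    have h3 : IsIso (DerivedCategory.Q.map he.hom) :=
      (DerivedCategory.isIso_Q_map_iff_quasiIso (C := ModuleCat.{u} B) he.hom).mpr
        he.quasiIso_hom
    exact ⟨@asIso _ _ _ _ _ h3⟩
  obtain ⟨i⟩ := hiso
  have hE : DRing.HasTorAmplitudeIn B (-1) 0 (DRing.toD (HomologicalComplex.double
      (ModuleCat.ofHom G.toExtension.cotangentComplex) rel)) :=
    hasTorAmplitudeIn_of_iso i.symm h
  haveI : Module.Free B G.toExtension.CotangentSpace :=
    Module.Free.of_basis G.cotangentSpaceBasis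
  haveI hflat : Module.Flat B G.toExtension.Cotangent :=
    Groth.Agent.Lib.Helper21.RHq.flat_of_double_hasTorAmplitudeIn
      G.toExtension.cotangentComplex hE
  haveI : IsNoetherianRing B := Algebra.FiniteType.isNoetherianRing A B
  haveI hPN : IsNoetherianRing G.toExtension.Ring :=
    (inferInstance : IsNoetherianRing (MvPolynomial (Fin n) A))
  have hfg : G.toExtension.ker.FG := IsNoetherian.noetherian _
  haveI : Module.Finite B G.toExtension.Cotangent := Algebra.Extension.Cotangent.finite hfg
  haveI : Module.FinitePresentation B G.toExtension.Cotangent :=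
    Module.finitePresentation_of_finite B _
  haveI : Module.Projective B G.toExtension.Cotangent :=
    Module.Flat.projective_of_finitePresentation
  haveI := projective_ker_cotangent G.toExtension
  obtain ⟨d, hd⟩ := hB
  have h1 : DRing.HasTorDimLE G.toExtension.Ring (d + n) B :=
    hasTorDimLE_mvPolynomial n G.val d hd
  have hpd := hasProjectiveDimensionLT_ker G.toExtension.algebraMap_surjective (d + n) h1
  intro 𝔭 h𝔭
  have hp : @Ideal.IsPrime G.toExtension.Ring _ 𝔭.asIdeal := 𝔭.isPrime
  obtain ⟨g, hg, rs, hrs, hI⟩ :=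
    @Groth.Agent.S2189.result G.toExtension.Ring _ hPN G.toExtension.ker (d + n + 1) hpd
      inferInstance 𝔭.asIdeal hp h𝔭
  exact ⟨g, hg, rs,
    isKoszulRegularSeq_of_isWeaklyRegular rs hrs.toIsWeaklyRegular,
    hI.symm⟩

end Main

end Groth.Agent.Lib.Helper21.RHr
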