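import Mathlib
import Groth.Prelude.Def_SheafNL
import Groth.Prelude.Def_LCI2
import Groth.Agent.Lib.Helper2.Stk.TildeBC
import Groth.Agent.Lib.Helper18.DRTorD
import Groth.Agent.Lib.Helper24.FlatLCISynt
import Groth.Agent.Lib.Helper6.SyntCover
import Groth.Agent.Lib.Helper21.RHr

/-!
# Flat finitely presented `A → B` with `NL_{B/A}` of tor amplitude `[-1, 0]` is lci (helper21)

Fibrewise: derived base change of `NL` (RHq) to the fibres, the Noetherian case (RHr) over the
residue fields, then helper24's `isLCI_of_isSyntomic`.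
-/

set_option autoImplicit false
set_option linter.style.haveILetI false
universe u

open CategoryTheory CategoryTheory.Limits TensorProduct HomologicalComplex DerivedCategory

attribute [local instance] HasDerivedCategory.standard

namespace Groth.Agent.Lib.Helper21.RHs

open Groth.Agent.Lib.Helper18.DR Groth.Agent.Lib.Helper9.PCM Groth.Agent.Lib.Helper21.RHr

section Main

attribute [local instance] Algebra.TensorProduct.rightAlgebra

/-- the fibres of a flat finite type `A → B` with `NL` of tor amplitude `[-1, 0]` are local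
complete intersections -/
theorem isLCIOver_fibre_of_torAmp {A B : Type u} [CommRing A] [CommRing B] [Algebra A B]
    [Module.Flat A B] [Algebra.FiniteType A B]
    (h : DRing.HasTorAmplitudeIn B (-1) 0 (LCI.NL A B)) (p : PrimeSpectrum A) :
    Synt.IsLCIOver p.asIdeal.ResidueField (p.asIdeal.Fiber B) := by
  haveI : DRing.HasLBaseChange (algebraMap B (p.asIdeal.Fiber B)) :=
    (Groth.Agent.Lib.Helper2.Stk.adapted_baseChangeKh
      (algebraMap B (p.asIdeal.Fiber B))).hasLeftDerivedFunctor
  obtain ⟨e⟩ := Groth.Agent.Lib.Helper21.RHq.nonempty_LBaseChange_NL_iso A B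
    p.asIdeal.ResidueField (p.asIdeal.Fiber B) h
  have h' : DRing.HasTorAmplitudeIn (p.asIdeal.Fiber B) (-1) 0
      (LCI.NL p.asIdeal.ResidueField (p.asIdeal.Fiber B)) :=
    hasTorAmplitudeIn_of_iso e
      (hasTorAmplitudeIn_LBaseChange (algebraMap B (p.asIdeal.Fiber B)) _ (-1) 0 h)
  have hftd : DRing.HasFiniteTorDim p.asIdeal.ResidueField (p.asIdeal.Fiber B) :=
    ⟨0, hasTorDimLE_zero_of_flat _⟩
  obtain ⟨-, n, φ, hφ, hK⟩ := isLCI_of_torAmp_of_finiteTorDim hftd h'
  have h2 := Groth.Agent.Lib.Helper24.FlatLCISynt.isLCIOver_of_isKoszulRegularIdeal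
    p.asIdeal.ResidueField n _ hK
  have hk' : RingHom.ker φ.toRingHom = RingHom.ker φ := rfl
  exact Groth.Agent.Lib.Helper6.SyntCover.isLCIOver_of_algEquiv
    ((Ideal.quotientEquivAlgOfEq p.asIdeal.ResidueField hk').trans
      (Ideal.quotientKerAlgEquivOfSurjective hφ)) h2

/-- flat of finite presentation: `NL` of tor amplitude `[-1, 0]` implies lci -/
theorem isLCI_of_torAmp_of_flat {A B : Type u} [CommRing A] [CommRing B] [Algebra A B]
    [Module.Flat A B] [Algebra.FinitePresentation A B]
    (h : DRing.HasTorAmplitudeIn B (-1) 0 (LCI.NL A B)) : LCI.IsLCI A B :=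
  Groth.Agent.Lib.Helper24.FlatLCISynt.isLCI_of_isSyntomic A B
    ⟨inferInstance, inferInstance, fun p => isLCIOver_fibre_of_torAmp h p⟩

end Main

end Groth.Agent.Lib.Helper21.RHs
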