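import Mathlib
import Groth.Agent.Lib.Helper18.DRFib
import Groth.Agent.Lib.Helper9.TorDimLib
import Groth.Agent.Lib.Helper21.RHr

/-!
# Finite tor dimension of the diagonal gives regular fibres (helper21)

* `nonempty_H0_equiv_cok`, `nonempty_H0_extM`: `H^0` of a complex vanishing in degree `1` is the
  cokernel of `d^{-1}`, and it commutes with extension of scalars.
* `hasTorDimLE_of_isPushout_section`: tor-independent base change of tor dimension:
  `Q = C ⊗_B P` with `P` flat over `B`, `P → B` a retraction of `B → P`; if `B` has tor dimension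
  `≤ d` over `P` then `C` has tor dimension `≤ d` over `Q`.
* `hasTorDimLE_fibre`: `A → B` flat with `B` of tor dimension `≤ d` over `B ⊗_A B`; for a field `K`
  over `A` and a `K ⊗_A B`-algebra `C`, `C` has tor dimension `≤ d` over `K ⊗_A B`.
* `isRegularRing_fibre`: `K ⊗_A B` is regular when noetherian.
-/

set_option autoImplicit false
set_option linter.style.haveILetI false
universe u
open CategoryTheory CategoryTheory.Limits DerivedCategory TensorProduct

attribute [local instance] HasDerivedCategory.standard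

namespace Groth.Agent.Lib.Helper21.RHt

open Groth.Agent.Lib.Helper18.DR Groth.Agent.Lib.Helper9.PCM

section H0

variable {R : Type u} [CommRing R]

/-- for a complex with `X^1 = 0`: `H^0 ≃ X^0 / im d^{-1}` -/
lemma nonempty_H0_equiv_cok (X : DRing.Cx R) (hX : IsZero (X.X 1)) :
    Nonempty ((H R 0).obj (DRing.toD X) ≃ₗ[R] (X.X 0 ⧸ LinearMap.range (X.d (-1) 0).hom)) := by
  have e := HtoDLinearEquiv' X (-1) 0 1 (by omega) (by omega)
  haveI : Subsingleton (X.X 1) := ModuleCat.subsingleton_of_isZero hX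
  let p₀ : X.X 0 →ₗ[R] LinearMap.ker (X.d 0 1).hom :=
    LinearMap.codRestrict _ LinearMap.id (fun x => LinearMap.mem_ker.mpr (Subsingleton.elim _ _))
  let q : X.X 0 →ₗ[R] (LinearMap.ker (X.d 0 1).hom ⧸ LinearMap.range (toCyc X (-1) 0 1)) :=
    (LinearMap.range (toCyc X (-1) 0 1)).mkQ ∘ₗ p₀
  have hq : Function.Surjective q := by
    intro a
    obtain ⟨z, rfl⟩ := Submodule.Quotient.mk_surjective _ a
    refine ⟨z.1, ?_⟩
    have hz : p₀ z.1 = z := Subtype.ext rfl
    change (LinearMap.range (toCyc X (-1) 0 1)).mkQ (p₀ z.1) = _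
    rw [hz]
    rfl
  have hker : LinearMap.range (X.d (-1) 0).hom = LinearMap.ker q := by
    ext x
    rw [LinearMap.mem_ker, LinearMap.comp_apply, Submodule.mkQ_apply,
      Submodule.Quotient.mk_eq_zero, LinearMap.mem_range, LinearMap.mem_range]
    constructor
    · rintro ⟨y, rfl⟩
      exact ⟨y, Subtype.ext rfl⟩
    · rintro ⟨y, hy⟩
      exact ⟨y, congrArg Subtype.val hy⟩
  exact ⟨e.trans (((Submodule.quotEquivOfEq _ _ hker).trans
    (q.quotKerEquivOfSurjective hq)).symm)⟩

end H0

section BC0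

variable {P Q : Type u} [CommRing P] [CommRing Q] [Algebra P Q]

/-- `H^0` of a complex vanishing in degree `1` commutes with extension of scalars -/
lemma nonempty_H0_extM (E : DRing.Cx P) (hE : IsZero (E.X 1)) (N : Type u) [AddCommGroup N]
    [Module P N] (l : (H P 0).obj (DRing.toD E) ≃ₗ[P] N) :
    Nonempty ((H Q 0).obj (DRing.toD (((extM (A := P) (B := Q)).mapHomologicalComplex
      (ComplexShape.up ℤ)).obj E)) ≃ₗ[Q] Q ⊗[P] N) := by
  obtain ⟨c⟩ := nonempty_H0_equiv_cok E hE
  have hE' : IsZero ((((extM (A := P) (B := Q)).mapHomologicalComplex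
      (ComplexShape.up ℤ)).obj E).X 1) := Functor.map_isZero (extM (A := P) (B := Q)) hE
  obtain ⟨c'⟩ := nonempty_H0_equiv_cok (((extM (A := P) (B := Q)).mapHomologicalComplex
      (ComplexShape.up ℤ)).obj E) hE'
  let ε₀ : E.X 0 →ₗ[P] N := l.toLinearMap ∘ₗ c.symm.toLinearMap ∘ₗ
    (LinearMap.range (E.d (-1) 0).hom).mkQ
  have hε₀ : ∀ x, ε₀ x = l (c.symm ((LinearMap.range (E.d (-1) 0).hom).mkQ x)) := fun _ => rfl
  have hε₀s : Function.Surjective ε₀ :=
    (l.surjective.comp c.symm.surjective).comp (Submodule.mkQ_surjective _)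
  have hε₀e : Function.Exact (E.d (-1) 0).hom ε₀ := by
    intro x
    constructor
    · intro hx
      have h0 : (LinearMap.range (E.d (-1) 0).hom).mkQ x = 0 := by
        apply c.symm.injective
        apply l.injective
        rw [map_zero, map_zero]
        exact hx
      rwa [Submodule.mkQ_apply, Submodule.Quotient.mk_eq_zero, LinearMap.mem_range] at h0
    · rintro ⟨y, rfl⟩
      have h0 : (LinearMap.range (E.d (-1) 0).hom).mkQ ((E.d (-1) 0).hom y) = 0 := by
        rw [Submodule.mkQ_apply, Submodule.Quotient.mk_eq_zero]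
        exact ⟨y, rfl⟩
      rw [hε₀, h0, map_zero, map_zero]
  let Ψ : (extM (A := P) (B := Q)).obj (E.X 0) →ₗ[Q] Q ⊗[P] N :=
    (ε₀.baseChange Q) ∘ₗ (extMEquiv (B := Q) (E.X 0)).toLinearMap
  have hΨ : ∀ x, Ψ x = (ε₀.lTensor Q) (extMEquiv (B := Q) (E.X 0) x) := fun _ => rfl
  have hΨs : Function.Surjective Ψ := by
    intro z
    obtain ⟨w, hw⟩ := LinearMap.lTensor_surjective Q hε₀s z
    obtain ⟨x, rfl⟩ := (extMEquiv (B := Q) (E.X 0)).surjective w
    exact ⟨x, (hΨ x).trans hw⟩
  have hex := lTensor_exact Q hε₀e hε₀s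
  have hker : LinearMap.range ((extM (A := P) (B := Q)).map (E.d (-1) 0)).hom =
      LinearMap.ker Ψ := by
    ext x
    rw [LinearMap.mem_ker, LinearMap.mem_range, hΨ]
    constructor
    · rintro ⟨y, rfl⟩
      rw [extMEquiv_naturality]
      exact hex.apply_apply_eq_zero _
    · intro hx
      obtain ⟨z, hz⟩ := (hex _).mp hx
      obtain ⟨y, rfl⟩ := (extMEquiv (B := Q) (E.X (-1))).surjective z
      refine ⟨y, (extMEquiv (B := Q) (E.X 0)).injective ?_⟩
      rw [← hz]
      exact extMEquiv_naturality (E.d (-1) 0) y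
  exact ⟨c'.trans ((Submodule.quotEquivOfEq _ _ hker).trans (Ψ.quotKerEquivOfSurjective hΨs))⟩

end BC0

section BC

/-- tor-independent base change of tor dimension along a pushout square with sections -/
theorem hasTorDimLE_of_isPushout_section {B P C Q : Type u} [CommRing B] [CommRing P]
    [CommRing C] [CommRing Q]
    [Algebra B P] [Algebra B C] [Algebra B Q] [Algebra C Q] [Algebra P Q]
    [IsScalarTower B C Q] [IsScalarTower B P Q] [Algebra.IsPushout B C P Q] [Module.Flat B P]
    [Algebra P B] (hPB : ∀ b : B, algebraMap P B (algebraMap B P b) = b)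
    [Algebra Q C] (hQC : ∀ c : C, algebraMap Q C (algebraMap C Q c) = c)
    (hcomp : ∀ p : P, algebraMap Q C (algebraMap P Q p) = algebraMap B C (algebraMap P B p))
    (d : ℕ) (h : DRing.HasTorDimLE P d B) : DRing.HasTorDimLE Q d C := by
  obtain ⟨E, hE, hEf, ⟨e⟩⟩ := (hasTorDimLE_iff_hasTorAmplitudeIn_single P B d).1.1 h
  have hE' : DRing.VanishesOutside (((extM (A := P) (B := Q)).mapHomologicalComplex
      (ComplexShape.up ℤ)).obj E) (-(d : ℤ)) 0 := vanishesOutside_mapHC _ E _ _ hE
  have hE'f : DRing.TermwiseFlat (((extM (A := P) (B := Q)).mapHomologicalComplex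
      (ComplexShape.up ℤ)).obj E) := fun i => by
    haveI := hEf i
    exact flat_extM (B := Q) (E.X i)
  -- the restriction of `E` to `B` has tor amplitude `[0, 0]`
  let lB : resM (algebraMap B P) (ModuleCat.of P B) ≃ₗ[B] B :=
    { toFun := fun c => c
      invFun := fun c => c
      map_add' := fun _ _ => rfl
      map_smul' := fun b c => by
        change (algebraMap B P b) • (show B from c) = b • (show B from c)
        rw [Algebra.smul_def, hPB, smul_eq_mul]
      left_inv := fun _ => rfl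
      right_inv := fun _ => rfl }
  have hB0 : DRing.HasTorAmplitudeIn B 0 0 (Dual.inD B B) := by
    have h0 := (hasTorDimLE_iff_hasTorAmplitudeIn_single B B 0).1.1 (hasTorDimLE_zero_of_flat B)
    simpa using h0
  have hTA : DRing.HasTorAmplitudeIn B 0 0
      ((DRing.restrictD (algebraMap B P)).obj (DRing.toD E)) :=
    hasTorAmplitudeIn_of_iso
      (((singleFunctor (ModuleCat.{u} B) 0).mapIso lB.toModuleIso).symm ≪≫
        (restrictDSgIso (algebraMap B P) 0 (ModuleCat.of P B)).symm ≪≫
        ((DRing.restrictD (algebraMap B P)).mapIso e).symm) hB0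
  have hex : ∀ j : ℤ, j ≠ 0 → IsZero ((H Q j).obj (DRing.toD
      (((extM (A := P) (B := Q)).mapHomologicalComplex (ComplexShape.up ℤ)).obj E))) := by
    intro j hj
    rw [isZero_H_toD_iff _ (j - 1) j (j + 1) (by omega) rfl]
    change Function.Exact ((extM (A := P) (B := Q)).map (E.d (j - 1) j)).hom
      ((extM (A := P) (B := Q)).map (E.d j (j + 1))).hom
    rw [(tensorLike_extM (A := P) (B := Q)).exact_iff]
    exact lTensor_exact_of_pushout (A := B) (B := P) (κ := C) (C := Q) (E.d (j - 1) j)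
      (E.d j (j + 1))
      (exact_lTensor_restrict_of_hasTorAmplitudeIn (A := B) (B := P) E 0
        (VanishesOutside.above hE) hEf 0 0 hTA C (j - 1) j (j + 1) (by omega) rfl (by omega))
  haveI : (DRing.toD (((extM (A := P) (B := Q)).mapHomologicalComplex
      (ComplexShape.up ℤ)).obj E)).IsLE 0 :=
    isLE_toD_of_vanishesAbove _ 0 (VanishesOutside.above hE')
  haveI : (DRing.toD (((extM (A := P) (B := Q)).mapHomologicalComplex
      (ComplexShape.up ℤ)).obj E)).IsGE 0 := by
    rw [DerivedCategory.isGE_iff]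
    intro i hi
    exact hex i (by omega)
  obtain ⟨M, ⟨eM⟩⟩ := DerivedCategory.exists_iso_singleFunctor_obj_of_isGE_of_isLE
    (DRing.toD (((extM (A := P) (B := Q)).mapHomologicalComplex (ComplexShape.up ℤ)).obj E)) 0
  let l0 : (H P 0).obj (DRing.toD E) ≃ₗ[P] B :=
    ((H P 0).mapIso e ≪≫ HSg 0 (ModuleCat.of P B)).toLinearEquiv
  have hE1 : IsZero (E.X 1) := hE 1 (Or.inr (by omega))
  obtain ⟨l1⟩ := nonempty_H0_extM (Q := Q) E hE1 B l0
  let l2 : M ≃ₗ[Q] (H Q 0).obj (DRing.toD (((extM (A := P) (B := Q)).mapHomologicalComplex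
      (ComplexShape.up ℤ)).obj E)) :=
    ((HSg 0 M).symm ≪≫ (H Q 0).mapIso eM.symm).toLinearEquiv
  -- `Q ⊗_P B ≃ C`
  letI : Algebra P C := ((algebraMap Q C).comp (algebraMap P Q)).toAlgebra
  haveI : IsScalarTower P Q C := IsScalarTower.of_algebraMap_eq (fun _ => rfl)
  let g₀ : B →ₗ[P] C :=
    { toFun := algebraMap B C
      map_add' := map_add _
      map_smul' := fun p b => by
        rw [RingHom.id_apply, Algebra.smul_def, map_mul, Algebra.smul_def, ← hcomp]
        rfl }
  let φ : Q ⊗[P] B →ₗ[Q] C := LinearMap.liftBaseChange Q g₀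
  haveI : IsScalarTower B P B := ⟨fun b p x => by
    rw [Algebra.smul_def b p, Algebra.smul_def (algebraMap B P b * p) x, map_mul, hPB,
      Algebra.smul_def p x, smul_eq_mul, mul_assoc]⟩
  have hφψ : ∀ c : C, φ ((Algebra.IsPushout.cancelBaseChange B C P Q B).symm
      (c ⊗ₜ[B] (1 : B))) = c := fun c => by
    rw [Algebra.IsPushout.cancelBaseChange_symm_tmul, LinearMap.liftBaseChange_tmul]
    change algebraMap C Q c • algebraMap B C 1 = c
    rw [map_one, Algebra.smul_def, mul_one, hQC]
  have hφbij : Function.Bijective φ := by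
    constructor
    · intro x y hxy
      obtain ⟨x', rfl⟩ := (Algebra.IsPushout.cancelBaseChange B C P Q B).symm.surjective x
      obtain ⟨y', rfl⟩ := (Algebra.IsPushout.cancelBaseChange B C P Q B).symm.surjective y
      obtain ⟨c, rfl⟩ := (TensorProduct.rid B C).symm.surjective x'
      obtain ⟨c', rfl⟩ := (TensorProduct.rid B C).symm.surjective y'
      rw [TensorProduct.rid_symm_apply, TensorProduct.rid_symm_apply, hφψ, hφψ] at hxy
      rw [hxy]
    · intro c
      exact ⟨_, hφψ c⟩
  let l3 : Q ⊗[P] B ≃ₗ[Q] C := LinearEquiv.ofBijective φ hφbij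
  rw [(hasTorDimLE_iff_hasTorAmplitudeIn_single Q C d).1]
  exact hasTorAmplitudeIn_of_iso (eM ≪≫ (singleFunctor (ModuleCat.{u} Q) 0).mapIso
    ((l2.trans (l1.trans l3)).toModuleIso)) ⟨_, hE', hE'f, ⟨Iso.refl _⟩⟩

end BC

end Groth.Agent.Lib.Helper21.RHt
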