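import Mathlib
import Groth.Agent.Lib.Helper21.RHt

/-!
# Finite tor dimension of the diagonal: the fibres are regular (helper21)

* `hasTorDimLE_fibre`: `A → B` flat with `B` of tor dimension `≤ d` over `B ⊗_A B`; for a field `K`
  over `A` and a `K ⊗_A B`-algebra `C`, `C` has tor dimension `≤ d` over `K ⊗_A B`.
* `isRegularRing_fibre`: `K ⊗_A B` is regular when noetherian.
-/

set_option autoImplicit false
set_option linter.style.haveILetI false
universe u
open CategoryTheory CategoryTheory.Limits DerivedCategory TensorProduct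

attribute [local instance] HasDerivedCategory.standard

namespace Groth.Agent.Lib.Helper21.RHu

open Groth.Agent.Lib.Helper18.DR Groth.Agent.Lib.Helper9.PCM Groth.Agent.Lib.Helper21.RHt

section fibre

variable {A B K C : Type u} [CommRing A] [CommRing B] [Field K] [CommRing C]
  [Algebra A B] [Algebra A K] [Module.Flat A B] [Algebra (B ⊗[A] B) B]
  [Algebra A C] [Algebra K C] [Algebra B C] [IsScalarTower A K C] [IsScalarTower A B C]

theorem hasTorDimLE_trans_zero {R Q C : Type u} [CommRing R] [CommRing Q] [CommRing C]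
    [Algebra R Q] [Algebra Q C] [Algebra R C] [IsScalarTower R Q C] (d : ℕ)
    (h0 : DRing.HasTorDimLE R 0 Q) (hC : DRing.HasTorDimLE Q d C) : DRing.HasTorDimLE R d C := by
  have h3 := hasTorDimLE_trans (A := R) (B := Q) (C := C) 0 d h0 hC
  rwa [zero_add] at h3

theorem hasTorDimLE_fibre
    (hmul : ∀ x y : B, algebraMap (B ⊗[A] B) B (x ⊗ₜ[A] y) = x * y) (d : ℕ)
    (h : DRing.HasTorDimLE (B ⊗[A] B) d B)
    (φ : K ⊗[A] B →+* C)
    (hRC : ∀ (k : K) (b : B), φ (k ⊗ₜ[A] b) = algebraMap K C k * algebraMap B C b) :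
    @DRing.HasTorDimLE (K ⊗[A] B) _ d C _ φ.toAlgebra.toModule := by
  let fPQ : B ⊗[A] B →ₐ[A] C ⊗[A] B :=
    Algebra.TensorProduct.map (IsScalarTower.toAlgHom A B C) (AlgHom.id A B)
  letI iPQ : Algebra (B ⊗[A] B) (C ⊗[A] B) := fPQ.toRingHom.toAlgebra
  let fRQ : K ⊗[A] B →ₐ[A] C ⊗[A] B :=
    Algebra.TensorProduct.map (IsScalarTower.toAlgHom A K C) (AlgHom.id A B)
  letI iRQ : Algebra (K ⊗[A] B) (C ⊗[A] B) := fRQ.toRingHom.toAlgebra
  let fQC : C ⊗[A] B →ₐ[A] C :=
    Algebra.TensorProduct.lift (AlgHom.id A C) (IsScalarTower.toAlgHom A B C)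
      (fun _ _ => Commute.all _ _)
  letI iQC : Algebra (C ⊗[A] B) C := fQC.toRingHom.toAlgebra
  have hPQ : ∀ x y : B, algebraMap (B ⊗[A] B) (C ⊗[A] B) (x ⊗ₜ[A] y) =
      algebraMap B C x ⊗ₜ[A] y := fun x y => by
    change fPQ (x ⊗ₜ[A] y) = _
    simp [fPQ]
  have hRQ : ∀ (k : K) (y : B), algebraMap (K ⊗[A] B) (C ⊗[A] B) (k ⊗ₜ[A] y) =
      algebraMap K C k ⊗ₜ[A] y := fun k y => by
    change fRQ (k ⊗ₜ[A] y) = _
    simp [fRQ]
  have hQCt : ∀ (c : C) (y : B), algebraMap (C ⊗[A] B) C (c ⊗ₜ[A] y) =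
      c * algebraMap B C y := fun c y => by
    change fQC (c ⊗ₜ[A] y) = _
    simp [fQC]
  haveI tBPQ : IsScalarTower B (B ⊗[A] B) (C ⊗[A] B) := IsScalarTower.of_algebraMap_eq (fun b => by
    rw [Algebra.TensorProduct.algebraMap_apply, Algebra.TensorProduct.algebraMap_apply, hPQ]
    simp)
  haveI tKRQ : IsScalarTower K (K ⊗[A] B) (C ⊗[A] B) := IsScalarTower.of_algebraMap_eq (fun k => by
    rw [Algebra.TensorProduct.algebraMap_apply, Algebra.TensorProduct.algebraMap_apply, hRQ]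
    simp)
  haveI pB : Algebra.IsPushout B C (B ⊗[A] B) (C ⊗[A] B) :=
    Algebra.IsPushout.tensorProduct_tensorProduct A B B C (by
      ext b
      simp [hPQ])
  haveI pK : Algebra.IsPushout K C (K ⊗[A] B) (C ⊗[A] B) :=
    Algebra.IsPushout.tensorProduct_tensorProduct A B K C (by
      ext b
      simp [hRQ])
  haveI pK' : Algebra.IsPushout K (K ⊗[A] B) C (C ⊗[A] B) := Algebra.IsPushout.symm pK
  have hQ0 : DRing.HasTorDimLE (K ⊗[A] B) 0 (C ⊗[A] B) :=
    hasTorDimLE_of_linearEquiv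
      (Algebra.IsPushout.equiv K (K ⊗[A] B) C (C ⊗[A] B)).toLinearEquiv 0
      (hasTorDimLE_tensorProduct 0 (hasTorDimLE_zero_of_flat (A := K) C))
  have hC : DRing.HasTorDimLE (C ⊗[A] B) d C :=
    hasTorDimLE_of_isPushout_section (B := B) (P := B ⊗[A] B) (C := C) (Q := C ⊗[A] B)
      (fun b => by
        rw [Algebra.TensorProduct.algebraMap_apply, hmul]
        simp)
      (fun c => by
        rw [Algebra.TensorProduct.algebraMap_apply, hQCt]
        simp)
      (fun p => by
        induction p using TensorProduct.induction_on with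
        | zero => simp
        | tmul x y => rw [hPQ, hQCt, hmul, map_mul]
        | add x y hx hy => rw [map_add, map_add, map_add, map_add, hx, hy]) d h
  have htow : ∀ r : K ⊗[A] B, φ r =
      algebraMap (C ⊗[A] B) C (algebraMap (K ⊗[A] B) (C ⊗[A] B) r) := fun r => by
    induction r using TensorProduct.induction_on with
    | zero => simp
    | tmul k b => rw [hRC, hRQ, hQCt]
    | add x y hx hy => rw [map_add, map_add, map_add, hx, hy]
  exact @hasTorDimLE_trans_zero (K ⊗[A] B) (C ⊗[A] B) C _ _ _ iRQ iQC φ.toAlgebra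
    (@IsScalarTower.of_algebraMap_eq (K ⊗[A] B) (C ⊗[A] B) C _ _ _ iRQ iQC φ.toAlgebra
      (fun r => htow r)) d hQ0 hC

end fibre

section regular

variable {A B K : Type u} [CommRing A] [CommRing B] [Field K]
  [Algebra A B] [Algebra A K] [Module.Flat A B] [Algebra (B ⊗[A] B) B]

theorem isRegularRing_fibre
    (hmul : ∀ x y : B, algebraMap (B ⊗[A] B) B (x ⊗ₜ[A] y) = x * y) (d : ℕ)
    (h : DRing.HasTorDimLE (B ⊗[A] B) d B) [IsNoetherianRing (K ⊗[A] B)] :
    IsRegularRing (K ⊗[A] B) := by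
  rw [isRegularRing_iff]
  intro q hq
  letI iB : Algebra B (K ⊗[A] B) := Algebra.TensorProduct.rightAlgebra
  haveI : IsScalarTower A B (K ⊗[A] B) := Algebra.TensorProduct.right_isScalarTower
  have h0 := hasTorDimLE_fibre (A := A) (B := B) (K := K) (C := (K ⊗[A] B) ⧸ q) hmul d h
    (Ideal.Quotient.mk q) (fun k b => by
      rw [IsScalarTower.algebraMap_apply K (K ⊗[A] B) ((K ⊗[A] B) ⧸ q),
        IsScalarTower.algebraMap_apply B (K ⊗[A] B) ((K ⊗[A] B) ⧸ q), Ideal.Quotient.algebraMap_eq,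
        ← map_mul, Algebra.TensorProduct.algebraMap_apply,
        Algebra.TensorProduct.right_algebraMap_apply, Algebra.TensorProduct.tmul_mul_tmul]
      simp)
  have halg : (Ideal.Quotient.mk q).toAlgebra = Ideal.Quotient.algebra (K ⊗[A] B) :=
    Algebra.algebra_ext _ _ (fun r => rfl)
  rw [halg] at h0
  have h1 : DRing.HasTorDimLE (K ⊗[A] B) d ((K ⊗[A] B) ⧸ q) := h0
  have h2 : HasProjectiveDimensionLT (ModuleCat.of (K ⊗[A] B) ((K ⊗[A] B) ⧸ q)) (d + 1) :=
    Groth.Agent.Lib.Helper21.RHr.hasProjectiveDimensionLT_of_pc _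
      (isPseudoCoherentModule'_of_finite_noetherian _) d h1
  exact Groth.Agent.Lib.Helper26.SerreReg.isRegularLocalRing_of_hasProjectiveDimensionLT_residueField
    _ (d + 1)
    (Groth.Agent.Lib.Helper26.RegularRing.hasProjectiveDimensionLT_residueField_atPrime q d h2)

end regular

end Groth.Agent.Lib.Helper21.RHu
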