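import Mathlib
import Groth.Agent.Lib.Helper21.RHu
import Groth.Agent.Lib.Helper21.GeomRegE

/-!
# Finite tor dimension of the diagonal, local version (helper21)

* `formallySmooth_residueField_tensor_of_torDim`: `A → B` a flat local homomorphism essentially of
  finite type with `B` of finite tor dimension over `B ⊗_A B`: the closed fibre is formally smooth.
* `exists_smooth_of_formallySmooth_isLocalization`: a local ring `B`, formally smooth over `A` and a
  localization of a finitely presented `A`-algebra, is the localization at a prime of a smooth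
  `A`-algebra.
-/

set_option autoImplicit false
set_option linter.style.haveILetI false
universe u
open TensorProduct

namespace Groth.Agent.Lib.Helper21.RHv

section fibre

variable {A B : Type u} [CommRing A] [CommRing B] [Algebra A B] [IsLocalRing A] [IsLocalRing B]
  [IsLocalHom (algebraMap A B)] [Module.Flat A B] [Algebra.EssFiniteType A B]
  [Algebra (B ⊗[A] B) B]

theorem formallySmooth_residueField_tensor_of_torDim
    (hmul : ∀ x y : B, algebraMap (B ⊗[A] B) B (x ⊗ₜ[A] y) = x * y) (d : ℕ)
    (hd : DRing.HasTorDimLE (B ⊗[A] B) d B) :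
    Algebra.FormallySmooth (IsLocalRing.ResidueField A) (IsLocalRing.ResidueField A ⊗[A] B) := by
  haveI : IsNoetherianRing (IsLocalRing.ResidueField A ⊗[A] B) :=
    Algebra.EssFiniteType.isNoetherianRing (IsLocalRing.ResidueField A)
      (IsLocalRing.ResidueField A ⊗[A] B)
  have hgr : CAlg.IsGeometricallyRegular (IsLocalRing.ResidueField A)
      (IsLocalRing.ResidueField A ⊗[A] B) := by
    intro k' _ _ hfin
    letI : Algebra A k' :=
      ((algebraMap (IsLocalRing.ResidueField A) k').comp
        (algebraMap A (IsLocalRing.ResidueField A))).toAlgebra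
    haveI : IsScalarTower A (IsLocalRing.ResidueField A) k' :=
      IsScalarTower.of_algebraMap_eq (fun _ => rfl)
    haveI : IsNoetherianRing (k' ⊗[A] B) := Algebra.EssFiniteType.isNoetherianRing k' (k' ⊗[A] B)
    haveI : IsRegularRing (k' ⊗[A] B) :=
      Groth.Agent.Lib.Helper21.RHu.isRegularRing_fibre (K := k') hmul d hd
    exact IsRegularRing.of_ringEquiv
      (Algebra.TensorProduct.cancelBaseChange A (IsLocalRing.ResidueField A)
        (IsLocalRing.ResidueField A) k' B).symm.toRingEquiv
  have h1 := Groth.Agent.Lib.Helper21.GeomReg.forall_adicFS_of_isGeometricallyRegular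
    (IsLocalRing.ResidueField A) (IsLocalRing.ResidueField A ⊗[A] B) hgr
    (IsLocalRing.maximalIdeal (IsLocalRing.ResidueField A ⊗[A] B))
  haveI hFm : Algebra.FormallySmooth (IsLocalRing.ResidueField A)
      (Localization.AtPrime (IsLocalRing.maximalIdeal (IsLocalRing.ResidueField A ⊗[A] B))) :=
    Groth.Agent.Lib.Helper21.JacAdic.formallySmooth_of_isAdicFormallySmooth_of_essFiniteType h1
  let e : (IsLocalRing.ResidueField A ⊗[A] B) ≃ₐ[IsLocalRing.ResidueField A ⊗[A] B]
      Localization.AtPrime (IsLocalRing.maximalIdeal (IsLocalRing.ResidueField A ⊗[A] B)) :=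
    IsLocalization.atUnits (IsLocalRing.ResidueField A ⊗[A] B)
      (IsLocalRing.maximalIdeal (IsLocalRing.ResidueField A ⊗[A] B)).primeCompl
      (fun x hx => IsLocalRing.notMem_maximalIdeal.mp hx)
  exact Algebra.FormallySmooth.of_equiv (e.restrictScalars (IsLocalRing.ResidueField A)).symm

end fibre

section spread

variable {A P B : Type u} [CommRing A] [CommRing P] [CommRing B] [Algebra A P] [Algebra P B]
  [Algebra A B] [IsScalarTower A P B] [Algebra.FinitePresentation A P] [IsLocalRing B]

theorem exists_smooth_of_formallySmooth_isLocalization (M₀ : Submonoid P) [IsLocalization M₀ B]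
    [Algebra.FormallySmooth A B] :
    ∃ (C : Type u) (_ : CommRing C) (_ : Algebra A C) (_ : Algebra C B) (_ : IsScalarTower A C B)
      (q : Ideal C) (_ : q.IsPrime), Algebra.Smooth A C ∧ IsLocalization.AtPrime B q := by
  have hM₀ : ∀ y ∈ M₀, IsUnit (algebraMap P B y) := fun y hy =>
    IsLocalization.map_units B (⟨y, hy⟩ : M₀)
  haveI hprime : ((IsLocalRing.maximalIdeal B).comap (algebraMap P B)).IsPrime :=
    Ideal.comap_isPrime _ _
  haveI hloc : IsLocalization.AtPrime B ((IsLocalRing.maximalIdeal B).comap (algebraMap P B)) :=
    IsLocalization.of_le M₀ ((IsLocalRing.maximalIdeal B).comap (algebraMap P B)).primeCompl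
      (fun y hy => by
        change ¬ (algebraMap P B y ∈ IsLocalRing.maximalIdeal B)
        exact IsLocalRing.notMem_maximalIdeal.mpr (hM₀ y hy))
      (fun r hr => IsLocalRing.notMem_maximalIdeal.mp hr)
  have hsm : (⟨(IsLocalRing.maximalIdeal B).comap (algebraMap P B), hprime⟩ : PrimeSpectrum P) ∈
      Algebra.smoothLocus A P := by
    change Algebra.FormallySmooth A
      (Localization.AtPrime ((IsLocalRing.maximalIdeal B).comap (algebraMap P B)))
    exact Algebra.FormallySmooth.of_equiv
      ((IsLocalization.algEquiv ((IsLocalRing.maximalIdeal B).comap (algebraMap P B)).primeCompl B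
        (Localization.AtPrime ((IsLocalRing.maximalIdeal B).comap
          (algebraMap P B)))).restrictScalars A)
  obtain ⟨_, ⟨_, ⟨f, rfl⟩, rfl⟩, hxf, hf⟩ :=
    PrimeSpectrum.isBasis_basic_opens.exists_subset_of_mem_open hsm
      (Algebra.isOpen_smoothLocus (R := A) (A := P))
  have hC : Algebra.Smooth A (Localization.Away f) :=
    Algebra.basicOpen_subset_smoothLocus_iff_smooth.mp hf
  have hfq : f ∉ (IsLocalRing.maximalIdeal B).comap (algebraMap P B) := hxf
  have hfu : IsUnit (algebraMap P B f) := IsLocalRing.notMem_maximalIdeal.mp hfq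
  letI iCB : Algebra (Localization.Away f) B :=
    (IsLocalization.Away.lift (S := Localization.Away f) f (g := algebraMap P B) hfu).toAlgebra
  haveI tPCB : IsScalarTower P (Localization.Away f) B :=
    IsScalarTower.of_algebraMap_eq (fun x => (IsLocalization.Away.lift_eq f hfu x).symm)
  haveI tACB : IsScalarTower A (Localization.Away f) B := IsScalarTower.of_algebraMap_eq (fun a => by
    rw [IsScalarTower.algebraMap_apply A P (Localization.Away f),
      ← IsScalarTower.algebraMap_apply P (Localization.Away f) B,
      ← IsScalarTower.algebraMap_apply A P B])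
  have hle : Submonoid.powers f ≤ ((IsLocalRing.maximalIdeal B).comap (algebraMap P B)).primeCompl := by
    rw [Submonoid.powers_le]
    exact hfq
  haveI h1 : IsLocalization
      ((((IsLocalRing.maximalIdeal B).comap (algebraMap P B)).primeCompl).map
        (algebraMap P (Localization.Away f))) B :=
    IsLocalization.isLocalization_of_submonoid_le (Localization.Away f) B (Submonoid.powers f)
      ((IsLocalRing.maximalIdeal B).comap (algebraMap P B)).primeCompl hle
  refine ⟨Localization.Away f, inferInstance, inferInstance, iCB, tACB,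
    (IsLocalRing.maximalIdeal B).comap (algebraMap (Localization.Away f) B),
    Ideal.comap_isPrime _ _, hC, ?_⟩
  exact IsLocalization.of_le
    ((((IsLocalRing.maximalIdeal B).comap (algebraMap P B)).primeCompl).map
      (algebraMap P (Localization.Away f)))
    ((IsLocalRing.maximalIdeal B).comap (algebraMap (Localization.Away f) B)).primeCompl
    (by
      rintro _ ⟨y, hy, rfl⟩
      change ¬ (algebraMap (Localization.Away f) B (algebraMap P (Localization.Away f) y) ∈
        IsLocalRing.maximalIdeal B)
      rw [← IsScalarTower.algebraMap_apply P (Localization.Away f) B y]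
      exact hy)
    (fun r hr => IsLocalRing.notMem_maximalIdeal.mp hr)

end spread

end Groth.Agent.Lib.Helper21.RHv
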