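import Mathlib
import Groth.Agent.Lib.Helper21.JacAdicF

/-!
# Helper library (helper21): lifting functionals on differentials along `A ⧸ 𝔪 ^ (n+1) → A ⧸ 𝔪`

For an `𝔪`-adically formally smooth `k`-algebra `A`, every `A`-linear map `Ω_{A/k} → A ⧸ 𝔪` lifts to
`A ⧸ 𝔪 ^ (n+1)`.  Consequence: if the `ω i` admit a dual family of functionals with values in
`A ⧸ 𝔪`, then `∑ c i • ω i ∈ 𝔪 ^ n Ω` forces `c i ∈ 𝔪 ^ n`.
-/

set_option autoImplicit false
set_option linter.style.haveILetI false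

namespace Groth.Agent.Lib.Helper21.RHw

open KaehlerDifferential Groth.Agent.Lib.Helper21.JacAdicF Groth.Agent.Lib.Helper21.FlatSmooth

universe u

section lift

variable {k A : Type u} [CommRing k] [CommRing A] [Algebra k A]

theorem derivation_eq_zero_of_mem_mul {M : Type*} [AddCommGroup M] [Module A M] [Module k M]
    (I : Ideal A) (hM : ∀ a ∈ I, ∀ x : M, a • x = 0) (δ : Derivation k A M) (x : A)
    (hx : x ∈ I * I) : δ x = 0 := by
  rw [← Ideal.smul_eq_mul] at hx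
  refine Submodule.smul_induction_on hx (fun a ha b hb => ?_) (fun y z hy hz => ?_)
  · rw [smul_eq_mul, Derivation.leibniz, hM a ha, hM b hb, add_zero]
  · rw [map_add, hy, hz, add_zero]

/-- lifting functionals on differentials -/
theorem exists_lift_functional (𝔪 : Ideal A) (hfs : CAlgX.IsAdicFormallySmooth k A 𝔪) (n : ℕ)
    (g : Ω[A⁄k] →ₗ[A] A ⧸ 𝔪) :
    ∃ h : Ω[A⁄k] →ₗ[A] A ⧸ 𝔪 ^ (n + 1),
      ∀ ω, Ideal.Quotient.factor (Ideal.pow_le_self (Nat.succ_ne_zero n)) (h ω) = g ω := by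
  classical
  have hIm : 𝔪 ^ (n + 1) ≤ 𝔪 := Ideal.pow_le_self (Nat.succ_ne_zero n)
  let Ab := A ⧸ 𝔪 ^ (n + 1)
  let q : Ab →ₐ[A] A ⧸ 𝔪 := Ideal.Quotient.factorₐ A hIm
  letI algq : Algebra Ab (A ⧸ 𝔪) := q.toRingHom.toAlgebra
  letI : Module Abᵐᵒᵖ (A ⧸ 𝔪) := Module.compHom (A ⧸ 𝔪) ((RingHom.id Ab).fromOpposite mul_comm)
  haveI : IsCentralScalar Ab (A ⧸ 𝔪) := ⟨fun a x => rfl⟩
  haveI : IsScalarTower A Ab (A ⧸ 𝔪) := IsScalarTower.of_algebraMap_eq (fun a => rfl)
  let δ : Derivation k A (A ⧸ 𝔪) := g.compDer (KaehlerDifferential.D k A)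
  let f : Ab →ₗ[Ab] (A ⧸ 𝔪) := Algebra.linearMap Ab (A ⧸ 𝔪)
  have hf : ∀ x, f x = q x := fun x => rfl
  letI algC : Algebra k (TrivSqZeroExt Ab Ab) :=
    ((TrivSqZeroExt.inlHom Ab Ab).comp (algebraMap k Ab)).toAlgebra
  letI algC'' : Algebra k (TrivSqZeroExt Ab (A ⧸ 𝔪)) :=
    ((TrivSqZeroExt.inlHom Ab (A ⧸ 𝔪)).comp (algebraMap k Ab)).toAlgebra
  let π : TrivSqZeroExt Ab Ab →ₐ[k] TrivSqZeroExt Ab (A ⧸ 𝔪) :=
    { (TrivSqZeroExt.map f).toRingHom with
      commutes' := fun c => TrivSqZeroExt.map_inl f _ }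
  have hπapp : ∀ z, π z = TrivSqZeroExt.map f z := fun z => rfl
  let φ : A →ₐ[k] TrivSqZeroExt Ab (A ⧸ 𝔪) :=
    { twHom (K := Ab) δ with
      commutes' := fun c => by
        show TrivSqZeroExt.inl (algebraMap A Ab (algebraMap k A c)) +
            TrivSqZeroExt.inr (δ (algebraMap k A c)) = TrivSqZeroExt.inl (algebraMap k Ab c)
        rw [Derivation.map_algebraMap, TrivSqZeroExt.inr_zero, add_zero,
          ← IsScalarTower.algebraMap_apply] }
  have hφapp : ∀ a, φ a = twHom (K := Ab) δ a := fun a => rfl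
  have hπ : Function.Surjective π := by
    intro z
    obtain ⟨y, hy⟩ := Ideal.Quotient.factor_surjective hIm z.snd
    refine ⟨TrivSqZeroExt.inl z.fst + TrivSqZeroExt.inr y, ?_⟩
    rw [hπapp]
    apply TrivSqZeroExt.ext
    · rw [TrivSqZeroExt.fst_map, TrivSqZeroExt.fst_add, TrivSqZeroExt.fst_inl,
        TrivSqZeroExt.fst_inr, add_zero]
    · rw [TrivSqZeroExt.snd_map, TrivSqZeroExt.snd_add, TrivSqZeroExt.snd_inl,
        TrivSqZeroExt.snd_inr, zero_add, hf]
      exact hy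
  have hkfst : ∀ z : TrivSqZeroExt Ab Ab, z ∈ RingHom.ker π → z.fst = 0 := by
    intro z hz
    have h1 : π z = 0 := hz
    have h2 := congrArg TrivSqZeroExt.fst h1
    rwa [hπapp, TrivSqZeroExt.fst_map, TrivSqZeroExt.fst_zero] at h2
  have hsq : RingHom.ker π ^ 2 = ⊥ := by
    apply le_bot_iff.mp
    rw [pow_two, Ideal.mul_le]
    intro z hz w hw
    rw [Ideal.mem_bot]
    exact mul_eq_zero' z w (hkfst z hz) (hkfst w hw)
  have hφ : ∃ j : ℕ, ∀ x ∈ 𝔪 ^ j, φ x = 0 := by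
    refine ⟨(n + 1) + (n + 1), fun x hx => ?_⟩
    rw [pow_add] at hx
    have hxI : x ∈ 𝔪 ^ (n + 1) := Ideal.mul_le_left hx
    have hδ : δ x = 0 := by
      refine derivation_eq_zero_of_mem_mul (𝔪 ^ (n + 1)) (fun a ha y => ?_) δ x hx
      obtain ⟨b, rfl⟩ := Ideal.Quotient.mk_surjective y
      exact Ideal.Quotient.eq_zero_iff_mem.mpr (Ideal.mul_mem_right b _ (hIm ha))
    rw [hφapp]
    show TrivSqZeroExt.inl (algebraMap A Ab x) + TrivSqZeroExt.inr (δ x) = 0
    rw [hδ, TrivSqZeroExt.inr_zero, add_zero,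
      show algebraMap A Ab x = 0 from Ideal.Quotient.eq_zero_iff_mem.mpr hxI,
      TrivSqZeroExt.inl_zero]
  obtain ⟨χ, hχ⟩ := lifts_of_isAdicFormallySmooth hfs π hπ hsq φ hφ
  have hχ' : ∀ a, TrivSqZeroExt.map f (χ a) = twHom (K := Ab) δ a := fun a => AlgHom.congr_fun hχ a
  have hfst : ∀ a, (χ a).fst = algebraMap A Ab a := by
    intro a
    have h1 := congrArg TrivSqZeroExt.fst (hχ' a)
    rw [TrivSqZeroExt.fst_map, fst_twHom] at h1
    exact h1
  have hsnd : ∀ a, q (χ a).snd = δ a := by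
    intro a
    have h1 := congrArg TrivSqZeroExt.snd (hχ' a)
    rw [TrivSqZeroExt.snd_map, snd_twHom, hf] at h1
    exact h1
  let D : Derivation k A Ab := Derivation.mk'
    { toFun := fun a => (χ a).snd
      map_add' := fun a b => by rw [map_add, TrivSqZeroExt.snd_add]
      map_smul' := fun c a => by
        show (χ (c • a)).snd = c • (χ a).snd
        rw [Algebra.smul_def c a, map_mul, χ.commutes]
        show (TrivSqZeroExt.inl (algebraMap k Ab c) * χ a).snd = c • (χ a).snd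
        rw [snd_mul', TrivSqZeroExt.fst_inl, TrivSqZeroExt.snd_inl, smul_zero, add_zero,
          algebraMap_smul] }
    (fun a b => by
      show (χ (a * b)).snd = a • (χ b).snd + b • (χ a).snd
      rw [map_mul, snd_mul', hfst, hfst, algebraMap_smul, algebraMap_smul])
  have hDapp : ∀ a, D a = (χ a).snd := fun a => rfl
  refine ⟨D.liftKaehlerDifferential, fun ω => ?_⟩
  have h1 : q.toLinearMap ∘ₗ D.liftKaehlerDifferential = g := by
    apply Derivation.liftKaehlerDifferential_unique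
    ext a
    show q (D.liftKaehlerDifferential (KaehlerDifferential.D k A a)) =
      g (KaehlerDifferential.D k A a)
    rw [Derivation.liftKaehlerDifferential_comp_D, hDapp]
    exact hsnd a
  exact LinearMap.congr_fun h1 ω

/-- the key independence statement modulo powers of `𝔪` -/
theorem mem_pow_of_sum_smul_mem (𝔪 : Ideal A) (hfs : CAlgX.IsAdicFormallySmooth k A 𝔪) {r : ℕ}
    (ω : Fin r → Ω[A⁄k]) (g : Fin r → (Ω[A⁄k] →ₗ[A] A ⧸ 𝔪))
    (hg : ∀ i j, g j (ω i) = if i = j then 1 else 0) :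
    ∀ (n : ℕ) (c : Fin r → A),
      (∑ i, c i • ω i) ∈ (𝔪 ^ n • ⊤ : Submodule A Ω[A⁄k]) → ∀ i, c i ∈ 𝔪 ^ n := by
  classical
  intro n
  induction n with
  | zero =>
    intro c _ i
    rw [pow_zero, Ideal.one_eq_top]
    trivial
  | succ n ih =>
    intro c hc j
    have hcn : ∀ i, c i ∈ 𝔪 ^ n :=
      ih c (Submodule.smul_mono_left (Ideal.pow_le_pow_right n.le_succ) hc)
    obtain ⟨h, hh⟩ := exists_lift_functional 𝔪 hfs n (g j)
    have hkill : ∀ x ∈ (𝔪 ^ (n + 1) • ⊤ : Submodule A Ω[A⁄k]), h x = 0 := by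
      intro x hx
      refine Submodule.smul_induction_on hx (fun a ha y _ => ?_) (fun y z hy hz => ?_)
      · rw [map_smul]
        obtain ⟨b, hb⟩ := Ideal.Quotient.mk_surjective (h y)
        rw [← hb]
        exact Ideal.Quotient.eq_zero_iff_mem.mpr (Ideal.mul_mem_right b _ ha)
      · rw [map_add, hy, hz, add_zero]
    have h0 := hkill _ hc
    rw [map_sum] at h0
    choose a ha using fun i => Ideal.Quotient.mk_surjective (h (ω i))
    have hsum : ∑ i, c i * a i ∈ 𝔪 ^ (n + 1) := by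
      rw [← Ideal.Quotient.eq_zero_iff_mem, map_sum, ← h0]
      refine Finset.sum_congr rfl (fun i _ => ?_)
      rw [map_smul, map_mul, ha i]
      rfl
    have hai : ∀ i, a i - (if i = j then 1 else 0) ∈ 𝔪 := by
      intro i
      have h1 := hh (ω i)
      rw [← ha i, hg i j] at h1
      have h2 : Ideal.Quotient.mk 𝔪 (a i) = if i = j then 1 else 0 := h1
      rw [← Ideal.Quotient.eq, h2]
      split_ifs
      · rw [map_one]
      · rw [map_zero]
    have hcj : c j = ∑ i, c i * a i - ∑ i, c i * (a i - (if i = j then 1 else 0)) := by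
      rw [← Finset.sum_sub_distrib]
      simp only [mul_sub, sub_sub_cancel, mul_ite, mul_one, mul_zero]
      rw [Finset.sum_ite_eq']
      simp
    rw [hcj]
    refine Ideal.sub_mem _ hsum (Ideal.sum_mem _ (fun i _ => ?_))
    rw [pow_succ]
    exact Ideal.mul_mem_mul (hcn i) (hai i)

end lift

end Groth.Agent.Lib.Helper21.RHw
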