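import Mathlib

/-!
# Helper library (helper21): freeness of an adic completion from a formal basis

`A` an `I`-adically complete ring, `M` an `A`-module, `ω : Fin r → M` such that the `ω i` generate
`M` modulo every power of `I` and are independent modulo every power of `I`.  Then the adic
completion of `M` is free of rank `r`.
-/

set_option autoImplicit false
set_option linter.style.haveILetI false

namespace Groth.Agent.Lib.Helper21.RHx

universe u

theorem sup_pow_smul_eq_top {A M : Type*} [CommRing A] [AddCommGroup M] [Module A M]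
    (S : Submodule A M) (I : Ideal A) (h : S ⊔ I • (⊤ : Submodule A M) = ⊤) (n : ℕ) :
    S ⊔ I ^ n • (⊤ : Submodule A M) = ⊤ := by
  induction n with
  | zero =>
    rw [pow_zero, Ideal.one_eq_top, Submodule.top_smul, sup_top_eq]
  | succ n ih =>
    have h1 : I • (⊤ : Submodule A M) ≤ S ⊔ I ^ (n + 1) • (⊤ : Submodule A M) := by
      calc I • (⊤ : Submodule A M) = I • (S ⊔ I ^ n • (⊤ : Submodule A M)) := by rw [ih]
        _ = I • S ⊔ I • (I ^ n • (⊤ : Submodule A M)) := Submodule.smul_sup _ _ _
        _ ≤ S ⊔ I ^ (n + 1) • (⊤ : Submodule A M) := by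
            refine sup_le_sup Submodule.smul_le_right ?_
            rw [← Submodule.mul_smul, ← pow_succ']
    refine eq_top_iff.mpr ?_
    calc (⊤ : Submodule A M) = S ⊔ I • (⊤ : Submodule A M) := h.symm
      _ ≤ S ⊔ I ^ (n + 1) • (⊤ : Submodule A M) := sup_le le_sup_left h1

section

variable {A M : Type u} [CommRing A] [AddCommGroup M] [Module A M] (I : Ideal A)
  [IsAdicComplete I A] {r : ℕ} (ω : Fin r → M)

theorem bijective_of_pow
    (hS : ∀ n, Submodule.span A (Set.range ω) ⊔ I ^ n • (⊤ : Submodule A M) = ⊤)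
    (hI : ∀ (n : ℕ) (c : Fin r → A),
      (∑ i, c i • ω i) ∈ (I ^ n • ⊤ : Submodule A M) → ∀ i, c i ∈ I ^ n) :
    Function.Bijective ((AdicCompletion.of I M) ∘ₗ (Fintype.linearCombination A ω)) := by
  classical
  constructor
  · rw [injective_iff_map_eq_zero]
    intro c hc
    funext i
    apply IsHausdorff.haus (inferInstance : IsHausdorff I A)
    intro n
    rw [SModEq.zero, smul_eq_mul, Ideal.mul_top]
    refine hI n c ?_ i
    have h1 := congrArg (fun x => x.val n) hc
    simp only [LinearMap.comp_apply, AdicCompletion.of_apply, Fintype.linearCombination_apply,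
      AdicCompletion.val_zero_apply, Submodule.mkQ_apply] at h1
    exact (Submodule.Quotient.mk_eq_zero _).mp h1
  · intro y
    have hw : ∀ n, ∃ w : M, Submodule.Quotient.mk w = y.val n :=
      fun n => Submodule.Quotient.mk_surjective _ (y.val n)
    choose w hw using hw
    have hcw : ∀ n, ∃ c : Fin r → A, w n - ∑ i, c i • ω i ∈ (I ^ n • ⊤ : Submodule A M) := by
      intro n
      have h1 : w n ∈ Submodule.span A (Set.range ω) ⊔ I ^ n • (⊤ : Submodule A M) := by
        rw [hS n]; trivial
      obtain ⟨s, hs, t, ht, hst⟩ := Submodule.mem_sup.mp h1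
      obtain ⟨c, hc⟩ := (Submodule.mem_span_range_iff_exists_fun A).mp hs
      refine ⟨c, ?_⟩
      rw [hc, ← hst, add_sub_cancel_left]
      exact ht
    choose c hc using hcw
    have hww : ∀ {m n : ℕ}, m ≤ n → w n - w m ∈ (I ^ m • ⊤ : Submodule A M) := by
      intro m n hmn
      rw [← Submodule.Quotient.eq, hw m]
      have h1 := y.2 hmn
      rw [← h1, ← hw n]
      rfl
    have hcc : ∀ {m n : ℕ}, m ≤ n → ∀ i, c n i - c m i ∈ I ^ m := by
      intro m n hmn
      apply hI m (fun i => c n i - c m i)
      have e : ∑ i, (c n i - c m i) • ω i =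
          (w n - w m) - (w n - ∑ i, c n i • ω i) + (w m - ∑ i, c m i • ω i) := by
        simp only [sub_smul, Finset.sum_sub_distrib]
        abel
      rw [e]
      exact Submodule.add_mem _ (Submodule.sub_mem _ (hww hmn)
        (Submodule.smul_mono_left (Ideal.pow_le_pow_right hmn) (hc n))) (hc m)
    have hL : ∀ i, ∃ L : A, ∀ n, c n i ≡ L [SMOD (I ^ n • ⊤ : Submodule A A)] := by
      intro i
      apply IsPrecomplete.prec (inferInstance : IsPrecomplete I A)
      intro m n hmn
      rw [SModEq.sub_mem, smul_eq_mul, Ideal.mul_top]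
      have h1 := hcc hmn i
      rw [← neg_sub]
      exact neg_mem h1
    choose L hL using hL
    refine ⟨L, ?_⟩
    apply AdicCompletion.ext
    intro n
    rw [← hw n]
    simp only [LinearMap.comp_apply, AdicCompletion.of_apply, Fintype.linearCombination_apply,
      Submodule.mkQ_apply]
    rw [Submodule.Quotient.eq]
    have e : ∑ i, L i • ω i - w n =
        ∑ i, (L i - c n i) • ω i - (w n - ∑ i, c n i • ω i) := by
      simp only [sub_smul, Finset.sum_sub_distrib]
      abel
    rw [e]
    refine Submodule.sub_mem _ (Submodule.sum_mem _ (fun i _ =>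
      Submodule.smul_mem_smul ?_ Submodule.mem_top)) (hc n)
    have h1 := hL i n
    rw [SModEq.sub_mem, smul_eq_mul, Ideal.mul_top] at h1
    rw [← neg_sub]
    exact neg_mem h1

theorem finite_free_finrank [Nontrivial A]
    (hS : ∀ n, Submodule.span A (Set.range ω) ⊔ I ^ n • (⊤ : Submodule A M) = ⊤)
    (hI : ∀ (n : ℕ) (c : Fin r → A),
      (∑ i, c i • ω i) ∈ (I ^ n • ⊤ : Submodule A M) → ∀ i, c i ∈ I ^ n) :
    Module.Finite A (AdicCompletion I M) ∧ Module.Free A (AdicCompletion I M) ∧
      Module.finrank A (AdicCompletion I M) = r := by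
  have hb := bijective_of_pow I ω hS hI
  let e : (Fin r → A) ≃ₗ[A] AdicCompletion I M := LinearEquiv.ofBijective _ hb
  refine ⟨Module.Finite.equiv e, Module.Free.of_equiv e, ?_⟩
  rw [← e.finrank_eq, Module.finrank_fin_fun]

end

end Groth.Agent.Lib.Helper21.RHx
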