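import Mathlib
import Groth.Agent.Lib.Helper1.H1Alg
import Groth.Agent.Lib.Helper6.CartierEq3
import Groth.Agent.Lib.Helper21.H1Adic
import Groth.Agent.Lib.Helper21.CohenStructF

/-!
# Helper library (helper21): the fibre rank of the differentials of a formally smooth local algebra

`k` a field, `A` a Noetherian local `k`-algebra, adically formally smooth over `k`, with residue
field `K` finitely generated over `k`.  Then `dim_K (K ⊗_A Ω_{A/k}) = dim A + trdeg_k K`.
-/

set_option autoImplicit false
set_option linter.style.haveILetI false

namespace Groth.Agent.Lib.Helper21.RHy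

open IsLocalRing TensorProduct

universe u

/-- `H¹(L_{K/A}) = 𝔪/𝔪²` for the residue field `K` of a local ring `A` -/
theorem nonempty_h1Equiv (A : Type u) [CommRing A] [IsLocalRing A] :
    Nonempty (Algebra.H1Cotangent A (ResidueField A) ≃ₗ[ResidueField A] CotangentSpace A) := by
  have h : Function.Surjective (algebraMap A (ResidueField A)) := IsLocalRing.residue_surjective
  let P := Groth.Agent.Lib.Helper1.H1Alg.extOfSurj A (ResidueField A) h
  have hker : P.ker = maximalIdeal A := IsLocalRing.ker_residue
  let e₀ := Ideal.Cotangent.equivOfEq P.ker (maximalIdeal A) hker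
  let e₂ : P.Cotangent ≃ₗ[ResidueField A] CotangentSpace A :=
    { toFun := fun x => e₀ x.val
      map_add' := fun x y => by rw [Algebra.Extension.Cotangent.val_add, map_add]
      map_smul' := fun κ x => by
        rw [Algebra.Extension.Cotangent.val_smul, map_smul, RingHom.id_apply]
        conv_rhs => rw [← P.algebraMap_σ κ]
        exact (algebraMap_smul (ResidueField A) (P.σ κ) (e₀ x.val)).symm
      invFun := fun y => Algebra.Extension.Cotangent.of (e₀.symm y)
      left_inv := fun x => by
        show Algebra.Extension.Cotangent.of (e₀.symm (e₀ x.val)) = x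
        rw [e₀.symm_apply_apply]
        rfl
      right_inv := fun y => by
        show e₀ (Algebra.Extension.Cotangent.of (e₀.symm y)).val = y
        rw [Algebra.Extension.Cotangent.val_of, e₀.apply_symm_apply] }
  exact ⟨P.h1CotangentEquivCotangent.trans e₂⟩

theorem finrank_residue_tensor_kaehler (k A : Type u) [Field k] [CommRing A] [IsLocalRing A]
    [IsNoetherianRing A] [Algebra k A]
    (hfs : CAlgX.IsAdicFormallySmooth k A (maximalIdeal A))
    [Algebra.EssFiniteType k (ResidueField A)] :
    Module.Finite (ResidueField A) (ResidueField A ⊗[A] Ω[A⁄k]) ∧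
    (Module.finrank (ResidueField A) (ResidueField A ⊗[A] Ω[A⁄k]) : WithBot ℕ∞) =
      ringKrullDim A + (Cardinal.toNat (Algebra.trdeg k (ResidueField A)) : WithBot ℕ∞) := by
  classical
  obtain ⟨hH1f, hΩf, t, ht, hcart⟩ :=
    Groth.Agent.Lib.Helper6.CartierEq.exact_of_essFiniteType k (ResidueField A)
  have hreg : IsRegularLocalRing A :=
    (Groth.Agent.Lib.Helper21.CohenStruct.regular_of_isAdicFormallySmooth k A hfs).1
  have hdim := (IsRegularLocalRing.iff_finrank_cotangentSpace A).mp hreg
  obtain ⟨e⟩ := nonempty_h1Equiv A
  haveI : Module.Finite (ResidueField A) (Algebra.H1Cotangent A (ResidueField A)) :=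
    Module.Finite.equiv e.symm
  have hd : Module.finrank (ResidueField A) (Algebra.H1Cotangent A (ResidueField A)) =
      Module.finrank (ResidueField A) (CotangentSpace A) := e.finrank_eq
  have hinj := Groth.Agent.Lib.Helper21.H1Adic.S9282_aux k A hfs
  have ex1 := Algebra.H1Cotangent.exact_map_δ k A (ResidueField A)
  have ex2 := Algebra.H1Cotangent.exact_δ_mapBaseChange k A (ResidueField A)
  have hs3 : Function.Surjective (KaehlerDifferential.mapBaseChange k A (ResidueField A)) :=
    KaehlerDifferential.mapBaseChange_surjective k A (ResidueField A)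
      IsLocalRing.residue_surjective
  have hk3 : LinearMap.ker (KaehlerDifferential.mapBaseChange k A (ResidueField A)) =
      LinearMap.range (Algebra.H1Cotangent.δ k A (ResidueField A)) := LinearMap.exact_iff.mp ex2
  have hk2 : LinearMap.ker (Algebra.H1Cotangent.δ k A (ResidueField A)) =
      LinearMap.range (Algebra.H1Cotangent.map k A (ResidueField A) (ResidueField A)) :=
    LinearMap.exact_iff.mp ex1
  haveI hfin : Module.Finite (ResidueField A) (ResidueField A ⊗[A] Ω[A⁄k]) := by
    haveI : Module.Finite (ResidueField A)
        (LinearMap.ker (KaehlerDifferential.mapBaseChange k A (ResidueField A))) := by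
      rw [hk3]; infer_instance
    haveI : Module.Finite (ResidueField A) ((ResidueField A ⊗[A] Ω[A⁄k]) ⧸
        LinearMap.ker (KaehlerDifferential.mapBaseChange k A (ResidueField A))) :=
      Module.Finite.equiv
        ((KaehlerDifferential.mapBaseChange k A (ResidueField A)).quotKerEquivOfSurjective hs3).symm
    exact Module.Finite.of_submodule_quotient
      (LinearMap.ker (KaehlerDifferential.mapBaseChange k A (ResidueField A)))
  refine ⟨hfin, ?_⟩
  have r3 := LinearMap.finrank_range_add_finrank_ker
    (KaehlerDifferential.mapBaseChange k A (ResidueField A))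
  have r2 := LinearMap.finrank_range_add_finrank_ker (Algebra.H1Cotangent.δ k A (ResidueField A))
  rw [LinearMap.range_eq_top.mpr hs3, finrank_top, hk3] at r3
  rw [hk2, LinearMap.finrank_range_of_inj hinj] at r2
  have hN2 : Module.finrank (ResidueField A) (ResidueField A ⊗[A] Ω[A⁄k]) =
      Module.finrank (ResidueField A) (CotangentSpace A) + t := by omega
  rw [hN2, ht, Cardinal.toNat_natCast]
  push_cast
  rw [hdim]

end Groth.Agent.Lib.Helper21.RHy
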