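import Mathlib

/-!
# Extension of derivations along formally étale maps; surjectivity onto a finite completion (helper21)
-/

set_option autoImplicit false
set_option linter.style.haveILetI false

namespace Groth.Agent.Lib.Helper21.RIc

open TensorProduct

/-- derivations extend along formally étale maps -/
theorem exists_derivation_extension (R S T : Type*) [CommRing R] [CommRing S] [CommRing T]
    [Algebra R S] [Algebra R T] [Algebra S T] [IsScalarTower R S T] [Algebra.FormallyEtale S T]
    (D : Derivation R S T) : ∃ D' : Derivation R T T, ∀ s, D' (algebraMap S T s) = D s := by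
  let ℓ : Ω[S⁄R] →ₗ[S] T := D.liftKaehlerDifferential
  let ℓ' : T ⊗[S] Ω[S⁄R] →ₗ[T] T := LinearMap.liftBaseChange T ℓ
  let φ : Ω[T⁄R] →ₗ[T] T :=
    ℓ'.comp (KaehlerDifferential.tensorKaehlerEquivOfFormallyEtale R S T).symm.toLinearMap
  refine ⟨LinearMap.compDer φ (KaehlerDifferential.D R T), fun s => ?_⟩
  show ℓ' ((KaehlerDifferential.tensorKaehlerEquivOfFormallyEtale R S T).symm
    (KaehlerDifferential.D R T (algebraMap S T s))) = D s
  rw [KaehlerDifferential.tensorKaehlerEquivOfFormallyEtale_symm_D_algebraMap,
    LinearMap.liftBaseChange_tmul, one_smul]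
  exact D.liftKaehlerDifferential_comp_D s

/-- the canonical map to a finite completion is surjective -/
theorem of_surjective_of_finite {R : Type*} [CommRing R] (I : Ideal R) (hI : I.FG)
    (hj : I ≤ Ideal.jacobson ⊥) (M : Type*) [AddCommGroup M] [Module R M]
    [Module.Finite R (AdicCompletion I M)] :
    Function.Surjective (AdicCompletion.of I M) := by
  rw [← LinearMap.range_eq_top, eq_top_iff]
  apply Submodule.le_of_le_smul_of_le_jacobson_bot (I := I) Module.Finite.fg_top hj
  rintro x -
  obtain ⟨m, hm⟩ := Submodule.Quotient.mk_surjective _ (AdicCompletion.eval I M 1 x)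
  have h1 : x - AdicCompletion.of I M m ∈ LinearMap.ker (AdicCompletion.eval I M 1) := by
    rw [LinearMap.mem_ker, map_sub, AdicCompletion.eval_of, ← hm]
    exact sub_self _
  rw [← AdicCompletion.pow_smul_top_eq_ker_eval hI, pow_one] at h1
  have h2 : x = AdicCompletion.of I M m + (x - AdicCompletion.of I M m) := by abel
  rw [h2]
  exact Submodule.add_mem_sup (LinearMap.mem_range_self _ m) h1

end Groth.Agent.Lib.Helper21.RIc
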