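import Mathlib
import Groth.Agent.Lib.Helper21.RIc
import Groth.Agent.Lib.Helper7.PowSerCRing
import Groth.Agent.S4528
import Groth.Agent.S3866

/-!
# Generic rank of the completed module of differentials of a complete local domain finite and
generically separable over a power series ring (helper21)
-/

set_option autoImplicit false
set_option linter.style.haveILetI false

namespace Groth.Agent.Lib.Helper21.RId

open IsLocalRing TensorProduct MvPowerSeries Groth.Agent.Lib.Helper7.PowSerCRing
  Groth.Agent.Lib.Helper21.RIc

universe u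

section

variable (k : Type u) [Field k] (r : ℕ) (A : Type u) [CommRing A] [IsLocalRing A]
  [Algebra (MvPowerSeries (Fin r) k) A] [Algebra k A] [IsScalarTower k (MvPowerSeries (Fin r) k) A]

local notation "A₀" => MvPowerSeries (Fin r) k

theorem algebraMap_C (c : k) : algebraMap A₀ A (C c) = algebraMap k A c := by
  rw [IsScalarTower.algebraMap_apply k A₀ A, MvPowerSeries.algebraMap_apply]
  rfl

theorem finite_residueField (hinj : Function.Injective (algebraMap A₀ A)) [Module.Finite A₀ A] :
    Module.Finite k (ResidueField A) := by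
  classical
  haveI : FaithfulSMul A₀ A := (faithfulSMul_iff_algebraMap_injective A₀ A).mpr hinj
  haveI : IsLocalHom (algebraMap A₀ A) := inferInstance
  obtain ⟨s, hs⟩ := (inferInstance : Module.Finite A₀ A).fg_top
  have hsmul : ∀ (c : A₀) (y : A),
      residue A (c • y) = (constantCoeff c) • residue A y := by
    intro c y
    have h1 : c - C (constantCoeff c) ∈ maximalIdeal A₀ := by
      rw [mem_maximalIdeal_iff, map_sub, constantCoeff_C, sub_self]
      exact Ideal.zero_mem _
    have h2 : algebraMap A₀ A (c - C (constantCoeff c)) ∈ maximalIdeal A := by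
      rw [mem_maximalIdeal, mem_nonunits_iff] at h1 ⊢
      exact fun hu => h1 (isUnit_of_map_unit (algebraMap A₀ A) _ hu)
    rw [Algebra.smul_def c y, map_mul, Algebra.smul_def (constantCoeff c) (residue A y),
      IsScalarTower.algebraMap_apply k A (ResidueField A), ResidueField.algebraMap_eq,
      ← algebraMap_C k r A]
    congr 1
    rw [← sub_eq_zero, ← map_sub, ← map_sub]
    exact (residue_eq_zero_iff _).mpr h2
  refine ⟨⟨s.image (residue A), ?_⟩⟩
  rw [eq_top_iff]
  rintro x -
  obtain ⟨a, rfl⟩ := residue_surjective x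
  have ha : a ∈ Submodule.span A₀ (s : Set A) := by rw [hs]; trivial
  induction ha using Submodule.span_induction with
  | mem y hy =>
    refine Submodule.subset_span ?_
    rw [Finset.coe_image]
    exact ⟨y, hy, rfl⟩
  | zero => rw [map_zero]; exact Submodule.zero_mem _
  | add y z _ _ hy hz => rw [map_add]; exact Submodule.add_mem _ hy hz
  | smul c y _ hy => rw [hsmul]; exact Submodule.smul_mem _ _ hy

local notation "Ωh" => AdicCompletion (maximalIdeal A) (Ω[A⁄k])
local notation "E" => FractionRing A

set_option maxHeartbeats 3200000 in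
theorem finrank_eq [IsDomain A] [IsNoetherianRing A] [IsAdicComplete (maximalIdeal A) A]
    (hinj : Function.Injective (algebraMap A₀ A)) [Module.Finite A₀ A]
    (hsep : ∀ a : A, ∃ P : Polynomial A₀, Polynomial.aeval a P = 0 ∧
      (P.map (algebraMap A₀ (FractionRing A₀))).Separable) :
    Module.finrank E (E ⊗[A] Ωh) = r := by
  classical
  haveI : FaithfulSMul A₀ A := (faithfulSMul_iff_algebraMap_injective A₀ A).mpr hinj
  haveI hloc : IsLocalHom (algebraMap A₀ A) := inferInstance
  haveI : IsDomain A₀ := Function.Injective.isDomain (algebraMap A₀ A) hinj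
  haveI : Module.Finite k (ResidueField A) := finite_residueField k r A hinj
  haveI : Module.Finite A Ωh := Groth.Agent.S4528.result
  have hof : Function.Surjective (AdicCompletion.of (maximalIdeal A) (Ω[A⁄k])) :=
    of_surjective_of_finite (maximalIdeal A) (Ideal.fg_of_isNoetherianRing _)
      (IsLocalRing.maximalIdeal_le_jacobson _) _
  have hTm : ∀ i : Fin r, algebraMap A₀ A (X i) ∈ maximalIdeal A := by
    intro i
    have h1 : (X i : A₀) ∈ maximalIdeal A₀ := X_mem i
    rw [mem_maximalIdeal, mem_nonunits_iff] at h1 ⊢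
    exact fun hu => h1 (isUnit_of_map_unit (algebraMap A₀ A) _ hu)
  let dh : Derivation k A Ωh :=
    LinearMap.compDer (AdicCompletion.of (maximalIdeal A) (Ω[A⁄k])) (KaehlerDifferential.D k A)
  let ω : Fin r → Ωh := fun i => dh (algebraMap A₀ A (X i))
  let δ : Derivation k A (Ωh ⧸ Submodule.span A (Set.range ω)) :=
    LinearMap.compDer (Submodule.span A (Set.range ω)).mkQ dh
  have hδT : ∀ i, δ (algebraMap A₀ A (X i)) = 0 := by
    intro i
    show (Submodule.span A (Set.range ω)).mkQ (dh (algebraMap A₀ A (X i))) = 0
    rw [Submodule.mkQ_apply, Submodule.Quotient.mk_eq_zero]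
    exact Submodule.subset_span ⟨i, rfl⟩
  have hδpow : ∀ (n : ℕ) (c : A₀), δ (algebraMap A₀ A c) ∈
      (maximalIdeal A ^ n • ⊤ : Submodule A (Ωh ⧸ Submodule.span A (Set.range ω))) := by
    intro n
    induction n with
    | zero =>
      intro c
      rw [pow_zero, Ideal.one_eq_top, Submodule.top_smul]
      trivial
    | succ n ih =>
      intro c
      obtain ⟨h, -, hc⟩ := decomp (⊤ : Ideal k) 0 c (mem_W_top _ c)
      have e1 : δ (algebraMap A₀ A c) =
          ∑ i, algebraMap A₀ A (X i) • δ (algebraMap A₀ A (h i)) := by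
        conv_lhs => rw [hc]
        rw [map_add, map_add, algebraMap_C, Derivation.map_algebraMap, zero_add, map_sum, map_sum]
        refine Finset.sum_congr rfl fun i _ => ?_
        rw [map_mul, Derivation.leibniz, hδT, smul_zero, add_zero]
      rw [e1]
      refine Submodule.sum_mem _ fun i _ => ?_
      rw [pow_succ', Submodule.mul_smul]
      exact Submodule.smul_mem_smul (hTm i) (ih (h i))
  have hδ₀ : ∀ c : A₀, δ (algebraMap A₀ A c) = 0 := by
    intro c
    apply IsHausdorff.haus (inferInstance :
      IsHausdorff (maximalIdeal A) (Ωh ⧸ Submodule.span A (Set.range ω)))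
    intro n
    rw [SModEq.sub_mem, sub_zero]
    exact hδpow n c
  have hkey : ∀ (a : A) (P : Polynomial A₀),
      δ (Polynomial.aeval a P) = Polynomial.aeval a (Polynomial.derivative P) • δ a := by
    intro a P
    induction P using Polynomial.induction_on' with
    | add p q hp hq =>
      rw [map_add, map_add, hp, hq, Polynomial.derivative_add, map_add, add_smul]
    | monomial n c =>
      rw [Polynomial.aeval_monomial, Polynomial.derivative_monomial, Polynomial.aeval_monomial,
        Derivation.leibniz, hδ₀ c, smul_zero, add_zero, Derivation.leibniz_pow, map_mul,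
        map_natCast, mul_smul, mul_smul, Nat.cast_smul_eq_nsmul]
  -- the fraction field
  haveI : IsScalarTower A₀ A E := inferInstance
  haveI : IsScalarTower k A₀ E := inferInstance
  have hinjE : Function.Injective (algebraMap A₀ E) := by
    rw [IsScalarTower.algebraMap_eq A₀ A E]
    exact (IsFractionRing.injective A E).comp hinj
  haveI : FaithfulSMul A₀ E := (faithfulSMul_iff_algebraMap_injective A₀ E).mpr hinjE
  letI algL₀E : Algebra (FractionRing A₀) E := FractionRing.liftAlgebra A₀ E
  haveI : IsScalarTower A₀ (FractionRing A₀) E := FractionRing.isScalarTower_liftAlgebra A₀ E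
  have hroot : ∀ (a : A) (P : Polynomial A₀),
      Polynomial.aeval (algebraMap A E a) (P.map (algebraMap A₀ (FractionRing A₀))) =
        algebraMap A E (Polynomial.aeval a P) := by
    intro a P
    rw [Polynomial.aeval_map_algebraMap, Polynomial.aeval_algebraMap_apply]
  have htors : ∀ a : A, ∃ s : A, s ≠ 0 ∧ s • dh a ∈ Submodule.span A (Set.range ω) := by
    intro a
    obtain ⟨P, hP0, hPs⟩ := hsep a
    refine ⟨Polynomial.aeval a (Polynomial.derivative P), ?_, ?_⟩
    · intro h0
      obtain ⟨u, w, huw⟩ := hPs
      have h2 := congrArg (Polynomial.aeval (algebraMap A E a)) huw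
      rw [map_add, map_mul, map_mul, map_one, hroot, hP0, map_zero, mul_zero, zero_add,
        Polynomial.derivative_map, hroot, h0, map_zero, mul_zero] at h2
      exact zero_ne_one h2
    · have h1 := hkey a P
      rw [hP0, map_zero] at h1
      rw [← Submodule.Quotient.mk_eq_zero, Submodule.Quotient.mk_smul]
      exact h1.symm
  -- spanning
  let v : Fin r → E ⊗[A] Ωh := fun i => (1 : E) ⊗ₜ[A] ω i
  have hN : ∀ z ∈ Submodule.span A (Set.range ω),
      (1 : E) ⊗ₜ[A] z ∈ Submodule.span E (Set.range v) := by
    intro z hz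
    induction hz using Submodule.span_induction with
    | mem y hy =>
      obtain ⟨i, rfl⟩ := hy
      exact Submodule.subset_span ⟨i, rfl⟩
    | zero => rw [TensorProduct.tmul_zero]; exact Submodule.zero_mem _
    | add y z _ _ hy hz => rw [TensorProduct.tmul_add]; exact Submodule.add_mem _ hy hz
    | smul b y _ hy =>
      rw [TensorProduct.tmul_smul, ← algebraMap_smul E b ((1 : E) ⊗ₜ[A] y)]
      exact Submodule.smul_mem _ _ hy
  have hdspan : ∀ a : A, (1 : E) ⊗ₜ[A] dh a ∈ Submodule.span E (Set.range v) := by
    intro a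
    obtain ⟨s, hs0, hs⟩ := htors a
    have h1 := hN _ hs
    rw [TensorProduct.tmul_smul, ← algebraMap_smul E s ((1 : E) ⊗ₜ[A] dh a)] at h1
    have hs' : algebraMap A E s ≠ 0 := fun h =>
      hs0 ((IsFractionRing.injective A E) (by rw [h, map_zero]))
    have h2 := Submodule.smul_mem _ (algebraMap A E s)⁻¹ h1
    rwa [smul_smul, inv_mul_cancel₀ hs', one_smul] at h2
  have hofspan : ∀ η : Ω[A⁄k], (1 : E) ⊗ₜ[A] AdicCompletion.of (maximalIdeal A) (Ω[A⁄k]) η ∈
      Submodule.span E (Set.range v) := by
    intro η
    have hη : η ∈ Submodule.span A (Set.range (KaehlerDifferential.D k A)) := by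
      rw [KaehlerDifferential.span_range_derivation]; trivial
    induction hη using Submodule.span_induction with
    | mem y hy =>
      obtain ⟨a, rfl⟩ := hy
      exact hdspan a
    | zero => rw [map_zero, TensorProduct.tmul_zero]; exact Submodule.zero_mem _
    | add y z _ _ hy hz =>
      rw [map_add, TensorProduct.tmul_add]; exact Submodule.add_mem _ hy hz
    | smul b y _ hy =>
      rw [map_smul, TensorProduct.tmul_smul, ← algebraMap_smul E b
        ((1 : E) ⊗ₜ[A] AdicCompletion.of (maximalIdeal A) (Ω[A⁄k]) y)]
      exact Submodule.smul_mem _ _ hy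
  have hspan : ⊤ ≤ Submodule.span E (Set.range v) := by
    rintro y -
    induction y using TensorProduct.induction_on with
    | zero => exact Submodule.zero_mem _
    | add y z hy hz => exact Submodule.add_mem _ hy hz
    | tmul e w =>
      have h1 : e ⊗ₜ[A] w = e • ((1 : E) ⊗ₜ[A] w) := by
        rw [TensorProduct.smul_tmul', smul_eq_mul, mul_one]
      rw [h1]
      refine Submodule.smul_mem _ _ ?_
      obtain ⟨η, rfl⟩ := hof w
      exact hofspan η
  -- derivations extending the partial derivatives
  haveI : Algebra.FormallyEtale A₀ (FractionRing A₀) :=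
    Algebra.FormallyEtale.of_isLocalization (nonZeroDivisors A₀)
  haveI : Algebra.IsSeparable (FractionRing A₀) E := by
    have hA : ∀ a : A, IsSeparable (FractionRing A₀) (algebraMap A E a) := by
      intro a
      obtain ⟨P, hP0, hPs⟩ := hsep a
      exact hPs.of_dvd (minpoly.dvd _ _ (by rw [hroot, hP0, map_zero]))
    refine ⟨fun x => ?_⟩
    obtain ⟨a, s, -, rfl⟩ := IsFractionRing.div_surjective A x
    exact mem_separableClosure_iff.mp (div_mem (mem_separableClosure_iff.mpr (hA a))
      (mem_separableClosure_iff.mpr (hA s)))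
  haveI : Algebra.FormallyEtale (FractionRing A₀) E := Algebra.FormallyEtale.of_isSeparable _ _
  haveI : Algebra.FormallyEtale A₀ E := Algebra.FormallyEtale.comp A₀ (FractionRing A₀) E
  have hD : ∀ i : Fin r, ∃ D : Derivation k A E,
      (∀ j, D (algebraMap A₀ A (X j)) = if j = i then 1 else 0) ∧
      ∃ M' : Submodule A E, M'.FG ∧ ∀ a, D a ∈ M' := by
    intro i
    let D₀ : Derivation k A₀ E := LinearMap.compDer (Algebra.linearMap A₀ E) (pderiv k i)
    obtain ⟨DE, hDE⟩ := exists_derivation_extension k A₀ E D₀
    let D : Derivation k A E := DE.compAlgebraMap A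
    have hDa : ∀ c : A₀, D (algebraMap A₀ A c) = algebraMap A₀ E (pderiv k i c) := by
      intro c
      show DE (algebraMap A E (algebraMap A₀ A c)) = _
      rw [← IsScalarTower.algebraMap_apply A₀ A E, hDE]
      rfl
    refine ⟨D, fun j => ?_, ?_⟩
    · rw [hDa]
      by_cases hji : j = i
      · subst hji
        rw [if_pos rfl, pderiv_X_self, map_one]
      · rw [if_neg hji, pderiv_X_of_ne hji, map_zero]
    · obtain ⟨s, hs⟩ := (inferInstance : Module.Finite A₀ A).fg_top
      refine ⟨Submodule.span A (insert (1 : E) (D '' (s : Set A))),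
        Submodule.fg_span ((s.finite_toSet.image _).insert _), ?_⟩
      intro a
      have ha : a ∈ Submodule.span A₀ (s : Set A) := by rw [hs]; trivial
      induction ha using Submodule.span_induction with
      | mem y hy => exact Submodule.subset_span (Set.mem_insert_of_mem _ ⟨y, hy, rfl⟩)
      | zero => rw [map_zero]; exact Submodule.zero_mem _
      | add y z _ _ hy hz => rw [map_add]; exact Submodule.add_mem _ hy hz
      | smul c y _ hy =>
        rw [Algebra.smul_def, Derivation.leibniz, hDa]
        refine Submodule.add_mem _ (Submodule.smul_mem _ _ hy) ?_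
        have h1 : y • algebraMap A₀ E (pderiv k i c) =
            (y * algebraMap A₀ A (pderiv k i c)) • (1 : E) := by
          rw [Algebra.smul_def, Algebra.smul_def, mul_one, map_mul,
            ← IsScalarTower.algebraMap_apply A₀ A E]
        rw [h1]
        exact Submodule.smul_mem _ _ (Submodule.subset_span (Set.mem_insert _ _))
  choose Dv hDv1 hDv2 using hD
  choose Mv hMvfg hMvmem using hDv2
  have hΛ : ∀ i : Fin r, ∃ Λ : E ⊗[A] Ωh →ₗ[E] E, ∀ j, Λ (v j) = if j = i then 1 else 0 := by
    intro i
    haveI : Module.Finite A (Mv i) := Module.Finite.iff_fg.mpr (hMvfg i)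
    haveI : IsAdicComplete (maximalIdeal A) (Mv i) :=
      Groth.Agent.S3866.result A (maximalIdeal A) (Mv i)
    let ℓ₀ : Ω[A⁄k] →ₗ[A] E := (Dv i).liftKaehlerDifferential
    have hℓ₀ : ∀ η, ℓ₀ η ∈ Mv i := by
      intro η
      have hη : η ∈ Submodule.span A (Set.range (KaehlerDifferential.D k A)) := by
        rw [KaehlerDifferential.span_range_derivation]; trivial
      induction hη using Submodule.span_induction with
      | mem y hy =>
        obtain ⟨a, rfl⟩ := hy
        rw [Derivation.liftKaehlerDifferential_comp_D]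
        exact hMvmem i a
      | zero => rw [map_zero]; exact Submodule.zero_mem _
      | add y z _ _ hy hz => rw [map_add]; exact Submodule.add_mem _ hy hz
      | smul b y _ hy => rw [map_smul]; exact Submodule.smul_mem _ _ hy
    let ℓ : Ω[A⁄k] →ₗ[A] Mv i := ℓ₀.codRestrict (Mv i) hℓ₀
    let ℓh : Ωh →ₗ[A] Mv i :=
      (AdicCompletion.ofLinearEquiv (maximalIdeal A) (Mv i)).symm.toLinearMap.comp
        ((AdicCompletion.map (maximalIdeal A) ℓ).restrictScalars A)
    let Λ : E ⊗[A] Ωh →ₗ[E] E := LinearMap.liftBaseChange E ((Mv i).subtype.comp ℓh)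
    refine ⟨Λ, fun j => ?_⟩
    show Λ ((1 : E) ⊗ₜ[A] ω j) = _
    rw [LinearMap.liftBaseChange_tmul, one_smul]
    show (((AdicCompletion.ofLinearEquiv (maximalIdeal A) (Mv i)).symm
      (AdicCompletion.map (maximalIdeal A) ℓ (AdicCompletion.of (maximalIdeal A) (Ω[A⁄k])
        (KaehlerDifferential.D k A (algebraMap A₀ A (X j))))) : Mv i) : E) = _
    rw [AdicCompletion.map_of, AdicCompletion.ofLinearEquiv_symm_of]
    show ℓ₀ (KaehlerDifferential.D k A (algebraMap A₀ A (X j))) = _
    rw [Derivation.liftKaehlerDifferential_comp_D]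
    exact hDv1 i j
  choose Λ hΛv using hΛ
  have hli : LinearIndependent E v := by
    rw [linearIndependent_iff']
    intro t g hg i hi
    have h1 := congrArg (Λ i) hg
    rw [map_sum, map_zero] at h1
    simp only [map_smul, hΛv, smul_eq_mul, mul_ite, mul_one, mul_zero] at h1
    simpa [Finset.sum_ite_eq', hi] using h1
  rw [Module.finrank_eq_card_basis (Module.Basis.mk hli hspan), Fintype.card_fin]

end

end Groth.Agent.Lib.Helper21.RId
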