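/-
Helper21 library (RIe): for a Noetherian ring `A`, a smooth `A`-algebra `B` with geometrically
integral fibres and an `A`-retraction `u : B → A` with kernel `I`, the map from `B` to an
`I`-adic completion `Bh` is universally injective over `A`.
Key points: `1 - a` (`a ∈ I`) is universally regular on `B` (fibres are domains and `u (1 - a) = 1`),
and for a finite `A`-module `Q` the kernel of `B ⊗ Q → Bh ⊗ Q` lies in `⋂ Iⁿ (B ⊗ Q)` (Krull).
-/
import Mathlib
import Groth.Prelude.Def_FlatCA
import Groth.Agent.Lib.Helper24.FibBasisB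

set_option autoImplicit false
set_option maxHeartbeats 400000
set_option linter.style.haveILetI false
universe u

open TensorProduct

namespace Groth.Agent.Lib.Helper21.RIe

section comm

variable {A : Type u} [CommRing A] {M N P Q' Q : Type u} [AddCommGroup M] [AddCommGroup N]
  [AddCommGroup P] [AddCommGroup Q'] [AddCommGroup Q] [Module A M] [Module A N] [Module A P]
  [Module A Q'] [Module A Q]

lemma rTensor_comm (f : M →ₗ[A] N) (x : Q ⊗[A] M) :
    f.rTensor Q (TensorProduct.comm A Q M x) = TensorProduct.comm A Q N (f.lTensor Q x) := by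
  induction x using TensorProduct.induction_on with
  | zero => simp
  | tmul q b => simp
  | add a b ha hb => simp only [map_add, ha, hb]

lemma lTensor_rTensor_comm (i : Q' →ₗ[A] Q) (f : M →ₗ[A] N) (x : Q' ⊗[A] M) :
    f.lTensor Q (i.rTensor M x) = i.rTensor N (f.lTensor Q' x) := by
  induction x using TensorProduct.induction_on with
  | zero => simp
  | tmul q b => simp
  | add a b ha hb => simp only [map_add, ha, hb]

end comm

variable {A : Type u} [CommRing A] {B : Type u} [CommRing B] [Algebra A B]

/-- An element `b` with `u b = 1` is universally regular on `B`. -/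
theorem eq_zero_of_smul_eq_zero [Algebra.FinitePresentation A B] [Module.Flat A B]
    (hfib : FlatCA.GeomIntegralFibres A B) (u : B →ₐ[A] A)
    (Q : Type u) [AddCommGroup Q] [Module A Q] (b : B) (hb : u b = 1)
    (z : B ⊗[A] Q) (hz : b • z = 0) : z = 0 := by
  by_contra hne
  have hJ : (Submodule.span B {z}).annihilator ≠ ⊤ := by
    intro h
    apply hne
    have h1 : (1 : B) ∈ (Submodule.span B {z}).annihilator := h ▸ Submodule.mem_top
    rw [Submodule.mem_annihilator_span_singleton] at h1
    simpa using h1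
  obtain ⟨q₀, hq₀max, hJq₀⟩ := Ideal.exists_le_maximal _ hJ
  haveI := hq₀max.isPrime
  have hbnot : b ∉ (q₀.comap (algebraMap A B)).map (algebraMap A B) := by
    intro hmem
    have hle : (q₀.comap (algebraMap A B)).map (algebraMap A B) ≤
        (q₀.comap (algebraMap A B)).comap (u : B →+* A) := by
      rw [Ideal.map_le_iff_le_comap]
      intro x hx
      rw [Ideal.mem_comap, Ideal.mem_comap]
      have h2 : (u : B →+* A) (algebraMap A B x) = x := by simp
      rw [h2]
      exact hx
    have h1 := hle hmem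
    rw [Ideal.mem_comap] at h1
    have h3 : (1 : A) ∈ q₀.comap (algebraMap A B) := by
      have h4 : (u : B →+* A) b = 1 := hb
      rw [h4] at h1
      exact h1
    exact (Ideal.IsPrime.ne_top inferInstance) ((Ideal.eq_top_iff_one _).2 h3)
  obtain ⟨c, hc⟩ := Groth.Agent.Lib.Helper24.FibBasisB.exists_smul_eq_zero_of_nzd_fiber
    (R := A) (S := B) B Q z q₀ (q₀.comap (algebraMap A B)) rfl b hz
    (Groth.Agent.Lib.Helper24.FibBasisB.nzd_fiber hfib (q₀.comap (algebraMap A B)) B hbnot)
  have hcJ : (c : B) ∈ (Submodule.span B {z}).annihilator := by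
    rw [Submodule.mem_annihilator_span_singleton]
    exact hc
  exact c.2 (hJq₀ hcJ)

/-- The finitely generated case. -/
theorem eq_zero_of_fg [IsNoetherianRing A] [Algebra.FinitePresentation A B] [Module.Flat A B]
    (hfib : FlatCA.GeomIntegralFibres A B) (u : B →ₐ[A] A)
    (Bh : Type u) [CommRing Bh] [Algebra B Bh] [Algebra A Bh] [IsScalarTower A B Bh]
    (hq : ∀ n : ℕ, Function.Bijective (Ideal.quotientMap
      ((RingHom.ker u ^ n).map (algebraMap B Bh)) (algebraMap B Bh) Ideal.le_comap_map))
    (Q : Type u) [AddCommGroup Q] [Module A Q] [Module.Finite A Q]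
    (z : B ⊗[A] Q)
    (hz : (IsScalarTower.toAlgHom A B Bh).toLinearMap.rTensor Q z = 0) : z = 0 := by
  haveI : IsNoetherianRing B := Algebra.FiniteType.isNoetherianRing A B
  haveI : Module.Finite B (B ⊗[A] Q) := Module.Finite.base_change A B Q
  have hmem : ∀ n : ℕ, z ∈ ((RingHom.ker u) ^ n • ⊤ : Submodule B (B ⊗[A] Q)) := by
    intro n
    obtain ⟨In, hIn⟩ : ∃ In : Ideal B, In = RingHom.ker u ^ n := ⟨_, rfl⟩
    rw [← hIn]
    have hqn : Function.Bijective (Ideal.quotientMap
      (In.map (algebraMap B Bh)) (algebraMap B Bh) Ideal.le_comap_map) := by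
      rw [hIn]; exact hq n
    let φ : (B ⧸ In) →ₐ[A] (Bh ⧸ In.map (algebraMap B Bh)) :=
      Ideal.quotientMapₐ (In.map (algebraMap B Bh)) (IsScalarTower.toAlgHom A B Bh)
        (fun x hx => Ideal.mem_map_of_mem _ hx)
    have hφ : Function.Bijective φ.toLinearMap := hqn
    let e : (B ⧸ In) ≃ₗ[A] (Bh ⧸ In.map (algebraMap B Bh)) :=
      LinearEquiv.ofBijective φ.toLinearMap hφ
    let g : Bh →ₗ[A] (B ⧸ In) :=
      e.symm.toLinearMap ∘ₗ (Ideal.Quotient.mkₐ A (In.map (algebraMap B Bh))).toLinearMap
    have hg : g ∘ₗ (IsScalarTower.toAlgHom A B Bh).toLinearMap =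
        (Ideal.Quotient.mkₐ A In).toLinearMap := by
      apply LinearMap.ext
      intro x
      show e.symm (Ideal.Quotient.mk _ (algebraMap B Bh x)) = Ideal.Quotient.mk In x
      rw [LinearEquiv.symm_apply_eq]
      rfl
    have h1 : (Ideal.Quotient.mkₐ A In).toLinearMap.rTensor Q z = 0 := by
      rw [← hg, LinearMap.rTensor_comp, LinearMap.comp_apply, hz, map_zero]
    have hex : Function.Exact ((In.subtype).restrictScalars A)
        (Ideal.Quotient.mkₐ A In).toLinearMap := by
      intro y
      constructor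
      · intro hy
        have hy' : Ideal.Quotient.mk In y = 0 := hy
        rw [Ideal.Quotient.eq_zero_iff_mem] at hy'
        exact ⟨⟨y, hy'⟩, rfl⟩
      · rintro ⟨w, rfl⟩
        show Ideal.Quotient.mk In (w : B) = 0
        rw [Ideal.Quotient.eq_zero_iff_mem]
        exact w.2
    have hsurj : Function.Surjective (Ideal.Quotient.mkₐ A In).toLinearMap :=
      Ideal.Quotient.mk_surjective
    have hex2 := rTensor_exact Q hex hsurj
    obtain ⟨w, hw⟩ := (hex2 z).1 h1
    rw [← hw]
    clear hw h1 hz
    induction w using TensorProduct.induction_on with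
    | zero => simp
    | tmul i q =>
      have h5 : ((In.subtype).restrictScalars A).rTensor Q (i ⊗ₜ[A] q) =
          (i : B) • ((1 : B) ⊗ₜ[A] q) := by
        rw [LinearMap.rTensor_tmul, TensorProduct.smul_tmul']
        simp
      rw [h5]
      exact Submodule.smul_mem_smul i.2 Submodule.mem_top
    | add a b ha hb =>
      rw [map_add]
      exact add_mem ha hb
  have hinf : z ∈ (⨅ i : ℕ, (RingHom.ker u) ^ i • ⊤ : Submodule B (B ⊗[A] Q)) := by
    rw [Submodule.mem_iInf]
    exact hmem
  obtain ⟨r, hr⟩ := (Ideal.mem_iInf_smul_pow_eq_bot_iff (RingHom.ker u) z).1 hinf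
  refine eq_zero_of_smul_eq_zero hfib u Q (1 - (r : B)) ?_ z ?_
  · have h6 : u (r : B) = 0 := r.2
    rw [map_sub, map_one, h6, sub_zero]
  · have h7 : (1 - (r : B)) • z + (r : B) • z = (1 : B) • z := by
      rw [← add_smul, sub_add_cancel]
    rw [one_smul, hr] at h7
    exact add_eq_right.1 h7

/-- `B → Bh` is universally injective over `A`. -/
theorem univInj [IsNoetherianRing A] [Algebra.FinitePresentation A B] [Module.Flat A B]
    (hfib : FlatCA.GeomIntegralFibres A B) (u : B →ₐ[A] A)
    (Bh : Type u) [CommRing Bh] [Algebra B Bh] [Algebra A Bh] [IsScalarTower A B Bh]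
    (hq : ∀ n : ℕ, Function.Bijective (Ideal.quotientMap
      ((RingHom.ker u ^ n).map (algebraMap B Bh)) (algebraMap B Bh) Ideal.le_comap_map)) :
    FlatCA.UnivInj A (IsScalarTower.toAlgHom A B Bh).toLinearMap := by
  intro Q _ _
  rw [injective_iff_map_eq_zero]
  intro z hz
  obtain ⟨Q', hQ'fg, z', rfl⟩ := Submodule.exists_fg_le_eq_rTensor_subtype z
  rw [lTensor_rTensor_comm] at hz
  have h1 : Q'.subtype.rTensor Bh ((IsScalarTower.toAlgHom A B Bh).toLinearMap.lTensor Q' z') =
      Q'.subtype.rTensor Bh 0 := by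
    rw [hz, map_zero]
  obtain ⟨Q'', hQ''fg, hle, h2⟩ := hQ'fg.exists_rTensor_fg_inclusion_eq h1
  rw [map_zero] at h2
  have h3 : (IsScalarTower.toAlgHom A B Bh).toLinearMap.lTensor Q''
      ((Q'.inclusion hle).rTensor B z') = 0 := by
    rw [lTensor_rTensor_comm, h2]
  haveI : Module.Finite A Q'' := Module.Finite.iff_fg.2 hQ''fg
  have h4 : (Q'.inclusion hle).rTensor B z' = 0 := by
    have h5 := eq_zero_of_fg hfib u Bh hq Q''
      (TensorProduct.comm A Q'' B ((Q'.inclusion hle).rTensor B z'))
      (by rw [rTensor_comm, h3, map_zero])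
    exact (TensorProduct.comm A Q'' B).injective (h5.trans (map_zero _).symm)
  have h6 : Q'.subtype = Q''.subtype ∘ₗ Q'.inclusion hle := rfl
  rw [h6, LinearMap.rTensor_comp, LinearMap.comp_apply, h4, map_zero]

end Groth.Agent.Lib.Helper21.RIe
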