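/-
Helper21 library (RIf): a vanishing lemma for derivations of a quotient `A ⧸ p` which is finite
and generically separable over a power series subring `k[[X_1, …, X_s]]`, and extraction of
integral polynomial equations with nonvanishing derivative from separability of fraction fields.
-/
import Mathlib
import Groth.Agent.Lib.Helper7.PowSerCRing

set_option autoImplicit false
set_option maxHeartbeats 400000
set_option linter.style.haveILetI false
universe u

open IsLocalRing MvPowerSeries

namespace Groth.Agent.Lib.Helper21.RIf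

/-- clearing denominators in a separable minimal polynomial -/
theorem exists_sep_poly {C B L' L : Type u} [CommRing C] [IsDomain C] [CommRing B] [IsDomain B]
    [Field L'] [Field L] [Algebra C B] [Algebra C L'] [IsFractionRing C L'] [Algebra B L]
    [IsFractionRing B L] [Algebra L' L] [Algebra C L] [IsScalarTower C B L]
    [IsScalarTower C L' L] [Algebra.IsSeparable L' L] (a : B) :
    ∃ P : Polynomial C, Polynomial.aeval a P = 0 ∧
      Polynomial.aeval a (Polynomial.derivative P) ≠ 0 := by
  obtain ⟨x, hx⟩ : ∃ x : L, x = algebraMap B L a := ⟨_, rfl⟩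
  have hsep : (minpoly L' x).Separable := Algebra.IsSeparable.isSeparable L' x
  obtain ⟨b, hb⟩ := IsLocalization.integerNormalization_map_to_map (nonZeroDivisors C)
    (minpoly L' x)
  obtain ⟨P, hP⟩ : ∃ P : Polynomial C,
      P = IsLocalization.integerNormalization (nonZeroDivisors C) (minpoly L' x) := ⟨_, rfl⟩
  rw [← hP, ← algebraMap_smul L' (b : C) (minpoly L' x)] at hb
  have hbne : algebraMap L' L (algebraMap C L' (b : C)) ≠ 0 := by
    intro h0
    have h1 := (algebraMap L' L).injective (h0.trans (map_zero _).symm)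
    have h2 := (IsFractionRing.injective C L') (h1.trans (map_zero _).symm)
    exact nonZeroDivisors.ne_zero b.2 h2
  have h1 : Polynomial.aeval x P =
      algebraMap C L' (b : C) • Polynomial.aeval x (minpoly L' x) := by
    rw [← Polynomial.aeval_map_algebraMap L' x P, hb, map_smul]
  have h2 : Polynomial.aeval x (Polynomial.derivative P) =
      algebraMap C L' (b : C) • Polynomial.aeval x (Polynomial.derivative (minpoly L' x)) := by
    rw [← Polynomial.aeval_map_algebraMap L' x (Polynomial.derivative P),
      ← Polynomial.derivative_map, hb, Polynomial.derivative_smul, map_smul]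
  rw [minpoly.aeval, smul_zero] at h1
  have h3 : Polynomial.aeval x (Polynomial.derivative (minpoly L' x)) ≠ 0 :=
    hsep.aeval_derivative_ne_zero (minpoly.aeval L' x)
  refine ⟨P, ?_, ?_⟩
  · apply IsFractionRing.injective B L
    rw [map_zero, ← Polynomial.aeval_algebraMap_apply, ← hx]
    exact h1
  · intro h0
    have h4 := congrArg (algebraMap B L) h0
    rw [map_zero, ← Polynomial.aeval_algebraMap_apply, ← hx, h2, Algebra.smul_def] at h4
    rcases mul_eq_zero.mp h4 with h5 | h5
    · exact hbne h5
    · exact h3 h5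

/-- A `k`-derivation `A → A ⧸ p` killing `p` and lifts of the variables of a power series
subring over which `A ⧸ p` is generically separable vanishes. -/
theorem derivation_eq_zero
    {k : Type u} [Field k] {A : Type u} [CommRing A] [Algebra k A] [IsLocalRing A]
    [IsNoetherianRing A] (p : Ideal A) [p.IsPrime] [IsLocalRing (A ⧸ p)] {s : ℕ}
    [Algebra (MvPowerSeries (Fin s) k) (A ⧸ p)]
    [IsScalarTower k (MvPowerSeries (Fin s) k) (A ⧸ p)]
    (hX : ∀ e, algebraMap (MvPowerSeries (Fin s) k) (A ⧸ p) (X e) ∈ maximalIdeal (A ⧸ p))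
    (hsep : ∀ a : A ⧸ p, ∃ P : Polynomial (MvPowerSeries (Fin s) k),
      Polynomial.aeval a P = 0 ∧ Polynomial.aeval a (Polynomial.derivative P) ≠ 0)
    (y : Fin s → A)
    (hy : ∀ e, Ideal.Quotient.mk p (y e) =
      algebraMap (MvPowerSeries (Fin s) k) (A ⧸ p) (X e))
    (D : Derivation k A (A ⧸ p)) (hDp : ∀ g ∈ p, D g = 0) (hDy : ∀ e, D (y e) = 0) :
    D = 0 := by
  classical
  have hsmul : ∀ (z : A) (v : A ⧸ p), z • v = Ideal.Quotient.mk p z * v := fun z v => by
    rw [Algebra.smul_def]; rfl
  have hcongr : ∀ a b : A, Ideal.Quotient.mk p a = Ideal.Quotient.mk p b → D a = D b := by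
    intro a b hab
    have h1 : a - b ∈ p := Ideal.Quotient.eq.mp hab
    have h2 := hDp _ h1
    rw [map_sub, sub_eq_zero] at h2
    exact h2
  have step1 : ∀ n : ℕ, ∀ (F : MvPowerSeries (Fin s) k) (a : A),
      Ideal.Quotient.mk p a = algebraMap (MvPowerSeries (Fin s) k) (A ⧸ p) F →
      D a ∈ maximalIdeal (A ⧸ p) ^ n := by
    intro n
    induction n with
    | zero =>
      intro F a _
      rw [pow_zero, Ideal.one_eq_top]
      trivial
    | succ n ih =>
      intro F a ha
      obtain ⟨h, -, hF⟩ := Groth.Agent.Lib.Helper7.PowSerCRing.decomp (⊤ : Ideal k) 0 F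
        (Groth.Agent.Lib.Helper7.PowSerCRing.mem_W_top _ F)
      choose ht hht using fun i => Ideal.Quotient.mk_surjective (I := p)
        (algebraMap (MvPowerSeries (Fin s) k) (A ⧸ p) (h i))
      obtain ⟨a', ha'def⟩ : ∃ a' : A,
          a' = algebraMap k A (constantCoeff F) + ∑ i, y i * ht i := ⟨_, rfl⟩
      have hc : algebraMap (MvPowerSeries (Fin s) k) (A ⧸ p) (C (constantCoeff F)) =
          Ideal.Quotient.mk p (algebraMap k A (constantCoeff F)) := by
        have h1 : (C (constantCoeff F) : MvPowerSeries (Fin s) k) =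
            algebraMap k (MvPowerSeries (Fin s) k) (constantCoeff F) := by
          rw [MvPowerSeries.algebraMap_apply]
          rfl
        rw [h1, ← IsScalarTower.algebraMap_apply k (MvPowerSeries (Fin s) k) (A ⧸ p)]
        rfl
      have ha' : Ideal.Quotient.mk p a' = algebraMap (MvPowerSeries (Fin s) k) (A ⧸ p) F := by
        conv_rhs => rw [hF]
        rw [ha'def, map_add, map_add, map_sum, map_sum, hc]
        congr 1
        refine Finset.sum_congr rfl fun i _ => ?_
        rw [map_mul, map_mul, hy, hht]
      rw [hcongr a a' (ha.trans ha'.symm), ha'def, map_add, Derivation.map_algebraMap, zero_add,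
        map_sum]
      refine Ideal.sum_mem _ fun i _ => ?_
      rw [Derivation.leibniz, hDy, smul_zero, add_zero, hsmul, hy, pow_succ']
      exact Ideal.mul_mem_mul (hX i) (ih (h i) (ht i) (hht i))
  have step1' : ∀ (F : MvPowerSeries (Fin s) k) (a : A),
      Ideal.Quotient.mk p a = algebraMap (MvPowerSeries (Fin s) k) (A ⧸ p) F → D a = 0 := by
    intro F a ha
    have hmem : D a ∈ ⨅ n, maximalIdeal (A ⧸ p) ^ n := by
      rw [Ideal.mem_iInf]
      exact fun n => step1 n F a ha
    rw [Ideal.iInf_pow_eq_bot_of_isLocalRing _ (IsLocalRing.maximalIdeal.isMaximal _).ne_top]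
      at hmem
    exact hmem
  refine Derivation.ext fun a => ?_
  show D a = 0
  obtain ⟨P, hP0, hP'⟩ := hsep (Ideal.Quotient.mk p a)
  choose lift hlift using fun c : MvPowerSeries (Fin s) k =>
    Ideal.Quotient.mk_surjective (I := p) (algebraMap (MvPowerSeries (Fin s) k) (A ⧸ p) c)
  obtain ⟨z, hzdef⟩ : ∃ z : A, z = ∑ j ∈ P.support, lift (P.coeff j) * a ^ j := ⟨_, rfl⟩
  have hz : Ideal.Quotient.mk p z = Polynomial.aeval (Ideal.Quotient.mk p a) P := by
    rw [Polynomial.aeval_def, Polynomial.eval₂_eq_sum, Polynomial.sum_def, hzdef, map_sum]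
    refine Finset.sum_congr rfl fun j _ => ?_
    rw [map_mul, map_pow, hlift]
  have hzp : z ∈ p := Ideal.Quotient.eq_zero_iff_mem.mp (hz.trans hP0)
  have hDz : D z = 0 := hDp z hzp
  have hexp : D z =
      Polynomial.aeval (Ideal.Quotient.mk p a) (Polynomial.derivative P) * D a := by
    rw [hzdef, map_sum, Polynomial.derivative_apply, Polynomial.sum_def, map_sum,
      Finset.sum_mul]
    refine Finset.sum_congr rfl fun j _ => ?_
    rw [Derivation.leibniz, step1' (P.coeff j) (lift (P.coeff j)) (hlift _), smul_zero, add_zero,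
      Derivation.leibniz_pow, hsmul, hlift, nsmul_eq_mul, hsmul, map_pow, map_mul,
      Polynomial.aeval_C, Polynomial.aeval_X_pow, map_mul, map_natCast]
    ring
  rw [hexp] at hDz
  exact (mul_eq_zero.mp hDz).resolve_left hP'

end Groth.Agent.Lib.Helper21.RIf
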