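/-
Helper21 library (RIg): Jacobian criterion, "necessity" direction, in an abstract setting.
`A` is a domain with a prime `p` such that `A_p` is regular, with `k`-derivations `dd i` dual to
elements `T i`, such that derivations `A → A ⧸ p` killing `p` and `s` further elements vanish, and
`dim A_p + s ≤ r`.  Then for elements `f j ∈ p` that are part of a regular system of parameters of
`A_p` there are derivations `D i` with `det (D i (f j)) ∉ p`.
-/
import Mathlib
import Groth.Agent.Lib.Helper5.RegQuot
import Groth.Agent.Lib.Helper24.CIIndep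
import Groth.Agent.Lib.Helper21.ZarJacA

set_option autoImplicit false
set_option maxHeartbeats 800000
set_option linter.style.haveILetI false
universe u

open IsLocalRing RingTheory.Sequence TensorProduct

namespace Groth.Agent.Lib.Helper21.RIg

/-- a regular system of parameters, with its independence modulo the square of the maximal
ideal -/
theorem exists_rsop (S : Type u) [CommRing S] [IsRegularLocalRing S] :
    ∃ (h : ℕ) (x : Fin h → S), ringKrullDim S = h ∧
      Ideal.span (Set.range x) = maximalIdeal S ∧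
      ∀ c : Fin h → S, ∑ l, c l * x l ∈ maximalIdeal S ^ 2 → ∀ l, c l ∈ maximalIdeal S := by
  have hres : IsRegularLocalRing (S ⧸ maximalIdeal S) :=
    inferInstanceAs (IsRegularLocalRing (ResidueField S))
  haveI := hres
  obtain ⟨rs, hrs, hJ⟩ := Groth.Agent.Lib.Helper5.RegQuot.exists_isRegular_of_quotient_regular S
    (maximalIdeal S) (IsLocalRing.maximalIdeal.isMaximal S).ne_top
  have hq : IsRegularLocalRing (S ⧸ Ideal.ofList rs) := by
    rw [← hJ]; exact hres
  have hind := Groth.Agent.Lib.Helper24.CIIndep.indep_of_regular_quotient rs hrs hq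
  refine ⟨rs.length, fun i => rs[i], ?_, ?_, hind⟩
  · have hdim := ringKrullDim_add_length_eq_ringKrullDim_of_isRegular rs hrs
    rw [← hJ] at hdim
    have h0 : ringKrullDim (S ⧸ maximalIdeal S) = 0 :=
      ringKrullDim_eq_zero_of_field (ResidueField S)
    rw [h0, zero_add] at hdim
    exact hdim.symm
  · rw [hJ, Ideal.ofList]
    congr 1
    ext a
    simp only [Set.mem_range, Set.mem_ofPred_eq]
    constructor
    · rintro ⟨i, rfl⟩
      exact List.getElem_mem _
    · intro ha
      obtain ⟨i, hi, rfl⟩ := List.getElem_of_mem ha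
      exact ⟨⟨i, hi⟩, rfl⟩

theorem sum_smul_apply {k A : Type*} [CommRing k] [CommRing A] [Algebra k A] {r : ℕ}
    (c : Fin r → A) (dd : Fin r → Derivation k A A) (z : A) :
    (∑ i, c i • dd i) z = ∑ i, c i * dd i z := by
  show (Derivation.coeFnAddMonoidHom (∑ i, c i • dd i)) z = _
  rw [map_sum, Finset.sum_apply]
  rfl

variable {k : Type u} [Field k] {A : Type u} [CommRing A] [IsDomain A] [Algebra k A]
  (p : Ideal A) [p.IsPrime] [IsRegularLocalRing (Localization.AtPrime p)]

theorem exists_derivations {r : ℕ}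
    (dd : Fin r → Derivation k A A) (T : Fin r → A)
    (hT : ∀ i j, dd i (T j) = if i = j then 1 else 0)
    {s : ℕ} (y : Fin s → A)
    (hK : ∀ D : Derivation k A (A ⧸ p), (∀ g ∈ p, D g = 0) → (∀ e, D (y e) = 0) → D = 0)
    (hdim : ringKrullDim (Localization.AtPrime p) + (s : WithBot ℕ∞) ≤ (r : WithBot ℕ∞))
    {m : ℕ} (f : Fin m → A) (hf : ∀ j, f j ∈ p)
    (hind : ∀ c : Fin m → Localization.AtPrime p,
      ∑ j, c j * algebraMap A (Localization.AtPrime p) (f j) ∈
        maximalIdeal (Localization.AtPrime p) ^ 2 →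
      ∀ j, c j ∈ maximalIdeal (Localization.AtPrime p)) :
    ∃ D : Fin m → Derivation k A A, Matrix.det (Matrix.of fun i j => D i (f j)) ∉ p := by
  classical
  obtain ⟨h, x', hh, hspan', hindx'⟩ := exists_rsop (Localization.AtPrime p)
  have hx'surj : ∀ l, ∃ (xl : A) (sl : p.primeCompl),
      x' l * algebraMap A (Localization.AtPrime p) (sl : A) =
        algebraMap A (Localization.AtPrime p) xl := fun l => by
    obtain ⟨⟨a, s⟩, h1⟩ := IsLocalization.surj p.primeCompl (x' l)
    exact ⟨a, s, h1⟩
  choose x sx hxs using hx'surj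
  have hunit : ∀ l, IsUnit (algebraMap A (Localization.AtPrime p) (sx l : A)) :=
    fun l => IsLocalization.map_units _ (sx l)
  have hx'm : ∀ l, x' l ∈ maximalIdeal (Localization.AtPrime p) := fun l => by
    rw [← hspan']; exact Ideal.subset_span ⟨l, rfl⟩
  have hmem_iff : ∀ z : A, algebraMap A (Localization.AtPrime p) z ∈
      maximalIdeal (Localization.AtPrime p) ↔ z ∈ p :=
    fun z => IsLocalization.AtPrime.to_map_mem_maximal_iff (Localization.AtPrime p) p z
  have hxp : ∀ l, x l ∈ p := by
    intro l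
    rw [← hmem_iff, ← hxs]
    exact Ideal.mul_mem_right _ _ (hx'm l)
  have hspan : Ideal.span (Set.range fun l => algebraMap A (Localization.AtPrime p) (x l)) =
      maximalIdeal (Localization.AtPrime p) := by
    rw [← hspan']
    apply le_antisymm
    · rw [Ideal.span_le]
      rintro _ ⟨l, rfl⟩
      beta_reduce
      rw [← hxs]
      exact Ideal.mul_mem_right _ _ (Ideal.subset_span ⟨l, rfl⟩)
    · rw [Ideal.span_le]
      rintro _ ⟨l, rfl⟩
      obtain ⟨u, hu⟩ := hunit l
      have h1 : x' l = algebraMap A (Localization.AtPrime p) (x l) * ↑u⁻¹ := by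
        rw [← hxs, ← hu, mul_assoc, Units.mul_inv, mul_one]
      rw [h1]
      exact Ideal.mul_mem_right _ _ (Ideal.subset_span ⟨l, rfl⟩)
  have hindx : ∀ c : Fin h → Localization.AtPrime p,
      ∑ l, c l * algebraMap A (Localization.AtPrime p) (x l) ∈
        maximalIdeal (Localization.AtPrime p) ^ 2 →
      ∀ l, c l ∈ maximalIdeal (Localization.AtPrime p) := by
    intro c hc l
    have h1 : ∑ l, (c l * algebraMap A (Localization.AtPrime p) (sx l : A)) * x' l ∈
        maximalIdeal (Localization.AtPrime p) ^ 2 := by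
      have h2 : ∑ l, (c l * algebraMap A (Localization.AtPrime p) (sx l : A)) * x' l =
          ∑ l, c l * algebraMap A (Localization.AtPrime p) (x l) := by
        refine Finset.sum_congr rfl fun l _ => ?_
        rw [← hxs]; ring
      rw [h2]; exact hc
    have h2 := hindx' _ h1 l
    rcases (IsLocalRing.maximalIdeal.isMaximal (Localization.AtPrime p)).isPrime.mem_or_mem h2
      with h3 | h3
    · exact h3
    · exact absurd (hunit l) (mem_nonunits_iff.mp ((mem_maximalIdeal _).mp h3))
  -- the fraction field of `A ⧸ p`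
  have hπ : ∀ z : A, algebraMap A (FractionRing (A ⧸ p)) z = 0 ↔ z ∈ p := fun z => by
    rw [IsScalarTower.algebraMap_apply A (A ⧸ p) (FractionRing (A ⧸ p)),
      ← map_zero (algebraMap (A ⧸ p) (FractionRing (A ⧸ p))),
      (IsFractionRing.injective (A ⧸ p) (FractionRing (A ⧸ p))).eq_iff]
    exact Ideal.Quotient.eq_zero_iff_mem
  have hπmk : ∀ z : A, algebraMap (A ⧸ p) (FractionRing (A ⧸ p)) (Ideal.Quotient.mk p z) =
      algebraMap A (FractionRing (A ⧸ p)) z := fun z =>
    (IsScalarTower.algebraMap_apply A (A ⧸ p) (FractionRing (A ⧸ p)) z).symm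
  have hsmul : ∀ (z : A) (v : A ⧸ p), z • v = Ideal.Quotient.mk p z * v := fun z v => by
    rw [Algebra.smul_def]; rfl
  have hclear : ∀ g ∈ p, ∃ t : A, t ∉ p ∧ ∃ d : Fin h → A, t * g = ∑ l, d l * x l := by
    intro g hg
    have h1 : algebraMap A (Localization.AtPrime p) g ∈
        Ideal.span (Set.range fun l => algebraMap A (Localization.AtPrime p) (x l)) := by
      rw [hspan, hmem_iff]; exact hg
    obtain ⟨c, hc⟩ := Ideal.mem_span_range_iff_exists_fun.mp h1
    obtain ⟨t, ht⟩ := IsLocalization.exist_integer_multiples_of_finite p.primeCompl c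
    have ht' : ∀ l, ∃ d : A, algebraMap A (Localization.AtPrime p) d = (t : A) • c l :=
      fun l => ht l
    choose d hd using ht'
    refine ⟨t, t.2, d, ?_⟩
    apply IsLocalization.injective (Localization.AtPrime p) p.primeCompl_le_nonZeroDivisors
    rw [map_mul, ← hc, Finset.mul_sum, map_sum]
    refine Finset.sum_congr rfl fun l _ => ?_
    rw [map_mul, hd, Algebra.smul_def]; ring
  -- the linear map Θ
  obtain ⟨W, hW⟩ : ∃ W : Matrix (Fin h) (Fin r) (FractionRing (A ⧸ p)),
      W = Matrix.of fun l i => algebraMap A (FractionRing (A ⧸ p)) (dd i (x l)) := ⟨_, rfl⟩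
  obtain ⟨Y, hY⟩ : ∃ Y : Matrix (Fin s) (Fin r) (FractionRing (A ⧸ p)),
      Y = Matrix.of fun e i => algebraMap A (FractionRing (A ⧸ p)) (dd i (y e)) := ⟨_, rfl⟩
  obtain ⟨Θ, hΘ⟩ : ∃ Θ : (Fin r → FractionRing (A ⧸ p)) →ₗ[FractionRing (A ⧸ p)]
      (Fin h → FractionRing (A ⧸ p)) × (Fin s → FractionRing (A ⧸ p)),
      Θ = (Matrix.mulVecLin W).prod (Matrix.mulVecLin Y) := ⟨_, rfl⟩
  have hΘ1 : ∀ c l, (Θ c).1 l =
      ∑ i, algebraMap A (FractionRing (A ⧸ p)) (dd i (x l)) * c i := by
    intro c l
    rw [hΘ, hW]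
    rfl
  have hΘ2 : ∀ c e, (Θ c).2 e =
      ∑ i, algebraMap A (FractionRing (A ⧸ p)) (dd i (y e)) * c i := by
    intro c e
    rw [hΘ, hY]
    rfl
  have hΘinj : Function.Injective Θ := by
    rw [injective_iff_map_eq_zero]
    intro c hc
    have hcW : ∀ l, ∑ i, algebraMap A (FractionRing (A ⧸ p)) (dd i (x l)) * c i = 0 :=
      fun l => by rw [← hΘ1, hc]; rfl
    have hcY : ∀ e, ∑ i, algebraMap A (FractionRing (A ⧸ p)) (dd i (y e)) * c i = 0 :=
      fun e => by rw [← hΘ2, hc]; rfl
    obtain ⟨b, hb⟩ := IsLocalization.exist_integer_multiples_of_finite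
      (nonZeroDivisors (A ⧸ p)) c
    have hb' : ∀ i, ∃ a' : A ⧸ p,
        algebraMap (A ⧸ p) (FractionRing (A ⧸ p)) a' = (b : A ⧸ p) • c i := fun i => hb i
    choose a' ha' using hb'
    choose a ha using fun i => Ideal.Quotient.mk_surjective (a' i)
    obtain ⟨b₀, hb₀⟩ := Ideal.Quotient.mk_surjective (b : A ⧸ p)
    have hac : ∀ i, algebraMap A (FractionRing (A ⧸ p)) (a i) =
        algebraMap A (FractionRing (A ⧸ p)) b₀ * c i := by
      intro i
      rw [← hπmk, ← hπmk, ha, hb₀, ha', Algebra.smul_def]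
    have hb₀ne : algebraMap A (FractionRing (A ⧸ p)) b₀ ≠ 0 := by
      rw [Ne, hπ]
      intro hmem
      apply nonZeroDivisors.ne_zero b.2
      rw [← hb₀]
      exact Ideal.Quotient.eq_zero_iff_mem.mpr hmem
    obtain ⟨D', hD'def⟩ : ∃ D' : Derivation k A A, D' = ∑ i, a i • dd i := ⟨_, rfl⟩
    have hD' : ∀ z, D' z = ∑ i, a i * dd i z := fun z => by
      rw [hD'def]; exact sum_smul_apply a dd z
    obtain ⟨Dt, hDtdef⟩ : ∃ Dt : Derivation k A (A ⧸ p),
        Dt = (Algebra.linearMap A (A ⧸ p)).compDer D' := ⟨_, rfl⟩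
    have hDt : ∀ z, Dt z = Ideal.Quotient.mk p (D' z) := fun z => by rw [hDtdef]; rfl
    have hDtK : ∀ z, algebraMap (A ⧸ p) (FractionRing (A ⧸ p)) (Dt z) =
        algebraMap A (FractionRing (A ⧸ p)) b₀ *
          ∑ i, algebraMap A (FractionRing (A ⧸ p)) (dd i z) * c i := by
      intro z
      rw [hDt, hπmk, hD', map_sum, Finset.mul_sum]
      refine Finset.sum_congr rfl fun i _ => ?_
      rw [map_mul, hac]; ring
    have hDtx : ∀ l, Dt (x l) = 0 := fun l => by
      apply IsFractionRing.injective (A ⧸ p) (FractionRing (A ⧸ p))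
      rw [hDtK, map_zero, hcW l, mul_zero]
    have hDty : ∀ e, Dt (y e) = 0 := fun e => by
      apply IsFractionRing.injective (A ⧸ p) (FractionRing (A ⧸ p))
      rw [hDtK, map_zero, hcY e, mul_zero]
    have hDtp : ∀ g ∈ p, Dt g = 0 := by
      intro g hg
      obtain ⟨t, htp, d, htg⟩ := hclear g hg
      have h1 : Dt (t * g) = Ideal.Quotient.mk p t * Dt g := by
        rw [Derivation.leibniz, hsmul, hsmul, Ideal.Quotient.eq_zero_iff_mem.mpr hg, zero_mul,
          add_zero]
      have h2 : Dt (∑ l, d l * x l) = 0 := by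
        rw [map_sum]
        refine Finset.sum_eq_zero fun l _ => ?_
        rw [Derivation.leibniz, hDtx, smul_zero, zero_add, hsmul,
          Ideal.Quotient.eq_zero_iff_mem.mpr (hxp l), zero_mul]
      rw [htg, h2] at h1
      rcases mul_eq_zero.mp h1.symm with h3 | h3
      · exact absurd (Ideal.Quotient.eq_zero_iff_mem.mp h3) htp
      · exact h3
    have hDt0 := hK Dt hDtp hDty
    funext i
    have h1 : Dt (T i) = 0 := by rw [hDt0]; rfl
    have h2 := hDtK (T i)
    rw [h1, map_zero] at h2
    have h3 : ∑ j, algebraMap A (FractionRing (A ⧸ p)) (dd j (T i)) * c j = c i := by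
      rw [Finset.sum_eq_single i]
      · rw [hT, if_pos rfl, map_one, one_mul]
      · intro j _ hji
        rw [hT, if_neg hji, map_zero, zero_mul]
      · intro h; exact absurd (Finset.mem_univ i) h
    rw [h3] at h2
    exact (mul_eq_zero.mp h2.symm).resolve_left hb₀ne
  have hfin : Module.finrank (FractionRing (A ⧸ p))
      ((Fin h → FractionRing (A ⧸ p)) × (Fin s → FractionRing (A ⧸ p))) = h + s := by
    rw [Module.finrank_prod, Module.finrank_fin_fun, Module.finrank_fin_fun]
  have hle : r ≤ h + s := by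
    have h1 := LinearMap.finrank_le_finrank_of_injective hΘinj
    rw [Module.finrank_fin_fun, hfin] at h1
    exact h1
  have hge : h + s ≤ r := by
    rw [hh] at hdim
    exact_mod_cast hdim
  have hΘsurj : Function.Surjective Θ :=
    (LinearMap.injective_iff_surjective_of_finrank_eq_finrank
      (by rw [Module.finrank_fin_fun, hfin]; omega)).mp hΘinj
  have hWind : ∀ dK : Fin h → FractionRing (A ⧸ p),
      (∀ i, ∑ l, dK l * algebraMap A (FractionRing (A ⧸ p)) (dd i (x l)) = 0) →
      ∀ l, dK l = 0 := by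
    intro dK hd l0
    obtain ⟨c, hc⟩ := hΘsurj (Pi.single l0 1, 0)
    have hcW : ∀ l, ∑ i, algebraMap A (FractionRing (A ⧸ p)) (dd i (x l)) * c i =
        (Pi.single l0 1 : Fin h → FractionRing (A ⧸ p)) l := fun l => by
      rw [← hΘ1, hc]
    have h1 : ∑ i, (∑ l, dK l * algebraMap A (FractionRing (A ⧸ p)) (dd i (x l))) * c i =
        dK l0 := by
      calc ∑ i, (∑ l, dK l * algebraMap A (FractionRing (A ⧸ p)) (dd i (x l))) * c i
          = ∑ l, dK l * ∑ i, algebraMap A (FractionRing (A ⧸ p)) (dd i (x l)) * c i := by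
            simp_rw [Finset.sum_mul, Finset.mul_sum]
            rw [Finset.sum_comm]
            refine Finset.sum_congr rfl fun l _ => Finset.sum_congr rfl fun i _ => by ring
        _ = ∑ l, dK l * (Pi.single l0 1 : Fin h → FractionRing (A ⧸ p)) l := by
            simp_rw [hcW]
        _ = dK l0 := by
            rw [Finset.sum_eq_single l0]
            · rw [Pi.single_eq_same, mul_one]
            · intro l _ hl
              rw [Pi.single_eq_of_ne hl, mul_zero]
            · intro h; exact absurd (Finset.mem_univ l0) h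
    rw [← h1]
    refine Finset.sum_eq_zero fun i _ => ?_
    rw [hd i, zero_mul]
  have hJ : ∀ g ∈ p, (∀ i, dd i g ∈ p) →
      algebraMap A (Localization.AtPrime p) g ∈ maximalIdeal (Localization.AtPrime p) ^ 2 := by
    intro g hg hdg
    obtain ⟨t, htp, d, htg⟩ := hclear g hg
    have hd : ∀ l, d l ∈ p := by
      have h0 := hWind (fun l => algebraMap A (FractionRing (A ⧸ p)) (d l)) (fun i => by
        have h1 : dd i (t * g) = ∑ l, (d l * dd i (x l) + x l * dd i (d l)) := by
          rw [htg, map_sum]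
          refine Finset.sum_congr rfl fun l _ => ?_
          rw [Derivation.leibniz, smul_eq_mul, smul_eq_mul]
        have h2 : algebraMap A (FractionRing (A ⧸ p)) (dd i (t * g)) = 0 := by
          rw [hπ, Derivation.leibniz, smul_eq_mul, smul_eq_mul]
          exact p.add_mem (p.mul_mem_left _ (hdg i)) (p.mul_mem_right _ hg)
        rw [h1, map_sum] at h2
        simp only [map_add, map_mul] at h2
        rw [Finset.sum_add_distrib] at h2
        have h3 : ∑ l, algebraMap A (FractionRing (A ⧸ p)) (x l) *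
            algebraMap A (FractionRing (A ⧸ p)) (dd i (d l)) = 0 :=
          Finset.sum_eq_zero fun l _ => by rw [(hπ _).mpr (hxp l), zero_mul]
        rw [h3, add_zero] at h2
        exact h2)
      intro l
      exact (hπ _).mp (h0 l)
    have h4 : algebraMap A (Localization.AtPrime p) (t * g) ∈
        maximalIdeal (Localization.AtPrime p) ^ 2 := by
      rw [htg, map_sum]
      refine Ideal.sum_mem _ fun l _ => ?_
      rw [map_mul, pow_two]
      exact Ideal.mul_mem_mul ((hmem_iff _).mpr (hd l)) ((hmem_iff _).mpr (hxp l))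
    rw [map_mul] at h4
    obtain ⟨u, hu'⟩ : IsUnit (algebraMap A (Localization.AtPrime p) t) :=
      IsLocalization.map_units (Localization.AtPrime p) (⟨t, htp⟩ : p.primeCompl)
    have h5 : algebraMap A (Localization.AtPrime p) g =
        ↑u⁻¹ * (algebraMap A (Localization.AtPrime p) t *
          algebraMap A (Localization.AtPrime p) g) := by
      rw [← hu', ← mul_assoc, Units.inv_mul, one_mul]
    rw [h5]
    exact Ideal.mul_mem_left _ _ h4
  have hcore : ∀ a : Fin m → A, (∀ i, ∑ j, a j * dd i (f j) ∈ p) → ∀ j, a j ∈ p := by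
    intro a ha
    have hg : ∑ j, a j * f j ∈ p := Ideal.sum_mem _ fun j _ => p.mul_mem_left _ (hf j)
    have hdg : ∀ i, dd i (∑ j, a j * f j) ∈ p := by
      intro i
      rw [map_sum]
      have h1 : ∑ j, dd i (a j * f j) = ∑ j, a j * dd i (f j) + ∑ j, f j * dd i (a j) := by
        rw [← Finset.sum_add_distrib]
        refine Finset.sum_congr rfl fun j _ => ?_
        rw [Derivation.leibniz, smul_eq_mul, smul_eq_mul]
      rw [h1]
      exact p.add_mem (ha i) (Ideal.sum_mem _ fun j _ => p.mul_mem_right _ (hf j))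
    have h1 := hJ _ hg hdg
    rw [map_sum] at h1
    simp only [map_mul] at h1
    intro j
    exact (hmem_iff _).mp (hind _ h1 j)
  -- linear independence of the gradients
  obtain ⟨v, hvdef⟩ : ∃ v : Fin m → (Fin r → A), v = fun j i => dd i (f j) := ⟨_, rfl⟩
  have hv : LinearIndependent (FractionRing (A ⧸ p))
      (fun j => (1 : FractionRing (A ⧸ p)) ⊗ₜ[A] v j) := by
    obtain ⟨φ, hφdef⟩ : ∃ φ : FractionRing (A ⧸ p) ⊗[A] (Fin r → A) →ₗ[FractionRing (A ⧸ p)]
        (Fin r → FractionRing (A ⧸ p)),
        φ = LinearMap.liftBaseChange (FractionRing (A ⧸ p))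
          (LinearMap.pi fun i => (Algebra.linearMap A (FractionRing (A ⧸ p))) ∘ₗ
            (LinearMap.proj i)) := ⟨_, rfl⟩
    apply LinearIndependent.of_comp φ
    have hφ : (φ ∘ fun j => (1 : FractionRing (A ⧸ p)) ⊗ₜ[A] v j) =
        fun j i => algebraMap A (FractionRing (A ⧸ p)) (dd i (f j)) := by
      funext j i
      rw [hφdef, hvdef]
      simp
    rw [hφ, Fintype.linearIndependent_iff]
    intro gK hgK j0
    obtain ⟨b, hb⟩ := IsLocalization.exist_integer_multiples_of_finite
      (nonZeroDivisors (A ⧸ p)) gK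
    have hb' : ∀ j, ∃ a' : A ⧸ p,
        algebraMap (A ⧸ p) (FractionRing (A ⧸ p)) a' = (b : A ⧸ p) • gK j := fun j => hb j
    choose a' ha' using hb'
    choose a ha using fun j => Ideal.Quotient.mk_surjective (a' j)
    obtain ⟨b₀, hb₀⟩ := Ideal.Quotient.mk_surjective (b : A ⧸ p)
    have hac : ∀ j, algebraMap A (FractionRing (A ⧸ p)) (a j) =
        algebraMap A (FractionRing (A ⧸ p)) b₀ * gK j := by
      intro j
      rw [← hπmk, ← hπmk, ha, hb₀, ha', Algebra.smul_def]
    have hb₀ne : algebraMap A (FractionRing (A ⧸ p)) b₀ ≠ 0 := by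
      rw [Ne, hπ]
      intro hmem
      apply nonZeroDivisors.ne_zero b.2
      rw [← hb₀]
      exact Ideal.Quotient.eq_zero_iff_mem.mpr hmem
    have hap : ∀ j, a j ∈ p := by
      apply hcore
      intro i
      rw [← hπ, map_sum]
      have h1 := congrFun hgK i
      simp only [Finset.sum_apply, Pi.smul_apply, smul_eq_mul, Pi.zero_apply] at h1
      calc ∑ j, algebraMap A (FractionRing (A ⧸ p)) (a j * dd i (f j))
          = algebraMap A (FractionRing (A ⧸ p)) b₀ *
              ∑ j, gK j * algebraMap A (FractionRing (A ⧸ p)) (dd i (f j)) := by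
            rw [Finset.mul_sum]
            refine Finset.sum_congr rfl fun j _ => ?_
            rw [map_mul, hac]; ring
        _ = 0 := by rw [h1, mul_zero]
    have h2 := (hπ _).mpr (hap j0)
    rw [hac] at h2
    exact (mul_eq_zero.mp h2).resolve_left hb₀ne
  obtain ⟨ψ, hψ⟩ := Groth.Agent.Lib.Helper21.ZarJac.exists_forms_det_ne_zero
    (κ := FractionRing (A ⧸ p)) v hv
  refine ⟨fun j => ∑ l, ψ j (fun j' => if l = j' then 1 else 0) • dd l, ?_⟩
  intro hmem
  apply hψ
  have h0 := (hπ _).mpr hmem
  rw [RingHom.map_det] at h0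
  rw [← Matrix.det_transpose]
  rw [← h0]
  congr 1
  ext i j
  rw [Matrix.transpose_apply, Matrix.of_apply, RingHom.mapMatrix_apply, Matrix.map_apply,
    Matrix.of_apply, sum_smul_apply, LinearMap.pi_apply_eq_sum_univ (ψ i) (v j), hvdef]
  congr 1
  refine Finset.sum_congr rfl fun l _ => ?_
  rw [smul_eq_mul, mul_comm]

end Groth.Agent.Lib.Helper21.RIg
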