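/-
Helper21 library (RIh): Jacobian criterion for regularity of `(A ⧸ q)_p`, abstract setting.
-/
import Mathlib
import Groth.Agent.Lib.Helper9.RegLocal
import Groth.Agent.Lib.Helper21.ZarJacB
import Groth.Agent.Lib.Helper21.RIg

set_option autoImplicit false
set_option maxHeartbeats 800000
set_option linter.style.haveILetI false
universe u

open IsLocalRing RingTheory.Sequence

namespace Groth.Agent.Lib.Helper21.RIh

theorem deriv_sq_mem {k A : Type*} [CommRing k] [CommRing A] [Algebra k A] (p : Ideal A)
    (D : Derivation k A A) {G : A} (hG : G ∈ p ^ 2) : D G ∈ p := by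
  rw [pow_two] at hG
  refine Submodule.mul_induction_on hG ?_ ?_
  · intro a ha b hb
    rw [Derivation.leibniz, smul_eq_mul, smul_eq_mul]
    exact p.add_mem (p.mul_mem_right _ ha) (p.mul_mem_right _ hb)
  · intro a b ha hb
    rw [map_add]
    exact p.add_mem ha hb

variable {k : Type u} [Field k] {A : Type u} [CommRing A] [IsDomain A] [Algebra k A]
  (q p : Ideal A) [p.IsPrime] (hqp : q ≤ p) [hp : (p.map (Ideal.Quotient.mk q)).IsPrime]
  [IsRegularLocalRing (Localization.AtPrime p)]

/-- `(A ⧸ q)_p ≃ A_p ⧸ q A_p` -/
noncomputable def quotEquiv :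
    (Localization.AtPrime p ⧸ q.map (algebraMap A (Localization.AtPrime p))) ≃+*
      Localization.AtPrime (p.map (Ideal.Quotient.mk q)) :=
  (Ideal.quotEquivOfEq (Groth.Agent.Lib.Helper21.ZarJac.ker_locMap q p hqp).symm).trans
    (RingHom.quotientKerEquivOfSurjective
      (Groth.Agent.Lib.Helper21.ZarJac.locMap_surjective q p hqp))

include hqp in
theorem regular_of_jacobian {m : ℕ} (D : Fin m → Derivation k A A) (f : Fin m → A)
    (hfq : ∀ i, f i ∈ q)
    (hgen : q.map (algebraMap A (Localization.AtPrime p)) =
      Ideal.span (Set.range fun i => algebraMap A (Localization.AtPrime p) (f i)))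
    (hdet : Matrix.det (Matrix.of fun i j => D i (f j)) ∉ p) :
    IsRegularLocalRing (Localization.AtPrime (p.map (Ideal.Quotient.mk q))) := by
  classical
  have hmem_iff : ∀ z : A, algebraMap A (Localization.AtPrime p) z ∈
      maximalIdeal (Localization.AtPrime p) ↔ z ∈ p :=
    fun z => IsLocalization.AtPrime.to_map_mem_maximal_iff (Localization.AtPrime p) p z
  obtain ⟨x, hxdef⟩ : ∃ x : Fin m → maximalIdeal (Localization.AtPrime p),
      ∀ i, (x i : Localization.AtPrime p) = algebraMap A (Localization.AtPrime p) (f i) :=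
    ⟨fun i => ⟨algebraMap A (Localization.AtPrime p) (f i), (hmem_iff _).mpr (hqp (hfq i))⟩,
      fun i => rfl⟩
  have hx : LinearIndependent (ResidueField (Localization.AtPrime p))
      (fun i => (maximalIdeal (Localization.AtPrime p)).toCotangent (x i)) := by
    rw [Fintype.linearIndependent_iff]
    intro g hg
    choose c hc using fun i => IsLocalRing.residue_surjective (g i)
    have h1 : ∑ i, c i • x i ∈ LinearMap.ker (maximalIdeal (Localization.AtPrime p)).toCotangent := by
      rw [LinearMap.mem_ker, map_sum, ← hg]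
      refine Finset.sum_congr rfl fun i _ => ?_
      rw [map_smul, ← hc i]
      exact (IsScalarTower.algebraMap_smul (ResidueField (Localization.AtPrime p)) (c i) _).symm
    have h2 : ∑ i, c i * algebraMap A (Localization.AtPrime p) (f i) ∈
        maximalIdeal (Localization.AtPrime p) ^ 2 := by
      have h3 := (Ideal.toCotangent_eq_zero _ _).mp (LinearMap.mem_ker.mp h1)
      have h4 : ((∑ i, c i • x i : maximalIdeal (Localization.AtPrime p)) :
          Localization.AtPrime p) = ∑ i, c i * algebraMap A (Localization.AtPrime p) (f i) := by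
        rw [Submodule.coe_sum]
        refine Finset.sum_congr rfl fun i _ => ?_
        rw [Submodule.coe_smul, hxdef, smul_eq_mul]
      rw [h4] at h3
      exact h3
    -- clear denominators
    obtain ⟨t, ht⟩ := IsLocalization.exist_integer_multiples_of_finite p.primeCompl c
    have ht' : ∀ i, ∃ b : A, algebraMap A (Localization.AtPrime p) b = (t : A) • c i :=
      fun i => ht i
    choose b hb using ht'
    have h5 : algebraMap A (Localization.AtPrime p) (∑ j, b j * f j) ∈
        (p ^ 2).map (algebraMap A (Localization.AtPrime p)) := by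
      rw [Ideal.map_pow, IsLocalization.AtPrime.map_eq_maximalIdeal p (Localization.AtPrime p)]
      have h6 : algebraMap A (Localization.AtPrime p) (∑ j, b j * f j) =
          algebraMap A (Localization.AtPrime p) (t : A) *
            ∑ i, c i * algebraMap A (Localization.AtPrime p) (f i) := by
        rw [map_sum, Finset.mul_sum]
        refine Finset.sum_congr rfl fun i _ => ?_
        rw [map_mul, hb, Algebra.smul_def]; ring
      rw [h6]
      exact Ideal.mul_mem_left _ _ h2
    obtain ⟨t', ht', hG⟩ := (IsLocalization.algebraMap_mem_map_algebraMap_iff p.primeCompl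
      (Localization.AtPrime p) (p ^ 2) _).mp h5
    have hbp : ∀ j, b j ∈ p := by
      have hrow : ∀ i, ∑ j, D i (f j) * b j ∈ p := by
        intro i
        have h7 := deriv_sq_mem p (D i) hG
        rw [Derivation.leibniz, smul_eq_mul, smul_eq_mul, map_sum] at h7
        have h8 : ∑ j, D i (b j * f j) = ∑ j, D i (f j) * b j + ∑ j, f j * D i (b j) := by
          rw [← Finset.sum_add_distrib]
          refine Finset.sum_congr rfl fun j _ => ?_
          rw [Derivation.leibniz, smul_eq_mul, smul_eq_mul]; ring
        rw [h8, mul_add] at h7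
        have h9 : t' * ∑ j, f j * D i (b j) ∈ p :=
          p.mul_mem_left _ (Ideal.sum_mem _ fun j _ => p.mul_mem_right _ (hqp (hfq j)))
        have h10 : (∑ j, b j * f j) * D i t' ∈ p :=
          p.mul_mem_right _ (Ideal.sum_mem _ fun j _ => p.mul_mem_left _ (hqp (hfq j)))
        have h11 : t' * ∑ j, D i (f j) * b j ∈ p := by
          have h12 := p.sub_mem (p.sub_mem h7 h10) h9
          have h13 : t' * ∑ j, D i (f j) * b j + t' * ∑ j, f j * D i (b j) +
              (∑ j, b j * f j) * D i t' - (∑ j, b j * f j) * D i t' -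
              t' * ∑ j, f j * D i (b j) = t' * ∑ j, D i (f j) * b j := by ring
          rw [h13] at h12
          exact h12
        exact (Ideal.IsPrime.mem_or_mem inferInstance h11).resolve_left ht'
      have hmv : ((Matrix.of fun i j => D i (f j)).map (Ideal.Quotient.mk p)).mulVec
          (fun j => Ideal.Quotient.mk p (b j)) = 0 := by
        funext i
        rw [Matrix.mulVec, dotProduct, Pi.zero_apply]
        have h14 : ∑ j, ((Matrix.of fun i j => D i (f j)).map (Ideal.Quotient.mk p)) i j *
            Ideal.Quotient.mk p (b j) = Ideal.Quotient.mk p (∑ j, D i (f j) * b j) := by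
          rw [map_sum]
          refine Finset.sum_congr rfl fun j _ => ?_
          rw [Matrix.map_apply, Matrix.of_apply, map_mul]
        rw [h14]
        exact Ideal.Quotient.eq_zero_iff_mem.mpr (hrow i)
      have hdet' : ((Matrix.of fun i j => D i (f j)).map (Ideal.Quotient.mk p)).det ≠ 0 := by
        rw [← RingHom.mapMatrix_apply, ← RingHom.map_det]
        intro h0
        exact hdet (Ideal.Quotient.eq_zero_iff_mem.mp h0)
      have hzero := Matrix.eq_zero_of_mulVec_eq_zero hdet' hmv
      intro j
      exact Ideal.Quotient.eq_zero_iff_mem.mp (congrFun hzero j)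
    intro i
    have h15 : algebraMap A (Localization.AtPrime p) (t : A) * c i ∈
        maximalIdeal (Localization.AtPrime p) := by
      rw [← Algebra.smul_def, ← hb]
      exact (hmem_iff _).mpr (hbp i)
    have h16 : c i ∈ maximalIdeal (Localization.AtPrime p) := by
      rcases (IsLocalRing.maximalIdeal.isMaximal (Localization.AtPrime p)).isPrime.mem_or_mem h15
        with h17 | h17
      · exact absurd (IsLocalization.map_units (Localization.AtPrime p) t)
          (mem_nonunits_iff.mp ((mem_maximalIdeal _).mp h17))
      · exact h17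
    rw [← hc i]
    exact (IsLocalRing.residue_eq_zero_iff _).mpr h16
  obtain ⟨-, hreg⟩ := Groth.Agent.Lib.Helper9.RegLocal.quotient_regular
    (Localization.AtPrime p) m x hx
  have hspan : Ideal.span (Set.range fun i => (x i : Localization.AtPrime p)) =
      q.map (algebraMap A (Localization.AtPrime p)) := by
    rw [hgen]
    congr 1
    ext z
    constructor
    · rintro ⟨i, rfl⟩; exact ⟨i, (hxdef i).symm⟩
    · rintro ⟨i, rfl⟩; exact ⟨i, hxdef i⟩
  rw [hspan] at hreg
  haveI := hreg
  exact IsRegularLocalRing.of_ringEquiv (quotEquiv q p hqp)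

include hqp in
theorem jacobian_of_regular {r : ℕ}
    (dd : Fin r → Derivation k A A) (T : Fin r → A)
    (hT : ∀ i j, dd i (T j) = if i = j then 1 else 0)
    {s : ℕ} (y : Fin s → A)
    (hK : ∀ D : Derivation k A (A ⧸ p), (∀ g ∈ p, D g = 0) → (∀ e, D (y e) = 0) → D = 0)
    (hdim : ringKrullDim (Localization.AtPrime p) + (s : WithBot ℕ∞) ≤ (r : WithBot ℕ∞))
    (hreg : IsRegularLocalRing (Localization.AtPrime (p.map (Ideal.Quotient.mk q)))) :
    ∃ (m : ℕ) (D : Fin m → Derivation k A A) (f : Fin m → A), (∀ i, f i ∈ q) ∧
      q.map (algebraMap A (Localization.AtPrime p)) =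
        Ideal.span (Set.range fun i => algebraMap A (Localization.AtPrime p) (f i)) ∧
      Matrix.det (Matrix.of fun i j => D i (f j)) ∉ p := by
  classical
  haveI := hreg
  have hregq : IsRegularLocalRing
      (Localization.AtPrime p ⧸ q.map (algebraMap A (Localization.AtPrime p))) :=
    IsRegularLocalRing.of_ringEquiv (quotEquiv q p hqp).symm
  haveI := hregq
  have hle : q.map (algebraMap A (Localization.AtPrime p)) ≤
      maximalIdeal (Localization.AtPrime p) := by
    rw [← IsLocalization.AtPrime.map_eq_maximalIdeal p (Localization.AtPrime p)]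
    exact Ideal.map_mono hqp
  have hne : q.map (algebraMap A (Localization.AtPrime p)) ≠ ⊤ :=
    ne_top_of_le_ne_top (IsLocalRing.maximalIdeal.isMaximal _).ne_top hle
  obtain ⟨rs, hrs, hJ⟩ := Groth.Agent.Lib.Helper5.RegQuot.exists_isRegular_of_quotient_regular
    (Localization.AtPrime p) (q.map (algebraMap A (Localization.AtPrime p))) hne
  have hq' : IsRegularLocalRing (Localization.AtPrime p ⧸ Ideal.ofList rs) := by
    rw [← hJ]; exact hregq
  have hindrs := Groth.Agent.Lib.Helper24.CIIndep.indep_of_regular_quotient rs hrs hq'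
  have hrsmem : ∀ i : Fin rs.length,
      rs[i] ∈ q.map (algebraMap A (Localization.AtPrime p)) := fun i => by
    rw [hJ]; exact Ideal.subset_span (List.getElem_mem _)
  have hsurj : ∀ i : Fin rs.length, ∃ (fi : A) (si : p.primeCompl), fi ∈ q ∧
      rs[i] * algebraMap A (Localization.AtPrime p) (si : A) =
        algebraMap A (Localization.AtPrime p) fi := fun i => by
    obtain ⟨⟨a, s⟩, h1⟩ := (IsLocalization.mem_map_algebraMap_iff p.primeCompl
      (Localization.AtPrime p)).mp (hrsmem i)
    exact ⟨a, s, a.2, h1⟩
  choose f sf hfq hfs using hsurj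
  have hunit : ∀ l, IsUnit (algebraMap A (Localization.AtPrime p) (sf l : A)) :=
    fun l => IsLocalization.map_units _ (sf l)
  have hgen : q.map (algebraMap A (Localization.AtPrime p)) =
      Ideal.span (Set.range fun i => algebraMap A (Localization.AtPrime p) (f i)) := by
    apply le_antisymm
    · rw [hJ, Ideal.ofList, Ideal.span_le]
      intro z hz
      obtain ⟨i, hi, rfl⟩ := List.getElem_of_mem hz
      obtain ⟨u, hu⟩ := hunit ⟨i, hi⟩
      have h1 : rs[i] = algebraMap A (Localization.AtPrime p) (f ⟨i, hi⟩) * ↑u⁻¹ := by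
        rw [← hfs ⟨i, hi⟩, ← hu, mul_assoc, Units.mul_inv, mul_one]
        rfl
      rw [h1]
      exact Ideal.mul_mem_right _ _ (Ideal.subset_span ⟨⟨i, hi⟩, rfl⟩)
    · rw [Ideal.span_le]
      rintro _ ⟨i, rfl⟩
      exact Ideal.mem_map_of_mem _ (hfq i)
  have hind : ∀ c : Fin rs.length → Localization.AtPrime p,
      ∑ j, c j * algebraMap A (Localization.AtPrime p) (f j) ∈
        maximalIdeal (Localization.AtPrime p) ^ 2 →
      ∀ j, c j ∈ maximalIdeal (Localization.AtPrime p) := by
    intro c hc l
    have h1 : ∑ l : Fin rs.length,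
        (c l * algebraMap A (Localization.AtPrime p) (sf l : A)) * rs[l] ∈
        maximalIdeal (Localization.AtPrime p) ^ 2 := by
      have h2 : ∑ l : Fin rs.length,
          (c l * algebraMap A (Localization.AtPrime p) (sf l : A)) * rs[l] =
          ∑ l, c l * algebraMap A (Localization.AtPrime p) (f l) := by
        refine Finset.sum_congr rfl fun l _ => ?_
        rw [← hfs]; ring
      rw [h2]; exact hc
    have h2 := hindrs _ h1 l
    rcases (IsLocalRing.maximalIdeal.isMaximal (Localization.AtPrime p)).isPrime.mem_or_mem h2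
      with h3 | h3
    · exact h3
    · exact absurd (hunit l) (mem_nonunits_iff.mp ((mem_maximalIdeal _).mp h3))
  obtain ⟨D, hD⟩ := Groth.Agent.Lib.Helper21.RIg.exists_derivations p dd T hT y hK hdim f
    (fun j => hqp (hfq j)) hind
  exact ⟨rs.length, D, f, hfq, hgen, hD⟩

end Groth.Agent.Lib.Helper21.RIh
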