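/-
Helper21 library (RIi): Nagata's Jacobian criterion for quotients of power series rings over a
field admitting a generically separable Noether normalisation: final assembly.
-/
import Mathlib
import Groth.Agent.Lib.Helper21.CohenStructF
import Groth.Agent.Lib.Helper21.PowSerSubC
import Groth.Agent.Lib.Helper21.SepSmoothE
import Groth.Agent.Lib.Helper21.RIf
import Groth.Agent.Lib.Helper21.RIh
import Groth.Agent.Lib.Helper12.IntegralDim
import Groth.Agent.Lib.Helper7.CohenPres
import Groth.Agent.Lib.Helper7.PowSerCRing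
import Groth.Agent.Lib.Helper26.PowerSeriesRLR
import Groth.Agent.Lib.Helper26.RegularRing

set_option autoImplicit false
set_option maxHeartbeats 800000
set_option linter.style.haveILetI false
universe u

open IsLocalRing

namespace Groth.Agent.Lib.Helper21.RIi

theorem ringKrullDim_quotient_eq_coheight {A : Type u} [CommRing A] (p : PrimeSpectrum A) :
    ringKrullDim (A ⧸ p.asIdeal) = (Order.coheight p : WithBot ℕ∞) := by
  rw [Order.coheight_eq_krullDim_Ici, ringKrullDim,
    Order.krullDim_eq_of_orderIso (Ideal.primeSpectrumQuotientOrderIsoZeroLocus p.asIdeal)]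
  have : (PrimeSpectrum.zeroLocus (p.asIdeal : Set A)) = Set.Ici p := by
    ext q
    simp only [PrimeSpectrum.mem_zeroLocus, SetLike.coe_subset_coe, Set.mem_Ici]
    rfl
  rw [this]

/-- `ht p + dim R/p ≤ dim R`. -/
theorem height_add_ringKrullDim_quotient_le {R : Type u} [CommRing R] (p : PrimeSpectrum R) :
    ((p.asIdeal.height : ℕ∞) : WithBot ℕ∞) + ringKrullDim (R ⧸ p.asIdeal) ≤ ringKrullDim R := by
  rw [ringKrullDim_quotient_eq_coheight, PrimeSpectrum.height_eq_orderHeight]
  have : Nonempty (PrimeSpectrum R) := ⟨p⟩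
  rw [ringKrullDim, Order.krullDim_eq_iSup_height_add_coheight_of_nonempty]
  rw [← WithBot.coe_add]
  exact WithBot.coe_le_coe.mpr
    (le_iSup (fun a : PrimeSpectrum R => Order.height a + Order.coheight a) p)

/-- a separable extension of the fraction field of a power series ring over `k` is
geometrically reduced over `k` -/
theorem geomReduced_of_sep {k : Type u} [Field k] (s : ℕ) {L' L : Type u} [Field L'] [Field L]
    [Algebra (MvPowerSeries (Fin s) k) L'] [IsFractionRing (MvPowerSeries (Fin s) k) L']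
    [Algebra k L'] [IsScalarTower k (MvPowerSeries (Fin s) k) L']
    [Algebra L' L] [Algebra k L] [IsScalarTower k L' L] [Algebra.IsSeparable L' L] :
    Algebra.IsGeometricallyReduced k L := by
  haveI h1 : Algebra.IsGeometricallyReduced k L' :=
    Groth.Agent.Lib.Helper21.PowSerSub.isGeometricallyReduced_frac k (Fin s) L'
  haveI h2 : Algebra.FormallySmooth k L' :=
    Groth.Agent.Lib.Helper21.SepSmooth.formallySmooth_iff_geomReduced.mpr h1
  haveI h3 : Algebra.FormallyEtale L' L := Algebra.FormallyEtale.of_isSeparable L' L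
  haveI h4 : Algebra.FormallySmooth L' L := inferInstance
  haveI h5 : Algebra.FormallySmooth k L := Algebra.FormallySmooth.comp k L' L
  exact Groth.Agent.Lib.Helper21.SepSmooth.formallySmooth_iff_geomReduced.mp h5

/-- the residue field of `(A ⧸ q)_p` embeds into any field containing `A ⧸ p` -/
theorem geomReduced_residue {k : Type u} [Field k] {A : Type u} [CommRing A] [Algebra k A]
    (q p : Ideal A) [p.IsPrime] (hqp : q ≤ p) [(p.map (Ideal.Quotient.mk q)).IsPrime]
    {L : Type u} [Field L] [Algebra k L] [Algebra (A ⧸ p) L] [IsScalarTower k (A ⧸ p) L]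
    (hinj : Function.Injective (algebraMap (A ⧸ p) L))
    [Algebra.IsGeometricallyReduced k L] :
    Algebra.IsGeometricallyReduced k
      (ResidueField (Localization.AtPrime (p.map (Ideal.Quotient.mk q)))) := by
  classical
  obtain ⟨g, hgdef⟩ : ∃ g : (A ⧸ q) →ₐ[k] L,
      g = (IsScalarTower.toAlgHom k (A ⧸ p) L).comp (Ideal.Quotient.factorₐ k hqp) := ⟨_, rfl⟩
  have hg : ∀ x : A ⧸ q, g x = 0 ↔ x ∈ p.map (Ideal.Quotient.mk q) := by
    intro x
    obtain ⟨a, rfl⟩ := Ideal.Quotient.mk_surjective x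
    have h1 : g (Ideal.Quotient.mk q a) = algebraMap (A ⧸ p) L (Ideal.Quotient.mk p a) := by
      rw [hgdef]; rfl
    rw [h1, Ideal.mem_quotient_iff_mem hqp]
    constructor
    · intro h
      have h2 : Ideal.Quotient.mk p a = 0 := hinj (h.trans (map_zero _).symm)
      exact Ideal.Quotient.eq_zero_iff_mem.mp h2
    · intro h
      rw [Ideal.Quotient.eq_zero_iff_mem.mpr h, map_zero]
  have hf₂ : (p.map (Ideal.Quotient.mk q)).primeCompl ≤ (IsUnit.submonoid L).comap g := by
    intro x hx
    rw [Submonoid.mem_comap, IsUnit.mem_submonoid_iff]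
    exact IsUnit.mk0 _ (fun h => hx ((hg x).mp h))
  obtain ⟨φ, -⟩ : ∃ φ : (p.map (Ideal.Quotient.mk q)).ResidueField →ₐ[k] L, True :=
    ⟨Ideal.ResidueField.liftₐ (p.map (Ideal.Quotient.mk q)) g (fun x hx => (hg x).mpr hx) hf₂,
      trivial⟩
  exact Algebra.IsGeometricallyReduced.of_injective φ (RingHom.injective φ.toRingHom)

theorem tfae_abstract {k : Type u} [Field k] {A : Type u} [CommRing A] [IsDomain A] [Algebra k A]
    [IsLocalRing A] [IsNoetherianRing A]
    (q p : Ideal A) [p.IsPrime] (hqp : q ≤ p) [(p.map (Ideal.Quotient.mk q)).IsPrime]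
    [IsRegularLocalRing (Localization.AtPrime p)]
    {r : ℕ} (dd : Fin r → Derivation k A A) (T : Fin r → A)
    (hT : ∀ i j, dd i (T j) = if i = j then 1 else 0)
    (hdimA : ringKrullDim A ≤ (r : WithBot ℕ∞))
    (s : ℕ) [Algebra (MvPowerSeries (Fin s) k) (A ⧸ p)]
    [IsScalarTower k (MvPowerSeries (Fin s) k) (A ⧸ p)]
    [Module.Finite (MvPowerSeries (Fin s) k) (A ⧸ p)]
    (hinj : Function.Injective (algebraMap (MvPowerSeries (Fin s) k) (A ⧸ p)))
    {L' L : Type u} [Field L'] [Field L]
    [Algebra (MvPowerSeries (Fin s) k) L'] [IsFractionRing (MvPowerSeries (Fin s) k) L']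
    [Algebra (A ⧸ p) L] [IsFractionRing (A ⧸ p) L]
    [Algebra L' L] [Algebra (MvPowerSeries (Fin s) k) L]
    [IsScalarTower (MvPowerSeries (Fin s) k) (A ⧸ p) L]
    [IsScalarTower (MvPowerSeries (Fin s) k) L' L] [Algebra.IsSeparable L' L] :
    [CAlgX.IsAdicFormallySmooth k (Localization.AtPrime (p.map (Ideal.Quotient.mk q)))
        (maximalIdeal (Localization.AtPrime (p.map (Ideal.Quotient.mk q)))),
     ∃ (m : ℕ) (D : Fin m → Derivation k A A) (f : Fin m → A), (∀ i, f i ∈ q) ∧
        q.map (algebraMap A (Localization.AtPrime p)) =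
          Ideal.span (Set.range fun i => algebraMap A (Localization.AtPrime p) (f i)) ∧
        Matrix.det (Matrix.of fun i j => D i (f j)) ∉ p,
     IsRegularLocalRing (Localization.AtPrime (p.map (Ideal.Quotient.mk q)))].TFAE := by
  classical
  haveI hdomC : IsDomain (MvPowerSeries (Fin s) k) := NoZeroDivisors.to_isDomain _
  haveI hdomq : IsDomain (A ⧸ p) := Ideal.Quotient.isDomain p
  haveI hlocq : IsLocalRing (A ⧸ p) :=
    IsLocalRing.of_surjective' (Ideal.Quotient.mk p) Ideal.Quotient.mk_surjective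
  haveI hint : Algebra.IsIntegral (MvPowerSeries (Fin s) k) (A ⧸ p) :=
    Algebra.IsIntegral.of_finite _ _
  have hloc : IsLocalHom (algebraMap (MvPowerSeries (Fin s) k) (A ⧸ p)) :=
    RingHom.IsIntegral.isLocalHom (algebraMap_isIntegral_iff.mpr hint) hinj
  have hX : ∀ e, algebraMap (MvPowerSeries (Fin s) k) (A ⧸ p) (MvPowerSeries.X e) ∈
      maximalIdeal (A ⧸ p) := by
    intro e
    rw [IsLocalRing.mem_maximalIdeal, mem_nonunits_iff]
    intro hu
    have h1 : IsUnit (MvPowerSeries.X e : MvPowerSeries (Fin s) k) := hloc.map_nonunit _ hu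
    exact (IsLocalRing.mem_maximalIdeal _).mp
      (Groth.Agent.Lib.Helper7.PowSerCRing.X_mem (R := k) e) h1
  have hsep : ∀ a : A ⧸ p, ∃ P : Polynomial (MvPowerSeries (Fin s) k),
      Polynomial.aeval a P = 0 ∧ Polynomial.aeval a (Polynomial.derivative P) ≠ 0 :=
    fun a => Groth.Agent.Lib.Helper21.RIf.exists_sep_poly (L' := L') (L := L) a
  obtain ⟨y, hy⟩ : ∃ y : Fin s → A, ∀ e, Ideal.Quotient.mk p (y e) =
      algebraMap (MvPowerSeries (Fin s) k) (A ⧸ p) (MvPowerSeries.X e) :=
    ⟨fun e => (Ideal.Quotient.mk_surjective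
        (algebraMap (MvPowerSeries (Fin s) k) (A ⧸ p) (MvPowerSeries.X e))).choose,
      fun e => (Ideal.Quotient.mk_surjective
        (algebraMap (MvPowerSeries (Fin s) k) (A ⧸ p) (MvPowerSeries.X e))).choose_spec⟩
  have hK : ∀ D : Derivation k A (A ⧸ p), (∀ g ∈ p, D g = 0) → (∀ e, D (y e) = 0) → D = 0 :=
    fun D h1 h2 => Groth.Agent.Lib.Helper21.RIf.derivation_eq_zero p hX hsep y hy D h1 h2
  have hdim : ringKrullDim (Localization.AtPrime p) + (s : WithBot ℕ∞) ≤ (r : WithBot ℕ∞) := by
    have e1 : ringKrullDim (Localization.AtPrime p) = ((p.height : ℕ∞) : WithBot ℕ∞) :=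
      IsLocalization.AtPrime.ringKrullDim_eq_height p (Localization.AtPrime p)
    have e2 := height_add_ringKrullDim_quotient_le (⟨p, inferInstance⟩ : PrimeSpectrum A)
    have e4 : ringKrullDim k + (s : WithBot ℕ∞) ≤ ringKrullDim (MvPowerSeries (Fin s) k) :=
      Groth.Agent.Lib.Helper7.CohenPres.le_ringKrullDim_powser k s
    rw [ringKrullDim_eq_zero_of_field, zero_add] at e4
    have e5 : ringKrullDim (MvPowerSeries (Fin s) k) ≤ ringKrullDim (A ⧸ p) :=
      Groth.Agent.Lib.Helper12.ringKrullDim_le_of_isIntegral_of_injective hinj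
    rw [e1]
    calc ((p.height : ℕ∞) : WithBot ℕ∞) + (s : WithBot ℕ∞)
        ≤ ((p.height : ℕ∞) : WithBot ℕ∞) + ringKrullDim (A ⧸ p) :=
          add_le_add le_rfl (e4.trans e5)
      _ ≤ ringKrullDim A := e2
      _ ≤ (r : WithBot ℕ∞) := hdimA
  haveI hnoeth : IsNoetherianRing (Localization.AtPrime (p.map (Ideal.Quotient.mk q))) :=
    IsLocalization.isNoetherianRing (p.map (Ideal.Quotient.mk q)).primeCompl _ inferInstance
  haveI hgr : Algebra.IsGeometricallyReduced k
      (ResidueField (Localization.AtPrime (p.map (Ideal.Quotient.mk q)))) := by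
    letI a1 : Algebra k L' := ((algebraMap (MvPowerSeries (Fin s) k) L').comp
      (algebraMap k (MvPowerSeries (Fin s) k))).toAlgebra
    haveI t1 : IsScalarTower k (MvPowerSeries (Fin s) k) L' :=
      IsScalarTower.of_algebraMap_eq (fun x => rfl)
    letI a2 : Algebra k L := ((algebraMap L' L).comp (algebraMap k L')).toAlgebra
    haveI t2 : IsScalarTower k L' L := IsScalarTower.of_algebraMap_eq (fun x => rfl)
    haveI t3 : IsScalarTower k (A ⧸ p) L := IsScalarTower.of_algebraMap_eq (fun x => by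
      show algebraMap L' L (algebraMap (MvPowerSeries (Fin s) k) L'
        (algebraMap k (MvPowerSeries (Fin s) k) x)) = _
      rw [← IsScalarTower.algebraMap_apply (MvPowerSeries (Fin s) k) L' L,
        IsScalarTower.algebraMap_apply (MvPowerSeries (Fin s) k) (A ⧸ p) L,
        ← IsScalarTower.algebraMap_apply k (MvPowerSeries (Fin s) k) (A ⧸ p)])
    haveI : Algebra.IsGeometricallyReduced k L := geomReduced_of_sep s (L' := L') (L := L)
    exact geomReduced_residue q p hqp (L := L) (IsFractionRing.injective (A ⧸ p) L)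
  tfae_have 1 → 3 := fun h =>
    (Groth.Agent.Lib.Helper21.CohenStruct.regular_of_isAdicFormallySmooth k _ h).1
  tfae_have 3 → 1 := fun h =>
    ((Groth.Agent.Lib.Helper21.CohenStruct.S2453_aux k
      (Localization.AtPrime (p.map (Ideal.Quotient.mk q)))).out 3 0).mp h
  tfae_have 2 → 3 := by
    rintro ⟨m, D, f, hfq, hgen, hdet⟩
    exact Groth.Agent.Lib.Helper21.RIh.regular_of_jacobian q p hqp D f hfq hgen hdet
  tfae_have 3 → 2 := fun h =>
    Groth.Agent.Lib.Helper21.RIh.jacobian_of_regular q p hqp dd T hT y hK hdim h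
  tfae_finish

theorem main {k : Type u} [Field k] (r : ℕ)
    (q p : Ideal (MvPowerSeries (Fin r) k)) [p.IsPrime] (hqp : q ≤ p)
    [(p.map (Ideal.Quotient.mk q)).IsPrime]
    (s : ℕ) [Algebra (MvPowerSeries (Fin s) k) (MvPowerSeries (Fin r) k ⧸ p)]
    [IsScalarTower k (MvPowerSeries (Fin s) k) (MvPowerSeries (Fin r) k ⧸ p)]
    [Module.Finite (MvPowerSeries (Fin s) k) (MvPowerSeries (Fin r) k ⧸ p)]
    (hinj : Function.Injective (algebraMap (MvPowerSeries (Fin s) k) (MvPowerSeries (Fin r) k ⧸ p)))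
    {L' L : Type u} [Field L'] [Field L]
    [Algebra (MvPowerSeries (Fin s) k) L'] [IsFractionRing (MvPowerSeries (Fin s) k) L']
    [Algebra (MvPowerSeries (Fin r) k ⧸ p) L] [IsFractionRing (MvPowerSeries (Fin r) k ⧸ p) L]
    [Algebra L' L] [Algebra (MvPowerSeries (Fin s) k) L]
    [IsScalarTower (MvPowerSeries (Fin s) k) (MvPowerSeries (Fin r) k ⧸ p) L]
    [IsScalarTower (MvPowerSeries (Fin s) k) L' L] [Algebra.IsSeparable L' L] :
    [CAlgX.IsAdicFormallySmooth k (Localization.AtPrime (p.map (Ideal.Quotient.mk q)))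
        (maximalIdeal (Localization.AtPrime (p.map (Ideal.Quotient.mk q)))),
     ∃ (m : ℕ) (D : Fin m → Derivation k (MvPowerSeries (Fin r) k) (MvPowerSeries (Fin r) k))
        (f : Fin m → MvPowerSeries (Fin r) k), (∀ i, f i ∈ q) ∧
        q.map (algebraMap (MvPowerSeries (Fin r) k) (Localization.AtPrime p)) =
          Ideal.span (Set.range fun i =>
            algebraMap (MvPowerSeries (Fin r) k) (Localization.AtPrime p) (f i)) ∧
        Matrix.det (Matrix.of fun i j => D i (f j)) ∉ p,
     IsRegularLocalRing (Localization.AtPrime (p.map (Ideal.Quotient.mk q)))].TFAE := by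
  classical
  haveI hdomA : IsDomain (MvPowerSeries (Fin r) k) := NoZeroDivisors.to_isDomain _
  haveI hregA : IsRegularLocalRing (MvPowerSeries (Fin r) k) :=
    Groth.Agent.Lib.Helper21.CohenStruct.isRegularLocalRing_mvPowerSeries k r
  haveI hregp : IsRegularLocalRing (Localization.AtPrime p) :=
    Groth.Agent.Lib.Helper26.RegularRing.isRegularLocalRing_localization_atPrime _ p
  exact tfae_abstract q p hqp (fun i => MvPowerSeries.pderiv k i) (fun i => MvPowerSeries.X i)
    (fun i j => by
      by_cases h : i = j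
      · subst h
        rw [if_pos rfl]
        exact MvPowerSeries.pderiv_X_self
      · rw [if_neg h]
        exact MvPowerSeries.pderiv_X_of_ne (Ne.symm h))
    (Groth.Agent.Lib.Helper26.PowerSeriesRLR.ringKrullDim_mvPowerSeries_le k r) s hinj
      (L' := L') (L := L)

end Groth.Agent.Lib.Helper21.RIi
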