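/-
Helper21 library (RIj): a domain `B`, finite and injective over a power series ring
`k[[T_1, …, T_r]]`, carries `r` `k`-derivations `B → B` and `r` elements with nonvanishing
Jacobian determinant (no separability hypothesis; uses Cartier's equality for the fraction
fields and the Jacobi–Zariski sequence).
-/
import Mathlib
import Groth.Agent.Lib.Helper6.CartierEq3
import Groth.Agent.Lib.Helper21.RIc

set_option autoImplicit false
set_option maxHeartbeats 1600000
set_option linter.style.haveILetI false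
set_option linter.unusedSectionVars false

namespace Groth.Agent.Lib.Helper21.RIj

open TensorProduct MvPowerSeries Groth.Agent.Lib.Helper6.CartierEq

universe u

/-- the differentials of the elements of `B` span the differentials of its fraction field -/
theorem span_D_algebraMap (k B L : Type*) [CommRing k] [CommRing B] [IsDomain B] [Field L]
    [Algebra k B] [Algebra B L] [Algebra k L] [IsScalarTower k B L] [IsFractionRing B L] :
    Submodule.span L (Set.range fun b : B => KaehlerDifferential.D k L (algebraMap B L b)) = ⊤ := by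
  rw [eq_top_iff, ← KaehlerDifferential.span_range_derivation, Submodule.span_le]
  rintro _ ⟨x, rfl⟩
  obtain ⟨b, t, ht, rfl⟩ := IsFractionRing.div_surjective B x
  have hb : ∀ c : B, KaehlerDifferential.D k L (algebraMap B L c) ∈
      Submodule.span L (Set.range fun b : B => KaehlerDifferential.D k L (algebraMap B L b)) :=
    fun c => Submodule.subset_span ⟨c, rfl⟩
  have ht0 : algebraMap B L t ≠ 0 := by
    intro h0
    exact nonZeroDivisors.ne_zero ht
      ((IsFractionRing.injective B L) (h0.trans (map_zero _).symm))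
  have key : algebraMap B L t •
      KaehlerDifferential.D k L (algebraMap B L b / algebraMap B L t) =
      KaehlerDifferential.D k L (algebraMap B L b) -
        (algebraMap B L b / algebraMap B L t) • KaehlerDifferential.D k L (algebraMap B L t) := by
    have h1 := (KaehlerDifferential.D k L).leibniz (algebraMap B L b / algebraMap B L t)
      (algebraMap B L t)
    rw [div_mul_cancel₀ _ ht0] at h1
    rw [h1, add_sub_cancel_left]
  have h2 : KaehlerDifferential.D k L (algebraMap B L b / algebraMap B L t) =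
      (algebraMap B L t)⁻¹ • (algebraMap B L t •
        KaehlerDifferential.D k L (algebraMap B L b / algebraMap B L t)) := by
    rw [smul_smul, inv_mul_cancel₀ ht0, one_smul]
  show KaehlerDifferential.D k L (algebraMap B L b / algebraMap B L t) ∈ _
  rw [h2, key]
  exact Submodule.smul_mem _ _ (Submodule.sub_mem _ (hb b) (Submodule.smul_mem _ _ (hb t)))

section

variable (k : Type u) [Field k] (r : ℕ) (B : Type u) [CommRing B] [IsDomain B]
  [Algebra (MvPowerSeries (Fin r) k) B] [Algebra k B] [IsScalarTower k (MvPowerSeries (Fin r) k) B]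

local notation "A₀" => MvPowerSeries (Fin r) k

theorem exists_derivations_aux (L₀ L : Type u) [Field L₀] [Field L]
    [Algebra (MvPowerSeries (Fin r) k) L₀] [IsFractionRing (MvPowerSeries (Fin r) k) L₀]
    [Algebra B L] [IsFractionRing B L] [Algebra L₀ L] [Algebra k L₀] [Algebra k L]
    [Algebra (MvPowerSeries (Fin r) k) L]
    [IsScalarTower (MvPowerSeries (Fin r) k) B L] [IsScalarTower (MvPowerSeries (Fin r) k) L₀ L]
    [IsScalarTower k (MvPowerSeries (Fin r) k) L₀] [IsScalarTower k B L] [IsScalarTower k L₀ L]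
    (hinj : Function.Injective (algebraMap A₀ B)) [Module.Finite A₀ B] :
    ∃ (D : Fin r → Derivation k B B) (a : Fin r → B),
      Matrix.det (Matrix.of fun i j => D i (a j)) ≠ 0 := by
  classical
  haveI : IsDomain A₀ := NoZeroDivisors.to_isDomain _
  haveI : FaithfulSMul A₀ B := (faithfulSMul_iff_algebraMap_injective A₀ B).mpr hinj
  -- finiteness of `L` over `L₀`
  haveI : Algebra.IsIntegral A₀ B := Algebra.IsIntegral.of_finite A₀ B
  haveI : Algebra.IsAlgebraic A₀ B := Algebra.IsIntegral.isAlgebraic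
  haveI hfinL : Module.Finite L₀ L := Module.Finite.of_isLocalization A₀ B (nonZeroDivisors A₀)
  haveI : Algebra.IsAlgebraic L₀ L := Algebra.IsAlgebraic.of_finite L₀ L
  obtain ⟨hH1fin, hΩfin, n, hn, hrank⟩ := exact_of_essFiniteType L₀ L
  have hn0 : n = 0 := by
    have h0 : Algebra.trdeg L₀ L = 0 := trdeg_eq_zero
    rw [h0] at hn
    exact_mod_cast hn.symm
  rw [hn0, add_zero] at hrank
  haveI := hH1fin
  haveI := hΩfin
  -- derivations of `L₀`
  haveI : Algebra.FormallyEtale A₀ L₀ :=
    Algebra.FormallyEtale.of_isLocalization (nonZeroDivisors A₀)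
  have hD₀ : ∀ i : Fin r, ∃ D' : Derivation k L₀ L₀, ∀ c : A₀,
      D' (algebraMap A₀ L₀ c) = algebraMap A₀ L₀ (pderiv k i c) := fun i =>
    Groth.Agent.Lib.Helper21.RIc.exists_derivation_extension k A₀ L₀
      (LinearMap.compDer (Algebra.linearMap A₀ L₀) (pderiv k i))
  choose D₀ hD₀ using hD₀
  obtain ⟨dd, hdd_def⟩ : ∃ dd : Fin r → Derivation k L₀ L,
      ∀ i x, dd i x = algebraMap L₀ L (D₀ i x) :=
    ⟨fun i => LinearMap.compDer (Algebra.linearMap L₀ L) (D₀ i), fun i x => rfl⟩
  have hdd : ∀ i (c : A₀), dd i (algebraMap A₀ L₀ c) = algebraMap A₀ L (pderiv k i c) := by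
    intro i c
    rw [hdd_def, hD₀, ← IsScalarTower.algebraMap_apply]
  -- the maps
  obtain ⟨f, hf_def⟩ : ∃ f : L ⊗[L₀] Ω[L₀⁄k] →ₗ[L] Ω[L⁄k],
      f = KaehlerDifferential.mapBaseChange k L₀ L := ⟨_, rfl⟩
  obtain ⟨ℓ, hℓ⟩ : ∃ ℓ : Fin r → (L ⊗[L₀] Ω[L₀⁄k] →ₗ[L] L),
      ∀ i (y : L) (x : L₀), ℓ i (y ⊗ₜ KaehlerDifferential.D k L₀ x) = y * dd i x := by
    refine ⟨fun i => LinearMap.liftBaseChange L (dd i).liftKaehlerDifferential, fun i y x => ?_⟩
    rw [LinearMap.liftBaseChange_tmul, Derivation.liftKaehlerDifferential_comp_D, smul_eq_mul]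
  obtain ⟨τ, hτ_def⟩ : ∃ τ : Fin r → L ⊗[L₀] Ω[L₀⁄k],
      ∀ m, τ m = (1 : L) ⊗ₜ KaehlerDifferential.D k L₀ (algebraMap A₀ L₀ (X m)) := ⟨_, fun m => rfl⟩
  have hℓτ : ∀ i m, ℓ i (τ m) = if i = m then 1 else 0 := by
    intro i m
    rw [hτ_def, hℓ, one_mul, hdd]
    by_cases h : i = m
    · subst h
      rw [pderiv_X_self, map_one, if_pos rfl]
    · rw [pderiv_X_of_ne (Ne.symm h), map_zero, if_neg h]
  obtain ⟨Ψ, hΨ⟩ : ∃ Ψ : L ⊗[L₀] Ω[L₀⁄k] →ₗ[L] (Fin r → L), ∀ v i, Ψ v i = ℓ i v :=
    ⟨LinearMap.pi ℓ, fun v i => rfl⟩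
  have hΨsurj : Function.Surjective Ψ := by
    intro c
    refine ⟨∑ m, c m • τ m, ?_⟩
    ext i
    rw [hΨ, map_sum, Finset.sum_eq_single i]
    · rw [map_smul, hℓτ, if_pos rfl, smul_eq_mul, mul_one]
    · intro m _ hmi
      rw [map_smul, hℓτ, if_neg (Ne.symm hmi), smul_zero]
    · intro hi
      exact absurd (Finset.mem_univ i) hi
  have hK₀ : ∀ v : L ⊗[L₀] Ω[L₀⁄k], v - ∑ m, ℓ m v • τ m ∈ LinearMap.ker Ψ := by
    intro v
    rw [LinearMap.mem_ker]
    ext i
    rw [hΨ, map_sub, map_sum, Finset.sum_eq_single i]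
    · rw [map_smul, hℓτ, if_pos rfl, smul_eq_mul, mul_one, sub_self]
      rfl
    · intro m _ hmi
      rw [map_smul, hℓτ, if_neg (Ne.symm hmi), smul_zero]
    · intro hi
      exact absurd (Finset.mem_univ i) hi
  -- Fredholm indices
  have hFι : Fred (V := ↥(LinearMap.ker Ψ)) (W := L ⊗[L₀] Ω[L₀⁄k]) (LinearMap.ker Ψ).subtype (r : ℤ) := by
    unfold Fred
    rw [Submodule.range_subtype, Submodule.ker_subtype]
    have e := Ψ.quotKerEquivOfSurjective hΨsurj
    refine ⟨inferInstance, Module.Finite.equiv e.symm, ?_⟩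
    rw [e.finrank_eq, Module.finrank_fin_fun, finrank_bot]
    simp
  have hkerf : LinearMap.ker f = LinearMap.range (Algebra.H1Cotangent.δ k L₀ L) := by
    rw [hf_def]
    exact LinearMap.exact_iff.mp (Algebra.H1Cotangent.exact_δ_mapBaseChange k L₀ L)
  have hrangef : LinearMap.range f = LinearMap.ker (KaehlerDifferential.map k L₀ L L) := by
    rw [hf_def]
    exact (LinearMap.exact_iff.mp (KaehlerDifferential.exact_mapBaseChange_map k L₀ L)).symm
  have ecok := (KaehlerDifferential.map k L₀ L L).quotKerEquivOfSurjective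
    (KaehlerDifferential.map_surjective k L₀ L)
  have hfinker : Module.Finite L (LinearMap.ker f) := by
    rw [hkerf]; infer_instance
  have hfincok : Module.Finite L (Ω[L⁄k] ⧸ LinearMap.range f) := by
    rw [hrangef]; exact Module.Finite.equiv ecok.symm
  have hFf : Fred f ((Module.finrank L (Ω[L⁄k] ⧸ LinearMap.range f) : ℤ) -
      Module.finrank L (LinearMap.ker f)) := ⟨hfinker, hfincok, rfl⟩
  have hle : Module.finrank L (LinearMap.ker f) ≤
      Module.finrank L (Ω[L⁄k] ⧸ LinearMap.range f) := by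
    have h1 : Module.finrank L (LinearMap.ker f) ≤
        Module.finrank L (Algebra.H1Cotangent L₀ L) := by
      rw [hkerf]; exact LinearMap.finrank_range_le _
    have h2 : Module.finrank L (Ω[L⁄k] ⧸ LinearMap.range f) = Module.finrank L Ω[L⁄L₀] := by
      rw [hrangef]; exact ecok.finrank_eq
    rw [h2, ← hrank]; exact h1
  obtain ⟨-, hQfin, hQ⟩ := hFι.comp hFf
  have hQr : r ≤ Module.finrank L (Ω[L⁄k] ⧸ LinearMap.range (f ∘ₗ (LinearMap.ker Ψ).subtype)) := by
    have hle' : (Module.finrank L (LinearMap.ker f) : ℤ) ≤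
        (Module.finrank L (Ω[L⁄k] ⧸ LinearMap.range f) : ℤ) := by exact_mod_cast hle
    have h0 : (0 : ℤ) ≤ Module.finrank L (LinearMap.ker (f ∘ₗ (LinearMap.ker Ψ).subtype)) :=
      Int.natCast_nonneg _
    have h3 : (r : ℤ) ≤ (Module.finrank L
        (Ω[L⁄k] ⧸ LinearMap.range (f ∘ₗ (LinearMap.ker Ψ).subtype)) : ℤ) := by omega
    exact_mod_cast h3
  obtain ⟨N, hN⟩ : ∃ N : Submodule L Ω[L⁄k],
      N = LinearMap.range (f ∘ₗ (LinearMap.ker Ψ).subtype) := ⟨_, rfl⟩
  rw [← hN] at hQr hQfin
  haveI := hQfin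
  -- independent differentials of elements of `B` modulo `N`
  obtain ⟨s, hs⟩ : ∃ s : Set (Ω[L⁄k] ⧸ N), s = Set.range fun b : B =>
      N.mkQ (KaehlerDifferential.D k L (algebraMap B L b)) := ⟨_, rfl⟩
  have hspan : Submodule.span L s = ⊤ := by
    rw [eq_top_iff]
    rintro y -
    obtain ⟨x, rfl⟩ := N.mkQ_surjective y
    have hx : x ∈ Submodule.span L
        (Set.range fun b : B => KaehlerDifferential.D k L (algebraMap B L b)) := by
      rw [span_D_algebraMap k B L]; trivial
    have h1 := Submodule.mem_map_of_mem (f := N.mkQ) hx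
    rw [Submodule.map_span, ← Set.range_comp] at h1
    rw [hs]
    exact h1
  obtain ⟨g, hg_mem, -, hg_li⟩ := Submodule.exists_fun_fin_finrank_span_eq L s
  have hr' : r ≤ Module.finrank L (Submodule.span L s) := by
    rw [hspan, finrank_top]; exact hQr
  have hg_mem' : ∀ i, ∃ b : B,
      N.mkQ (KaehlerDifferential.D k L (algebraMap B L b)) = g i := by
    intro i
    have h1 := hg_mem i
    rw [hs] at h1
    exact h1
  choose b hb using hg_mem'
  obtain ⟨a, ha⟩ : ∃ a : Fin r → B, ∀ j, a j = b (Fin.castLE hr' j) := ⟨_, fun j => rfl⟩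
  obtain ⟨v, hv⟩ : ∃ v : Fin r → Ω[L⁄k] ⧸ N, ∀ j, v j = g (Fin.castLE hr' j) := ⟨_, fun j => rfl⟩
  have hv_li : LinearIndependent L v := by
    have h1 := hg_li.comp _ (Fin.castLE_injective hr')
    have h2 : v = g ∘ Fin.castLE hr' := funext hv
    rw [h2]; exact h1
  have hva : ∀ j, N.mkQ (KaehlerDifferential.D k L (algebraMap B L (a j))) = v j := by
    intro j
    rw [ha, hv]
    exact hb _
  obtain ⟨G, hG⟩ := (Fintype.linearCombination L v).exists_leftInverse_of_injective
    (LinearMap.ker_eq_bot.mpr (linearIndependent_iff_injective_fintypeLinearCombination.mp hv_li))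
  have hGv : ∀ i j, G (v j) i = if i = j then 1 else 0 := by
    intro i j
    have h1 : Fintype.linearCombination L v (Pi.single j 1) = v j := by
      rw [Fintype.linearCombination_apply_single, one_smul]
    have h2 := LinearMap.congr_fun hG (Pi.single j (1 : L))
    rw [LinearMap.comp_apply, h1, LinearMap.id_apply] at h2
    rw [h2, Pi.single_apply]
  -- derivations of `L`
  obtain ⟨Dl, hDl⟩ : ∃ Dl : Fin r → Derivation k L L,
      ∀ i x, Dl i x = G (N.mkQ (KaehlerDifferential.D k L x)) i :=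
    ⟨fun i => LinearMap.compDer ((LinearMap.proj i).comp (G.comp N.mkQ))
      (KaehlerDifferential.D k L), fun i x => rfl⟩
  have hDl_a : ∀ i j, Dl i (algebraMap B L (a j)) = if i = j then 1 else 0 := by
    intro i j
    rw [hDl, hva]
    exact hGv i j
  -- restriction to `L₀`
  have hDl_L₀ : ∀ i (x : L₀), Dl i (algebraMap L₀ L x) =
      ∑ m, dd m x * Dl i (algebraMap A₀ L (X m)) := by
    intro i x
    have hfD : ∀ z : L₀, f ((1 : L) ⊗ₜ KaehlerDifferential.D k L₀ z) =
        KaehlerDifferential.D k L (algebraMap L₀ L z) := by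
      intro z
      rw [hf_def, KaehlerDifferential.mapBaseChange_tmul, one_smul, KaehlerDifferential.map_D]
    have hw := hK₀ ((1 : L) ⊗ₜ KaehlerDifferential.D k L₀ x)
    have hfw : f ((1 : L) ⊗ₜ KaehlerDifferential.D k L₀ x -
        ∑ m, ℓ m ((1 : L) ⊗ₜ KaehlerDifferential.D k L₀ x) • τ m) ∈ N := by
      rw [hN]
      exact ⟨⟨_, hw⟩, rfl⟩
    have h1 : N.mkQ (f ((1 : L) ⊗ₜ KaehlerDifferential.D k L₀ x -
        ∑ m, ℓ m ((1 : L) ⊗ₜ KaehlerDifferential.D k L₀ x) • τ m)) = 0 := by
      rw [Submodule.mkQ_apply, Submodule.Quotient.mk_eq_zero]; exact hfw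
    rw [map_sub, map_sub, sub_eq_zero, hfD, map_sum, map_sum] at h1
    rw [hDl, h1, map_sum, Finset.sum_apply]
    refine Finset.sum_congr rfl fun m _ => ?_
    rw [map_smul, map_smul, map_smul, Pi.smul_apply, smul_eq_mul, hℓ, one_mul, hτ_def, hfD,
      ← IsScalarTower.algebraMap_apply, hDl]
  -- boundedness on `B`
  obtain ⟨nβ, β, hβ⟩ := Module.Finite.exists_fin (R := A₀) (M := B)
  obtain ⟨F, hF⟩ : ∃ F : Finset L, F =
      (Finset.univ.image fun p : Fin r × Fin nβ => Dl p.1 (algebraMap B L (β p.2))) ∪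
      (Finset.univ.image fun p : Fin r × Fin r × Fin nβ =>
        Dl p.1 (algebraMap A₀ L (X p.2.1)) * algebraMap B L (β p.2.2)) := ⟨_, rfl⟩
  obtain ⟨s₀, hs₀⟩ := IsLocalization.exist_integer_multiples_of_finset (nonZeroDivisors B) F
  have hs₀ne : (s₀ : B) ≠ 0 := nonZeroDivisors.ne_zero s₀.2
  have hint : ∀ i (c : B), ∃ y : B, algebraMap B L y =
      algebraMap B L (s₀ : B) * Dl i (algebraMap B L c) := by
    intro i c
    have hc : c ∈ Submodule.span A₀ (Set.range β) := by rw [hβ]; trivial
    obtain ⟨cc, rfl⟩ := (Submodule.mem_span_range_iff_exists_fun A₀).mp hc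
    have h1 : ∀ t : Fin nβ, ∃ y : B, algebraMap B L y =
        algebraMap B L (s₀ : B) * Dl i (algebraMap B L (β t)) := by
      intro t
      obtain ⟨y, hy⟩ := hs₀ (Dl i (algebraMap B L (β t))) (by
        rw [hF]
        exact Finset.mem_union_left _ (Finset.mem_image.mpr ⟨(i, t), Finset.mem_univ _, rfl⟩))
      exact ⟨y, by rw [hy, Algebra.smul_def]⟩
    have h2 : ∀ (m : Fin r) (t : Fin nβ), ∃ y : B, algebraMap B L y =
        algebraMap B L (s₀ : B) * (Dl i (algebraMap A₀ L (X m)) * algebraMap B L (β t)) := by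
      intro m t
      obtain ⟨y, hy⟩ := hs₀ (Dl i (algebraMap A₀ L (X m)) * algebraMap B L (β t)) (by
        rw [hF]
        exact Finset.mem_union_right _ (Finset.mem_image.mpr ⟨(i, m, t), Finset.mem_univ _, rfl⟩))
      exact ⟨y, by rw [hy, Algebra.smul_def]⟩
    choose y₁ hy₁ using h1
    choose y₂ hy₂ using h2
    refine ⟨∑ t, (algebraMap A₀ B (cc t) * y₁ t +
      ∑ m, algebraMap A₀ B (pderiv k m (cc t)) * y₂ m t), ?_⟩
    rw [map_sum, map_sum, map_sum, Finset.mul_sum]
    refine Finset.sum_congr rfl fun t _ => ?_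
    have e1 : algebraMap B L (cc t • β t) = algebraMap A₀ L (cc t) * algebraMap B L (β t) := by
      rw [Algebra.smul_def, map_mul, ← IsScalarTower.algebraMap_apply A₀ B L]
    have e2 : Dl i (algebraMap A₀ L (cc t)) =
        ∑ m, algebraMap A₀ L (pderiv k m (cc t)) * Dl i (algebraMap A₀ L (X m)) := by
      rw [IsScalarTower.algebraMap_apply A₀ L₀ L, hDl_L₀]
      refine Finset.sum_congr rfl fun m _ => ?_
      rw [hdd]
    rw [e1, Derivation.leibniz, e2, smul_eq_mul, smul_eq_mul, map_add, map_mul, hy₁, map_sum,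
      mul_add, Finset.mul_sum, Finset.mul_sum, ← IsScalarTower.algebraMap_apply A₀ B L]
    congr 1
    · ring
    · refine Finset.sum_congr rfl fun m _ => ?_
      rw [map_mul, hy₂, ← IsScalarTower.algebraMap_apply A₀ B L]
      ring
  choose δ hδ using hint
  have hinjBL := IsFractionRing.injective B L
  have hδ_add : ∀ i (x y : B), δ i (x + y) = δ i x + δ i y := by
    intro i x y
    apply hinjBL
    rw [hδ, map_add, map_add, map_add, hδ, hδ, mul_add]
  have esm : ∀ (c : k) (x : B), algebraMap B L (c • x) = c • algebraMap B L x :=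
    fun c x => map_smul (IsScalarTower.toAlgHom k B L) c x
  have hδ_smul : ∀ i (c : k) (x : B), δ i (c • x) = c • δ i x := by
    intro i c x
    apply hinjBL
    rw [hδ, esm, esm, Derivation.map_smul, mul_smul_comm, hδ]
  have hδ_mul : ∀ i (x y : B), δ i (x * y) = x • δ i y + y • δ i x := by
    intro i x y
    apply hinjBL
    rw [hδ, map_mul, Derivation.leibniz, smul_eq_mul, smul_eq_mul, smul_eq_mul, smul_eq_mul,
      map_add, map_mul, map_mul, hδ, hδ]
    ring
  refine ⟨fun i => Derivation.mk' ⟨⟨δ i, hδ_add i⟩, hδ_smul i⟩ (hδ_mul i), a, ?_⟩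
  have hM : (Matrix.of fun i j =>
      (Derivation.mk' ⟨⟨δ i, hδ_add i⟩, hδ_smul i⟩ (hδ_mul i) : Derivation k B B) (a j)) =
      (s₀ : B) • (1 : Matrix (Fin r) (Fin r) B) := by
    ext i j
    show δ i (a j) = _
    apply hinjBL
    rw [hδ, hDl_a, Matrix.smul_apply, Matrix.one_apply, smul_eq_mul]
    by_cases h : i = j <;> simp [h]
  rw [hM, Matrix.det_smul, Matrix.det_one, mul_one, Fintype.card_fin]
  exact pow_ne_zero _ hs₀ne

theorem exists_derivations (hinj : Function.Injective (algebraMap A₀ B)) [Module.Finite A₀ B] :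
    ∃ (D : Fin r → Derivation k B B) (a : Fin r → B),
      Matrix.det (Matrix.of fun i j => D i (a j)) ≠ 0 := by
  classical
  haveI : IsDomain A₀ := NoZeroDivisors.to_isDomain _
  haveI : FaithfulSMul A₀ B := (faithfulSMul_iff_algebraMap_injective A₀ B).mpr hinj
  haveI : IsScalarTower A₀ B (FractionRing B) := inferInstance
  haveI : IsScalarTower k A₀ (FractionRing B) := inferInstance
  haveI : IsScalarTower k B (FractionRing B) := inferInstance
  have hinjL : Function.Injective (algebraMap A₀ (FractionRing B)) := by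
    rw [IsScalarTower.algebraMap_eq A₀ B (FractionRing B)]
    exact (IsFractionRing.injective B (FractionRing B)).comp hinj
  haveI : FaithfulSMul A₀ (FractionRing B) :=
    (faithfulSMul_iff_algebraMap_injective A₀ (FractionRing B)).mpr hinjL
  letI algL₀L : Algebra (FractionRing A₀) (FractionRing B) :=
    FractionRing.liftAlgebra A₀ (FractionRing B)
  haveI : IsScalarTower A₀ (FractionRing A₀) (FractionRing B) :=
    FractionRing.isScalarTower_liftAlgebra A₀ (FractionRing B)
  haveI : IsScalarTower k (FractionRing A₀) (FractionRing B) :=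
    IsScalarTower.of_algebraMap_eq (fun x => by
      rw [IsScalarTower.algebraMap_apply k A₀ (FractionRing B),
        IsScalarTower.algebraMap_apply A₀ (FractionRing A₀) (FractionRing B),
        ← IsScalarTower.algebraMap_apply k A₀ (FractionRing A₀)])
  exact exists_derivations_aux k r B (FractionRing A₀) (FractionRing B) hinj

end

end Groth.Agent.Lib.Helper21.RIj
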