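/-
Helper21 library (RIk): for a complete Noetherian local `k`-algebra `A` with residue field finite
over `k`, the fibre rank of the completed module of differentials at a prime `p` is at least the
dimension of any irreducible component through `p`.
-/
import Mathlib
import Groth.Agent.Lib.Helper21.RIj
import Groth.Agent.Lib.Helper21.RIc
import Groth.Agent.Lib.Helper12.FibreRank
import Groth.Agent.Lib.Helper12.IntegralDim
import Groth.Agent.Lib.Helper15.ComplSurj
import Groth.Agent.Lib.Helper26.PowerSeriesRLR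
import Groth.Agent.S2460
import Groth.Agent.S4528

set_option autoImplicit false
set_option maxHeartbeats 1600000
set_option linter.style.haveILetI false
set_option linter.unusedSectionVars false

namespace Groth.Agent.Lib.Helper21.RIk

open IsLocalRing TensorProduct

universe u

section

variable (k A : Type u) [Field k] [CommRing A] [IsLocalRing A] [IsNoetherianRing A] [Algebra k A]
  [IsAdicComplete (maximalIdeal A) A] [Module.Finite k (ResidueField A)]

local notation "Ωh" => AdicCompletion (maximalIdeal A) (Ω[A⁄k])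

theorem finite_residueField_quotient (q : Ideal A) [IsLocalRing (A ⧸ q)] :
    Module.Finite k (ResidueField (A ⧸ q)) := by
  haveI : IsLocalHom (Ideal.Quotient.mk q) :=
    IsLocalHom.of_surjective _ Ideal.Quotient.mk_surjective
  obtain ⟨φ, hφdef⟩ : ∃ φ : ResidueField A →+* ResidueField (A ⧸ q),
      φ = ResidueField.map (Ideal.Quotient.mk q) := ⟨_, rfl⟩
  have hφr : ∀ a : A, φ (residue A a) = residue (A ⧸ q) (Ideal.Quotient.mk q a) := by
    intro a
    rw [hφdef]
    exact ResidueField.map_residue _ a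
  have hφ : ∀ (c : k) (x : ResidueField A), φ (c • x) = c • φ x := by
    intro c x
    rw [Algebra.smul_def, Algebra.smul_def, map_mul]
    congr 1
    rw [IsScalarTower.algebraMap_apply k A (ResidueField A),
      IsScalarTower.algebraMap_apply k (A ⧸ q) (ResidueField (A ⧸ q)),
      ResidueField.algebraMap_eq, ResidueField.algebraMap_eq, hφr]
    rfl
  let f : ResidueField A →ₗ[k] ResidueField (A ⧸ q) :=
    { toFun := φ, map_add' := map_add φ, map_smul' := hφ }
  refine Module.Finite.of_surjective f ?_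
  intro y
  obtain ⟨b, rfl⟩ := residue_surjective y
  obtain ⟨a, rfl⟩ := Ideal.Quotient.mk_surjective b
  exact ⟨residue A a, hφr a⟩

theorem le_finrank_of_derivations (q : Ideal A) [q.IsPrime] {n : ℕ}
    (D : Fin n → Derivation k A (A ⧸ q)) (a : Fin n → A)
    (hdet : Matrix.det (Matrix.of fun i j => D i (a j)) ≠ 0) :
    n ≤ Module.finrank q.ResidueField (q.ResidueField ⊗[A] Ωh) := by
  classical
  haveI : Module.Finite A Ωh := Groth.Agent.S4528.result
  have hof : Function.Surjective (AdicCompletion.of (maximalIdeal A) (Ω[A⁄k])) :=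
    Groth.Agent.Lib.Helper21.RIc.of_surjective_of_finite (maximalIdeal A)
      (Ideal.fg_of_isNoetherianRing _) (IsLocalRing.maximalIdeal_le_jacobson _) _
  haveI : IsHausdorff (maximalIdeal A) (A ⧸ q) :=
    IsHausdorff.of_le_jacobson (maximalIdeal A) (A ⧸ q) (IsLocalRing.maximalIdeal_le_jacobson _)
  have hlift : ∀ i, ∃ ℓ : Ωh →ₗ[A] A ⧸ q, ∀ x : A,
      ℓ (AdicCompletion.of (maximalIdeal A) (Ω[A⁄k]) (KaehlerDifferential.D k A x)) = D i x := by
    intro i
    have hker : LinearMap.ker (AdicCompletion.of (maximalIdeal A) (Ω[A⁄k])) ≤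
        LinearMap.ker (D i).liftKaehlerDifferential := by
      intro w hw
      rw [LinearMap.mem_ker] at hw ⊢
      apply IsHausdorff.haus' (I := maximalIdeal A)
      intro j
      rw [SModEq.zero]
      have h1 : w ∈ (maximalIdeal A ^ j • ⊤ : Submodule A (Ω[A⁄k])) := by
        have h2 := AdicCompletion.eval_of (maximalIdeal A) (Ω[A⁄k]) j w
        rw [hw, map_zero] at h2
        exact (Submodule.Quotient.mk_eq_zero _).mp h2.symm
      have h3 := Submodule.mem_map_of_mem (f := (D i).liftKaehlerDifferential) h1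
      rw [Submodule.map_smul''] at h3
      exact Submodule.smul_mono le_rfl le_top h3
    obtain ⟨e, he⟩ : ∃ e : (Ω[A⁄k] ⧸ LinearMap.ker (AdicCompletion.of (maximalIdeal A) (Ω[A⁄k])))
        ≃ₗ[A] Ωh, ∀ x, e (Submodule.Quotient.mk x) = AdicCompletion.of (maximalIdeal A) (Ω[A⁄k]) x :=
      ⟨(AdicCompletion.of (maximalIdeal A) (Ω[A⁄k])).quotKerEquivOfSurjective hof,
        fun x => LinearMap.quotKerEquivOfSurjective_apply_mk _ hof x⟩
    refine ⟨(Submodule.liftQ _ (D i).liftKaehlerDifferential hker).comp e.symm.toLinearMap,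
      fun x => ?_⟩
    have h1 : e.symm (AdicCompletion.of (maximalIdeal A) (Ω[A⁄k]) (KaehlerDifferential.D k A x)) =
        Submodule.Quotient.mk (KaehlerDifferential.D k A x) := by
      rw [LinearEquiv.symm_apply_eq]
      exact (he _).symm
    rw [LinearMap.comp_apply, LinearEquiv.coe_coe, h1, Submodule.liftQ_apply,
      Derivation.liftKaehlerDifferential_comp_D]
  choose ℓ hℓ using hlift
  obtain ⟨φ, hφ⟩ : ∃ φ : Fin n → (q.ResidueField ⊗[A] Ωh →ₗ[q.ResidueField] q.ResidueField),
      ∀ i (c : q.ResidueField) (y : Ωh), φ i (c ⊗ₜ y) =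
        c * algebraMap (A ⧸ q) q.ResidueField (ℓ i y) :=
    ⟨fun i => LinearMap.liftBaseChange q.ResidueField
      ((IsScalarTower.toAlgHom A (A ⧸ q) q.ResidueField).toLinearMap.comp (ℓ i)),
      fun i c y => by
        rw [LinearMap.liftBaseChange_tmul, smul_eq_mul]
        rfl⟩
  obtain ⟨w, hw⟩ : ∃ w : Fin n → q.ResidueField ⊗[A] Ωh, ∀ j, w j = (1 : q.ResidueField) ⊗ₜ
      AdicCompletion.of (maximalIdeal A) (Ω[A⁄k]) (KaehlerDifferential.D k A (a j)) :=
    ⟨_, fun j => rfl⟩
  have hφw : ∀ i j, φ i (w j) = algebraMap (A ⧸ q) q.ResidueField (D i (a j)) := by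
    intro i j
    rw [hw, hφ, one_mul, hℓ]
  have hdet' : Matrix.det (Matrix.of fun i j => φ i (w j)) ≠ 0 := by
    have h1 : (Matrix.of fun i j => φ i (w j)) =
        (algebraMap (A ⧸ q) q.ResidueField).mapMatrix (Matrix.of fun i j => D i (a j)) := by
      ext i j
      exact hφw i j
    rw [h1, ← RingHom.map_det]
    intro h0
    exact hdet (q.injective_algebraMap_quotient_residueField (h0.trans (map_zero _).symm))
  have hli : LinearIndependent q.ResidueField w := by
    rw [Fintype.linearIndependent_iff]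
    intro c hc
    have h1 : (Matrix.of fun i j => φ i (w j)).mulVec c = 0 := by
      ext i
      have h2 := congrArg (φ i) hc
      rw [map_sum, map_zero] at h2
      show ∑ j, φ i (w j) * c j = 0
      rw [← h2]
      refine Finset.sum_congr rfl fun j _ => ?_
      rw [map_smul, smul_eq_mul, mul_comm]
    have h3 := Matrix.eq_zero_of_mulVec_eq_zero hdet' h1
    exact fun j => congrFun h3 j
  have h4 := hli.fintype_card_le_finrank
  rwa [Fintype.card_fin] at h4

theorem main (p q : Ideal A) [p.IsPrime] (hq : q ∈ minimalPrimes A) (hqp : q ≤ p) :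
    ringKrullDim (A ⧸ q) ≤
      (Cardinal.toENat (Module.rank p.ResidueField
        (TensorProduct A p.ResidueField Ωh)) : WithBot ℕ∞) := by
  classical
  haveI hqprime : q.IsPrime := hq.1.1
  haveI : Module.Finite A Ωh := Groth.Agent.S4528.result
  haveI : IsDomain (A ⧸ q) := Ideal.Quotient.isDomain q
  haveI : IsLocalRing (A ⧸ q) :=
    IsLocalRing.of_surjective' (Ideal.Quotient.mk q) Ideal.Quotient.mk_surjective
  haveI : IsAdicComplete (maximalIdeal (A ⧸ q)) (A ⧸ q) := by
    have h := Groth.Agent.Lib.Helper15.CS.isAdicComplete_quotient (maximalIdeal A) q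
    have h2 : (maximalIdeal A).map (algebraMap A (A ⧸ q)) = maximalIdeal (A ⧸ q) :=
      IsLocalRing.map_maximalIdeal_of_surjective (Ideal.Quotient.mk q)
        Ideal.Quotient.mk_surjective
    rw [h2] at h
    exact h
  haveI : Module.Finite k (ResidueField (A ⧸ q)) := finite_residueField_quotient k A q
  obtain ⟨n, w, hwinj, -, hwfin⟩ := Groth.Agent.S2460.result (k₀ := k) (A := A ⧸ q)
  letI := w.toRingHom.toAlgebra
  haveI : IsScalarTower k (MvPowerSeries (Fin n) k) (A ⧸ q) :=
    IsScalarTower.of_algebraMap_eq (fun x => (w.commutes x).symm)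
  haveI : Module.Finite (MvPowerSeries (Fin n) k) (A ⧸ q) := hwfin
  obtain ⟨D, a, hdet⟩ := Groth.Agent.Lib.Helper21.RIj.exists_derivations k n (A ⧸ q) hwinj
  have ha' : ∀ j, ∃ x : A, Ideal.Quotient.mk q x = a j :=
    fun j => Ideal.Quotient.mk_surjective (a j)
  choose a' ha' using ha'
  have hdet' : Matrix.det (Matrix.of fun i j => (D i).compAlgebraMap A (a' j)) ≠ 0 := by
    have h1 : (Matrix.of fun i j => (D i).compAlgebraMap A (a' j)) =
        Matrix.of fun i j => D i (a j) := by
      ext i j
      show D i (algebraMap A (A ⧸ q) (a' j)) = D i (a j)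
      rw [← ha' j]
      rfl
    rw [h1]
    exact hdet
  have h1 := le_finrank_of_derivations k A q (fun i => (D i).compAlgebraMap A) a' hdet'
  have hdim : ringKrullDim (A ⧸ q) ≤ (n : WithBot ℕ∞) := by
    haveI : Algebra.IsIntegral (MvPowerSeries (Fin n) k) (A ⧸ q) :=
      Algebra.IsIntegral.of_finite _ _
    exact (Groth.Agent.Lib.Helper12.ringKrullDim_le_of_isIntegral).trans
      (Groth.Agent.Lib.Helper26.PowerSeriesRLR.ringKrullDim_mvPowerSeries_le k n)
  have h2 : Module.finrank q.ResidueField (q.ResidueField ⊗[A] Ωh) ≤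
      Module.finrank p.ResidueField (p.ResidueField ⊗[A] Ωh) :=
    Groth.Agent.Lib.Helper12.FibreRank.fdim_le_of_le Ωh
      (p := (⟨p, inferInstance⟩ : PrimeSpectrum A)) (q := (⟨q, hqprime⟩ : PrimeSpectrum A)) hqp
  rw [← Module.finrank_eq_rank, Cardinal.toENat_nat]
  refine hdim.trans ?_
  exact_mod_cast h1.trans h2

end

end Groth.Agent.Lib.Helper21.RIk
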