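/-
Helper21 library (RIl): for the fraction field `L` of a domain finite and injective over a power
series ring `k[[T_1, …, T_r]]`, `rank Ω_{L/k} ≥ r + rank Υ_{L/k}`, where `Υ_{L/k}` (the module of
imperfection, the kernel of `L ⊗_k Ω_k → Ω_L`) is identified with the first cotangent homology.
-/
import Mathlib
import Groth.Agent.Lib.Helper6.CartierEq3
import Groth.Agent.Lib.Helper21.RIc
import Groth.Agent.Lib.Helper21.SepSmoothG
import Groth.Agent.Lib.Helper21.SepSmoothE
import Groth.Agent.Lib.Helper21.PowSerSubC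
import Groth.Agent.Lib.Helper12.IntegralDim
import Groth.Agent.Lib.Helper26.PowerSeriesRLR
import Groth.Agent.S2460

set_option autoImplicit false
set_option maxHeartbeats 1600000
set_option linter.style.haveILetI false
set_option linter.unusedSectionVars false

namespace Groth.Agent.Lib.Helper21.RIl

open TensorProduct MvPowerSeries Groth.Agent.Lib.Helper6.CartierEq
  Groth.Agent.Lib.Helper21.SepSmooth

universe u

/-- the module of imperfection is the first cotangent homology -/
theorem nonempty_upsilon_equiv (K L : Type u) [Field K] [Field L] [Algebra K L] :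
    Nonempty (LinearMap.ker (KaehlerDifferential.mapBaseChange ℤ K L) ≃ₗ[L]
      Algebra.H1Cotangent K L) := by
  have hφ : Function.Bijective (KaehlerDifferential.map ℤ (⊥ : Subfield K) K K) :=
    ⟨map_int_bot_injective, KaehlerDifferential.map_surjective ℤ (⊥ : Subfield K) K⟩
  have hEinj : Function.Injective
      ((KaehlerDifferential.map ℤ (⊥ : Subfield K) K K).baseChange L) := by
    rw [LinearMap.baseChange_eq_ltensor]
    exact Module.Flat.lTensor_preserves_injective_linearMap (M := L) _ hφ.1
  have hEsurj : Function.Surjective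
      ((KaehlerDifferential.map ℤ (⊥ : Subfield K) K K).baseChange L) := by
    rw [LinearMap.baseChange_eq_ltensor]
    exact LinearMap.lTensor_surjective L hφ.2
  let E := LinearEquiv.ofBijective
    ((KaehlerDifferential.map ℤ (⊥ : Subfield K) K K).baseChange L) ⟨hEinj, hEsurj⟩
  have hk : LinearMap.ker (KaehlerDifferential.mapBaseChange ℤ K L) =
      Submodule.comap E.toLinearMap
        (LinearMap.ker (KaehlerDifferential.mapBaseChange (⊥ : Subfield K) K L)) := by
    ext x
    rw [LinearMap.mem_ker, Submodule.mem_comap, LinearMap.mem_ker]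
    have h1 := sq (k := K) (K := L) x
    constructor
    · intro hx
      rw [hx, map_zero] at h1
      exact h1.symm
    · intro hx
      have h2 : KaehlerDifferential.map ℤ (⊥ : Subfield K) L L
          (KaehlerDifferential.mapBaseChange ℤ K L x) = 0 := h1.trans hx
      exact map_int_bot_injective' (h2.trans (map_zero _).symm)
  have hfs : Algebra.FormallySmooth (⊥ : Subfield K) L := formallySmooth_bot'
  have hsub : Subsingleton (Algebra.H1Cotangent (⊥ : Subfield K) L) :=
    hfs.subsingleton_h1Cotangent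
  have hδinj : Function.Injective (Algebra.H1Cotangent.δ (⊥ : Subfield K) K L) := by
    rw [← LinearMap.ker_eq_bot,
      LinearMap.exact_iff.mp (Algebra.H1Cotangent.exact_map_δ (⊥ : Subfield K) K L)]
    refine LinearMap.range_eq_bot.mpr (LinearMap.ext fun x => ?_)
    rw [Subsingleton.elim x 0, map_zero]
    rfl
  have hk2 : LinearMap.ker (KaehlerDifferential.mapBaseChange (⊥ : Subfield K) K L) =
      LinearMap.range (Algebra.H1Cotangent.δ (⊥ : Subfield K) K L) :=
    LinearMap.exact_iff.mp (Algebra.H1Cotangent.exact_δ_mapBaseChange (⊥ : Subfield K) K L)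
  have e2 := E.ofSubmodule'
    (LinearMap.ker (KaehlerDifferential.mapBaseChange (⊥ : Subfield K) K L))
  exact ⟨(LinearEquiv.ofEq _ _ hk).trans (e2.trans ((LinearEquiv.ofEq _ _ hk2).trans
    (LinearEquiv.ofInjective _ hδinj).symm))⟩

section

variable (k : Type u) [Field k] (r : ℕ) (C : Type u) [CommRing C] [IsDomain C]
  [Algebra (MvPowerSeries (Fin r) k) C] [Algebra k C] [IsScalarTower k (MvPowerSeries (Fin r) k) C]

local notation "A₀" => MvPowerSeries (Fin r) k

theorem rank_aux (L₀ L : Type u) [Field L₀] [Field L]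
    [Algebra (MvPowerSeries (Fin r) k) L₀] [IsFractionRing (MvPowerSeries (Fin r) k) L₀]
    [Algebra C L] [IsFractionRing C L] [Algebra L₀ L] [Algebra k L₀] [Algebra k L]
    [Algebra (MvPowerSeries (Fin r) k) L]
    [IsScalarTower (MvPowerSeries (Fin r) k) C L] [IsScalarTower (MvPowerSeries (Fin r) k) L₀ L]
    [IsScalarTower k (MvPowerSeries (Fin r) k) L₀] [IsScalarTower k C L] [IsScalarTower k L₀ L]
    (hinj : Function.Injective (algebraMap A₀ C)) [Module.Finite A₀ C] :
    Module.Finite L (Algebra.H1Cotangent k L) ∧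
      (r : Cardinal.{u}) + Module.rank L (Algebra.H1Cotangent k L) ≤ Module.rank L (Ω[L⁄k]) := by
  classical
  haveI : IsDomain A₀ := NoZeroDivisors.to_isDomain _
  haveI : FaithfulSMul A₀ C := (faithfulSMul_iff_algebraMap_injective A₀ C).mpr hinj
  haveI : Algebra.IsIntegral A₀ C := Algebra.IsIntegral.of_finite A₀ C
  haveI : Algebra.IsAlgebraic A₀ C := Algebra.IsIntegral.isAlgebraic
  haveI hfinL : Module.Finite L₀ L := Module.Finite.of_isLocalization A₀ C (nonZeroDivisors A₀)
  haveI : Algebra.IsAlgebraic L₀ L := Algebra.IsAlgebraic.of_finite L₀ L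
  obtain ⟨hH1fin, hΩfin, n, hn, hrank⟩ := exact_of_essFiniteType L₀ L
  have hn0 : n = 0 := by
    have h0 : Algebra.trdeg L₀ L = 0 := trdeg_eq_zero
    rw [h0] at hn
    exact_mod_cast hn.symm
  rw [hn0, add_zero] at hrank
  haveI := hH1fin
  haveI := hΩfin
  -- derivations of `L₀`
  haveI : Algebra.FormallyEtale A₀ L₀ :=
    Algebra.FormallyEtale.of_isLocalization (nonZeroDivisors A₀)
  have hD₀ : ∀ i : Fin r, ∃ D' : Derivation k L₀ L₀, ∀ c : A₀,
      D' (algebraMap A₀ L₀ c) = algebraMap A₀ L₀ (pderiv k i c) := fun i =>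
    Groth.Agent.Lib.Helper21.RIc.exists_derivation_extension k A₀ L₀
      (LinearMap.compDer (Algebra.linearMap A₀ L₀) (pderiv k i))
  choose D₀ hD₀ using hD₀
  obtain ⟨dd, hdd_def⟩ : ∃ dd : Fin r → Derivation k L₀ L,
      ∀ i x, dd i x = algebraMap L₀ L (D₀ i x) :=
    ⟨fun i => LinearMap.compDer (Algebra.linearMap L₀ L) (D₀ i), fun i x => rfl⟩
  have hdd : ∀ i (c : A₀), dd i (algebraMap A₀ L₀ c) = algebraMap A₀ L (pderiv k i c) := by
    intro i c
    rw [hdd_def, hD₀, ← IsScalarTower.algebraMap_apply]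
  obtain ⟨f, hf_def⟩ : ∃ f : L ⊗[L₀] Ω[L₀⁄k] →ₗ[L] Ω[L⁄k],
      f = KaehlerDifferential.mapBaseChange k L₀ L := ⟨_, rfl⟩
  obtain ⟨ℓ, hℓ⟩ : ∃ ℓ : Fin r → (L ⊗[L₀] Ω[L₀⁄k] →ₗ[L] L),
      ∀ i (y : L) (x : L₀), ℓ i (y ⊗ₜ KaehlerDifferential.D k L₀ x) = y * dd i x := by
    refine ⟨fun i => LinearMap.liftBaseChange L (dd i).liftKaehlerDifferential, fun i y x => ?_⟩
    rw [LinearMap.liftBaseChange_tmul, Derivation.liftKaehlerDifferential_comp_D, smul_eq_mul]
  obtain ⟨τ, hτ_def⟩ : ∃ τ : Fin r → L ⊗[L₀] Ω[L₀⁄k],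
      ∀ m, τ m = (1 : L) ⊗ₜ KaehlerDifferential.D k L₀ (algebraMap A₀ L₀ (X m)) := ⟨_, fun m => rfl⟩
  have hℓτ : ∀ i m, ℓ i (τ m) = if i = m then 1 else 0 := by
    intro i m
    rw [hτ_def, hℓ, one_mul, hdd]
    by_cases h : i = m
    · subst h
      rw [pderiv_X_self, map_one, if_pos rfl]
    · rw [pderiv_X_of_ne (Ne.symm h), map_zero, if_neg h]
  have hτli : LinearIndependent L τ := by
    rw [Fintype.linearIndependent_iff]
    intro c hc i
    have h1 := congrArg (ℓ i) hc
    rw [map_sum, map_zero, Finset.sum_eq_single i] at h1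
    · rw [map_smul, hℓτ, if_pos rfl, smul_eq_mul, mul_one] at h1
      exact h1
    · intro m _ hmi
      rw [map_smul, hℓτ, if_neg (Ne.symm hmi), smul_zero]
    · intro hi
      exact absurd (Finset.mem_univ i) hi
  -- `H¹(L/k) ↪ H¹(L/L₀)`
  haveI hfsL₀ : Algebra.FormallySmooth k L₀ := by
    haveI := Groth.Agent.Lib.Helper21.PowSerSub.isGeometricallyReduced_frac k (Fin r) L₀
    exact formallySmooth_iff_geomReduced.mpr inferInstance
  haveI hsub : Subsingleton (Algebra.H1Cotangent k L₀) := hfsL₀.subsingleton_h1Cotangent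
  have hμinj : Function.Injective (Algebra.H1Cotangent.map k L₀ L L) := by
    rw [← LinearMap.ker_eq_bot,
      LinearMap.exact_iff.mp (Algebra.H1Cotangent.exact_liftBaseChange_map_of_flat k L₀ L)]
    refine LinearMap.range_eq_bot.mpr (LinearMap.ext fun x => ?_)
    induction x using TensorProduct.induction_on with
    | zero => simp
    | tmul a y =>
      rw [Subsingleton.elim y 0, TensorProduct.tmul_zero]
      simp
    | add x y hx hy =>
      rw [map_add, hx, hy]
      simp
  haveI hfinH1k : Module.Finite L (Algebra.H1Cotangent k L) :=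
    Module.Finite.of_injective (Algebra.H1Cotangent.map k L₀ L L) hμinj
  refine ⟨hfinH1k, ?_⟩
  have hkerδ : LinearMap.ker (Algebra.H1Cotangent.δ k L₀ L) =
      LinearMap.range (Algebra.H1Cotangent.map k L₀ L L) :=
    LinearMap.exact_iff.mp (Algebra.H1Cotangent.exact_map_δ k L₀ L)
  have hkerf : LinearMap.ker f = LinearMap.range (Algebra.H1Cotangent.δ k L₀ L) := by
    rw [hf_def]
    exact LinearMap.exact_iff.mp (Algebra.H1Cotangent.exact_δ_mapBaseChange k L₀ L)
  have hrangef : LinearMap.range f = LinearMap.ker (KaehlerDifferential.map k L₀ L L) := by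
    rw [hf_def]
    exact (LinearMap.exact_iff.mp (KaehlerDifferential.exact_mapBaseChange_map k L₀ L)).symm
  have ecok := (KaehlerDifferential.map k L₀ L L).quotKerEquivOfSurjective
    (KaehlerDifferential.map_surjective k L₀ L)
  have e1 := LinearMap.finrank_range_add_finrank_ker (Algebra.H1Cotangent.δ k L₀ L)
  have e2 : Module.finrank L (LinearMap.ker (Algebra.H1Cotangent.δ k L₀ L)) =
      Module.finrank L (Algebra.H1Cotangent k L) := by
    rw [hkerδ]; exact LinearMap.finrank_range_of_inj hμinj
  have c1 : Module.rank L (Ω[L⁄k] ⧸ LinearMap.range f) + Module.rank L (LinearMap.range f) =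
      Module.rank L Ω[L⁄k] := Submodule.rank_quotient_add_rank _
  have c2 : Module.rank L (LinearMap.range f) + Module.rank L (LinearMap.ker f) =
      Module.rank L (L ⊗[L₀] Ω[L₀⁄k]) := LinearMap.rank_range_add_rank_ker f
  have c3 : Module.rank L (Ω[L⁄k] ⧸ LinearMap.range f) =
      (Module.finrank L Ω[L⁄L₀] : Cardinal) := by
    rw [hrangef, ecok.rank_eq, Module.finrank_eq_rank]
  have c4 : Module.rank L (LinearMap.ker f) =
      (Module.finrank L (LinearMap.range (Algebra.H1Cotangent.δ k L₀ L)) : Cardinal) := by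
    rw [hkerf, Module.finrank_eq_rank]
  have c5 : Module.rank L (Algebra.H1Cotangent k L) =
      (Module.finrank L (Algebra.H1Cotangent k L) : Cardinal) :=
    (Module.finrank_eq_rank _ _).symm
  have c6 : (r : Cardinal.{u}) ≤ Module.rank L (L ⊗[L₀] Ω[L₀⁄k]) := by
    have h1 := hτli.cardinal_lift_le_rank
    simpa using h1
  have hκυ : Module.finrank L (LinearMap.range (Algebra.H1Cotangent.δ k L₀ L)) +
      Module.finrank L (Algebra.H1Cotangent k L) = Module.finrank L Ω[L⁄L₀] := by
    rw [← e2, e1, hrank]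
  calc (r : Cardinal.{u}) + Module.rank L (Algebra.H1Cotangent k L)
      ≤ (Module.rank L (LinearMap.range f) + Module.rank L (LinearMap.ker f)) +
          Module.rank L (Algebra.H1Cotangent k L) := add_le_add (c6.trans_eq c2.symm) le_rfl
    _ = Module.rank L (LinearMap.range f) +
          ((Module.finrank L (LinearMap.range (Algebra.H1Cotangent.δ k L₀ L)) +
            Module.finrank L (Algebra.H1Cotangent k L) : ℕ) : Cardinal) := by
        rw [c4, c5, Nat.cast_add, add_assoc]
    _ = Module.rank L (LinearMap.range f) + (Module.finrank L Ω[L⁄L₀] : Cardinal) := by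
        rw [hκυ]
    _ = Module.rank L Ω[L⁄k] := by rw [← c1, c3, add_comm]

end

theorem main (p : ℕ) [Fact p.Prime] (k C L : Type u) [Field k] [CharP k p] [CommRing C]
    [IsDomain C] [IsNoetherianRing C] [IsLocalRing C]
    [Algebra k C] [IsAdicComplete (IsLocalRing.maximalIdeal C) C]
    [Module.Finite k (IsLocalRing.ResidueField C)] (n : ℕ) (hn : ringKrullDim C = n)
    [Field L] [Algebra C L] [IsFractionRing C L] [Algebra k L] [IsScalarTower k C L] :
    Module.Finite L (LinearMap.ker (KaehlerDifferential.mapBaseChange ℤ k L)) ∧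
      (n : Cardinal.{u}) + Module.rank L (LinearMap.ker (KaehlerDifferential.mapBaseChange ℤ k L)) ≤
        Module.rank L (Ω[L⁄k]) := by
  classical
  obtain ⟨r, w, hwinj, -, hwfin⟩ := Groth.Agent.S2460.result (k₀ := k) (A := C)
  letI := w.toRingHom.toAlgebra
  haveI : IsScalarTower k (MvPowerSeries (Fin r) k) C :=
    IsScalarTower.of_algebraMap_eq (fun x => (w.commutes x).symm)
  haveI : Module.Finite (MvPowerSeries (Fin r) k) C := hwfin
  have hnr : n ≤ r := by
    haveI : Algebra.IsIntegral (MvPowerSeries (Fin r) k) C := Algebra.IsIntegral.of_finite _ _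
    have h1 : ringKrullDim C ≤ (r : WithBot ℕ∞) :=
      (Groth.Agent.Lib.Helper12.ringKrullDim_le_of_isIntegral).trans
        (Groth.Agent.Lib.Helper26.PowerSeriesRLR.ringKrullDim_mvPowerSeries_le k r)
    rw [hn] at h1
    exact_mod_cast h1
  haveI : IsDomain (MvPowerSeries (Fin r) k) := NoZeroDivisors.to_isDomain _
  letI : Algebra (MvPowerSeries (Fin r) k) L :=
    ((algebraMap C L).comp (algebraMap (MvPowerSeries (Fin r) k) C)).toAlgebra
  haveI : IsScalarTower (MvPowerSeries (Fin r) k) C L :=
    IsScalarTower.of_algebraMap_eq (fun x => rfl)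
  have hinjL : Function.Injective (algebraMap (MvPowerSeries (Fin r) k) L) :=
    (IsFractionRing.injective C L).comp hwinj
  haveI : FaithfulSMul (MvPowerSeries (Fin r) k) L :=
    (faithfulSMul_iff_algebraMap_injective (MvPowerSeries (Fin r) k) L).mpr hinjL
  letI : Algebra (FractionRing (MvPowerSeries (Fin r) k)) L :=
    FractionRing.liftAlgebra (MvPowerSeries (Fin r) k) L
  haveI : IsScalarTower (MvPowerSeries (Fin r) k) (FractionRing (MvPowerSeries (Fin r) k)) L :=
    FractionRing.isScalarTower_liftAlgebra (MvPowerSeries (Fin r) k) L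
  haveI : IsScalarTower k (MvPowerSeries (Fin r) k) L :=
    IsScalarTower.of_algebraMap_eq (fun x => by
      rw [IsScalarTower.algebraMap_apply k C L,
        IsScalarTower.algebraMap_apply k (MvPowerSeries (Fin r) k) C]
      rfl)
  haveI : IsScalarTower k (FractionRing (MvPowerSeries (Fin r) k)) L :=
    IsScalarTower.of_algebraMap_eq (fun x => by
      rw [IsScalarTower.algebraMap_apply k (MvPowerSeries (Fin r) k) L,
        IsScalarTower.algebraMap_apply (MvPowerSeries (Fin r) k)
          (FractionRing (MvPowerSeries (Fin r) k)) L,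
        ← IsScalarTower.algebraMap_apply k (MvPowerSeries (Fin r) k)
          (FractionRing (MvPowerSeries (Fin r) k))])
  obtain ⟨hfin, hle⟩ := rank_aux k r C (FractionRing (MvPowerSeries (Fin r) k)) L hwinj
  obtain ⟨e⟩ := nonempty_upsilon_equiv k L
  haveI := hfin
  refine ⟨Module.Finite.equiv e.symm, ?_⟩
  rw [e.rank_eq]
  have h2 : (n : Cardinal.{u}) ≤ (r : Cardinal.{u}) := by exact_mod_cast hnr
  exact (add_le_add h2 le_rfl).trans hle

end Groth.Agent.Lib.Helper21.RIl
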