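/-
Helper21 library (RIm): when `[k : k^p]` is finite, the differentials of `k[[T_1, …, T_r]]` over
`k` are spanned by the `dT_i`; consequently for the fraction field `L` of a complete local domain
`C` of dimension `n` with finite residue field over `k`, `rank Ω_{L/k} = n + rank Υ_{L/k}` and
`Ω_{C/k}` is a finite `C`-module.
-/
import Mathlib
import Groth.Agent.Lib.Helper1.PSOmega
import Groth.Agent.Lib.Helper21.RIl
import Groth.Agent.Lib.Helper7.CohenPres

set_option autoImplicit false
set_option maxHeartbeats 1600000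
set_option linter.style.haveILetI false
set_option linter.unusedSectionVars false

namespace Groth.Agent.Lib.Helper21.RIm

open TensorProduct MvPowerSeries Groth.Agent.Lib.Helper6.CartierEq
  Groth.Agent.Lib.Helper21.SepSmooth

universe u

theorem exists_pgens (p : ℕ) [Fact p.Prime] (k : Type u) [Field k] [CharP k p]
    (hk : (frobenius k p).Finite) :
    ∃ (m : ℕ) (c : Fin m → k), ∀ x : k, ∃ e : Fin m → k, ∑ j, c j * (e j) ^ p = x := by
  letI alg : Algebra k k := (frobenius k p).toAlgebra
  have hfin : @Module.Finite k k _ _ alg.toModule := hk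
  obtain ⟨m, c, hc⟩ :=
    (@Submodule.fg_iff_exists_fin_generating_family k k _ _ alg.toModule ⊤).mp hfin.fg_top
  refine ⟨m, c, fun x => ?_⟩
  have hx : x ∈ @Submodule.span k k _ _ alg.toModule (Set.range c) := by rw [hc]; trivial
  obtain ⟨e, he⟩ :=
    (@Submodule.mem_span_range_iff_exists_fun (Fin m) k k _ _ _ alg.toModule c x).mp hx
  refine ⟨e, ?_⟩
  rw [← he]
  refine Finset.sum_congr rfl fun j _ => ?_
  rw [mul_comm]
  rfl

section decomp

variable (p : ℕ) [hp : Fact p.Prime] (k : Type u) [Field k] [CharP k p] (r : ℕ)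

local notation "A₀" => MvPowerSeries (Fin r) k

/-- exponent vector attached to a residue vector -/
noncomputable def ex (a : Fin r → Fin p) : Fin r →₀ ℕ :=
  Finsupp.equivFunOnFinite.symm (fun i => (a i : ℕ))

/-- the coefficient series -/
noncomputable def G {m : ℕ} (e : k → Fin m → k) (F : MvPowerSeries (Fin r) k)
    (a : Fin r → Fin p) (j : Fin m) : MvPowerSeries (Fin r) k :=
  fun b => e (coeff (p • b + ex p r a) F) j

theorem decomp {m : ℕ} (c : Fin m → k) (e : k → Fin m → k)
    (he : ∀ x, ∑ j, c j * (e x j) ^ p = x) (F : MvPowerSeries (Fin r) k) :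
    F = ∑ a : Fin r → Fin p, ∑ j : Fin m,
      (C (c j) * (G p k r e F a j) ^ p) * monomial (ex p r a) (1 : k) := by
  classical
  have hp0 : p ≠ 0 := hp.out.ne_zero
  have hppos : 0 < p := hp.out.pos
  ext d
  rw [map_sum]
  rw [Finset.sum_eq_single (fun i => (⟨d i % p, Nat.mod_lt _ hppos⟩ : Fin p))]
  · rw [map_sum]
    have hle : ex p r (fun i => (⟨d i % p, Nat.mod_lt _ hppos⟩ : Fin p)) ≤ d := by
      intro i
      exact Nat.mod_le _ _
    have hsub : d - ex p r (fun i => (⟨d i % p, Nat.mod_lt _ hppos⟩ : Fin p)) =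
        p • (Finsupp.equivFunOnFinite.symm (fun i => d i / p) : Fin r →₀ ℕ) := by
      ext i
      show d i - d i % p = p * (d i / p)
      have := Nat.div_add_mod (d i) p
      omega
    have hadd : p • (Finsupp.equivFunOnFinite.symm (fun i => d i / p) : Fin r →₀ ℕ) +
        ex p r (fun i => (⟨d i % p, Nat.mod_lt _ hppos⟩ : Fin p)) = d := by
      ext i
      show p * (d i / p) + d i % p = d i
      exact Nat.div_add_mod (d i) p
    conv_lhs => rw [← he (coeff d F)]
    refine Finset.sum_congr rfl fun j _ => ?_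
    rw [coeff_mul_monomial, if_pos hle, mul_one, coeff_C_mul, hsub,
      ← map_frobenius_expand p hp0, coeff_map, coeff_expand_smul, frobenius_def]
    show _ = c j * (e (coeff (p • _ + _) F) j) ^ p
    rw [hadd]
  · intro a _ ha
    rw [map_sum]
    refine Finset.sum_eq_zero fun j _ => ?_
    rw [coeff_mul_monomial]
    split_ifs with hle
    · rw [mul_one, coeff_C_mul, ← map_frobenius_expand p hp0, coeff_map]
      obtain ⟨i, hi⟩ : ∃ i, a i ≠ ⟨d i % p, Nat.mod_lt _ hppos⟩ := by
        by_contra hcon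
        push Not at hcon
        exact ha (funext hcon)
      have hnd : ¬ p ∣ (d - ex p r a) i := by
        intro hdvd
        apply hi
        apply Fin.ext
        show (a i : ℕ) = d i % p
        have h1 : (a i : ℕ) ≤ d i := hle i
        have h2 : (d - ex p r a) i = d i - (a i : ℕ) := by
          rw [Finsupp.tsub_apply]; rfl
        rw [h2] at hdvd
        obtain ⟨q, hq⟩ := hdvd
        have h3 : d i = (a i : ℕ) + p * q := by omega
        rw [h3, Nat.add_mul_mod_self_left, Nat.mod_eq_of_lt (a i).2]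
      rw [coeff_expand_of_not_dvd p hp0 _ hnd, map_zero, mul_zero]
    · rfl
  · intro h
    exact absurd (Finset.mem_univ _) h

open Groth.Agent.Lib.Helper1 in
theorem E_eq_zero (hk : (frobenius k p).Finite) (F : MvPowerSeries (Fin r) k) :
    PSOmega.E k r F = 0 := by
  classical
  obtain ⟨m, c, hc⟩ := exists_pgens p k hk
  choose e he using hc
  haveI : CharP A₀ p := charP_of_injective_algebraMap (algebraMap k A₀).injective p
  rw [decomp p k r c e he F, map_sum]
  refine Finset.sum_eq_zero fun a _ => ?_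
  rw [map_sum]
  refine Finset.sum_eq_zero fun j _ => ?_
  have hmon : PSOmega.E k r (monomial (ex p r a) (1 : k)) = 0 := by
    rw [← MvPolynomial.coe_monomial]
    exact PSOmega.E_eq_zero_of_mem_adjoin k r _ (PSOmega.coe_mem_adjoin k r _)
  have hC : PSOmega.E k r (C (c j)) = 0 := by
    have : (C (c j) : A₀) = algebraMap k A₀ (c j) := by
      rw [MvPowerSeries.algebraMap_apply]; rfl
    rw [this, Derivation.map_algebraMap]
  have hpow : PSOmega.E k r ((G p k r e F a j) ^ p) = 0 := by
    rw [Derivation.leibniz_pow, ← Nat.cast_smul_eq_nsmul A₀, CharP.cast_eq_zero, zero_smul]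
  rw [Derivation.leibniz, Derivation.leibniz, hmon, hC, hpow]
  simp

open Groth.Agent.Lib.Helper1 in
theorem span_D_X (hk : (frobenius k p).Finite) :
    Submodule.span A₀ (Set.range fun i : Fin r => KaehlerDifferential.D k A₀ (X i)) = ⊤ := by
  rw [eq_top_iff, ← KaehlerDifferential.span_range_derivation k A₀, Submodule.span_le]
  rintro _ ⟨F, rfl⟩
  have h := E_eq_zero p k r hk F
  rw [PSOmega.E_apply, sub_eq_zero] at h
  rw [SetLike.mem_coe, h, PSOmega.ιmap, Fintype.linearCombination_apply]
  exact Submodule.sum_mem _ fun i _ => Submodule.smul_mem _ _ (Submodule.subset_span ⟨i, rfl⟩)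

end decomp

theorem span_one_tmul {R S M ι : Type*} [CommRing R] [CommRing S] [Algebra R S] [AddCommGroup M]
    [Module R M] (v : ι → M) (hv : Submodule.span R (Set.range v) = ⊤) :
    Submodule.span S (Set.range fun i => (1 : S) ⊗ₜ[R] v i) = ⊤ := by
  have h1 := Submodule.baseChange_span (R := R) (A := S) (Set.range v)
  rw [hv, Submodule.baseChange_top] at h1
  rw [h1]
  congr 1
  ext x
  constructor
  · rintro ⟨i, rfl⟩; exact ⟨v i, ⟨i, rfl⟩, rfl⟩
  · rintro ⟨_, ⟨i, rfl⟩, rfl⟩; exact ⟨i, rfl⟩

section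

variable (k : Type u) [Field k] (r : ℕ) (C : Type u) [CommRing C] [IsDomain C]
  [Algebra (MvPowerSeries (Fin r) k) C] [Algebra k C] [IsScalarTower k (MvPowerSeries (Fin r) k) C]

local notation "A₀" => MvPowerSeries (Fin r) k

theorem rank_eq (L₀ L : Type u) [Field L₀] [Field L]
    [Algebra (MvPowerSeries (Fin r) k) L₀] [IsFractionRing (MvPowerSeries (Fin r) k) L₀]
    [Algebra C L] [IsFractionRing C L] [Algebra L₀ L] [Algebra k L₀] [Algebra k L]
    [Algebra (MvPowerSeries (Fin r) k) L]
    [IsScalarTower (MvPowerSeries (Fin r) k) C L] [IsScalarTower (MvPowerSeries (Fin r) k) L₀ L]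
    [IsScalarTower k (MvPowerSeries (Fin r) k) L₀] [IsScalarTower k C L] [IsScalarTower k L₀ L]
    (hinj : Function.Injective (algebraMap A₀ C)) [Module.Finite A₀ C]
    (hspan : Submodule.span A₀
      (Set.range fun i : Fin r => KaehlerDifferential.D k A₀ (X i)) = ⊤) :
    Module.Finite L (Algebra.H1Cotangent k L) ∧
      Module.rank L (Ω[L⁄k]) =
        ((r + Module.finrank L (Algebra.H1Cotangent k L) : ℕ) : Cardinal.{u}) := by
  classical
  haveI : IsDomain A₀ := NoZeroDivisors.to_isDomain _
  haveI : FaithfulSMul A₀ C := (faithfulSMul_iff_algebraMap_injective A₀ C).mpr hinj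
  haveI : Algebra.IsIntegral A₀ C := Algebra.IsIntegral.of_finite A₀ C
  haveI : Algebra.IsAlgebraic A₀ C := Algebra.IsIntegral.isAlgebraic
  haveI hfinL : Module.Finite L₀ L := Module.Finite.of_isLocalization A₀ C (nonZeroDivisors A₀)
  haveI : Algebra.IsAlgebraic L₀ L := Algebra.IsAlgebraic.of_finite L₀ L
  obtain ⟨hH1fin, hΩfin, n, hn, hrank⟩ := exact_of_essFiniteType L₀ L
  have hn0 : n = 0 := by
    have h0 : Algebra.trdeg L₀ L = 0 := trdeg_eq_zero
    rw [h0] at hn
    exact_mod_cast hn.symm
  rw [hn0, add_zero] at hrank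
  haveI := hH1fin
  haveI := hΩfin
  -- derivations of `L₀`
  haveI : Algebra.FormallyEtale A₀ L₀ :=
    Algebra.FormallyEtale.of_isLocalization (nonZeroDivisors A₀)
  have hD₀ : ∀ i : Fin r, ∃ D' : Derivation k L₀ L₀, ∀ c : A₀,
      D' (algebraMap A₀ L₀ c) = algebraMap A₀ L₀ (pderiv k i c) := fun i =>
    Groth.Agent.Lib.Helper21.RIc.exists_derivation_extension k A₀ L₀
      (LinearMap.compDer (Algebra.linearMap A₀ L₀) (pderiv k i))
  choose D₀ hD₀ using hD₀
  obtain ⟨dd, hdd_def⟩ : ∃ dd : Fin r → Derivation k L₀ L,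
      ∀ i x, dd i x = algebraMap L₀ L (D₀ i x) :=
    ⟨fun i => LinearMap.compDer (Algebra.linearMap L₀ L) (D₀ i), fun i x => rfl⟩
  have hdd : ∀ i (c : A₀), dd i (algebraMap A₀ L₀ c) = algebraMap A₀ L (pderiv k i c) := by
    intro i c
    rw [hdd_def, hD₀, ← IsScalarTower.algebraMap_apply]
  obtain ⟨f, hf_def⟩ : ∃ f : L ⊗[L₀] Ω[L₀⁄k] →ₗ[L] Ω[L⁄k],
      f = KaehlerDifferential.mapBaseChange k L₀ L := ⟨_, rfl⟩
  obtain ⟨ℓ, hℓ⟩ : ∃ ℓ : Fin r → (L ⊗[L₀] Ω[L₀⁄k] →ₗ[L] L),
      ∀ i (y : L) (x : L₀), ℓ i (y ⊗ₜ KaehlerDifferential.D k L₀ x) = y * dd i x := by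
    refine ⟨fun i => LinearMap.liftBaseChange L (dd i).liftKaehlerDifferential, fun i y x => ?_⟩
    rw [LinearMap.liftBaseChange_tmul, Derivation.liftKaehlerDifferential_comp_D, smul_eq_mul]
  obtain ⟨τ, hτ_def⟩ : ∃ τ : Fin r → L ⊗[L₀] Ω[L₀⁄k],
      ∀ m, τ m = (1 : L) ⊗ₜ KaehlerDifferential.D k L₀ (algebraMap A₀ L₀ (X m)) := ⟨_, fun m => rfl⟩
  have hℓτ : ∀ i m, ℓ i (τ m) = if i = m then 1 else 0 := by
    intro i m
    rw [hτ_def, hℓ, one_mul, hdd]
    by_cases h : i = m
    · subst h
      rw [pderiv_X_self, map_one, if_pos rfl]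
    · rw [pderiv_X_of_ne (Ne.symm h), map_zero, if_neg h]
  have hτli : LinearIndependent L τ := by
    rw [Fintype.linearIndependent_iff]
    intro c hc i
    have h1 := congrArg (ℓ i) hc
    rw [map_sum, map_zero, Finset.sum_eq_single i] at h1
    · rw [map_smul, hℓτ, if_pos rfl, smul_eq_mul, mul_one] at h1
      exact h1
    · intro m _ hmi
      rw [map_smul, hℓτ, if_neg (Ne.symm hmi), smul_zero]
    · intro hi
      exact absurd (Finset.mem_univ i) hi
  -- `H¹(L/k) ↪ H¹(L/L₀)`
  haveI hfsL₀ : Algebra.FormallySmooth k L₀ := by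
    haveI := Groth.Agent.Lib.Helper21.PowSerSub.isGeometricallyReduced_frac k (Fin r) L₀
    exact formallySmooth_iff_geomReduced.mpr inferInstance
  haveI hsub : Subsingleton (Algebra.H1Cotangent k L₀) := hfsL₀.subsingleton_h1Cotangent
  have hμinj : Function.Injective (Algebra.H1Cotangent.map k L₀ L L) := by
    rw [← LinearMap.ker_eq_bot,
      LinearMap.exact_iff.mp (Algebra.H1Cotangent.exact_liftBaseChange_map_of_flat k L₀ L)]
    refine LinearMap.range_eq_bot.mpr (LinearMap.ext fun x => ?_)
    induction x using TensorProduct.induction_on with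
    | zero => simp
    | tmul a y =>
      rw [Subsingleton.elim y 0, TensorProduct.tmul_zero]
      simp
    | add x y hx hy =>
      rw [map_add, hx, hy]
      simp
  haveI hfinH1k : Module.Finite L (Algebra.H1Cotangent k L) :=
    Module.Finite.of_injective (Algebra.H1Cotangent.map k L₀ L L) hμinj
  refine ⟨hfinH1k, ?_⟩
  have hkerδ : LinearMap.ker (Algebra.H1Cotangent.δ k L₀ L) =
      LinearMap.range (Algebra.H1Cotangent.map k L₀ L L) :=
    LinearMap.exact_iff.mp (Algebra.H1Cotangent.exact_map_δ k L₀ L)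
  have hkerf : LinearMap.ker f = LinearMap.range (Algebra.H1Cotangent.δ k L₀ L) := by
    rw [hf_def]
    exact LinearMap.exact_iff.mp (Algebra.H1Cotangent.exact_δ_mapBaseChange k L₀ L)
  have hrangef : LinearMap.range f = LinearMap.ker (KaehlerDifferential.map k L₀ L L) := by
    rw [hf_def]
    exact (LinearMap.exact_iff.mp (KaehlerDifferential.exact_mapBaseChange_map k L₀ L)).symm
  have ecok := (KaehlerDifferential.map k L₀ L L).quotKerEquivOfSurjective
    (KaehlerDifferential.map_surjective k L₀ L)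
  have e1 := LinearMap.finrank_range_add_finrank_ker (Algebra.H1Cotangent.δ k L₀ L)
  have e2 : Module.finrank L (LinearMap.ker (Algebra.H1Cotangent.δ k L₀ L)) =
      Module.finrank L (Algebra.H1Cotangent k L) := by
    rw [hkerδ]; exact LinearMap.finrank_range_of_inj hμinj
  have c1 : Module.rank L (Ω[L⁄k] ⧸ LinearMap.range f) + Module.rank L (LinearMap.range f) =
      Module.rank L Ω[L⁄k] := Submodule.rank_quotient_add_rank _
  have c3 : Module.rank L (Ω[L⁄k] ⧸ LinearMap.range f) =
      (Module.finrank L Ω[L⁄L₀] : Cardinal) := by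
    rw [hrangef, ecok.rank_eq, Module.finrank_eq_rank]
  have hκυ : Module.finrank L (LinearMap.range (Algebra.H1Cotangent.δ k L₀ L)) +
      Module.finrank L (Algebra.H1Cotangent k L) = Module.finrank L Ω[L⁄L₀] := by
    rw [← e2, e1, hrank]
  -- spanning
  have hsurj₀ : Function.Surjective (KaehlerDifferential.mapBaseChange k A₀ L₀) := by
    have hx := LinearMap.exact_iff.mp (KaehlerDifferential.exact_mapBaseChange_map k A₀ L₀)
    rw [← LinearMap.range_eq_top, ← hx, LinearMap.ker_eq_top]
    exact LinearMap.ext fun x => Subsingleton.elim _ _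
  have hspan₀' : Submodule.span L₀ (Set.range fun i : Fin r =>
      (1 : L₀) ⊗ₜ[A₀] KaehlerDifferential.D k A₀ (X i)) = ⊤ := span_one_tmul _ hspan
  have hspan₀ : Submodule.span L₀ (Set.range fun i : Fin r =>
      KaehlerDifferential.D k L₀ (algebraMap A₀ L₀ (X i))) = ⊤ := by
    have h1 := congrArg (Submodule.map (KaehlerDifferential.mapBaseChange k A₀ L₀)) hspan₀'
    rw [Submodule.map_span, Submodule.map_top, LinearMap.range_eq_top.mpr hsurj₀,
      ← Set.range_comp] at h1
    rw [← h1]
    congr 2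
    funext i
    simp [KaehlerDifferential.mapBaseChange_tmul]
  have hspanτ : Submodule.span L (Set.range τ) = ⊤ := by
    have h1 := span_one_tmul (S := L) _ hspan₀
    rw [← h1]
    congr 2
    funext m
    exact hτ_def m
  obtain ⟨bτ⟩ : Nonempty (Module.Basis (Fin r) L (L ⊗[L₀] Ω[L₀⁄k])) :=
    ⟨Module.Basis.mk hτli hspanτ.ge⟩
  have hrk : Module.rank L (L ⊗[L₀] Ω[L₀⁄k]) = (r : Cardinal.{u}) := by
    rw [rank_eq_card_basis bτ, Fintype.card_fin]
  haveI : Module.Finite L (L ⊗[L₀] Ω[L₀⁄k]) := Module.Finite.of_basis bτ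
  have hfr : Module.finrank L (L ⊗[L₀] Ω[L₀⁄k]) = r := Module.finrank_eq_of_rank_eq hrk
  have d2 := LinearMap.finrank_range_add_finrank_ker f
  have d4 : Module.finrank L (LinearMap.ker f) =
      Module.finrank L (LinearMap.range (Algebra.H1Cotangent.δ k L₀ L)) := by rw [hkerf]
  have d5 : Module.rank L (LinearMap.range f) =
      (Module.finrank L (LinearMap.range f) : Cardinal) := (Module.finrank_eq_rank _ _).symm
  rw [← c1, c3, d5, ← Nat.cast_add]
  congr 1
  omega

end

theorem main (p : ℕ) [Fact p.Prime] (k C L : Type u) [Field k] [CharP k p]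
    (hk : (frobenius k p).Finite) [CommRing C]
    [IsDomain C] [IsNoetherianRing C] [IsLocalRing C]
    [Algebra k C] [IsAdicComplete (IsLocalRing.maximalIdeal C) C]
    [Module.Finite k (IsLocalRing.ResidueField C)] (n : ℕ) (hn : ringKrullDim C = n)
    [Field L] [Algebra C L] [IsFractionRing C L] [Algebra k L] [IsScalarTower k C L] :
    Module.finrank L (Ω[L⁄k]) =
        n + Module.finrank L (LinearMap.ker (KaehlerDifferential.mapBaseChange ℤ k L)) ∧
      Module.Finite C (Ω[C⁄k]) := by
  classical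
  obtain ⟨r, w, hwinj, -, hwfin⟩ := Groth.Agent.S2460.result (k₀ := k) (A := C)
  letI := w.toRingHom.toAlgebra
  haveI : IsScalarTower k (MvPowerSeries (Fin r) k) C :=
    IsScalarTower.of_algebraMap_eq (fun x => (w.commutes x).symm)
  haveI : Module.Finite (MvPowerSeries (Fin r) k) C := hwfin
  haveI : Algebra.IsIntegral (MvPowerSeries (Fin r) k) C := Algebra.IsIntegral.of_finite _ _
  have hrn : r = n := by
    have h1 : ringKrullDim C ≤ (r : WithBot ℕ∞) :=
      (Groth.Agent.Lib.Helper12.ringKrullDim_le_of_isIntegral).trans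
        (Groth.Agent.Lib.Helper26.PowerSeriesRLR.ringKrullDim_mvPowerSeries_le k r)
    have h2 : (r : WithBot ℕ∞) ≤ ringKrullDim C := by
      have h3 := Groth.Agent.Lib.Helper7.CohenPres.le_ringKrullDim_powser k r
      rw [ringKrullDim_eq_zero_of_field, zero_add] at h3
      exact h3.trans (Groth.Agent.Lib.Helper12.ringKrullDim_le_of_isIntegral_of_injective hwinj)
    rw [hn] at h1 h2
    have h1' : n ≤ r := by exact_mod_cast h1
    have h2' : r ≤ n := by exact_mod_cast h2
    omega
  have hspan := span_D_X p k r hk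
  haveI hfinΩ : Module.Finite (MvPowerSeries (Fin r) k) Ω[MvPowerSeries (Fin r) k⁄k] :=
    ⟨by rw [← hspan]; exact Submodule.fg_span (Set.finite_range _)⟩
  have hfinC : Module.Finite C Ω[C⁄k] := by
    have hex := LinearMap.exact_iff.mp
      (KaehlerDifferential.exact_mapBaseChange_map k (MvPowerSeries (Fin r) k) C)
    haveI : Module.Finite C
        (LinearMap.ker (KaehlerDifferential.map k (MvPowerSeries (Fin r) k) C C)) := by
      rw [Module.Finite.iff_fg, hex, LinearMap.range_eq_map]
      exact Module.Finite.fg_top.map _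
    haveI : Module.Finite C
        (Ω[C⁄k] ⧸ LinearMap.ker (KaehlerDifferential.map k (MvPowerSeries (Fin r) k) C C)) :=
      Module.Finite.equiv ((KaehlerDifferential.map k (MvPowerSeries (Fin r) k)
        C C).quotKerEquivOfSurjective
          (KaehlerDifferential.map_surjective k (MvPowerSeries (Fin r) k) C)).symm
    exact Module.Finite.of_submodule_quotient
      (LinearMap.ker (KaehlerDifferential.map k (MvPowerSeries (Fin r) k) C C))
  refine ⟨?_, hfinC⟩
  haveI : IsDomain (MvPowerSeries (Fin r) k) := NoZeroDivisors.to_isDomain _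
  letI : Algebra (MvPowerSeries (Fin r) k) L :=
    ((algebraMap C L).comp (algebraMap (MvPowerSeries (Fin r) k) C)).toAlgebra
  haveI : IsScalarTower (MvPowerSeries (Fin r) k) C L :=
    IsScalarTower.of_algebraMap_eq (fun x => rfl)
  have hinjL : Function.Injective (algebraMap (MvPowerSeries (Fin r) k) L) :=
    (IsFractionRing.injective C L).comp hwinj
  haveI : FaithfulSMul (MvPowerSeries (Fin r) k) L :=
    (faithfulSMul_iff_algebraMap_injective (MvPowerSeries (Fin r) k) L).mpr hinjL
  letI : Algebra (FractionRing (MvPowerSeries (Fin r) k)) L :=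
    FractionRing.liftAlgebra (MvPowerSeries (Fin r) k) L
  haveI : IsScalarTower (MvPowerSeries (Fin r) k) (FractionRing (MvPowerSeries (Fin r) k)) L :=
    FractionRing.isScalarTower_liftAlgebra (MvPowerSeries (Fin r) k) L
  haveI : IsScalarTower k (MvPowerSeries (Fin r) k) L :=
    IsScalarTower.of_algebraMap_eq (fun x => by
      rw [IsScalarTower.algebraMap_apply k C L,
        IsScalarTower.algebraMap_apply k (MvPowerSeries (Fin r) k) C]
      rfl)
  haveI : IsScalarTower k (FractionRing (MvPowerSeries (Fin r) k)) L :=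
    IsScalarTower.of_algebraMap_eq (fun x => by
      rw [IsScalarTower.algebraMap_apply k (MvPowerSeries (Fin r) k) L,
        IsScalarTower.algebraMap_apply (MvPowerSeries (Fin r) k)
          (FractionRing (MvPowerSeries (Fin r) k)) L,
        ← IsScalarTower.algebraMap_apply k (MvPowerSeries (Fin r) k)
          (FractionRing (MvPowerSeries (Fin r) k))])
  obtain ⟨hfin, hrk⟩ := rank_eq k r C (FractionRing (MvPowerSeries (Fin r) k)) L hwinj hspan
  obtain ⟨e⟩ := Groth.Agent.Lib.Helper21.RIl.nonempty_upsilon_equiv k L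
  rw [Module.finrank_eq_of_rank_eq hrk, e.finrank_eq, hrn]

end Groth.Agent.Lib.Helper21.RIm
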