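/-
Helper21 library (RIn): for `k` with `[k : k^p]` finite and `f` a power series over `k` defining
an isolated singularity, the module of differentials of `R₀ = k[[T]]/(f)` has the presentation
`0 → R₀ → R₀^r → Ω_{R₀/k} → 0`, hence `Ext²(Ω, R₀) = 0` and `Ext¹(Ω, R₀) ≃ R₀ / J R₀` (Tjurina).
-/
import Mathlib
import Groth.Agent.Lib.Helper21.RIm
import Groth.Agent.Lib.Helper22.ExtOne

set_option autoImplicit false
set_option maxHeartbeats 1600000
set_option linter.style.haveILetI false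
set_option linter.unusedSectionVars false

namespace Groth.Agent.Lib.Helper21.RIn

open TensorProduct MvPowerSeries CategoryTheory Groth.Agent.Lib.Helper1

universe u

section ext2

variable {R : Type u} [CommRing R] {N F M G : Type u} [AddCommGroup N] [Module R N]
  [AddCommGroup F] [Module R F] [AddCommGroup M] [Module R M] [AddCommGroup G] [Module R G]

theorem ext_two_subsingleton [Module.Projective R F] [Module.Projective R N]
    (u : N →ₗ[R] F) (π : F →ₗ[R] M)
    (hu : Function.Injective u) (hπ : Function.Surjective π) (hex : Function.Exact u π) :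
    Subsingleton (Abelian.Ext.{u} (ModuleCat.of R M) (ModuleCat.of R G) 2) := by
  let S : ShortComplex (ModuleCat.{u} R) :=
    ModuleCat.shortComplexOfCompEqZero u π hex.linearMap_comp_eq_zero
  have hS : S.ShortExact :=
    { exact := ModuleCat.shortComplex_exact _ hex
      mono_f := (ModuleCat.mono_iff_injective _).mpr hu
      epi_g := (ModuleCat.epi_iff_surjective _).mpr hπ }
  haveI : Projective S.X₂ :=
    ModuleCat.projective_of_categoryTheory_projective (ModuleCat.of R F)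
  haveI : Projective S.X₁ :=
    ModuleCat.projective_of_categoryTheory_projective (ModuleCat.of R N)
  have key : ∀ x₃ : Abelian.Ext.{u} (ModuleCat.of R M) (ModuleCat.of R G) 2, x₃ = 0 := by
    intro x₃
    have h0 : (Abelian.Ext.mk₀ S.g).comp x₃ (zero_add 2) = 0 :=
      Abelian.Ext.eq_zero_of_projective _
    obtain ⟨x₁, hx₁⟩ :=
      Abelian.Ext.contravariant_sequence_exact₃ hS (ModuleCat.of R G) x₃ h0 (show 1 + 1 = 2 from rfl)
    rw [← hx₁, Abelian.Ext.eq_zero_of_projective x₁, Abelian.Ext.comp_zero]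
  exact ⟨fun x y => by rw [key x, key y]⟩

end ext2

section ps

variable (p : ℕ) [hp : Fact p.Prime] (k : Type u) [Field k] [CharP k p] (r : ℕ)

local notation "A₀" => MvPowerSeries (Fin r) k

theorem D_eq_sum (hk : (frobenius k p).Finite) (F : MvPowerSeries (Fin r) k) :
    KaehlerDifferential.D k A₀ F = ∑ i, pderiv k i F • KaehlerDifferential.D k A₀ (X i) := by
  have h := RIm.E_eq_zero p k r hk F
  rw [PSOmega.E_apply, sub_eq_zero] at h
  conv_lhs => rw [h]
  rw [PSOmega.ιmap, Fintype.linearCombination_apply]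
  refine Finset.sum_congr rfl fun i _ => ?_
  rw [PSOmega.dpart_D]

theorem der_eq_sum (hk : (frobenius k p).Finite) (D : Derivation k A₀ A₀)
    (F : MvPowerSeries (Fin r) k) : D F = ∑ i, pderiv k i F * D (X i) := by
  have h := congrArg D.liftKaehlerDifferential (D_eq_sum p k r hk F)
  rw [Derivation.liftKaehlerDifferential_comp_D, map_sum] at h
  rw [h]
  refine Finset.sum_congr rfl fun i _ => ?_
  rw [map_smul, Derivation.liftKaehlerDifferential_comp_D, smul_eq_mul]

theorem jac_eq (hk : (frobenius k p).Finite) (f : MvPowerSeries (Fin r) k) :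
    Ideal.span {g | ∃ D : Derivation k A₀ A₀, g = D f} =
      Ideal.span (Set.range fun i => pderiv k i f) := by
  apply le_antisymm
  · rw [Ideal.span_le]
    rintro _ ⟨D, rfl⟩
    rw [SetLike.mem_coe, der_eq_sum p k r hk D f]
    exact Ideal.sum_mem _ fun i _ => Ideal.mul_mem_right _ _ (Ideal.subset_span ⟨i, rfl⟩)
  · rw [Ideal.span_le]
    rintro _ ⟨i, rfl⟩
    exact Ideal.subset_span ⟨pderiv k i, rfl⟩

omit hp [CharP k p] in
theorem mem_span_of_pow_mul (i₀ i₁ : Fin r) (h01 : i₀ ≠ i₁) (f α : MvPowerSeries (Fin r) k)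
    (hf : f ≠ 0) (N : ℕ)
    (h0 : α * X i₀ ^ N ∈ Ideal.span {f}) (h1 : α * X i₁ ^ N ∈ Ideal.span {f}) :
    α ∈ Ideal.span {f} := by
  classical
  haveI : IsDomain A₀ := NoZeroDivisors.to_isDomain _
  rw [Ideal.mem_span_singleton] at h0 h1 ⊢
  obtain ⟨b, hb⟩ := h0
  obtain ⟨c, hc⟩ := h1
  have h2 : b * X i₁ ^ N = c * X i₀ ^ N := by
    apply mul_left_cancel₀ hf
    calc f * (b * X i₁ ^ N) = (α * X i₀ ^ N) * X i₁ ^ N := by rw [hb]; ring
      _ = (α * X i₁ ^ N) * X i₀ ^ N := by ring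
      _ = f * (c * X i₀ ^ N) := by rw [hc]; ring
  have h3 : (X i₀ : A₀) ^ N ∣ b := by
    rw [X_pow_dvd_iff]
    intro m hm
    have h4 : (X i₀ : A₀) ^ N ∣ b * X i₁ ^ N := ⟨c, by rw [h2]; ring⟩
    rw [X_pow_dvd_iff] at h4
    have h5 := h4 (m + Finsupp.single i₁ N) (by
      rw [Finsupp.add_apply, Finsupp.single_apply, if_neg (Ne.symm h01), add_zero]; exact hm)
    rw [X_pow_eq, coeff_mul_monomial, if_pos le_add_self, mul_one, add_tsub_cancel_right] at h5
    exact h5
  obtain ⟨b', rfl⟩ := h3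
  refine ⟨b', ?_⟩
  have hX0 : (X i₀ : A₀) ≠ 0 := fun h => by
    have h1 := congrArg (coeff (Finsupp.single i₀ 1)) h
    rw [coeff_X, if_pos rfl, map_zero] at h1
    exact one_ne_zero h1
  have hX : (X i₀ : A₀) ^ N ≠ 0 := pow_ne_zero _ hX0
  apply mul_right_cancel₀ hX
  rw [hb]; ring

variable (f : MvPowerSeries (Fin r) k)

local notation "R₀" =>
  (MvPowerSeries (Fin r) k ⧸
    Ideal.span (Singleton.singleton f : Set (MvPowerSeries (Fin r) k)))
local notation "mk₀" =>
  Ideal.Quotient.mk (Ideal.span (Singleton.singleton f : Set (MvPowerSeries (Fin r) k)))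

omit hp [CharP k p] in
theorem mk_self : mk₀ f = 0 :=
  Ideal.Quotient.eq_zero_iff_mem.mpr (Ideal.mem_span_singleton_self f)

theorem D_mk_eq (hk : (frobenius k p).Finite) (F : MvPowerSeries (Fin r) k) :
    KaehlerDifferential.D k R₀ (mk₀ F) =
      ∑ i, mk₀ (pderiv k i F) • KaehlerDifferential.D k R₀ (mk₀ (X i)) := by
  have h1 : KaehlerDifferential.D k R₀ (mk₀ F) =
      KaehlerDifferential.map k k A₀ R₀ (KaehlerDifferential.D k A₀ F) :=
    (KaehlerDifferential.map_D k k A₀ R₀ F).symm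
  rw [h1, D_eq_sum p k r hk F, map_sum]
  refine Finset.sum_congr rfl fun i _ => ?_
  rw [map_smul, KaehlerDifferential.map_D, ← algebraMap_smul R₀ (pderiv k i F)]
  rfl

/-- the map `R₀ → R₀^r`, `1 ↦ (∂f/∂T_i)` -/
noncomputable def uMap : R₀ →ₗ[R₀] (Fin r → R₀) :=
  LinearMap.toSpanSingleton R₀ (Fin r → R₀) (fun i => mk₀ (pderiv k i f))

/-- the map `R₀^r → Ω`, `e_i ↦ dT_i` -/
noncomputable def piMap : (Fin r → R₀) →ₗ[R₀] Ω[R₀⁄k] :=
  Fintype.linearCombination R₀ (fun i => KaehlerDifferential.D k R₀ (mk₀ (X i)))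

omit hp [CharP k p] in
theorem uMap_apply (a : R₀) (i : Fin r) : uMap k r f a i = a * mk₀ (pderiv k i f) := rfl

theorem piMap_surjective (hk : (frobenius k p).Finite) : Function.Surjective (piMap k r f) := by
  classical
  rw [← LinearMap.range_eq_top, eq_top_iff, ← KaehlerDifferential.span_range_derivation k R₀,
    Submodule.span_le]
  rintro _ ⟨b, rfl⟩
  obtain ⟨F, rfl⟩ := Ideal.Quotient.mk_surjective b
  rw [SetLike.mem_coe, D_mk_eq p k r f hk F]
  refine Submodule.sum_mem _ fun i _ => ?_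
  refine ⟨Pi.single i (mk₀ (pderiv k i F)), ?_⟩
  rw [piMap, Fintype.linearCombination_apply_single]

theorem piMap_uMap (hk : (frobenius k p).Finite) (a : R₀) :
    piMap k r f (uMap k r f a) = 0 := by
  have h1 : piMap k r f (fun i => mk₀ (pderiv k i f)) = KaehlerDifferential.D k R₀ (mk₀ f) := by
    rw [D_mk_eq p k r f hk f, piMap, Fintype.linearCombination_apply]
  rw [uMap, LinearMap.toSpanSingleton_apply, map_smul, h1, mk_self, map_zero, smul_zero]

theorem exact_uMap_piMap (hk : (frobenius k p).Finite) :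
    Function.Exact (uMap k r f) (piMap k r f) := by
  classical
  intro v
  constructor
  · intro hv
    have hsurj : Function.Surjective (algebraMap A₀ R₀) := Ideal.Quotient.mk_surjective
    obtain ⟨ψ, hψ_def⟩ : ∃ ψ : (Fin r → R₀) →ₗ[R₀] R₀ ⊗[A₀] Ω[A₀⁄k],
        ψ = Fintype.linearCombination R₀
          (fun i => (1 : R₀) ⊗ₜ[A₀] KaehlerDifferential.D k A₀ (X i)) := ⟨_, rfl⟩
    have hψ : KaehlerDifferential.mapBaseChange k A₀ R₀ (ψ v) = piMap k r f v := by
      rw [hψ_def, piMap, Fintype.linearCombination_apply, Fintype.linearCombination_apply,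
        map_sum]
      refine Finset.sum_congr rfl fun i _ => ?_
      rw [map_smul]
      congr 1
      simp only [KaehlerDifferential.mapBaseChange_tmul, KaehlerDifferential.map_D,
        Ideal.Quotient.algebraMap_eq]
      show (1 : R₀) • (KaehlerDifferential.D k R₀ (mk₀ (X i))) =
        KaehlerDifferential.D k R₀ (mk₀ (X i))
      have h9 := one_smul R₀ (KaehlerDifferential.D k R₀ (mk₀ (X i)))
      exact h9
    have h1 : ψ v ∈ LinearMap.range (KaehlerDifferential.kerCotangentToTensor k A₀ R₀) :=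
      (KaehlerDifferential.exact_kerCotangentToTensor_mapBaseChange k A₀ R₀ hsurj (ψ v)).mp
        (hψ.trans hv)
    obtain ⟨y, hy⟩ := h1
    obtain ⟨x, rfl⟩ := Ideal.toCotangent_surjective _ y
    rw [KaehlerDifferential.kerCotangentToTensor_toCotangent] at hy
    have hx : (x : A₀) ∈ Ideal.span {f} := by
      have h2 : algebraMap A₀ R₀ (x : A₀) = 0 := RingHom.mem_ker.mp x.2
      exact Ideal.Quotient.eq_zero_iff_mem.mp h2
    obtain ⟨g, hg⟩ := Ideal.mem_span_singleton'.mp hx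
    refine ⟨mk₀ g, ?_⟩
    funext i
    obtain ⟨ℓ, hℓ_def⟩ : ∃ ℓ : R₀ ⊗[A₀] Ω[A₀⁄k] →ₗ[R₀] R₀,
        ℓ = LinearMap.liftBaseChange R₀ ((Algebra.linearMap A₀ R₀) ∘ₗ PSOmega.dpart k r i) :=
      ⟨_, rfl⟩
    have hℓ : ∀ (b : R₀) (F : A₀), ℓ (b ⊗ₜ[A₀] KaehlerDifferential.D k A₀ F) =
        b * mk₀ (pderiv k i F) := by
      intro b F
      rw [hℓ_def, LinearMap.liftBaseChange_tmul, LinearMap.comp_apply, PSOmega.dpart_D,
        smul_eq_mul]
      rfl
    have hℓ1 : ℓ (ψ v) = v i := by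
      rw [hψ_def, Fintype.linearCombination_apply, map_sum, Finset.sum_eq_single i]
      · rw [map_smul, hℓ, pderiv_X_self, map_one, mul_one, smul_eq_mul, mul_one]
      · intro j _ hji
        rw [map_smul, hℓ, pderiv_X_of_ne hji, map_zero, mul_zero, smul_zero]
      · intro h
        exact absurd (Finset.mem_univ _) h
    have e1 : v i = mk₀ (pderiv k i (x : A₀)) := by
      rw [← hℓ1, ← hy, hℓ, one_mul]
    have e2 : mk₀ (pderiv k i (x : A₀)) = mk₀ g * mk₀ (pderiv k i f) := by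
      rw [← hg, Derivation.leibniz, smul_eq_mul, smul_eq_mul, map_add, map_mul, map_mul,
        mk_self, zero_mul, add_zero]
    rw [uMap_apply, e1, e2]
  · rintro ⟨a, rfl⟩
    exact piMap_uMap p k r f hk a

theorem uMap_injective (hk : (frobenius k p).Finite) (i₀ i₁ : Fin r) (h01 : i₀ ≠ i₁) (N : ℕ)
    (hiso : IsLocalRing.maximalIdeal A₀ ^ N ≤
      Ideal.span {f} ⊔ Ideal.span {g | ∃ D : Derivation k A₀ A₀, g = D f}) :
    Function.Injective (uMap k r f) := by
  classical
  haveI : IsDomain A₀ := NoZeroDivisors.to_isDomain _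
  have hXm : ∀ i : Fin r, (X i : A₀) ^ N ∈ IsLocalRing.maximalIdeal A₀ ^ N := fun i =>
    Ideal.pow_mem_pow (by rw [PSOmega.maximalIdeal_eq_span]; exact Ideal.subset_span ⟨i, rfl⟩) N
  have hX0 : ∀ i : Fin r, (X i : A₀) ≠ 0 := fun i h => by
    have h1 := congrArg (coeff (Finsupp.single i 1)) h
    rw [coeff_X, if_pos rfl, map_zero] at h1
    exact one_ne_zero h1
  have hXne : ∀ i : Fin r, (X i : A₀) ^ N ≠ 0 := fun i => pow_ne_zero _ (hX0 i)
  rw [jac_eq p k r hk f] at hiso
  have hf : f ≠ 0 := by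
    intro hf0
    have h1 := hiso (hXm i₀)
    have h2 : Ideal.span {f} ⊔ Ideal.span (Set.range fun i => pderiv k i f) = ⊥ := by
      rw [hf0]
      simp
    rw [h2] at h1
    exact hXne i₀ (by simpa using h1)
  rw [injective_iff_map_eq_zero]
  intro a ha
  obtain ⟨α, rfl⟩ := Ideal.Quotient.mk_surjective a
  have hα : ∀ i, α * pderiv k i f ∈ Ideal.span {f} := by
    intro i
    have h1 := congrFun ha i
    rw [uMap_apply] at h1
    rw [← Ideal.Quotient.eq_zero_iff_mem, map_mul]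
    exact h1
  have hcolon : ∀ t ∈ IsLocalRing.maximalIdeal A₀ ^ N, α * t ∈ Ideal.span {f} := by
    intro t ht
    obtain ⟨s, hs, j, hj, rfl⟩ := Submodule.mem_sup.mp (hiso ht)
    rw [mul_add]
    refine Ideal.add_mem _ (Ideal.mul_mem_left _ _ hs) ?_
    refine Submodule.span_induction (p := fun j _ => α * j ∈ Ideal.span {f}) ?_ ?_ ?_ ?_ hj
    · rintro _ ⟨i, rfl⟩
      exact hα i
    · rw [mul_zero]
      exact Ideal.zero_mem _
    · intro x y _ _ hx hy
      rw [mul_add]
      exact Ideal.add_mem _ hx hy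
    · intro c x _ hx
      rw [smul_eq_mul, mul_left_comm]
      exact Ideal.mul_mem_left _ _ hx
  have h3 := mem_span_of_pow_mul k r i₀ i₁ h01 f α hf N (hcolon _ (hXm i₀)) (hcolon _ (hXm i₁))
  exact Ideal.Quotient.eq_zero_iff_mem.mpr h3

theorem main_aux (hk : (frobenius k p).Finite) (i₀ i₁ : Fin r) (h01 : i₀ ≠ i₁) (N : ℕ)
    (hiso : IsLocalRing.maximalIdeal A₀ ^ N ≤
      Ideal.span {f} ⊔ Ideal.span {g | ∃ D : Derivation k A₀ A₀, g = D f}) :
    Subsingleton (Abelian.Ext.{u} (ModuleCat.of R₀ Ω[R₀⁄k]) (ModuleCat.of R₀ R₀) 2) ∧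
      Nonempty (Abelian.Ext.{u} (ModuleCat.of R₀ Ω[R₀⁄k]) (ModuleCat.of R₀ R₀) 1 ≃ₗ[R₀]
        (R₀ ⧸ Ideal.map mk₀ (Ideal.span {g | ∃ D : Derivation k A₀ A₀, g = D f}))) := by
  classical
  have hu := uMap_injective p k r f hk i₀ i₁ h01 N hiso
  have hπ := piMap_surjective p k r f hk
  have hex := exact_uMap_piMap p k r f hk
  refine ⟨ext_two_subsingleton (uMap k r f) (piMap k r f) hu hπ hex, ?_⟩
  obtain ⟨δ, hδsurj, hδker⟩ := Groth.Agent.Lib.Helper22.ExtOne.exists_connecting (G := R₀)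
    (uMap k r f) (piMap k r f) hu hπ hex
  obtain ⟨Φ, hΦ_def⟩ : ∃ Φ : R₀ →ₗ[R₀]
      Abelian.Ext.{u} (ModuleCat.of R₀ Ω[R₀⁄k]) (ModuleCat.of R₀ R₀) 1,
      ∀ a, Φ a = δ (LinearMap.toSpanSingleton R₀ (R₀ →ₗ[R₀] R₀) LinearMap.id a) :=
    ⟨δ ∘ₗ LinearMap.toSpanSingleton R₀ (R₀ →ₗ[R₀] R₀) LinearMap.id, fun a => rfl⟩
  have hΦsurj : Function.Surjective Φ := by
    intro x
    obtain ⟨φ, rfl⟩ := hδsurj x
    refine ⟨φ 1, ?_⟩
    rw [hΦ_def]
    congr 1
    apply LinearMap.ext_ring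
    rw [LinearMap.toSpanSingleton_apply, LinearMap.smul_apply, LinearMap.id_apply, smul_eq_mul,
      mul_one]
  have hker : LinearMap.ker Φ =
      Ideal.map mk₀ (Ideal.span {g | ∃ D : Derivation k A₀ A₀, g = D f}) := by
    rw [jac_eq p k r hk f, Ideal.map_span]
    ext a
    rw [LinearMap.mem_ker, hΦ_def, hδker]
    constructor
    · rintro ⟨ψ', hψ'⟩
      have h1 := LinearMap.congr_fun hψ' 1
      rw [LinearMap.comp_apply, LinearMap.toSpanSingleton_apply, LinearMap.smul_apply,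
        LinearMap.id_apply, smul_eq_mul, mul_one] at h1
      rw [← h1, LinearMap.pi_apply_eq_sum_univ ψ']
      refine Ideal.sum_mem _ fun i _ => ?_
      rw [smul_eq_mul, uMap_apply, one_mul]
      exact Ideal.mul_mem_right _ _ (Ideal.subset_span ⟨pderiv k i f, ⟨i, rfl⟩, rfl⟩)
    · intro ha
      rw [← Set.range_comp] at ha
      obtain ⟨w, hw⟩ := (Submodule.mem_span_range_iff_exists_fun R₀).mp ha
      refine ⟨∑ i, w i • LinearMap.proj i, ?_⟩
      apply LinearMap.ext_ring
      rw [LinearMap.comp_apply, LinearMap.toSpanSingleton_apply, LinearMap.smul_apply,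
        LinearMap.id_apply, smul_eq_mul, mul_one, ← hw, LinearMap.sum_apply]
      refine Finset.sum_congr rfl fun i _ => ?_
      rw [LinearMap.smul_apply, LinearMap.proj_apply, uMap_apply, one_mul]
      rfl
  exact ⟨((Submodule.quotEquivOfEq _ _ hker).symm.trans
    (Φ.quotKerEquivOfSurjective hΦsurj)).symm⟩

end ps

end Groth.Agent.Lib.Helper21.RIn
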