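/-
Helper21 library (RIo): linear-algebra and localization lemmas for the completed module of
differentials of a complete Noetherian local algebra (EGA 0_IV 22.x cluster).
-/
import Mathlib
import Groth.Agent.Lib.Helper21.RIm
import Groth.Agent.Lib.Helper21.RIk

set_option autoImplicit false
set_option maxHeartbeats 1600000
set_option linter.style.haveILetI false
set_option linter.unusedSectionVars false

namespace Groth.Agent.Lib.Helper21.RIo

open IsLocalRing TensorProduct

universe u

section Greedy

variable {F V : Type*} [Field F] [AddCommGroup V] [Module F V]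

theorem greedy_aux (S : Set V) (h0 : (0 : V) ∈ S) (hS : Submodule.span F S = ⊤) :
    ∀ (m : ℕ) (v : Fin m → V), ∃ u : Fin m → V, (∀ i, u i ∈ S) ∧
      (Submodule.span F (Set.range fun i => v i + u i) = ⊤ ∨
        LinearIndependent F (fun i => v i + u i)) := by
  intro m
  induction m with
  | zero =>
    intro v
    exact ⟨fun i => i.elim0, fun i => i.elim0, Or.inr linearIndependent_empty_type⟩
  | succ m ih =>
    intro v
    obtain ⟨u', hu', h⟩ := ih (fun i => v i.castSucc)
    have hmem : ∀ x ∈ S, ∀ i, (Fin.snoc (α := fun _ => V) u' x : Fin (m + 1) → V) i ∈ S := by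
      intro x hx i
      refine Fin.lastCases ?_ (fun j => ?_) i
      · rw [Fin.snoc_last]; exact hx
      · rw [Fin.snoc_castSucc]; exact hu' j
    have hspan : ∀ x ∈ S,
        Submodule.span F (Set.range fun i : Fin m => v i.castSucc + u' i) = ⊤ →
        ∃ u : Fin (m + 1) → V, (∀ i, u i ∈ S) ∧
          (Submodule.span F (Set.range fun i => v i + u i) = ⊤ ∨
            LinearIndependent F (fun i => v i + u i)) := by
      intro x hx htop
      refine ⟨Fin.snoc (α := fun _ => V) u' x, hmem x hx, Or.inl ?_⟩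
      rw [eq_top_iff, ← htop]
      apply Submodule.span_mono
      rintro _ ⟨j, rfl⟩
      refine ⟨j.castSucc, ?_⟩
      show v j.castSucc + (Fin.snoc (α := fun _ => V) u' x : Fin (m + 1) → V) j.castSucc = _
      rw [Fin.snoc_castSucc]
    rcases h with h | hli
    · exact hspan 0 h0 h
    · by_cases hW : Submodule.span F (Set.range fun i : Fin m => v i.castSucc + u' i) = ⊤
      · exact hspan 0 h0 hW
      · obtain ⟨x, hx, hxW⟩ : ∃ x ∈ S, v (Fin.last m) + x ∉
            Submodule.span F (Set.range fun i : Fin m => v i.castSucc + u' i) := by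
          by_cases hv : v (Fin.last m) ∈
              Submodule.span F (Set.range fun i : Fin m => v i.castSucc + u' i)
          · by_contra hcon
            push Not at hcon
            apply hW
            rw [eq_top_iff, ← hS]
            apply Submodule.span_le.mpr
            intro s hs
            have h1 := hcon s hs
            have h2 := Submodule.sub_mem _ h1 hv
            rwa [add_sub_cancel_left] at h2
          · exact ⟨0, h0, by rwa [add_zero]⟩
        refine ⟨Fin.snoc (α := fun _ => V) u' x, hmem x hx, Or.inr ?_⟩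
        have h3 : (fun i => v i + (Fin.snoc (α := fun _ => V) u' x : Fin (m + 1) → V) i) =
            Fin.snoc (α := fun _ => V) (fun i : Fin m => v i.castSucc + u' i)
              (v (Fin.last m) + x) := by
          funext i
          refine Fin.lastCases ?_ (fun j => ?_) i
          · rw [Fin.snoc_last, Fin.snoc_last]
          · rw [Fin.snoc_castSucc, Fin.snoc_castSucc]
        rw [h3, linearIndependent_fin_snoc]
        exact ⟨hli, hxW⟩

theorem greedy [FiniteDimensional F V] (S : Set V) (h0 : (0 : V) ∈ S)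
    (hS : Submodule.span F S = ⊤) (m : ℕ) (hm : Module.finrank F V ≤ m) (v : Fin m → V) :
    ∃ u : Fin m → V, (∀ i, u i ∈ S) ∧
      Submodule.span F (Set.range fun i => v i + u i) = ⊤ := by
  obtain ⟨u, hu, h⟩ := greedy_aux S h0 hS m v
  refine ⟨u, hu, ?_⟩
  rcases h with h | h
  · exact h
  · have h1 := h.fintype_card_le_finrank
    rw [Fintype.card_fin] at h1
    exact h.span_eq_top_of_card_eq_finrank' (by rw [Fintype.card_fin]; omega)

end Greedy

theorem exists_fin_span_eq {R : Type*} [CommRing R] (s : Finset R) (m : ℕ) (h : s.card ≤ m) :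
    ∃ f : Fin m → R, Ideal.span (Set.range f) = Ideal.span (s : Set R) := by
  classical
  let e := s.equivFin
  refine ⟨fun i => if h' : i.val < s.card then ((e.symm ⟨i.val, h'⟩ : s) : R) else 0, ?_⟩
  apply le_antisymm
  · rw [Ideal.span_le]
    rintro _ ⟨i, rfl⟩
    dsimp only
    split_ifs with h'
    · exact Ideal.subset_span (e.symm ⟨i.val, h'⟩).2
    · exact Ideal.zero_mem _
  · rw [Ideal.span_le]
    intro x hx
    apply Ideal.subset_span
    refine ⟨⟨(e ⟨x, hx⟩).val, lt_of_lt_of_le (e ⟨x, hx⟩).2 h⟩, ?_⟩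
    dsimp only
    rw [dif_pos (e ⟨x, hx⟩).2]
    simp

section Loc

variable {A : Type*} [CommRing A] (S : Submonoid A) {M : Type*} [AddCommGroup M] [Module A M]

theorem mem_span_mk_iff {ι : Type*} (x : ι → M) (z : LocalizedModule S M) :
    z ∈ Submodule.span (Localization S)
        (Set.range fun i => LocalizedModule.mk (x i) (1 : S)) ↔
      ∃ m ∈ Submodule.span A (Set.range x), ∃ s : S, LocalizedModule.mk m s = z := by
  have h1 : Submodule.span (Localization S)
      (Set.range fun i => LocalizedModule.mk (x i) (1 : S)) =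
      (Submodule.span A (Set.range x)).localized' (Localization S) S
        (LocalizedModule.mkLinearMap S M) := by
    rw [Submodule.localized'_span, ← Set.range_comp]
    rfl
  rw [h1, Submodule.mem_localized']
  constructor
  · rintro ⟨m, hm, s, rfl⟩
    exact ⟨m, hm, s, IsLocalizedModule.mk_eq_mk' s m⟩
  · rintro ⟨m, hm, s, rfl⟩
    exact ⟨m, hm, s, (IsLocalizedModule.mk_eq_mk' s m).symm⟩

theorem exists_smul_mem_of_span_eq_top {ι : Type*} (x : ι → M)
    (h : Submodule.span (Localization S)
      (Set.range fun i => LocalizedModule.mk (x i) (1 : S)) = ⊤) (y : M) :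
    ∃ v : A, v ∈ S ∧ v • y ∈ Submodule.span A (Set.range x) := by
  have h1 : LocalizedModule.mk y (1 : S) ∈ Submodule.span (Localization S)
      (Set.range fun i => LocalizedModule.mk (x i) (1 : S)) := by
    rw [h]; trivial
  obtain ⟨m, hm, s, hms⟩ := (mem_span_mk_iff S x _).mp h1
  obtain ⟨u, hu⟩ := LocalizedModule.mk_eq.mp hms
  have hu' : (u : A) • ((1 : S) : A) • m = (u : A) • (s : A) • y := hu
  rw [OneMemClass.coe_one, one_smul] at hu'
  refine ⟨(u : A) * (s : A), S.mul_mem u.2 s.2, ?_⟩
  rw [mul_smul, ← hu']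
  exact Submodule.smul_mem _ _ hm

theorem span_mk_eq_top_of_forall {ι : Type*} (x : ι → M)
    (h : ∀ y : M, ∃ v : A, v ∈ S ∧ v • y ∈ Submodule.span A (Set.range x)) :
    Submodule.span (Localization S)
      (Set.range fun i => LocalizedModule.mk (x i) (1 : S)) = ⊤ := by
  rw [eq_top_iff]
  intro z _
  refine LocalizedModule.induction_on (fun y t => ?_) z
  obtain ⟨v, hv, hvy⟩ := h y
  rw [mem_span_mk_iff]
  refine ⟨v • y, hvy, ⟨v, hv⟩ * t, ?_⟩
  exact LocalizedModule.mk_cancel_common_left ⟨v, hv⟩ t y

theorem span_le_span_mk_one {ι : Type*} (x : ι → M) (u : ι → S) :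
    Submodule.span (Localization S) (Set.range fun i => LocalizedModule.mk (x i) (u i)) ≤
      Submodule.span (Localization S)
        (Set.range fun i => LocalizedModule.mk (x i) (1 : S)) := by
  rw [Submodule.span_le]
  rintro _ ⟨i, rfl⟩
  rw [SetLike.mem_coe, mem_span_mk_iff]
  exact ⟨x i, Submodule.subset_span ⟨i, rfl⟩, u i, rfl⟩

theorem span_one_tmul_eq_top {ι : Type*} (x : ι → M) (K : Type*) [Field K] [Algebra A K]
    (hK : ∀ v ∈ S, algebraMap A K v ≠ 0)
    (h : ∀ y : M, ∃ v : A, v ∈ S ∧ v • y ∈ Submodule.span A (Set.range x)) :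
    Submodule.span K (Set.range fun i => (1 : K) ⊗ₜ[A] x i) = ⊤ := by
  have h1 : Submodule.span K (Set.range fun y : M => (1 : K) ⊗ₜ[A] y) = ⊤ :=
    RIm.span_one_tmul (R := A) (S := K) (fun y : M => y)
      (by rw [eq_top_iff]; intro y _; exact Submodule.subset_span ⟨y, rfl⟩)
  rw [eq_top_iff, ← h1, Submodule.span_le]
  rintro _ ⟨y, rfl⟩
  obtain ⟨v, hv, hvy⟩ := h y
  have h2 : (1 : K) ⊗ₜ[A] (v • y) ∈
      Submodule.span K (Set.range fun i => (1 : K) ⊗ₜ[A] x i) := by
    have h3 : Submodule.span A (Set.range x) ≤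
        ((Submodule.span K (Set.range fun i => (1 : K) ⊗ₜ[A] x i)).restrictScalars A).comap
          (TensorProduct.mk A K M 1) := by
      rw [Submodule.span_le]
      rintro _ ⟨i, rfl⟩
      exact Submodule.subset_span ⟨i, rfl⟩
    exact h3 hvy
  rw [TensorProduct.tmul_smul, ← algebraMap_smul K v ((1 : K) ⊗ₜ[A] y)] at h2
  exact (Submodule.smul_mem_iff _ (hK v hv)).mp h2

theorem linearIndependent_mk {n : ℕ} (x : Fin n → M) (K : Type*) [Field K] [Algebra A K]
    (hK : ∀ v ∈ S, algebraMap A K v ≠ 0)
    (hker : ∀ a : A, algebraMap A K a = 0 → algebraMap A (Localization S) a = 0)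
    (hli : LinearIndependent K (fun i => (1 : K) ⊗ₜ[A] x i)) :
    LinearIndependent (Localization S) (fun i => LocalizedModule.mk (x i) (1 : S)) := by
  classical
  rw [Fintype.linearIndependent_iff]
  intro c hc
  obtain ⟨b, hb⟩ := IsLocalization.exist_integer_multiples S (Finset.univ : Finset (Fin n)) c
  choose a ha using fun i => hb i (Finset.mem_univ i)
  have h1 : LocalizedModule.mkLinearMap S M (∑ i, a i • x i) = 0 := by
    rw [map_sum]
    have h4 : ∑ i, LocalizedModule.mkLinearMap S M (a i • x i) =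
        (b : A) • ∑ i, c i • LocalizedModule.mk (x i) (1 : S) := by
      rw [Finset.smul_sum]
      refine Finset.sum_congr rfl fun i _ => ?_
      rw [map_smul, LocalizedModule.mkLinearMap_apply, ← algebraMap_smul (Localization S) (a i),
        ha i, smul_assoc]
    rw [h4, hc, smul_zero]
  obtain ⟨v, hv⟩ := (IsLocalizedModule.eq_zero_iff S (LocalizedModule.mkLinearMap S M)).mp h1
  have h5 : ∑ i, algebraMap A K ((v : A) * a i) • ((1 : K) ⊗ₜ[A] x i) = 0 := by
    have h6 := congrArg (TensorProduct.mk A K M 1) hv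
    rw [map_zero, Submonoid.smul_def, map_smul, map_sum] at h6
    rw [← h6, Finset.smul_sum]
    refine Finset.sum_congr rfl fun i _ => ?_
    rw [map_smul, smul_smul, TensorProduct.mk_apply, algebraMap_smul]
  have h7 := (Fintype.linearIndependent_iff.mp hli) _ h5
  intro i
  have h8 : algebraMap A K (a i) = 0 := by
    have h9 := h7 i
    rw [map_mul] at h9
    exact (mul_eq_zero.mp h9).resolve_left (hK v v.2)
  have h10 := hker _ h8
  rw [ha i, Algebra.smul_def] at h10
  exact (IsUnit.mul_right_eq_zero (IsLocalization.map_units (Localization S) b)).mp h10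

end Loc

section Omega

variable (k A : Type u) [Field k] [CommRing A] [IsLocalRing A] [IsNoetherianRing A] [Algebra k A]
  [IsAdicComplete (maximalIdeal A) A] [Module.Finite k (ResidueField A)]

local notation "Ωh" => AdicCompletion (maximalIdeal A) (Ω[A⁄k])

/-- the completed differential -/
noncomputable def dh (a : A) : Ωh :=
  AdicCompletion.of (maximalIdeal A) (Ω[A⁄k]) (KaehlerDifferential.D k A a)

theorem finite_Ωh : Module.Finite A Ωh := Groth.Agent.S4528.result

theorem of_surjective : Function.Surjective (AdicCompletion.of (maximalIdeal A) (Ω[A⁄k])) := by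
  haveI : Module.Finite A Ωh := finite_Ωh k A
  exact Groth.Agent.Lib.Helper21.RIc.of_surjective_of_finite (maximalIdeal A)
    (Ideal.fg_of_isNoetherianRing _) (IsLocalRing.maximalIdeal_le_jacobson _) _

theorem dh_add (a b : A) : dh k A (a + b) = dh k A a + dh k A b := by
  unfold dh; rw [map_add, map_add]

theorem dh_mul (a b : A) : dh k A (a * b) = a • dh k A b + b • dh k A a := by
  unfold dh; rw [Derivation.leibniz, map_add, map_smul, map_smul]

theorem dh_zero : dh k A 0 = 0 := by
  unfold dh; rw [map_zero, map_zero]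

theorem span_dh : Submodule.span A (Set.range (dh k A)) = ⊤ := by
  have h1 := KaehlerDifferential.span_range_derivation k A
  have h2 : Submodule.map (AdicCompletion.of (maximalIdeal A) (Ω[A⁄k])) ⊤ = ⊤ := by
    rw [Submodule.map_top, LinearMap.range_eq_top]; exact of_surjective k A
  rw [← h1, Submodule.map_span, ← Set.range_comp] at h2
  exact h2

theorem exists_lift {W : Type*} [AddCommGroup W] [Module A W] [IsHausdorff (maximalIdeal A) W]
    (f : Ω[A⁄k] →ₗ[A] W) :
    ∃ ℓ : Ωh →ₗ[A] W, ∀ ω, ℓ (AdicCompletion.of (maximalIdeal A) (Ω[A⁄k]) ω) = f ω := by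
  have hof := of_surjective k A
  have hker : LinearMap.ker (AdicCompletion.of (maximalIdeal A) (Ω[A⁄k])) ≤ LinearMap.ker f := by
    intro w hw
    rw [LinearMap.mem_ker] at hw ⊢
    apply IsHausdorff.haus' (I := maximalIdeal A)
    intro j
    rw [SModEq.zero]
    have h1 : w ∈ (maximalIdeal A ^ j • ⊤ : Submodule A (Ω[A⁄k])) := by
      have h2 := AdicCompletion.eval_of (maximalIdeal A) (Ω[A⁄k]) j w
      rw [hw, map_zero] at h2
      exact (Submodule.Quotient.mk_eq_zero _).mp h2.symm
    have h3 := Submodule.mem_map_of_mem (f := f) h1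
    rw [Submodule.map_smul''] at h3
    exact Submodule.smul_mono le_rfl le_top h3
  obtain ⟨e, he⟩ : ∃ e : (Ω[A⁄k] ⧸ LinearMap.ker (AdicCompletion.of (maximalIdeal A) (Ω[A⁄k])))
      ≃ₗ[A] Ωh, ∀ x, e (Submodule.Quotient.mk x) = AdicCompletion.of (maximalIdeal A) (Ω[A⁄k]) x :=
    ⟨(AdicCompletion.of (maximalIdeal A) (Ω[A⁄k])).quotKerEquivOfSurjective hof,
      fun x => LinearMap.quotKerEquivOfSurjective_apply_mk _ hof x⟩
  refine ⟨(Submodule.liftQ _ f hker).comp e.symm.toLinearMap, fun x => ?_⟩
  have h1 : e.symm (AdicCompletion.of (maximalIdeal A) (Ω[A⁄k]) x) =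
      Submodule.Quotient.mk x := by
    rw [LinearEquiv.symm_apply_eq]
    exact (he _).symm
  rw [LinearMap.comp_apply, LinearEquiv.coe_coe, h1, Submodule.liftQ_apply]

variable (P : Ideal A) [P.IsPrime]

/-- the differential in the fibre at `P` -/
noncomputable def δ (a : A) : P.ResidueField ⊗[A] Ωh := (1 : P.ResidueField) ⊗ₜ[A] dh k A a

theorem δ_add (a b : A) : δ k A P (a + b) = δ k A P a + δ k A P b := by
  unfold δ; rw [dh_add, TensorProduct.tmul_add]

theorem δ_zero : δ k A P 0 = 0 := by
  unfold δ; rw [dh_zero, TensorProduct.tmul_zero]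

theorem δ_mul (a b : A) : δ k A P (a * b) =
    algebraMap A P.ResidueField a • δ k A P b + algebraMap A P.ResidueField b • δ k A P a := by
  unfold δ
  rw [dh_mul, TensorProduct.tmul_add, TensorProduct.tmul_smul, TensorProduct.tmul_smul,
    algebraMap_smul, algebraMap_smul]

theorem span_δ : Submodule.span P.ResidueField (Set.range (δ k A P)) = ⊤ :=
  RIm.span_one_tmul (R := A) (S := P.ResidueField) (dh k A) (span_dh k A)

theorem span_δ_image (hP : P ≠ maximalIdeal A) (I : Ideal A) (hI : ¬ I ≤ P) :
    Submodule.span P.ResidueField (δ k A P '' ((maximalIdeal A * I : Ideal A) : Set A)) = ⊤ := by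
  obtain ⟨y, hyI, hyP⟩ := SetLike.not_le_iff_exists.mp hI
  obtain ⟨s, hsm, hsP⟩ : ∃ s ∈ maximalIdeal A, s ∉ P := by
    by_contra hcon
    push Not at hcon
    exact hP (le_antisymm (IsLocalRing.le_maximalIdeal (Ideal.IsPrime.ne_top ‹_›)) hcon)
  have hz : s * y ∈ maximalIdeal A * I := Ideal.mul_mem_mul hsm hyI
  have hz0 : algebraMap A P.ResidueField (s * y) ≠ 0 := by
    intro h0
    rw [Ideal.algebraMap_residueField_eq_zero] at h0
    rcases (‹P.IsPrime›).mem_or_mem h0 with h | h
    · exact hsP h
    · exact hyP h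
  rw [eq_top_iff, ← span_δ k A P, Submodule.span_le]
  rintro _ ⟨a, rfl⟩
  have h1 : δ k A P (a * (s * y)) ∈ Submodule.span P.ResidueField
      (δ k A P '' ((maximalIdeal A * I : Ideal A) : Set A)) :=
    Submodule.subset_span ⟨_, Ideal.mul_mem_left _ a hz, rfl⟩
  have h2 : δ k A P (s * y) ∈ Submodule.span P.ResidueField
      (δ k A P '' ((maximalIdeal A * I : Ideal A) : Set A)) :=
    Submodule.subset_span ⟨_, hz, rfl⟩
  rw [δ_mul] at h1
  have h3 : algebraMap A P.ResidueField (s * y) • δ k A P a ∈ Submodule.span P.ResidueField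
      (δ k A P '' ((maximalIdeal A * I : Ideal A) : Set A)) := by
    have h4 := Submodule.sub_mem _ h1 (Submodule.smul_mem _ (algebraMap A P.ResidueField a) h2)
    rwa [add_sub_cancel_left] at h4
  exact (Submodule.smul_mem_iff _ hz0).mp h3

end Omega

end Groth.Agent.Lib.Helper21.RIo
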