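/-
Helper21 library (RIp): for a complete Noetherian local `k`-algebra `A` with residue field finite
over `k` and a non-maximal prime `P`: the localized completed module of differentials is generated
by `m` elements iff `A` is finite over a power series ring in `m` variables and unramified at `P`.
-/
import Mathlib
import Groth.Agent.Lib.Helper21.RIo
import Groth.Agent.Lib.Helper1.PSOmega
import Groth.Agent.Lib.Helper26.PowerSeriesRLR
import Groth.Agent.Lib.Helper26.CompleteFinite

set_option autoImplicit false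
set_option maxHeartbeats 1600000
set_option linter.style.haveILetI false
set_option linter.unusedSectionVars false

namespace Groth.Agent.Lib.Helper21.RIp

open IsLocalRing TensorProduct

universe u

section

variable (k A : Type u) [Field k] [CommRing A] [IsLocalRing A] [IsNoetherianRing A] [Algebra k A]
  [IsAdicComplete (maximalIdeal A) A] [Module.Finite k (ResidueField A)]

local notation "Ωh" => AdicCompletion (maximalIdeal A) (Ω[A⁄k])

open Groth.Agent.Lib.Helper1 in
theorem map_D_eq_zero (r : ℕ) (φ : MvPowerSeries (Fin r) k →ₐ[k] A)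
    (hφ : ∀ i, φ (MvPowerSeries.X i) ∈ maximalIdeal A)
    {Q : Type*} [AddCommGroup Q] [Module A Q] [IsHausdorff (maximalIdeal A) Q]
    (g : Ω[A⁄k] →ₗ[A] Q) (hg : ∀ i, g (KaehlerDifferential.D k A (φ (MvPowerSeries.X i))) = 0)
    (f : MvPowerSeries (Fin r) k) : g (KaehlerDifferential.D k A (φ f)) = 0 := by
  classical
  have hpoly : ∀ P : MvPolynomial (Fin r) k,
      g (KaehlerDifferential.D k A (φ (P : MvPowerSeries (Fin r) k))) = 0 := by
    intro P
    induction P using MvPolynomial.induction_on with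
    | C a =>
      have h1 : φ ((MvPolynomial.C a : MvPolynomial (Fin r) k) : MvPowerSeries (Fin r) k) =
          algebraMap k A a := by
        rw [MvPolynomial.coe_C]
        have h2 : (MvPowerSeries.C a : MvPowerSeries (Fin r) k) =
            algebraMap k (MvPowerSeries (Fin r) k) a := rfl
        rw [h2, AlgHom.commutes]
      rw [h1, Derivation.map_algebraMap, map_zero]
    | add p q hp hq => rw [MvPolynomial.coe_add, map_add, map_add, map_add, hp, hq, add_zero]
    | mul_X p i hp =>
      rw [MvPolynomial.coe_mul, MvPolynomial.coe_X, map_mul, Derivation.leibniz, map_add,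
        map_smul, map_smul, hp, hg, smul_zero, smul_zero, add_zero]
  have hmap : ∀ n : ℕ, ∀ h ∈ maximalIdeal (MvPowerSeries (Fin r) k) ^ n,
      φ h ∈ maximalIdeal A ^ n := by
    intro n h hh
    have h1 : φ h ∈ (maximalIdeal (MvPowerSeries (Fin r) k) ^ n).map φ.toRingHom :=
      Ideal.mem_map_of_mem _ hh
    rw [Ideal.map_pow] at h1
    refine Ideal.pow_right_mono ?_ n h1
    rw [PSOmega.maximalIdeal_eq_span, Ideal.map_span, Ideal.span_le]
    rintro _ ⟨_, ⟨i, rfl⟩, rfl⟩
    exact hφ i
  apply IsHausdorff.haus' (I := maximalIdeal A)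
  intro n
  rw [SModEq.zero]
  let P : MvPolynomial (Fin r) k :=
    MvPowerSeries.trunc' k (Finsupp.equivFunOnFinite.symm (fun _ => n)) f
  have hgm : f - (P : MvPowerSeries (Fin r) k) ∈
      maximalIdeal (MvPowerSeries (Fin r) k) ^ (n + 1) := by
    rw [PSOmega.maximalIdeal_eq_ker]
    apply Groth.Agent.Lib.Helper6.PowerSeriesAdic.mem_ker_pow_of_coeff_eq_zero
    intro d hd
    rw [map_sub, MvPolynomial.coeff_coe, MvPowerSeries.coeff_trunc', if_pos, sub_self]
    intro i
    exact Nat.lt_succ_iff.1 (hd i)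
  have h2 : φ f = φ (f - (P : MvPowerSeries (Fin r) k)) + φ (P : MvPowerSeries (Fin r) k) := by
    rw [← map_add, sub_add_cancel]
  rw [h2, map_add, map_add, hpoly P, add_zero]
  have h3 := PSOmega.derivation_mem_pow_smul_top (KaehlerDifferential.D k A) (maximalIdeal A) n _
    (hmap (n + 1) _ hgm)
  have h4 := Submodule.mem_map_of_mem (f := g) h3
  rw [Submodule.map_smul''] at h4
  exact Submodule.smul_mono le_rfl le_top h4

theorem span_mk_dh_eq_top (r : ℕ) [Algebra (MvPowerSeries (Fin r) k) A]
    [IsScalarTower k (MvPowerSeries (Fin r) k) A]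
    (hloc : IsLocalHom (algebraMap (MvPowerSeries (Fin r) k) A))
    [Module.Finite (MvPowerSeries (Fin r) k) A]
    (P : Ideal A) [P.IsPrime] (hunr : Algebra.IsUnramifiedAt (MvPowerSeries (Fin r) k) P) :
    Submodule.span (Localization.AtPrime P) (Set.range fun i : Fin r =>
      LocalizedModule.mk
        (RIo.dh k A (algebraMap (MvPowerSeries (Fin r) k) A (MvPowerSeries.X i)))
        (1 : P.primeCompl)) = ⊤ := by
  classical
  haveI : Module.Finite A Ωh := RIo.finite_Ωh k A
  obtain ⟨t, ht⟩ : ∃ t : Fin r → A,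
      t = fun i => algebraMap (MvPowerSeries (Fin r) k) A (MvPowerSeries.X i) := ⟨_, rfl⟩
  obtain ⟨φ, hφ⟩ : ∃ φ : MvPowerSeries (Fin r) k →ₐ[k] A,
      ∀ f, φ f = algebraMap (MvPowerSeries (Fin r) k) A f :=
    ⟨IsScalarTower.toAlgHom k _ A, fun f => rfl⟩
  have hφt : ∀ i, φ (MvPowerSeries.X i) ∈ maximalIdeal A := by
    intro i
    rw [hφ, mem_maximalIdeal, mem_nonunits_iff]
    intro h2
    have h1 : ¬ IsUnit (MvPowerSeries.X i : MvPowerSeries (Fin r) k) := by
      rw [MvPowerSeries.isUnit_iff_constantCoeff]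
      simp
    exact h1 (hloc.map_nonunit _ h2)
  obtain ⟨M', hM'⟩ : ∃ M' : Submodule A Ωh,
      M' = Submodule.span A (Set.range fun i => RIo.dh k A (t i)) := ⟨_, rfl⟩
  have h1 : ∀ f : MvPowerSeries (Fin r) k, RIo.dh k A (φ f) ∈ M' := by
    intro f
    have h2 := map_D_eq_zero k A r φ hφt (Q := Ωh ⧸ M')
      (M'.mkQ.comp (AdicCompletion.of (maximalIdeal A) (Ω[A⁄k]))) (by
        intro i
        rw [LinearMap.comp_apply, Submodule.mkQ_apply, Submodule.Quotient.mk_eq_zero, hM', hφ]
        refine Submodule.subset_span ⟨i, ?_⟩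
        rw [ht]
        rfl) f
    rw [LinearMap.comp_apply, Submodule.mkQ_apply, Submodule.Quotient.mk_eq_zero] at h2
    exact h2
  have hker : LinearMap.ker (KaehlerDifferential.map k (MvPowerSeries (Fin r) k) A A) =
      Submodule.span A (Set.range fun a₀ : MvPowerSeries (Fin r) k =>
        KaehlerDifferential.D k A (algebraMap _ A a₀)) := by
    have hfun : (⇑(KaehlerDifferential.mapBaseChange k (MvPowerSeries (Fin r) k) A) ∘
        fun a₀ : MvPowerSeries (Fin r) k => (1 : A) ⊗ₜ[MvPowerSeries (Fin r) k]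
          KaehlerDifferential.D k (MvPowerSeries (Fin r) k) a₀) =
        fun a₀ => KaehlerDifferential.D k A (algebraMap _ A a₀) := by
      funext a₀
      rw [Function.comp_apply, KaehlerDifferential.mapBaseChange_tmul, one_smul,
        KaehlerDifferential.map_D]
    rw [← KaehlerDifferential.range_mapBaseChange, LinearMap.range_eq_map,
      ← RIm.span_one_tmul (R := MvPowerSeries (Fin r) k) (S := A)
        (fun a₀ => KaehlerDifferential.D k (MvPowerSeries (Fin r) k) a₀)
        (KaehlerDifferential.span_range_derivation k _),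
      Submodule.map_span, ← Set.range_comp, hfun]
  have hsupp : (⟨P, inferInstance⟩ : PrimeSpectrum A) ∉
      Module.support A (Ω[A⁄MvPowerSeries (Fin r) k]) := by
    have h3 : (⟨P, inferInstance⟩ : PrimeSpectrum A) ∈
        Algebra.unramifiedLocus (MvPowerSeries (Fin r) k) A := hunr
    rw [Algebra.unramifiedLocus_eq_compl_support] at h3
    exact h3
  have h4 : ∀ y : Ωh, ∃ v : A, v ∈ P.primeCompl ∧
      v • y ∈ Submodule.span A (Set.range fun i => RIo.dh k A (t i)) := by
    intro y
    obtain ⟨ω, rfl⟩ := RIo.of_surjective k A y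
    obtain ⟨v, hvP, hv⟩ := (Module.notMem_support_iff'.mp hsupp)
      (KaehlerDifferential.map k (MvPowerSeries (Fin r) k) A A ω)
    refine ⟨v, hvP, ?_⟩
    rw [← map_smul] at hv
    have h5 : v • ω ∈ LinearMap.ker (KaehlerDifferential.map k (MvPowerSeries (Fin r) k) A A) := hv
    rw [hker] at h5
    rw [← map_smul, ← hM']
    have h6 : Submodule.span A (Set.range fun a₀ : MvPowerSeries (Fin r) k =>
        KaehlerDifferential.D k A (algebraMap _ A a₀)) ≤
        M'.comap (AdicCompletion.of (maximalIdeal A) (Ω[A⁄k])) := by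
      rw [Submodule.span_le]
      rintro _ ⟨a₀, rfl⟩
      have h7 := h1 a₀
      rw [hφ] at h7
      exact h7
    exact h6 h5
  have h8 := RIo.span_mk_eq_top_of_forall P.primeCompl _ h4
  rw [ht] at h8
  exact h8

theorem finrank_le (P : Ideal A) [P.IsPrime] (m : ℕ)
    (hgen : ∃ s : Fin m → LocalizedModule P.primeCompl Ωh,
      Submodule.span (Localization.AtPrime P) (Set.range s) = ⊤) :
    Module.finrank P.ResidueField (P.ResidueField ⊗[A] Ωh) ≤ m := by
  classical
  haveI : Module.Finite A Ωh := RIo.finite_Ωh k A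
  obtain ⟨s, hs⟩ := hgen
  have hx : ∀ i, ∃ (x : Ωh) (u : P.primeCompl), s i = LocalizedModule.mk x u := by
    intro i
    exact LocalizedModule.induction_on (fun x u => ⟨x, u, rfl⟩) (s i)
  choose x u hxu using hx
  have hsp1 : Submodule.span (Localization.AtPrime P)
      (Set.range fun i => LocalizedModule.mk (x i) (1 : P.primeCompl)) = ⊤ := by
    rw [eq_top_iff, ← hs]
    have h1 : s = fun i => LocalizedModule.mk (x i) (u i) := funext hxu
    rw [h1]
    exact RIo.span_le_span_mk_one P.primeCompl x u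
  have hall := RIo.exists_smul_mem_of_span_eq_top P.primeCompl x hsp1
  have hκ : ∀ v ∈ P.primeCompl, algebraMap A P.ResidueField v ≠ 0 := by
    intro v hv h0
    rw [Ideal.algebraMap_residueField_eq_zero] at h0
    exact hv h0
  have hspN : Submodule.span P.ResidueField
      (Set.range fun i => (1 : P.ResidueField) ⊗ₜ[A] x i) = ⊤ :=
    RIo.span_one_tmul_eq_top P.primeCompl x P.ResidueField hκ hall
  have h1 := finrank_le_of_span_eq_top hspN
  rwa [Fintype.card_fin] at h1

theorem exists_params (P : Ideal A) [P.IsPrime] (hP : P ≠ maximalIdeal A)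
    (hq : ∃ q ∈ minimalPrimes A, q ≤ P ∧ ringKrullDim (A ⧸ q) = ringKrullDim A) (m : ℕ)
    (hfin : Module.finrank P.ResidueField (P.ResidueField ⊗[A] Ωh) ≤ m) :
    ∃ t : Fin m → A, maximalIdeal A ∈ (Ideal.span (Set.range t)).minimalPrimes ∧
      Submodule.span P.ResidueField (Set.range fun i => RIo.δ k A P (t i)) = ⊤ := by
  classical
  haveI : Module.Finite A Ωh := RIo.finite_Ωh k A
  obtain ⟨q, hqmin, hqP, hqdim⟩ := hq
  have hdim : ringKrullDim A ≤ (m : WithBot ℕ∞) := by
    have h1 := RIk.main k A P q hqmin hqP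
    rw [hqdim, ← Module.finrank_eq_rank, Cardinal.toENat_nat] at h1
    refine h1.trans ?_
    exact_mod_cast hfin
  obtain ⟨s₀, hs₀min, hs₀card⟩ :=
    Ideal.exists_finset_card_eq_height_of_isNoetherianRing (maximalIdeal A)
  have hcard : s₀.card ≤ m := by
    have h2 : ((s₀.card : ℕ∞) : WithBot ℕ∞) ≤ (m : WithBot ℕ∞) := by
      rw [hs₀card, IsLocalRing.maximalIdeal_height_eq_ringKrullDim]
      exact hdim
    exact_mod_cast h2
  obtain ⟨y, hy⟩ := RIo.exists_fin_span_eq s₀ m hcard
  obtain ⟨I, hI⟩ : ∃ I : Ideal A, I = Ideal.span (Set.range y) := ⟨_, rfl⟩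
  have hImin : maximalIdeal A ∈ I.minimalPrimes := by rw [hI, hy]; exact hs₀min
  have hPm : P ≤ maximalIdeal A := IsLocalRing.le_maximalIdeal (Ideal.IsPrime.ne_top ‹_›)
  have hIP : ¬ I ≤ P := by
    intro hle
    exact hP (le_antisymm hPm (hImin.2 ⟨‹P.IsPrime›, hle⟩ hPm))
  have hF1 := RIo.span_δ_image k A P hP I hIP
  obtain ⟨u', hu'S, hu'span⟩ := RIo.greedy
    (RIo.δ k A P '' ((maximalIdeal A * I : Ideal A) : Set A))
    ⟨0, Ideal.zero_mem _, RIo.δ_zero k A P⟩ hF1 m hfin (fun i => RIo.δ k A P (y i))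
  choose w hwI hwu using hu'S
  have hwI' : ∀ i, w i ∈ maximalIdeal A * I := hwI
  obtain ⟨t, ht⟩ : ∃ t : Fin m → A, ∀ i, t i = y i + w i := ⟨_, fun i => rfl⟩
  have hδt : (fun i => RIo.δ k A P (y i) + u' i) = fun i => RIo.δ k A P (t i) := by
    funext i
    rw [ht, RIo.δ_add, hwu]
  rw [hδt] at hu'span
  have hyI : ∀ i, y i ∈ I := by
    intro i
    rw [hI]
    exact Ideal.subset_span ⟨i, rfl⟩
  have hle : maximalIdeal A * I ≤ I := Ideal.mul_le_right
  have hwI2 : ∀ i, w i ∈ I := fun i => hle (hwI' i)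
  have hJ : Ideal.span (Set.range t) = I := by
    apply le_antisymm
    · rw [Ideal.span_le]
      rintro _ ⟨i, rfl⟩
      rw [ht]
      exact I.add_mem (hyI i) (hwI2 i)
    · apply Submodule.le_of_le_smul_of_le_jacobson_bot (I := maximalIdeal A)
        (N := Ideal.span (Set.range t)) (N' := I)
        (IsNoetherian.noetherian I) (IsLocalRing.maximalIdeal_le_jacobson _)
      have h9 : Ideal.span (Set.range y) ≤ Ideal.span (Set.range t) ⊔ maximalIdeal A • I := by
        rw [Ideal.span_le]
        rintro _ ⟨i, rfl⟩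
        have h10 : y i = t i - w i := by rw [ht]; ring
        rw [h10]
        exact Submodule.sub_mem _ (Submodule.mem_sup_left (Ideal.subset_span ⟨i, rfl⟩))
          (Submodule.mem_sup_right (hwI' i))
      exact hI.le.trans h9
  exact ⟨t, by rw [hJ]; exact hImin, hu'span⟩

theorem unramified_of_span (m : ℕ) [Algebra (MvPowerSeries (Fin m) k) A]
    [IsScalarTower k (MvPowerSeries (Fin m) k) A]
    [Module.Finite (MvPowerSeries (Fin m) k) A]
    (P : Ideal A) [P.IsPrime]
    (hspan : Submodule.span P.ResidueField (Set.range fun i : Fin m =>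
      RIo.δ k A P (algebraMap (MvPowerSeries (Fin m) k) A (MvPowerSeries.X i))) = ⊤) :
    Algebra.IsUnramifiedAt (MvPowerSeries (Fin m) k) P := by
  classical
  haveI : Module.Finite A Ωh := RIo.finite_Ωh k A
  haveI : Module.Finite A (Ω[A⁄MvPowerSeries (Fin m) k]) := inferInstance
  obtain ⟨ℓ, hℓ⟩ := RIo.exists_lift k A (KaehlerDifferential.map k (MvPowerSeries (Fin m) k) A A)
  have hℓsurj : Function.Surjective ℓ := by
    intro z
    obtain ⟨ω, rfl⟩ := KaehlerDifferential.map_surjective k (MvPowerSeries (Fin m) k) A z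
    exact ⟨_, hℓ ω⟩
  have hℓt : ∀ i : Fin m, ℓ (RIo.dh k A
      (algebraMap (MvPowerSeries (Fin m) k) A (MvPowerSeries.X i))) = 0 := by
    intro i
    show ℓ (AdicCompletion.of _ _ (KaehlerDifferential.D k A _)) = 0
    rw [hℓ, KaehlerDifferential.map_D]
    exact Derivation.map_algebraMap _ _
  have hsub : Subsingleton (P.ResidueField ⊗[A] (Ω[A⁄MvPowerSeries (Fin m) k])) := by
    have hbc : Function.Surjective (LinearMap.baseChange P.ResidueField ℓ) := by
      intro z
      obtain ⟨w', hw'⟩ := LinearMap.lTensor_surjective P.ResidueField hℓsurj z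
      exact ⟨w', hw'⟩
    have hzero : LinearMap.baseChange P.ResidueField ℓ = 0 := by
      have h1 : Submodule.span P.ResidueField (Set.range fun i : Fin m =>
          RIo.δ k A P (algebraMap (MvPowerSeries (Fin m) k) A (MvPowerSeries.X i))) ≤
          LinearMap.ker (LinearMap.baseChange P.ResidueField ℓ) := by
        rw [Submodule.span_le]
        rintro _ ⟨i, rfl⟩
        rw [SetLike.mem_coe, LinearMap.mem_ker]
        show LinearMap.baseChange P.ResidueField ℓ
          ((1 : P.ResidueField) ⊗ₜ[A] RIo.dh k A _) = 0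
        rw [LinearMap.baseChange_tmul, hℓt, TensorProduct.tmul_zero]
      rw [hspan, top_le_iff] at h1
      exact LinearMap.ker_eq_top.mp h1
    constructor
    intro a b
    obtain ⟨a', rfl⟩ := hbc a
    obtain ⟨b', rfl⟩ := hbc b
    rw [hzero]
    rfl
  have hnot : (⟨P, inferInstance⟩ : PrimeSpectrum A) ∉
      Module.support A (Ω[A⁄MvPowerSeries (Fin m) k]) := by
    rw [Module.mem_support_iff_nontrivial_residueField_tensorProduct]
    exact not_nontrivial_iff_subsingleton.mpr hsub
  have hmem : (⟨P, inferInstance⟩ : PrimeSpectrum A) ∈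
      Algebra.unramifiedLocus (MvPowerSeries (Fin m) k) A := by
    rw [Algebra.unramifiedLocus_eq_compl_support]
    exact hnot
  exact hmem

theorem exists_alg_of_params (m : ℕ) (t : Fin m → A)
    (hmin : maximalIdeal A ∈ (Ideal.span (Set.range t)).minimalPrimes) :
    ∃ (_ : Algebra (MvPowerSeries (Fin m) k) A) (_ : IsScalarTower k (MvPowerSeries (Fin m) k) A),
      IsLocalHom (algebraMap (MvPowerSeries (Fin m) k) A) ∧
        Module.Finite (MvPowerSeries (Fin m) k) A ∧
          ∀ i, algebraMap (MvPowerSeries (Fin m) k) A (MvPowerSeries.X i) = t i := by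
  have htm : ∀ i, t i ∈ maximalIdeal A := fun i => hmin.1.2 (Ideal.subset_span ⟨i, rfl⟩)
  obtain ⟨ψ, hψ⟩ := Groth.Agent.Lib.Helper26.PowerSeriesRLR.exists_algHom k t htm
  have hψt : (fun i => ψ (MvPowerSeries.X i)) = t := funext hψ
  have hmin' : maximalIdeal A ∈
      (Ideal.span (Set.range fun i => ψ (MvPowerSeries.X i))).minimalPrimes := by
    rw [hψt]; exact hmin
  obtain ⟨hloc, hfinite⟩ := Groth.Agent.Lib.Helper26.CompleteFinite.finite_of_primary ψ hmin'
  exact ⟨ψ.toRingHom.toAlgebra, @IsScalarTower.of_algebraMap_eq _ _ _ _ _ _ _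
    ψ.toRingHom.toAlgebra _ (fun c => (ψ.commutes c).symm), hloc, hfinite, hψ⟩

theorem exists_unramified (P : Ideal A) [P.IsPrime] (hP : P ≠ maximalIdeal A)
    (hq : ∃ q ∈ minimalPrimes A, q ≤ P ∧ ringKrullDim (A ⧸ q) = ringKrullDim A) (m : ℕ)
    (hgen : ∃ s : Fin m → LocalizedModule P.primeCompl Ωh,
      Submodule.span (Localization.AtPrime P) (Set.range s) = ⊤) :
    ∃ (_ : Algebra (MvPowerSeries (Fin m) k) A) (_ : IsScalarTower k (MvPowerSeries (Fin m) k) A),
      IsLocalHom (algebraMap (MvPowerSeries (Fin m) k) A) ∧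
        Module.Finite (MvPowerSeries (Fin m) k) A ∧
          Algebra.IsUnramifiedAt (MvPowerSeries (Fin m) k) P := by
  have hfin := finrank_le k A P m hgen
  obtain ⟨t, htmin, htspan⟩ := exists_params k A P hP hq m hfin
  obtain ⟨alg, tower, hloc, hfinite, hX⟩ := exists_alg_of_params k A m t htmin
  refine ⟨alg, tower, hloc, hfinite, ?_⟩
  have h1 : (fun i : Fin m => RIo.δ k A P (algebraMap (MvPowerSeries (Fin m) k) A
      (MvPowerSeries.X i))) = fun i => RIo.δ k A P (t i) := by
    funext i
    rw [hX]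
  exact unramified_of_span k A m P (by rw [h1]; exact htspan)

end

end Groth.Agent.Lib.Helper21.RIp
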