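/-
Helper21 library (RIq): finite maps from a power series ring `k[[T_1..T_n]]` to a complete
Noetherian local `k`-algebra `A` of dimension `n`: unramified at a prime `P` (on a component of
dimension `n`) implies `A_P` regular and étale at `P`; étale at `P` implies `A_P` regular; freeness
of the localized completed module of differentials.
-/
import Mathlib
import Groth.Agent.Lib.Helper21.RIp
import Groth.Agent.Lib.Helper21.CohenStructD
import Groth.Agent.Lib.Helper26.RegularRing
import Groth.Agent.Lib.Helper26.RegularNormal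
import Groth.Agent.Lib.Helper26.RegularSch
import Groth.Agent.Lib.Helper26.CompleteFinite
import Groth.Agent.Lib.Helper9.RegLocal
import Groth.Agent.Lib.Helper4.Kunz
import Groth.Agent.Lib.Helper14.EtaleAtFlat
import Groth.Agent.Lib.Helper22.EtaleDim7

set_option autoImplicit false
set_option maxHeartbeats 1600000
set_option linter.style.haveILetI false
set_option linter.unusedSectionVars false

namespace Groth.Agent.Lib.Helper21.RIq

open IsLocalRing TensorProduct

universe u

theorem height_map_mk_le {A : Type*} [CommRing A] (q P : Ideal A) [P.IsPrime] (hqP : q ≤ P) :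
    (P.map (Ideal.Quotient.mk q)).height ≤ P.height := by
  have hcomap : (P.map (Ideal.Quotient.mk q)).comap (Ideal.Quotient.mk q) = P := by
    rw [Ideal.comap_map_of_surjective _ Ideal.Quotient.mk_surjective, ← RingHom.ker_eq_comap_bot,
      Ideal.mk_ker]
    exact sup_eq_left.mpr hqP
  haveI hP' : (P.map (Ideal.Quotient.mk q)).IsPrime := by
    apply Ideal.map_isPrime_of_surjective Ideal.Quotient.mk_surjective
    rw [Ideal.mk_ker]
    exact hqP
  have hsm : StrictMono (PrimeSpectrum.comap (Ideal.Quotient.mk q)) :=
    Monotone.strictMono_of_injective (fun x y hxy => Ideal.comap_mono hxy)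
      (PrimeSpectrum.comap_injective_of_surjective _ Ideal.Quotient.mk_surjective)
  have h1 := Order.height_le_height_apply_of_strictMono _ hsm
    (⟨P.map (Ideal.Quotient.mk q), hP'⟩ : PrimeSpectrum (A ⧸ q))
  rw [← PrimeSpectrum.height_eq_orderHeight, ← PrimeSpectrum.height_eq_orderHeight] at h1
  have h2 : (PrimeSpectrum.comap (Ideal.Quotient.mk q)
      ⟨P.map (Ideal.Quotient.mk q), hP'⟩).asIdeal = P := hcomap
  rw [h2] at h1
  exact h1

theorem spanFinrank_map_le {R S : Type*} [CommRing R] [CommRing S] (f : R →+* S) (I : Ideal R)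
    (hI : I.FG) : (I.map f).spanFinrank ≤ I.spanFinrank := by
  classical
  obtain ⟨s, hs, hsI⟩ := Submodule.FG.exists_span_finset_card_eq_spanFinrank hI
  have h1 : I.map f = Ideal.span (f '' (s : Set R)) := by
    rw [← Ideal.map_span]
    congr 1
    exact hsI.symm
  rw [h1, ← hs]
  have h2 := Submodule.spanFinrank_span_le_ncard_of_finite (R := S) (s := f '' (s : Set R))
    ((Finset.finite_toSet s).image f)
  refine h2.trans ?_
  have h3 := Set.ncard_image_le (f := f) (Finset.finite_toSet s)
  rwa [Set.ncard_coe_finset] at h3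

section

variable (k A : Type u) [Field k] [CommRing A] [IsLocalRing A] [IsNoetherianRing A] [Algebra k A]
variable (n : ℕ) [Algebra (MvPowerSeries (Fin n) k) A]
  [IsScalarTower k (MvPowerSeries (Fin n) k) A] [Module.Finite (MvPowerSeries (Fin n) k) A]

local notation "A₀" => MvPowerSeries (Fin n) k

theorem height_under_le (P : Ideal A) [P.IsPrime] (q : Ideal A) (hq : q ∈ minimalPrimes A)
    (hqP : q ≤ P) (hdim : ringKrullDim (A ⧸ q) = n) :
    (P.under A₀).height ≤ P.height := by
  haveI hqprime : q.IsPrime := hq.1.1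
  haveI : IsRegularLocalRing A₀ :=
    Groth.Agent.Lib.Helper21.CohenStruct.isRegularLocalRing_mvPowerSeries k n
  haveI : IsIntegrallyClosed A₀ :=
    Groth.Agent.Lib.Helper26.RegularNormal.isIntegrallyClosed_of_isRegularLocalRing A₀
  haveI : IsDomain (A ⧸ q) := Ideal.Quotient.isDomain q
  haveI : Module.Finite A₀ (A ⧸ q) :=
    Module.Finite.of_surjective (Ideal.Quotient.mkₐ A₀ q).toLinearMap
      (Ideal.Quotient.mkₐ_surjective A₀ q)
  haveI : Algebra.IsIntegral A₀ (A ⧸ q) := Algebra.IsIntegral.of_finite _ _
  have hinj : Function.Injective (algebraMap A₀ (A ⧸ q)) :=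
    Groth.Agent.Lib.Helper26.CompleteFinite.injective_of_isIntegral_of_le_ringKrullDim k n
      (algebraMap A₀ (A ⧸ q)) (algebraMap_isIntegral_iff.mpr inferInstance) (by rw [hdim])
  haveI : FaithfulSMul A₀ (A ⧸ q) := (faithfulSMul_iff_algebraMap_injective _ _).mpr hinj
  haveI : Algebra.HasGoingDown A₀ (A ⧸ q) := inferInstance
  haveI hP' : (P.map (Ideal.Quotient.mk q)).IsPrime := by
    apply Ideal.map_isPrime_of_surjective Ideal.Quotient.mk_surjective
    rw [Ideal.mk_ker]
    exact hqP
  have hcomap : (P.map (Ideal.Quotient.mk q)).comap (Ideal.Quotient.mk q) = P := by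
    rw [Ideal.comap_map_of_surjective _ Ideal.Quotient.mk_surjective, ← RingHom.ker_eq_comap_bot,
      Ideal.mk_ker]
    exact sup_eq_left.mpr hqP
  have hunder : (P.map (Ideal.Quotient.mk q)).under A₀ = P.under A₀ := by
    rw [Ideal.under_def, Ideal.under_def, IsScalarTower.algebraMap_eq A₀ A (A ⧸ q),
      ← Ideal.comap_comap, Ideal.Quotient.algebraMap_eq, hcomap]
  haveI : (P.map (Ideal.Quotient.mk q)).LiesOver (P.under A₀) := ⟨hunder.symm⟩
  have h1 := Ideal.height_eq_height_add_of_liesOver_of_hasGoingDown (P.under A₀)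
    (P.map (Ideal.Quotient.mk q))
  calc (P.under A₀).height ≤ (P.map (Ideal.Quotient.mk q)).height := by
        rw [h1]; exact le_self_add
    _ ≤ P.height := height_map_mk_le q P hqP

theorem isEtaleAt_of_unramified (P : Ideal A) [P.IsPrime] (q : Ideal A)
    (hq : q ∈ minimalPrimes A) (hqP : q ≤ P) (hdim : ringKrullDim (A ⧸ q) = n)
    (hunr : Algebra.IsUnramifiedAt A₀ P) :
    IsRegularLocalRing (Localization.AtPrime P) ∧ Algebra.IsEtaleAt A₀ P := by
  haveI : IsRegularLocalRing A₀ :=
    Groth.Agent.Lib.Helper21.CohenStruct.isRegularLocalRing_mvPowerSeries k n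
  haveI : IsNoetherianRing A₀ := inferInstance
  haveI : Algebra.FinitePresentation A₀ A :=
    Algebra.FinitePresentation.of_finiteType.mp inferInstance
  letI := Localization.AtPrime.algebraOfLiesOver (P.under A₀) P
  haveI hRreg : IsRegularLocalRing (Localization.AtPrime (P.under A₀)) :=
    Groth.Agent.Lib.Helper26.RegularRing.isRegularLocalRing_localization_atPrime A₀ (P.under A₀)
  haveI : Algebra.FormallyUnramified A₀ (Localization.AtPrime P) := hunr
  haveI : Algebra.FormallyUnramified (Localization.AtPrime (P.under A₀))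
      (Localization.AtPrime P) := .of_restrictScalars A₀ _ _
  haveI : Algebra.EssFiniteType A₀ (Localization.AtPrime P) :=
    Algebra.EssFiniteType.comp A₀ A _
  haveI : Algebra.EssFiniteType (Localization.AtPrime (P.under A₀))
      (Localization.AtPrime P) := .of_comp A₀ _ _
  have hmax : (maximalIdeal (Localization.AtPrime (P.under A₀))).map
      (algebraMap _ (Localization.AtPrime P)) = maximalIdeal (Localization.AtPrime P) :=
    Algebra.FormallyUnramified.map_maximalIdeal
  have hht := height_under_le k A n P q hq hqP hdim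
  have hdimR : ringKrullDim (Localization.AtPrime (P.under A₀)) = (P.under A₀).height :=
    IsLocalization.AtPrime.ringKrullDim_eq_height _ _
  have hdimS : ringKrullDim (Localization.AtPrime P) = P.height :=
    IsLocalization.AtPrime.ringKrullDim_eq_height _ _
  have hsf : (maximalIdeal (Localization.AtPrime P)).spanFinrank ≤
      (maximalIdeal (Localization.AtPrime (P.under A₀))).spanFinrank := by
    rw [← hmax]
    exact spanFinrank_map_le _ _ (IsNoetherian.noetherian _)
  have hRsf : ((maximalIdeal (Localization.AtPrime (P.under A₀))).spanFinrank : WithBot ℕ∞) =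
      ringKrullDim (Localization.AtPrime (P.under A₀)) :=
    IsRegularLocalRing.spanFinrank_maximalIdeal
  have hht' : (((P.under A₀).height : ℕ∞) : WithBot ℕ∞) ≤ ((P.height : ℕ∞) : WithBot ℕ∞) :=
    WithBot.coe_le_coe.mpr hht
  have hsf' : ((maximalIdeal (Localization.AtPrime P)).spanFinrank : WithBot ℕ∞) ≤
      ((maximalIdeal (Localization.AtPrime (P.under A₀))).spanFinrank : WithBot ℕ∞) := by
    exact_mod_cast hsf
  have hle : ((maximalIdeal (Localization.AtPrime P)).spanFinrank : WithBot ℕ∞) ≤
      ringKrullDim (Localization.AtPrime P) := by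
    rw [hdimS]
    refine hsf'.trans ?_
    rw [hRsf, hdimR]
    exact hht'
  haveI hSreg : IsRegularLocalRing (Localization.AtPrime P) :=
    IsRegularLocalRing.of_spanFinrank_maximalIdeal_le _ hle
  have hdimeq : ringKrullDim (Localization.AtPrime P) =
      ringKrullDim (Localization.AtPrime (P.under A₀)) := by
    apply le_antisymm
    · refine (ringKrullDim_le_spanFinrank_maximalIdeal _).trans ?_
      rw [← hRsf]
      exact hsf'
    · rw [hdimR, hdimS]
      exact hht'
  have hflat : (algebraMap (Localization.AtPrime (P.under A₀)) (Localization.AtPrime P)).Flat :=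
    Groth.Agent.Lib.Helper4.Kunz.flat_of_regular _ hdimeq (by rw [hmax]; exact Ideal.le_radical)
  haveI : Module.Flat (Localization.AtPrime (P.under A₀)) (Localization.AtPrime P) :=
    RingHom.flat_algebraMap_iff.mp hflat
  exact ⟨hSreg, Groth.Agent.Lib.Helper14.isEtaleAt_of_flat_of_isUnramifiedAt (P.under A₀) P⟩

theorem isRegularLocalRing_of_isEtaleAt (P : Ideal A) [P.IsPrime]
    (h : Algebra.IsEtaleAt A₀ P) : IsRegularLocalRing (Localization.AtPrime P) := by
  haveI : IsRegularLocalRing A₀ :=
    Groth.Agent.Lib.Helper21.CohenStruct.isRegularLocalRing_mvPowerSeries k n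
  haveI : IsRegularRing A₀ :=
    Groth.Agent.Lib.Helper26.RegularRing.isRegularRing_of_isRegularLocalRing A₀
  haveI : IsNoetherianRing A₀ := inferInstance
  haveI : Algebra.FinitePresentation A₀ A :=
    Algebra.FinitePresentation.of_finiteType.mp inferInstance
  haveI := h
  obtain ⟨g, hgp, hEt⟩ := Algebra.exists_etale_of_isEtaleAt (R := A₀) P
  have hdisj : Disjoint ((Submonoid.powers g : Submonoid A) : Set A) (P : Set A) := by
    rw [Set.disjoint_left]
    rintro _ ⟨m, rfl⟩ hm
    exact hgp (‹P.IsPrime›.mem_of_pow_mem m hm)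
  obtain ⟨Q, hQdef⟩ : ∃ Q : Ideal (Localization.Away g),
      Q = Ideal.map (algebraMap A (Localization.Away g)) P := ⟨_, rfl⟩
  haveI hQ : Q.IsPrime := by
    rw [hQdef]
    exact IsLocalization.isPrime_of_isPrime_disjoint (Submonoid.powers g) _ P ‹_› hdisj
  have hQcomap : Q.comap (algebraMap A (Localization.Away g)) = P := by
    rw [hQdef]
    exact IsLocalization.under_map_of_isPrime_disjoint (Submonoid.powers g) _ ‹_› hdisj
  haveI := Groth.Agent.Lib.Helper26.RegularSch.isRegularLocalRing_atPrime_of_etale A₀
    (Localization.Away g) Q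
  haveI : IsLocalization.AtPrime (Localization.AtPrime Q) P :=
    Groth.Agent.Lib.Helper22.EtaleDim.isLocalization_atPrime_of_comap g Q P hQcomap
  exact IsRegularLocalRing.of_ringEquiv
    (IsLocalization.algEquiv P.primeCompl (Localization.AtPrime Q)
      (Localization.AtPrime P)).toRingEquiv

end

section

variable (k A : Type u) [Field k] [CommRing A] [IsLocalRing A] [IsNoetherianRing A] [Algebra k A]
  [IsAdicComplete (maximalIdeal A) A] [Module.Finite k (ResidueField A)]

local notation "Ωh" => AdicCompletion (maximalIdeal A) (Ω[A⁄k])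

theorem free_of_span (P : Ideal A) [P.IsPrime] [IsDomain (Localization.AtPrime P)]
    (q : Ideal A) (hq : q ∈ minimalPrimes A) (hqP : q ≤ P) (n : ℕ)
    (hdim : ringKrullDim (A ⧸ q) = n) (x : Fin n → Ωh)
    (hsp : Submodule.span (Localization.AtPrime P)
      (Set.range fun i => LocalizedModule.mk (x i) (1 : P.primeCompl)) = ⊤) :
    Module.Free (Localization.AtPrime P) (LocalizedModule P.primeCompl Ωh) ∧
      Module.finrank (Localization.AtPrime P) (LocalizedModule P.primeCompl Ωh) = n := by
  classical
  haveI : Module.Finite A Ωh := RIo.finite_Ωh k A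
  haveI hqprime : q.IsPrime := hq.1.1
  have hall := RIo.exists_smul_mem_of_span_eq_top P.primeCompl x hsp
  have hK : ∀ v ∈ P.primeCompl, algebraMap A q.ResidueField v ≠ 0 := by
    intro v hv h0
    rw [Ideal.algebraMap_residueField_eq_zero] at h0
    exact hv (hqP h0)
  have hspK := RIo.span_one_tmul_eq_top P.primeCompl x q.ResidueField hK hall
  have hrank : n ≤ Module.finrank q.ResidueField (q.ResidueField ⊗[A] Ωh) := by
    have h1 := RIk.main k A q q hq le_rfl
    rw [hdim, ← Module.finrank_eq_rank, Cardinal.toENat_nat] at h1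
    exact_mod_cast h1
  have hliK : LinearIndependent q.ResidueField (fun i => (1 : q.ResidueField) ⊗ₜ[A] x i) :=
    linearIndependent_of_top_le_span_of_card_le_finrank hspK.ge
      (by rw [Fintype.card_fin]; exact hrank)
  have hker : ∀ a : A, algebraMap A q.ResidueField a = 0 →
      algebraMap A (Localization.AtPrime P) a = 0 := by
    intro a ha
    rw [Ideal.algebraMap_residueField_eq_zero] at ha
    have hq'prime : (RingHom.ker (algebraMap A (Localization.AtPrime P))).IsPrime :=
      RingHom.ker_isPrime _
    have hq'le : RingHom.ker (algebraMap A (Localization.AtPrime P)) ≤ q := by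
      intro b hb
      rw [RingHom.mem_ker, IsLocalization.map_eq_zero_iff P.primeCompl] at hb
      obtain ⟨v, hv⟩ := hb
      have h2 : (v : A) * b ∈ q := by rw [hv]; exact q.zero_mem
      exact (hqprime.mem_or_mem h2).resolve_left (fun h3 => v.2 (hqP h3))
    have hle : q ≤ RingHom.ker (algebraMap A (Localization.AtPrime P)) :=
      hq.2 ⟨hq'prime, bot_le⟩ hq'le
    exact hle ha
  have hli := RIo.linearIndependent_mk P.primeCompl x q.ResidueField hK hker hliK
  let b := Module.Basis.mk hli hsp.ge
  exact ⟨Module.Free.of_basis b, by rw [Module.finrank_eq_card_basis b, Fintype.card_fin]⟩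

end

end Groth.Agent.Lib.Helper21.RIq
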