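/-
Helper21 library (RIr): `k' ⊗_k k[[T_1..T_n]]` is a regular local ring for a finite extension
`k'/k`; geometric regularity of `A_P` over `k` when `A` is finite over `k[[T]]` and étale at `P`.
-/
import Mathlib
import Groth.Agent.Lib.Helper21.RIq
import Groth.Agent.Lib.Helper14.GeomRegularSep
import Groth.Agent.Lib.Helper12.IntegralDim
import Groth.Prelude.Def_Found

set_option autoImplicit false
set_option maxHeartbeats 1600000
set_option linter.style.haveILetI false
set_option linter.unusedSectionVars false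

namespace Groth.Agent.Lib.Helper21.RIr

open IsLocalRing TensorProduct

universe u

section PS

variable (k k' : Type u) [Field k] [Field k'] [Algebra k k'] (n : ℕ)

local notation "A₀" => MvPowerSeries (Fin n) k
local notation "B₀" => (MvPowerSeries (Fin n) k) ⊗[k] k'

/-- constant coefficient as an algebra map -/
noncomputable def ccAlg : A₀ →ₐ[k] k :=
  { (MvPowerSeries.constantCoeff : A₀ →+* k) with
    commutes' := fun c => by
      show MvPowerSeries.constantCoeff (algebraMap k A₀ c) = c
      rw [MvPowerSeries.algebraMap_apply, MvPowerSeries.constantCoeff_C]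
      rfl }

theorem ccAlg_apply (a : A₀) : ccAlg k n a = MvPowerSeries.constantCoeff a := rfl

/-- the augmentation `k[[T]] ⊗ k' → k'` -/
noncomputable def π : B₀ →ₐ[k] k' :=
  Algebra.TensorProduct.productMap ((Algebra.ofId k k').comp (ccAlg k n)) (AlgHom.id k k')

theorem π_tmul (a : A₀) (c : k') :
    π k k' n (a ⊗ₜ[k] c) = algebraMap k k' (MvPowerSeries.constantCoeff a) * c := by
  unfold π
  rw [Algebra.TensorProduct.productMap_apply_tmul]
  rfl

open Groth.Agent.Lib.Helper1 in
theorem sub_mem_map (z : B₀) :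
    z - (1 : A₀) ⊗ₜ[k] (π k k' n z) ∈ (maximalIdeal A₀).map (algebraMap A₀ B₀) := by
  induction z using TensorProduct.induction_on with
  | zero => simp
  | tmul a c =>
    have hAM : algebraMap A₀ B₀ (a - MvPowerSeries.C (MvPowerSeries.constantCoeff a)) =
        (a - MvPowerSeries.C (MvPowerSeries.constantCoeff a)) ⊗ₜ[k] (1 : k') := rfl
    have h2 : (1 : A₀) ⊗ₜ[k] (π k k' n (a ⊗ₜ[k] c)) =
        (MvPowerSeries.C (MvPowerSeries.constantCoeff a) : A₀) ⊗ₜ[k] c := by
      rw [π_tmul, ← Algebra.smul_def, TensorProduct.tmul_smul, TensorProduct.smul_tmul']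
      congr 1
      rw [Algebra.smul_def, mul_one, MvPowerSeries.algebraMap_apply]
      rfl
    have h1 : a ⊗ₜ[k] c - (1 : A₀) ⊗ₜ[k] (π k k' n (a ⊗ₜ[k] c)) =
        algebraMap A₀ B₀ (a - MvPowerSeries.C (MvPowerSeries.constantCoeff a)) *
          ((1 : A₀) ⊗ₜ[k] c) := by
      rw [hAM, Algebra.TensorProduct.tmul_mul_tmul, mul_one, one_mul, TensorProduct.sub_tmul, h2]
    rw [h1]
    apply Ideal.mul_mem_right
    apply Ideal.mem_map_of_mem
    rw [PSOmega.maximalIdeal_eq_ker, RingHom.mem_ker, map_sub, MvPowerSeries.constantCoeff_C,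
      sub_self]
  | add x y hx hy =>
    have h3 : x + y - (1 : A₀) ⊗ₜ[k] (π k k' n (x + y)) =
        (x - (1 : A₀) ⊗ₜ[k] (π k k' n x)) + (y - (1 : A₀) ⊗ₜ[k] (π k k' n y)) := by
      rw [map_add, TensorProduct.tmul_add]
      abel
    rw [h3]
    exact Ideal.add_mem _ hx hy

theorem isRegularLocalRing_tensor [Module.Finite k k'] : IsRegularLocalRing B₀ := by
  haveI : IsRegularLocalRing A₀ :=
    Groth.Agent.Lib.Helper21.CohenStruct.isRegularLocalRing_mvPowerSeries k n
  haveI : IsNoetherianRing A₀ := inferInstance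
  haveI : Module.Finite A₀ B₀ := inferInstance
  haveI : IsNoetherianRing B₀ := IsNoetherianRing.of_finite A₀ B₀
  haveI : Algebra.IsIntegral A₀ B₀ := Algebra.IsIntegral.of_finite _ _
  have hπs : Function.Surjective (π k k' n) := by
    intro c
    refine ⟨(1 : A₀) ⊗ₜ[k] c, ?_⟩
    rw [π_tmul, map_one, map_one, one_mul]
  haveI : Nontrivial B₀ := (π k k' n).toRingHom.domain_nontrivial
  haveI : Module.Free A₀ B₀ := inferInstance
  have hinj : Function.Injective (algebraMap A₀ B₀) := FaithfulSMul.algebraMap_injective A₀ B₀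
  obtain ⟨J, hJ⟩ : ∃ J : Ideal B₀, J = (maximalIdeal A₀).map (algebraMap A₀ B₀) := ⟨_, rfl⟩
  have hM₀max : (RingHom.ker (π k k' n).toRingHom).IsMaximal :=
    RingHom.ker_isMaximal_of_surjective _ hπs
  have hM₀J : RingHom.ker (π k k' n).toRingHom ≤ J := by
    intro z hz
    have h1 := sub_mem_map k k' n z
    have h2 : π k k' n z = 0 := hz
    rw [h2, TensorProduct.tmul_zero, sub_zero] at h1
    rw [hJ]
    exact h1
  have hJle : ∀ M : Ideal B₀, M.IsMaximal → J ≤ M := by
    intro M hM
    haveI := hM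
    have h1 : (M.comap (algebraMap A₀ B₀)).IsMaximal :=
      Ideal.isMaximal_comap_of_isIntegral_of_isMaximal M
    have h2 : M.comap (algebraMap A₀ B₀) = maximalIdeal A₀ := IsLocalRing.eq_maximalIdeal h1
    rw [hJ, Ideal.map_le_iff_le_comap, h2]
  haveI : IsLocalRing B₀ := IsLocalRing.of_unique_max_ideal
    ⟨RingHom.ker (π k k' n).toRingHom, hM₀max, fun M hM =>
      (hM₀max.eq_of_le hM.ne_top (hM₀J.trans (hJle M hM))).symm⟩
  have hk : RingHom.ker (π k k' n).toRingHom = maximalIdeal B₀ :=
    IsLocalRing.eq_maximalIdeal hM₀max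
  have hmaxeq : maximalIdeal B₀ = J :=
    le_antisymm (hk ▸ hM₀J) (hJle _ (maximalIdeal.isMaximal B₀))
  apply IsRegularLocalRing.of_spanFinrank_maximalIdeal_le
  rw [hmaxeq, hJ]
  have h3 := RIq.spanFinrank_map_le (algebraMap A₀ B₀) (maximalIdeal A₀)
    (IsNoetherian.noetherian _)
  have h4 : ((maximalIdeal A₀).spanFinrank : WithBot ℕ∞) = ringKrullDim A₀ :=
    IsRegularLocalRing.spanFinrank_maximalIdeal
  have h5 : ringKrullDim A₀ ≤ ringKrullDim B₀ :=
    Groth.Agent.Lib.Helper12.ringKrullDim_le_of_isIntegral_of_injective hinj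
  have h6 : ((((maximalIdeal A₀).map (algebraMap A₀ B₀)).spanFinrank : ℕ) : WithBot ℕ∞) ≤
      ((maximalIdeal A₀).spanFinrank : WithBot ℕ∞) := by
    exact_mod_cast h3
  exact h6.trans (h4.le.trans h5)

end PS

theorem isRegularRing_tensor_of_isLocalization (k : Type u) [Field k] (k' : Type u) [CommRing k']
    [Algebra k k'] (C : Type u) [CommRing C] [Algebra k C] (M : Submonoid C) (B : Type u)
    [CommRing B] [Algebra k B] [Algebra C B] [IsScalarTower k C B] [IsLocalization M B]
    [IsRegularRing (k' ⊗[k] C)] : IsRegularRing (k' ⊗[k] B) := by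
  letI alg : Algebra (k' ⊗[k] C) (k' ⊗[k] B) :=
    (Algebra.TensorProduct.map (AlgHom.id k k') (IsScalarTower.toAlgHom k C B)).toRingHom.toAlgebra
  have halg : ∀ z, algebraMap (k' ⊗[k] C) (k' ⊗[k] B) z =
      Algebra.TensorProduct.map (AlgHom.id k k') (IsScalarTower.toAlgHom k C B) z := fun z => rfl
  haveI : IsScalarTower k' (k' ⊗[k] C) (k' ⊗[k] B) := IsScalarTower.of_algebraMap_eq (fun x => by
    rw [halg, Algebra.TensorProduct.algebraMap_apply, Algebra.TensorProduct.algebraMap_apply,
      Algebra.TensorProduct.map_tmul, map_one]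
    rfl)
  have H : (algebraMap (k' ⊗[k] C) (k' ⊗[k] B)).comp
      (Algebra.TensorProduct.includeRight (R := k) (A := k') (B := C)).toRingHom =
      (Algebra.TensorProduct.includeRight (R := k) (A := k') (B := B)).toRingHom.comp
        (algebraMap C B) := by
    ext c
    show algebraMap (k' ⊗[k] C) (k' ⊗[k] B) ((1 : k') ⊗ₜ[k] c) = (1 : k') ⊗ₜ[k] (algebraMap C B c)
    rw [halg, Algebra.TensorProduct.map_tmul, map_one]
    rfl
  haveI := IsLocalization.tensorProduct_tensorProduct_right k k' M B H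
  exact Groth.Agent.Lib.Helper14.GeomRegularSep.isRegularRing_of_isLocalization
    (M.map (Algebra.TensorProduct.includeRight (R := k) (A := k'))) (k' ⊗[k] B)

section Main

variable (k A : Type u) [Field k] [CommRing A] [IsLocalRing A] [IsNoetherianRing A] [Algebra k A]
variable (n : ℕ) [Algebra (MvPowerSeries (Fin n) k) A]
  [IsScalarTower k (MvPowerSeries (Fin n) k) A] [Module.Finite (MvPowerSeries (Fin n) k) A]

local notation "A₀" => MvPowerSeries (Fin n) k

theorem isRegularRing_of_etale_aux (R S : Type u) [CommRing R] [CommRing S] [Algebra R S]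
    [Algebra.Etale R S] [IsRegularRing R] : IsRegularRing S := by
  haveI : IsNoetherianRing S := Algebra.FiniteType.isNoetherianRing R S
  exact isRegularRing_iff.mpr fun q _ =>
    Groth.Agent.Lib.Helper26.RegularSch.isRegularLocalRing_atPrime_of_etale R S q

theorem isRegularRing_tensor_away (k' : Type u) [Field k'] [Algebra k k'] [Module.Finite k k']
    (g : A) [Algebra.Etale A₀ (Localization.Away g)] :
    IsRegularRing (k' ⊗[k] Localization.Away g) := by
  haveI : IsRegularLocalRing (A₀ ⊗[k] k') := isRegularLocalRing_tensor k k' n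
  haveI : IsRegularRing (A₀ ⊗[k] k') :=
    Groth.Agent.Lib.Helper26.RegularRing.isRegularRing_of_isRegularLocalRing _
  haveI : Algebra.Etale (A₀ ⊗[k] k') ((A₀ ⊗[k] k') ⊗[A₀] (Localization.Away g)) := inferInstance
  haveI : IsRegularRing ((A₀ ⊗[k] k') ⊗[A₀] (Localization.Away g)) :=
    isRegularRing_of_etale_aux (A₀ ⊗[k] k') ((A₀ ⊗[k] k') ⊗[A₀] (Localization.Away g))
  let e1 : (A₀ ⊗[k] k') ⊗[A₀] (Localization.Away g) ≃ₐ[A₀]
      (Localization.Away g) ⊗[A₀] (A₀ ⊗[k] k') :=
    Algebra.TensorProduct.comm A₀ (A₀ ⊗[k] k') (Localization.Away g)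
  let e2 : (Localization.Away g) ⊗[A₀] (A₀ ⊗[k] k') ≃ₐ[A₀] (Localization.Away g) ⊗[k] k' :=
    Algebra.TensorProduct.cancelBaseChange k A₀ A₀ (Localization.Away g) k'
  let e3 : (Localization.Away g) ⊗[k] k' ≃ₐ[k] k' ⊗[k] (Localization.Away g) :=
    Algebra.TensorProduct.comm k (Localization.Away g) k'
  exact IsRegularRing.of_ringEquiv (R := (A₀ ⊗[k] k') ⊗[A₀] (Localization.Away g))
    (e1.toRingEquiv.trans (e2.toRingEquiv.trans e3.toRingEquiv))

theorem isGeometricallyRegular_of_isEtaleAt (P : Ideal A) [P.IsPrime]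
    (h : Algebra.IsEtaleAt A₀ P) : CAlg.IsGeometricallyRegular k (Localization.AtPrime P) := by
  intro k' _ _ hfin
  haveI := hfin
  haveI : IsRegularLocalRing A₀ :=
    Groth.Agent.Lib.Helper21.CohenStruct.isRegularLocalRing_mvPowerSeries k n
  haveI : IsNoetherianRing A₀ := inferInstance
  haveI : Algebra.FinitePresentation A₀ A :=
    Algebra.FinitePresentation.of_finiteType.mp inferInstance
  haveI := h
  obtain ⟨g, hgp, hEt⟩ := Algebra.exists_etale_of_isEtaleAt (R := A₀) P
  haveI := hEt
  have hdisj : Disjoint ((Submonoid.powers g : Submonoid A) : Set A) (P : Set A) := by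
    rw [Set.disjoint_left]
    rintro _ ⟨m, rfl⟩ hm
    exact hgp (‹P.IsPrime›.mem_of_pow_mem m hm)
  obtain ⟨Q, hQdef⟩ : ∃ Q : Ideal (Localization.Away g),
      Q = Ideal.map (algebraMap A (Localization.Away g)) P := ⟨_, rfl⟩
  haveI hQ : Q.IsPrime := by
    rw [hQdef]
    exact IsLocalization.isPrime_of_isPrime_disjoint (Submonoid.powers g) _ P ‹_› hdisj
  have hQcomap : Q.comap (algebraMap A (Localization.Away g)) = P := by
    rw [hQdef]
    exact IsLocalization.under_map_of_isPrime_disjoint (Submonoid.powers g) _ ‹_› hdisj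
  haveI : IsRegularRing (k' ⊗[k] Localization.Away g) := isRegularRing_tensor_away k A n k' g
  haveI : IsRegularRing (k' ⊗[k] Localization.AtPrime Q) :=
    isRegularRing_tensor_of_isLocalization k k' (Localization.Away g) Q.primeCompl
      (Localization.AtPrime Q)
  haveI : IsLocalization.AtPrime (Localization.AtPrime Q) P :=
    Groth.Agent.Lib.Helper22.EtaleDim.isLocalization_atPrime_of_comap g Q P hQcomap
  let e : Localization.AtPrime Q ≃ₐ[A] Localization.AtPrime P :=
    IsLocalization.algEquiv P.primeCompl _ _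
  exact IsRegularRing.of_ringEquiv (R := k' ⊗[k] Localization.AtPrime Q)
    (Algebra.TensorProduct.congr (AlgEquiv.refl : k' ≃ₐ[k] k') (e.restrictScalars k)).toRingEquiv

end Main

end Groth.Agent.Lib.Helper21.RIr
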