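import Mathlib
import Groth.Agent.Lib.Helper21.RIk
import Groth.Agent.Lib.Helper26.CompleteFinite

/-!
# Helper library (helper21): Frobenius-finiteness of complete local rings

`FM φ` is the ring `A` regarded as a module over itself through the endomorphism `φ`.
If `φ a = a ^ p`, `A` is a complete noetherian local `k`-algebra with residue field finite
over `k`, and `k` is finite over `k ^ p`, then `FM φ` is a finite `A`-module.  Consequently the
module of differentials of `A` over any base is finite.
-/

set_option autoImplicit false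
set_option linter.style.haveILetI false

namespace Groth.Agent.Lib.Helper21.RIs

open IsLocalRing TensorProduct

universe u

/-- the ring `A` as a module over itself through `φ` -/
def FM {A : Type u} [CommRing A] (_φ : A →+* A) : Type u := A

namespace FM

variable {A : Type u} [CommRing A] (φ : A →+* A)

instance : AddCommGroup (FM φ) := inferInstanceAs (AddCommGroup A)

noncomputable instance : Module A (FM φ) :=
  letI : Module A (FM φ) := inferInstanceAs (Module A A)
  Module.compHom (FM φ) φ

/-- the identity map into the twisted module -/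
def of (x : A) : FM φ := x

/-- the identity map out of the twisted module -/
def val (x : FM φ) : A := x

theorem val_of (x : A) : val φ (of φ x) = x := rfl

theorem of_val (x : FM φ) : of φ (val φ x) = x := rfl

theorem val_smul (a : A) (x : FM φ) : val φ (a • x) = φ a * val φ x := rfl

theorem val_add (x y : FM φ) : val φ (x + y) = val φ x + val φ y := rfl

theorem val_zero : val φ (0 : FM φ) = 0 := rfl

theorem val_injective : Function.Injective (val φ) := fun _ _ h => h

/-- `val` as an additive map -/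
def valHom : FM φ →+ A where
  toFun := val φ
  map_zero' := rfl
  map_add' _ _ := rfl

theorem valHom_apply (x : FM φ) : valHom φ x = val φ x := rfl

theorem exists_gens [Module.Finite A (FM φ)] :
    ∃ (N : ℕ) (c : Fin N → A), ∀ x : A, ∃ b : Fin N → A, x = ∑ j, φ (b j) * c j := by
  obtain ⟨N, c, hc⟩ := Module.Finite.exists_fin (R := A) (M := FM φ)
  refine ⟨N, fun j => val φ (c j), fun x => ?_⟩
  have hx : of φ x ∈ Submodule.span A (Set.range c) := by rw [hc]; trivial
  obtain ⟨b, hb⟩ := (Submodule.mem_span_range_iff_exists_fun A).mp hx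
  refine ⟨b, ?_⟩
  have h2 : val φ (∑ j, b j • c j) = ∑ j, φ (b j) * val φ (c j) := by
    rw [← valHom_apply, map_sum]
    rfl
  rw [← h2, hb, val_of]

variable (p : ℕ)

theorem isHausdorff (hp : 0 < p) (hφ : ∀ a, φ a = a ^ p) [IsLocalRing A] [IsNoetherianRing A] :
    IsHausdorff (maximalIdeal A) (FM φ) := by
  constructor
  intro x hx
  have hsub : ∀ n : ℕ, ∀ y ∈ (maximalIdeal A ^ n • ⊤ : Submodule A (FM φ)),
      val φ y ∈ maximalIdeal A ^ n := by
    intro n y hy
    refine Submodule.smul_induction_on hy ?_ ?_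
    · intro a ha z _
      rw [val_smul, hφ]
      exact Ideal.mul_mem_right _ _ (Ideal.pow_mem_of_mem _ ha p hp)
    · intro y z hy hz
      rw [val_add]
      exact Ideal.add_mem _ hy hz
  have hx' : val φ x ∈ (⨅ n : ℕ, maximalIdeal A ^ n) := by
    rw [Submodule.mem_iInf]
    intro n
    exact hsub n x ((SModEq.zero).mp (hx n))
  rw [Ideal.iInf_pow_eq_bot_of_isLocalRing _
    (Ideal.IsPrime.ne_top (maximalIdeal.isMaximal A).isPrime)] at hx'
  exact val_injective φ hx'

theorem finite (k : Type u) [Field k] [Algebra k A] [IsLocalRing A] [IsNoetherianRing A]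
    [IsAdicComplete (maximalIdeal A) A] [Module.Finite k (ResidueField A)]
    (hp : 0 < p) (hφ : ∀ a, φ a = a ^ p)
    (N : ℕ) (c : Fin N → k) (hc : ∀ x : k, ∃ b : Fin N → k, x = ∑ j, (b j) ^ p * c j) :
    Module.Finite A (FM φ) := by
  classical
  haveI := isHausdorff φ p hp hφ
  apply Groth.Agent.Lib.Helper26.CompleteFinite.finite_of_isHausdorff_of_fg_quotient
    (maximalIdeal A)
  obtain ⟨Nn, hNn⟩ : ∃ Nn : Submodule A (FM φ), Nn = maximalIdeal A • ⊤ := ⟨_, rfl⟩
  rw [← hNn]
  obtain ⟨J, hJ⟩ : ∃ J : Ideal A, J = (maximalIdeal A).map φ := ⟨_, rfl⟩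
  have hJN : ∀ x ∈ J, ∀ y : A, of φ (y * x) ∈ Nn := by
    intro x hx
    rw [hJ, Ideal.map] at hx
    refine Submodule.span_induction ?_ ?_ ?_ ?_ hx
    · rintro _ ⟨a, ha, rfl⟩ y
      have h1 : of φ (y * φ a) = a • of φ y := by
        apply val_injective
        rw [val_smul, val_of, val_of, mul_comm]
      rw [h1, hNn]
      exact Submodule.smul_mem_smul ha Submodule.mem_top
    · intro y
      rw [mul_zero]
      exact Nn.zero_mem
    · intro x₁ x₂ _ _ h₁ h₂ y
      rw [mul_add]
      exact Nn.add_mem (h₁ y) (h₂ y)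
    · intro r x₁ _ h₁ y
      rw [smul_eq_mul, ← mul_assoc]
      exact h₁ (y * r)
  have hJm : J ≤ maximalIdeal A := by
    rw [hJ, Ideal.map_le_iff_le_comap]
    intro a ha
    rw [Ideal.mem_comap, hφ]
    exact Ideal.pow_mem_of_mem _ ha p hp
  have hJtop : J ≠ ⊤ := by
    intro h
    rw [h] at hJm
    exact (Ideal.IsPrime.ne_top (maximalIdeal.isMaximal A).isPrime) (top_le_iff.mp hJm)
  haveI : Nontrivial (A ⧸ J) := Ideal.Quotient.nontrivial_iff.mpr hJtop
  haveI : IsLocalRing (A ⧸ J) :=
    IsLocalRing.of_surjective' (Ideal.Quotient.mk J) Ideal.Quotient.mk_surjective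
  haveI : Ring.KrullDimLE 0 (A ⧸ J) := by
    rw [Ring.krullDimLE_zero_iff]
    intro Q hQ
    have hQeq : Q = maximalIdeal (A ⧸ J) := by
      apply le_antisymm (IsLocalRing.le_maximalIdeal hQ.ne_top)
      intro x hx
      obtain ⟨a, rfl⟩ := Ideal.Quotient.mk_surjective x
      have ha : a ∈ maximalIdeal A := by
        rw [mem_maximalIdeal, mem_nonunits_iff] at hx ⊢
        intro hu
        exact hx (hu.map _)
      have h1 : (Ideal.Quotient.mk J a) ^ p = 0 := by
        rw [← map_pow, ← hφ, Ideal.Quotient.eq_zero_iff_mem, hJ]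
        exact Ideal.mem_map_of_mem φ ha
      exact hQ.mem_of_pow_mem p (h1 ▸ Q.zero_mem)
    rw [hQeq]
    exact maximalIdeal.isMaximal _
  haveI : IsArtinianRing (A ⧸ J) :=
    isArtinianRing_iff_isNoetherianRing_krullDimLE_zero.mpr ⟨inferInstance, inferInstance⟩
  have hfl : IsFiniteLength (A ⧸ J) (A ⧸ J) := isFiniteLength_iff_isNoetherian_isArtinian.mpr ⟨inferInstance, inferInstance⟩
  haveI : Module.Finite k (ResidueField (A ⧸ J)) :=
    Groth.Agent.Lib.Helper21.RIk.finite_residueField_quotient k A J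
  haveI : Module.Finite k (A ⧸ J) :=
    Groth.Agent.Lib.Helper26.CompleteFinite.finite_of_isFiniteLength k (A ⧸ J) hfl
  obtain ⟨s, mbar, hmbar⟩ := Module.Finite.exists_fin (R := k) (M := A ⧸ J)
  choose m hm using fun l => Ideal.Quotient.mk_surjective (mbar l)
  obtain ⟨G, hG⟩ : ∃ G : Fin s × Fin N → FM φ,
      ∀ lj, G lj = of φ (algebraMap k A (c lj.2) * m lj.1) := ⟨_, fun _ => rfl⟩
  have hmain : ∀ f : FM φ, f ∈ Submodule.span A (Set.range G) ⊔ Nn := by
    intro f
    have h1 : Ideal.Quotient.mk J (val φ f) ∈ Submodule.span k (Set.range mbar) := by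
      rw [hmbar]; trivial
    obtain ⟨lam, hlam⟩ := (Submodule.mem_span_range_iff_exists_fun k).mp h1
    choose b hb using fun l => hc (lam l)
    have he : ∀ l, algebraMap k A (lam l) * m l =
        ∑ j, φ (algebraMap k A (b l j)) * (algebraMap k A (c j) * m l) := by
      intro l
      conv_lhs => rw [hb l]
      rw [map_sum, Finset.sum_mul]
      refine Finset.sum_congr rfl fun j _ => ?_
      rw [map_mul, map_pow, hφ, mul_assoc]
    have h2 : val φ f - ∑ l, ∑ j, φ (algebraMap k A (b l j)) * (algebraMap k A (c j) * m l) ∈ J := by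
      rw [← Ideal.Quotient.eq_zero_iff_mem, map_sub, sub_eq_zero, ← hlam, map_sum]
      refine Finset.sum_congr rfl fun l _ => ?_
      rw [← he l, map_mul, hm l, Algebra.smul_def]
      rfl
    obtain ⟨x, hx⟩ : ∃ x : A, x = val φ f -
        ∑ l, ∑ j, φ (algebraMap k A (b l j)) * (algebraMap k A (c j) * m l) := ⟨_, rfl⟩
    rw [← hx] at h2
    have hxN : of φ x ∈ Nn := by
      have := hJN x h2 1
      rwa [one_mul] at this
    refine Submodule.mem_sup.mpr
      ⟨∑ l, ∑ j, algebraMap k A (b l j) • G (l, j), ?_, of φ x, hxN, ?_⟩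
    · refine Submodule.sum_mem _ fun l _ => Submodule.sum_mem _ fun j _ => ?_
      exact Submodule.smul_mem _ _ (Submodule.subset_span ⟨(l, j), rfl⟩)
    · apply val_injective
      rw [val_add, val_of, ← valHom_apply, map_sum]
      have h3 : ∀ l, valHom φ (∑ j, algebraMap k A (b l j) • G (l, j)) =
          ∑ j, φ (algebraMap k A (b l j)) * (algebraMap k A (c j) * m l) := by
        intro l
        rw [map_sum]
        refine Finset.sum_congr rfl fun j _ => ?_
        rw [valHom_apply, val_smul, hG, val_of]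
      rw [Finset.sum_congr rfl fun l _ => h3 l, hx]
      ring
  have htop : (⊤ : Submodule A (FM φ ⧸ Nn)) = (Submodule.span A (Set.range G)).map Nn.mkQ := by
    apply le_antisymm
    · intro y _
      obtain ⟨f, rfl⟩ := Nn.mkQ_surjective y
      obtain ⟨u, hu, v, hv, rfl⟩ := Submodule.mem_sup.mp (hmain f)
      refine ⟨u, hu, ?_⟩
      have hv0 : Nn.mkQ v = 0 := by
        rw [← LinearMap.mem_ker, Submodule.ker_mkQ]
        exact hv
      rw [map_add, hv0, add_zero]
    · exact le_top
  rw [Module.finite_def, htop]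
  exact (Submodule.fg_span (Set.finite_range G)).map _

end FM

section Kaehler

/-- if every element is a combination of `p`-th powers times the `m l`, then the `d (m l)`
span the differentials -/
theorem span_D_eq_top {R₀ A : Type*} [CommRing R₀] [CommRing A] [Algebra R₀ A] (p : ℕ)
    (hpA : (p : A) = 0) {s : ℕ} (m : Fin s → A)
    (hm : ∀ f : A, ∃ a : Fin s → A, f = ∑ l, (a l) ^ p * m l) :
    Submodule.span A (Set.range fun l => KaehlerDifferential.D R₀ A (m l)) = ⊤ := by
  rw [eq_top_iff, ← KaehlerDifferential.span_range_derivation R₀ A, Submodule.span_le]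
  rintro _ ⟨f, rfl⟩
  obtain ⟨a, ha⟩ := hm f
  rw [SetLike.mem_coe, ha, map_sum]
  refine Submodule.sum_mem _ fun l _ => ?_
  rw [Derivation.leibniz, Derivation.leibniz_pow]
  have h0 : (p : ℕ) • ((a l) ^ (p - 1) • KaehlerDifferential.D R₀ A (a l)) = 0 := by
    rw [← Nat.cast_smul_eq_nsmul A, hpA, zero_smul]
  rw [h0, smul_zero, add_zero]
  exact Submodule.smul_mem _ _ (Submodule.subset_span ⟨l, rfl⟩)

theorem finite_kaehler {R₀ A : Type*} [CommRing R₀] [CommRing A] [Algebra R₀ A] (p : ℕ)
    (hpA : (p : A) = 0) {s : ℕ} (m : Fin s → A)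
    (hm : ∀ f : A, ∃ a : Fin s → A, f = ∑ l, (a l) ^ p * m l) :
    Module.Finite A Ω[A⁄R₀] := by
  rw [Module.finite_def, ← span_D_eq_top (R₀ := R₀) p hpA m hm]
  exact Submodule.fg_span (Set.finite_range _)

end Kaehler

end Groth.Agent.Lib.Helper21.RIs
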