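import Mathlib
import Groth.Agent.Lib.Helper21.RIs
import Groth.Agent.Lib.Helper21.RIm
import Groth.Agent.Lib.Helper1.PSOmega
import Groth.Agent.Lib.Helper21.CohenStructD
import Groth.Agent.Lib.Helper6.CartierEq3

/-!
# Helper library (helper21): absolute differentials of power series fields

For `k` of characteristic `p` finite over `k ^ p`: the fraction field `L₀` of `k[[T_1..T_d]]`
has `dim Ω_{L₀/ℤ} ≤ d + dim Ω_{k/ℤ}`; finite extensions do not change `dim Ω_{·/ℤ}`.
-/

set_option autoImplicit false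
set_option linter.style.haveILetI false

namespace Groth.Agent.Lib.Helper21.RIt

open IsLocalRing TensorProduct MvPowerSeries

universe u

section LinAlg

variable {F V1 V2 V3 : Type*} [Field F] [AddCommGroup V1] [Module F V1] [AddCommGroup V2]
  [Module F V2] [AddCommGroup V3] [Module F V3]

theorem finrank_exact (a : V1 →ₗ[F] V2) (b : V2 →ₗ[F] V3) (hab : Function.Exact a b)
    (hb : Function.Surjective b) [Module.Finite F V1] [Module.Finite F V3] :
    Module.Finite F V2 ∧ Module.finrank F V2 + Module.finrank F (LinearMap.ker a) =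
      Module.finrank F V1 + Module.finrank F V3 := by
  haveI : Module.Finite F V2 := Groth.Agent.Lib.Helper6.CartierIneq.finite_of_exact hab
  refine ⟨inferInstance, ?_⟩
  have h1 := LinearMap.finrank_range_add_finrank_ker b
  have h2 := LinearMap.finrank_range_add_finrank_ker a
  have h3 : LinearMap.range b = ⊤ := LinearMap.range_eq_top.mpr hb
  have h4 : LinearMap.ker b = LinearMap.range a := hab.linearMap_ker_eq
  rw [h3, finrank_top, h4] at h1
  omega

end LinAlg

section PS

variable (k : Type u) [Field k] (d : ℕ)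

local notation "Rd" => MvPowerSeries (Fin d) k

theorem finite_residueField : Module.Finite k (ResidueField Rd) := by
  apply Module.Finite.of_surjective (Algebra.linearMap k (ResidueField Rd))
  intro y
  obtain ⟨f, rfl⟩ := residue_surjective y
  refine ⟨constantCoeff f, ?_⟩
  rw [Algebra.linearMap_apply, IsScalarTower.algebraMap_apply k Rd (ResidueField Rd)]
  show residue Rd (algebraMap k Rd (constantCoeff f)) = residue Rd f
  rw [← sub_eq_zero, ← map_sub, residue_eq_zero_iff,
    Groth.Agent.Lib.Helper1.PSOmega.maximalIdeal_eq_ker, RingHom.mem_ker, map_sub,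
    MvPowerSeries.algebraMap_apply, constantCoeff_C, Algebra.algebraMap_self, RingHom.id_apply, sub_self]

theorem finite_kaehler_int (p : ℕ) (hp : p.Prime) [CharP k p] (N : ℕ) (c : Fin N → k)
    (hc : ∀ x : k, ∃ b : Fin N → k, x = ∑ j, (b j) ^ p * c j) :
    Module.Finite Rd Ω[Rd⁄ℤ] := by
  haveI : IsRegularLocalRing Rd :=
    Groth.Agent.Lib.Helper21.CohenStruct.isRegularLocalRing_mvPowerSeries k d
  haveI := finite_residueField k d
  haveI : CharP Rd p := charP_of_injective_algebraMap (algebraMap k Rd).injective p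
  haveI : ExpChar Rd p := ExpChar.prime hp
  haveI : Module.Finite Rd (RIs.FM (frobenius Rd p)) :=
    RIs.FM.finite (frobenius Rd p) p k hp.pos (fun a => by rw [frobenius_def]) N c hc
  obtain ⟨s, m, hm⟩ := RIs.FM.exists_gens (frobenius Rd p)
  exact RIs.finite_kaehler p (CharP.cast_eq_zero Rd p) m (fun f => by
    obtain ⟨a, ha⟩ := hm f
    exact ⟨a, by simpa [frobenius_def] using ha⟩)

theorem span_D_X (hfin : Module.Finite Rd Ω[Rd⁄k]) :
    Submodule.span Rd (Set.range fun i : Fin d => KaehlerDifferential.D k Rd (X i)) = ⊤ := by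
  haveI : IsRegularLocalRing Rd :=
    Groth.Agent.Lib.Helper21.CohenStruct.isRegularLocalRing_mvPowerSeries k d
  rw [eq_top_iff]
  intro ω _
  have h0 : ω - Groth.Agent.Lib.Helper1.PSOmega.ιmap k d
      (fun i => Groth.Agent.Lib.Helper1.PSOmega.dpart k d i ω) = 0 := by
    apply IsHausdorff.haus (I := maximalIdeal Rd) inferInstance
    intro n
    rw [SModEq.zero]
    exact Groth.Agent.Lib.Helper1.PSOmega.sub_mem k d ω n
  rw [sub_eq_zero] at h0
  rw [h0, Groth.Agent.Lib.Helper1.PSOmega.ιmap, Fintype.linearCombination_apply]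
  exact Submodule.sum_mem _ fun i _ => Submodule.smul_mem _ _ (Submodule.subset_span ⟨i, rfl⟩)

theorem finrank_kaehler_fractionRing_le (L₀ : Type u) [Field L₀] [Algebra Rd L₀]
    [IsFractionRing Rd L₀] [Algebra k L₀] [IsScalarTower k Rd L₀]
    [Module.Finite k Ω[k⁄ℤ]] (hfin : Module.Finite Rd Ω[Rd⁄k]) :
    Module.Finite L₀ Ω[L₀⁄ℤ] ∧ Module.finrank L₀ Ω[L₀⁄ℤ] ≤ d + Module.finrank k Ω[k⁄ℤ] := by
  haveI : Algebra.FormallyEtale Rd L₀ :=
    Algebra.FormallyEtale.of_isLocalization (nonZeroDivisors Rd)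
  have e := KaehlerDifferential.tensorKaehlerEquivOfFormallyEtale k Rd L₀
  have hsp : Submodule.span L₀ (Set.range fun i : Fin d =>
      (1 : L₀) ⊗ₜ[Rd] KaehlerDifferential.D k Rd (X i)) = ⊤ :=
    Groth.Agent.Lib.Helper21.RIm.span_one_tmul (R := Rd) (S := L₀)
      (fun i : Fin d => KaehlerDifferential.D k Rd (X i)) (span_D_X k d hfin)
  haveI hf1 : Module.Finite L₀ (L₀ ⊗[Rd] Ω[Rd⁄k]) := by
    rw [Module.finite_def, ← hsp]
    exact Submodule.fg_span (Set.finite_range _)
  have hr1 : Module.finrank L₀ (L₀ ⊗[Rd] Ω[Rd⁄k]) ≤ d := by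
    have h1 := finrank_le_of_span_eq_top hsp
    rwa [Fintype.card_fin] at h1
  haveI hf2 : Module.Finite L₀ Ω[L₀⁄k] := Module.Finite.equiv e
  have hr2 : Module.finrank L₀ Ω[L₀⁄k] ≤ d := by rw [← e.finrank_eq]; exact hr1
  obtain ⟨h3, h4⟩ := finrank_exact (KaehlerDifferential.mapBaseChange ℤ k L₀)
    (KaehlerDifferential.map ℤ k L₀ L₀) (KaehlerDifferential.exact_mapBaseChange_map ℤ k L₀)
    (KaehlerDifferential.map_surjective ℤ k L₀)
  refine ⟨h3, ?_⟩
  rw [Module.finrank_baseChange] at h4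
  omega

end PS

section FiniteExt

theorem finrank_kaehler_int_of_finite (K L : Type u) [Field K] [Field L] [Algebra K L]
    [Module.Finite K L] [Module.Finite K Ω[K⁄ℤ]] :
    Module.Finite L Ω[L⁄ℤ] ∧ Module.finrank L Ω[L⁄ℤ] ≤ Module.finrank K Ω[K⁄ℤ] := by
  haveI : Algebra.IsAlgebraic K L := Algebra.IsAlgebraic.of_finite K L
  obtain ⟨f1, f2, heq⟩ := Groth.Agent.Lib.Helper6.CartierEq.cartier_eq K L
  have h0 : Algebra.trdeg K L = 0 := trdeg_eq_zero
  rw [h0] at heq
  haveI := f1
  obtain ⟨h3, h4⟩ := finrank_exact (KaehlerDifferential.mapBaseChange ℤ K L)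
    (KaehlerDifferential.map ℤ K L L) (KaehlerDifferential.exact_mapBaseChange_map ℤ K L)
    (KaehlerDifferential.map_surjective ℤ K L)
  refine ⟨h3, ?_⟩
  rw [Module.finrank_baseChange] at h4
  simp only [map_zero, Nat.cast_zero] at heq
  omega

end FiniteExt

end Groth.Agent.Lib.Helper21.RIt
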