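import Mathlib
import Groth.Agent.Lib.Helper21.JacAdicF
import Groth.Agent.Lib.Helper21.RIt

/-!
# Helper library (helper21): counting differentials of an adically formally smooth local algebra

For a local `k`-algebra `B` with residue field `F`, adically formally smooth over `k`, whose
maximal ideal is generated by `h` elements: `dim_F (F ⊗ Ω_{B/k}) + dim_k Ω_{k/ℤ} ≤ h + dim_F Ω_{F/ℤ}`.
-/

set_option autoImplicit false
set_option linter.style.haveILetI false

namespace Groth.Agent.Lib.Helper21.RIu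

open TensorProduct KaehlerDifferential IsLocalRing
open Groth.Agent.Lib.Helper21.FlatSmooth Groth.Agent.Lib.Helper21.JacAdicF

universe u w

section ext

variable {Λ : Type w} {A B K : Type u} [CommRing Λ] [CommRing A] [CommRing B] [CommRing K]
  [Algebra Λ A] [Algebra A B] [Algebra Λ B] [IsScalarTower Λ A B] [Algebra B K] [Algebra A K]
  [IsScalarTower A B K] [Algebra Λ K] [IsScalarTower Λ A K] [IsScalarTower Λ B K] {J : Ideal B}

/-- adic formal smoothness of `B` over `A`: derivations of `A` into `B ⧸ J`-modules extend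
(base ring in an arbitrary universe) -/
theorem exists_derivation_of_isAdicFormallySmooth
    (h : CAlgX.IsAdicFormallySmooth A B J) (hK : ∀ x ∈ J, algebraMap B K x = 0)
    (N : Type u) [AddCommGroup N] [Module K N] [Module Kᵐᵒᵖ N]
    [IsCentralScalar K N] [Module B N] [IsScalarTower B K N] [Module A N]
    [IsScalarTower A B N] [IsScalarTower A K N] [Module Λ N] [IsScalarTower Λ A N]
    (δ : Derivation Λ A N) :
    ∃ D : Derivation Λ B N, ∀ x, D (algebraMap A B x) = δ x := by
  let twAlg : Algebra A (TrivSqZeroExt K N) := (twHom (K := K) δ).toAlgebra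
  have halg : ∀ a, algebraMap A (TrivSqZeroExt K N) a = twHom (K := K) δ a := fun a => rfl
  let π : TrivSqZeroExt K N →ₐ[A] K :=
    { toFun := TrivSqZeroExt.fst
      map_one' := TrivSqZeroExt.fst_one
      map_mul' := TrivSqZeroExt.fst_mul
      map_zero' := TrivSqZeroExt.fst_zero
      map_add' := TrivSqZeroExt.fst_add
      commutes' := fun x => fst_twHom δ x }
  have hπ : Function.Surjective π := fun c => ⟨TrivSqZeroExt.inl c, TrivSqZeroExt.fst_inl N c⟩
  have hsq : RingHom.ker π ^ 2 = ⊥ := by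
    apply le_bot_iff.mp
    have hpw : RingHom.ker π ^ 2 = RingHom.ker π * RingHom.ker π := pow_two _
    rw [hpw, Ideal.mul_le]
    intro z hz w hw
    rw [Ideal.mem_bot]
    exact mul_eq_zero' z w hz hw
  let φ : B →ₐ[A] K := IsScalarTower.toAlgHom A B K
  have hφ : ∃ m : ℕ, ∀ x ∈ J ^ m, φ x = 0 :=
    ⟨1, fun x hx => by rw [pow_one] at hx; exact hK x hx⟩
  obtain ⟨χ, hχ⟩ := lifts_of_isAdicFormallySmooth h π hπ hsq φ hφ
  have hfst : ∀ b, (χ b).fst = algebraMap B K b := fun b => AlgHom.congr_fun hχ b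
  let D : Derivation Λ B N := Derivation.mk'
    { toFun := fun b => (χ b).snd
      map_add' := fun a b => by rw [map_add, TrivSqZeroExt.snd_add]
      map_smul' := fun l b => by
        show (χ (l • b)).snd = l • (χ b).snd
        rw [Algebra.smul_def l b, IsScalarTower.algebraMap_apply Λ A B, map_mul, χ.commutes, halg,
          snd_mul', fst_twHom, snd_twHom, Derivation.map_algebraMap, smul_zero, add_zero,
          algebraMap_smul, algebraMap_smul] }
    (fun a b => by
      show (χ (a * b)).snd = a • (χ b).snd + b • (χ a).snd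
      rw [map_mul, snd_mul', hfst, hfst, algebraMap_smul, algebraMap_smul])
  refine ⟨D, fun x => ?_⟩
  show (χ (algebraMap A B x)).snd = δ x
  rw [χ.commutes]
  exact snd_twHom δ x

variable (Λ A B K) in
theorem exists_leftInverse_of_isAdicFormallySmooth (h : CAlgX.IsAdicFormallySmooth A B J)
    (hK : ∀ x ∈ J, algebraMap B K x = 0) :
    ∃ ρ : K ⊗[B] Ω[B⁄Λ] →ₗ[K] K ⊗[B] (B ⊗[A] Ω[A⁄Λ]),
      ρ ∘ₗ (mapBaseChange Λ A B).baseChange K = LinearMap.id := by
  let N₀ := K ⊗[B] (B ⊗[A] Ω[A⁄Λ])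
  let g₀ : Ω[A⁄Λ] →ₗ[A] N₀ :=
    ((TensorProduct.mk B K (B ⊗[A] Ω[A⁄Λ]) 1).restrictScalars A) ∘ₗ (TensorProduct.mk A B Ω[A⁄Λ] 1)
  let δ : Derivation Λ A N₀ := g₀.compDer (KaehlerDifferential.D Λ A)
  obtain ⟨D, hD⟩ := exists_derivation_of_isAdicFormallySmooth h hK N₀ δ
  let ρ : K ⊗[B] Ω[B⁄Λ] →ₗ[K] N₀ := LinearMap.liftBaseChange K D.liftKaehlerDifferential
  refine ⟨ρ, ?_⟩
  apply (LinearMap.liftBaseChangeEquiv K).symm.injective
  apply (LinearMap.liftBaseChangeEquiv B).symm.injective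
  apply Derivation.liftKaehlerDifferential_unique
  ext x
  show ρ ((mapBaseChange Λ A B).baseChange K
      ((1 : K) ⊗ₜ[B] ((1 : B) ⊗ₜ[A] KaehlerDifferential.D Λ A x))) =
    (1 : K) ⊗ₜ[B] ((1 : B) ⊗ₜ[A] KaehlerDifferential.D Λ A x)
  rw [LinearMap.baseChange_tmul, KaehlerDifferential.mapBaseChange_tmul, one_smul,
    KaehlerDifferential.map_D, LinearMap.liftBaseChange_tmul, one_smul,
    Derivation.liftKaehlerDifferential_comp_D, hD]
  rfl

variable (Λ A B K) in
theorem injective_baseChange_of_isAdicFormallySmooth (h : CAlgX.IsAdicFormallySmooth A B J)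
    (hK : ∀ x ∈ J, algebraMap B K x = 0) :
    Function.Injective ((mapBaseChange Λ A B).baseChange K) := by
  obtain ⟨ρ, hρ⟩ := exists_leftInverse_of_isAdicFormallySmooth Λ A B K h hK
  exact Function.LeftInverse.injective (g := ρ) (fun x => LinearMap.congr_fun hρ x)

end ext

section local_bound

variable (B : Type u) [CommRing B] [IsLocalRing B] (F : Type u) [Field F] [Algebra B F]

/-- differentials of a local ring at the closed point: at most `h + dim Ω_F` -/
theorem finrank_residue_tensor_kaehler_le (hsurj : Function.Surjective (algebraMap B F))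
    (h : ℕ) (x : Fin h → B)
    (hx : maximalIdeal B = Ideal.span (Set.range x))
    [Module.Finite F Ω[F⁄ℤ]] :
    Module.Finite F (F ⊗[B] Ω[B⁄ℤ]) ∧
      Module.finrank F (F ⊗[B] Ω[B⁄ℤ]) ≤ h + Module.finrank F Ω[F⁄ℤ] := by
  classical
  have hkerm : RingHom.ker (algebraMap B F) = maximalIdeal B := by
    haveI : (RingHom.ker (algebraMap B F)).IsMaximal :=
      RingHom.ker_isMaximal_of_surjective _ hsurj
    exact IsLocalRing.eq_maximalIdeal inferInstance
  obtain ⟨b, hb⟩ : ∃ b : F ⊗[B] Ω[B⁄ℤ] →ₗ[F] Ω[F⁄ℤ],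
      b = mapBaseChange ℤ B F := ⟨_, rfl⟩
  have hbsurj : Function.Surjective b := by
    rw [hb]; exact mapBaseChange_surjective ℤ B F hsurj
  have hker : LinearMap.ker b ≤ Submodule.span F
      (Set.range fun i => (1 : F) ⊗ₜ[B] KaehlerDifferential.D ℤ B (x i)) := by
    intro z hz
    have hz' : z ∈ (LinearMap.ker (mapBaseChange ℤ B F)).restrictScalars B := by
      rw [← hb]; exact hz
    rw [← range_kerCotangentToTensor ℤ B F hsurj] at hz'
    obtain ⟨c, rfl⟩ := hz'
    obtain ⟨y, rfl⟩ := Ideal.toCotangent_surjective _ c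
    rw [kerCotangentToTensor_toCotangent]
    have hy : (y : B) ∈ maximalIdeal B := by
      rw [← hkerm]; exact y.2
    rw [hx] at hy
    obtain ⟨a, ha⟩ := (Submodule.mem_span_range_iff_exists_fun B).mp hy
    rw [← ha, map_sum, TensorProduct.tmul_sum]
    refine Submodule.sum_mem _ fun i _ => ?_
    have hxi : algebraMap B F (x i) = 0 := by
      rw [← RingHom.mem_ker, hkerm, hx]
      exact Ideal.subset_span ⟨i, rfl⟩
    rw [smul_eq_mul, Derivation.leibniz, TensorProduct.tmul_add, TensorProduct.tmul_smul,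
      TensorProduct.tmul_smul, ← algebraMap_smul F (a i),
      ← algebraMap_smul F (x i), hxi, zero_smul, add_zero]
    exact Submodule.smul_mem _ _ (Submodule.subset_span ⟨i, rfl⟩)
  haveI hfs : Module.Finite F (Submodule.span F
      (Set.range fun i => (1 : F) ⊗ₜ[B] KaehlerDifferential.D ℤ B (x i))) :=
    Module.Finite.span_of_finite _ (Set.finite_range _)
  haveI hfk : Module.Finite F (LinearMap.ker b) :=
    Submodule.finiteDimensional_of_le hker
  have hrk : Module.finrank F (LinearMap.ker b) ≤ h := by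
    refine (Submodule.finrank_mono hker).trans ?_
    have h1 := finrank_range_le_card (R := F)
      (fun i => (1 : F) ⊗ₜ[B] KaehlerDifferential.D ℤ B (x i))
    rwa [Fintype.card_fin] at h1
  obtain ⟨h3, h4⟩ := Groth.Agent.Lib.Helper21.RIt.finrank_exact (F := F)
    (V1 := LinearMap.ker b) (LinearMap.ker b).subtype b
    (LinearMap.exact_subtype_ker_map b) hbsurj
  refine ⟨h3, ?_⟩
  have h5 : Module.finrank F (LinearMap.ker (LinearMap.ker b).subtype) = 0 := by
    rw [Submodule.ker_subtype, finrank_bot]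
  omega

variable (k : Type u) [Field k] [Algebra k B] [Algebra k F] [IsScalarTower k B F]

theorem finrank_add_eq_of_adicFS (hfs : CAlgX.IsAdicFormallySmooth k B (maximalIdeal B))
    (hF : ∀ x ∈ maximalIdeal B, algebraMap B F x = 0)
    [Module.Finite k Ω[k⁄ℤ]]
    [hfin : Module.Finite F (F ⊗[B] Ω[B⁄ℤ])] :
    Module.Finite F (F ⊗[B] Ω[B⁄k]) ∧
      Module.finrank F (F ⊗[B] Ω[B⁄k]) + Module.finrank k Ω[k⁄ℤ] =
        Module.finrank F (F ⊗[B] Ω[B⁄ℤ]) := by
  obtain ⟨a, ha⟩ : ∃ a : F ⊗[B] (B ⊗[k] Ω[k⁄ℤ]) →ₗ[F]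
      F ⊗[B] Ω[B⁄ℤ], a = (mapBaseChange ℤ k B).baseChange F :=
    ⟨_, rfl⟩
  obtain ⟨b, hb⟩ : ∃ b : F ⊗[B] Ω[B⁄ℤ] →ₗ[F]
      F ⊗[B] Ω[B⁄k], b = (KaehlerDifferential.map ℤ k B B).baseChange F :=
    ⟨_, rfl⟩
  have hab0 := KaehlerDifferential.exact_mapBaseChange_map ℤ k B
  have hb0 := KaehlerDifferential.map_surjective ℤ k B
  have hca : (a : _ → _) = (mapBaseChange ℤ k B).lTensor F := by
    rw [ha]; exact LinearMap.baseChange_eq_ltensor _
  have hcb : (b : _ → _) = (KaehlerDifferential.map ℤ k B B).lTensor F := by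
    rw [hb]; exact LinearMap.baseChange_eq_ltensor _
  have hexact : Function.Exact a b := by
    have h1 := lTensor_exact F hab0 hb0
    rw [hca, hcb]
    exact h1
  have hbsurj : Function.Surjective b := by
    rw [hcb]; exact LinearMap.lTensor_surjective _ hb0
  have hainj : Function.Injective a := by
    rw [ha]
    exact injective_baseChange_of_isAdicFormallySmooth ℤ k B F hfs hF
  have e := TensorProduct.AlgebraTensorModule.cancelBaseChange k B F F Ω[k⁄ℤ]
  haveI : Module.Finite F (F ⊗[B] (B ⊗[k] Ω[k⁄ℤ])) :=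
    Module.Finite.equiv e.symm
  haveI : Module.Finite F (F ⊗[B] Ω[B⁄k]) :=
    Module.Finite.of_surjective b hbsurj
  obtain ⟨-, h4⟩ := Groth.Agent.Lib.Helper21.RIt.finrank_exact a b hexact hbsurj
  refine ⟨inferInstance, ?_⟩
  have h5 : Module.finrank F (LinearMap.ker a) = 0 := by
    rw [LinearMap.ker_eq_bot.mpr hainj, finrank_bot]
  have h6 : Module.finrank F (F ⊗[B] (B ⊗[k] Ω[k⁄ℤ])) =
      Module.finrank k Ω[k⁄ℤ] := by
    rw [e.finrank_eq, Module.finrank_baseChange]
  omega

end local_bound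

end Groth.Agent.Lib.Helper21.RIu
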