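import Mathlib
import Groth.Agent.Lib.Helper21.RIu
import Groth.Agent.Lib.Helper21.RIo
import Groth.Agent.Lib.Helper21.RIk
import Groth.Agent.Lib.Helper21.GeomRegB
import Groth.Agent.Lib.Helper21.CohenStructF
import Groth.Agent.Lib.Helper7.CohenPres
import Groth.Agent.Lib.Helper12.IntegralDim
import Groth.Agent.S2460

/-!
# Helper library (helper21): the bound on completed differentials at a geometrically regular
prime, positive characteristic

`A` a complete noetherian local `k`-algebra with residue field finite over `k`, `k` of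
characteristic `p` finite over `k ^ p`, `P` a prime with `A_P` geometrically regular over `k`.
Then `dim_{κ(P)} (κ(P) ⊗ Ω̂) ≤ h + d` where `h` is the height of `P` and `d ≤ dim A/P`.
-/

set_option autoImplicit false
set_option linter.style.haveILetI false

namespace Groth.Agent.Lib.Helper21.RIv

open IsLocalRing TensorProduct

universe u

section general

/-- adic formal smoothness of a geometrically regular noetherian local algebra -/
theorem adicFS_of_isGeometricallyRegular (k B : Type u) [Field k] [CommRing B] [IsLocalRing B]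
    [IsNoetherianRing B] [Algebra k B] (h : CAlg.IsGeometricallyRegular k B) :
    CAlgX.IsAdicFormallySmooth k B (maximalIdeal B) := by
  have h1 := Groth.Agent.Lib.Helper21.GeomReg.forall_adicFS_of_isGeometricallyRegular k B h
    (maximalIdeal B)
  let e₀ : B ≃ₐ[B] Localization.AtPrime (maximalIdeal B) :=
    IsLocalization.atUnits B (maximalIdeal B).primeCompl (fun x hx => by
      have : x ∉ maximalIdeal B := hx
      rwa [mem_maximalIdeal, mem_nonunits_iff, not_not] at this)
  let e : Localization.AtPrime (maximalIdeal B) ≃ₐ[k] B := (e₀.restrictScalars k).symm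
  refine Groth.Agent.Lib.Helper21.CohenStruct.isAdicFormallySmooth_of_equiv h1 e ?_
  apply IsLocalRing.le_maximalIdeal
  intro htop
  have : (maximalIdeal (Localization.AtPrime (maximalIdeal B))) = ⊤ := by
    rw [Ideal.eq_top_iff_one] at htop ⊢
    obtain ⟨y, hy, hy1⟩ := (Ideal.mem_map_iff_of_surjective
      (e : Localization.AtPrime (maximalIdeal B) →+* B) e.surjective).mp htop
    have : y = 1 := e.injective (by rw [map_one]; exact hy1)
    rw [← this]; exact hy
  exact (maximalIdeal.isMaximal _).ne_top this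

/-- the field-theoretic bound -/
theorem finrank_kaehler_le_aux (k : Type u) [Field k] (d : ℕ) (D κ : Type u) [CommRing D]
    [IsDomain D] [Field κ]
    [Algebra (MvPowerSeries (Fin d) k) D] [Module.Finite (MvPowerSeries (Fin d) k) D]
    (hinj : Function.Injective (algebraMap (MvPowerSeries (Fin d) k) D))
    [Algebra D κ] [IsFractionRing D κ]
    [Module.Finite k Ω[k⁄ℤ]]
    (hfin : Module.Finite (MvPowerSeries (Fin d) k) Ω[MvPowerSeries (Fin d) k⁄k]) :
    Module.Finite κ Ω[κ⁄ℤ] ∧ Module.finrank κ Ω[κ⁄ℤ] ≤ d + Module.finrank k Ω[k⁄ℤ] := by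
  letI : Algebra (MvPowerSeries (Fin d) k) κ :=
    ((algebraMap D κ).comp (algebraMap (MvPowerSeries (Fin d) k) D)).toAlgebra
  haveI : IsScalarTower (MvPowerSeries (Fin d) k) D κ :=
    IsScalarTower.of_algebraMap_eq (fun _ => rfl)
  have hinjκ : Function.Injective (algebraMap (MvPowerSeries (Fin d) k) κ) :=
    (IsFractionRing.injective D κ).comp hinj
  haveI : FaithfulSMul (MvPowerSeries (Fin d) k) κ :=
    (faithfulSMul_iff_algebraMap_injective _ κ).mpr hinjκ
  haveI : FaithfulSMul (MvPowerSeries (Fin d) k) D :=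
    (faithfulSMul_iff_algebraMap_injective _ D).mpr hinj
  letI : Algebra (FractionRing (MvPowerSeries (Fin d) k)) κ :=
    FractionRing.liftAlgebra (MvPowerSeries (Fin d) k) κ
  haveI : IsScalarTower (MvPowerSeries (Fin d) k) (FractionRing (MvPowerSeries (Fin d) k)) κ :=
    FractionRing.isScalarTower_liftAlgebra (MvPowerSeries (Fin d) k) κ
  haveI : Algebra.IsIntegral (MvPowerSeries (Fin d) k) D := Algebra.IsIntegral.of_finite _ D
  haveI : Algebra.IsAlgebraic (MvPowerSeries (Fin d) k) D := Algebra.IsIntegral.isAlgebraic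
  haveI hfinL : Module.Finite (FractionRing (MvPowerSeries (Fin d) k)) κ :=
    Module.Finite.of_isLocalization (MvPowerSeries (Fin d) k) D
      (nonZeroDivisors (MvPowerSeries (Fin d) k))
  obtain ⟨h1, h2⟩ := Groth.Agent.Lib.Helper21.RIt.finrank_kaehler_fractionRing_le k d
    (FractionRing (MvPowerSeries (Fin d) k)) hfin
  haveI := h1
  obtain ⟨h3, h4⟩ := Groth.Agent.Lib.Helper21.RIt.finrank_kaehler_int_of_finite
    (FractionRing (MvPowerSeries (Fin d) k)) κ
  exact ⟨h3, h4.trans h2⟩

end general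

section

variable (k A : Type u) [Field k] [CommRing A] [IsLocalRing A] [IsNoetherianRing A] [Algebra k A]
  [IsAdicComplete (maximalIdeal A) A] [Module.Finite k (ResidueField A)]

local notation "Ωh" => AdicCompletion (maximalIdeal A) (Ω[A⁄k])

theorem finrank_Ωh_le (P : Ideal A) [P.IsPrime] (F : Type u) [Field F] [Algebra A F]
    [Algebra (Localization.AtPrime P) F] [IsScalarTower A (Localization.AtPrime P) F]
    [Module.Finite F (F ⊗[Localization.AtPrime P] Ω[Localization.AtPrime P⁄k])] :
    Module.finrank F (F ⊗[A] Ωh) ≤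
      Module.finrank F (F ⊗[Localization.AtPrime P] Ω[Localization.AtPrime P⁄k]) := by
  haveI : Algebra.FormallyEtale A (Localization.AtPrime P) :=
    Algebra.FormallyEtale.of_isLocalization P.primeCompl
  have e1 := KaehlerDifferential.tensorKaehlerEquivOfFormallyEtale k A (Localization.AtPrime P)
  have e2 : F ⊗[Localization.AtPrime P] ((Localization.AtPrime P) ⊗[A] Ω[A⁄k])
      ≃ₗ[F] F ⊗[Localization.AtPrime P] Ω[Localization.AtPrime P⁄k] :=
    TensorProduct.AlgebraTensorModule.congr (LinearEquiv.refl F F) e1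
  have e3 := TensorProduct.AlgebraTensorModule.cancelBaseChange A (Localization.AtPrime P)
    F F Ω[A⁄k]
  have E : F ⊗[A] Ω[A⁄k] ≃ₗ[F]
      F ⊗[Localization.AtPrime P] Ω[Localization.AtPrime P⁄k] := e3.symm ≪≫ₗ e2
  haveI : Module.Finite F (F ⊗[A] Ω[A⁄k]) := Module.Finite.equiv E.symm
  obtain ⟨g, hg⟩ : ∃ g : F ⊗[A] Ω[A⁄k] →ₗ[F] F ⊗[A] Ωh,
      g = (AdicCompletion.of (maximalIdeal A) (Ω[A⁄k])).baseChange F := ⟨_, rfl⟩
  have hgs : Function.Surjective g := by
    have hc : (g : _ → _) = (AdicCompletion.of (maximalIdeal A) (Ω[A⁄k])).lTensor F := by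
      rw [hg]; exact LinearMap.baseChange_eq_ltensor _
    rw [hc]
    exact LinearMap.lTensor_surjective _ (RIo.of_surjective k A)
  rw [← E.finrank_eq]
  exact LinearMap.finrank_le_finrank_of_surjective hgs

theorem exists_d (p : ℕ) (hp : p.Prime) [CharP k p] (N : ℕ) (c : Fin N → k)
    (hc : ∀ x : k, ∃ b : Fin N → k, x = ∑ j, (b j) ^ p * c j) [Module.Finite k Ω[k⁄ℤ]]
    (P : Ideal A) [P.IsPrime] (κ : Type u) [Field κ] [Algebra (A ⧸ P) κ]
    [IsFractionRing (A ⧸ P) κ] :
    ∃ d : ℕ, (d : WithBot ℕ∞) ≤ ringKrullDim (A ⧸ P) ∧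
      Module.Finite κ Ω[κ⁄ℤ] ∧
      Module.finrank κ Ω[κ⁄ℤ] ≤ d + Module.finrank k Ω[k⁄ℤ] := by
  classical
  haveI : IsDomain (A ⧸ P) := Ideal.Quotient.isDomain P
  haveI : IsLocalRing (A ⧸ P) :=
    IsLocalRing.of_surjective' (Ideal.Quotient.mk P) Ideal.Quotient.mk_surjective
  haveI : IsAdicComplete (maximalIdeal (A ⧸ P)) (A ⧸ P) := by
    have h := Groth.Agent.Lib.Helper15.CS.isAdicComplete_quotient (maximalIdeal A) P
    have h2 : (maximalIdeal A).map (algebraMap A (A ⧸ P)) = maximalIdeal (A ⧸ P) :=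
      IsLocalRing.map_maximalIdeal_of_surjective (Ideal.Quotient.mk P)
        Ideal.Quotient.mk_surjective
    rw [h2] at h
    exact h
  haveI : Module.Finite k (ResidueField (A ⧸ P)) :=
    Groth.Agent.Lib.Helper21.RIk.finite_residueField_quotient k A P
  obtain ⟨d, w, hwinj, -, hwfin⟩ := Groth.Agent.S2460.result (k₀ := k) (A := A ⧸ P)
  letI := w.toRingHom.toAlgebra
  haveI : IsScalarTower k (MvPowerSeries (Fin d) k) (A ⧸ P) :=
    IsScalarTower.of_algebraMap_eq (fun x => (w.commutes x).symm)
  haveI : Module.Finite (MvPowerSeries (Fin d) k) (A ⧸ P) := hwfin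
  have hinj : Function.Injective (algebraMap (MvPowerSeries (Fin d) k) (A ⧸ P)) := hwinj
  refine ⟨d, ?_, ?_⟩
  · haveI : Algebra.IsIntegral (MvPowerSeries (Fin d) k) (A ⧸ P) :=
      Algebra.IsIntegral.of_finite _ _
    have h1 := Groth.Agent.Lib.Helper12.ringKrullDim_le_of_isIntegral_of_injective hinj
    have h2 := Groth.Agent.Lib.Helper7.CohenPres.le_ringKrullDim_powser k d
    rw [ringKrullDim_eq_zero_of_field, zero_add] at h2
    exact h2.trans h1
  · haveI hΩ : Module.Finite (MvPowerSeries (Fin d) k) Ω[MvPowerSeries (Fin d) k⁄ℤ] :=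
      Groth.Agent.Lib.Helper21.RIt.finite_kaehler_int k d p hp N c hc
    have hfin : Module.Finite (MvPowerSeries (Fin d) k) Ω[MvPowerSeries (Fin d) k⁄k] :=
      Module.Finite.of_surjective
        (KaehlerDifferential.map ℤ k (MvPowerSeries (Fin d) k) (MvPowerSeries (Fin d) k))
        (KaehlerDifferential.map_surjective ℤ k (MvPowerSeries (Fin d) k))
    exact finrank_kaehler_le_aux k d (A ⧸ P) κ hinj hfin

theorem main_bound (p : ℕ) (hp : p.Prime) [CharP k p] (N : ℕ) (c : Fin N → k)
    (hc : ∀ x : k, ∃ b : Fin N → k, x = ∑ j, (b j) ^ p * c j)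
    (P : Ideal A) [P.IsPrime] (hP : CAlg.IsGeometricallyRegular k (Localization.AtPrime P)) :
    ∃ h d : ℕ, ((h : ℕ∞) : WithBot ℕ∞) = ringKrullDim (Localization.AtPrime P) ∧
      (d : WithBot ℕ∞) ≤ ringKrullDim (A ⧸ P) ∧
      Module.finrank P.ResidueField (P.ResidueField ⊗[A] Ωh) ≤ h + d := by
  classical
  haveI hkΩ : Module.Finite k Ω[k⁄ℤ] :=
    Groth.Agent.Lib.Helper21.RIs.finite_kaehler p (CharP.cast_eq_zero k p) c
      (fun f => by
        obtain ⟨b, hb⟩ := hc f
        exact ⟨b, hb⟩)
  have hfs := adicFS_of_isGeometricallyRegular k (Localization.AtPrime P) hP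
  haveI hreg : IsRegularLocalRing (Localization.AtPrime P) :=
    (Groth.Agent.Lib.Helper21.CohenStruct.regular_of_isAdicFormallySmooth k
      (Localization.AtPrime P) hfs).1
  obtain ⟨d, hd, hΩκ, hdκ⟩ := exists_d k A p hp N c hc P P.ResidueField
  haveI := hΩκ
  obtain ⟨s, hscard, hsspan⟩ := Submodule.FG.exists_span_finset_card_eq_spanFinrank
    (IsNoetherian.noetherian (maximalIdeal (Localization.AtPrime P)))
  obtain ⟨x, hx⟩ := RIo.exists_fin_span_eq s s.card le_rfl
  have hxm : maximalIdeal (Localization.AtPrime P) = Ideal.span (Set.range x) := by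
    rw [hx]; exact hsspan.symm
  have hsurj : Function.Surjective (algebraMap (Localization.AtPrime P) P.ResidueField) := by
    rw [IsLocalRing.ResidueField.algebraMap_eq]
    exact residue_surjective
  have hF : ∀ y ∈ maximalIdeal (Localization.AtPrime P),
      algebraMap (Localization.AtPrime P) P.ResidueField y = 0 := by
    intro y hy
    rw [IsLocalRing.ResidueField.algebraMap_eq]
    exact (residue_eq_zero_iff y).mpr hy
  obtain ⟨h1, h2⟩ := Groth.Agent.Lib.Helper21.RIu.finrank_residue_tensor_kaehler_le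
    (Localization.AtPrime P) P.ResidueField hsurj s.card x hxm
  haveI := h1
  obtain ⟨h3, h4⟩ := Groth.Agent.Lib.Helper21.RIu.finrank_add_eq_of_adicFS
    (Localization.AtPrime P) P.ResidueField k hfs hF
  haveI := h3
  have h5 := finrank_Ωh_le k A P P.ResidueField
  refine ⟨s.card, d, ?_, hd, ?_⟩
  · rw [hscard]
    exact hreg.spanFinrank_maximalIdeal ▸ rfl
  · have h6 : Module.finrank P.ResidueField
        (P.ResidueField ⊗[Localization.AtPrime P] Ω[Localization.AtPrime P⁄k]) +
          Module.finrank k Ω[k⁄ℤ]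
        ≤ s.card + (d + Module.finrank k Ω[k⁄ℤ]) := by
      rw [h4]
      exact h2.trans (Nat.add_le_add_left hdκ _)
    omega

end

end Groth.Agent.Lib.Helper21.RIv
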