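import Mathlib
import Groth.Agent.Lib.Helper21.RIv
import Groth.Agent.Lib.Helper21.RIp
import Groth.Agent.Lib.Helper26.PowerSeriesRLR
import Groth.Agent.Lib.Helper26.CompleteFinite

/-!
# Helper library (helper21): the bound on completed differentials at a regular prime,
characteristic zero

`A` a complete noetherian local `k`-algebra with residue field finite over `k`, `k` of
characteristic zero, `P` a prime with `A_P` regular.
Then `dim_{κ(P)} (κ(P) ⊗ Ω̂) ≤ h + d` where `h` is the height of `P` and `d = dim A/P`.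
-/

set_option autoImplicit false
set_option linter.style.haveILetI false

namespace Groth.Agent.Lib.Helper21.RIw

open IsLocalRing TensorProduct Polynomial

universe u

section Deriv

variable {R A M : Type*} [CommRing R] [CommRing A] [Algebra R A] [AddCommGroup M] [Module A M]
  [Module R M] [IsScalarTower R A M]

theorem derivation_eval (D : Derivation R A M) (G : A[X]) (a : A) :
    D (G.eval a) = G.sum (fun j c => a ^ j • D c) + (G.derivative.eval a) • D a := by
  induction G using Polynomial.induction_on' with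
  | add p q hp hq =>
    rw [eval_add, map_add, hp, hq, derivative_add, eval_add, add_smul,
      sum_add_index p q _ (fun i => by rw [map_zero, smul_zero])
        (fun i b₁ b₂ => by rw [map_add, smul_add])]
    abel
  | monomial n c =>
    rw [eval_monomial, Derivation.leibniz, Derivation.leibniz_pow,
      sum_monomial_index c _ (by rw [map_zero, smul_zero]), derivative_monomial, eval_monomial]
    have h1 : c • (n • (a ^ (n - 1) • D a)) = (c * ↑n * a ^ (n - 1)) • D a := by
      rw [← Nat.cast_smul_eq_nsmul A n, smul_smul, smul_smul, mul_assoc]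
    rw [h1, add_comm]

end Deriv

section Sep

theorem aeval_derivative_minpoly_ne_zero (k : Type*) [Field k] [CharZero k] {S D : Type*}
    [CommRing S] [CommRing D] [Nontrivial D] [Algebra k S] [Algebra S D] (y : D)
    (hy : IsIntegral S y) : aeval y (derivative (minpoly S y)) ≠ 0 := by
  intro h0
  obtain ⟨F, hF⟩ : ∃ F : S[X], F = minpoly S y := ⟨_, rfl⟩
  rw [← hF] at h0
  have hmonic : F.Monic := by rw [hF]; exact minpoly.monic hy
  have hm : 0 < F.natDegree := by rw [hF]; exact minpoly.natDegree_pos hy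
  obtain ⟨c, hc⟩ : ∃ c : S, c = algebraMap k S ((F.natDegree : k)⁻¹) := ⟨_, rfl⟩
  have hcm : c * (F.natDegree : S) = 1 := by
    rw [hc, ← map_natCast (algebraMap k S), ← map_mul, inv_mul_cancel₀, map_one]
    exact Nat.cast_ne_zero.mpr hm.ne'
  obtain ⟨G, hG⟩ : ∃ G : S[X], G = C c * derivative F := ⟨_, rfl⟩
  have hdeg : G.natDegree ≤ F.natDegree - 1 := by
    rw [hG]
    exact (natDegree_C_mul_le _ _).trans (natDegree_derivative_le F)
  have hcoeff : G.coeff (F.natDegree - 1) = 1 := by
    rw [hG, coeff_C_mul, coeff_derivative, Nat.sub_add_cancel hm, hmonic.coeff_natDegree, one_mul]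
    have h2 : ((F.natDegree - 1 : ℕ) : S) + 1 = (F.natDegree : S) := by
      rw [← Nat.cast_succ, Nat.succ_eq_add_one, Nat.sub_add_cancel hm]
    rw [h2, hcm]
  have hGmonic : G.Monic := monic_of_natDegree_le_of_coeff_eq_one _ hdeg hcoeff
  have hG0 : aeval y G = 0 := by rw [hG, map_mul, h0, mul_zero]
  have h1 := natDegree_le_natDegree (minpoly.min S y hGmonic hG0)
  rw [← hF] at h1
  omega

end Sep

section

variable (k A : Type u) [Field k] [CommRing A] [IsLocalRing A] [IsNoetherianRing A] [Algebra k A]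
  [IsAdicComplete (maximalIdeal A) A] [Module.Finite k (ResidueField A)]

local notation "Ωh" => AdicCompletion (maximalIdeal A) (Ω[A⁄k])

/-- the fibre differential as a `ℤ`-derivation -/
noncomputable def δDer (P : Ideal A) [P.IsPrime] : Derivation ℤ A (P.ResidueField ⊗[A] Ωh) :=
  Derivation.mk'
    (AddMonoidHom.toIntLinearMap
      { toFun := RIo.δ k A P
        map_zero' := RIo.δ_zero k A P
        map_add' := RIo.δ_add k A P })
    (fun a b => by
      show RIo.δ k A P (a * b) = a • RIo.δ k A P b + b • RIo.δ k A P a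
      rw [RIo.δ_mul, algebraMap_smul, algebraMap_smul])

theorem δDer_apply (P : Ideal A) [P.IsPrime] (a : A) : δDer k A P a = RIo.δ k A P a := rfl

theorem δ_mem_of_mem (P : Ideal A) [P.IsPrime] (h : ℕ) (x : Fin h → Localization.AtPrime P)
    (hx : maximalIdeal (Localization.AtPrime P) = Ideal.span (Set.range x)) :
    ∃ a : Fin h → A, ∀ z ∈ P, RIo.δ k A P z ∈
      Submodule.span P.ResidueField (Set.range fun i => RIo.δ k A P (a i)) := by
  classical
  have hmk : ∀ i, ∃ (a : A) (s : P.primeCompl),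
      IsLocalization.mk' (Localization.AtPrime P) a s = x i :=
    fun i => IsLocalization.exists_mk'_eq P.primeCompl (x i)
  choose a s has using hmk
  have haP : ∀ i, a i ∈ P := by
    intro i
    have h1 : x i ∈ maximalIdeal (Localization.AtPrime P) := by
      rw [hx]; exact Ideal.subset_span ⟨i, rfl⟩
    rw [← has i, IsLocalization.AtPrime.mk'_mem_maximal_iff (Localization.AtPrime P) P] at h1
    exact h1
  refine ⟨a, fun z hz => ?_⟩
  obtain ⟨S, hS⟩ : ∃ S : Submodule P.ResidueField (P.ResidueField ⊗[A] Ωh),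
      S = Submodule.span P.ResidueField (Set.range fun i => RIo.δ k A P (a i)) := ⟨_, rfl⟩
  rw [← hS]
  obtain ⟨I, hI⟩ : ∃ I : Ideal A, I = Ideal.span (Set.range a) := ⟨_, rfl⟩
  have hres : ∀ v : A, v ∈ P → algebraMap A P.ResidueField v = 0 := fun v hv =>
    Ideal.algebraMap_residueField_eq_zero.mpr hv
  have hI1 : ∀ y ∈ I, y ∈ P ∧ RIo.δ k A P y ∈ S := by
    intro y hy
    rw [hI] at hy
    refine Submodule.span_induction ?_ ?_ ?_ ?_ hy
    · rintro _ ⟨i, rfl⟩
      exact ⟨haP i, by rw [hS]; exact Submodule.subset_span ⟨i, rfl⟩⟩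
    · exact ⟨P.zero_mem, by rw [RIo.δ_zero]; exact S.zero_mem⟩
    · rintro y₁ y₂ _ _ ⟨h1, h2⟩ ⟨h3, h4⟩
      exact ⟨P.add_mem h1 h3, by rw [RIo.δ_add]; exact S.add_mem h2 h4⟩
    · rintro c y₁ _ ⟨h1, h2⟩
      refine ⟨P.mul_mem_left c h1, ?_⟩
      rw [smul_eq_mul, RIo.δ_mul, hres y₁ h1, zero_smul, add_zero]
      exact S.smul_mem _ h2
  have hzmap : algebraMap A (Localization.AtPrime P) z ∈
      I.map (algebraMap A (Localization.AtPrime P)) := by
    have h1 : algebraMap A (Localization.AtPrime P) z ∈ maximalIdeal (Localization.AtPrime P) :=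
      (IsLocalization.AtPrime.to_map_mem_maximal_iff (Localization.AtPrime P) P z).mpr hz
    rw [hx] at h1
    refine (Ideal.span_le.mpr ?_) h1
    rintro _ ⟨i, rfl⟩
    rw [SetLike.mem_coe, ← has i, IsLocalization.mk'_eq_mul_mk'_one]
    refine Ideal.mul_mem_right _ _ (Ideal.mem_map_of_mem _ ?_)
    rw [hI]
    exact Ideal.subset_span ⟨i, rfl⟩
  obtain ⟨⟨⟨y, hy⟩, t⟩, hyt⟩ :=
    (IsLocalization.mem_map_algebraMap_iff P.primeCompl (Localization.AtPrime P)).mp hzmap
  have h2 : algebraMap A (Localization.AtPrime P) (z * t) =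
      algebraMap A (Localization.AtPrime P) y := by
    rw [map_mul]; exact hyt
  obtain ⟨u, hu⟩ := (IsLocalization.eq_iff_exists P.primeCompl (Localization.AtPrime P)).mp h2
  obtain ⟨hyP, hyS⟩ := hI1 y hy
  have hLHS : RIo.δ k A P ((u : A) * (z * t)) =
      (algebraMap A P.ResidueField u * algebraMap A P.ResidueField t) • RIo.δ k A P z := by
    rw [RIo.δ_mul, RIo.δ_mul k A P z t, hres z hz, zero_smul, zero_add,
      hres (z * t) (P.mul_mem_right _ hz), zero_smul, add_zero, smul_smul]
  have hRHS : RIo.δ k A P ((u : A) * y) = algebraMap A P.ResidueField u • RIo.δ k A P y := by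
    rw [RIo.δ_mul, hres y hyP, zero_smul, add_zero]
  have hne : algebraMap A P.ResidueField u * algebraMap A P.ResidueField t ≠ 0 := by
    apply mul_ne_zero
    · intro h0
      exact u.2 (Ideal.algebraMap_residueField_eq_zero.mp h0)
    · intro h0
      exact t.2 (Ideal.algebraMap_residueField_eq_zero.mp h0)
  rw [← Submodule.smul_mem_iff S hne, ← hLHS, hu, hRHS]
  exact S.smul_mem _ hyS

theorem main_bound_zero [CharZero k] (P : Ideal A) [P.IsPrime]
    (hP : CAlg.IsGeometricallyRegular k (Localization.AtPrime P)) :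
    ∃ h d : ℕ, ((h : ℕ∞) : WithBot ℕ∞) = ringKrullDim (Localization.AtPrime P) ∧
      (d : WithBot ℕ∞) ≤ ringKrullDim (A ⧸ P) ∧
      Module.finrank P.ResidueField (P.ResidueField ⊗[A] Ωh) ≤ h + d := by
  classical
  haveI : Module.Finite A Ωh := RIo.finite_Ωh k A
  have hfs := RIv.adicFS_of_isGeometricallyRegular k (Localization.AtPrime P) hP
  haveI hreg : IsRegularLocalRing (Localization.AtPrime P) :=
    (Groth.Agent.Lib.Helper21.CohenStruct.regular_of_isAdicFormallySmooth k
      (Localization.AtPrime P) hfs).1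
  obtain ⟨s, hscard, hsspan⟩ := Submodule.FG.exists_span_finset_card_eq_spanFinrank
    (IsNoetherian.noetherian (maximalIdeal (Localization.AtPrime P)))
  obtain ⟨x, hx⟩ := RIo.exists_fin_span_eq s s.card le_rfl
  have hxm : maximalIdeal (Localization.AtPrime P) = Ideal.span (Set.range x) := by
    rw [hx]; exact hsspan.symm
  obtain ⟨a, ha⟩ := δ_mem_of_mem k A P s.card x hxm
  -- the quotient
  haveI : IsDomain (A ⧸ P) := Ideal.Quotient.isDomain P
  haveI : IsLocalRing (A ⧸ P) :=
    IsLocalRing.of_surjective' (Ideal.Quotient.mk P) Ideal.Quotient.mk_surjective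
  haveI : Module.Finite k (ResidueField (A ⧸ P)) :=
    Groth.Agent.Lib.Helper21.RIk.finite_residueField_quotient k A P
  obtain ⟨s₀, hs₀min, hs₀card⟩ :=
    Ideal.exists_finset_card_eq_height_of_isNoetherianRing (maximalIdeal (A ⧸ P))
  obtain ⟨d, hd⟩ : ∃ d : ℕ, d = s₀.card := ⟨_, rfl⟩
  obtain ⟨x₀, hx₀⟩ := RIo.exists_fin_span_eq s₀ d hd.ge
  have hx₀m : ∀ i, x₀ i ∈ maximalIdeal (A ⧸ P) := by
    intro i
    apply hs₀min.1.2
    rw [← hx₀]
    exact Ideal.subset_span ⟨i, rfl⟩
  choose t ht using fun i => Ideal.Quotient.mk_surjective (x₀ i)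
  have htm : ∀ i, t i ∈ maximalIdeal A := by
    intro i
    have h1 := hx₀m i
    rw [← ht i, mem_maximalIdeal, mem_nonunits_iff] at h1
    rw [mem_maximalIdeal, mem_nonunits_iff]
    intro hu
    exact h1 (hu.map _)
  obtain ⟨φ, hφ⟩ := Groth.Agent.Lib.Helper26.PowerSeriesRLR.exists_algHom k t htm
  obtain ⟨w, hw⟩ : ∃ w : MvPowerSeries (Fin d) k →ₐ[k] A ⧸ P,
      w = (Ideal.Quotient.mkₐ k P).comp φ := ⟨_, rfl⟩
  have hwφ : ∀ f, w f = Ideal.Quotient.mk P (φ f) := fun f => by rw [hw]; rfl
  have hwX : ∀ i, w (MvPowerSeries.X i) = x₀ i := fun i => by rw [hwφ, hφ, ht]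
  have hmin : maximalIdeal (A ⧸ P) ∈
      (Ideal.span (Set.range fun i => w (MvPowerSeries.X i))).minimalPrimes := by
    rw [funext hwX, hx₀]
    exact hs₀min
  obtain ⟨-, hfin⟩ := Groth.Agent.Lib.Helper26.CompleteFinite.finite_of_primary w hmin
  have hdd : (d : WithBot ℕ∞) ≤ ringKrullDim (A ⧸ P) := by
    rw [← IsLocalRing.maximalIdeal_height_eq_ringKrullDim, ← hs₀card, hd]
    exact le_rfl
  letI := w.toRingHom.toAlgebra
  have halg : ∀ f, algebraMap (MvPowerSeries (Fin d) k) (A ⧸ P) f = w f := fun f => rfl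
  haveI : Module.Finite (MvPowerSeries (Fin d) k) (A ⧸ P) := hfin
  haveI : Algebra.IsIntegral (MvPowerSeries (Fin d) k) (A ⧸ P) :=
    Algebra.IsIntegral.of_finite _ _
  obtain ⟨S, hS⟩ : ∃ S : Submodule P.ResidueField (P.ResidueField ⊗[A] Ωh),
      S = Submodule.span P.ResidueField (Set.range fun i => RIo.δ k A P (a i)) := ⟨_, rfl⟩
  obtain ⟨T, hT⟩ : ∃ T : Submodule P.ResidueField (P.ResidueField ⊗[A] Ωh),
      T = Submodule.span P.ResidueField (Set.range fun i => RIo.δ k A P (t i)) := ⟨_, rfl⟩
  rw [← hS] at ha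
  -- differentials of power series in the parameters
  have hTφ : ∀ f, RIo.δ k A P (φ f) ∈ T := by
    intro f
    obtain ⟨N₁, hN₁⟩ : ∃ N₁ : Submodule A Ωh,
        N₁ = Submodule.span A (Set.range fun i => RIo.dh k A (t i)) := ⟨_, rfl⟩
    have h1 := RIp.map_D_eq_zero k A d φ (fun i => by rw [hφ]; exact htm i)
      (N₁.mkQ ∘ₗ AdicCompletion.of (maximalIdeal A) (Ω[A⁄k]))
      (fun i => by
        rw [hφ, LinearMap.comp_apply, Submodule.mkQ_apply, Submodule.Quotient.mk_eq_zero, hN₁]
        exact Submodule.subset_span ⟨i, rfl⟩) f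
    rw [LinearMap.comp_apply, Submodule.mkQ_apply, Submodule.Quotient.mk_eq_zero] at h1
    have h2 : N₁ ≤ Submodule.comap (TensorProduct.mk A P.ResidueField Ωh 1)
        (T.restrictScalars A) := by
      rw [hN₁, Submodule.span_le]
      rintro _ ⟨i, rfl⟩
      show (1 : P.ResidueField) ⊗ₜ[A] RIo.dh k A (t i) ∈ T
      rw [hT]
      exact Submodule.subset_span ⟨i, rfl⟩
    exact h2 h1
  -- every differential
  have hall : ∀ b : A, RIo.δ k A P b ∈ S ⊔ T := by
    intro b
    have hy : IsIntegral (MvPowerSeries (Fin d) k) (Ideal.Quotient.mk P b) :=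
      Algebra.IsIntegral.isIntegral _
    obtain ⟨F, hF⟩ : ∃ F : (MvPowerSeries (Fin d) k)[X],
        F = minpoly (MvPowerSeries (Fin d) k) (Ideal.Quotient.mk P b) := ⟨_, rfl⟩
    have hne := aeval_derivative_minpoly_ne_zero k (Ideal.Quotient.mk P b) hy
    rw [← hF] at hne
    have hF0 : aeval (Ideal.Quotient.mk P b) F = 0 := by rw [hF]; exact minpoly.aeval _ _
    obtain ⟨G, hG⟩ : ∃ G : A[X], G = F.map φ.toRingHom := ⟨_, rfl⟩
    have hmkeval : ∀ H : (MvPowerSeries (Fin d) k)[X],
        Ideal.Quotient.mk P ((H.map φ.toRingHom).eval b) = aeval (Ideal.Quotient.mk P b) H := by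
      intro H
      rw [eval_map, hom_eval₂, aeval_def]
      congr 1
      refine RingHom.ext fun f => ?_
      rw [halg, hwφ]
      rfl
    have hzP : G.eval b ∈ P := by
      rw [← Ideal.Quotient.eq_zero_iff_mem, hG, hmkeval, hF0]
    have h1 := derivation_eval (δDer k A P) G b
    rw [δDer_apply, δDer_apply] at h1
    have hsum : G.sum (fun j c => b ^ j • δDer k A P c) ∈ T := by
      rw [Polynomial.sum_def]
      refine Submodule.sum_mem _ fun j _ => ?_
      rw [δDer_apply, hG, coeff_map, ← algebraMap_smul P.ResidueField (b ^ j)]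
      exact T.smul_mem _ (hTφ _)
    have hcne : algebraMap A P.ResidueField (G.derivative.eval b) ≠ 0 := by
      rw [IsScalarTower.algebraMap_apply A (A ⧸ P) P.ResidueField, hG, derivative_map]
      have h3 : algebraMap A (A ⧸ P) ((F.derivative.map φ.toRingHom).eval b) =
          aeval (Ideal.Quotient.mk P b) (derivative F) := hmkeval _
      rw [h3]
      intro h0
      apply hne
      exact (IsFractionRing.injective (A ⧸ P) P.ResidueField) (by rw [h0, map_zero])
    have h4 : algebraMap A P.ResidueField (G.derivative.eval b) • RIo.δ k A P b ∈ S ⊔ T := by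
      rw [algebraMap_smul]
      have h5 : (G.derivative.eval b) • RIo.δ k A P b =
          RIo.δ k A P (G.eval b) - G.sum (fun j c => b ^ j • δDer k A P c) := by
        rw [h1]; abel
      rw [h5]
      exact Submodule.sub_mem _ (Submodule.mem_sup_left (ha _ hzP)) (Submodule.mem_sup_right hsum)
    exact (Submodule.smul_mem_iff _ hcne).mp h4
  have htop : S ⊔ T = ⊤ := by
    rw [eq_top_iff, ← RIo.span_δ k A P, Submodule.span_le]
    rintro _ ⟨b, rfl⟩
    exact hall b
  refine ⟨s.card, d, ?_, hdd, ?_⟩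
  · rw [hscard]
    exact hreg.spanFinrank_maximalIdeal ▸ rfl
  · have h1 : Module.finrank P.ResidueField (P.ResidueField ⊗[A] Ωh) =
        Module.finrank P.ResidueField ↥(S ⊔ T) := by
      rw [htop, finrank_top]
    have h2 := Submodule.finrank_add_le_finrank_add_finrank S T
    have h3 : Module.finrank P.ResidueField S ≤ s.card := by
      rw [hS]
      have := finrank_range_le_card (R := P.ResidueField) (fun i => RIo.δ k A P (a i))
      rwa [Fintype.card_fin] at this
    have h4 : Module.finrank P.ResidueField T ≤ d := by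
      rw [hT]
      have := finrank_range_le_card (R := P.ResidueField) (fun i => RIo.δ k A P (t i))
      rwa [Fintype.card_fin] at this
    omega

end

end Groth.Agent.Lib.Helper21.RIw
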