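import Mathlib
import Groth.Agent.Lib.Helper21.RIw
import Groth.Agent.Lib.Helper21.RIq
import Groth.Agent.Lib.Helper12.OrdTools
import Groth.Agent.Lib.Helper12.DimFT
import Groth.Agent.Lib.Helper9.RegLocal

/-!
# Helper library (helper21): completed differentials at a geometrically regular prime are free
of the expected rank (EGA 0_IV 22.7.3)
-/

set_option autoImplicit false
set_option linter.style.haveILetI false

namespace Groth.Agent.Lib.Helper21.RIx

open IsLocalRing TensorProduct

universe u

section Nak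

theorem exists_smul_mem_of_span_tmul_eq_top {A : Type*} [CommRing A] {M : Type*} [AddCommGroup M]
    [Module A M] [Module.Finite A M] (P : Ideal A) [P.IsPrime] {ι : Type*} (x : ι → M)
    (hsp : Submodule.span P.ResidueField
      (Set.range fun i => (1 : P.ResidueField) ⊗ₜ[A] x i) = ⊤) (y : M) :
    ∃ v : A, v ∈ P.primeCompl ∧ v • y ∈ Submodule.span A (Set.range x) := by
  obtain ⟨N, hN⟩ : ∃ N : Submodule A M, N = Submodule.span A (Set.range x) := ⟨_, rfl⟩
  rw [← hN]
  have hsub : Subsingleton (P.ResidueField ⊗[A] (M ⧸ N)) := by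
    obtain ⟨g, hg⟩ : ∃ g : P.ResidueField ⊗[A] M →ₗ[P.ResidueField] P.ResidueField ⊗[A] (M ⧸ N),
        g = N.mkQ.baseChange P.ResidueField := ⟨_, rfl⟩
    have hzero : ∀ z, g z = 0 := by
      intro z
      have hz : z ∈ Submodule.span P.ResidueField
          (Set.range fun i => (1 : P.ResidueField) ⊗ₜ[A] x i) := by rw [hsp]; trivial
      refine Submodule.span_induction ?_ ?_ ?_ ?_ hz
      · rintro _ ⟨i, rfl⟩
        rw [hg, LinearMap.baseChange_tmul, Submodule.mkQ_apply,
          (Submodule.Quotient.mk_eq_zero N).mpr (by rw [hN]; exact Submodule.subset_span ⟨i, rfl⟩),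
          TensorProduct.tmul_zero]
      · exact map_zero g
      · intro z₁ z₂ _ _ h₁ h₂
        rw [map_add, h₁, h₂, add_zero]
      · intro c z₁ _ h₁
        rw [map_smul, h₁, smul_zero]
    have hsurj : Function.Surjective g := by
      have hc : (g : _ → _) = N.mkQ.lTensor P.ResidueField := by
        rw [hg]; exact LinearMap.baseChange_eq_ltensor _
      rw [hc]
      exact LinearMap.lTensor_surjective _ N.mkQ_surjective
    refine subsingleton_of_forall_eq 0 fun w => ?_
    obtain ⟨z, rfl⟩ := hsurj w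
    exact hzero z
  have hnot : (⟨P, inferInstance⟩ : PrimeSpectrum A) ∉ Module.support A (M ⧸ N) := by
    rw [Module.mem_support_iff_nontrivial_residueField_tensorProduct]
    exact not_nontrivial_iff_subsingleton.mpr hsub
  obtain ⟨r, hr, hr0⟩ := Module.notMem_support_iff'.mp hnot (N.mkQ y)
  refine ⟨r, hr, ?_⟩
  rw [← map_smul, Submodule.mkQ_apply, Submodule.Quotient.mk_eq_zero] at hr0
  exact hr0

end Nak

section Height

variable {A : Type u} [CommRing A]

theorem eq_ker_of_minimal (P : Ideal A) [P.IsPrime] [IsDomain (Localization.AtPrime P)]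
    (q₀ : Ideal A) (hq₀ : q₀ ∈ minimalPrimes A) (hle : q₀ ≤ P) :
    q₀ = RingHom.ker (algebraMap A (Localization.AtPrime P)) := by
  haveI : q₀.IsPrime := hq₀.1.1
  haveI hkp : (RingHom.ker (algebraMap A (Localization.AtPrime P))).IsPrime :=
    RingHom.ker_isPrime _
  have h1 : RingHom.ker (algebraMap A (Localization.AtPrime P)) ≤ q₀ := by
    intro a ha
    rw [RingHom.mem_ker, IsLocalization.map_eq_zero_iff P.primeCompl] at ha
    obtain ⟨s, hs⟩ := ha
    have h2 : (s : A) * a ∈ q₀ := by rw [hs]; exact q₀.zero_mem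
    rcases Ideal.IsPrime.mem_or_mem ‹q₀.IsPrime› h2 with h3 | h3
    · exact absurd (hle h3) s.2
    · exact h3
  exact le_antisymm (hq₀.2 ⟨hkp, bot_le⟩ h1) h1

theorem height_add_le (q P : Ideal A) [P.IsPrime] (hq : q ∈ minimalPrimes A) (hqP : q ≤ P)
    [IsDomain (Localization.AtPrime P)] (h : ℕ) (hh : P.height = h) :
    (h : WithBot ℕ∞) + ringKrullDim (A ⧸ P) ≤ ringKrullDim (A ⧸ q) := by
  haveI hqprime : q.IsPrime := hq.1.1
  have hh' : Order.height (⟨P, inferInstance⟩ : PrimeSpectrum A) = h := by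
    rw [← PrimeSpectrum.height_eq_orderHeight]; exact hh
  obtain ⟨l, hlast, hlen⟩ := Order.exists_series_of_height_eq_coe _ hh'
  have hhead : (⟨q, hqprime⟩ : PrimeSpectrum A) ≤ l.head := by
    obtain ⟨q₀, hq₀, hq₀le⟩ := Ideal.exists_minimalPrimes_le
      (bot_le : (⊥ : Ideal A) ≤ l.head.asIdeal)
    have h1 : l.head ≤ l.last := LTSeries.head_le_last l
    have h2 : q₀ ≤ P := by
      intro a ha
      have h3 : a ∈ l.last.asIdeal := h1 (hq₀le ha)
      rw [hlast] at h3
      exact h3
    have h4 : q₀ = q := by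
      rw [eq_ker_of_minimal P q₀ hq₀ h2, eq_ker_of_minimal P q hq hqP]
    show q ≤ l.head.asIdeal
    rw [← h4]
    exact hq₀le
  have h1 := Groth.Agent.Lib.Helper12.OrdTools.coheight_last_add_length_le l
  have h2 : Order.coheight l.head ≤ Order.coheight (⟨q, hqprime⟩ : PrimeSpectrum A) :=
    Order.coheight_anti hhead
  rw [hlast, hlen] at h1
  have h3 := Groth.Agent.Lib.Helper12.DimFT.ringKrullDim_quotient_eq_coheight
    (⟨P, inferInstance⟩ : PrimeSpectrum A)
  have h4 := Groth.Agent.Lib.Helper12.DimFT.ringKrullDim_quotient_eq_coheight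
    (⟨q, hqprime⟩ : PrimeSpectrum A)
  rw [h3, h4, add_comm]
  exact_mod_cast h1.trans h2

end Height

section Char

theorem charP_of_expChar_of_prime (R : Type*) [AddMonoidWithOne R] (p : ℕ) [hR : ExpChar R p]
    (hp : p.Prime) : CharP R p := by
  cases hR with
  | zero => exact absurd hp Nat.not_prime_one
  | prime _ => infer_instance

end Char

section Main

variable (k A : Type u) [Field k] [CommRing A] [IsLocalRing A] [IsNoetherianRing A] [Algebra k A]
  [IsAdicComplete (maximalIdeal A) A] [Module.Finite k (ResidueField A)]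

local notation "Ωh" => AdicCompletion (maximalIdeal A) (Ω[A⁄k])

theorem bound (p : ℕ) [ExpChar k p] (hk : (frobenius k p).Finite) (P : Ideal A) [P.IsPrime]
    (hP : CAlg.IsGeometricallyRegular k (Localization.AtPrime P)) :
    ∃ h d : ℕ, ((h : ℕ∞) : WithBot ℕ∞) = ringKrullDim (Localization.AtPrime P) ∧
      (d : WithBot ℕ∞) ≤ ringKrullDim (A ⧸ P) ∧
      Module.finrank P.ResidueField (P.ResidueField ⊗[A] Ωh) ≤ h + d := by
  rcases expChar_is_prime_or_one k p with hprime | h1
  · haveI : CharP k p := charP_of_expChar_of_prime k p hprime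
    haveI : Module.Finite k (RIs.FM (frobenius k p)) := hk
    obtain ⟨N, c, hc⟩ := RIs.FM.exists_gens (frobenius k p)
    exact RIv.main_bound k A p hprime N c (fun x => by
      obtain ⟨b, hb⟩ := hc x
      exact ⟨b, by simpa [frobenius_def] using hb⟩) P hP
  · subst h1
    haveI : CharZero k := charZero_of_expChar_one' k
    exact RIw.main_bound_zero k A P hP

theorem main (p : ℕ) [ExpChar k p] (hk : (frobenius k p).Finite) (P : Ideal A) [P.IsPrime]
    (hP : CAlg.IsGeometricallyRegular k (Localization.AtPrime P))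
    (q : Ideal A) (hq : q ∈ minimalPrimes A) (hqP : q ≤ P) (n : ℕ)
    (hn : ringKrullDim (A ⧸ q) = n) :
    Module.Free (Localization.AtPrime P) (LocalizedModule P.primeCompl Ωh) ∧
      Module.finrank (Localization.AtPrime P) (LocalizedModule P.primeCompl Ωh) = n := by
  classical
  haveI : Module.Finite A Ωh := RIo.finite_Ωh k A
  have hfs := RIv.adicFS_of_isGeometricallyRegular k (Localization.AtPrime P) hP
  haveI hreg : IsRegularLocalRing (Localization.AtPrime P) :=
    (Groth.Agent.Lib.Helper21.CohenStruct.regular_of_isAdicFormallySmooth k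
      (Localization.AtPrime P) hfs).1
  haveI : IsDomain (Localization.AtPrime P) :=
    Groth.Agent.Lib.Helper9.RegLocal.isDomain_of_isRegularLocalRing _
  obtain ⟨h, d, hh, hd, hfin⟩ := bound k A p hk P hP
  have hPh : P.height = h := by
    have h1 := IsLocalization.AtPrime.ringKrullDim_eq_height P (Localization.AtPrime P)
    rw [← hh] at h1
    exact_mod_cast h1.symm
  have h2 := height_add_le q P hq hqP h hPh
  have hle : h + d ≤ n := by
    have h3 : (h : WithBot ℕ∞) + (d : WithBot ℕ∞) ≤ (n : WithBot ℕ∞) := by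
      rw [← hn]
      exact (add_le_add_right hd _).trans h2
    exact_mod_cast h3
  have hfin' : Module.finrank P.ResidueField (P.ResidueField ⊗[A] Ωh) ≤ n := hfin.trans hle
  obtain ⟨u, huS, husp⟩ := RIo.greedy (Set.range (RIo.δ k A P))
    ⟨0, RIo.δ_zero k A P⟩ (RIo.span_δ k A P) n hfin' (fun _ => 0)
  choose a ha using huS
  have hsp : Submodule.span P.ResidueField
      (Set.range fun i => (1 : P.ResidueField) ⊗ₜ[A] RIo.dh k A (a i)) = ⊤ := by
    rw [← husp]
    congr 1
    ext z
    constructor
    · rintro ⟨i, rfl⟩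
      refine ⟨i, ?_⟩
      show 0 + u i = (1 : P.ResidueField) ⊗ₜ[A] RIo.dh k A (a i)
      rw [zero_add, ← ha i]
      rfl
    · rintro ⟨i, rfl⟩
      refine ⟨i, ?_⟩
      show (1 : P.ResidueField) ⊗ₜ[A] RIo.dh k A (a i) = 0 + u i
      rw [zero_add, ← ha i]
      rfl
  have hall := exists_smul_mem_of_span_tmul_eq_top P (fun i => RIo.dh k A (a i)) hsp
  have hsp2 := RIo.span_mk_eq_top_of_forall P.primeCompl (fun i => RIo.dh k A (a i)) hall
  exact RIq.free_of_span k A P q hq hqP n hn (fun i => RIo.dh k A (a i)) hsp2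

end Main

end Groth.Agent.Lib.Helper21.RIx
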