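import Mathlib

set_option linter.style.haveILetI false

/-!
# Hensel's lemma in a complete ultrametric normed field
-/

namespace Groth.Agent.Lib.Helper21.RIy

open Polynomial Filter Topology
open scoped NormedField

variable {K : Type*} [NontriviallyNormedField K] [IsUltrametricDist K]

lemma mem_span_pow_iff (ϖ : Valued.integer K) (n : ℕ) (x : Valued.integer K) :
    x ∈ (Ideal.span {ϖ}) ^ n ↔ ‖x‖ ≤ ‖ϖ‖ ^ n := by
  rw [Ideal.span_singleton_pow, ← SetLike.mem_coe,
    Valued.integer.coe_span_singleton_eq_closedBall]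
  simp [norm_pow]

variable [CompleteSpace K]

theorem isAdicComplete_span (ϖ : Valued.integer K) (h1 : ‖ϖ‖ < 1) :
    IsAdicComplete (Ideal.span {ϖ}) (Valued.integer K) := by
  have hC : CompleteSpace (Valued.integer K) := by
    have : IsClosed ((Valued.integer K : Subring K) : Set K) := by
      have : ((Valued.integer K : Subring K) : Set K) = Metric.closedBall 0 1 := by
        ext x; simp [Valued.integer.mem_iff]
      rw [this]; exact Metric.isClosed_closedBall
    exact this.completeSpace_coe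
  have key := mem_span_pow_iff ϖ
  have htend : Tendsto (fun n : ℕ => 2 * ‖ϖ‖ ^ n) atTop (𝓝 0) := by
    simpa using (tendsto_pow_atTop_nhds_zero_of_lt_one (norm_nonneg _) h1).const_mul 2
  have htend1 : Tendsto (fun n : ℕ => ‖ϖ‖ ^ n) atTop (𝓝 0) :=
    tendsto_pow_atTop_nhds_zero_of_lt_one (norm_nonneg _) h1
  refine { haus' := ?_, prec' := ?_ }
  · intro x hx
    have hx' : ∀ n, ‖x‖ ≤ ‖ϖ‖ ^ n := fun n => by
      have := hx n
      rw [SModEq.zero] at this
      exact (key n x).1 (by simpa [smul_eq_mul, Ideal.mul_top] using this)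
    have : ‖x‖ ≤ 0 := ge_of_tendsto' htend1 hx'
    exact norm_le_zero_iff.1 this
  · intro f hf
    have hf' : ∀ {m n}, m ≤ n → ‖f m - f n‖ ≤ ‖ϖ‖ ^ m := fun {m n} hmn => by
      have := hf hmn
      rw [SModEq.sub_mem] at this
      exact (key m _).1 (by simpa [smul_eq_mul, Ideal.mul_top] using this)
    have hcau : CauchySeq f := by
      refine cauchySeq_of_le_tendsto_0 (fun n => 2 * ‖ϖ‖ ^ n) ?_ htend
      intro n m N hNn hNm
      rw [dist_eq_norm]
      calc ‖f n - f m‖ = ‖(f N - f m) - (f N - f n)‖ := by congr 1; ring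
        _ ≤ ‖f N - f m‖ + ‖f N - f n‖ := norm_sub_le _ _
        _ ≤ ‖ϖ‖ ^ N + ‖ϖ‖ ^ N := add_le_add (hf' hNm) (hf' hNn)
        _ = 2 * ‖ϖ‖ ^ N := by ring
    obtain ⟨L, hL⟩ := cauchySeq_tendsto_of_complete hcau
    refine ⟨L, fun n => ?_⟩
    rw [SModEq.sub_mem]
    have : ‖f n - L‖ ≤ ‖ϖ‖ ^ n := by
      have ht : Tendsto (fun m => ‖f n - f m‖) atTop (𝓝 ‖f n - L‖) :=
        ((tendsto_const_nhds.sub hL).norm)
      exact le_of_tendsto ht (eventually_atTop.2 ⟨n, fun m hm => hf' hm⟩)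
    simpa [smul_eq_mul, Ideal.mul_top] using (key n _).2 this

/-- Hensel's lemma for a monic polynomial with integral coefficients. -/
theorem hensel (f : K[X]) (hf : f.Monic) (hc : ∀ i, ‖f.coeff i‖ ≤ 1) (a₀ : K) (ha₀ : ‖a₀‖ ≤ 1)
    (h1 : ‖f.eval a₀‖ < 1) (h2 : ‖f.derivative.eval a₀‖ = 1) : ∃ a : K, f.eval a = 0 := by
  by_cases h0 : f.eval a₀ = 0
  · exact ⟨a₀, h0⟩
  let R : Subring K := Valued.integer K
  have hcoef : (↑f.coeffs : Set K) ⊆ R := by
    intro c hc'
    obtain ⟨i, -, rfl⟩ := Polynomial.mem_coeffs_iff.1 hc'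
    exact Valued.integer.mem_iff.2 (hc i)
  let fR : R[X] := f.toSubring R hcoef
  have hmap : fR.map R.subtype = f := Polynomial.map_toSubring f R hcoef
  have hfR : fR.Monic := (Polynomial.monic_toSubring f R hcoef).2 hf
  let a₀R : R := ⟨a₀, Valued.integer.mem_iff.2 ha₀⟩
  have hev : ∀ (p : R[X]) (a : R), ((p.eval a : R) : K) = (p.map R.subtype).eval (a : K) := by
    intro p a
    rw [Polynomial.eval_map]
    exact (Polynomial.eval₂_at_apply R.subtype a).symm
  let ϖ : R := fR.eval a₀R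
  have hϖ1 : ‖ϖ‖ < 1 := by
    show ‖((fR.eval a₀R : R) : K)‖ < 1
    rw [hev, hmap]; exact h1
  haveI := isAdicComplete_span ϖ hϖ1
  have hunit : IsUnit (fR.derivative.eval a₀R) := by
    rw [Valued.integer.isUnit_iff_norm_eq_one]
    show ‖((fR.derivative.eval a₀R : R) : K)‖ = 1
    rw [hev, ← Polynomial.derivative_map, hmap]; exact h2
  obtain ⟨a, ha, -⟩ := HenselianRing.is_henselian (I := Ideal.span {ϖ}) fR hfR a₀R
    (Ideal.subset_span rfl) (hunit.map _)
  refine ⟨(a : K), ?_⟩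
  have := hev fR a
  rw [hmap, ha.eq_zero] at this
  exact this.symm

end Groth.Agent.Lib.Helper21.RIy
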