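import Mathlib

set_option linter.style.haveILetI false

/-!
# Weak approximation at finitely many finite and infinite places of a number field
-/

namespace Groth.Agent.Lib.Helper21.RIz

open IsDedekindDomain HeightOneSpectrum NumberField
open scoped WithZero

variable {k : Type*} [Field k] [NumberField k]

lemma norm_fin (v : HeightOneSpectrum (𝓞 k)) (x : k) :
    ‖algebraMap k (v.adicCompletion k) x‖ = NumberField.HeightOneSpectrum.adicAbv k v x :=
  FinitePlace.norm_embedding v x

omit [NumberField k] in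
lemma norm_inf (w : InfinitePlace k) (x : k) : ‖algebraMap k w.Completion x‖ = w x := by
  rw [InfinitePlace.Completion.algebraMap_apply]
  have := InfinitePlace.Completion.norm_coe w ((WithAbs.equiv w.1).symm x)
  simpa using this

lemma valued_algebraMap (v : HeightOneSpectrum (𝓞 k)) (x : k) :
    Valued.v (algebraMap k (v.adicCompletion k) x) = v.valuation k x := by
  rw [algebraMap_adicCompletion]
  simp

lemma norm_le_one_iff (v : HeightOneSpectrum (𝓞 k)) (x : k) :
    ‖algebraMap k (v.adicCompletion k) x‖ ≤ 1 ↔ v.valuation k x ≤ 1 := by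
  rw [Valued.toNormedField.norm_le_one_iff, valued_algebraMap]

lemma norm_lt_one_iff (v : HeightOneSpectrum (𝓞 k)) (x : k) :
    ‖algebraMap k (v.adicCompletion k) x‖ < 1 ↔ v.valuation k x < 1 := by
  rw [Valued.toNormedField.norm_lt_one_iff, valued_algebraMap]

lemma norm_le_iff (v : HeightOneSpectrum (𝓞 k)) (x y : k) :
    ‖algebraMap k (v.adicCompletion k) x‖ ≤ ‖algebraMap k (v.adicCompletion k) y‖ ↔
      v.valuation k x ≤ v.valuation k y := by
  rw [Valued.toNormedField.norm_le_iff, valued_algebraMap, valued_algebraMap]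

lemma adicAbv_lt_one_iff (v : HeightOneSpectrum (𝓞 k)) (x : k) :
    NumberField.HeightOneSpectrum.adicAbv k v x < 1 ↔ v.valuation k x < 1 := by
  rw [← norm_fin, norm_lt_one_iff]

lemma exp_neg_one_lt_one : (WithZero.exp (-1 : ℤ) : ℤᵐ⁰) < 1 := by
  rw [← WithZero.exp_zero, WithZero.exp_lt_exp]; norm_num

lemma adicAbv_isNontrivial (v : HeightOneSpectrum (𝓞 k)) :
    (NumberField.HeightOneSpectrum.adicAbv k v).IsNontrivial := by
  obtain ⟨π, hπ⟩ := v.valuation_exists_uniformizer k
  have hlt : v.valuation k π < 1 := by rw [hπ]; exact exp_neg_one_lt_one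
  refine ⟨π, ?_, ?_⟩
  · rintro rfl
    rw [map_zero] at hπ
    exact WithZero.exp_ne_zero hπ.symm
  · exact ((adicAbv_lt_one_iff v π).2 hlt).ne

lemma not_isEquiv_fin_fin {v v' : HeightOneSpectrum (𝓞 k)} (h : v ≠ v') :
    ¬ (NumberField.HeightOneSpectrum.adicAbv k v).IsEquiv
      (NumberField.HeightOneSpectrum.adicAbv k v') := by
  intro he
  have hne : ¬ v.asIdeal ≤ v'.asIdeal := fun hle =>
    h (HeightOneSpectrum.ext (v.isMaximal.eq_of_le v'.isPrime.ne_top hle))
  obtain ⟨x, hx, hx'⟩ := SetLike.not_le_iff_exists.1 hne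
  have h1 : NumberField.HeightOneSpectrum.adicAbv k v (algebraMap (𝓞 k) k x) < 1 :=
    (adicAbv_lt_one_iff v _).2 ((v.valuation_lt_one_iff_mem x).2 hx)
  have h2 : ¬ NumberField.HeightOneSpectrum.adicAbv k v' (algebraMap (𝓞 k) k x) < 1 := fun hh =>
    hx' ((v'.valuation_lt_one_iff_mem x).1 ((adicAbv_lt_one_iff v' _).1 hh))
  exact h2 (he.lt_one_iff.1 h1)

lemma not_isEquiv_fin_inf (v : HeightOneSpectrum (𝓞 k)) (w : InfinitePlace k) :
    ¬ (NumberField.HeightOneSpectrum.adicAbv k v).IsEquiv w.1 := by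
  intro he
  have h1 : NumberField.HeightOneSpectrum.adicAbv k v ((2 : ℕ) : k) ≤ 1 :=
    NumberField.HeightOneSpectrum.adicAbv_natCast_le_one (K := k) v 2
  have h2 : w.1 ((2 : ℕ) : k) = 2 := by
    show w ((2 : ℕ) : k) = 2
    rw [w.map_natCast 2]; norm_num
  have := he.le_one_iff.1 h1
  rw [h2] at this; norm_num at this

theorem weak_approx (Sf : Finset (HeightOneSpectrum (𝓞 k))) (Si : Finset (InfinitePlace k))
    (zf : ∀ v : HeightOneSpectrum (𝓞 k), v.adicCompletion k)
    (zi : ∀ w : InfinitePlace k, w.Completion) (ε : ℝ) (hε : 0 < ε) :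
    ∃ a : k, (∀ v ∈ Sf, ‖algebraMap k (v.adicCompletion k) a - zf v‖ < ε) ∧
      (∀ w ∈ Si, ‖algebraMap k w.Completion a - zi w‖ < ε) := by
  classical
  have h1 : ∀ v : HeightOneSpectrum (𝓞 k), ∃ z : k,
      ‖algebraMap k (v.adicCompletion k) z - zf v‖ < ε / 2 := by
    intro v
    obtain ⟨z, hz⟩ := Metric.denseRange_iff.1 (denseRange_algebraMap (K := k) v) (zf v) (ε / 2)
      (by positivity)
    exact ⟨z, by rwa [dist_comm, dist_eq_norm] at hz⟩
  have h2 : ∀ w : InfinitePlace k, ∃ z : k, ‖algebraMap k w.Completion z - zi w‖ < ε / 2 := by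
    intro w
    obtain ⟨z, hz⟩ := Metric.denseRange_iff.1 (InfinitePlace.Completion.denseRange_coe w) (zi w)
      (ε / 2) (by positivity)
    refine ⟨z.ofAbs, ?_⟩
    rw [dist_comm, dist_eq_norm] at hz
    exact hz
  choose z1 hz1 using h1
  choose z2 hz2 using h2
  let ι := {v // v ∈ Sf} ⊕ {w // w ∈ Si}
  let abv : ι → AbsoluteValue k ℝ :=
    Sum.elim (fun v => NumberField.HeightOneSpectrum.adicAbv k v.1) (fun w => w.1.1)
  have hnt : ∀ i, (abv i).IsNontrivial := by
    rintro (v | w)
    · exact adicAbv_isNontrivial v.1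
    · exact w.1.isNontrivial
  have hpw : Pairwise fun i j => ¬ (abv i).IsEquiv (abv j) := by
    rintro (v | w) (v' | w') hne
    · exact not_isEquiv_fin_fin (fun h => hne (by rw [Subtype.ext h]))
    · exact not_isEquiv_fin_inf v.1 w'.1
    · exact fun he => not_isEquiv_fin_inf v'.1 w.1 he.symm
    · exact fun he => hne (by rw [Subtype.ext (InfinitePlace.eq_iff_isEquiv.2 he)])
  have hd := AbsoluteValue.denseRange_algebraMap_pi hnt hpw
  let z : ∀ i, WithAbs (abv i) := fun i =>
    WithAbs.toAbs (abv i) (Sum.elim (fun v => z1 v.1) (fun w => z2 w.1) i)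
  obtain ⟨a, ha⟩ := Metric.denseRange_iff.1 hd z (ε / 2) (by positivity)
  rw [dist_pi_lt_iff (by positivity)] at ha
  refine ⟨a, fun v hv => ?_, fun w hw => ?_⟩
  · have h := ha (Sum.inl ⟨v, hv⟩)
    have h' : NumberField.HeightOneSpectrum.adicAbv k v (a - z1 v) < ε / 2 := by
      rw [dist_comm, dist_eq_norm] at h
      exact h
    calc ‖algebraMap k (v.adicCompletion k) a - zf v‖
        = ‖algebraMap k (v.adicCompletion k) (a - z1 v) +
            (algebraMap k (v.adicCompletion k) (z1 v) - zf v)‖ := by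
          rw [map_sub]; ring_nf
      _ ≤ ‖algebraMap k (v.adicCompletion k) (a - z1 v)‖ +
            ‖algebraMap k (v.adicCompletion k) (z1 v) - zf v‖ := norm_add_le _ _
      _ < ε / 2 + ε / 2 := add_lt_add (by rw [norm_fin]; exact h') (hz1 v)
      _ = ε := by ring
  · have h := ha (Sum.inr ⟨w, hw⟩)
    have h' : w (a - z2 w) < ε / 2 := by
      rw [dist_comm, dist_eq_norm] at h
      exact h
    calc ‖algebraMap k w.Completion a - zi w‖
        = ‖algebraMap k w.Completion (a - z2 w) +
            (algebraMap k w.Completion (z2 w) - zi w)‖ := by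
          rw [map_sub]; ring_nf
      _ ≤ ‖algebraMap k w.Completion (a - z2 w)‖ +
            ‖algebraMap k w.Completion (z2 w) - zi w‖ := norm_add_le _ _
      _ < ε / 2 + ε / 2 := add_lt_add (by rw [norm_inf]; exact h') (hz2 w)
      _ = ε := by ring

end Groth.Agent.Lib.Helper21.RIz
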