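import Mathlib

set_option linter.style.haveILetI false

/-!
# The norm form of a finite field extension, after base change
-/

namespace Groth.Agent.Lib.Helper21.RJa

open scoped TensorProduct

variable {k L : Type*} [Field k] [Field L] [Algebra k L] {ι : Type*} [Fintype ι] [DecidableEq ι]
  (b : Module.Basis ι k L)

/-- The norm form of `L/k` in the coordinates of the basis `b`, with coefficients in a `k`-algebra. -/
noncomputable def F (K : Type*) [CommRing K] [Algebra k K] (ξ : ι → K) : K :=
  Matrix.det (Matrix.of fun j l => ∑ i, ξ i * algebraMap k K (Algebra.leftMulMatrix b (b i) j l))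

lemma continuous_F (K : Type*) [CommRing K] [Algebra k K] [TopologicalSpace K]
    [IsTopologicalRing K] : Continuous (F b K) := by
  unfold F
  refine Continuous.matrix_det (continuous_matrix fun j l => ?_)
  exact continuous_finset_sum _ fun i _ => (continuous_apply i).mul continuous_const

lemma leftMulMatrix_tmul (K : Type*) [CommRing K] [Algebra k K] (x : L) :
    Algebra.leftMulMatrix (Algebra.TensorProduct.basis K b) ((1 : K) ⊗ₜ[k] x) =
      (Algebra.leftMulMatrix b x).map (algebraMap k K) := by
  ext j l
  rw [Algebra.leftMulMatrix_eq_repr_mul, Matrix.map_apply, Algebra.leftMulMatrix_eq_repr_mul,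
    Algebra.TensorProduct.basis_apply, Algebra.TensorProduct.tmul_mul_tmul, mul_one,
    Algebra.TensorProduct.basis_repr_tmul]
  simp

theorem norm_tensor (K : Type*) [CommRing K] [Algebra k K] (ξ : ι → K) :
    Algebra.norm K (∑ i, ξ i • ((1 : K) ⊗ₜ[k] b i) : K ⊗[k] L) = F b K ξ := by
  rw [Algebra.norm_eq_matrix_det (Algebra.TensorProduct.basis K b), map_sum]
  simp_rw [map_smul, leftMulMatrix_tmul]
  unfold F
  congr 1
  ext j l
  simp [Matrix.sum_apply]

theorem exists_coord (K : Type*) [CommRing K] [Algebra k K] (x : K ⊗[k] L) :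
    ∃ ξ : ι → K, Algebra.norm K x = F b K ξ := by
  refine ⟨fun i => (Algebra.TensorProduct.basis K b).repr x i, ?_⟩
  rw [← norm_tensor]
  congr 1
  conv_lhs => rw [← (Algebra.TensorProduct.basis K b).sum_repr x]
  simp [Algebra.TensorProduct.basis_apply]

theorem algebraMap_norm (K : Type*) [CommRing K] [Algebra k K] (x : L) :
    algebraMap k K (Algebra.norm k x) = F b K (fun i => algebraMap k K (b.repr x i)) := by
  have hx : Algebra.leftMulMatrix b x = ∑ i, b.repr x i • Algebra.leftMulMatrix b (b i) := by
    conv_lhs => rw [← b.sum_repr x]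
    rw [map_sum]; simp_rw [map_smul]
  rw [Algebra.norm_eq_matrix_det b, RingHom.map_det, hx]
  unfold F
  congr 1
  ext j l
  simp [Matrix.sum_apply, map_sum]

end Groth.Agent.Lib.Helper21.RJa
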