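import Mathlib
import Groth.Agent.Lib.Helper21.RIy
import Groth.Agent.Lib.Helper21.RIz

set_option linter.style.haveILetI false

/-!
# Norms of linear forms in a primitive element and their valuations
-/

namespace Groth.Agent.Lib.Helper21.RJb

open IsDedekindDomain HeightOneSpectrum NumberField Polynomial
open scoped WithZero
open Groth.Agent.Lib.Helper21

section general

variable {k L : Type*} [Field k] [Field L] [Algebra k L] [FiniteDimensional k L]

lemma adjoin_sub_eq_top {y : L} (hprim : Algebra.adjoin k {y} = ⊤) (r : k) :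
    Algebra.adjoin k {y - algebraMap k L r} = ⊤ := by
  rw [eq_top_iff, ← hprim]
  refine Algebra.adjoin_le ?_
  intro x hx
  obtain rfl := Set.mem_singleton_iff.1 hx
  have h : (x - algebraMap k L r) + algebraMap k L r ∈
      Algebra.adjoin k {x - algebraMap k L r} :=
    add_mem (Algebra.subset_adjoin rfl) (Subalgebra.algebraMap_mem _ r)
  simpa using h

theorem natDegree_minpoly_eq {y : L} (hprim : Algebra.adjoin k {y} = ⊤) :
    (minpoly k y).natDegree = Module.finrank k L := by
  have hy : IsIntegral k y := IsIntegral.of_finite k y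
  rw [(PowerBasis.ofAdjoinEqTop hy hprim).finrank]
  rfl

theorem norm_sub_algebraMap {y : L} (hprim : Algebra.adjoin k {y} = ⊤) (r : k) :
    Algebra.norm k (y - algebraMap k L r) =
      (-1) ^ Module.finrank k L * (minpoly k y).eval r := by
  have hy' : IsIntegral k (y - algebraMap k L r) := IsIntegral.of_finite k _
  have h := Algebra.PowerBasis.norm_gen_eq_coeff_zero_minpoly
    (PowerBasis.ofAdjoinEqTop hy' (adjoin_sub_eq_top hprim r))
  rw [PowerBasis.ofAdjoinEqTop_gen, minpoly.sub_algebraMap] at h
  rw [h, ← (PowerBasis.ofAdjoinEqTop hy' (adjoin_sub_eq_top hprim r)).finrank,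
    Polynomial.coeff_zero_eq_eval_zero, Polynomial.eval_comp]
  simp

theorem norm_smul (c : k) (z : L) :
    Algebra.norm k (c • z) = c ^ Module.finrank k L * Algebra.norm k z := by
  rw [Algebra.smul_def, map_mul, Algebra.norm_algebraMap]

theorem norm_smul_sub {y : L} (hprim : Algebra.adjoin k {y} = ⊤) (a c : k) (hc : c ≠ 0) :
    Algebra.norm k (c • y - algebraMap k L a) =
      (-1) ^ Module.finrank k L * (c ^ Module.finrank k L * (minpoly k y).eval (a / c)) := by
  have : c • y - algebraMap k L a = c • (y - algebraMap k L (a / c)) := by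
    rw [smul_sub, Algebra.smul_def c (algebraMap k L (a / c)), ← map_mul, mul_div_cancel₀ _ hc]
  rw [this, norm_smul, norm_sub_algebraMap hprim]
  ring

theorem norm_smul_sub_eq_sum {y : L} (hprim : Algebra.adjoin k {y} = ⊤) (a c : k) :
    Algebra.norm k (c • y - algebraMap k L a) =
      (-1) ^ Module.finrank k L * ∑ i ∈ Finset.range (Module.finrank k L + 1),
        (minpoly k y).coeff i * a ^ i * c ^ (Module.finrank k L - i) := by
  have hy : IsIntegral k y := IsIntegral.of_finite k y
  have hdeg := natDegree_minpoly_eq hprim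
  have hcoef : (minpoly k y).coeff (Module.finrank k L) = 1 := by
    rw [← hdeg]; exact (minpoly.monic hy).coeff_natDegree
  by_cases hc : c = 0
  · subst hc
    rw [zero_smul, zero_sub, ← map_neg, Algebra.norm_algebraMap, Finset.sum_range_succ]
    have h0 : ∑ i ∈ Finset.range (Module.finrank k L),
        (minpoly k y).coeff i * a ^ i * (0 : k) ^ (Module.finrank k L - i) = 0 :=
      Finset.sum_eq_zero fun i hi => by
        rw [zero_pow (Nat.sub_ne_zero_of_lt (Finset.mem_range.1 hi)), mul_zero]
    rw [h0, zero_add, Nat.sub_self, pow_zero, mul_one, hcoef, one_mul, neg_pow]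
  · rw [norm_smul_sub hprim a c hc, Polynomial.eval_eq_sum_range, hdeg, Finset.mul_sum]
    congr 1
    refine Finset.sum_congr rfl fun i hi => ?_
    have hi' : i ≤ Module.finrank k L := Nat.lt_succ_iff.1 (Finset.mem_range.1 hi)
    rw [← pow_sub_mul_pow c hi', div_pow]
    field_simp

lemma val_eval_le_one {Γ₀ : Type*} [LinearOrderedCommGroupWithZero Γ₀] (val : Valuation k Γ₀)
    (p : k[X]) (hp : ∀ i, val (p.coeff i) ≤ 1) (r : k) (hr : val r ≤ 1) : val (p.eval r) ≤ 1 := by
  rw [Polynomial.eval_eq_sum_range]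
  refine val.map_sum_le fun i _ => ?_
  rw [map_mul, map_pow]
  exact mul_le_one' (hp i) (pow_le_one' hr i)

theorem val_norm_eq_one {Γ₀ : Type*} [LinearOrderedCommGroupWithZero Γ₀] (val : Valuation k Γ₀)
    {y : L} (hprim : Algebra.adjoin k {y} = ⊤) (a c : k) (ha : val a = 1) (hc : val c ≤ 1)
    (h : ∀ i < Module.finrank k L, val ((minpoly k y).coeff i) * val c < 1) :
    val (Algebra.norm k (c • y - algebraMap k L a)) = 1 := by
  have hy : IsIntegral k y := IsIntegral.of_finite k y
  have hdeg := natDegree_minpoly_eq hprim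
  have hcoef : (minpoly k y).coeff (Module.finrank k L) = 1 := by
    rw [← hdeg]; exact (minpoly.monic hy).coeff_natDegree
  rw [norm_smul_sub_eq_sum hprim, map_mul, map_pow, Valuation.map_neg, map_one, one_pow, one_mul,
    Finset.sum_range_succ, hcoef, one_mul, Nat.sub_self, pow_zero, mul_one]
  have hlt : val (∑ i ∈ Finset.range (Module.finrank k L),
      (minpoly k y).coeff i * a ^ i * c ^ (Module.finrank k L - i)) < 1 :=
    val.map_sum_lt one_ne_zero fun i hi => by
      have hi' := Finset.mem_range.1 hi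
      rw [map_mul, map_mul, map_pow, map_pow, ha, one_pow, mul_one]
      obtain ⟨m, hm⟩ : ∃ m, Module.finrank k L - i = m + 1 :=
        Nat.exists_eq_succ_of_ne_zero (Nat.sub_ne_zero_of_lt hi')
      calc val ((minpoly k y).coeff i) * val c ^ (Module.finrank k L - i)
          ≤ val ((minpoly k y).coeff i) * val c := by
            rw [hm, pow_succ]
            exact mul_le_mul' le_rfl (mul_le_of_le_one_left' (pow_le_one' hc m))
        _ < 1 := h i hi'
  have h1 : val (a ^ Module.finrank k L) = 1 := by rw [map_pow, ha, one_pow]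
  rw [val.map_add_eq_of_lt_right (by rw [h1]; exact hlt), h1]

end general

section numberField

variable {k L : Type*} [Field k] [NumberField k] [Field L] [Algebra k L] [FiniteDimensional k L]

theorem exists_root (v : HeightOneSpectrum (𝓞 k)) (g A B : k[X]) (hgm : g.Monic)
    (hAB : A * g + B * derivative g = 1)
    (hg : ∀ i, v.valuation k (g.coeff i) ≤ 1) (hA : ∀ i, v.valuation k (A.coeff i) ≤ 1)
    (hB : ∀ i, v.valuation k (B.coeff i) ≤ 1) (r : k) (hr : v.valuation k r ≤ 1)
    (hgr : v.valuation k (g.eval r) < 1) :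
    ∃ ρ : v.adicCompletion k, aeval ρ g = 0 := by
  let K := v.adicCompletion k
  letI : NontriviallyNormedField K := Valued.toNontriviallyNormedField K ℤᵐ⁰
  haveI : IsUltrametricDist K := by
    open scoped Valued in exact inferInstance
  let f : K[X] := g.map (algebraMap k K)
  have hev : ∀ p : k[X], (p.map (algebraMap k K)).eval (algebraMap k K r) =
      algebraMap k K (p.eval r) := fun p => by
    rw [Polynomial.eval_map, Polynomial.eval₂_at_apply]
  have hg' : ∀ i, v.valuation k ((derivative g).coeff i) ≤ 1 := by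
    intro i
    rw [Polynomial.coeff_derivative, map_mul]
    refine mul_le_one' (hg _) ?_
    have : ((i : k) + 1) = ((i + 1 : ℕ) : k) := by push_cast; ring
    rw [this, ← map_natCast (algebraMap (𝓞 k) k)]
    exact v.valuation_le_one _
  have h1 : v.valuation k ((derivative g).eval r) = 1 := by
    have e := congrArg (Polynomial.eval r) hAB
    simp only [eval_add, eval_mul, eval_one] at e
    have hlt : v.valuation k (A.eval r * g.eval r) < 1 := by
      rw [map_mul]
      exact lt_of_le_of_lt (mul_le_of_le_one_left' (val_eval_le_one _ A hA r hr)) hgr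
    have h2 : v.valuation k (B.eval r * (derivative g).eval r) = 1 := by
      have : B.eval r * (derivative g).eval r = 1 - A.eval r * g.eval r := by rw [← e]; ring
      rw [this]; exact Valuation.map_one_sub_of_lt _ hlt
    rw [map_mul] at h2
    have hb := val_eval_le_one (v.valuation k) B hB r hr
    have hd := val_eval_le_one (v.valuation k) (derivative g) hg' r hr
    rcases hd.lt_or_eq with hd' | hd'
    · exfalso
      have : v.valuation k (B.eval r) * v.valuation k ((derivative g).eval r) < 1 :=
        lt_of_le_of_lt (mul_le_of_le_one_left' hb) hd'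
      exact this.ne h2
    · exact hd'
  obtain ⟨ρ, hρ⟩ := RIy.hensel (K := K) f (hgm.map _)
    (fun i => by
      show ‖(g.map (algebraMap k K)).coeff i‖ ≤ 1
      rw [Polynomial.coeff_map]; exact (RIz.norm_le_one_iff v _).2 (hg i))
    (algebraMap k K r) ((RIz.norm_le_one_iff v r).2 hr)
    (by rw [hev]; exact (RIz.norm_lt_one_iff v _).2 hgr)
    (by
      show ‖(derivative (g.map (algebraMap k K))).eval (algebraMap k K r)‖ = 1
      rw [Polynomial.derivative_map, hev]
      refine le_antisymm ((RIz.norm_le_one_iff v _).2 h1.le) ?_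
      by_contra hcon
      push Not at hcon
      exact ((RIz.norm_lt_one_iff v _).1 hcon).ne h1)
  exact ⟨ρ, by rw [Polynomial.aeval_def, ← Polynomial.eval_map]; exact hρ⟩

theorem good_place (v : HeightOneSpectrum (𝓞 k)) {y : L} (hprim : Algebra.adjoin k {y} = ⊤)
    (A B : k[X]) (hAB : A * minpoly k y + B * derivative (minpoly k y) = 1)
    (hg : ∀ i, v.valuation k ((minpoly k y).coeff i) ≤ 1)
    (hA : ∀ i, v.valuation k (A.coeff i) ≤ 1) (hB : ∀ i, v.valuation k (B.coeff i) ≤ 1)
    (a c : k) (ha : v.valuation k a ≤ 1) (hc : v.valuation k c = 1) :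
    v.valuation k (Algebra.norm k (c • y - algebraMap k L a)) = 1 ∨
      Nonempty (L →ₐ[k] v.adicCompletion k) := by
  have hc0 : c ≠ 0 := by
    rintro rfl
    rw [map_zero] at hc
    exact zero_ne_one hc
  have hy : IsIntegral k y := IsIntegral.of_finite k y
  have hr : v.valuation k (a / c) ≤ 1 := by rw [map_div₀, hc, div_one]; exact ha
  have hval : v.valuation k (Algebra.norm k (c • y - algebraMap k L a)) =
      v.valuation k ((minpoly k y).eval (a / c)) := by
    rw [norm_smul_sub hprim a c hc0, map_mul, map_mul, map_pow, map_pow, Valuation.map_neg,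
      map_one, one_pow, hc, one_pow, one_mul, one_mul]
  rcases (val_eval_le_one _ (minpoly k y) hg _ hr).lt_or_eq with hlt | heq
  · right
    obtain ⟨ρ, hρ⟩ := exists_root v (minpoly k y) A B (minpoly.monic hy) hAB hg hA hB _ hr hlt
    exact ⟨(PowerBasis.ofAdjoinEqTop hy hprim).lift ρ (by simpa using hρ)⟩
  · left; rw [hval, heq]

lemma finite_bad (p : k[X]) :
    {v : HeightOneSpectrum (𝓞 k) | ∃ i, 1 < v.valuation k (p.coeff i)}.Finite := by
  have hsub : {v : HeightOneSpectrum (𝓞 k) | ∃ i, 1 < v.valuation k (p.coeff i)} ⊆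
      ⋃ i ∈ p.support, HeightOneSpectrum.Support (𝓞 k) (p.coeff i) := by
    rintro v ⟨i, hi⟩
    have hmem : i ∈ p.support := by
      rw [Polynomial.mem_support_iff]
      intro h
      rw [h, map_zero] at hi
      exact not_lt_of_ge zero_le_one hi
    exact Set.mem_biUnion hmem hi
  exact (Set.Finite.biUnion p.support.finite_toSet fun i _ =>
    HeightOneSpectrum.Support.finite (𝓞 k) (p.coeff i)).subset hsub

lemma exists_pow_bound (x : ℤᵐ⁰) :
    ∃ N₀ : ℕ, ∀ N : ℕ, N₀ ≤ N → x * WithZero.exp (-(N : ℤ)) < 1 := by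
  rcases eq_or_ne x 0 with rfl | hx
  · exact ⟨0, fun N _ => by simp⟩
  · refine ⟨(WithZero.log x).toNat + 1, fun N hN => ?_⟩
    rw [← WithZero.exp_log hx, ← WithZero.exp_add, ← WithZero.exp_zero, WithZero.exp_lt_exp]
    have := Int.self_le_toNat (WithZero.log x)
    omega

lemma exists_norm_lt (v : HeightOneSpectrum (𝓞 k)) (ε : ℝ) (hε : 0 < ε) :
    ∃ N₀ : ℕ, ∀ N : ℕ, N₀ ≤ N → ∀ x : k, v.valuation k x ≤ WithZero.exp (-(N : ℤ)) →
      ‖algebraMap k (v.adicCompletion k) x‖ < ε := by
  obtain ⟨π, hπ⟩ := v.valuation_exists_uniformizer k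
  have h1 : ‖algebraMap k (v.adicCompletion k) π‖ < 1 :=
    (RIz.norm_lt_one_iff v π).2 (by rw [hπ]; exact RIz.exp_neg_one_lt_one)
  obtain ⟨N₀, hN₀⟩ := exists_pow_lt_of_lt_one hε h1
  refine ⟨N₀, fun N hN x hx => ?_⟩
  have hle : v.valuation k x ≤ v.valuation k (π ^ N₀) := by
    rw [map_pow, hπ, ← WithZero.exp_nsmul]
    refine hx.trans (WithZero.exp_le_exp.2 ?_)
    simp only [nsmul_eq_mul, mul_neg, mul_one, neg_le_neg_iff]
    exact_mod_cast hN
  calc ‖algebraMap k (v.adicCompletion k) x‖ ≤ ‖algebraMap k (v.adicCompletion k) (π ^ N₀)‖ :=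
        (RIz.norm_le_iff v _ _).2 hle
    _ = ‖algebraMap k (v.adicCompletion k) π‖ ^ N₀ := by rw [map_pow, norm_pow]
    _ < ε := hN₀

end numberField

end Groth.Agent.Lib.Helper21.RJb
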