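import Mathlib
import Groth.Agent.Lib.Helper21.RIz
import Groth.Agent.Lib.Helper21.RJa

set_option linter.style.haveILetI false

/-!
# A primitive element whose norm approximates given local norms
-/

namespace Groth.Agent.Lib.Helper21.RJc

open IsDedekindDomain HeightOneSpectrum NumberField Filter Topology
open scoped TensorProduct
open Groth.Agent.Lib.Helper21

lemma exists_pos_le {α : Type*} (S : Finset α) (e : α → ℝ) (he : ∀ a ∈ S, 0 < e a) :
    ∃ ε : ℝ, 0 < ε ∧ ∀ a ∈ S, ε ≤ e a := by
  classical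
  induction S using Finset.induction_on with
  | empty => exact ⟨1, one_pos, by simp⟩
  | insert a S ha ih =>
    obtain ⟨ε, hε, h⟩ := ih (fun x hx => he x (Finset.mem_insert_of_mem hx))
    refine ⟨min ε (e a), lt_min hε (he a (Finset.mem_insert_self _ _)), fun x hx => ?_⟩
    rcases Finset.mem_insert.1 hx with rfl | hx
    · exact min_le_right _ _
    · exact (min_le_left _ _).trans (h x hx)

section

variable {k L : Type*} [Field k] [Field L] [Algebra k L]

lemma finite_not_primitive [Finite (Subalgebra k L)] (y₀ θ : L)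
    (hθ : Algebra.adjoin k {θ} = ⊤) :
    {c : k | Algebra.adjoin k {y₀ + c • θ} ≠ ⊤}.Finite := by
  refine Set.Finite.of_injOn (f := fun c => Algebra.adjoin k {y₀ + c • θ}) (t := Set.univ)
    (fun _ _ => Set.mem_univ _) ?_ Set.finite_univ
  intro c hc c' _ heq
  by_contra hne
  apply hc
  have heq' : Algebra.adjoin k {y₀ + c • θ} = Algebra.adjoin k {y₀ + c' • θ} := heq
  have h1 : y₀ + c • θ ∈ Algebra.adjoin k {y₀ + c • θ} := Algebra.subset_adjoin rfl
  have h2 : y₀ + c' • θ ∈ Algebra.adjoin k {y₀ + c • θ} := by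
    rw [heq']; exact Algebra.subset_adjoin rfl
  have h3 : (c - c') • θ ∈ Algebra.adjoin k {y₀ + c • θ} := by
    have := sub_mem h1 h2
    have e : y₀ + c • θ - (y₀ + c' • θ) = (c - c') • θ := by rw [sub_smul]; abel
    rwa [e] at this
  have h4 : θ ∈ Algebra.adjoin k {y₀ + c • θ} := by
    have := Subalgebra.smul_mem _ h3 (c - c')⁻¹
    rwa [smul_smul, inv_mul_cancel₀ (sub_ne_zero.2 hne), one_smul] at this
  rw [eq_top_iff, ← hθ]
  exact Algebra.adjoin_le (by simpa using h4)

end

variable {k L : Type*} [Field k] [NumberField k] [Field L] [Algebra k L] [FiniteDimensional k L]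
  [Algebra.IsSeparable k L]

theorem exists_primitive
    (Sf : Finset (HeightOneSpectrum (𝓞 k))) (Si : Finset (InfinitePlace k)) (hSi : Si.Nonempty)
    (tf : ∀ v : HeightOneSpectrum (𝓞 k), v.adicCompletion k)
    (ti : ∀ w : InfinitePlace k, w.Completion)
    (htf : ∀ v ∈ Sf, ∃ x : (v.adicCompletion k) ⊗[k] L,
      Algebra.norm (v.adicCompletion k) x = tf v)
    (hti : ∀ w ∈ Si, ∃ x : w.Completion ⊗[k] L, Algebra.norm w.Completion x = ti w)
    (Uf : ∀ v : HeightOneSpectrum (𝓞 k), Set (v.adicCompletion k))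
    (hUf : ∀ v ∈ Sf, IsOpen (Uf v) ∧ tf v ∈ Uf v)
    (Ui : ∀ w : InfinitePlace k, Set w.Completion)
    (hUi : ∀ w ∈ Si, IsOpen (Ui w) ∧ ti w ∈ Ui w) :
    ∃ y : L, Algebra.adjoin k {y} = ⊤ ∧
      (∀ v ∈ Sf, algebraMap k (v.adicCompletion k) (Algebra.norm k y) ∈ Uf v) ∧
      (∀ w ∈ Si, algebraMap k w.Completion (Algebra.norm k y) ∈ Ui w) := by
  classical
  let n := Module.finrank k L
  let b : Module.Basis (Fin n) k L := Module.finBasis k L
  have hξf : ∀ v : HeightOneSpectrum (𝓞 k), ∃ ξ : Fin n → v.adicCompletion k,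
      v ∈ Sf → RJa.F b (v.adicCompletion k) ξ = tf v := by
    intro v
    by_cases hv : v ∈ Sf
    · obtain ⟨x, hx⟩ := htf v hv
      obtain ⟨ξ, hξ⟩ := RJa.exists_coord b (v.adicCompletion k) x
      exact ⟨ξ, fun _ => hξ.symm.trans hx⟩
    · exact ⟨0, fun h => absurd h hv⟩
  have hξi : ∀ w : InfinitePlace k, ∃ ξ : Fin n → w.Completion,
      w ∈ Si → RJa.F b w.Completion ξ = ti w := by
    intro w
    by_cases hw : w ∈ Si
    · obtain ⟨x, hx⟩ := hti w hw
      obtain ⟨ξ, hξ⟩ := RJa.exists_coord b w.Completion x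
      exact ⟨ξ, fun _ => hξ.symm.trans hx⟩
    · exact ⟨0, fun h => absurd h hw⟩
  choose ξf hξf using hξf
  choose ξi hξi using hξi
  have hεf : ∀ v : HeightOneSpectrum (𝓞 k), ∃ ε : ℝ, 0 < ε ∧ (v ∈ Sf →
      ∀ η : Fin n → v.adicCompletion k, (∀ i, ‖η i - ξf v i‖ < ε) →
        RJa.F b (v.adicCompletion k) η ∈ Uf v) := by
    intro v
    by_cases hv : v ∈ Sf
    · have hopen : IsOpen (RJa.F b (v.adicCompletion k) ⁻¹' Uf v) :=
        (hUf v hv).1.preimage (RJa.continuous_F b _)
      have hmem : ξf v ∈ RJa.F b (v.adicCompletion k) ⁻¹' Uf v := by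
        show RJa.F b _ (ξf v) ∈ Uf v
        rw [hξf v hv]; exact (hUf v hv).2
      obtain ⟨ε, hε, hball⟩ := Metric.isOpen_iff.1 hopen _ hmem
      refine ⟨ε, hε, fun _ η hη => hball ?_⟩
      rw [Metric.mem_ball, dist_pi_lt_iff hε]
      intro i; rw [dist_eq_norm]; exact hη i
    · exact ⟨1, one_pos, fun h => absurd h hv⟩
  have hεi : ∀ w : InfinitePlace k, ∃ ε : ℝ, 0 < ε ∧ (w ∈ Si →
      ∀ η : Fin n → w.Completion, (∀ i, ‖η i - ξi w i‖ < ε) →
        RJa.F b w.Completion η ∈ Ui w) := by
    intro w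
    by_cases hw : w ∈ Si
    · have hopen : IsOpen (RJa.F b w.Completion ⁻¹' Ui w) :=
        (hUi w hw).1.preimage (RJa.continuous_F b _)
      have hmem : ξi w ∈ RJa.F b w.Completion ⁻¹' Ui w := by
        show RJa.F b _ (ξi w) ∈ Ui w
        rw [hξi w hw]; exact (hUi w hw).2
      obtain ⟨ε, hε, hball⟩ := Metric.isOpen_iff.1 hopen _ hmem
      refine ⟨ε, hε, fun _ η hη => hball ?_⟩
      rw [Metric.mem_ball, dist_pi_lt_iff hε]
      intro i; rw [dist_eq_norm]; exact hη i
    · exact ⟨1, one_pos, fun h => absurd h hw⟩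
  choose εf hεf0 hεf using hεf
  choose εi hεi0 hεi using hεi
  obtain ⟨ε1, hε1, hε1le⟩ := exists_pos_le Sf εf (fun v _ => hεf0 v)
  obtain ⟨ε2, hε2, hε2le⟩ := exists_pos_le Si εi (fun w _ => hεi0 w)
  have hWA : ∀ i : Fin n, ∃ a : k,
      (∀ v ∈ Sf, ‖algebraMap k (v.adicCompletion k) a - ξf v i‖ < min ε1 ε2) ∧
      (∀ w ∈ Si, ‖algebraMap k w.Completion a - ξi w i‖ < min ε1 ε2) := fun i =>
    RIz.weak_approx Sf Si (fun v => ξf v i) (fun w => ξi w i) (min ε1 ε2) (lt_min hε1 hε2)
  choose a haf hai using hWA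
  obtain ⟨c₀, hc₀f, hc₀i⟩ := RIz.weak_approx Sf Si (fun _ => 0)
    (fun w => algebraMap k w.Completion (1 / 4)) (1 / 8) (by norm_num)
  obtain ⟨θ', hθ'⟩ := Field.exists_primitive_element k L
  have hθ : Algebra.adjoin k {θ'} = ⊤ := by
    have := congrArg IntermediateField.toSubalgebra hθ'
    rwa [IntermediateField.adjoin_simple_toSubalgebra_of_isAlgebraic
      (IsIntegral.of_finite k θ').isAlgebraic, IntermediateField.top_toSubalgebra] at this
  haveI : Finite (IntermediateField k L) :=
    Field.finite_intermediateField_of_exists_primitive_element k L ⟨θ', hθ'⟩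
  haveI : Finite (Subalgebra k L) :=
    Finite.of_equiv _ (subalgebraEquivIntermediateField (K := k) (L := L)).symm.toEquiv
  let y₀ : L := ∑ i, a i • b i
  let yj : ℕ → L := fun j => y₀ + c₀ ^ j • θ'
  have hrepr : ∀ j i, b.repr (yj j) i = a i + c₀ ^ j * b.repr θ' i := by
    intro j i
    show b.repr (∑ i, a i • b i + c₀ ^ j • θ') i = _
    rw [map_add, map_smul, Finsupp.add_apply, Finsupp.smul_apply, b.repr_sum_self, smul_eq_mul]
  have hc₀f' : ∀ v ∈ Sf, ‖algebraMap k (v.adicCompletion k) c₀‖ < 1 := fun v hv => by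
    have := hc₀f v hv
    rw [sub_zero] at this
    linarith
  have hq : ∀ w : InfinitePlace k, ‖algebraMap k w.Completion (1 / 4)‖ = 1 / 4 := by
    intro w
    rw [RIz.norm_inf, map_div₀, map_one]
    have : w (4 : k) = 4 := by
      have h4 : (4 : k) = ((4 : ℕ) : k) := by norm_num
      rw [h4, w.map_natCast 4]; norm_num
    rw [this]
  have hc₀i' : ∀ w ∈ Si, ‖algebraMap k w.Completion c₀‖ < 1 ∧
      0 < ‖algebraMap k w.Completion c₀‖ := fun w hw => by
    have h1 := hc₀i w hw
    have h2 := norm_sub_norm_le (algebraMap k w.Completion (1 / 4)) (algebraMap k w.Completion c₀)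
    have h3 := norm_sub_norm_le (algebraMap k w.Completion c₀) (algebraMap k w.Completion (1 / 4))
    rw [norm_sub_rev] at h2
    rw [hq w] at h2 h3
    constructor <;> linarith
  have hevf : ∀ v ∈ Sf, ∀ᶠ j in atTop,
      algebraMap k (v.adicCompletion k) (Algebra.norm k (yj j)) ∈ Uf v := by
    intro v hv
    have h0 : RJa.F b (v.adicCompletion k) (fun i => algebraMap k _ (a i)) ∈ Uf v :=
      hεf v hv _ (fun i => (haf i v hv).trans_le ((min_le_left _ _).trans (hε1le v hv)))
    have htend : Tendsto (fun j : ℕ => (fun i => algebraMap k (v.adicCompletion k) (a i) +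
        (algebraMap k (v.adicCompletion k) c₀) ^ j *
          algebraMap k (v.adicCompletion k) (b.repr θ' i))) atTop
        (𝓝 (fun i => algebraMap k (v.adicCompletion k) (a i))) := by
      rw [tendsto_pi_nhds]
      intro i
      have := ((tendsto_pow_atTop_nhds_zero_of_norm_lt_one (hc₀f' v hv)).mul_const
        (algebraMap k (v.adicCompletion k) (b.repr θ' i))).const_add
          (algebraMap k (v.adicCompletion k) (a i))
      simpa using this
    have hev := (((RJa.continuous_F b (v.adicCompletion k)).tendsto _).comp htend).eventually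
      ((hUf v hv).1.mem_nhds h0)
    filter_upwards [hev] with j hj
    rw [RJa.algebraMap_norm b]
    have : (fun i => algebraMap k (v.adicCompletion k) (b.repr (yj j) i)) =
        (fun i => algebraMap k (v.adicCompletion k) (a i) +
          (algebraMap k (v.adicCompletion k) c₀) ^ j *
            algebraMap k (v.adicCompletion k) (b.repr θ' i)) := by
      funext i
      rw [hrepr, map_add, map_mul, map_pow]
    rw [this]; exact hj
  have hevi : ∀ w ∈ Si, ∀ᶠ j in atTop,
      algebraMap k w.Completion (Algebra.norm k (yj j)) ∈ Ui w := by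
    intro w hw
    have h0 : RJa.F b w.Completion (fun i => algebraMap k _ (a i)) ∈ Ui w :=
      hεi w hw _ (fun i => (hai i w hw).trans_le ((min_le_right _ _).trans (hε2le w hw)))
    have htend : Tendsto (fun j : ℕ => (fun i => algebraMap k w.Completion (a i) +
        (algebraMap k w.Completion c₀) ^ j *
          algebraMap k w.Completion (b.repr θ' i))) atTop
        (𝓝 (fun i => algebraMap k w.Completion (a i))) := by
      rw [tendsto_pi_nhds]
      intro i
      have := ((tendsto_pow_atTop_nhds_zero_of_norm_lt_one (hc₀i' w hw).1).mul_const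
        (algebraMap k w.Completion (b.repr θ' i))).const_add
          (algebraMap k w.Completion (a i))
      simpa using this
    have hev := (((RJa.continuous_F b w.Completion).tendsto _).comp htend).eventually
      ((hUi w hw).1.mem_nhds h0)
    filter_upwards [hev] with j hj
    rw [RJa.algebraMap_norm b]
    have : (fun i => algebraMap k w.Completion (b.repr (yj j) i)) =
        (fun i => algebraMap k w.Completion (a i) +
          (algebraMap k w.Completion c₀) ^ j *
            algebraMap k w.Completion (b.repr θ' i)) := by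
      funext i
      rw [hrepr, map_add, map_mul, map_pow]
    rw [this]; exact hj
  have hbadfin : {c : k | Algebra.adjoin k {y₀ + c • θ'} ≠ ⊤}.Finite :=
    finite_not_primitive y₀ θ' hθ
  have hinj : Function.Injective (fun j : ℕ => c₀ ^ j) := by
    obtain ⟨w, hw⟩ := hSi
    obtain ⟨h1, h0⟩ := hc₀i' w hw
    rw [RIz.norm_inf] at h1 h0
    intro i j hij
    have hij' : c₀ ^ i = c₀ ^ j := hij
    have : (w c₀) ^ i = (w c₀) ^ j := by rw [← map_pow, ← map_pow, hij']
    exact pow_right_injective₀ h0 h1.ne this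
  have hevbad : ∀ᶠ j in atTop, Algebra.adjoin k {yj j} = ⊤ := by
    have hfin : ((fun j : ℕ => c₀ ^ j) ⁻¹'
        {c : k | Algebra.adjoin k {y₀ + c • θ'} ≠ ⊤}).Finite :=
      hbadfin.preimage hinj.injOn
    have := hfin.compl_mem_cofinite
    rw [Nat.cofinite_eq_atTop] at this
    filter_upwards [this] with j hj
    simpa [yj] using hj
  obtain ⟨j, hj⟩ := (((eventually_all_finset Sf).2 hevf).and
    (((eventually_all_finset Si).2 hevi).and hevbad)).exists
  exact ⟨yj j, hj.2.2, hj.1, hj.2.1⟩

end Groth.Agent.Lib.Helper21.RJc
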