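import Mathlib
import Groth.Agent.Lib.Helper21.RJb
import Groth.Agent.Lib.Helper21.RJc

set_option linter.style.haveILetI false

/-!
# Auxiliary lemmas for the approximation of local norms by global elements
-/

namespace Groth.Agent.Lib.Helper21.RJd

open IsDedekindDomain HeightOneSpectrum NumberField Filter Topology Polynomial
open scoped TensorProduct WithZero
open Groth.Agent.Lib.Helper21

section phi

variable {k L : Type*} [Field k] [Field L] [Algebra k L] [FiniteDimensional k L]

theorem phi_mem (K : Type*) [NormedField K] [Algebra k K] (y : L) (U : Set K) (hU : IsOpen U)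
    (hy : algebraMap k K (Algebra.norm k y) ∈ U) :
    ∃ ε : ℝ, 0 < ε ∧ ∀ p q : k, ‖algebraMap k K p‖ < ε → ‖algebraMap k K q‖ < ε →
      algebraMap k K (Algebra.norm k ((1 - p) • y + p • (1 : L)) /
        Algebra.norm k (q • y + 1)) ∈ U := by
  classical
  let n := Module.finrank k L
  let b : Module.Basis (Fin n) k L := Module.finBasis k L
  let num : K × K → K := fun x => RJa.F b K
    (fun i => (1 - x.1) * algebraMap k K (b.repr y i) + x.1 * algebraMap k K (b.repr 1 i))
  let den : K × K → K := fun x => RJa.F b K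
    (fun i => x.2 * algebraMap k K (b.repr y i) + algebraMap k K (b.repr 1 i))
  have hnum : Continuous num := (RJa.continuous_F b K).comp (continuous_pi fun i =>
    ((continuous_const.sub continuous_fst).mul continuous_const).add
      (continuous_fst.mul continuous_const))
  have hden : Continuous den := (RJa.continuous_F b K).comp (continuous_pi fun i =>
    (continuous_snd.mul continuous_const).add continuous_const)
  have hden0 : den (0, 0) = 1 := by
    have := RJa.algebraMap_norm b K (1 : L)
    rw [map_one, map_one] at this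
    rw [this]
    show RJa.F b K _ = RJa.F b K _
    congr 1; funext i; simp
  have hnum0 : num (0, 0) = algebraMap k K (Algebra.norm k y) := by
    rw [RJa.algebraMap_norm b K y]
    show RJa.F b K _ = RJa.F b K _
    congr 1; funext i; simp
  have hcont : ContinuousAt (fun x => num x / den x) (0, 0) :=
    hnum.continuousAt.div hden.continuousAt (by rw [hden0]; exact one_ne_zero)
  have hmem : (fun x => num x / den x) ⁻¹' U ∈ 𝓝 ((0 : K), (0 : K)) :=
    hcont.preimage_mem_nhds (hU.mem_nhds (by
      show num (0, 0) / den (0, 0) ∈ U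
      rw [hnum0, hden0, div_one]; exact hy))
  obtain ⟨ε, hε, hball⟩ := Metric.mem_nhds_iff.1 hmem
  refine ⟨ε, hε, fun p q hp hq => ?_⟩
  have hin : (algebraMap k K p, algebraMap k K q) ∈ Metric.ball ((0 : K), (0 : K)) ε := by
    rw [Metric.mem_ball, Prod.dist_eq, max_lt_iff, dist_zero_right, dist_zero_right]
    exact ⟨hp, hq⟩
  have := hball hin
  have e1 : (fun i => algebraMap k K (b.repr ((1 - p) • y + p • (1 : L)) i)) =
      fun i => (1 - algebraMap k K p) * algebraMap k K (b.repr y i) +
        algebraMap k K p * algebraMap k K (b.repr 1 i) := by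
    funext i
    simp [map_add, map_mul, map_sub]
  have e2 : (fun i => algebraMap k K (b.repr (q • y + (1 : L)) i)) =
      fun i => algebraMap k K q * algebraMap k K (b.repr y i) +
        algebraMap k K (b.repr 1 i) := by
    funext i
    simp [map_add, map_mul]
  rw [map_div₀, RJa.algebraMap_norm b K, RJa.algebraMap_norm b K, e1, e2]
  exact this

theorem tform (y : L) (s m l : k) (hl : l ≠ 0) :
    Algebra.norm k ((1 - s / l) • y + (s / l) • (1 : L)) / Algebra.norm k ((m / l) • y + 1) =
      Algebra.norm k ((l - s) • y - algebraMap k L (-s)) /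
        Algebra.norm k (m • y - algebraMap k L (-l)) := by
  have e1 : (1 - s / l) • y + (s / l) • (1 : L) =
      l⁻¹ • ((l - s) • y - algebraMap k L (-s)) := by
    rw [map_neg, sub_neg_eq_add, smul_add, smul_smul, Algebra.algebraMap_eq_smul_one, smul_smul]
    congr 2 <;> field_simp
  have e2 : (m / l) • y + (1 : L) = l⁻¹ • (m • y - algebraMap k L (-l)) := by
    rw [map_neg, sub_neg_eq_add, smul_add, smul_smul, Algebra.algebraMap_eq_smul_one, smul_smul,
      inv_mul_cancel₀ hl, one_smul, div_eq_inv_mul]
  rw [e1, e2, RJb.norm_smul, RJb.norm_smul,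
    mul_div_mul_left _ _ (pow_ne_zero _ (inv_ne_zero hl))]

end phi

section places

variable {k L : Type*} [Field k] [NumberField k] [Field L] [Algebra k L] [FiniteDimensional k L]

theorem unit_or_emb (v : HeightOneSpectrum (𝓞 k)) {y : L} (hprim : Algebra.adjoin k {y} = ⊤)
    (A B : k[X]) (hAB : A * minpoly k y + B * derivative (minpoly k y) = 1)
    (hg : ∀ i, v.valuation k ((minpoly k y).coeff i) ≤ 1)
    (hA : ∀ i, v.valuation k (A.coeff i) ≤ 1) (hB : ∀ i, v.valuation k (B.coeff i) ≤ 1)
    (c a : 𝓞 k) (hcop : ∃ u w : 𝓞 k, u * c + w * a = 1) :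
    v.valuation k (Algebra.norm k
        (algebraMap (𝓞 k) k c • y - algebraMap k L (algebraMap (𝓞 k) k a))) = 1 ∨
      Nonempty (L →ₐ[k] v.adicCompletion k) := by
  rcases (v.valuation_le_one (K := k) c).lt_or_eq with hlt | heq
  · left
    have ha : v.valuation k (algebraMap (𝓞 k) k a) = 1 := by
      rcases (v.valuation_le_one (K := k) a).lt_or_eq with hlt' | h
      · exfalso
        obtain ⟨u, w, huw⟩ := hcop
        have h1 : v.valuation k (algebraMap (𝓞 k) k (u * c + w * a)) < 1 := by
          rw [map_add, map_mul, map_mul]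
          refine Valuation.map_add_lt _ ?_ ?_
          · rw [map_mul]
            exact lt_of_le_of_lt (mul_le_of_le_one_left' (v.valuation_le_one u)) hlt
          · rw [map_mul]
            exact lt_of_le_of_lt (mul_le_of_le_one_left' (v.valuation_le_one w)) hlt'
        rw [huw, map_one, map_one] at h1
        exact lt_irrefl _ h1
      · exact h
    exact RJb.val_norm_eq_one (v.valuation k) hprim _ _ ha hlt.le
      (fun i _ => lt_of_le_of_lt (mul_le_of_le_one_left' (hg i)) hlt)
  · exact RJb.good_place v hprim A B hAB hg hA hB _ _ (v.valuation_le_one a) heq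

theorem unit_T (v : HeightOneSpectrum (𝓞 k)) {y : L} (hprim : Algebra.adjoin k {y} = ⊤) (N : ℕ)
    (hN : ∀ i, v.valuation k ((minpoly k y).coeff i) * WithZero.exp (-(N : ℤ)) < 1)
    (c a : 𝓞 k) (hc : c ∈ v.asIdeal ^ N) (ha : a ∉ v.asIdeal) :
    v.valuation k (Algebra.norm k
        (algebraMap (𝓞 k) k c • y - algebraMap k L (algebraMap (𝓞 k) k a))) = 1 := by
  have hc' : v.valuation k (algebraMap (𝓞 k) k c) ≤ WithZero.exp (-(N : ℤ)) := by
    rw [valuation_of_algebraMap]; exact (v.intValuation_le_pow_iff_mem c N).2 hc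
  exact RJb.val_norm_eq_one (v.valuation k) hprim _ _ ((valuation_eq_one_iff_notMem (K := k) v).2 ha)
    (v.valuation_le_one c) (fun i _ => lt_of_le_of_lt (mul_le_mul' le_rfl hc') (hN i))

lemma exists_pow_bound_poly (v : HeightOneSpectrum (𝓞 k)) (p : k[X]) :
    ∃ N₀ : ℕ, ∀ N : ℕ, N₀ ≤ N → ∀ i,
      v.valuation k (p.coeff i) * WithZero.exp (-(N : ℤ)) < 1 := by
  choose Nf hNf using fun i => RJb.exists_pow_bound (v.valuation k (p.coeff i))
  refine ⟨p.support.sup Nf, fun N hN i => ?_⟩
  by_cases hi : i ∈ p.support
  · exact hNf i N ((Finset.le_sup hi).trans hN)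
  · rw [Polynomial.notMem_support_iff.1 hi, map_zero, zero_mul]; exact zero_lt_one

end places

end Groth.Agent.Lib.Helper21.RJd
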