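import Mathlib
import Groth.Agent.Lib.Helper21.RJd

set_option linter.style.haveILetI false

/-!
# Global elements close to local norms, units away from places of degree one
-/

namespace Groth.Agent.Lib.Helper21.RJe

open IsDedekindDomain HeightOneSpectrum NumberField Filter Topology Polynomial
open scoped TensorProduct WithZero
open Groth.Agent.Lib.Helper21

universe u

set_option maxHeartbeats 1600000 in
theorem main (k L : Type u) [Field k] [NumberField k]
    [Field L] [NumberField L] [Algebra k L]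
    (Sf : Finset (IsDedekindDomain.HeightOneSpectrum (NumberField.RingOfIntegers k)))
    (Si : Finset (NumberField.InfinitePlace k))
    (tf : (v : IsDedekindDomain.HeightOneSpectrum (NumberField.RingOfIntegers k)) →
      v.adicCompletion k)
    (ti : (w : NumberField.InfinitePlace k) → w.Completion)
    (htf : ∀ v ∈ Sf, tf v ≠ 0 ∧ ∃ x : (v.adicCompletion k) ⊗[k] L,
      Algebra.norm (v.adicCompletion k) x = tf v)
    (hti : ∀ w ∈ Si, ti w ≠ 0 ∧ ∃ x : w.Completion ⊗[k] L, Algebra.norm w.Completion x = ti w)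
    (Uf : (v : IsDedekindDomain.HeightOneSpectrum (NumberField.RingOfIntegers k)) →
      Set (v.adicCompletion k))
    (hUf : ∀ v ∈ Sf, IsOpen (Uf v) ∧ tf v ∈ Uf v)
    (Ui : (w : NumberField.InfinitePlace k) → Set w.Completion)
    (hUi : ∀ w ∈ Si, IsOpen (Ui w) ∧ ti w ∈ Ui w) :
    ∃ t : k, t ≠ 0 ∧ (∀ v ∈ Sf, algebraMap k (v.adicCompletion k) t ∈ Uf v) ∧
      (∀ w ∈ Si, algebraMap k w.Completion t ∈ Ui w) ∧
      ∀ v : IsDedekindDomain.HeightOneSpectrum (NumberField.RingOfIntegers k), v ∉ Sf →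
        v.valuation k t = 1 ∨ Nonempty (L →ₐ[k] v.adicCompletion k) := by
  classical
  haveI : FiniteDimensional k L := Module.Finite.of_restrictScalars_finite ℚ k L
  haveI : Algebra.IsSeparable k L := inferInstance
  obtain ⟨w₀⟩ := (inferInstance : Nonempty (InfinitePlace k))
  let ti' : ∀ w : InfinitePlace k, w.Completion := fun w => if w ∈ Si then ti w else 1
  let Ui' : ∀ w : InfinitePlace k, Set w.Completion :=
    fun w => (if w ∈ Si then Ui w else Set.univ) ∩ {x | x ≠ 0}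
  have hti' : ∀ w ∈ insert w₀ Si, ∃ x : w.Completion ⊗[k] L,
      Algebra.norm w.Completion x = ti' w := by
    intro w _
    by_cases hw : w ∈ Si
    · simp only [ti', if_pos hw]; exact (hti w hw).2
    · simp only [ti', if_neg hw]; exact ⟨1, map_one _⟩
  have hUi' : ∀ w ∈ insert w₀ Si, IsOpen (Ui' w) ∧ ti' w ∈ Ui' w := by
    intro w _
    by_cases hw : w ∈ Si
    · simp only [Ui', ti', if_pos hw]
      exact ⟨(hUi w hw).1.inter isOpen_ne, (hUi w hw).2, (hti w hw).1⟩
    · simp only [Ui', ti', if_neg hw]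
      exact ⟨isOpen_univ.inter isOpen_ne, Set.mem_univ _, one_ne_zero⟩
  obtain ⟨y, hprim, hyf, hyi⟩ := RJc.exists_primitive (L := L) Sf (insert w₀ Si)
    ⟨w₀, Finset.mem_insert_self _ _⟩ tf ti' (fun v hv => (htf v hv).2) hti' Uf hUf Ui' hUi'
  have hy : IsIntegral k y := IsIntegral.of_finite k y
  obtain ⟨A, B, hAB⟩ := (Polynomial.separable_def' _).1 (minpoly.irreducible hy).separable
  have hTfin := ((RJb.finite_bad (minpoly k y)).union (RJb.finite_bad A)).union
    (RJb.finite_bad B)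
  let T : Finset (HeightOneSpectrum (𝓞 k)) := hTfin.toFinset
  have hgood : ∀ v : HeightOneSpectrum (𝓞 k), v ∉ T →
      (∀ i, v.valuation k ((minpoly k y).coeff i) ≤ 1) ∧
      (∀ i, v.valuation k (A.coeff i) ≤ 1) ∧ (∀ i, v.valuation k (B.coeff i) ≤ 1) := by
    intro v hv
    rw [Set.Finite.mem_toFinset] at hv
    simp only [Set.mem_union, Set.mem_setOf_eq, not_or, not_exists, not_lt] at hv
    exact ⟨hv.1.1, hv.1.2, hv.2⟩
  have h1 : ∀ v : HeightOneSpectrum (𝓞 k), ∃ N₀ : ℕ, v ∈ Sf → ∀ N : ℕ, N₀ ≤ N → ∀ p q : k,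
      v.valuation k p ≤ WithZero.exp (-(N : ℤ)) → v.valuation k q ≤ WithZero.exp (-(N : ℤ)) →
      algebraMap k (v.adicCompletion k) (Algebra.norm k ((1 - p) • y + p • (1 : L)) /
        Algebra.norm k (q • y + 1)) ∈ Uf v := by
    intro v
    by_cases hv : v ∈ Sf
    · obtain ⟨ε, hε, hφ⟩ := RJd.phi_mem (v.adicCompletion k) y (Uf v) (hUf v hv).1 (hyf v hv)
      obtain ⟨N₀, hN₀⟩ := RJb.exists_norm_lt v ε hε
      exact ⟨N₀, fun _ N hN p q hp hq => hφ p q (hN₀ N hN p hp) (hN₀ N hN q hq)⟩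
    · exact ⟨0, fun h => absurd h hv⟩
  choose N1 hN1 using h1
  choose N2 hN2 using fun v : HeightOneSpectrum (𝓞 k) =>
    RJd.exists_pow_bound_poly v (minpoly k y)
  let S' : Finset (HeightOneSpectrum (𝓞 k)) := Sf ∪ T
  let N : ℕ := S'.sup (fun v => max (N1 v) (N2 v)) + 1
  have hN1' : ∀ v ∈ S', N1 v ≤ N := fun v hv => (le_max_left _ _).trans
    ((Finset.le_sup (f := fun v => max (N1 v) (N2 v)) hv).trans (Nat.le_succ _))
  have hN2' : ∀ v ∈ S', N2 v ≤ N := fun v hv => (le_max_right _ _).trans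
    ((Finset.le_sup (f := fun v => max (N1 v) (N2 v)) hv).trans (Nat.le_succ _))
  have hN0 : N ≠ 0 := Nat.succ_ne_zero _
  let I : Ideal (𝓞 k) := ∏ v ∈ S', v.asIdeal ^ N
  have hI : I ≠ ⊥ := by
    rw [← Ideal.zero_eq_bot]
    exact Finset.prod_ne_zero_iff.2 fun v _ => pow_ne_zero N v.ne_bot
  let m : ℕ := Ideal.absNorm I
  have hm0 : m ≠ 0 := fun h => hI (Ideal.absNorm_eq_zero_iff.1 h)
  have hmI : ∀ v ∈ S', ((m : ℕ) : 𝓞 k) ∈ v.asIdeal ^ N := fun v hv => by
    have h : ((m : ℕ) : 𝓞 k) ∈ I := Ideal.absNorm_mem I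
    exact (Ideal.prod_le_inf.trans (Finset.inf_le hv)) h
  obtain ⟨s₀, hs₀⟩ := IsDedekindDomain.exists_forall_sub_mem_ideal (s := S')
    (fun v => v.asIdeal) (fun _ => N) (fun v _ => v.prime)
    (fun v _ v' _ hne h => hne (HeightOneSpectrum.ext h))
    (fun v => if v.1 ∈ Sf then 0 else 1)
  let s : 𝓞 k := if s₀ = 0 then ((m : ℕ) : 𝓞 k) else s₀
  have hs0 : s ≠ 0 := by
    simp only [s]; split_ifs with h
    · exact Nat.cast_ne_zero.2 hm0
    · exact h
  have hs : ∀ v ∈ S', s - (if v ∈ Sf then 0 else 1) ∈ v.asIdeal ^ N := by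
    intro v hv
    have h1 : s - s₀ ∈ v.asIdeal ^ N := by
      simp only [s]; split_ifs with h
      · rw [h, sub_zero]; exact hmI v hv
      · rw [sub_self]; exact zero_mem _
    have := add_mem h1 (hs₀ v hv)
    simpa using this
  let bN : ℕ := Ideal.absNorm (Ideal.span {s})
  have hb0 : bN ≠ 0 := fun h =>
    hs0 (Ideal.span_singleton_eq_bot.1 (Ideal.absNorm_eq_zero_iff.1 h))
  obtain ⟨s', hs'⟩ := Ideal.mem_span_singleton'.1 (Ideal.absNorm_mem (Ideal.span {s}))
  let sk : k := algebraMap (𝓞 k) k s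
  let mk : k := ((m : ℕ) : k)
  have hlam_tend : Tendsto (fun J : ℕ => ((1 + m * bN * J : ℕ) : ℝ)) atTop atTop := by
    refine tendsto_natCast_atTop_atTop.comp (tendsto_atTop_mono (fun J => ?_) tendsto_id)
    show J ≤ 1 + m * bN * J
    have : 1 ≤ m * bN := Nat.one_le_iff_ne_zero.2 (Nat.mul_ne_zero hm0 hb0)
    nlinarith
  have hdiv : ∀ C : ℝ, Tendsto (fun J : ℕ => C / ((1 + m * bN * J : ℕ) : ℝ)) atTop (𝓝 0) :=
    fun C => hlam_tend.const_div_atTop C
  have hinf : ∀ w ∈ insert w₀ Si, ∀ᶠ J : ℕ in atTop,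
      algebraMap k w.Completion
        (Algebra.norm k ((1 - sk / ((1 + m * bN * J : ℕ) : k)) • y +
            (sk / ((1 + m * bN * J : ℕ) : k)) • (1 : L)) /
          Algebra.norm k ((mk / ((1 + m * bN * J : ℕ) : k)) • y + 1)) ∈ Ui' w := by
    intro w hw
    obtain ⟨ε, hε, hφ⟩ := RJd.phi_mem w.Completion y (Ui' w) (hUi' w hw).1 (hyi w hw)
    have hnorm : ∀ (x : k) (J : ℕ),
        ‖algebraMap k w.Completion (x / ((1 + m * bN * J : ℕ) : k))‖ =
          w x / ((1 + m * bN * J : ℕ) : ℝ) := by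
      intro x J; rw [RIz.norm_inf, map_div₀, w.map_natCast]
    have e1 := (hdiv (w sk)).eventually (gt_mem_nhds hε)
    have e2 := (hdiv (w mk)).eventually (gt_mem_nhds hε)
    filter_upwards [e1, e2] with J h1 h2
    exact hφ _ _ (by rw [hnorm]; exact h1) (by rw [hnorm]; exact h2)
  obtain ⟨J, hJ⟩ := ((eventually_all_finset (insert w₀ Si)).2 hinf).exists
  let lO : 𝓞 k := ((1 + m * bN * J : ℕ) : 𝓞 k)
  let mO : 𝓞 k := ((m : ℕ) : 𝓞 k)
  let lk : k := ((1 + m * bN * J : ℕ) : k)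
  have hl0 : lk ≠ 0 := Nat.cast_ne_zero.2 (by omega)
  have hlk : lk = algebraMap (𝓞 k) k lO := (map_natCast _ _).symm
  have hmk : mk = algebraMap (𝓞 k) k mO := (map_natCast _ _).symm
  have hlO_eq : lO = 1 + mO * (J : 𝓞 k) * (s' * s) := by
    rw [hs']; simp only [lO, mO]; push_cast; ring
  have hlO_eq' : lO = 1 + mO * ((bN * J : ℕ) : 𝓞 k) := by
    simp only [lO, mO]; push_cast; ring
  let t : k := Algebra.norm k ((1 - sk / lk) • y + (sk / lk) • (1 : L)) /
    Algebra.norm k ((mk / lk) • y + 1)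
  have ht : t = Algebra.norm k (algebraMap (𝓞 k) k (lO - s) • y -
        algebraMap k L (algebraMap (𝓞 k) k (-s))) /
      Algebra.norm k (algebraMap (𝓞 k) k mO • y -
        algebraMap k L (algebraMap (𝓞 k) k (-lO))) := by
    have e1 : algebraMap (𝓞 k) k (lO - s) = lk - sk := by rw [map_sub, ← hlk]
    have e2 : algebraMap (𝓞 k) k (-s) = -sk := map_neg _ _
    have e3 : algebraMap (𝓞 k) k (-lO) = -lk := by rw [map_neg, ← hlk]
    rw [e1, e2, e3, ← hmk]
    exact RJd.tform y sk mk lk hl0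
  have hmO_mem : ∀ v ∈ S', mO ∈ v.asIdeal := fun v hv => Ideal.pow_le_self hN0 (hmI v hv)
  have hlO_notMem : ∀ v ∈ S', lO ∉ v.asIdeal := by
    intro v hv hmem
    refine v.isPrime.ne_top ((Ideal.eq_top_iff_one _).2 ?_)
    have : (1 : 𝓞 k) = lO - mO * ((bN * J : ℕ) : 𝓞 k) := by rw [hlO_eq']; ring
    rw [this]
    exact sub_mem hmem (Ideal.mul_mem_right _ _ (hmO_mem v hv))
  have hval_le : ∀ (v : HeightOneSpectrum (𝓞 k)) (x : 𝓞 k), x ∈ v.asIdeal ^ N →
      v.valuation k (algebraMap (𝓞 k) k x) ≤ WithZero.exp (-(N : ℤ)) := fun v x hx => by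
    rw [valuation_of_algebraMap]; exact (v.intValuation_le_pow_iff_mem x N).2 hx
  refine ⟨t, ?_, ?_, ?_, ?_⟩
  · have := (hJ w₀ (Finset.mem_insert_self _ _)).2
    intro h
    apply this
    show algebraMap k w₀.Completion t = 0
    rw [h, map_zero]
  · intro v hv
    have hvS : v ∈ S' := Finset.mem_union_left _ hv
    have hlv : v.valuation k lk = 1 := by
      rw [hlk]; exact (valuation_eq_one_iff_notMem (K := k) v).2 (hlO_notMem v hvS)
    refine hN1 v hv N (hN1' v hvS) (sk / lk) (mk / lk) ?_ ?_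
    · rw [map_div₀, hlv, div_one]
      have := hs v hvS
      rw [if_pos hv, sub_zero] at this
      exact hval_le v s this
    · rw [map_div₀, hlv, div_one, hmk]
      exact hval_le v mO (hmI v hvS)
  · intro w hw
    have := (hJ w (Finset.mem_insert_of_mem hw)).1
    simpa only [if_pos hw] using this
  · intro v hv
    by_cases hT : v ∈ T
    · left
      have hvS : v ∈ S' := Finset.mem_union_right _ hT
      have hs1 : s - 1 ∈ v.asIdeal ^ N := by
        have := hs v hvS
        rwa [if_neg hv] at this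
      have hs_notMem : s ∉ v.asIdeal := by
        intro hmem
        refine v.isPrime.ne_top ((Ideal.eq_top_iff_one _).2 ?_)
        have : (1 : 𝓞 k) = s - (s - 1) := by ring
        rw [this]
        exact sub_mem hmem (Ideal.pow_le_self hN0 hs1)
      have hc1 : lO - s ∈ v.asIdeal ^ N := by
        have : lO - s = mO * ((bN * J : ℕ) : 𝓞 k) - (s - 1) := by rw [hlO_eq']; ring
        rw [this]
        exact sub_mem (Ideal.mul_mem_right _ _ (hmI v hvS)) hs1
      show v.valuation k t = 1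
      rw [ht, map_div₀,
        RJd.unit_T v hprim N (hN2 v N (hN2' v hvS)) (lO - s) (-s) hc1
          (fun h => hs_notMem (neg_mem_iff.1 h)),
        RJd.unit_T v hprim N (hN2 v N (hN2' v hvS)) mO (-lO) (hmI v hvS)
          (fun h => hlO_notMem v hvS (neg_mem_iff.1 h)), div_one]
    · obtain ⟨hg, hA, hB⟩ := hgood v hT
      have hcop1 : ∃ u w : 𝓞 k, u * (lO - s) + w * (-s) = 1 :=
        ⟨1, mO * (J : 𝓞 k) * s' - 1, by rw [hlO_eq]; ring⟩
      have hcop2 : ∃ u w : 𝓞 k, u * mO + w * (-lO) = 1 :=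
        ⟨-((bN * J : ℕ) : 𝓞 k), -1, by rw [hlO_eq']; ring⟩
      rcases RJd.unit_or_emb v hprim A B hAB hg hA hB (lO - s) (-s) hcop1 with h1 | h1
      · rcases RJd.unit_or_emb v hprim A B hAB hg hA hB mO (-lO) hcop2 with h2 | h2
        · left
          show v.valuation k t = 1
          rw [ht, map_div₀, h1, h2, div_one]
        · exact Or.inr h2
      · exact Or.inr h1

end Groth.Agent.Lib.Helper21.RJe
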