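import Mathlib

set_option linter.style.haveILetI false

/-!
# Small elements with a single pole (via Minkowski), and the covering radius of the ring of integers
-/

namespace Groth.Agent.Lib.Helper21.RJf

open IsDedekindDomain HeightOneSpectrum NumberField Filter Topology MeasureTheory
open NumberField.mixedEmbedding
open scoped WithZero NNReal ENNReal nonZeroDivisors

variable {k : Type*} [Field k] [NumberField k]

theorem covering : ∃ R₀ : ℝ, 0 ≤ R₀ ∧ ∀ z : k, ∃ r : 𝓞 k, ∀ w : InfinitePlace k,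
    w (z - algebraMap (𝓞 k) k r) ≤ R₀ := by
  classical
  let B := NumberField.integralBasis k
  let R₀ : ℝ := ∑ w : InfinitePlace k, ∑ i, w (B i)
  have hR₀ : 0 ≤ R₀ := Finset.sum_nonneg fun w _ => Finset.sum_nonneg fun i _ => apply_nonneg _ _
  refine ⟨R₀, hR₀, fun z => ?_⟩
  let r : 𝓞 k := ∑ i, ⌊B.repr z i⌋ • (RingOfIntegers.basis k i)
  refine ⟨r, fun w => ?_⟩
  have hz : z - algebraMap (𝓞 k) k r = ∑ i, ((Int.fract (B.repr z i) : ℚ) : k) * B i := by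
    conv_lhs => rw [← B.sum_repr z]
    simp only [r, map_sum, map_zsmul, ← Finset.sum_sub_distrib]
    refine Finset.sum_congr rfl fun i _ => ?_
    rw [← integralBasis_apply, Algebra.smul_def, zsmul_eq_mul, ← sub_mul]
    congr 1
    rw [eq_ratCast, Int.fract]
    push_cast
    ring
  rw [hz]
  calc w (∑ i, ((Int.fract (B.repr z i) : ℚ) : k) * B i)
      ≤ ∑ i, w (((Int.fract (B.repr z i) : ℚ) : k) * B i) := w.1.sum_le _ _
    _ ≤ ∑ i, w (B i) := by
        refine Finset.sum_le_sum fun i _ => ?_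
        rw [map_mul, w.map_ratCast]
        refine mul_le_of_le_one_left (apply_nonneg _ _) ?_
        rw [← Rat.norm_cast_real, Real.norm_eq_abs,
          abs_of_nonneg (by exact_mod_cast Int.fract_nonneg _)]
        exact_mod_cast (Int.fract_lt_one _).le
    _ ≤ R₀ := Finset.single_le_sum (f := fun w : InfinitePlace k => ∑ i, w (B i))
        (fun w _ => Finset.sum_nonneg fun i _ => apply_nonneg _ _) (Finset.mem_univ w)

theorem small_element (v₀ : HeightOneSpectrum (𝓞 k)) (S' : Finset (HeightOneSpectrum (𝓞 k)))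
    (hv₀ : v₀ ∉ S') (N : ℕ) (η : ℝ) (hη : 0 < η) :
    ∃ a : k, a ≠ 0 ∧ (∀ w : InfinitePlace k, w a < η) ∧
      (∀ v : HeightOneSpectrum (𝓞 k), v ≠ v₀ → v.valuation k a ≤ 1) ∧
      (∀ v ∈ S', v.valuation k a ≤ WithZero.exp (-(N : ℤ))) := by
  classical
  let 𝔪 : Ideal (𝓞 k) := ∏ v ∈ S', v.asIdeal ^ N
  have h𝔪 : 𝔪 ≠ ⊥ := by
    rw [← Ideal.zero_eq_bot]
    exact Finset.prod_ne_zero_iff.2 fun v _ => pow_ne_zero N v.ne_bot
  have h𝔪' : (𝔪 : FractionalIdeal (𝓞 k)⁰ k) ≠ 0 := FractionalIdeal.coeIdeal_ne_zero.2 h𝔪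
  have hp' : ∀ j : ℕ, ((v₀.asIdeal ^ j : Ideal (𝓞 k)) : FractionalIdeal (𝓞 k)⁰ k) ≠ 0 :=
    fun j => FractionalIdeal.coeIdeal_ne_zero.2 (pow_ne_zero j v₀.ne_bot)
  let Ij : ℕ → (FractionalIdeal (𝓞 k)⁰ k)ˣ := fun j =>
    Units.mk0 ((𝔪 : FractionalIdeal (𝓞 k)⁰ k) /
      ((v₀.asIdeal ^ j : Ideal (𝓞 k)) : FractionalIdeal (𝓞 k)⁰ k)) (div_ne_zero h𝔪' (hp' j))
  let f : InfinitePlace k → ℝ≥0 := fun _ => ⟨η, hη.le⟩
  have hvol : 0 < volume (convexBodyLT k f) := by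
    rw [convexBodyLT_volume]
    have hf : ∀ w : InfinitePlace k, f w ≠ 0 := fun w h => hη.ne' (congrArg NNReal.toReal h)
    have : (convexBodyLTFactor k) * ∏ w, (f w) ^ (InfinitePlace.mult w) ≠ 0 :=
      mul_ne_zero (convexBodyLTFactor_ne_zero k)
        (Finset.prod_ne_zero_iff.2 fun w _ => pow_ne_zero _ (hf w))
    exact_mod_cast pos_iff_ne_zero.2 this
  have hM : ∀ j, minkowskiBound k (Ij j) =
      ENNReal.ofReal ((Ideal.absNorm 𝔪 : ℝ) / (Ideal.absNorm v₀.asIdeal : ℝ) ^ j) *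
        minkowskiBound k 1 := by
    intro j
    unfold minkowskiBound
    rw [volume_fundamentalDomain_fractionalIdealLatticeBasis,
      volume_fundamentalDomain_fractionalIdealLatticeBasis]
    have h1 : FractionalIdeal.absNorm
        (((1 : (FractionalIdeal (𝓞 k)⁰ k)ˣ) : FractionalIdeal (𝓞 k)⁰ k)) = 1 := by
      simp [FractionalIdeal.absNorm_one]
    have hj : ((FractionalIdeal.absNorm
        (((Ij j : (FractionalIdeal (𝓞 k)⁰ k)ˣ)) : FractionalIdeal (𝓞 k)⁰ k) : ℚ) : ℝ) =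
        (Ideal.absNorm 𝔪 : ℝ) / (Ideal.absNorm v₀.asIdeal : ℝ) ^ j := by
      simp only [Ij, Units.val_mk0, map_div₀, FractionalIdeal.coeIdeal_absNorm, map_pow]
      push_cast
      rfl
    rw [h1, hj]
    simp only [Rat.cast_one, ENNReal.ofReal_one, one_mul]
    ring
  have hx_tend : Tendsto (fun j : ℕ => (Ideal.absNorm 𝔪 : ℝ) /
      (Ideal.absNorm v₀.asIdeal : ℝ) ^ j) atTop (𝓝 0) := by
    have h2 : (1 : ℝ) < (Ideal.absNorm v₀.asIdeal : ℝ) := by
      exact_mod_cast NumberField.HeightOneSpectrum.one_lt_absNorm v₀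
    exact (tendsto_pow_atTop_atTop_of_one_lt h2).const_div_atTop _
  have hM_tend : Tendsto (fun j : ℕ => minkowskiBound k (Ij j)) atTop (𝓝 0) := by
    have h3 := ENNReal.Tendsto.mul_const (ENNReal.tendsto_ofReal hx_tend)
      (Or.inr (minkowskiBound_lt_top k 1).ne)
    simp only [ENNReal.ofReal_zero, zero_mul] at h3
    refine h3.congr fun j => (hM j).symm
  obtain ⟨j, hj⟩ := (hM_tend.eventually (gt_mem_nhds hvol)).exists
  obtain ⟨a, ha_mem, ha0, haw⟩ := exists_ne_zero_mem_ideal_lt k (Ij j) hj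
  have ha_mem' : ∀ x ∈ v₀.asIdeal ^ j, ∃ z ∈ 𝔪,
      algebraMap (𝓞 k) k z = a * algebraMap (𝓞 k) k x := by
    intro x hx
    have h1 : a ∈ ((𝔪 : FractionalIdeal (𝓞 k)⁰ k) /
        ((v₀.asIdeal ^ j : Ideal (𝓞 k)) : FractionalIdeal (𝓞 k)⁰ k)) := ha_mem
    rw [FractionalIdeal.mem_div_iff_of_ne_zero (hp' j)] at h1
    have := h1 (algebraMap (𝓞 k) k x) ((FractionalIdeal.mem_coeIdeal (𝓞 k)⁰).2 ⟨x, hx, rfl⟩)
    exact (FractionalIdeal.mem_coeIdeal (𝓞 k)⁰).1 this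
  have hval : ∀ v : HeightOneSpectrum (𝓞 k), v ≠ v₀ → ∃ z ∈ 𝔪,
      v.valuation k a = v.valuation k (algebraMap (𝓞 k) k z) := by
    intro v hv
    have hne : ¬ v₀.asIdeal ≤ v.asIdeal := fun hle =>
      hv (HeightOneSpectrum.ext (v₀.isMaximal.eq_of_le v.isPrime.ne_top hle)).symm
    obtain ⟨x₁, hx₁, hx₁'⟩ := SetLike.not_le_iff_exists.1 hne
    obtain ⟨z, hz, hza⟩ := ha_mem' (x₁ ^ j) (Ideal.pow_mem_pow hx₁ j)
    refine ⟨z, hz, ?_⟩
    have hx : v.valuation k (algebraMap (𝓞 k) k (x₁ ^ j)) = 1 :=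
      (valuation_eq_one_iff_notMem (K := k) v).2 (fun h => hx₁' (v.isPrime.mem_of_pow_mem j h))
    rw [hza, map_mul, hx, mul_one]
  refine ⟨a, ha0, fun w => haw w, fun v hv => ?_, fun v hv => ?_⟩
  · obtain ⟨z, -, hz⟩ := hval v hv
    rw [hz]; exact v.valuation_le_one z
  · have hvne : v ≠ v₀ := fun h => hv₀ (h ▸ hv)
    obtain ⟨z, hz𝔪, hz⟩ := hval v hvne
    rw [hz, valuation_of_algebraMap]
    exact (v.intValuation_le_pow_iff_mem z N).2
      ((Ideal.prod_le_inf.trans (Finset.inf_le hv)) hz𝔪)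

end Groth.Agent.Lib.Helper21.RJf
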