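import Mathlib
import Groth.Agent.Lib.Helper21.RJd
import Groth.Agent.Lib.Helper21.RJf

set_option linter.style.haveILetI false

/-!
# Strong approximation away from one finite place, and integral global elements close to local norms
-/

namespace Groth.Agent.Lib.Helper21.RJg

open IsDedekindDomain HeightOneSpectrum NumberField Filter Topology Polynomial
open scoped TensorProduct WithZero
open Groth.Agent.Lib.Helper21

section

variable {k : Type*} [Field k] [NumberField k]

theorem strong_approx (v₀ : HeightOneSpectrum (𝓞 k)) (S' : Finset (HeightOneSpectrum (𝓞 k)))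
    (hv₀ : v₀ ∉ S') (N : ℕ) (c : HeightOneSpectrum (𝓞 k) → 𝓞 k) (ε : ℝ) (hε : 0 < ε) :
    ∃ β : k, (∀ v : HeightOneSpectrum (𝓞 k), v ≠ v₀ → v.valuation k β ≤ 1) ∧
      (∀ v ∈ S', v.valuation k (β - algebraMap (𝓞 k) k (c v)) ≤ WithZero.exp (-(N : ℤ))) ∧
      (∀ w : InfinitePlace k, w β < ε) := by
  classical
  obtain ⟨x₀, hx₀⟩ := IsDedekindDomain.exists_forall_sub_mem_ideal (s := S')
    (fun v => v.asIdeal) (fun _ => N) (fun v _ => v.prime)
    (fun v _ v' _ hne h => hne (HeightOneSpectrum.ext h)) (fun v => c v.1)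
  obtain ⟨R₀, hR₀, hcov⟩ := RJf.covering (k := k)
  have hη : 0 < ε / (R₀ + 1) := by positivity
  obtain ⟨a, ha0, haw, hav, haS⟩ := RJf.small_element v₀ S' hv₀ N (ε / (R₀ + 1)) hη
  obtain ⟨r, hr⟩ := hcov (-(algebraMap (𝓞 k) k x₀) / a)
  refine ⟨algebraMap (𝓞 k) k x₀ + a * algebraMap (𝓞 k) k r, fun v hv => ?_, fun v hv => ?_,
    fun w => ?_⟩
  · refine Valuation.map_add_le _ (v.valuation_le_one x₀) ?_
    rw [map_mul]
    exact mul_le_one' (hav v hv) (v.valuation_le_one r)
  · have e : algebraMap (𝓞 k) k x₀ + a * algebraMap (𝓞 k) k r - algebraMap (𝓞 k) k (c v) =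
        algebraMap (𝓞 k) k (x₀ - c v) + a * algebraMap (𝓞 k) k r := by
      rw [map_sub]; ring
    rw [e]
    refine Valuation.map_add_le _ ?_ ?_
    · rw [valuation_of_algebraMap]
      exact (v.intValuation_le_pow_iff_mem _ N).2 (hx₀ v hv)
    · rw [map_mul]
      calc v.valuation k a * v.valuation k (algebraMap (𝓞 k) k r)
          ≤ v.valuation k a := mul_le_of_le_one_right' (v.valuation_le_one r)
        _ ≤ _ := haS v hv
  · have e : algebraMap (𝓞 k) k x₀ + a * algebraMap (𝓞 k) k r =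
        -a * (-(algebraMap (𝓞 k) k x₀) / a - algebraMap (𝓞 k) k r) := by
      field_simp
      ring
    have hneg : w (-a) = w a := w.1.map_neg a
    rw [e, map_mul, hneg]
    calc w a * w (-(algebraMap (𝓞 k) k x₀) / a - algebraMap (𝓞 k) k r)
        ≤ w a * R₀ := mul_le_mul_of_nonneg_left (hr w) (apply_nonneg _ _)
      _ ≤ ε / (R₀ + 1) * R₀ := mul_le_mul_of_nonneg_right (haw w).le hR₀
      _ < ε / (R₀ + 1) * (R₀ + 1) := mul_lt_mul_of_pos_left (lt_add_one R₀) hη
      _ = ε := by field_simp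

end

section places

variable {k L : Type*} [Field k] [NumberField k] [Field L] [Algebra k L] [FiniteDimensional k L]

theorem unit_or_emb' (v : HeightOneSpectrum (𝓞 k)) {y : L} (hprim : Algebra.adjoin k {y} = ⊤)
    (A B : k[X]) (hAB : A * minpoly k y + B * derivative (minpoly k y) = 1)
    (hg : ∀ i, v.valuation k ((minpoly k y).coeff i) ≤ 1)
    (hA : ∀ i, v.valuation k (A.coeff i) ≤ 1) (hB : ∀ i, v.valuation k (B.coeff i) ≤ 1)
    (c a : k) (hc : v.valuation k c ≤ 1) (ha : v.valuation k a ≤ 1)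
    (hcop : v.valuation k c < 1 → v.valuation k a = 1) :
    v.valuation k (Algebra.norm k (c • y - algebraMap k L a)) = 1 ∨
      Nonempty (L →ₐ[k] v.adicCompletion k) := by
  rcases hc.lt_or_eq with hlt | heq
  · left
    exact RJb.val_norm_eq_one (v.valuation k) hprim _ _ (hcop hlt) hlt.le
      (fun i _ => lt_of_le_of_lt (mul_le_of_le_one_left' (hg i)) hlt)
  · exact RJb.good_place v hprim A B hAB hg hA hB _ _ ha heq

theorem val_norm_le_one {Γ₀ : Type*} [LinearOrderedCommGroupWithZero Γ₀] (val : Valuation k Γ₀)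
    {y : L} (hprim : Algebra.adjoin k {y} = ⊤) (a c : k) (ha : val a ≤ 1) (hc : val c ≤ 1)
    (hg : ∀ i, val ((minpoly k y).coeff i) ≤ 1) :
    val (Algebra.norm k (c • y - algebraMap k L a)) ≤ 1 := by
  rw [RJb.norm_smul_sub_eq_sum hprim, map_mul, map_pow, Valuation.map_neg, map_one, one_pow,
    one_mul]
  refine val.map_sum_le fun i _ => ?_
  rw [map_mul, map_mul, map_pow, map_pow]
  exact mul_le_one' (mul_le_one' (hg i) (pow_le_one' ha i)) (pow_le_one' hc _)

end places

end Groth.Agent.Lib.Helper21.RJg
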