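import Mathlib
import Groth.Agent.Lib.Helper21.RJg

set_option linter.style.haveILetI false

/-!
# Integral global elements close to local norms, units away from places of degree one
-/

namespace Groth.Agent.Lib.Helper21.RJh

open IsDedekindDomain HeightOneSpectrum NumberField Filter Topology Polynomial
open scoped TensorProduct WithZero
open Groth.Agent.Lib.Helper21

universe u

set_option maxHeartbeats 1600000 in
theorem main (k L : Type u) [Field k] [NumberField k]
    [Field L] [NumberField L] [Algebra k L]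
    (Sf : Finset (IsDedekindDomain.HeightOneSpectrum (NumberField.RingOfIntegers k)))
    (Si : Finset (NumberField.InfinitePlace k))
    (tf : (v : IsDedekindDomain.HeightOneSpectrum (NumberField.RingOfIntegers k)) →
      v.adicCompletion k)
    (ti : (w : NumberField.InfinitePlace k) → w.Completion)
    (htf : ∀ v ∈ Sf, tf v ≠ 0 ∧ ∃ x : (v.adicCompletion k) ⊗[k] L,
      Algebra.norm (v.adicCompletion k) x = tf v)
    (hti : ∀ w ∈ Si, ti w ≠ 0 ∧ ∃ x : w.Completion ⊗[k] L, Algebra.norm w.Completion x = ti w)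
    (Uf : (v : IsDedekindDomain.HeightOneSpectrum (NumberField.RingOfIntegers k)) →
      Set (v.adicCompletion k))
    (hUf : ∀ v ∈ Sf, IsOpen (Uf v) ∧ tf v ∈ Uf v)
    (Ui : (w : NumberField.InfinitePlace k) → Set w.Completion)
    (hUi : ∀ w ∈ Si, IsOpen (Ui w) ∧ ti w ∈ Ui w)
    (v₀ : IsDedekindDomain.HeightOneSpectrum (NumberField.RingOfIntegers k)) (hv₀ : v₀ ∉ Sf)
    (hLv₀ : Nonempty (L →ₐ[k] v₀.adicCompletion k)) :
    ∃ t : k, t ≠ 0 ∧ (∀ v ∈ Sf, algebraMap k (v.adicCompletion k) t ∈ Uf v) ∧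
      (∀ w ∈ Si, algebraMap k w.Completion t ∈ Ui w) ∧
      (∀ v : IsDedekindDomain.HeightOneSpectrum (NumberField.RingOfIntegers k), v ∉ Sf →
        v ≠ v₀ → v.valuation k t ≤ 1) ∧
      ∀ v : IsDedekindDomain.HeightOneSpectrum (NumberField.RingOfIntegers k), v ∉ Sf →
        v.valuation k t = 1 ∨ Nonempty (L →ₐ[k] v.adicCompletion k) := by
  classical
  haveI : FiniteDimensional k L := Module.Finite.of_restrictScalars_finite ℚ k L
  haveI : Algebra.IsSeparable k L := inferInstance
  obtain ⟨w₀⟩ := (inferInstance : Nonempty (InfinitePlace k))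
  let ti' : ∀ w : InfinitePlace k, w.Completion := fun w => if w ∈ Si then ti w else 1
  let Ui' : ∀ w : InfinitePlace k, Set w.Completion :=
    fun w => (if w ∈ Si then Ui w else Set.univ) ∩ {x | x ≠ 0}
  have hti' : ∀ w ∈ insert w₀ Si, ∃ x : w.Completion ⊗[k] L,
      Algebra.norm w.Completion x = ti' w := by
    intro w _
    by_cases hw : w ∈ Si
    · simp only [ti', if_pos hw]; exact (hti w hw).2
    · simp only [ti', if_neg hw]; exact ⟨1, map_one _⟩
  have hUi' : ∀ w ∈ insert w₀ Si, IsOpen (Ui' w) ∧ ti' w ∈ Ui' w := by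
    intro w _
    by_cases hw : w ∈ Si
    · simp only [Ui', ti', if_pos hw]
      exact ⟨(hUi w hw).1.inter isOpen_ne, (hUi w hw).2, (hti w hw).1⟩
    · simp only [Ui', ti', if_neg hw]
      exact ⟨isOpen_univ.inter isOpen_ne, Set.mem_univ _, one_ne_zero⟩
  obtain ⟨y, hprim, hyf, hyi⟩ := RJc.exists_primitive (L := L) Sf (insert w₀ Si)
    ⟨w₀, Finset.mem_insert_self _ _⟩ tf ti' (fun v hv => (htf v hv).2) hti' Uf hUf Ui' hUi'
  have hy : IsIntegral k y := IsIntegral.of_finite k y
  obtain ⟨A, B, hAB⟩ := (Polynomial.separable_def' _).1 (minpoly.irreducible hy).separable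
  have hTfin := ((RJb.finite_bad (minpoly k y)).union (RJb.finite_bad A)).union
    (RJb.finite_bad B)
  let T : Finset (HeightOneSpectrum (𝓞 k)) := hTfin.toFinset
  have hgood : ∀ v : HeightOneSpectrum (𝓞 k), v ∉ T →
      (∀ i, v.valuation k ((minpoly k y).coeff i) ≤ 1) ∧
      (∀ i, v.valuation k (A.coeff i) ≤ 1) ∧ (∀ i, v.valuation k (B.coeff i) ≤ 1) := by
    intro v hv
    rw [Set.Finite.mem_toFinset] at hv
    simp only [Set.mem_union, Set.mem_setOf_eq, not_or, not_exists, not_lt] at hv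
    exact ⟨hv.1.1, hv.1.2, hv.2⟩
  have h1 : ∀ v : HeightOneSpectrum (𝓞 k), ∃ N₀ : ℕ, v ∈ Sf → ∀ N : ℕ, N₀ ≤ N → ∀ p q : k,
      v.valuation k p ≤ WithZero.exp (-(N : ℤ)) → v.valuation k q ≤ WithZero.exp (-(N : ℤ)) →
      algebraMap k (v.adicCompletion k) (Algebra.norm k ((1 - p) • y + p • (1 : L)) /
        Algebra.norm k (q • y + 1)) ∈ Uf v := by
    intro v
    by_cases hv : v ∈ Sf
    · obtain ⟨ε, hε, hφ⟩ := RJd.phi_mem (v.adicCompletion k) y (Uf v) (hUf v hv).1 (hyf v hv)
      obtain ⟨N₀, hN₀⟩ := RJb.exists_norm_lt v ε hε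
      exact ⟨N₀, fun _ N hN p q hp hq => hφ p q (hN₀ N hN p hp) (hN₀ N hN q hq)⟩
    · exact ⟨0, fun h => absurd h hv⟩
  choose N1 hN1 using h1
  choose N2 hN2 using fun v : HeightOneSpectrum (𝓞 k) =>
    RJd.exists_pow_bound_poly v (minpoly k y)
  let S' : Finset (HeightOneSpectrum (𝓞 k)) := Sf ∪ T.erase v₀
  have hv₀S : v₀ ∉ S' := by
    simp only [S', Finset.mem_union, Finset.mem_erase, ne_eq, not_true_eq_false, false_and,
      or_false]
    exact hv₀
  let N : ℕ := S'.sup (fun v => max (N1 v) (N2 v)) + 1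
  have hN1' : ∀ v ∈ S', N1 v ≤ N := fun v hv => (le_max_left _ _).trans
    ((Finset.le_sup (f := fun v => max (N1 v) (N2 v)) hv).trans (Nat.le_succ _))
  have hN2' : ∀ v ∈ S', N2 v ≤ N := fun v hv => (le_max_right _ _).trans
    ((Finset.le_sup (f := fun v => max (N1 v) (N2 v)) hv).trans (Nat.le_succ _))
  have hexpN : (WithZero.exp (-(N : ℤ)) : ℤᵐ⁰) < 1 := by
    rw [← WithZero.exp_zero, WithZero.exp_lt_exp]
    have : (0 : ℤ) < N := by exact_mod_cast Nat.succ_pos _
    omega
  -- the archimedean radii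
  have h2 : ∀ w : InfinitePlace k, ∃ ε : ℝ, 0 < ε ∧ (w ∈ insert w₀ Si → ∀ p q : k,
      ‖algebraMap k w.Completion p‖ < ε → ‖algebraMap k w.Completion q‖ < ε →
      algebraMap k w.Completion (Algebra.norm k ((1 - p) • y + p • (1 : L)) /
        Algebra.norm k (q • y + 1)) ∈ Ui' w) := by
    intro w
    by_cases hw : w ∈ insert w₀ Si
    · obtain ⟨ε, hε, hφ⟩ := RJd.phi_mem w.Completion y (Ui' w) (hUi' w hw).1 (hyi w hw)
      exact ⟨ε, hε, fun _ => hφ⟩
    · exact ⟨1, one_pos, fun h => absurd h hw⟩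
  choose εi hεi0 hεi using h2
  obtain ⟨ε, hε, hεle⟩ := RJc.exists_pos_le (insert w₀ Si) εi (fun w _ => hεi0 w)
  obtain ⟨β, hβint, hβS, hβw⟩ := RJg.strong_approx v₀ S' hv₀S N
    (fun v => if v ∈ Sf then 0 else 1) ε hε
  let t : k := Algebra.norm k ((1 - β) • y + β • (1 : L)) /
    Algebra.norm k ((0 : k) • y + 1)
  have ht : t = Algebra.norm k ((1 - β) • y - algebraMap k L (-β)) := by
    simp only [t, zero_smul, zero_add, map_one, div_one, map_neg, sub_neg_eq_add,
      Algebra.algebraMap_eq_smul_one]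
  have hmain : ∀ v : HeightOneSpectrum (𝓞 k), v ∉ Sf → v ≠ v₀ →
      v.valuation k t ≤ 1 ∧ (v.valuation k t = 1 ∨ Nonempty (L →ₐ[k] v.adicCompletion k)) := by
    intro v hv hvv₀
    by_cases hT : v ∈ T
    · have hvS : v ∈ S' := Finset.mem_union_right _ (Finset.mem_erase.2 ⟨hvv₀, hT⟩)
      have hb1 : v.valuation k (β - 1) ≤ WithZero.exp (-(N : ℤ)) := by
        have := hβS v hvS
        rwa [if_neg hv, map_one] at this
      have hb : v.valuation k β = 1 := by
        have : β = 1 + (β - 1) := by ring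
        rw [this]
        exact Valuation.map_one_add_of_lt _ (lt_of_le_of_lt hb1 hexpN)
      have hc : v.valuation k (1 - β) ≤ WithZero.exp (-(N : ℤ)) := by
        rw [← Valuation.map_neg, neg_sub]; exact hb1
      have hunit : v.valuation k t = 1 := by
        rw [ht]
        exact RJb.val_norm_eq_one (v.valuation k) hprim _ _
          (by rw [Valuation.map_neg]; exact hb) (hc.trans hexpN.le)
          (fun i _ => lt_of_le_of_lt (mul_le_mul' le_rfl hc) (hN2 v N (hN2' v hvS) i))
      exact ⟨hunit.le, Or.inl hunit⟩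
    · obtain ⟨hg, hA, hB⟩ := hgood v hT
      have hb : v.valuation k β ≤ 1 := hβint v hvv₀
      have hc : v.valuation k (1 - β) ≤ 1 :=
        Valuation.map_sub_le _ (by rw [map_one]) hb
      have ha : v.valuation k (-β) ≤ 1 := by rw [Valuation.map_neg]; exact hb
      refine ⟨?_, ?_⟩
      · rw [ht]
        exact RJg.val_norm_le_one (v.valuation k) hprim _ _ ha hc hg
      · rw [ht]
        refine RJg.unit_or_emb' v hprim A B hAB hg hA hB _ _ hc ha (fun hlt => ?_)
        rw [Valuation.map_neg]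
        rcases hb.lt_or_eq with hlt' | h
        · exfalso
          have h1 : v.valuation k ((1 - β) + β) < 1 := Valuation.map_add_lt _ hlt hlt'
          rw [sub_add_cancel, map_one] at h1
          exact lt_irrefl _ h1
        · exact h
  refine ⟨t, ?_, ?_, ?_, fun v hv hvv₀ => (hmain v hv hvv₀).1, fun v hv => ?_⟩
  · have hw₀ : w₀ ∈ insert w₀ Si := Finset.mem_insert_self _ _
    have := (hεi w₀ hw₀ β 0
      (by rw [RIz.norm_inf]; exact (hβw w₀).trans_le (hεle w₀ hw₀))
      (by rw [map_zero, norm_zero]; exact hεi0 w₀)).2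
    intro h
    apply this
    show algebraMap k w₀.Completion t = 0
    rw [h, map_zero]
  · intro v hv
    have hvS : v ∈ S' := Finset.mem_union_left _ hv
    refine hN1 v hv N (hN1' v hvS) β 0 ?_ ?_
    · have := hβS v hvS
      rwa [if_pos hv, map_zero, sub_zero] at this
    · rw [map_zero]; exact zero_le'
  · intro w hw
    have hw' : w ∈ insert w₀ Si := Finset.mem_insert_of_mem hw
    have := (hεi w hw' β 0
      (by rw [RIz.norm_inf]; exact (hβw w).trans_le (hεle w hw'))
      (by rw [map_zero, norm_zero]; exact hεi0 w)).1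
    simpa only [if_pos hw] using this
  · by_cases hvv₀ : v = v₀
    · subst hvv₀; exact Or.inr hLv₀
    · exact (hmain v hv hvv₀).2

end Groth.Agent.Lib.Helper21.RJh
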