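import Mathlib
import Groth.Agent.Lib.Helper12.DimFT

set_option linter.style.haveILetI false

/-!
# A generic line misses a closed subset of codimension at least two of affine space
-/

namespace Groth.Agent.Lib.Helper21.RJi

universe u

open Cardinal

theorem exists_ne_zero_map_eq_zero {k : Type u} [Field k] {σ : Type} [Fintype σ] {C' : Type u}
    [CommRing C'] [Algebra k C'] [Algebra.FiniteType k C'] (ψ : MvPolynomial σ k →ₐ[k] C')
    (h : ringKrullDim C' < ((Fintype.card σ : ℕ) : WithBot ℕ∞)) :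
    ∃ Φ : MvPolynomial σ k, Φ ≠ 0 ∧ ψ Φ = 0 := by
  by_contra hcon
  push Not at hcon
  have hinj : Function.Injective ψ := by
    rw [injective_iff_map_eq_zero]
    intro a ha
    by_contra hne
    exact hcon a hne ha
  have hbot : (⊥ : Ideal (MvPolynomial σ k)) ∈ minimalPrimes (MvPolynomial σ k) := by
    rw [IsDomain.minimalPrimes_eq_singleton_bot]; exact Set.mem_singleton _
  obtain ⟨q, hq, hqc⟩ := Ideal.exists_comap_eq_of_mem_minimalPrimes_of_injective
    (f := ψ.toRingHom) hinj ⊥ hbot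
  haveI := hq
  let φ : MvPolynomial σ k →ₐ[k] (C' ⧸ q) := (Ideal.Quotient.mkₐ k q).comp ψ
  have hφ : Function.Injective φ := by
    rw [injective_iff_map_eq_zero]
    intro a ha
    have hmem : a ∈ Ideal.comap ψ.toRingHom q := by
      rw [Ideal.mem_comap]; exact Ideal.Quotient.eq_zero_iff_mem.1 ha
    rw [hqc] at hmem
    exact (Ideal.mem_bot).1 hmem
  obtain ⟨s, hs1, hs2, -⟩ := Groth.Agent.Lib.Helper12.DimFT.exists_dim_eq_trdeg k (C' ⧸ q)
  have h1 := trdeg_le_of_injective φ hφ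
  rw [MvPolynomial.trdeg_of_isDomain, hs2] at h1
  have h2 : Fintype.card σ ≤ s := by
    have : ((Fintype.card σ : ℕ) : Cardinal.{u}) ≤ (s : Cardinal.{u}) := by simpa using h1
    exact_mod_cast this
  have h3 : ringKrullDim (C' ⧸ q) ≤ ringKrullDim C' := ringKrullDim_quotient_le q
  rw [hs1] at h3
  have h4 : ((Fintype.card σ : ℕ) : WithBot ℕ∞) ≤ (s : WithBot ℕ∞) := by exact_mod_cast h2
  exact absurd (h4.trans h3) (not_le.2 h)

theorem line_exists {k : Type u} [Field k] (n m : ℕ) (hn : 1 ≤ n)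
    (F : Fin m → MvPolynomial (Fin n) k)
    (hcodim : ringKrullDim (MvPolynomial (Fin n) k ⧸ Ideal.span (Set.range F)) + 2 ≤
      (n : WithBot ℕ∞)) :
    ∃ Φ : MvPolynomial (Fin n ⊕ Fin n) k, Φ ≠ 0 ∧ ∀ M D : Fin n → k,
      MvPolynomial.eval (Sum.elim M D) Φ ≠ 0 →
      ∃ g : Fin m → Polynomial k, ∑ j, g j * MvPolynomial.aeval
        (fun i => Polynomial.C (M i) + Polynomial.X * Polynomial.C (D i)) (F j) = 1 := by
  classical
  set I := Ideal.span (Set.range F) with hI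
  let B := MvPolynomial (Fin n) k ⧸ I
  let C' := MvPolynomial (Option (Fin n)) B
  let ψ : MvPolynomial (Fin n ⊕ Fin n) k →ₐ[k] C' := MvPolynomial.aeval
    (Sum.elim (fun i => MvPolynomial.C (Ideal.Quotient.mk I (MvPolynomial.X i)) -
      MvPolynomial.X none * MvPolynomial.X (some i)) (fun i => MvPolynomial.X (some i)))
  have hdim : ringKrullDim C' < ((Fintype.card (Fin n ⊕ Fin n) : ℕ) : WithBot ℕ∞) := by
    have h0 : ringKrullDim C' = ringKrullDim B + ((n + 1 : ℕ) : WithBot ℕ∞) := by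
      simp only [C']
      rw [MvPolynomial.ringKrullDim_of_isNoetherianRing]
      simp
    rw [h0, Fintype.card_sum, Fintype.card_fin]
    obtain ⟨n', rfl⟩ : ∃ n', n = n' + 1 := ⟨n - 1, by omega⟩
    have e1 : ((n' + 1 + 1 : ℕ) : WithBot ℕ∞) = (2 : WithBot ℕ∞) + (n' : WithBot ℕ∞) := by
      rw [show n' + 1 + 1 = 2 + n' by omega, Nat.cast_add]; rfl
    rw [e1, ← add_assoc]
    calc ringKrullDim B + 2 + (n' : WithBot ℕ∞)
        ≤ ((n' + 1 : ℕ) : WithBot ℕ∞) + (n' : WithBot ℕ∞) := add_le_add_left hcodim _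
      _ = ((n' + 1 + n' : ℕ) : WithBot ℕ∞) := by rw [Nat.cast_add (n' + 1) n']
      _ < ((n' + 1 + (n' + 1) : ℕ) : WithBot ℕ∞) := by
        exact_mod_cast (by omega : n' + 1 + n' < n' + 1 + (n' + 1))
  obtain ⟨Φ, hΦ0, hΦ⟩ := exists_ne_zero_map_eq_zero (C' := C') ψ hdim
  refine ⟨Φ, hΦ0, fun M D hMD => ?_⟩
  let L : MvPolynomial (Fin n) k →ₐ[k] Polynomial k := MvPolynomial.aeval
    (fun i => Polynomial.C (M i) + Polynomial.X * Polynomial.C (D i))
  by_contra hno
  have hJ : Ideal.span (Set.range (fun j => L (F j))) ≠ ⊤ := by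
    intro htop
    have h1 : (1 : Polynomial k) ∈ Ideal.span (Set.range (fun j => L (F j))) := by
      rw [htop]; trivial
    rw [Ideal.mem_span_range_iff_exists_fun] at h1
    exact hno h1
  obtain ⟨𝔫, h𝔫max, hJ𝔫⟩ := Ideal.exists_le_maximal _ hJ
  haveI := h𝔫max
  letI : Field (Polynomial k ⧸ 𝔫) := Ideal.Quotient.field 𝔫
  let Lbar : MvPolynomial (Fin n) k →ₐ[k] (Polynomial k ⧸ 𝔫) := (Ideal.Quotient.mkₐ k 𝔫).comp L
  have hkill : ∀ a ∈ I, Lbar a = 0 := by
    have hle : I ≤ RingHom.ker Lbar.toRingHom := by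
      rw [hI, Ideal.span_le]
      rintro _ ⟨j, rfl⟩
      show Lbar (F j) = 0
      exact Ideal.Quotient.eq_zero_iff_mem.2 (hJ𝔫 (Ideal.subset_span ⟨j, rfl⟩))
    intro a ha
    exact hle ha
  let β : B →ₐ[k] (Polynomial k ⧸ 𝔫) := Ideal.Quotient.liftₐ I Lbar hkill
  let τ : Polynomial k ⧸ 𝔫 := Ideal.Quotient.mk 𝔫 Polynomial.X
  let θ : C' →+* (Polynomial k ⧸ 𝔫) := MvPolynomial.eval₂Hom (β : B →+* (Polynomial k ⧸ 𝔫))
    (fun o => Option.elim o τ (fun i => algebraMap k (Polynomial k ⧸ 𝔫) (D i)))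
  have hβ : ∀ i, β (Ideal.Quotient.mk I (MvPolynomial.X i)) =
      algebraMap k (Polynomial k ⧸ 𝔫) (M i) + τ * algebraMap k (Polynomial k ⧸ 𝔫) (D i) := by
    intro i
    show Lbar (MvPolynomial.X i) = _
    simp only [Lbar, L, AlgHom.comp_apply, MvPolynomial.aeval_X, Ideal.Quotient.mkₐ_eq_mk,
      map_add, map_mul, τ]
    rfl
  have hθC : ∀ b : B, θ (MvPolynomial.C b) = β b := fun b => MvPolynomial.eval₂Hom_C _ _ b
  have hθn : θ (MvPolynomial.X none) = τ := MvPolynomial.eval₂Hom_X' _ _ none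
  have hθs : ∀ i : Fin n, θ (MvPolynomial.X (some i)) =
      algebraMap k (Polynomial k ⧸ 𝔫) (D i) := fun i => MvPolynomial.eval₂Hom_X' _ _ (some i)
  have hcomp : θ.comp ψ.toRingHom =
      (algebraMap k (Polynomial k ⧸ 𝔫)).comp (MvPolynomial.eval (Sum.elim M D)) := by
    apply MvPolynomial.ringHom_ext
    · intro a
      simp only [RingHom.comp_apply, AlgHom.toRingHom_eq_coe, RingHom.coe_coe, MvPolynomial.eval_C]
      rw [← MvPolynomial.algebraMap_eq, AlgHom.commutes, MvPolynomial.algebraMap_apply, hθC,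
        AlgHom.commutes]
    · intro i
      cases i with
      | inl i =>
        simp only [RingHom.comp_apply, AlgHom.toRingHom_eq_coe, RingHom.coe_coe,
          MvPolynomial.eval_X, Sum.elim_inl, ψ, MvPolynomial.aeval_X, map_sub, map_mul,
          hθC, hθn, hθs, hβ]
        ring
      | inr i =>
        simp only [RingHom.comp_apply, AlgHom.toRingHom_eq_coe, RingHom.coe_coe,
          MvPolynomial.eval_X, Sum.elim_inr, ψ, MvPolynomial.aeval_X, hθs]
  have h0 : algebraMap k (Polynomial k ⧸ 𝔫) (MvPolynomial.eval (Sum.elim M D) Φ) = 0 := by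
    have := RingHom.congr_fun hcomp Φ
    simp only [RingHom.comp_apply, AlgHom.toRingHom_eq_coe, RingHom.coe_coe] at this
    rw [← this, hΦ, map_zero]
  exact hMD ((map_eq_zero_iff _ (algebraMap k (Polynomial k ⧸ 𝔫)).injective).1 h0)

end Groth.Agent.Lib.Helper21.RJi
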