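import Mathlib
import Groth.Agent.Lib.Helper21.RJg

set_option linter.style.haveILetI false

/-!
# Integral points of the complement of a closed subset of affine space: local lemmas
-/

namespace Groth.Agent.Lib.Helper21.RJj

open IsDedekindDomain HeightOneSpectrum NumberField
open scoped WithZero
open Groth.Agent.Lib.Helper21

section general

variable {k : Type*} [Field k]

lemma norm_add_pow_sub_lt {K : Type*} [NormedField K] [Algebra k K] (a y : k) (z : K) (ε η : ℝ)
    (hη : η ≤ 1) (hη2 : η ≤ ε / 2) (hbase : ‖algebraMap k K a - z‖ < ε / 2)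
    (hy : ‖algebraMap k K y‖ < η) (j : ℕ) : ‖algebraMap k K (a + y ^ (j + 1)) - z‖ < ε := by
  have h1 : ‖algebraMap k K y‖ ^ (j + 1) ≤ ‖algebraMap k K y‖ :=
    pow_le_of_le_one (norm_nonneg _) (hy.le.trans hη) (Nat.succ_ne_zero j)
  have h2 : algebraMap k K (a + y ^ (j + 1)) - z =
      (algebraMap k K a - z) + (algebraMap k K y) ^ (j + 1) := by
    rw [map_add, map_pow]; ring
  rw [h2]
  calc ‖(algebraMap k K a - z) + (algebraMap k K y) ^ (j + 1)‖
      ≤ ‖algebraMap k K a - z‖ + ‖(algebraMap k K y) ^ (j + 1)‖ := norm_add_le _ _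
    _ = ‖algebraMap k K a - z‖ + ‖algebraMap k K y‖ ^ (j + 1) := by rw [norm_pow]
    _ < ε / 2 + ε / 2 := add_lt_add_of_lt_of_le hbase (h1.trans (hy.le.trans hη2))
    _ = ε := add_halves ε

end general

variable {k : Type*} [Field k] [NumberField k]

/-- integrality and unit condition for a point, with respect to a valuation. -/
def InU {K Γ₀ : Type*} [Field K] [Algebra k K] [LinearOrderedCommGroupWithZero Γ₀]
    (val : Valuation K Γ₀) {n m : ℕ} (f : Fin m → MvPolynomial (Fin n) (𝓞 k))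
    (x : Fin n → K) : Prop :=
  (∀ i, val (x i) ≤ 1) ∧
    ∃ j, val (MvPolynomial.aeval x (MvPolynomial.map (algebraMap (𝓞 k) k) (f j))) = 1

theorem val_poly {K Γ₀ : Type*} [Field K] [Algebra k K] [LinearOrderedCommGroupWithZero Γ₀]
    (val : Valuation K Γ₀)
    (hint : ∀ a : 𝓞 k, val (algebraMap k K (algebraMap (𝓞 k) k a)) ≤ 1) {n : ℕ}
    (p : MvPolynomial (Fin n) (𝓞 k)) (x y : Fin n → K) (hx : ∀ i, val (x i) ≤ 1)
    (hxy : ∀ i, val (y i - x i) < 1) :
    val (MvPolynomial.aeval x (MvPolynomial.map (algebraMap (𝓞 k) k) p)) ≤ 1 ∧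
    val (MvPolynomial.aeval y (MvPolynomial.map (algebraMap (𝓞 k) k) p)) ≤ 1 ∧
    val (MvPolynomial.aeval y (MvPolynomial.map (algebraMap (𝓞 k) k) p) -
      MvPolynomial.aeval x (MvPolynomial.map (algebraMap (𝓞 k) k) p)) < 1 := by
  have hy : ∀ i, val (y i) ≤ 1 := by
    intro i
    have : y i = x i + (y i - x i) := by ring
    rw [this]
    exact (val.map_add _ _).trans (max_le (hx i) (hxy i).le)
  induction p using MvPolynomial.induction_on with
  | C a =>
    simp only [MvPolynomial.map_C, MvPolynomial.aeval_C, sub_self, map_zero]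
    exact ⟨hint a, hint a, zero_lt_one⟩
  | add p q hp hq =>
    simp only [map_add]
    refine ⟨(val.map_add _ _).trans (max_le hp.1 hq.1),
      (val.map_add _ _).trans (max_le hp.2.1 hq.2.1), ?_⟩
    generalize MvPolynomial.aeval x (MvPolynomial.map (algebraMap (𝓞 k) k) p) = ax at hp ⊢
    generalize MvPolynomial.aeval y (MvPolynomial.map (algebraMap (𝓞 k) k) p) = ay at hp ⊢
    generalize MvPolynomial.aeval x (MvPolynomial.map (algebraMap (𝓞 k) k) q) = bx at hq ⊢
    generalize MvPolynomial.aeval y (MvPolynomial.map (algebraMap (𝓞 k) k) q) = by' at hq ⊢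
    have : ay + by' - (ax + bx) = (ay - ax) + (by' - bx) := by ring
    rw [this]
    exact val.map_add_lt hp.2.2 hq.2.2
  | mul_X p i hp =>
    simp only [map_mul, MvPolynomial.map_X, MvPolynomial.aeval_X]
    generalize MvPolynomial.aeval x (MvPolynomial.map (algebraMap (𝓞 k) k) p) = ax at hp ⊢
    generalize MvPolynomial.aeval y (MvPolynomial.map (algebraMap (𝓞 k) k) p) = ay at hp ⊢
    refine ⟨mul_le_one' hp.1 (hx i), mul_le_one' hp.2.1 (hy i), ?_⟩
    have : ay * y i - ax * x i = (ay - ax) * y i + ax * (y i - x i) := by ring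
    rw [this]
    refine val.map_add_lt ?_ ?_
    · rw [map_mul]
      exact lt_of_le_of_lt (mul_le_mul' le_rfl (hy i)) (by rw [mul_one]; exact hp.2.2)
    · rw [map_mul]
      exact lt_of_le_of_lt (mul_le_mul' hp.1 le_rfl) (by rw [one_mul]; exact hxy i)

theorem ball_U {K Γ₀ : Type*} [Field K] [Algebra k K] [LinearOrderedCommGroupWithZero Γ₀]
    (val : Valuation K Γ₀)
    (hint : ∀ a : 𝓞 k, val (algebraMap k K (algebraMap (𝓞 k) k a)) ≤ 1) {n m : ℕ}
    (f : Fin m → MvPolynomial (Fin n) (𝓞 k)) (x y : Fin n → K) (hx : InU val f x)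
    (hxy : ∀ i, val (y i - x i) < 1) : InU val f y := by
  obtain ⟨hx1, j, hj⟩ := hx
  refine ⟨?_, j, ?_⟩
  · intro i
    have : y i = x i + (y i - x i) := by ring
    rw [this]
    exact (val.map_add _ _).trans (max_le (hx1 i) (hxy i).le)
  · obtain ⟨-, -, h3⟩ := val_poly val hint (f j) x y hx1 hxy
    have : MvPolynomial.aeval y (MvPolynomial.map (algebraMap (𝓞 k) k) (f j)) =
        MvPolynomial.aeval x (MvPolynomial.map (algebraMap (𝓞 k) k) (f j)) +
        (MvPolynomial.aeval y (MvPolynomial.map (algebraMap (𝓞 k) k) (f j)) -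
          MvPolynomial.aeval x (MvPolynomial.map (algebraMap (𝓞 k) k) (f j))) := by ring
    rw [this, Valuation.map_add_eq_of_lt_left _ (by rw [hj]; exact h3)]
    exact hj

lemma hint_k (v : HeightOneSpectrum (𝓞 k)) (a : 𝓞 k) :
    v.valuation k (algebraMap k k (algebraMap (𝓞 k) k a)) ≤ 1 :=
  v.valuation_le_one a

lemma hint_c (v : HeightOneSpectrum (𝓞 k)) (a : 𝓞 k) :
    Valued.v (algebraMap k (v.adicCompletion k) (algebraMap (𝓞 k) k a)) ≤ 1 := by
  rw [RIz.valued_algebraMap]; exact v.valuation_le_one a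

/-- the unit polydisc around a point of the completion. -/
def Bl (v : HeightOneSpectrum (𝓞 k)) {n : ℕ} (x : Fin n → v.adicCompletion k) :
    Set (Fin n → v.adicCompletion k) :=
  {y | ∀ i, Valued.v (y i - x i) < 1}

lemma isOpen_Bl (v : HeightOneSpectrum (𝓞 k)) {n : ℕ} (x : Fin n → v.adicCompletion k) :
    IsOpen (Bl v x) := by
  have : Bl v x = Metric.ball x 1 := by
    ext y
    rw [Bl, Set.mem_setOf_eq, mem_ball_iff_norm, pi_norm_lt_iff one_pos]
    refine forall_congr' fun i => ?_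
    rw [Pi.sub_apply, Valued.toNormedField.norm_lt_one_iff]
  rw [this]
  exact Metric.isOpen_ball

lemma mem_Bl_self (v : HeightOneSpectrum (𝓞 k)) {n : ℕ} (x : Fin n → v.adicCompletion k) :
    x ∈ Bl v x := by
  intro i
  rw [sub_self, map_zero]
  exact zero_lt_one

lemma InU_of_mem_Bl (v : HeightOneSpectrum (𝓞 k)) {n m : ℕ}
    (f : Fin m → MvPolynomial (Fin n) (𝓞 k)) (x y : Fin n → v.adicCompletion k)
    (hx : InU (Valued.v : Valuation (v.adicCompletion k) ℤᵐ⁰) f x) (hy : y ∈ Bl v x) :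
    InU (Valued.v : Valuation (v.adicCompletion k) ℤᵐ⁰) f y :=
  ball_U _ (hint_c v) f x y hx hy

lemma InU_iff (v : HeightOneSpectrum (𝓞 k)) {n m : ℕ}
    (f : Fin m → MvPolynomial (Fin n) (𝓞 k)) (P : Fin n → k) :
    InU (Valued.v : Valuation (v.adicCompletion k) ℤᵐ⁰) f
      (fun i => algebraMap k (v.adicCompletion k) (P i)) ↔ InU (v.valuation k) f P := by
  have h : ∀ j, MvPolynomial.aeval (fun i => algebraMap k (v.adicCompletion k) (P i))
      (MvPolynomial.map (algebraMap (𝓞 k) k) (f j)) =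
      algebraMap k (v.adicCompletion k)
        (MvPolynomial.aeval P (MvPolynomial.map (algebraMap (𝓞 k) k) (f j))) := fun j =>
    MvPolynomial.aeval_algebraMap_apply (v.adicCompletion k) P _
  simp only [InU, h, RIz.valued_algebraMap]

theorem good_line {n m : ℕ} (f : Fin m → MvPolynomial (Fin n) (𝓞 k)) (M D : Fin n → k)
    (g : Fin m → Polynomial k)
    (hg : ∑ j, g j * MvPolynomial.aeval
      (fun i => Polynomial.C (M i) + Polynomial.X * Polynomial.C (D i))
      (MvPolynomial.map (algebraMap (𝓞 k) k) (f j)) = 1)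
    (v : HeightOneSpectrum (𝓞 k)) (hM : ∀ i, v.valuation k (M i) ≤ 1)
    (hD : ∀ i, v.valuation k (D i) ≤ 1)
    (hgc : ∀ j l, v.valuation k ((g j).coeff l) ≤ 1) (t : k) (ht : v.valuation k t ≤ 1) :
    InU (v.valuation k) f (fun i => M i + t * D i) := by
  have hP : ∀ i, v.valuation k (M i + t * D i) ≤ 1 := fun i =>
    (Valuation.map_add _ _ _).trans
      (max_le (hM i) (by rw [map_mul]; exact mul_le_one' ht (hD i)))
  refine ⟨hP, ?_⟩
  have hev : ∑ j, (g j).eval t * MvPolynomial.aeval (fun i => M i + t * D i)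
      (MvPolynomial.map (algebraMap (𝓞 k) k) (f j)) = 1 := by
    have h1 := congrArg (Polynomial.eval t) hg
    rw [Polynomial.eval_finsetSum, Polynomial.eval_one] at h1
    rw [← h1]
    refine Finset.sum_congr rfl fun j _ => ?_
    rw [Polynomial.eval_mul]
    congr 1
    have h2 := MvPolynomial.comp_aeval (R := k)
      (f := fun i => Polynomial.C (M i) + Polynomial.X * Polynomial.C (D i))
      (Polynomial.aeval t : Polynomial k →ₐ[k] k)
    have h3 := AlgHom.congr_fun h2 (MvPolynomial.map (algebraMap (𝓞 k) k) (f j))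
    simp only [AlgHom.comp_apply, Polynomial.coe_aeval_eq_eval, Polynomial.eval_add,
      Polynomial.eval_mul, Polynomial.eval_C, Polynomial.eval_X] at h3
    exact h3.symm
  by_contra hcon
  push Not at hcon
  have hle : ∀ j, v.valuation k (MvPolynomial.aeval (fun i => M i + t * D i)
      (MvPolynomial.map (algebraMap (𝓞 k) k) (f j))) ≤ 1 := fun j =>
    (val_poly (v.valuation k) (hint_k v) (f j) _ _ hP
      (fun i => by rw [sub_self, map_zero]; exact zero_lt_one)).1
  have hlt : ∀ j, v.valuation k (MvPolynomial.aeval (fun i => M i + t * D i)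
      (MvPolynomial.map (algebraMap (𝓞 k) k) (f j))) < 1 := fun j =>
    lt_of_le_of_ne (hle j) (hcon j)
  have hge : ∀ j, v.valuation k ((g j).eval t) ≤ 1 := by
    intro j
    rw [Polynomial.eval_eq_sum_range]
    refine Valuation.map_sum_le _ (fun l _ => ?_)
    rw [map_mul, map_pow]
    exact mul_le_one' (hgc j l) (pow_le_one' ht l)
  have hsum : v.valuation k (∑ j, (g j).eval t * MvPolynomial.aeval (fun i => M i + t * D i)
      (MvPolynomial.map (algebraMap (𝓞 k) k) (f j))) < 1 := by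
    refine Valuation.map_sum_lt _ one_ne_zero (fun j _ => ?_)
    rw [map_mul]
    exact lt_of_le_of_lt (mul_le_mul' (hge j) le_rfl) (by rw [one_mul]; exact hlt j)
  rw [hev, map_one] at hsum
  exact lt_irrefl _ hsum

theorem finite_bad_line {n m : ℕ} (M D : Fin n → k) (g : Fin m → Polynomial k) :
    {v : HeightOneSpectrum (𝓞 k) | ¬ ((∀ i, v.valuation k (M i) ≤ 1) ∧
      (∀ i, v.valuation k (D i) ≤ 1) ∧ ∀ j l, v.valuation k ((g j).coeff l) ≤ 1)}.Finite := by
  have h1 : ∀ X : Fin n → k, {v : HeightOneSpectrum (𝓞 k) | ∃ i, 1 < v.valuation k (X i)}.Finite := by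
    intro X
    have : {v : HeightOneSpectrum (𝓞 k) | ∃ i, 1 < v.valuation k (X i)} =
        ⋃ i, HeightOneSpectrum.Support (𝓞 k) (X i) := by
      ext v; simp [HeightOneSpectrum.Support]
    rw [this]
    exact Set.finite_iUnion fun i => HeightOneSpectrum.Support.finite (𝓞 k) (X i)
  have h2 : {v : HeightOneSpectrum (𝓞 k) | ∃ j, ∃ l, 1 < v.valuation k ((g j).coeff l)}.Finite := by
    have : {v : HeightOneSpectrum (𝓞 k) | ∃ j, ∃ l, 1 < v.valuation k ((g j).coeff l)} =
        ⋃ j, {v : HeightOneSpectrum (𝓞 k) | ∃ l, 1 < v.valuation k ((g j).coeff l)} := by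
      ext v; simp
    rw [this]
    exact Set.finite_iUnion fun j => RJb.finite_bad (g j)
  refine (((h1 M).union (h1 D)).union h2).subset ?_
  intro v hv
  simp only [Set.mem_setOf_eq, not_and_or, not_forall, not_le] at hv
  simp only [Set.mem_union, Set.mem_setOf_eq]
  rcases hv with h | h | h
  · exact Or.inl (Or.inl h)
  · exact Or.inl (Or.inr h)
  · exact Or.inr h

theorem exists_generic_approx {n : ℕ} (v₀ : HeightOneSpectrum (𝓞 k))
    (S₁ : Finset (HeightOneSpectrum (𝓞 k))) (hv₀ : v₀ ∉ S₁)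
    (zf : ∀ v : HeightOneSpectrum (𝓞 k), Fin n → v.adicCompletion k)
    (Gf : ∀ v : HeightOneSpectrum (𝓞 k), Set (Fin n → v.adicCompletion k))
    (hGf : ∀ v ∈ S₁, IsOpen (Gf v) ∧ zf v ∈ Gf v)
    (zi : ∀ w : InfinitePlace k, Fin n → w.Completion)
    (Gi : ∀ w : InfinitePlace k, Set (Fin n → w.Completion))
    (hGi : ∀ w, IsOpen (Gi w) ∧ zi w ∈ Gi w)
    (Θ : MvPolynomial (Fin n) k) (hΘ : Θ ≠ 0) :
    ∃ M : Fin n → k,
      (∀ v ∈ S₁, (fun i => algebraMap k (v.adicCompletion k) (M i)) ∈ Gf v) ∧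
      (∀ w : InfinitePlace k, (fun i => algebraMap k w.Completion (M i)) ∈ Gi w) ∧
      MvPolynomial.eval M Θ ≠ 0 := by
  classical
  have hf : ∀ v : HeightOneSpectrum (𝓞 k), ∃ ε : ℝ, 0 < ε ∧
      (v ∈ S₁ → Metric.ball (zf v) ε ⊆ Gf v) := by
    intro v
    by_cases hv : v ∈ S₁
    · obtain ⟨ε, hε, hb⟩ := Metric.isOpen_iff.1 (hGf v hv).1 (zf v) (hGf v hv).2
      exact ⟨ε, hε, fun _ => hb⟩
    · exact ⟨1, one_pos, fun h => absurd h hv⟩
  choose εf hεf0 hεf using hf
  have hi : ∀ w : InfinitePlace k, ∃ ε : ℝ, 0 < ε ∧ Metric.ball (zi w) ε ⊆ Gi w := fun w =>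
    Metric.isOpen_iff.1 (hGi w).1 (zi w) (hGi w).2
  choose εi hεi0 hεi using hi
  obtain ⟨ε1, hε1, hε1le⟩ := RJc.exists_pos_le S₁ εf (fun v _ => hεf0 v)
  obtain ⟨ε2, hε2, hε2le⟩ := RJc.exists_pos_le (Finset.univ : Finset (InfinitePlace k)) εi
    (fun w _ => hεi0 w)
  set ε := min ε1 ε2 with hε
  have hε0 : 0 < ε := lt_min hε1 hε2
  have hWA : ∀ i : Fin n, ∃ a : k,
      (∀ v ∈ S₁, ‖algebraMap k (v.adicCompletion k) a - zf v i‖ < ε / 2) ∧
      (∀ w ∈ (Finset.univ : Finset (InfinitePlace k)),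
        ‖algebraMap k w.Completion a - zi w i‖ < ε / 2) := fun i =>
    RIz.weak_approx S₁ Finset.univ (fun v => zf v i) (fun w => zi w i) (ε / 2) (half_pos hε0)
  choose a haf hai using hWA
  set η := min 1 (ε / 2) with hη
  have hη0 : 0 < η := lt_min one_pos (half_pos hε0)
  choose N₁ hN₁ using fun v : HeightOneSpectrum (𝓞 k) => RJb.exists_norm_lt v η hη0
  obtain ⟨y, hy0, hyi, -, hyS⟩ := RJf.small_element v₀ S₁ hv₀ (S₁.sup N₁) η hη0
  have hyf : ∀ v ∈ S₁, ‖algebraMap k (v.adicCompletion k) y‖ < η := fun v hv =>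
    hN₁ v (S₁.sup N₁) (Finset.le_sup hv) y (hyS v hv)
  obtain ⟨w₁⟩ := (inferInstance : Nonempty (InfinitePlace k))
  have hinj : Function.Injective (fun j : ℕ => y ^ (j + 1)) := by
    intro j j' hjj
    have hjj' : y ^ (j + 1) = y ^ (j' + 1) := hjj
    have h1 : w₁ y ^ (j + 1) = w₁ y ^ (j' + 1) := by
      rw [← map_pow, ← map_pow, hjj']
    have hpos : 0 < w₁ y := InfinitePlace.pos_iff.2 hy0
    have hne1 : w₁ y ≠ 1 := ((hyi w₁).trans_le (min_le_left _ _)).ne
    have := pow_right_injective₀ hpos hne1 h1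
    omega
  let A : Fin n → Set k := fun i => Set.range (fun j : ℕ => a i + y ^ (j + 1))
  have hA : ∀ i, (A i).Infinite := fun i =>
    Set.infinite_range_of_injective (fun j j' h => hinj (add_left_cancel (a := a i) h))
  obtain ⟨x, hxA, hxΘ⟩ : ∃ x ∈ Set.pi Set.univ A, MvPolynomial.eval x Θ ≠ 0 := by
    by_contra hcon
    push Not at hcon
    apply hΘ
    exact MvPolynomial.funext_set A hA (fun x hx => by rw [hcon x hx, map_zero])
  refine ⟨x, ?_, ?_, hxΘ⟩
  · intro v hv
    refine hεf v hv ?_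
    rw [mem_ball_iff_norm, pi_norm_lt_iff (hεf0 v)]
    intro i
    obtain ⟨j, hj⟩ := hxA i (Set.mem_univ i)
    have hj' : a i + y ^ (j + 1) = x i := hj
    show ‖algebraMap k (v.adicCompletion k) (x i) - zf v i‖ < εf v
    rw [← hj']
    exact (norm_add_pow_sub_lt (a i) y (zf v i) ε η (min_le_left _ _) (min_le_right _ _)
      (haf i v hv) (hyf v hv) j).trans_le ((min_le_left _ _).trans (hε1le v hv))
  · intro w
    refine hεi w ?_
    rw [mem_ball_iff_norm, pi_norm_lt_iff (hεi0 w)]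
    intro i
    obtain ⟨j, hj⟩ := hxA i (Set.mem_univ i)
    have hj' : a i + y ^ (j + 1) = x i := hj
    show ‖algebraMap k w.Completion (x i) - zi w i‖ < εi w
    rw [← hj']
    exact (norm_add_pow_sub_lt (a i) y (zi w i) ε η (min_le_left _ _) (min_le_right _ _)
      (hai i w (Finset.mem_univ w)) (by rw [RIz.norm_inf]; exact hyi w) j).trans_le
      ((min_le_right _ _).trans (hε2le w (Finset.mem_univ w)))

end Groth.Agent.Lib.Helper21.RJj
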