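import Mathlib
import Groth.Agent.Lib.Helper21.RJi
import Groth.Agent.Lib.Helper21.RJj

set_option linter.style.haveILetI false

/-!
# Strong approximation off one finite place for the complement of a closed subset of
codimension at least two in affine space
-/

namespace Groth.Agent.Lib.Helper21.RJk

open IsDedekindDomain HeightOneSpectrum NumberField
open scoped WithZero
open Groth.Agent.Lib.Helper21 Groth.Agent.Lib.Helper21.RJj

universe u

set_option maxHeartbeats 1600000 in
theorem main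
    (k : Type u) [Field k] [NumberField k] (n : ℕ) (hn : 1 ≤ n) (m : ℕ)
    (f : Fin m → MvPolynomial (Fin n) (NumberField.RingOfIntegers k))
    (hcodim : ringKrullDim (MvPolynomial (Fin n) k ⧸ Ideal.span (Set.range fun j =>
        MvPolynomial.map (algebraMap (NumberField.RingOfIntegers k) k) (f j))) + 2 ≤ (n : WithBot ℕ∞))
    (v₀ : IsDedekindDomain.HeightOneSpectrum (NumberField.RingOfIntegers k)) (Sf : Finset (IsDedekindDomain.HeightOneSpectrum (NumberField.RingOfIntegers k))) (hv₀ : v₀ ∈ Sf)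
    (Pf : (v : IsDedekindDomain.HeightOneSpectrum (NumberField.RingOfIntegers k)) → (Fin n → v.adicCompletion k))
    (hPf : ∀ v ∈ Sf, v ≠ v₀ → ∃ j, MvPolynomial.aeval (Pf v)
      (MvPolynomial.map (algebraMap (NumberField.RingOfIntegers k) k) (f j)) ≠ 0)
    (Nf : (v : IsDedekindDomain.HeightOneSpectrum (NumberField.RingOfIntegers k)) → Set (Fin n → v.adicCompletion k))
    (hNf : ∀ v ∈ Sf, v ≠ v₀ → IsOpen (Nf v) ∧ Pf v ∈ Nf v)
    (Pi : (w : NumberField.InfinitePlace k) → (Fin n → w.Completion))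
    (hPi : ∀ w, ∃ j, MvPolynomial.aeval (Pi w)
      (MvPolynomial.map (algebraMap (NumberField.RingOfIntegers k) k) (f j)) ≠ 0)
    (Ni : (w : NumberField.InfinitePlace k) → Set (Fin n → w.Completion))
    (hNi : ∀ w, IsOpen (Ni w) ∧ Pi w ∈ Ni w)
    (T : Finset (IsDedekindDomain.HeightOneSpectrum (NumberField.RingOfIntegers k))) (hT : Disjoint T Sf)
    (Q : (v : IsDedekindDomain.HeightOneSpectrum (NumberField.RingOfIntegers k)) → (Fin n → v.adicCompletion k))
    (hQ : ∀ v ∈ T, (∀ i, Q v i ∈ v.adicCompletionIntegers k) ∧ ∃ j, Valued.v (MvPolynomial.aeval (Q v)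
      (MvPolynomial.map (algebraMap (NumberField.RingOfIntegers k) k) (f j))) = 1)
    (W : (v : IsDedekindDomain.HeightOneSpectrum (NumberField.RingOfIntegers k)) → Set (Fin n → v.adicCompletion k))
    (hW : ∀ v ∈ T, IsOpen (W v) ∧ Q v ∈ W v)
    (hne : ∀ v : IsDedekindDomain.HeightOneSpectrum (NumberField.RingOfIntegers k), v ∉ Sf → ∃ R : Fin n → v.adicCompletion k,
      (∀ i, R i ∈ v.adicCompletionIntegers k) ∧ ∃ j, Valued.v (MvPolynomial.aeval R
        (MvPolynomial.map (algebraMap (NumberField.RingOfIntegers k) k) (f j))) = 1) :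
    ∃ P : Fin n → k,
      (∀ v : IsDedekindDomain.HeightOneSpectrum (NumberField.RingOfIntegers k), v ∉ Sf → (∀ i, v.valuation k (P i) ≤ 1) ∧
        ∃ j, v.valuation k (MvPolynomial.aeval P
          (MvPolynomial.map (algebraMap (NumberField.RingOfIntegers k) k) (f j))) = 1) ∧
      (∀ v ∈ Sf, v ≠ v₀ → (fun i => algebraMap k (v.adicCompletion k) (P i)) ∈ Nf v) ∧
      (∀ w : NumberField.InfinitePlace k, (fun i => algebraMap k w.Completion (P i)) ∈ Ni w) ∧
      (∀ v ∈ T, (fun i => algebraMap k (v.adicCompletion k) (P i)) ∈ W v) := by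
  classical
  obtain ⟨Φ, hΦ0, hΦ⟩ := RJi.line_exists n m hn
    (fun j => MvPolynomial.map (algebraMap (𝓞 k) k) (f j)) hcodim
  -- a generic pair of points
  obtain ⟨MD₀, hMD₀⟩ : ∃ x : Fin n ⊕ Fin n → k, MvPolynomial.eval x Φ ≠ 0 := by
    by_contra hcon
    push Not at hcon
    exact hΦ0 (MvPolynomial.funext (fun x => by rw [hcon x, map_zero]))
  let M₀ : Fin n → k := fun i => MD₀ (Sum.inl i)
  let D₀ : Fin n → k := fun i => MD₀ (Sum.inr i)
  have hMD₀' : MvPolynomial.eval (Sum.elim M₀ D₀) Φ ≠ 0 := by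
    have : Sum.elim M₀ D₀ = MD₀ := by
      funext i; cases i <;> rfl
    rw [this]; exact hMD₀
  obtain ⟨g₀, hg₀⟩ := hΦ M₀ D₀ hMD₀'
  let Z : Fin n → k := fun i => M₀ i + 1 * D₀ i
  have hB₁fin := finite_bad_line M₀ D₀ g₀
  let B₁ : Finset (HeightOneSpectrum (𝓞 k)) := hB₁fin.toFinset
  have hZU : ∀ v : HeightOneSpectrum (𝓞 k), v ∉ B₁ → InU (v.valuation k) f Z := by
    intro v hv
    rw [Set.Finite.mem_toFinset, Set.mem_setOf_eq, not_not] at hv
    exact good_line f M₀ D₀ g₀ hg₀ v hv.1 hv.2.1 hv.2.2 1 (by rw [map_one])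
  -- the polynomial in the first point
  let Θ : MvPolynomial (Fin n) k := MvPolynomial.aeval
    (Sum.elim (fun i => MvPolynomial.X i) (fun i => MvPolynomial.C (Z i) - MvPolynomial.X i)) Φ
  have hΘeval : ∀ x : Fin n → k, MvPolynomial.eval x Θ =
      MvPolynomial.eval (Sum.elim x (fun i => Z i - x i)) Φ := by
    intro x
    have h2 := MvPolynomial.comp_aeval (R := k)
      (f := (Sum.elim (fun i => (MvPolynomial.X i : MvPolynomial (Fin n) k))
        (fun i => MvPolynomial.C (Z i) - MvPolynomial.X i)))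
      (MvPolynomial.aeval x : MvPolynomial (Fin n) k →ₐ[k] k)
    have h3 := AlgHom.congr_fun h2 Φ
    rw [AlgHom.comp_apply] at h3
    have h4 : (fun i => (MvPolynomial.aeval x : MvPolynomial (Fin n) k →ₐ[k] k)
        (Sum.elim (fun i => (MvPolynomial.X i : MvPolynomial (Fin n) k))
        (fun i => MvPolynomial.C (Z i) - MvPolynomial.X i) i)) =
        Sum.elim x (fun i => Z i - x i) := by
      funext i
      cases i <;> simp
    rw [h4] at h3
    exact h3
  have hΘ0 : Θ ≠ 0 := by
    intro h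
    have h1 := hΘeval M₀
    rw [h, map_zero] at h1
    apply hMD₀'
    have e : (fun i => Z i - M₀ i) = D₀ := by
      funext i; simp [Z]
    rw [e] at h1
    exact h1.symm
  -- local integral points
  have hR : ∀ v : HeightOneSpectrum (𝓞 k), ∃ R : Fin n → v.adicCompletion k, v ∉ Sf →
      InU (Valued.v : Valuation (v.adicCompletion k) ℤᵐ⁰) f R := by
    intro v
    by_cases hv : v ∈ Sf
    · exact ⟨fun _ => 0, fun h => absurd hv h⟩
    · obtain ⟨R, hR1, hR2⟩ := hne v hv
      exact ⟨R, fun _ => ⟨hR1, hR2⟩⟩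
  choose R hR using hR
  have hQ' : ∀ v ∈ T, InU (Valued.v : Valuation (v.adicCompletion k) ℤᵐ⁰) f (Q v) :=
    fun v hv => ⟨(hQ v hv).1, (hQ v hv).2⟩
  let S₁ : Finset (HeightOneSpectrum (𝓞 k)) := (Sf.erase v₀) ∪ T ∪ (B₁ \ Sf)
  have hv₀T : v₀ ∉ T := fun h => (Finset.disjoint_left.1 hT h) hv₀
  have hv₀S₁ : v₀ ∉ S₁ := by
    simp only [S₁, Finset.mem_union, Finset.mem_erase, Finset.mem_sdiff, not_or, not_and, not_not]
    exact ⟨⟨fun h => absurd rfl h, hv₀T⟩, fun _ => hv₀⟩
  let zf : ∀ v : HeightOneSpectrum (𝓞 k), Fin n → v.adicCompletion k := fun v =>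
    if v ∈ Sf then Pf v else if v ∈ T then Q v else R v
  let Gf : ∀ v : HeightOneSpectrum (𝓞 k), Set (Fin n → v.adicCompletion k) := fun v =>
    if v ∈ Sf then Nf v else if v ∈ T then W v ∩ Bl v (Q v) else Bl v (R v)
  have hGf : ∀ v ∈ S₁, IsOpen (Gf v) ∧ zf v ∈ Gf v := by
    intro v hv
    by_cases h1 : v ∈ Sf
    · have hne' : v ≠ v₀ := by
        rintro rfl; exact hv₀S₁ hv
      simp only [Gf, zf, if_pos h1]
      exact hNf v h1 hne'
    · by_cases h2 : v ∈ T
      · simp only [Gf, zf, if_neg h1, if_pos h2]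
        exact ⟨(hW v h2).1.inter (isOpen_Bl v _), (hW v h2).2, mem_Bl_self v _⟩
      · simp only [Gf, zf, if_neg h1, if_neg h2]
        exact ⟨isOpen_Bl v _, mem_Bl_self v _⟩
  obtain ⟨M, hMf, hMi, hMΘ⟩ := exists_generic_approx v₀ S₁ hv₀S₁ zf Gf hGf Pi Ni hNi Θ hΘ0
  let D : Fin n → k := fun i => Z i - M i
  have hMD : MvPolynomial.eval (Sum.elim M D) Φ ≠ 0 := by
    rw [← hΘeval]; exact hMΘ
  obtain ⟨g, hg⟩ := hΦ M D hMD
  have hB₂fin := finite_bad_line M D g
  let B₂ : Finset (HeightOneSpectrum (𝓞 k)) := hB₂fin.toFinset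
  let Mc : ∀ v : HeightOneSpectrum (𝓞 k), Fin n → v.adicCompletion k := fun v i =>
    algebraMap k (v.adicCompletion k) (M i)
  let Zc : ∀ v : HeightOneSpectrum (𝓞 k), Fin n → v.adicCompletion k := fun v i =>
    algebraMap k (v.adicCompletion k) (Z i)
  have hMU : ∀ v : HeightOneSpectrum (𝓞 k), v ∉ Sf → v ∈ S₁ →
      InU (Valued.v : Valuation (v.adicCompletion k) ℤᵐ⁰) f (Mc v) := by
    intro v h1 hS
    have hmem := hMf v hS
    by_cases h2 : v ∈ T
    · simp only [Gf, if_neg h1, if_pos h2] at hmem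
      exact InU_of_mem_Bl v f _ _ (hQ' v h2) hmem.2
    · simp only [Gf, if_neg h1, if_neg h2] at hmem
      exact InU_of_mem_Bl v f _ _ (hR v h1) hmem
  have hZc : ∀ v : HeightOneSpectrum (𝓞 k), v ∉ Sf →
      ¬ InU (Valued.v : Valuation (v.adicCompletion k) ℤᵐ⁰) f (Mc v) →
      InU (Valued.v : Valuation (v.adicCompletion k) ℤᵐ⁰) f (Zc v) := by
    intro v h1 h2
    have hvB : v ∉ B₁ := by
      intro hB
      apply h2
      exact hMU v h1 (Finset.mem_union_right _ (Finset.mem_sdiff.2 ⟨hB, h1⟩))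
    exact (InU_iff v f Z).2 (hZU v hvB)
  let cond : HeightOneSpectrum (𝓞 k) → Prop := fun v =>
    v ∉ Sf ∧ ¬ InU (Valued.v : Valuation (v.adicCompletion k) ℤᵐ⁰) f (Mc v)
  let c : HeightOneSpectrum (𝓞 k) → 𝓞 k := fun v => if cond v then 1 else 0
  let S₂ : Finset (HeightOneSpectrum (𝓞 k)) := (Sf ∪ T ∪ B₂).erase v₀
  have hv₀S₂ : v₀ ∉ S₂ := Finset.notMem_erase _ _
  let G₂ : ∀ v : HeightOneSpectrum (𝓞 k), Set (Fin n → v.adicCompletion k) := fun v =>
    if v ∈ Sf then Nf v else if v ∈ T then W v ∩ Bl v (Mc v) else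
      if cond v then Bl v (Zc v) else Bl v (Mc v)
  let line : ∀ v : HeightOneSpectrum (𝓞 k), v.adicCompletion k → (Fin n → v.adicCompletion k) :=
    fun v s i => Mc v i + s * algebraMap k (v.adicCompletion k) (D i)
  have hline_cont : ∀ v : HeightOneSpectrum (𝓞 k), Continuous (line v) := fun v =>
    continuous_pi fun i => continuous_const.add (continuous_id.mul continuous_const)
  have hline0 : ∀ v : HeightOneSpectrum (𝓞 k), line v 0 = Mc v := by
    intro v; funext i; simp [line]
  have hline1 : ∀ v : HeightOneSpectrum (𝓞 k), line v 1 = Zc v := by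
    intro v; funext i; simp [line, Mc, Zc, D]
  have hτ : ∀ v ∈ S₂, IsOpen (G₂ v) ∧
      line v (algebraMap k (v.adicCompletion k) (algebraMap (𝓞 k) k (c v))) ∈ G₂ v := by
    intro v hv
    have hvne : v ≠ v₀ := (Finset.mem_erase.1 hv).1
    by_cases h1 : v ∈ Sf
    · have hc : c v = 0 := if_neg (fun h => h.1 h1)
      have hS : v ∈ S₁ := Finset.mem_union_left _
        (Finset.mem_union_left _ (Finset.mem_erase.2 ⟨hvne, h1⟩))
      have hmem := hMf v hS
      simp only [Gf, if_pos h1] at hmem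
      simp only [G₂, if_pos h1, hc, map_zero, hline0]
      exact ⟨(hNf v h1 hvne).1, hmem⟩
    · by_cases h2 : v ∈ T
      · have hS : v ∈ S₁ := Finset.mem_union_left _ (Finset.mem_union_right _ h2)
        have hc : c v = 0 := if_neg (fun h => h.2 (hMU v h1 hS))
        have hmem := hMf v hS
        simp only [Gf, if_neg h1, if_pos h2] at hmem
        simp only [G₂, if_neg h1, if_pos h2, hc, map_zero, hline0]
        exact ⟨(hW v h2).1.inter (isOpen_Bl v _), hmem.1, mem_Bl_self v _⟩
      · by_cases h3 : cond v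
        · have hc : c v = 1 := if_pos h3
          simp only [G₂, if_neg h1, if_neg h2, if_pos h3, hc, map_one, hline1]
          exact ⟨isOpen_Bl v _, mem_Bl_self v _⟩
        · have hc : c v = 0 := if_neg h3
          simp only [G₂, if_neg h1, if_neg h2, if_neg h3, hc, map_zero, hline0]
          exact ⟨isOpen_Bl v _, mem_Bl_self v _⟩
  have hrad : ∀ v : HeightOneSpectrum (𝓞 k), ∃ N₀ : ℕ, v ∈ S₂ → ∀ N : ℕ, N₀ ≤ N → ∀ t : k,
      v.valuation k (t - algebraMap (𝓞 k) k (c v)) ≤ WithZero.exp (-(N : ℤ)) →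
      line v (algebraMap k (v.adicCompletion k) t) ∈ G₂ v := by
    intro v
    by_cases hv : v ∈ S₂
    · obtain ⟨hop, hmem⟩ := hτ v hv
      have hpre : IsOpen (line v ⁻¹' G₂ v) := hop.preimage (hline_cont v)
      obtain ⟨ε, hε, hb⟩ := Metric.isOpen_iff.1 hpre _ hmem
      obtain ⟨N₀, hN₀⟩ := RJb.exists_norm_lt v ε hε
      refine ⟨N₀, fun _ N hN t ht => ?_⟩
      apply hb
      rw [mem_ball_iff_norm, ← map_sub]
      exact hN₀ N hN _ ht
    · exact ⟨0, fun h => absurd h hv⟩
  choose N₂ hN₂ using hrad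
  let linei : ∀ w : InfinitePlace k, w.Completion → (Fin n → w.Completion) := fun w s i =>
    algebraMap k w.Completion (M i) + s * algebraMap k w.Completion (D i)
  have hradi : ∀ w : InfinitePlace k, ∃ ε : ℝ, 0 < ε ∧ ∀ t : k, w t < ε →
      linei w (algebraMap k w.Completion t) ∈ Ni w := by
    intro w
    have hpre : IsOpen (linei w ⁻¹' Ni w) := (hNi w).1.preimage
      (continuous_pi fun i => continuous_const.add (continuous_id.mul continuous_const))
    have h0 : (0 : w.Completion) ∈ linei w ⁻¹' Ni w := by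
      show linei w 0 ∈ Ni w
      have : linei w 0 = fun i => algebraMap k w.Completion (M i) := by
        funext i; simp [linei]
      rw [this]; exact hMi w
    obtain ⟨ε, hε, hb⟩ := Metric.isOpen_iff.1 hpre 0 h0
    refine ⟨ε, hε, fun t ht => hb ?_⟩
    rw [mem_ball_iff_norm, sub_zero, RIz.norm_inf]
    exact ht
  choose εi hεi0 hεi using hradi
  obtain ⟨ε, hε, hεle⟩ := RJc.exists_pos_le (Finset.univ : Finset (InfinitePlace k)) εi
    (fun w _ => hεi0 w)
  obtain ⟨t, htint, htS, htw⟩ := RJg.strong_approx v₀ S₂ hv₀S₂ (S₂.sup N₂) c ε hε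
  have hPc : ∀ v : HeightOneSpectrum (𝓞 k),
      (fun i => algebraMap k (v.adicCompletion k) (M i + t * D i)) =
      line v (algebraMap k (v.adicCompletion k) t) := by
    intro v; funext i; simp [line, Mc]
  have hP2 : ∀ v ∈ S₂, (fun i => algebraMap k (v.adicCompletion k) (M i + t * D i)) ∈ G₂ v := by
    intro v hv
    rw [hPc]
    exact hN₂ v hv _ (Finset.le_sup hv) t (htS v hv)
  refine ⟨fun i => M i + t * D i, ?_, ?_, ?_, ?_⟩
  · intro v hv
    have hvne : v ≠ v₀ := by
      rintro rfl; exact hv hv₀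
    by_cases hS : v ∈ S₂
    · have hP := hP2 v hS
      simp only [G₂, if_neg hv] at hP
      refine (InU_iff v f _).1 ?_
      by_cases h2 : v ∈ T
      · simp only [if_pos h2] at hP
        have hS1 : v ∈ S₁ := Finset.mem_union_left _ (Finset.mem_union_right _ h2)
        exact InU_of_mem_Bl v f _ _ (hMU v hv hS1) hP.2
      · simp only [if_neg h2] at hP
        by_cases h3 : cond v
        · simp only [if_pos h3] at hP
          exact InU_of_mem_Bl v f _ _ (hZc v hv h3.2) hP
        · simp only [if_neg h3] at hP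
          have hMin : InU (Valued.v : Valuation (v.adicCompletion k) ℤᵐ⁰) f (Mc v) := by
            by_contra hno
            exact h3 ⟨hv, hno⟩
          exact InU_of_mem_Bl v f _ _ hMin hP
    · have hB : v ∉ B₂ := by
        intro hB
        exact hS (Finset.mem_erase.2 ⟨hvne, Finset.mem_union_right _ hB⟩)
      rw [Set.Finite.mem_toFinset, Set.mem_setOf_eq, not_not] at hB
      exact good_line f M D g hg v hB.1 hB.2.1 hB.2.2 t (htint v hvne)
  · intro v hv hvne
    have hS : v ∈ S₂ := Finset.mem_erase.2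
      ⟨hvne, Finset.mem_union_left _ (Finset.mem_union_left _ hv)⟩
    have hP := hP2 v hS
    simp only [G₂, if_pos hv] at hP
    exact hP
  · intro w
    have h1 := hεi w t ((htw w).trans_le (hεle w (Finset.mem_univ w)))
    have h2 : (fun i => algebraMap k w.Completion (M i + t * D i)) =
        linei w (algebraMap k w.Completion t) := by
      funext i
      show algebraMap k w.Completion (M i + t * D i) = algebraMap k w.Completion (M i) +
        algebraMap k w.Completion t * algebraMap k w.Completion (D i)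
      rw [map_add, map_mul]
    rw [h2]; exact h1
  · intro v hv
    have hvS : v ∉ Sf := fun h => (Finset.disjoint_left.1 hT hv) h
    have hvne : v ≠ v₀ := by
      rintro rfl; exact hv₀T hv
    have hS : v ∈ S₂ := Finset.mem_erase.2
      ⟨hvne, Finset.mem_union_left _ (Finset.mem_union_right _ hv)⟩
    have hP := hP2 v hS
    simp only [G₂, if_neg hvS, if_pos hv] at hP
    exact hP.1

end Groth.Agent.Lib.Helper21.RJk
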