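import Mathlib

set_option linter.style.haveILetI false

/-!
# Two criteria for reducedness: flat algebras over reduced Noetherian rings, and quotients by a
nonzerodivisor in the radical
-/

namespace Groth.Agent.Lib.Helper21.RJl

/-- A flat algebra over a reduced Noetherian ring is reduced as soon as its quotients by the
extensions of the minimal primes of the base are reduced. -/
theorem isReduced_of_flat_of_quotients (A C : Type*) [CommRing A] [CommRing C] [Algebra A C]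
    [IsNoetherianRing A] [IsReduced A] [Module.Flat A C]
    (h : ∀ 𝔭 ∈ minimalPrimes A, IsReduced (C ⧸ 𝔭.map (algebraMap A C))) : IsReduced C := by
  classical
  refine ⟨fun x hx => ?_⟩
  have hfin : (minimalPrimes A).Finite := minimalPrimes.finite_of_isNoetherianRing A
  have hx𝔭 : ∀ 𝔭 ∈ minimalPrimes A, x ∈ 𝔭.map (algebraMap A C) := by
    intro 𝔭 h𝔭
    haveI := h 𝔭 h𝔭
    rw [← Ideal.Quotient.eq_zero_iff_mem]
    exact (hx.map (Ideal.Quotient.mk _)).eq_zero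
  have hnil : ∀ a : A, (∀ 𝔮 ∈ minimalPrimes A, a ∈ 𝔮) → a = 0 := by
    intro a ha
    have hmem : a ∈ sInf (minimalPrimes A) := by
      rw [Ideal.mem_sInf]
      intro 𝔮 h𝔮
      exact ha 𝔮 h𝔮
    rw [show minimalPrimes A = (⊥ : Ideal A).minimalPrimes from rfl, Ideal.sInf_minimalPrimes] at hmem
    have h2 : a ∈ nilradical A := hmem
    rw [nilradical_eq_zero] at h2
    exact h2
  have hs : ∀ 𝔭 ∈ minimalPrimes A, ∃ s : A, s ∉ 𝔭 ∧ algebraMap A C s * x = 0 := by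
    intro 𝔭 h𝔭
    haveI h𝔭prime : 𝔭.IsPrime := h𝔭.1.1
    have h𝔟 : ¬ (hfin.toFinset.erase 𝔭).inf id ≤ 𝔭 := by
      intro hle
      obtain ⟨𝔮, h𝔮, h𝔮le⟩ := (Ideal.IsPrime.inf_le' h𝔭prime).1 hle
      rw [Finset.mem_erase] at h𝔮
      have h𝔮min : 𝔮 ∈ minimalPrimes A := hfin.mem_toFinset.1 h𝔮.2
      have h2 : 𝔭 ≤ 𝔮 := h𝔭.2 ⟨h𝔮min.1.1, bot_le⟩ h𝔮le
      exact h𝔮.1 (le_antisymm h𝔮le h2)
    obtain ⟨s, hs𝔟, hs𝔭⟩ := SetLike.not_le_iff_exists.1 h𝔟
    refine ⟨s, hs𝔭, ?_⟩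
    have hsp : ∀ p ∈ 𝔭, s * p = 0 := by
      intro p hp
      apply hnil
      intro 𝔮 h𝔮
      by_cases e : 𝔮 = 𝔭
      · rw [e]; exact 𝔭.mul_mem_left s hp
      · have h𝔮mem : 𝔮 ∈ hfin.toFinset.erase 𝔭 :=
          Finset.mem_erase.2 ⟨e, hfin.mem_toFinset.2 h𝔮⟩
        have hle : (hfin.toFinset.erase 𝔭).inf id ≤ 𝔮 := Finset.inf_le (f := id) h𝔮mem
        exact 𝔮.mul_mem_right p (hle hs𝔟)
    have hx' : x ∈ Ideal.span (algebraMap A C '' (𝔭 : Set A)) := hx𝔭 𝔭 h𝔭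
    refine Submodule.span_induction (p := fun y _ => algebraMap A C s * y = 0) ?_ ?_ ?_ ?_ hx'
    · rintro _ ⟨p, hp, rfl⟩
      rw [← map_mul, hsp p hp, map_zero]
    · exact mul_zero _
    · intro y z _ _ hy hz
      rw [mul_add, hy, hz, add_zero]
    · intro c y _ hy
      rw [smul_eq_mul, mul_left_comm, hy, mul_zero]
  choose! s hs1 hs2 using hs
  -- the annihilator of `x` in `A`
  let 𝔞 : Ideal A := LinearMap.ker ((LinearMap.mulRight A x).comp (Algebra.linearMap A C))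
  have h𝔞 : ∀ a : A, a ∈ 𝔞 ↔ algebraMap A C a * x = 0 := by
    intro a
    simp [𝔞, LinearMap.mem_ker]
  obtain ⟨a, ha𝔞, hamin⟩ : ∃ a ∈ 𝔞, ∀ 𝔭 ∈ minimalPrimes A, a ∉ 𝔭 := by
    by_contra hcon
    push Not at hcon
    have hsub : (𝔞 : Set A) ⊆ ⋃ 𝔭 ∈ (hfin.toFinset : Set (Ideal A)), (id 𝔭 : Ideal A) := by
      intro a ha
      obtain ⟨𝔭, h𝔭, ha𝔭⟩ := hcon a ha
      exact Set.mem_biUnion (hfin.mem_toFinset.2 h𝔭) ha𝔭
    obtain ⟨𝔭, h𝔭, hle⟩ := (Ideal.subset_union_prime (f := id) (⊥ : Ideal A) ⊥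
      (fun 𝔮 h𝔮 _ _ => (hfin.mem_toFinset.1 h𝔮).1.1)).1 hsub
    have h𝔭' : 𝔭 ∈ minimalPrimes A := hfin.mem_toFinset.1 h𝔭
    exact hs1 𝔭 h𝔭' (hle ((h𝔞 _).2 (hs2 𝔭 h𝔭')))
  have hreg : IsSMulRegular A a := by
    intro y z hyz
    have h0 : a * (y - z) = 0 := by
      have : a * y = a * z := hyz
      rw [mul_sub, this, sub_self]
    have h1 : y - z = 0 := by
      apply hnil
      intro 𝔮 h𝔮
      haveI : 𝔮.IsPrime := h𝔮.1.1
      have hm : a * (y - z) ∈ 𝔮 := by rw [h0]; exact 𝔮.zero_mem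
      exact (Ideal.IsPrime.mem_or_mem ‹_› hm).resolve_left (hamin 𝔮 h𝔮)
    exact sub_eq_zero.1 h1
  have hregC : IsSMulRegular C (algebraMap A C a) := IsSMulRegular.of_flat hreg
  apply hregC
  show algebraMap A C a • x = algebraMap A C a • (0 : C)
  rw [smul_eq_mul, smul_eq_mul, mul_zero]
  exact (h𝔞 a).1 ha𝔞

/-- A Noetherian ring is reduced as soon as its quotient by a nonzerodivisor lying in the Jacobson
radical is reduced. -/
theorem isReduced_of_quotient_nonZeroDivisor (R : Type*) [CommRing R] [IsNoetherianRing R] (τ : R)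
    (hjac : τ ∈ Ideal.jacobson (⊥ : Ideal R)) (hreg : ∀ y : R, τ * y = 0 → y = 0)
    [IsReduced (R ⧸ Ideal.span {τ})] : IsReduced R := by
  have hpow : ∀ (j : ℕ) (z : R), τ ^ j * z = 0 → z = 0 := by
    intro j
    induction j with
    | zero => intro z hz; simpa using hz
    | succ j ih =>
      intro z hz
      rw [pow_succ, mul_assoc] at hz
      exact hreg z (ih _ hz)
  have hN : nilradical R = ⊥ := by
    refine Submodule.eq_bot_of_le_smul_of_le_jacobson_bot (Ideal.span {τ}) (nilradical R)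
      (IsNoetherian.noetherian _) ?_ ?_
    · intro x hx
      have hx' : IsNilpotent x := mem_nilradical.1 hx
      have h0 : Ideal.Quotient.mk (Ideal.span {τ}) x = 0 := (hx'.map _).eq_zero
      rw [Ideal.Quotient.eq_zero_iff_mem, Ideal.mem_span_singleton'] at h0
      obtain ⟨y, rfl⟩ := h0
      obtain ⟨m, hm⟩ := hx'
      have hy : IsNilpotent y := by
        refine ⟨m, ?_⟩
        rw [mul_pow] at hm
        exact hpow m _ (by rw [mul_comm]; exact hm)
      have h1 : τ * y ∈ Ideal.span {τ} • nilradical R :=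
        Submodule.smul_mem_smul (Ideal.mem_span_singleton_self τ) (mem_nilradical.2 hy)
      rw [mul_comm y τ]
      exact h1
    · rw [Ideal.span_le, Set.singleton_subset_iff]
      exact hjac
  refine ⟨fun x hx => ?_⟩
  have hmem : x ∈ nilradical R := mem_nilradical.2 hx
  rw [hN] at hmem
  exact hmem

end Groth.Agent.Lib.Helper21.RJl
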