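import Mathlib
import Groth.Prelude.Def_EGA4c
import Groth.Agent.Lib.Helper27.CplTensorC
import Groth.Agent.Lib.Helper21.RJl
import Groth.Agent.Lib.Helper21.RJm
import Groth.Agent.Lib.Helper14.ReducedSmooth
import Groth.Agent.Lib.Helper21.PthRootI
import Groth.Agent.Lib.Helper9.RegLocal
import Groth.Agent.Lib.Helper21.RIk

/-!
# The completed tensor product of a regular complete local algebra with a reduced one is reduced
(over a perfect field, residue fields finite)
-/

set_option autoImplicit false
set_option linter.style.haveILetI false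
set_option linter.unusedSectionVars false
universe u
attribute [local instance] Algebra.TensorProduct.rightAlgebra
open TensorProduct IsLocalRing EGA4

namespace Groth.Agent.Lib.Helper21.RJn

open Groth.Agent.Lib.Helper27

/-- a finite field extension of a perfect field tensored with a reduced algebra is reduced. -/
theorem isReduced_tensor_of_finite_field (k E B : Type u) [Field k] [PerfectField k] [Field E]
    [Algebra k E] [Module.Finite k E] [CommRing B] [Algebra k B] [IsReduced B] :
    IsReduced (E ⊗[k] B) := by
  haveI : Algebra.IsSeparable k E := inferInstance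
  haveI : Algebra.FormallyEtale k E := Algebra.FormallyEtale.of_isSeparable k E
  haveI : Algebra.FinitePresentation k E :=
    Algebra.FinitePresentation.of_finiteType.mp inferInstance
  haveI : Algebra.Smooth k E := {}
  haveI : Algebra.Smooth B (B ⊗[k] E) := inferInstance
  haveI : IsReduced (B ⊗[k] E) := Groth.Agent.Lib.Helper14.isReduced_of_smooth B (B ⊗[k] E)
  exact isReduced_of_injective (Algebra.TensorProduct.comm k E B).toRingEquiv.toRingHom
    (Algebra.TensorProduct.comm k E B).injective

section QuotInst
variable (k A : Type u) [Field k] [CommRing A] [IsLocalRing A] [IsNoetherianRing A] [Algebra k A]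
  [IsAdicComplete (maximalIdeal A) A]

theorem isAdicComplete_quotient (I : Ideal A) [IsLocalRing (A ⧸ I)] :
    IsAdicComplete (maximalIdeal (A ⧸ I)) (A ⧸ I) := by
  have h := Groth.Agent.Lib.Helper15.CS.isAdicComplete_quotient (maximalIdeal A) I
  have h2 : (maximalIdeal A).map (algebraMap A (A ⧸ I)) = maximalIdeal (A ⧸ I) :=
    IsLocalRing.map_maximalIdeal_of_surjective (Ideal.Quotient.mk I)
      Ideal.Quotient.mk_surjective
  rw [h2] at h
  exact h

end QuotInst

section Base
variable (k : Type u) [Field k] [PerfectField k] (A B : Type u) [CommRing A] [CommRing B]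
  [Algebra k A] [Algebra k B] [IsNoetherianRing A] [IsNoetherianRing B] [IsLocalRing A]
  [IsLocalRing B] [Module.Finite k (ResidueField A)] [IsAdicComplete (maximalIdeal B) B]
  [IsReduced B]

theorem isReduced_of_maximalIdeal_eq_bot (h0 : maximalIdeal A = ⊥) :
    IsReduced (CTensor k A B) := by
  letI : Field (A ⧸ maximalIdeal A) := Ideal.Quotient.field _
  obtain ⟨e⟩ := CplTensorC.nonempty_equiv k A B
  haveI : Module.Finite k (A ⧸ maximalIdeal A) := ‹Module.Finite k (ResidueField A)›
  haveI : IsReduced ((A ⧸ maximalIdeal A) ⊗[k] B) :=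
    isReduced_tensor_of_finite_field k (A ⧸ maximalIdeal A) B
  haveI : IsReduced (CTensor k A B ⧸ (maximalIdeal A).map (algebraMap A (CTensor k A B))) :=
    isReduced_of_injective e.toRingHom e.injective
  have hbot : (maximalIdeal A).map (algebraMap A (CTensor k A B)) = ⊥ := by
    rw [h0, Ideal.map_bot]
  refine isReduced_of_injective
    (Ideal.Quotient.mk ((maximalIdeal A).map (algebraMap A (CTensor k A B)))) ?_
  rw [RingHom.injective_iff_ker_eq_bot, Ideal.mk_ker, hbot]

end Base

section Reg
variable (k : Type u) [Field k] [PerfectField k] (B : Type u) [CommRing B] [Algebra k B]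
  [IsNoetherianRing B] [IsLocalRing B] [IsAdicComplete (maximalIdeal B) B] [IsReduced B]

theorem isReduced_of_regular_aux : ∀ (n : ℕ) (A : Type u) [CommRing A] [Algebra k A]
    [IsRegularLocalRing A] [IsAdicComplete (maximalIdeal A) A]
    [Module.Finite k (ResidueField A)],
    (maximalIdeal A).spanFinrank = n → IsReduced (CTensor k A B) := by
  intro n
  induction n with
  | zero =>
    intro A _ _ _ _ _ h0
    rw [Submodule.spanFinrank_eq_zero_iff_eq_bot (maximalIdeal A).fg_of_isNoetherianRing] at h0
    exact isReduced_of_maximalIdeal_eq_bot k A B h0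
  | succ n ih =>
    intro A _ _ _ _ _ hn
    have hdim : ringKrullDim A = ((n + 1 : ℕ) : WithBot ℕ∞) := by
      rw [← IsRegularLocalRing.spanFinrank_maximalIdeal, hn]
    have hnot : ¬ ((maximalIdeal A : Set A) ⊆ ((maximalIdeal A ^ 2 : Ideal A) : Set A)) := by
      intro hle
      have h2 : (maximalIdeal A : Submodule A A) ≤
          maximalIdeal A • (maximalIdeal A : Submodule A A) := by
        rw [smul_eq_mul, ← pow_two]; exact hle
      have h3 := Submodule.eq_bot_of_le_smul_of_le_jacobson_bot (maximalIdeal A)
        (maximalIdeal A : Submodule A A) (maximalIdeal A).fg_of_isNoetherianRing h2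
        (jacobson_eq_maximalIdeal ⊥ bot_ne_top).ge
      have h4 : (maximalIdeal A).spanFinrank = 0 := by
        rw [Submodule.spanFinrank_eq_zero_iff_eq_bot (maximalIdeal A).fg_of_isNoetherianRing]
        exact h3
      omega
    obtain ⟨t, htm, ht2⟩ := Set.not_subset.mp hnot
    obtain ⟨hq1, hq2⟩ := Groth.Agent.Lib.Helper21.PthRoot.quotient_single t htm ht2
    haveI := hq2
    have hnq : (maximalIdeal (A ⧸ Ideal.span {t})).spanFinrank = n := by
      have h5 : ((maximalIdeal (A ⧸ Ideal.span {t})).spanFinrank : WithBot ℕ∞) +
          1 = ((n + 1 : ℕ) : WithBot ℕ∞) := by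
        rw [IsRegularLocalRing.spanFinrank_maximalIdeal, hq1, hdim]
      have h6 : (maximalIdeal (A ⧸ Ideal.span {t})).spanFinrank + 1 = n + 1 := by
        exact_mod_cast h5
      omega
    haveI : IsAdicComplete (maximalIdeal (A ⧸ Ideal.span {t})) (A ⧸ Ideal.span {t}) :=
      isAdicComplete_quotient A (Ideal.span {t})
    haveI : Module.Finite k (ResidueField (A ⧸ Ideal.span {t})) :=
      Groth.Agent.Lib.Helper21.RIk.finite_residueField_quotient k A (Ideal.span {t})
    haveI hred1 : IsReduced (CTensor k (A ⧸ Ideal.span {t}) B) := ih (A ⧸ Ideal.span {t}) hnq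
    obtain ⟨e⟩ := Groth.Agent.Lib.Helper21.RJm.nonempty_ringEquiv_quotient k A B (Ideal.span {t})
    obtain ⟨τ, hτ⟩ : ∃ τ : CTensor k A B, τ = algebraMap A (CTensor k A B) t := ⟨_, rfl⟩
    have hmap : (Ideal.span {t}).map (algebraMap A (CTensor k A B)) = Ideal.span {τ} := by
      rw [Ideal.map_span, Set.image_singleton, hτ]
    haveI : IsReduced (CTensor k A B ⧸ Ideal.span {τ}) := by
      have h7 : IsReduced (CTensor k A B ⧸
          (Ideal.span {t}).map (algebraMap A (CTensor k A B))) :=
        isReduced_of_injective e.toRingHom e.injective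
      rw [hmap] at h7
      exact h7
    haveI : IsDomain A := Groth.Agent.Lib.Helper9.RegLocal.isDomain_of_isRegularLocalRing A
    have ht0 : t ≠ 0 := fun h => ht2 (by rw [h]; exact Ideal.zero_mem _)
    have hregA : IsSMulRegular A t := by
      intro y z hyz
      have h8 : t * y = t * z := hyz
      exact mul_left_cancel₀ ht0 h8
    haveI : Module.Flat A (CTensor k A B) := CplTensorC.flat_A k A B
    have hregC : IsSMulRegular (CTensor k A B) τ := by
      rw [hτ]
      exact IsSMulRegular.of_flat hregA
    refine Groth.Agent.Lib.Helper21.RJl.isReduced_of_quotient_nonZeroDivisor (CTensor k A B) τ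
      ?_ ?_
    · rw [hτ]
      exact CplTensorC.mapA_le_jacobson k A B (Ideal.mem_map_of_mem _ htm)
    · intro y hy
      apply hregC
      show τ • y = τ • (0 : CTensor k A B)
      rw [smul_eq_mul, smul_eq_mul, mul_zero]
      exact hy

theorem isReduced_of_regular (A : Type u) [CommRing A] [Algebra k A] [IsRegularLocalRing A]
    [IsAdicComplete (maximalIdeal A) A] [Module.Finite k (ResidueField A)] :
    IsReduced (CTensor k A B) :=
  isReduced_of_regular_aux k B _ A rfl

end Reg

end Groth.Agent.Lib.Helper21.RJn
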