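import Mathlib
import Groth.Prelude.Def_EGA4c
import Groth.Agent.Lib.Helper27.CplTensorC
import Groth.Agent.Lib.Helper21.RJl
import Groth.Agent.Lib.Helper21.RJm
import Groth.Agent.Lib.Helper21.RJn
import Groth.Agent.Lib.Helper21.RIx
import Groth.Agent.Lib.Helper21.RIp
import Groth.Agent.Lib.Helper21.RIt
import Groth.Agent.Lib.Helper21.RegSepA
import Groth.Agent.Lib.Helper14.GeomReduced
import Groth.Agent.Lib.Helper26.CompleteFinite
import Groth.Agent.Lib.Helper1.PSOmega

/-!
# Reducedness of the completed tensor product of complete reduced local algebras over a perfect field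
-/

set_option autoImplicit false
set_option maxHeartbeats 1600000
set_option linter.style.haveILetI false
set_option linter.unusedSectionVars false
universe u
open TensorProduct IsLocalRing EGA4

namespace Groth.Agent.Lib.Helper21.RJo

open Groth.Agent.Lib.Helper27

section Gen

/-- a field containing a domain is flat over it. -/
theorem flat_of_field (R : Type*) [CommRing R] [IsDomain R] (L : Type*) [Field L] [Algebra R L]
    (h : Function.Injective (algebraMap R L)) : Module.Flat R L := by
  let φ : FractionRing R →+* L := IsFractionRing.lift h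
  letI : Algebra (FractionRing R) L := φ.toAlgebra
  haveI : IsScalarTower R (FractionRing R) L :=
    IsScalarTower.of_algebraMap_eq (fun x => (IsFractionRing.lift_algebraMap h x).symm)
  haveI : Module.Flat R (FractionRing R) :=
    IsLocalization.flat (FractionRing R) (nonZeroDivisors R)
  exact Module.Flat.trans R (FractionRing R) L

/-- base change of a reduced Noetherian ring along a flat, essentially finite type, formally
unramified algebra is reduced. -/
theorem isReduced_tensor_of_unramified (R₀ C K : Type u) [CommRing R₀] [CommRing C] [CommRing K]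
    [Algebra R₀ C] [Algebra R₀ K] [IsNoetherianRing C] [IsReduced C] [Module.Flat R₀ K]
    [Algebra.EssFiniteType R₀ K] [Algebra.FormallyUnramified R₀ K] :
    IsReduced (C ⊗[R₀] K) := by
  apply Groth.Agent.Lib.Helper14.GeomReduced.isReduced_of_flat_of_fibers C (C ⊗[R₀] K)
  intro q _ hq
  let e1 : (C ⊗[R₀] K) ⊗[C] q.ResidueField ≃+* q.ResidueField ⊗[R₀] K :=
    (Algebra.TensorProduct.comm C (C ⊗[R₀] K) q.ResidueField).toRingEquiv.trans
      (Algebra.TensorProduct.cancelBaseChange R₀ C C q.ResidueField K).toRingEquiv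
  haveI : IsReduced (q.ResidueField ⊗[R₀] K) :=
    Algebra.FormallyUnramified.isReduced_of_field q.ResidueField _
  exact isReduced_of_injective e1.toRingHom e1.injective

theorem exists_nat_dim (A : Type*) [CommRing A] [IsLocalRing A] [IsNoetherianRing A] :
    ∃ n : ℕ, ringKrullDim A = n := by
  obtain ⟨s₀, -, hs₀card⟩ :=
    Ideal.exists_finset_card_eq_height_of_isNoetherianRing (maximalIdeal A)
  refine ⟨s₀.card, ?_⟩
  rw [← IsLocalRing.maximalIdeal_height_eq_ringKrullDim, ← hs₀card]
  norm_cast

end Gen

section SepNN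
variable (k A : Type u) [Field k] [PerfectField k] [CommRing A] [IsDomain A] [IsLocalRing A]
  [IsNoetherianRing A] [Algebra k A] [IsAdicComplete (maximalIdeal A) A]
  [Module.Finite k (ResidueField A)]

local notation "Ωh" => AdicCompletion (maximalIdeal A) (Ω[A⁄k])

theorem isFractionRing_bot : IsFractionRing A (Localization.AtPrime (⊥ : Ideal A)) := by
  have hM : (⊥ : Ideal A).primeCompl = nonZeroDivisors A := by
    ext x
    rw [Ideal.mem_primeCompl_iff, Ideal.mem_bot, mem_nonZeroDivisors_iff_ne_zero]
  show IsLocalization (nonZeroDivisors A) _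
  rw [← hM]
  infer_instance

theorem isGeometricallyRegular_bot :
    CAlg.IsGeometricallyRegular k (Localization.AtPrime (⊥ : Ideal A)) := by
  intro k' _ _ hfin
  haveI := hfin
  haveI := isFractionRing_bot A
  letI : Field (Localization.AtPrime (⊥ : Ideal A)) := IsFractionRing.toField A
  haveI : IsReduced (k' ⊗[k] Localization.AtPrime (⊥ : Ideal A)) :=
    RJn.isReduced_tensor_of_finite_field k k' _
  haveI : Module.Finite (Localization.AtPrime (⊥ : Ideal A))
      (Localization.AtPrime (⊥ : Ideal A) ⊗[k] k') := inferInstance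
  haveI : IsArtinianRing (Localization.AtPrime (⊥ : Ideal A) ⊗[k] k') :=
    IsArtinianRing.of_finite (Localization.AtPrime (⊥ : Ideal A)) _
  haveI : IsArtinianRing (k' ⊗[k] Localization.AtPrime (⊥ : Ideal A)) :=
    (Algebra.TensorProduct.comm k (Localization.AtPrime (⊥ : Ideal A)) k').surjective.isArtinianRing
  exact Groth.Agent.Lib.Helper21.RegSep.isRegularRing_of_artinian_reduced _

theorem exists_sep_normalization (hm : maximalIdeal A ≠ ⊥) (n : ℕ) (hn : ringKrullDim A = n) :
    ∃ (_ : Algebra (MvPowerSeries (Fin n) k) A) (_ : IsScalarTower k (MvPowerSeries (Fin n) k) A),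
      IsLocalHom (algebraMap (MvPowerSeries (Fin n) k) A) ∧
        Module.Finite (MvPowerSeries (Fin n) k) A ∧
          Algebra.FormallyUnramified (MvPowerSeries (Fin n) k)
            (Localization.AtPrime (⊥ : Ideal A)) := by
  classical
  obtain ⟨p, hp⟩ := ExpChar.exists k
  haveI := hp
  haveI : PerfectRing k p := PerfectField.toPerfectRing p
  have hk : (frobenius k p).Finite :=
    RingHom.Finite.of_surjective _ (bijective_frobenius k p).2
  have hP := isGeometricallyRegular_bot k A
  haveI := isFractionRing_bot A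
  haveI : IsDomain (Localization.AtPrime (⊥ : Ideal A)) := IsFractionRing.isDomain A
  have hqmin : (⊥ : Ideal A) ∈ minimalPrimes A := by
    rw [IsDomain.minimalPrimes_eq_singleton_bot]
    exact Set.mem_singleton _
  have hPne : (⊥ : Ideal A) ≠ maximalIdeal A := fun h => hm h.symm
  have hdimq : ringKrullDim (A ⧸ (⊥ : Ideal A)) = ringKrullDim A :=
    ringKrullDim_eq_of_ringEquiv (RingEquiv.quotientBot A)
  have hn' : ringKrullDim (A ⧸ (⊥ : Ideal A)) = n := by rw [hdimq]; exact hn
  haveI : Module.Finite A Ωh := RIo.finite_Ωh k A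
  obtain ⟨h, d, hh, hd, hfin⟩ := RIx.bound k A p hk ⊥ hP
  have hPh : (⊥ : Ideal A).height = h := by
    have h1 := IsLocalization.AtPrime.ringKrullDim_eq_height (⊥ : Ideal A)
      (Localization.AtPrime (⊥ : Ideal A))
    rw [← hh] at h1
    exact_mod_cast h1.symm
  have h2 := RIx.height_add_le ⊥ ⊥ hqmin le_rfl h hPh
  have hle : h + d ≤ n := by
    have h3 : (h : WithBot ℕ∞) + (d : WithBot ℕ∞) ≤ (n : WithBot ℕ∞) := by
      rw [← hn']
      exact (add_le_add_right hd _).trans h2
    exact_mod_cast h3
  have hfin' : Module.finrank (⊥ : Ideal A).ResidueField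
      ((⊥ : Ideal A).ResidueField ⊗[A] Ωh) ≤ n := hfin.trans hle
  obtain ⟨t, htmin, htspan⟩ := RIp.exists_params k A ⊥ hPne
    ⟨⊥, hqmin, le_rfl, hdimq⟩ n hfin'
  obtain ⟨alg, tower, hloc, hfinite, hX⟩ := RIp.exists_alg_of_params k A n t htmin
  refine ⟨alg, tower, hloc, hfinite, ?_⟩
  letI := alg
  haveI := tower
  haveI := hfinite
  have h1 : (fun i : Fin n => RIo.δ k A ⊥ (algebraMap (MvPowerSeries (Fin n) k) A
      (MvPowerSeries.X i))) = fun i => RIo.δ k A ⊥ (t i) := by
    funext i
    rw [hX]
  exact RIp.unramified_of_span k A n ⊥ (by rw [h1]; exact htspan)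

end SepNN

section Dom
variable (k : Type u) [Field k] [PerfectField k] (A B : Type u) [CommRing A] [CommRing B]
  [Algebra k A] [Algebra k B] [IsNoetherianRing A] [IsNoetherianRing B] [IsLocalRing A]
  [IsLocalRing B] [IsAdicComplete (maximalIdeal A) A] [IsAdicComplete (maximalIdeal B) B]
  [Module.Finite k (ResidueField A)] [IsReduced B]

theorem isReduced_of_isDomain [IsDomain A] : IsReduced (CTensor k A B) := by
  by_cases hm : maximalIdeal A = ⊥
  · exact RJn.isReduced_of_maximalIdeal_eq_bot k A B hm
  obtain ⟨n, hn⟩ := exists_nat_dim A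
  obtain ⟨alg, tower, hloc, hfinite, hunr⟩ := exists_sep_normalization k A hm n hn
  letI := alg
  haveI := tower
  haveI := hloc
  haveI := hfinite
  haveI := hunr
  haveI : IsRegularLocalRing (MvPowerSeries (Fin n) k) :=
    Groth.Agent.Lib.Helper21.CohenStruct.isRegularLocalRing_mvPowerSeries k n
  haveI : IsDomain (MvPowerSeries (Fin n) k) :=
    Groth.Agent.Lib.Helper9.RegLocal.isDomain_of_isRegularLocalRing _
  haveI : Module.Finite k (ResidueField (MvPowerSeries (Fin n) k)) :=
    Groth.Agent.Lib.Helper21.RIt.finite_residueField k n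
  haveI hC0red : IsReduced (CTensor k (MvPowerSeries (Fin n) k) B) :=
    RJn.isReduced_of_regular k B _
  obtain ⟨e⟩ := RJm.nonempty_ringEquiv k (MvPowerSeries (Fin n) k) A B
  suffices hsuff : IsReduced
      (CTensor k (MvPowerSeries (Fin n) k) B ⊗[MvPowerSeries (Fin n) k] A) by
    haveI := hsuff
    exact isReduced_of_injective e.symm.toRingHom e.symm.injective
  have hinj0 : Function.Injective (algebraMap (MvPowerSeries (Fin n) k) A) := by
    apply Groth.Agent.Lib.Helper26.CompleteFinite.injective_of_isIntegral_of_le_ringKrullDim k n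
    · exact (RingHom.finite_algebraMap.mpr hfinite).to_isIntegral
    · rw [hn]
  haveI := isFractionRing_bot A
  letI : Field (Localization.AtPrime (⊥ : Ideal A)) := IsFractionRing.toField A
  have hinjAK : Function.Injective (algebraMap A (Localization.AtPrime (⊥ : Ideal A))) :=
    IsFractionRing.injective A _
  have hinjK : Function.Injective (algebraMap (MvPowerSeries (Fin n) k)
      (Localization.AtPrime (⊥ : Ideal A))) := by
    rw [IsScalarTower.algebraMap_eq (MvPowerSeries (Fin n) k) A
      (Localization.AtPrime (⊥ : Ideal A))]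
    exact hinjAK.comp hinj0
  haveI : Module.Flat (MvPowerSeries (Fin n) k) (Localization.AtPrime (⊥ : Ideal A)) :=
    flat_of_field _ _ hinjK
  haveI : Algebra.EssFiniteType A (Localization.AtPrime (⊥ : Ideal A)) :=
    Algebra.EssFiniteType.of_isLocalization _ (⊥ : Ideal A).primeCompl
  haveI : Algebra.EssFiniteType (MvPowerSeries (Fin n) k) (Localization.AtPrime (⊥ : Ideal A)) :=
    Algebra.EssFiniteType.comp (MvPowerSeries (Fin n) k) A _
  haveI hredK : IsReduced (CTensor k (MvPowerSeries (Fin n) k) B ⊗[MvPowerSeries (Fin n) k]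
      Localization.AtPrime (⊥ : Ideal A)) :=
    isReduced_tensor_of_unramified (MvPowerSeries (Fin n) k)
      (CTensor k (MvPowerSeries (Fin n) k) B) (Localization.AtPrime (⊥ : Ideal A))
  haveI : Module.Flat (MvPowerSeries (Fin n) k) (CTensor k (MvPowerSeries (Fin n) k) B) :=
    CplTensorC.flat_A k (MvPowerSeries (Fin n) k) B
  have h1 := Module.Flat.lTensor_preserves_injective_linearMap
    (M := CTensor k (MvPowerSeries (Fin n) k) B)
    (IsScalarTower.toAlgHom (MvPowerSeries (Fin n) k) A
      (Localization.AtPrime (⊥ : Ideal A))).toLinearMap hinjAK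
  have hg : Function.Injective (Algebra.TensorProduct.map
      (AlgHom.id (MvPowerSeries (Fin n) k) (CTensor k (MvPowerSeries (Fin n) k) B))
      (IsScalarTower.toAlgHom (MvPowerSeries (Fin n) k) A
        (Localization.AtPrime (⊥ : Ideal A)))) := by
    have key : ∀ z, (LinearMap.lTensor (CTensor k (MvPowerSeries (Fin n) k) B)
        (IsScalarTower.toAlgHom (MvPowerSeries (Fin n) k) A
          (Localization.AtPrime (⊥ : Ideal A))).toLinearMap) z =
        (Algebra.TensorProduct.map
          (AlgHom.id (MvPowerSeries (Fin n) k) (CTensor k (MvPowerSeries (Fin n) k) B))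
          (IsScalarTower.toAlgHom (MvPowerSeries (Fin n) k) A
            (Localization.AtPrime (⊥ : Ideal A)))) z := by
      intro z
      induction z using TensorProduct.induction_on with
      | zero => simp only [map_zero]
      | tmul c a => rfl
      | add u v hu hv => rw [map_add, map_add, hu, hv]
    intro x y hxy
    apply h1
    rw [key, key]
    exact hxy
  exact isReduced_of_injective _ hg

end Dom

section Main
variable (k : Type u) [Field k] [PerfectField k] (A B : Type u) [CommRing A] [CommRing B]
  [Algebra k A] [Algebra k B] [IsNoetherianRing A] [IsNoetherianRing B] [IsLocalRing A]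
  [IsLocalRing B] [IsAdicComplete (maximalIdeal A) A] [IsAdicComplete (maximalIdeal B) B]
  [Module.Finite k (ResidueField A)] [IsReduced A] [IsReduced B]

theorem main : IsReduced (CTensor k A B) := by
  haveI : Module.Flat A (CTensor k A B) := CplTensorC.flat_A k A B
  apply Groth.Agent.Lib.Helper21.RJl.isReduced_of_flat_of_quotients A (CTensor k A B)
  intro 𝔭 h𝔭
  haveI : 𝔭.IsPrime := h𝔭.1.1
  haveI : IsDomain (A ⧸ 𝔭) := Ideal.Quotient.isDomain 𝔭
  haveI : IsLocalRing (A ⧸ 𝔭) :=
    IsLocalRing.of_surjective' (Ideal.Quotient.mk 𝔭) Ideal.Quotient.mk_surjective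
  haveI : IsAdicComplete (maximalIdeal (A ⧸ 𝔭)) (A ⧸ 𝔭) := RJn.isAdicComplete_quotient A 𝔭
  haveI : Module.Finite k (ResidueField (A ⧸ 𝔭)) :=
    Groth.Agent.Lib.Helper21.RIk.finite_residueField_quotient k A 𝔭
  haveI : IsReduced (CTensor k (A ⧸ 𝔭) B) := isReduced_of_isDomain k (A ⧸ 𝔭) B
  obtain ⟨e⟩ := RJm.nonempty_ringEquiv_quotient k A B 𝔭
  exact isReduced_of_injective e.toRingHom e.injective

end Main

end Groth.Agent.Lib.Helper21.RJo
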