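import Groth.Agent.Lib.Helper24.TautSl2
import Mathlib

/-!
# The formal relation ring: no relations in low second degree (first degree `0`)

Second-degree Euler derivation `D2`, the iterated commutation relation
`F^{g+s+1} E^{s+1} w = 0` for `w` of first degree `2g`, and the vanishing of the generators of
the relation ideal in bidegree `(0, n)` with `3 n ≤ 2 g`.
-/

set_option linter.style.haveILetI false
set_option linter.unusedSectionVars false
set_option linter.unusedVariables false

namespace Groth.Agent.Lib.Helper21.RJp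

open MvPolynomial W4c3tautjacobian Groth.Agent.Lib.Helper24.TautSl2

variable (g : ℕ)

/-- Euler derivation for the second degree. -/
noncomputable def D2 : Derivation ℚ (RelRing g) (RelRing g) :=
  MvPolynomial.mkDerivation ℚ (fun v => ((wt g v).2 : ℚ) • (X v : RelRing g))

lemma D2_X (v : Var g) : D2 g (X v) = ((wt g v).2 : ℚ) • (X v : RelRing g) := by
  simp [D2, mkDerivation_X]

lemma D2_y : D2 g (X none) = (2 : ℚ) • (X none : RelRing g) := by
  rw [D2_X]; simp [wt]

lemma D2_xv (i j : ℤ) : D2 g (xv g i j) = (j : ℚ) • xv g i j := by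
  unfold xv
  split_ifs with h0 h1
  · rw [Derivation.map_natCast, h0.2]; simp
  · rw [D2_X]
    have : ((wt g (some ⟨(i.toNat, j.toNat), h1.2.2⟩)).2 : ℚ) = (j : ℚ) := by
      show ((j.toNat : ℕ) : ℚ) = (j : ℚ)
      have := Int.toNat_of_nonneg h1.2.1
      exact_mod_cast congrArg (Int.cast (R := ℚ)) this
    rw [this]
  · simp

lemma D2_dvD (p : ℕ × ℕ) (P : RelRing g) :
    D2 g (dvD g p P) = dvD g p (D2 g P) - (p.2 : ℚ) • dvD g p P := by
  classical
  unfold dvD
  split_ifs with h
  · have key : ⁅D2 g, (pderiv (some ⟨p, h⟩) : Derivation ℚ (RelRing g) (RelRing g))⁆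
        = (-(p.2 : ℚ)) • (pderiv (some ⟨p, h⟩) : Derivation ℚ (RelRing g) (RelRing g)) := by
      apply MvPolynomial.derivation_ext
      intro w
      simp only [Derivation.commutator_apply, Derivation.smul_apply, pderiv_X, D2_X,
        Derivation.map_smul]
      by_cases hw : w = some ⟨p, h⟩
      · subst hw; simp [wt]
      · have h0 : Pi.single (M := fun _ => RelRing g) (some ⟨p, h⟩) (1 : RelRing g) w = 0 :=
          Pi.single_eq_of_ne hw _
        simp [h0]
    have h2 := DFunLike.congr_fun key P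
    rw [Derivation.commutator_apply, Derivation.smul_apply] at h2
    have h3 := sub_eq_iff_eq_add.mp h2
    rw [h3]; module
  · simp

lemma D2_cc (p q : ℕ × ℕ) : D2 g (cc g p q) = ((p.2 : ℚ) + q.2) • cc g p q := by
  simp only [cc, map_sub, Derivation.leibniz, D2_xv, D2_y, Derivation.map_natCast, smul_eq_mul,
    smul_eq_C_mul]
  push_cast
  simp only [map_sub, map_add, map_one, map_ofNat]
  ring

lemma D2_bb (p : ℕ × ℕ) : D2 g (bb g p) = ((p.2 : ℚ)) • bb g p := by
  simp only [bb, D2_xv, Int.cast_natCast]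

lemma term2' (p q : ℕ × ℕ) (P : RelRing g) :
    D2 g (cc g p q * dvD g p (dvD g q P))
      = cc g p q * dvD g p (dvD g q (D2 g P)) := by
  rw [Derivation.leibniz, D2_cc, D2_dvD, D2_dvD, map_sub, Derivation.map_smul]
  simp only [smul_eq_C_mul, smul_eq_mul, map_sub, map_add]
  ring

lemma term1' (p : ℕ × ℕ) (P : RelRing g) :
    D2 g (bb g p * dvD g p P) = bb g p * dvD g p (D2 g P) := by
  rw [Derivation.leibniz, D2_bb, D2_dvD]
  simp only [smul_eq_C_mul, smul_eq_mul, map_sub]
  ring

lemma D2_F (P : RelRing g) : D2 g (F g P) = F g (D2 g P) := by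
  rw [F_eq, F_eq]
  simp only [map_add, Derivation.map_smul, map_sum, term1', term2']

lemma D2_monomial (e : Var g →₀ ℕ) : ∀ c : ℚ,
    D2 g (monomial e c) = ((Finsupp.weight (wt g) e).2 : ℚ) • monomial e c := by
  induction e using Finsupp.induction with
  | zero => intro c; simp [MvPolynomial.derivation_C]
  | single_add i k f hi hk ih =>
    intro c
    have h1 : (monomial (Finsupp.single i k + f) c : RelRing g) = X i ^ k * monomial f c := by
      rw [add_comm, monomial_add_single, mul_comm]
    obtain ⟨n, rfl⟩ := Nat.exists_eq_succ_of_ne_zero hk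
    have hw : (Finsupp.weight (wt g) (Finsupp.single i (Nat.succ n) + f)).2
        = (n + 1) * (wt g i).2 + (Finsupp.weight (wt g) f).2 := by
      simp only [map_add, Finsupp.weight_single, Prod.snd_add, Prod.smul_snd, smul_eq_mul,
        Nat.succ_eq_add_one]
    rw [h1, Derivation.leibniz, ih, Derivation.leibniz_pow, D2_X, hw]
    simp only [Nat.succ_sub_one, smul_eq_mul, smul_eq_C_mul,
      nsmul_eq_mul, Nat.succ_eq_add_one]
    push_cast
    simp only [map_add, map_mul, map_natCast, map_one]
    ring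

lemma coeff_D2 (P : RelRing g) (d : Var g →₀ ℕ) :
    coeff d (D2 g P) = ((Finsupp.weight (wt g) d).2 : ℚ) * coeff d P := by
  classical
  induction P using MvPolynomial.induction_on' with
  | monomial e c =>
    rw [D2_monomial, coeff_smul, smul_eq_mul, coeff_monomial]
    by_cases h : e = d
    · subst h; simp
    · simp [h]
  | add P Q hP hQ => rw [map_add, coeff_add, coeff_add, hP, hQ, mul_add]

lemma D2_iter (P : RelRing g) (n : ℚ) (hP : D2 g P = n • P) (k : ℕ) :
    D2 g ((F g)^[k] P) = n • (F g)^[k] P := by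
  induction k with
  | zero => simpa using hP
  | succ k ih =>
    rw [Function.iterate_succ_apply', D2_F, ih, F_smul]

lemma D1_Eiter (P : RelRing g) (m : ℚ) (hP : D1 g P = m • P) (a : ℕ) :
    D1 g ((E g)^[a] P) = (m + 2 * a) • (E g)^[a] P := by
  induction a with
  | zero => simp [hP]
  | succ a ih =>
    rw [Function.iterate_succ_apply', D1_E, ih]
    simp only [E, mul_smul_comm]
    push_cast
    module

lemma E_zero : E g 0 = 0 := by simp [E]

lemma lemmaA (hg : 1 ≤ g) (w : RelRing g) (hw : D1 g w = ((2 * g : ℕ) : ℚ) • w) (s : ℕ) :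
    (F g)^[g + s + 1] ((E g)^[s + 1] w) = 0 := by
  induction s with
  | zero =>
    have h2 := main_comm g hg w _ hw g
    have h3 : (F g)^[g + 1] w = 0 := by
      apply eigen_neg g _ (-2) (by norm_num)
      rw [D1_iter g w _ hw (g + 1)]
      congr 1; push_cast; ring
    have h4 : ((g : ℚ) + 1) * ((g : ℚ) - ((2 * g : ℕ) : ℚ) + g) = 0 := by push_cast; ring
    simp only [add_zero, zero_add, Function.iterate_one]
    rw [h2, h3, h4, zero_smul, add_zero]
    exact E_zero g
  | succ s ih =>
    have hzD : D1 g ((E g)^[s + 1] w)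
        = (((2 * g : ℕ) : ℚ) + 2 * ((s + 1 : ℕ) : ℚ)) • (E g)^[s + 1] w :=
      D1_Eiter g w _ hw (s + 1)
    have h2 := main_comm g hg ((E g)^[s + 1] w) _ hzD (g + (s + 1))
    have h3 : (F g)^[g + (s + 1) + 1] ((E g)^[s + 1] w) = 0 := by
      apply eigen_neg g _ (-2) (by norm_num)
      rw [D1_iter g _ _ hzD (g + (s + 1) + 1)]
      congr 1; push_cast; ring
    have h5 : (F g)^[g + (s + 1)] ((E g)^[s + 1] w) = 0 := by
      have : g + (s + 1) = g + s + 1 := by ring
      rw [this]; exact ih
    rw [Function.iterate_succ_apply' (E g) (s + 1) w]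
    rw [h2, h3, h5, smul_zero, add_zero]
    exact E_zero g

lemma E_iter (a : ℕ) (P : RelRing g) : (E g)^[a] P = (xv g 2 0) ^ a * P := by
  induction a with
  | zero => simp
  | succ a ih =>
    rw [Function.iterate_succ_apply', ih, pow_succ]
    unfold E
    ring

lemma wt_le (hg : 1 ≤ g) (v : Var g) (hv : v ≠ some ⟨(2, 0), valid20 g hg⟩) :
    (wt g v).1 ≤ 3 * (wt g v).2 := by
  rcases v with _ | ⟨⟨i, j⟩, hij⟩
  · simp [wt]
  · show i ≤ 3 * j
    obtain ⟨h1, h2, h3, h4⟩ := hij
    simp only at h1 h2 h3 h4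
    by_contra hlt
    have hj : j = 0 := by omega
    subst hj
    have hi : i = 2 := by
      have : Even i := by simpa using h3
      obtain ⟨r, hr⟩ := this
      omega
    subst hi
    exact hv rfl

lemma weight_le (hg : 1 ≤ g) (d : Var g →₀ ℕ) :
    (Finsupp.weight (wt g) d).1
      ≤ 2 * d (some ⟨(2, 0), valid20 g hg⟩) + 3 * (Finsupp.weight (wt g) d).2 := by
  classical
  induction d using Finsupp.induction with
  | zero => simp
  | single_add i k f hi hk ih =>
    simp only [map_add, Finsupp.weight_single, Prod.fst_add, Prod.snd_add, Prod.smul_fst,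
      Prod.smul_snd, smul_eq_mul, Finsupp.add_apply]
    by_cases h : i = some ⟨(2, 0), valid20 g hg⟩
    · subst h
      have e1 : (wt g (some ⟨(2, 0), valid20 g hg⟩)).1 = 2 := rfl
      have e2 : (wt g (some ⟨(2, 0), valid20 g hg⟩)).2 = 0 := rfl
      rw [Finsupp.single_eq_same, e1, e2]
      omega
    · have h0 : (Finsupp.single i k) (some ⟨(2, 0), valid20 g hg⟩) = 0 := by
        rw [Finsupp.single_apply, if_neg h]
      rw [h0]
      have := wt_le g hg i h
      nlinarith [Nat.mul_le_mul_left k this, ih]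

lemma exists_factor (v : Var g) (d : Var g →₀ ℕ) (a : ℕ) (ha : a ≤ d v) :
    ∃ d' : Var g →₀ ℕ, d = Finsupp.single v a + d' := by
  classical
  refine ⟨d - Finsupp.single v a, ?_⟩
  ext w
  simp only [Finsupp.add_apply, Finsupp.tsub_apply, Finsupp.single_apply]
  split_ifs with h
  · subst h; omega
  · omega

lemma gen_zero (hg : 1 ≤ g) (d : Var g →₀ ℕ) (N n' : ℕ)
    (hd : Finsupp.weight (wt g) d = (2 * N, n'))
    (hN : g < N) (hn : 3 * n' ≤ 2 * g) : (F g)^[N] (monomial d (1 : ℚ)) = 0 := by
  classical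
  have hle : 2 * N ≤ 2 * d (some ⟨(2, 0), valid20 g hg⟩) + 3 * n' := by
    have := weight_le g hg d
    rw [hd] at this
    exact this
  obtain ⟨s, rfl⟩ : ∃ s, N = g + s + 1 := ⟨N - g - 1, by omega⟩
  have ha : s + 1 ≤ d (some ⟨(2, 0), valid20 g hg⟩) := by omega
  obtain ⟨d', hd'⟩ := exists_factor g _ d (s + 1) ha
  have hw' : Finsupp.weight (wt g) d' = (2 * g, n') := by
    have h1 := hd
    rw [hd', map_add, Finsupp.weight_single] at h1
    have h2 : wt g (some ⟨(2, 0), valid20 g hg⟩) = (2, 0) := rfl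
    rw [h2] at h1
    have h3 := congrArg Prod.fst h1
    have h4 := congrArg Prod.snd h1
    simp only [Prod.fst_add, Prod.snd_add, Prod.smul_fst, Prod.smul_snd, smul_eq_mul] at h3 h4
    refine Prod.ext ?_ ?_
    · show (Finsupp.weight (wt g) d').1 = 2 * g
      omega
    · show (Finsupp.weight (wt g) d').2 = n'
      omega
  have hmono : (monomial d (1 : ℚ) : RelRing g) = (E g)^[s + 1] (monomial d' 1) := by
    rw [E_iter, xv20 g hg, hd', monomial_single_add]
  rw [hmono]
  apply lemmaA g hg
  rw [D1_monomial, hw']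

lemma gen_coeff (hg : 1 ≤ g) (n : ℕ) (hn : 3 * n ≤ 2 * g) (d : Var g →₀ ℕ) (k : ℕ)
    (hd : 2 * g < (Finsupp.weight (wt g) d).1) (b : Var g →₀ ℕ)
    (h1 : (Finsupp.weight (wt g) b).1 = 0) (h2 : (Finsupp.weight (wt g) b).2 ≤ n) :
    coeff b ((F g)^[k] (monomial d (1 : ℚ))) = 0 := by
  by_contra hne
  have hD1 : D1 g ((F g)^[k] (monomial d (1 : ℚ)))
      = (((Finsupp.weight (wt g) d).1 : ℚ) - 2 * k) • (F g)^[k] (monomial d (1 : ℚ)) :=
    D1_iter g _ _ (D1_monomial g d 1) k
  have hD2 : D2 g ((F g)^[k] (monomial d (1 : ℚ)))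
      = ((Finsupp.weight (wt g) d).2 : ℚ) • (F g)^[k] (monomial d (1 : ℚ)) :=
    D2_iter g _ _ (D2_monomial g d 1) k
  have c1 := congrArg (coeff b) hD1
  have c2 := congrArg (coeff b) hD2
  rw [coeff_D1, coeff_smul, smul_eq_mul] at c1
  rw [coeff_D2, coeff_smul, smul_eq_mul] at c2
  have f1 := mul_right_cancel₀ hne c1
  have f2 := mul_right_cancel₀ hne c2
  rw [h1] at f1
  have f1' : (Finsupp.weight (wt g) d).1 = 2 * k := by
    have : ((Finsupp.weight (wt g) d).1 : ℚ) = ((2 * k : ℕ) : ℚ) := by
      push_cast; push_cast at f1; linarith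
    exact_mod_cast this
  have f2' : (Finsupp.weight (wt g) b).2 = (Finsupp.weight (wt g) d).2 := by exact_mod_cast f2
  have hzero : (F g)^[k] (monomial d (1 : ℚ)) = 0 := by
    apply gen_zero g hg d k (Finsupp.weight (wt g) d).2
    · exact Prod.ext f1' rfl
    · omega
    · omega
  exact hne (by rw [hzero]; simp)

theorem main (hg : 1 ≤ g) (n : ℕ) (hn : 3 * n ≤ 2 * g) (P : RelRing g)
    (hP : P ∈ relIdeal g)
    (hhom : IsWeightedHomogeneous (wt g) P ((0, n) : ℕ × ℕ)) : P = 0 := by
  classical
  have key : ∀ G ∈ relIdeal g, ∀ (c : RelRing g) (e : Var g →₀ ℕ),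
      Finsupp.weight (wt g) e = (0, n) → coeff e (c * G) = 0 := by
    intro G hG
    unfold relIdeal Ideal.span at hG
    refine Submodule.span_induction (p := fun G _ => ∀ (c : RelRing g) (e : Var g →₀ ℕ),
      Finsupp.weight (wt g) e = (0, n) → coeff e (c * G) = 0) ?_ ?_ ?_ ?_ hG
    · rintro x ⟨d, k, hd, rfl⟩ c e he
      rw [coeff_mul]
      apply Finset.sum_eq_zero
      rintro ⟨a, b⟩ hab
      have hab' : a + b = e := by simpa using hab
      have hw : Finsupp.weight (wt g) a + Finsupp.weight (wt g) b = (0, n) := by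
        rw [← map_add, hab', he]
      have h3 := congrArg Prod.fst hw
      have h4 := congrArg Prod.snd hw
      simp only [Prod.fst_add, Prod.snd_add] at h3 h4
      have hb1 : (Finsupp.weight (wt g) b).1 = 0 := by omega
      have hb2 : (Finsupp.weight (wt g) b).2 ≤ n := by omega
      show coeff a c * coeff b ((F g)^[k] (monomial d (1 : ℚ))) = 0
      rw [gen_coeff g hg n hn d k hd b hb1 hb2, mul_zero]
    · intro c e _; simp
    · intro x y _ _ hx hy c e he
      rw [mul_add, coeff_add, hx c e he, hy c e he, add_zero]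
    · intro r x _ hx c e he
      rw [smul_eq_mul, ← mul_assoc]
      exact hx (c * r) e he
  ext e
  rw [coeff_zero]
  by_contra hne
  have he := hhom hne
  have := key P hP 1 e he
  rw [one_mul] at this
  exact hne this

end Groth.Agent.Lib.Helper21.RJp
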