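import Groth.Agent.Lib.Helper21.RJp
import Mathlib

/-!
# The formal relation ring: the symbols `x 0 (2i)` are generated by the low ones modulo relations

The relation used is `F^{3i}(x_{3,1}^{2i})`; its coefficient at `x 0 (2i)` is shown to be nonzero
by a positivity argument after the sign twist `x ↦ -x`, `y ↦ 0`.
-/

set_option linter.style.haveILetI false
set_option linter.unusedSectionVars false
set_option linter.unusedVariables false
set_option linter.unusedSimpArgs false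

namespace Groth.Agent.Lib.Helper21.RJq

open MvPolynomial W4c3tautjacobian Groth.Agent.Lib.Helper24.TautSl2 Groth.Agent.Lib.Helper21.RJp

variable (g : ℕ)

/-! ### nonnegative coefficients -/

/-- all coefficients nonnegative -/
def N (P : RelRing g) : Prop := ∀ d, 0 ≤ coeff d P

lemma N_zero : N g 0 := fun d => by simp

lemma N_add (P Q : RelRing g) (hP : N g P) (hQ : N g Q) : N g (P + Q) := fun d => by
  rw [coeff_add]; exact add_nonneg (hP d) (hQ d)

lemma N_mul (P Q : RelRing g) (hP : N g P) (hQ : N g Q) : N g (P * Q) := fun d => by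
  classical
  rw [coeff_mul]
  exact Finset.sum_nonneg fun x _ => mul_nonneg (hP _) (hQ _)

lemma N_smul (c : ℚ) (P : RelRing g) (hc : 0 ≤ c) (hP : N g P) : N g (c • P) := fun d => by
  rw [coeff_smul, smul_eq_mul]; exact mul_nonneg hc (hP d)

lemma N_sum {ι : Type*} (s : Finset ι) (f : ι → RelRing g) (hf : ∀ i ∈ s, N g (f i)) :
    N g (∑ i ∈ s, f i) := fun d => by
  rw [coeff_sum]; exact Finset.sum_nonneg fun i hi => hf i hi d

lemma N_X (v : Var g) : N g (X v) := fun d => by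
  classical
  rw [coeff_X]; split_ifs <;> norm_num

lemma N_one : N g 1 := fun d => by
  classical
  rw [coeff_one]; split_ifs <;> norm_num

lemma N_natCast (n : ℕ) : N g (n : RelRing g) := fun d => by
  classical
  rw [show (n : RelRing g) = C (n : ℚ) from (map_natCast C n).symm, coeff_C]
  split_ifs
  · exact Nat.cast_nonneg n
  · exact le_rfl

lemma N_pow (P : RelRing g) (hP : N g P) (n : ℕ) : N g (P ^ n) := by
  induction n with
  | zero => rw [pow_zero]; exact N_one g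
  | succ n ih => rw [pow_succ]; exact N_mul g _ _ ih hP

lemma N_pderiv (v : Var g) (P : RelRing g) (hP : N g P) : N g (pderiv v P) := fun d => by
  rw [coeff_pderiv]; exact mul_nonneg (hP _) (by positivity)

lemma N_dvD (p : ℕ × ℕ) (P : RelRing g) (hP : N g P) : N g (dvD g p P) := by
  unfold dvD
  split_ifs with h
  · exact N_pderiv g _ P hP
  · exact N_zero g

lemma N_xv (a b : ℤ) : N g (xv g a b) := by
  unfold xv
  split_ifs
  · exact N_natCast g _
  · exact N_X g _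
  · exact N_zero g

lemma N_sum_sub {ι : Type*} [DecidableEq ι] (s : Finset ι) (f : ι → RelRing g)
    (hf : ∀ i ∈ s, N g (f i)) (i₀ : ι) (hi₀ : i₀ ∈ s) : N g (∑ i ∈ s, f i - f i₀) := by
  rw [← Finset.add_sum_erase s f hi₀, add_sub_cancel_left]
  exact N_sum g _ _ fun i hi => hf i (Finset.mem_of_mem_erase hi)

/-! ### the sign twist -/

/-- images of the variables under the sign twist -/
noncomputable def tauVar : Var g → RelRing g
  | none => 0
  | some p => - X (some p)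

/-- the sign twist `y ↦ 0`, `x ↦ -x` -/
noncomputable def tau : RelRing g →ₐ[ℚ] RelRing g := MvPolynomial.aeval (tauVar g)

lemma tau_X (v : Var g) : tau g (X v) = tauVar g v := by simp [tau]

lemma tau_dvD_X (p : ℕ × ℕ) (w : Var g) :
    tau g (dvD g p (X w)) = - dvD g p (tau g (X w)) := by
  classical
  rcases w with _ | ⟨r, hr⟩
  · rw [dvD_X_none, tau_X]; simp [tauVar]
  · rw [dvD_X_some, tau_X]
    simp only [tauVar, map_neg, dvD_X_some, neg_neg]
    split_ifs <;> simp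

lemma tau_dvD (p : ℕ × ℕ) (P : RelRing g) : tau g (dvD g p P) = - dvD g p (tau g P) := by
  induction P using MvPolynomial.induction_on with
  | C a => simp [MvPolynomial.derivation_C, tau]
  | add P Q hP hQ => simp only [map_add, hP, hQ, neg_add]
  | mul_X P w hP =>
    simp only [Derivation.leibniz, map_add, map_mul, smul_eq_mul, hP, tau_dvD_X]
    ring

lemma tau_xv (a b : ℤ) (h : ¬ (a = 0 ∧ b = 0)) : tau g (xv g a b) = - xv g a b := by
  unfold xv
  rw [if_neg h]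
  split_ifs with h1
  · rw [tau_X]; rfl
  · simp

/-- polynomials not involving `x 2 0` -/
noncomputable abbrev B (hg : 1 ≤ g) : Subalgebra ℚ (RelRing g) :=
  supported ℚ {v : Var g | v ≠ some ⟨(2, 0), valid20 g hg⟩}

lemma vars_pderiv_subset (v : Var g) (Q : RelRing g) : (pderiv v Q).vars ⊆ Q.vars := by
  classical
  intro w hw
  rw [mem_vars_iff_mem_support] at hw ⊢
  obtain ⟨d, hd, hwd⟩ := hw
  refine ⟨d + Finsupp.single v 1, ?_, ?_⟩
  · rw [mem_support_iff] at hd ⊢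
    rw [coeff_pderiv] at hd
    exact left_ne_zero_of_mul hd
  · rw [Finsupp.mem_support_iff] at hwd ⊢
    rw [Finsupp.add_apply]
    omega

lemma dvD_of_not_valid (p : ℕ × ℕ) (hp : ¬ Valid g p) (Q : RelRing g) : dvD g p Q = 0 := by
  unfold dvD; rw [dif_neg hp]; rfl

lemma dvD20_of_mem (hg : 1 ≤ g) (Q : RelRing g) (hQ : Q ∈ B g hg) : dvD g (2, 0) Q = 0 := by
  unfold dvD
  rw [dif_pos (valid20 g hg)]
  apply pderiv_eq_zero_of_notMem_vars
  intro h
  exact (mem_supported.mp hQ) (Finset.mem_coe.mpr h) rfl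

lemma dvD_mem_B (hg : 1 ≤ g) (p : ℕ × ℕ) (Q : RelRing g) (hQ : Q ∈ B g hg) :
    dvD g p Q ∈ B g hg := by
  unfold dvD
  split_ifs with h
  · rw [mem_supported] at hQ ⊢
    exact (Finset.coe_subset.mpr (vars_pderiv_subset g _ Q)).trans hQ
  · have : (0 : Derivation ℚ (RelRing g) (RelRing g)) Q = 0 := rfl
    rw [this]; exact zero_mem _

lemma xv_mem_B (hg : 1 ≤ g) (a b : ℤ) (hb : b ≠ 0) : xv g a b ∈ B g hg := by
  unfold xv
  split_ifs with h0 h1
  · exact natCast_mem _ _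
  · rw [X_mem_supported]
    intro h
    have h' := congrArg Subtype.val (Option.some.inj h)
    have h'' := congrArg Prod.snd h'
    simp only at h''
    omega
  · exact zero_mem _

lemma snd_ne_zero (p : ℕ × ℕ) (hp : Valid g p) (h : p ≠ (2, 0)) : p.2 ≠ 0 := by
  obtain ⟨a, b⟩ := p
  obtain ⟨h1, h2, h3, h4⟩ := hp
  simp only at h1 h2 h3 h4
  intro hb
  simp only at hb
  subst hb
  have ha : a = 2 := by
    obtain ⟨r, hr⟩ := h3
    have : a ≠ 0 := fun h0 => h4 (by rw [h0])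
    omega
  exact h (by rw [ha])

lemma tau_cc (p q : ℕ × ℕ) (hp : p.2 ≠ 0) (hq : q.2 ≠ 0) :
    tau g (cc g p q) = (mergeCoeff p.1 q.1 : RelRing g)
      * xv g ((p.1 : ℤ) + q.1 - 2) ((p.2 : ℤ) + q.2) := by
  have hne : ¬ ((p.1 : ℤ) + q.1 - 2 = 0 ∧ (p.2 : ℤ) + q.2 = 0) := by rintro ⟨-, h⟩; omega
  simp only [cc, map_sub, map_mul, tau_X, tauVar, zero_mul, zero_sub, map_natCast,
    tau_xv g _ _ hne, mul_neg, neg_neg]

lemma term2_pos (hg : 1 ≤ g) (p q : ℕ × ℕ) (Q : RelRing g) (hN : N g Q) (hB : Q ∈ B g hg) :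
    N g (tau g (cc g p q) * dvD g p (dvD g q Q))
      ∧ tau g (cc g p q) * dvD g p (dvD g q Q) ∈ B g hg := by
  by_cases hq : Valid g q
  swap
  · rw [dvD_of_not_valid g q hq, map_zero, mul_zero]; exact ⟨N_zero g, zero_mem _⟩
  by_cases hp : Valid g p
  swap
  · rw [dvD_of_not_valid g p hp, mul_zero]; exact ⟨N_zero g, zero_mem _⟩
  by_cases hq2 : q = (2, 0)
  · rw [hq2, dvD20_of_mem g hg Q hB, map_zero, mul_zero]; exact ⟨N_zero g, zero_mem _⟩
  by_cases hp2 : p = (2, 0)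
  · rw [hp2, dvD20_of_mem g hg _ (dvD_mem_B g hg q Q hB), mul_zero]
    exact ⟨N_zero g, zero_mem _⟩
  have hq' := snd_ne_zero g q hq hq2
  have hp' := snd_ne_zero g p hp hp2
  rw [tau_cc g p q hp' hq']
  refine ⟨N_mul g _ _ (N_mul g _ _ (N_natCast g _) (N_xv g _ _))
    (N_dvD g _ _ (N_dvD g _ _ hN)), ?_⟩
  exact mul_mem (mul_mem (natCast_mem _ _) (xv_mem_B g hg _ _ (by omega)))
    (dvD_mem_B g hg p _ (dvD_mem_B g hg q Q hB))

lemma term1_pos (hg : 1 ≤ g) (p : ℕ × ℕ) (Q : RelRing g) (hN : N g Q) (hB : Q ∈ B g hg) :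
    N g (-(tau g (bb g p) * dvD g p Q)) ∧ -(tau g (bb g p) * dvD g p Q) ∈ B g hg := by
  by_cases hp : Valid g p
  swap
  · rw [dvD_of_not_valid g p hp, mul_zero, neg_zero]; exact ⟨N_zero g, zero_mem _⟩
  by_cases hp2 : p = (2, 0)
  · rw [hp2, dvD20_of_mem g hg Q hB, mul_zero, neg_zero]; exact ⟨N_zero g, zero_mem _⟩
  have hp' := snd_ne_zero g p hp hp2
  have hne : ¬ ((p.1 : ℤ) - 2 = 0 ∧ (p.2 : ℤ) = 0) := by rintro ⟨-, h⟩; omega
  have hbb : tau g (bb g p) = - xv g ((p.1 : ℤ) - 2) (p.2 : ℤ) := by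
    unfold bb; exact tau_xv g _ _ hne
  rw [hbb, neg_mul, neg_neg]
  exact ⟨N_mul g _ _ (N_xv g _ _) (N_dvD g p Q hN),
    mul_mem (xv_mem_B g hg _ _ (by omega)) (dvD_mem_B g hg p Q hB)⟩

/-- the twisted operator -/
noncomputable def Tt (P : RelRing g) : RelRing g :=
  (1 / 2 : ℚ) • (∑ x ∈ idx g ×ˢ idx g, tau g (cc g x.1 x.2) * dvD g x.1 (dvD g x.2 P))
    + ∑ p ∈ idx g, -(tau g (bb g p) * dvD g p P)

lemma tau_F (P : RelRing g) : tau g (F g P) = Tt g (tau g P) := by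
  rw [F_eq, Tt, Finset.sum_product]
  simp only [map_add, map_smul, map_sum, map_mul, tau_dvD, map_neg, neg_neg, mul_neg]

lemma Tt_sub (P Q : RelRing g) : Tt g (P - Q) = Tt g P - Tt g Q := by
  simp only [Tt, map_sub, mul_sub, neg_sub, Finset.sum_sub_distrib, Finset.sum_neg_distrib,
    smul_sub]
  abel

lemma Tt_smul (c : ℚ) (P : RelRing g) : Tt g (c • P) = c • Tt g P := by
  simp only [Tt, Derivation.map_smul, mul_smul_comm, ← smul_neg, ← Finset.smul_sum]
  module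

lemma Inv_Tt (hg : 1 ≤ g) (Q : RelRing g) (hN : N g Q) (hB : Q ∈ B g hg) :
    N g (Tt g Q) ∧ Tt g Q ∈ B g hg := by
  unfold Tt
  refine ⟨N_add g _ _ (N_smul g _ _ (by norm_num)
      (N_sum g _ _ fun x _ => (term2_pos g hg x.1 x.2 Q hN hB).1))
      (N_sum g _ _ fun p _ => (term1_pos g hg p Q hN hB).1), ?_⟩
  exact add_mem (Subalgebra.smul_mem _ (sum_mem fun x _ => (term2_pos g hg x.1 x.2 Q hN hB).2) _)
      (sum_mem fun p _ => (term1_pos g hg p Q hN hB).2)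

lemma merge_step (hg : 1 ≤ g) (Q : RelRing g) (hN : N g Q) (hB : Q ∈ B g hg)
    (p₀ q₀ : ℕ × ℕ) (hp₀ : p₀ ∈ idx g) (hq₀ : q₀ ∈ idx g) :
    N g (Tt g Q - (1 / 2 : ℚ) • (tau g (cc g p₀ q₀) * dvD g p₀ (dvD g q₀ Q))) := by
  classical
  unfold Tt
  have h1 := N_sum_sub g (idx g ×ˢ idx g)
    (fun x => tau g (cc g x.1 x.2) * dvD g x.1 (dvD g x.2 Q))
    (fun x _ => (term2_pos g hg x.1 x.2 Q hN hB).1) (p₀, q₀)
    (Finset.mem_product.mpr ⟨hp₀, hq₀⟩)
  have h2 := N_sum g (idx g) (fun p => -(tau g (bb g p) * dvD g p Q))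
    fun p _ => (term1_pos g hg p Q hN hB).1
  have h3 := N_add g _ _ (N_smul g (1 / 2) _ (by norm_num) h1) h2
  convert h3 using 1
  rw [smul_sub]; abel

lemma lower_step (hg : 1 ≤ g) (Q : RelRing g) (hN : N g Q) (hB : Q ∈ B g hg)
    (p₀ : ℕ × ℕ) (hp₀ : p₀ ∈ idx g) :
    N g (Tt g Q - (-(tau g (bb g p₀) * dvD g p₀ Q))) := by
  classical
  unfold Tt
  have h1 := N_sum_sub g (idx g) (fun p => -(tau g (bb g p) * dvD g p Q))
    (fun p _ => (term1_pos g hg p Q hN hB).1) p₀ hp₀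
  have h2 := N_sum g (idx g ×ˢ idx g)
    (fun x => tau g (cc g x.1 x.2) * dvD g x.1 (dvD g x.2 Q))
    (fun x _ => (term2_pos g hg x.1 x.2 Q hN hB).1)
  have h3 := N_add g _ _ (N_smul g (1 / 2) _ (by norm_num) h2) h1
  convert h3 using 1
  abel

/-! ### named variables -/

/-- the (virtual) variable at a pair of naturals -/
noncomputable def xn (a b : ℕ) : RelRing g := xv g (a : ℤ) (b : ℤ)

lemma xn_eq (a b : ℕ) (h : Valid g (a, b)) : xn g a b = X (some ⟨(a, b), h⟩) :=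
  xv_nat g (a, b) h

lemma dvD_xn (a b : ℕ) (h : Valid g (a, b)) : dvD g (a, b) (xn g a b) = 1 := by
  rw [xn_eq g a b h, dvD_X_some]; simp

lemma N_xn (a b : ℕ) : N g (xn g a b) := N_xv g _ _

lemma xn_mem_B (hg : 1 ≤ g) (a b : ℕ) (hb : b ≠ 0) : xn g a b ∈ B g hg :=
  xv_mem_B g hg _ _ (by exact_mod_cast hb)

lemma tau_xn (a b : ℕ) (hb : b ≠ 0) : tau g (xn g a b) = - xn g a b :=
  tau_xv g _ _ (by rintro ⟨-, h⟩; exact hb (by exact_mod_cast h))

lemma xn_invalid (a b : ℕ) (h : ¬ Valid g (a, b)) (h0 : (a, b) ≠ (0, 0)) : xn g a b = 0 := by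
  unfold xn xv
  have h1 : ¬ ((a : ℤ) = 0 ∧ (b : ℤ) = 0) := by
    rintro ⟨ha, hb⟩
    have ha' : a = 0 := by exact_mod_cast ha
    have hb' : b = 0 := by exact_mod_cast hb
    exact h0 (by rw [ha', hb'])
  rw [if_neg h1, dif_neg]
  rintro ⟨-, -, hv⟩
  simp only [Int.toNat_natCast] at hv
  exact h hv

lemma dvD_mul_ge (a b : ℕ) (h : Valid g (a, b)) (Q : RelRing g) (hQ : N g Q) :
    N g (dvD g (a, b) (xn g a b * Q) - Q) := by
  rw [Derivation.leibniz, dvD_xn g a b h, smul_eq_mul, smul_eq_mul, mul_one,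
    add_sub_cancel_right]
  exact N_mul g _ _ (N_xn g a b) (N_dvD g _ Q hQ)

lemma tau_cc_nat (a b a' b' : ℕ) (hb : b ≠ 0) (hb' : b' ≠ 0) (h2 : 2 ≤ a + a') :
    tau g (cc g (a, b) (a', b'))
      = (mergeCoeff a a' : RelRing g) * xn g (a + a' - 2) (b + b') := by
  rw [tau_cc g (a, b) (a', b') hb hb']
  show (mergeCoeff a a' : RelRing g) * xv g ((a : ℤ) + (a' : ℤ) - 2) ((b : ℤ) + (b' : ℤ)) = _
  have e1 : (a : ℤ) + (a' : ℤ) - 2 = ((a + a' - 2 : ℕ) : ℤ) := by omega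
  have e2 : (b : ℤ) + (b' : ℤ) = ((b + b' : ℕ) : ℤ) := by push_cast; ring
  unfold xn
  rw [e1, e2]

lemma natCast_mul_eq_smul (n : ℕ) (Z : RelRing g) : (n : RelRing g) * Z = (n : ℚ) • Z := by
  rw [Nat.cast_smul_eq_nsmul ℚ n Z, nsmul_eq_mul]

lemma merge_term (hg : 1 ≤ g) (t r : ℕ) (hr : 1 ≤ r) (hv : Valid g (t + 3, t + 1))
    (h31 : Valid g (3, 1)) :
    N g (tau g (cc g (3, 1) (t + 3, t + 1))
        * dvD g (3, 1) (dvD g (t + 3, t + 1) (xn g (t + 3) (t + 1) * xn g 3 1 ^ r))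
      - ((mergeCoeff 3 (t + 3) : ℚ) * (r : ℚ)) • (xn g (t + 4) (t + 2) * xn g 3 1 ^ (r - 1))) := by
  have hQ : N g (xn g 3 1 ^ r) := N_pow g _ (N_xn g 3 1) r
  have h1 := dvD_mul_ge g (t + 3) (t + 1) hv _ hQ
  have h2 : N g (dvD g (3, 1) (dvD g (t + 3, t + 1) (xn g (t + 3) (t + 1) * xn g 3 1 ^ r))
      - dvD g (3, 1) (xn g 3 1 ^ r)) := by
    rw [← map_sub]; exact N_dvD g _ _ h1
  have h3 : dvD g (3, 1) (xn g 3 1 ^ r) = (r : ℚ) • xn g 3 1 ^ (r - 1) := by
    rw [Derivation.leibniz_pow, dvD_xn g 3 1 h31, smul_eq_mul, mul_one, Nat.cast_smul_eq_nsmul]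
  have hC : tau g (cc g (3, 1) (t + 3, t + 1))
      = (mergeCoeff 3 (t + 3) : RelRing g) * xn g (t + 4) (t + 2) := by
    rw [tau_cc_nat g 3 1 (t + 3) (t + 1) (by norm_num) (by omega) (by omega)]
    have e1 : 3 + (t + 3) - 2 = t + 4 := by omega
    have e2 : 1 + (t + 1) = t + 2 := by omega
    rw [e1, e2]
  have hCN : N g (tau g (cc g (3, 1) (t + 3, t + 1))) := by
    rw [hC]; exact N_mul g _ _ (N_natCast g _) (N_xn g _ _)
  have h4 := N_mul g _ _ hCN h2
  rw [mul_sub, h3] at h4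
  convert h4 using 2
  rw [hC, natCast_mul_eq_smul, smul_mul_smul_comm]

lemma step1 (hg : 1 ≤ g) (t r : ℕ) (hr : 1 ≤ r) (hv : Valid g (t + 3, t + 1))
    (h31 : Valid g (3, 1)) (G : RelRing g) (hGN : N g G) (hGB : G ∈ B g hg) (c : ℚ) (hc : 0 < c)
    (h : N g (G - c • (xn g (t + 3) (t + 1) * xn g 3 1 ^ r))) :
    ∃ c' : ℚ, 0 < c' ∧ N g (Tt g G - c' • (xn g (t + 4) (t + 2) * xn g 3 1 ^ (r - 1))) := by
  have hmN : N g (xn g (t + 3) (t + 1) * xn g 3 1 ^ r) :=
    N_mul g _ _ (N_xn g _ _) (N_pow g _ (N_xn g _ _) r)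
  have hmB : xn g (t + 3) (t + 1) * xn g 3 1 ^ r ∈ B g hg :=
    mul_mem (xn_mem_B g hg _ _ (by omega)) (pow_mem (xn_mem_B g hg _ _ (by norm_num)) r)
  have hDB : G - c • (xn g (t + 3) (t + 1) * xn g 3 1 ^ r) ∈ B g hg :=
    sub_mem hGB (Subalgebra.smul_mem _ hmB c)
  have h1 := (Inv_Tt g hg _ h hDB).1
  rw [Tt_sub, Tt_smul] at h1
  have h2 := merge_step g hg _ hmN hmB (3, 1) (t + 3, t + 1) (mem_idx g _ h31) (mem_idx g _ hv)
  have h3 := merge_term g hg t r hr hv h31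
  have hmc : 0 < (mergeCoeff 3 (t + 3) : ℚ) := by
    have : 0 < mergeCoeff 3 (t + 3) := by
      unfold mergeCoeff
      rw [if_neg (by omega)]
      exact Nat.choose_pos (by omega)
    exact_mod_cast this
  have hr' : (0 : ℚ) < r := by exact_mod_cast hr
  refine ⟨c * (1 / 2) * ((mergeCoeff 3 (t + 3) : ℚ) * (r : ℚ)),
    mul_pos (mul_pos hc (by norm_num)) (mul_pos hmc hr'), ?_⟩
  have h5 := N_add g _ _ (N_add g _ _ h1 (N_smul g c _ hc.le h2))
    (N_smul g (c * (1 / 2)) _ (by positivity) h3)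
  convert h5 using 1
  module

lemma step2 (hg : 1 ≤ g) (u b : ℕ) (hb : b ≠ 0) (hv : Valid g (2 * u + 2, b))
    (G : RelRing g) (hGN : N g G) (hGB : G ∈ B g hg) (c : ℚ) (hc : 0 < c)
    (h : N g (G - c • xn g (2 * u + 2) b)) :
    N g (Tt g G - c • xn g (2 * u) b) := by
  have hmN : N g (xn g (2 * u + 2) b) := N_xn g _ _
  have hmB : xn g (2 * u + 2) b ∈ B g hg := xn_mem_B g hg _ _ hb
  have hDB : G - c • xn g (2 * u + 2) b ∈ B g hg := sub_mem hGB (Subalgebra.smul_mem _ hmB c)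
  have h1 := (Inv_Tt g hg _ h hDB).1
  rw [Tt_sub, Tt_smul] at h1
  have h2 := lower_step g hg _ hmN hmB (2 * u + 2, b) (mem_idx g _ hv)
  have h3 : -(tau g (bb g (2 * u + 2, b)) * dvD g (2 * u + 2, b) (xn g (2 * u + 2) b))
      = xn g (2 * u) b := by
    rw [dvD_xn g _ _ hv, mul_one]
    unfold bb
    have hne : ¬ ((((2 * u + 2, b) : ℕ × ℕ).1 : ℤ) - 2 = 0 ∧ (((2 * u + 2, b) : ℕ × ℕ).2 : ℤ) = 0) := by
      rintro ⟨-, h⟩; exact hb (by exact_mod_cast h)
    rw [tau_xv g _ _ hne, neg_neg]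
    show xv g (((2 * u + 2 : ℕ) : ℤ) - 2) ((b : ℕ) : ℤ) = xv g ((2 * u : ℕ) : ℤ) (b : ℤ)
    have e : ((2 * u + 2 : ℕ) : ℤ) - 2 = ((2 * u : ℕ) : ℤ) := by push_cast; ring
    rw [e]
  rw [h3] at h2
  have h5 := N_add g _ _ h1 (N_smul g c _ hc.le h2)
  convert h5 using 1
  module

lemma valid31 (i : ℕ) (hi : 1 ≤ i) (hig : i + 1 ≤ g) : Valid g (3, 1) := by
  refine ⟨?_, ?_, ⟨2, rfl⟩, ?_⟩
  · show 3 ≤ 1 + 2; norm_num
  · show 1 + 2 ≤ 2 * g; omega
  · intro h; have := congrArg Prod.fst h; simp at this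

lemma phase1 (hg : 1 ≤ g) (i : ℕ) (hi : 1 ≤ i) (hig : i + 1 ≤ g) (t : ℕ) (ht : t + 1 ≤ 2 * i) :
    ∃ c : ℚ, 0 < c ∧
      N g (tau g ((F g)^[t] (xn g 3 1 ^ (2 * i)))
        - c • (xn g (t + 3) (t + 1) * xn g 3 1 ^ (2 * i - 1 - t)))
      ∧ N g (tau g ((F g)^[t] (xn g 3 1 ^ (2 * i))))
      ∧ tau g ((F g)^[t] (xn g 3 1 ^ (2 * i))) ∈ B g hg := by
  have h31 : Valid g (3, 1) := valid31 g i hi hig
  induction t with
  | zero =>
    simp only [Function.iterate_zero, id_eq, zero_add, Nat.sub_zero]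
    have e0 : tau g (xn g 3 1 ^ (2 * i)) = xn g 3 1 ^ (2 * i) := by
      rw [map_pow, tau_xn g 3 1 (by norm_num), Even.neg_pow ⟨i, by ring⟩]
    have e1 : xn g 3 1 * xn g 3 1 ^ (2 * i - 1) = xn g 3 1 ^ (2 * i) := by
      rw [← pow_succ']; congr 1; omega
    rw [e0]
    refine ⟨1, one_pos, ?_, N_pow g _ (N_xn g _ _) _, pow_mem (xn_mem_B g hg _ _ (by norm_num)) _⟩
    rw [e1, one_smul, sub_self]; exact N_zero g
  | succ t ih =>
    obtain ⟨c, hc, h1, h2, h3⟩ := ih (by omega)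
    have hv : Valid g (t + 3, t + 1) := by
      refine ⟨?_, ?_, ⟨t + 2, ?_⟩, ?_⟩
      · show t + 3 ≤ t + 1 + 2; omega
      · show t + 1 + 2 ≤ 2 * g; omega
      · show t + 3 + (t + 1) = t + 2 + (t + 2); ring
      · intro h; have := congrArg Prod.fst h; simp at this
    obtain ⟨c', hc', h4⟩ := step1 g hg t (2 * i - 1 - t) (by omega) hv h31 _ h2 h3 c hc h1
    have e : tau g ((F g)^[t + 1] (xn g 3 1 ^ (2 * i)))
        = Tt g (tau g ((F g)^[t] (xn g 3 1 ^ (2 * i)))) := by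
      rw [Function.iterate_succ_apply', tau_F]
    have hI := Inv_Tt g hg _ h2 h3
    refine ⟨c', hc', ?_, ?_, ?_⟩
    · rw [e]
      have e1 : t + 1 + 3 = t + 4 := by omega
      have e2 : t + 1 + 1 = t + 2 := by omega
      have e3 : 2 * i - 1 - (t + 1) = 2 * i - 1 - t - 1 := by omega
      rw [e1, e2, e3]; exact h4
    · rw [e]; exact hI.1
    · rw [e]; exact hI.2

lemma phase2 (hg : 1 ≤ g) (i : ℕ) (hi : 1 ≤ i) (hig : i + 1 ≤ g) (s : ℕ) :
    ∀ u : ℕ, s + u = i + 1 → ∃ c : ℚ, 0 < c ∧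
      N g (tau g ((F g)^[2 * i - 1 + s] (xn g 3 1 ^ (2 * i))) - c • xn g (2 * u) (2 * i))
      ∧ N g (tau g ((F g)^[2 * i - 1 + s] (xn g 3 1 ^ (2 * i))))
      ∧ tau g ((F g)^[2 * i - 1 + s] (xn g 3 1 ^ (2 * i))) ∈ B g hg := by
  induction s with
  | zero =>
    intro u hsu
    obtain ⟨c, hc, h1, h2, h3⟩ := phase1 g hg i hi hig (2 * i - 1) (by omega)
    have hu : u = i + 1 := by omega
    subst hu
    have e1 : 2 * i - 1 + 3 = 2 * (i + 1) := by omega
    have e2 : 2 * i - 1 + 1 = 2 * i := by omega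
    have e3 : 2 * i - 1 - (2 * i - 1) = 0 := by omega
    rw [e1, e2, e3, pow_zero, mul_one] at h1
    rw [add_zero]
    exact ⟨c, hc, h1, h2, h3⟩
  | succ s ih =>
    intro u hsu
    obtain ⟨c, hc, h1, h2, h3⟩ := ih (u + 1) (by omega)
    have hv : Valid g (2 * u + 2, 2 * i) := by
      refine ⟨?_, ?_, ⟨u + 1 + i, ?_⟩, ?_⟩
      · show 2 * u + 2 ≤ 2 * i + 2; omega
      · show 2 * i + 2 ≤ 2 * g; omega
      · show 2 * u + 2 + 2 * i = u + 1 + i + (u + 1 + i); ring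
      · intro h; have := congrArg Prod.fst h; simp at this
    have h1' : N g (tau g ((F g)^[2 * i - 1 + s] (xn g 3 1 ^ (2 * i)))
        - c • xn g (2 * u + 2) (2 * i)) := by
      have : 2 * (u + 1) = 2 * u + 2 := by ring
      rw [this] at h1; exact h1
    have h4 := step2 g hg u (2 * i) (by omega) hv _ h2 h3 c hc h1'
    have e : tau g ((F g)^[2 * i - 1 + (s + 1)] (xn g 3 1 ^ (2 * i)))
        = Tt g (tau g ((F g)^[2 * i - 1 + s] (xn g 3 1 ^ (2 * i)))) := by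
      rw [← add_assoc, Function.iterate_succ_apply', tau_F]
    have hI := Inv_Tt g hg _ h2 h3
    exact ⟨c, hc, by rw [e]; exact h4, by rw [e]; exact hI.1, by rw [e]; exact hI.2⟩

lemma coeff_pos (hg : 1 ≤ g) (i : ℕ) (hi : 1 ≤ i) (hig : i + 1 ≤ g)
    (hv0 : Valid g (0, 2 * i)) :
    0 < coeff (Finsupp.single (some ⟨(0, 2 * i), hv0⟩ : Var g) 1)
      (tau g ((F g)^[3 * i] (xn g 3 1 ^ (2 * i)))) := by
  obtain ⟨c, hc, h1, -, -⟩ := phase2 g hg i hi hig (i + 1) 0 (by omega)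
  have e : 2 * i - 1 + (i + 1) = 3 * i := by omega
  rw [e] at h1
  have h2 := h1 (Finsupp.single (some ⟨(0, 2 * i), hv0⟩ : Var g) 1)
  rw [coeff_sub, coeff_smul, smul_eq_mul] at h2
  have h3 : xn g (2 * 0) (2 * i) = X (some ⟨(0, 2 * i), hv0⟩) := xn_eq g 0 (2 * i) hv0
  rw [h3, coeff_X_same, mul_one] at h2
  linarith

/-! ### support analysis -/

lemma wt_pos (w : Var g) : 1 ≤ (wt g w).1 + (wt g w).2 := by
  rcases w with _ | ⟨⟨a, b⟩, h⟩
  · show 1 ≤ 0 + 2; norm_num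
  · show 1 ≤ a + b
    by_contra hlt
    have ha : a = 0 := by omega
    have hb : b = 0 := by omega
    exact h.2.2.2 (by rw [ha, hb])

lemma term_le (d : Var g →₀ ℕ) (v : Var g) :
    d v * (wt g v).1 ≤ (Finsupp.weight (wt g) d).1
      ∧ d v * (wt g v).2 ≤ (Finsupp.weight (wt g) d).2 := by
  obtain ⟨e, he⟩ := exists_factor g v d (d v) le_rfl
  have h1 : Finsupp.weight (wt g) d = d v • wt g v + Finsupp.weight (wt g) e := by
    conv_lhs => rw [he]
    rw [map_add, Finsupp.weight_single]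
  rw [h1]
  simp only [Prod.fst_add, Prod.snd_add, Prod.smul_fst, Prod.smul_snd, smul_eq_mul]
  constructor <;> omega

lemma eq_zero_of_weight (e : Var g →₀ ℕ) (h : Finsupp.weight (wt g) e = (0, 0)) : e = 0 := by
  ext w
  have h1 := term_le g e w
  rw [h] at h1
  have h2 : e w * (wt g w).1 = 0 := Nat.le_zero.mp h1.1
  have h3 : e w * (wt g w).2 = 0 := Nat.le_zero.mp h1.2
  have hw := wt_pos g w
  rcases Nat.mul_eq_zero.mp h2 with h4 | h4
  · simpa using h4
  · rcases Nat.mul_eq_zero.mp h3 with h5 | h5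
    · simpa using h5
    · omega

/-- the lower variables -/
def Slt (i : ℕ) : Set (Var g) :=
  {v | v = none ∨ ∃ j : ℕ, 1 ≤ j ∧ j < i ∧ ∃ h : Valid g (0, 2 * j), v = some ⟨(0, 2 * j), h⟩}

lemma weight_m0 (i : ℕ) (h31 : Valid g (3, 1)) :
    Finsupp.weight (wt g) (Finsupp.single (some ⟨(3, 1), h31⟩ : Var g) (2 * i))
      = (6 * i, 2 * i) := by
  rw [Finsupp.weight_single]
  show (2 * i) • ((3, 1) : ℕ × ℕ) = _
  refine Prod.ext ?_ ?_ <;> simp only [Prod.smul_fst, Prod.smul_snd, smul_eq_mul] <;> ring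

lemma supp_weight (i : ℕ) (h31 : Valid g (3, 1)) (d : Var g →₀ ℕ)
    (hd : coeff d ((F g)^[3 * i]
      (monomial (Finsupp.single (some ⟨(3, 1), h31⟩ : Var g) (2 * i)) (1 : ℚ))) ≠ 0) :
    Finsupp.weight (wt g) d = (0, 2 * i) := by
  have hD1 := D1_iter g _ _
    (D1_monomial g (Finsupp.single (some ⟨(3, 1), h31⟩ : Var g) (2 * i)) 1) (3 * i)
  have hD2 := D2_iter g _ _
    (D2_monomial g (Finsupp.single (some ⟨(3, 1), h31⟩ : Var g) (2 * i)) 1) (3 * i)
  rw [weight_m0 g i h31] at hD1 hD2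
  have c1 := congrArg (coeff d) hD1
  have c2 := congrArg (coeff d) hD2
  rw [coeff_D1, coeff_smul, smul_eq_mul] at c1
  rw [coeff_D2, coeff_smul, smul_eq_mul] at c2
  have f1 := mul_right_cancel₀ hd c1
  have f2 := mul_right_cancel₀ hd c2
  refine Prod.ext ?_ ?_
  · show (Finsupp.weight (wt g) d).1 = 0
    have : ((Finsupp.weight (wt g) d).1 : ℚ) = 0 := by rw [f1]; push_cast; ring
    exact_mod_cast this
  · show (Finsupp.weight (wt g) d).2 = 2 * i
    exact_mod_cast f2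

lemma decomp (i : ℕ) (hi : 1 ≤ i) (h31 : Valid g (3, 1)) (hv0 : Valid g (0, 2 * i)) :
    (F g)^[3 * i] (monomial (Finsupp.single (some ⟨(3, 1), h31⟩ : Var g) (2 * i)) (1 : ℚ))
      - (coeff (Finsupp.single (some ⟨(0, 2 * i), hv0⟩ : Var g) 1)
          ((F g)^[3 * i] (monomial (Finsupp.single (some ⟨(3, 1), h31⟩ : Var g) (2 * i)) (1 : ℚ))))
        • (X (some ⟨(0, 2 * i), hv0⟩) : RelRing g) ∈ supported ℚ (Slt g i) := by
  classical
  rw [mem_supported]
  intro v hv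
  rw [Finset.mem_coe, mem_vars_iff_mem_support] at hv
  obtain ⟨d, hd, hvd⟩ := hv
  rw [mem_support_iff, coeff_sub, coeff_smul, smul_eq_mul, coeff_X] at hd
  have hdne : d ≠ Finsupp.single (some ⟨(0, 2 * i), hv0⟩ : Var g) 1 := by
    intro h
    rw [h] at hd; simp at hd
  rw [if_neg (Ne.symm hdne), mul_zero, sub_zero] at hd
  have hw := supp_weight g i h31 d hd
  have hvpos : 1 ≤ d v := Nat.one_le_iff_ne_zero.mpr (Finsupp.mem_support_iff.mp hvd)
  have hb := term_le g d v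
  rw [hw] at hb
  rcases v with _ | ⟨⟨a, b⟩, hab⟩
  · exact Or.inl rfl
  · right
    have h10 : d (some ⟨(a, b), hab⟩) * a = 0 := Nat.le_zero.mp hb.1
    have ha : a = 0 := by
      rcases Nat.mul_eq_zero.mp h10 with h | h
      · omega
      · exact h
    subst ha
    obtain ⟨r, hr⟩ := hab.2.2.1
    have hb2 : b = 2 * r := by
      have : (0 : ℕ) + b = r + r := hr
      omega
    subst hb2
    have hr1 : 1 ≤ r := by
      by_contra hlt
      have h0 : r = 0 := by omega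
      subst h0
      exact hab.2.2.2 rfl
    have hle : d (some ⟨(0, 2 * r), hab⟩) * (2 * r) ≤ 2 * i := hb.2
    have h5 : 1 * (2 * r) ≤ d (some ⟨(0, 2 * r), hab⟩) * (2 * r) := Nat.mul_le_mul_right _ hvpos
    have hri : r ≤ i := by omega
    refine ⟨r, hr1, ?_, hab, rfl⟩
    rcases Nat.lt_or_ge r i with hlt | hge
    · exact hlt
    · exfalso
      have hri' : i = r := le_antisymm hge hri
      subst hri'
      apply hdne
      obtain ⟨e, he⟩ := exists_factor g (some ⟨(0, 2 * i), hab⟩) d 1 hvpos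
      have hwe : Finsupp.weight (wt g) e = (0, 0) := by
        have h6 := hw
        rw [he, map_add, Finsupp.weight_single] at h6
        have h7 : wt g (some ⟨(0, 2 * i), hab⟩) = (0, 2 * i) := rfl
        rw [h7] at h6
        have h8 := congrArg Prod.fst h6
        have h9 := congrArg Prod.snd h6
        simp only [Prod.fst_add, Prod.snd_add, Prod.smul_fst, Prod.smul_snd, smul_eq_mul] at h8 h9
        refine Prod.ext ?_ ?_
        · show (Finsupp.weight (wt g) e).1 = 0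
          omega
        · show (Finsupp.weight (wt g) e).2 = 0
          omega
      rw [he, eq_zero_of_weight g e hwe, add_zero]

lemma tau_supported (s : Set (Var g)) (P : RelRing g) (hP : P ∈ supported ℚ s) :
    tau g P ∈ supported ℚ s := by
  rw [supported_eq_adjoin_X] at hP ⊢
  refine Algebra.adjoin_induction (p := fun x _ => tau g x ∈ Algebra.adjoin ℚ (X '' s))
    ?_ ?_ ?_ ?_ hP
  · rintro _ ⟨v, hv, rfl⟩
    rw [tau_X]
    rcases v with _ | p
    · show (0 : RelRing g) ∈ _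
      exact zero_mem _
    · show - (X (some p) : RelRing g) ∈ _
      exact neg_mem (Algebra.subset_adjoin ⟨_, hv, rfl⟩)
  · intro r; rw [AlgHom.commutes]; exact Subalgebra.algebraMap_mem _ r
  · intro x y _ _ hx hy; rw [map_add]; exact add_mem hx hy
  · intro x y _ _ hx hy; rw [map_mul]; exact mul_mem hx hy

lemma coeff_single_eq_zero (s : Set (Var g)) (P : RelRing g) (hP : P ∈ supported ℚ s)
    (v : Var g) (hv : v ∉ s) : coeff (Finsupp.single v 1) P = 0 := by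
  by_contra h
  rw [mem_supported] at hP
  apply hv
  apply hP
  rw [Finset.mem_coe, mem_vars_iff_mem_support]
  exact ⟨Finsupp.single v 1, mem_support_iff.mpr h, by simp⟩

lemma rel_decomp (hg : 1 ≤ g) (i : ℕ) (hi : 1 ≤ i) (hv0 : Valid g (0, 2 * i)) (h3 : g < 3 * i) :
    ∃ κ : ℚ, κ ≠ 0 ∧ ∃ ρ ∈ relIdeal g,
      ρ - κ • (X (some ⟨(0, 2 * i), hv0⟩) : RelRing g) ∈ supported ℚ (Slt g i) := by
  have hig : i + 1 ≤ g := by
    have := hv0.2.1
    have h' : 2 * i + 2 ≤ 2 * g := this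
    omega
  have h31 : Valid g (3, 1) := valid31 g i hi hig
  have hmono : (monomial (Finsupp.single (some ⟨(3, 1), h31⟩ : Var g) (2 * i)) (1 : ℚ) : RelRing g)
      = xn g 3 1 ^ (2 * i) := by
    rw [xn_eq g 3 1 h31, X_pow_eq_monomial]
  have hdec := decomp g i hi h31 hv0
  refine ⟨_, ?_, _, ?_, hdec⟩
  · intro hκ
    rw [hκ, zero_smul, sub_zero] at hdec
    have h5 := tau_supported g _ _ hdec
    have hv₀ : (some ⟨(0, 2 * i), hv0⟩ : Var g) ∉ Slt g i := by
      rintro (h | ⟨j, hj1, hji, h, he⟩)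
      · cases h
      · have h1 := congrArg Subtype.val (Option.some.inj he)
        have h2 := congrArg Prod.snd h1
        simp only at h2
        omega
    have h6 := coeff_single_eq_zero g _ _ h5 _ hv₀
    have hpos := coeff_pos g hg i hi hig hv0
    rw [← hmono] at hpos
    rw [h6] at hpos
    exact lt_irrefl _ hpos
  · refine Ideal.subset_span ⟨_, 3 * i, ?_, rfl⟩
    rw [weight_m0 g i h31]
    show 2 * g < 6 * i
    omega

theorem main (hg : 1 ≤ g) (i : ℕ) :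
    ∃ q ∈ Algebra.adjoin ℚ (lowGens g), xv g 0 (2 * (i : ℤ)) - q ∈ relIdeal g := by
  classical
  obtain ⟨T, hT⟩ : ∃ T : Subalgebra ℚ (RelRing g), ∀ P, P ∈ T ↔
      ∃ q ∈ Algebra.adjoin ℚ (lowGens g), P - q ∈ relIdeal g := by
    refine ⟨((Algebra.adjoin ℚ (lowGens g)).map (Ideal.Quotient.mkₐ ℚ (relIdeal g))).comap
      (Ideal.Quotient.mkₐ ℚ (relIdeal g)), fun P => ?_⟩
    rw [Subalgebra.mem_comap, Subalgebra.mem_map]
    constructor
    · rintro ⟨q, hq, hqP⟩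
      refine ⟨q, hq, ?_⟩
      have : (Ideal.Quotient.mk (relIdeal g)) P = (Ideal.Quotient.mk (relIdeal g)) q := hqP.symm
      exact Ideal.Quotient.eq.mp this
    · rintro ⟨q, hq, h⟩
      exact ⟨q, hq, (Ideal.Quotient.eq.mpr h).symm⟩
  have hLT : ∀ q ∈ Algebra.adjoin ℚ (lowGens g), q ∈ T :=
    fun q hq => (hT q).mpr ⟨q, hq, by simp⟩
  have hIT : ∀ ρ ∈ relIdeal g, ρ ∈ T :=
    fun ρ hρ => (hT ρ).mpr ⟨0, zero_mem _, by simpa using hρ⟩
  suffices h : ∀ i : ℕ, xn g 0 (2 * i) ∈ T by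
    have e : xv g 0 (2 * (i : ℤ)) = xn g 0 (2 * i) := by
      unfold xn; simp only [Nat.cast_zero, Nat.cast_mul, Nat.cast_ofNat]
    rw [e]; exact (hT _).mp (h i)
  intro i
  induction i using Nat.strong_induction_on with
  | _ i ih =>
    rcases Nat.eq_zero_or_pos i with rfl | hi
    · have : xn g 0 (2 * 0) = (g : RelRing g) := by
        unfold xn xv; simp
      rw [this]; exact natCast_mem T g
    by_cases hv0 : Valid g (0, 2 * i)
    swap
    · have : xn g 0 (2 * i) = 0 := xn_invalid g 0 (2 * i) hv0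
        (by intro h; have := congrArg Prod.snd h; simp at this; omega)
      rw [this]; exact zero_mem _
    by_cases h3 : 3 * i ≤ g
    · apply hLT
      apply Algebra.subset_adjoin
      refine Set.mem_union_right _ ⟨i, hi, h3, ?_⟩
      unfold xn; simp only [Nat.cast_zero, Nat.cast_mul, Nat.cast_ofNat]
    · obtain ⟨κ, hκ, ρ, hρ, hdec⟩ := rel_decomp g hg i hi hv0 (by omega)
      have hsub : supported ℚ (Slt g i) ≤ T := by
        rw [supported_eq_adjoin_X]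
        apply Algebra.adjoin_le
        rintro _ ⟨v, hv, rfl⟩
        rcases hv with rfl | ⟨j, hj1, hji, h, rfl⟩
        · exact hLT _ (Algebra.subset_adjoin (Set.mem_union_left _ rfl))
        · rw [← xn_eq g 0 (2 * j) h]; exact ih j hji
      have h1 : κ • (X (some ⟨(0, 2 * i), hv0⟩) : RelRing g) ∈ T := by
        have := sub_mem (hIT ρ hρ) (hsub hdec)
        simpa using this
      have h2 := Subalgebra.smul_mem T h1 κ⁻¹
      rw [smul_smul, inv_mul_cancel₀ hκ, one_smul] at h2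
      rw [xn_eq g 0 (2 * i) hv0]; exact h2

end Groth.Agent.Lib.Helper21.RJq
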