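import Mathlib
import Groth.Prelude.Def_W4c4chowquasisplitPn

set_option autoImplicit false
set_option linter.style.haveILetI false
set_option linter.unusedSectionVars false
set_option linter.unusedVariables false
set_option linter.unusedSimpArgs false

/-! The truncated algebra `P n` over the field with two elements: decomposition
`P = S + S ε₂` for any subalgebra `S` containing the invariant generators, annihilator of `ε₁`,
and consequences for the involution `τ`. -/

namespace Groth.Agent.Lib.Helper21.RJr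

open MvPolynomial QsChow

theorem add_self' (n : ℕ) (x : P n) : x + x = 0 := by
  have h : (2 : ZMod 2) = 0 := by decide
  rw [← two_smul (ZMod 2) x, h, zero_smul]

theorem eps_succ (n : ℕ) (i : Fin (numVars n)) :
    eps n (i.val + 1) = Ideal.Quotient.mk (truncIdeal n) (X i) := by
  have h : 0 < i.val + 1 ∧ i.val + 1 ≤ numVars n := ⟨Nat.succ_pos _, i.isLt⟩
  unfold eps
  rw [dif_pos h]
  simp only [Nat.add_sub_cancel, Fin.eta]

theorem eps_of_val (n : ℕ) (i : Fin (numVars n)) (j : ℕ) (hj : i.val + 1 = j) :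
    eps n j = Ideal.Quotient.mk (truncIdeal n) (X i) := by
  rw [← hj]; exact eps_succ n i

theorem truncIdeal_eq (n : ℕ) : truncIdeal n = Ideal.span ((fun s => monomial s (1 : ZMod 2)) ''
    (Set.range fun i : Fin (numVars n) => Finsupp.single i (bound n i))) := by
  have h : (fun i : Fin (numVars n) => (X i : FreeP n) ^ bound n i) =
      (fun s => monomial s (1 : ZMod 2)) ∘
        (fun i : Fin (numVars n) => Finsupp.single i (bound n i)) := by
    funext i
    simp only [Function.comp_apply]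
    exact X_pow_eq_monomial
  unfold truncIdeal
  rw [h, Set.range_comp]

theorem eps1_pow (n : ℕ) : eps n 1 ^ n = 0 := by
  have hi0 : 0 < numVars n := by unfold numVars; omega
  obtain ⟨i0, hi0v⟩ : ∃ i0 : Fin (numVars n), i0.val = 0 := ⟨⟨0, hi0⟩, rfl⟩
  rw [eps_of_val n i0 1 (by omega), ← map_pow, Ideal.Quotient.eq_zero_iff_mem]
  apply Ideal.subset_span
  refine ⟨i0, ?_⟩
  simp only [bound, if_pos hi0v]

theorem ann_eps1 (n : ℕ) (hn : 1 ≤ n) (b : P n) (hb : b * eps n 1 = 0) :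
    ∃ w : P n, b = eps n 1 ^ (n - 1) * w := by
  classical
  obtain ⟨p, rfl⟩ := Ideal.Quotient.mk_surjective b
  have hi0 : 0 < numVars n := by unfold numVars; omega
  obtain ⟨i0, hi0v⟩ : ∃ i0 : Fin (numVars n), i0.val = 0 := ⟨⟨0, hi0⟩, rfl⟩
  have he1 : eps n 1 = Ideal.Quotient.mk (truncIdeal n) (X i0) := eps_of_val n i0 1 (by omega)
  rw [he1, ← map_mul, Ideal.Quotient.eq_zero_iff_mem, truncIdeal_eq,
    mem_ideal_span_monomial_image] at hb
  have hp : p ∈ Ideal.span ((fun s => monomial s (1 : ZMod 2)) ''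
      ((Set.range fun i : Fin (numVars n) => Finsupp.single i (bound n i)) ∪
        {Finsupp.single i0 (n - 1)})) := by
    rw [mem_ideal_span_monomial_image]
    intro m hm
    have hm' : m + Finsupp.single i0 1 ∈ (p * X i0).support := by
      rw [mem_support_iff, coeff_mul_X]
      exact mem_support_iff.mp hm
    obtain ⟨si, ⟨i, rfl⟩, hle⟩ := hb _ hm'
    rw [Finsupp.single_le_iff, Finsupp.add_apply] at hle
    by_cases hi : i = i0
    · subst hi
      refine ⟨Finsupp.single i (n - 1), Or.inr rfl, ?_⟩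
      rw [Finsupp.single_le_iff]
      rw [Finsupp.single_eq_same] at hle
      have hbd : bound n i = n := by simp only [bound, if_pos hi0v]
      rw [hbd] at hle
      omega
    · refine ⟨Finsupp.single i (bound n i), Or.inl ⟨i, rfl⟩, ?_⟩
      rw [Finsupp.single_le_iff]
      rw [Finsupp.single_eq_of_ne hi, add_zero] at hle
      exact hle
  rw [Set.image_union, Ideal.span_union, Set.image_singleton, ← truncIdeal_eq] at hp
  obtain ⟨t, ht, u, hu, rfl⟩ := Submodule.mem_sup.mp hp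
  obtain ⟨q, rfl⟩ := Ideal.mem_span_singleton'.mp hu
  refine ⟨Ideal.Quotient.mk _ q, ?_⟩
  rw [map_add, Ideal.Quotient.eq_zero_iff_mem.mpr ht, zero_add, map_mul, he1, ← map_pow,
    X_pow_eq_monomial, mul_comm]

/-- decomposition `P = S + S ε₂` for a subalgebra containing the invariant generators -/
theorem dec_all (n : ℕ) (hn : 2 ≤ n) (S : Subalgebra (ZMod 2) (P n))
    (h1 : eps n 1 ∈ S) (h2 : eps n 2 ^ 2 + eps n 1 * eps n 2 ∈ S)
    (h3 : ∀ j : ℕ, 3 ≤ j → j ≤ numVars n → eps n j + eps n 1 ^ (2 * j - 4) * eps n 2 ∈ S)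
    (y : P n) : ∃ a ∈ S, ∃ b ∈ S, y = a + b * eps n 2 := by
  have hmul : ∀ y y' : P n, (∃ a ∈ S, ∃ b ∈ S, y = a + b * eps n 2) →
      (∃ a ∈ S, ∃ b ∈ S, y' = a + b * eps n 2) →
      ∃ a ∈ S, ∃ b ∈ S, y * y' = a + b * eps n 2 := by
    rintro _ _ ⟨a, ha, b, hb, rfl⟩ ⟨a', ha', b', hb', rfl⟩
    refine ⟨a * a' + b * b' * (eps n 2 ^ 2 + eps n 1 * eps n 2),
      S.add_mem (S.mul_mem ha ha') (S.mul_mem (S.mul_mem hb hb') h2),
      a * b' + a' * b + b * b' * eps n 1,
      S.add_mem (S.add_mem (S.mul_mem ha hb') (S.mul_mem ha' hb))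
        (S.mul_mem (S.mul_mem hb hb') h1), ?_⟩
    have h : (a + b * eps n 2) * (a' + b' * eps n 2) +
        (b * b' * eps n 1 * eps n 2 + b * b' * eps n 1 * eps n 2) =
        a * a' + b * b' * (eps n 2 ^ 2 + eps n 1 * eps n 2) +
          (a * b' + a' * b + b * b' * eps n 1) * eps n 2 := by ring
    rw [add_self', add_zero] at h
    exact h
  have hgen : ∀ i : Fin (numVars n), ∃ a ∈ S, ∃ b ∈ S,
      Ideal.Quotient.mk (truncIdeal n) (X i) = a + b * eps n 2 := by
    intro i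
    rw [← eps_succ]
    by_cases h0 : i.val = 0
    · have e : i.val + 1 = 1 := by omega
      rw [e]
      exact ⟨eps n 1, h1, 0, S.zero_mem, by rw [zero_mul, add_zero]⟩
    · by_cases h1' : i.val = 1
      · have e : i.val + 1 = 2 := by omega
        rw [e]
        exact ⟨0, S.zero_mem, 1, S.one_mem, by rw [one_mul, zero_add]⟩
      · have hj3 : 3 ≤ i.val + 1 := by omega
        have hjs : i.val + 1 ≤ numVars n := i.isLt
        refine ⟨_, h3 _ hj3 hjs, eps n 1 ^ (2 * (i.val + 1) - 4), S.pow_mem h1 _, ?_⟩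
        rw [add_assoc, add_self', add_zero]
  obtain ⟨p, rfl⟩ := Ideal.Quotient.mk_surjective y
  induction p using MvPolynomial.induction_on with
  | C c =>
    refine ⟨Ideal.Quotient.mk (truncIdeal n) (C c), ?_, 0, S.zero_mem, by rw [zero_mul, add_zero]⟩
    exact S.algebraMap_mem c
  | add p q hp hq =>
    obtain ⟨a, ha, b, hb, hab⟩ := hp
    obtain ⟨a', ha', b', hb', hab'⟩ := hq
    refine ⟨a + a', S.add_mem ha ha', b + b', S.add_mem hb hb', ?_⟩
    rw [map_add, hab, hab']; ring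
  | mul_X p i hp =>
    rw [map_mul]
    exact hmul _ _ hp (hgen i)

section Tau

variable {n : ℕ} (hn : 2 ≤ n) (τ : P n →ₐ[ZMod 2] P n) (hτ1 : τ (eps n 1) = eps n 1)
  (hτ : ∀ j : ℕ, 2 ≤ j → j ≤ numVars n → τ (eps n j) = eps n j + eps n 1 ^ (2 * j - 3))
include hn hτ1 hτ

theorem tau_eps2 : τ (eps n 2) = eps n 2 + eps n 1 := by
  have h := hτ 2 le_rfl (by unfold numVars; omega)
  rw [show 2 * 2 - 3 = 1 from rfl, pow_one] at h
  exact h

theorem tau_e2bar :
    τ (eps n 2 ^ 2 + eps n 1 * eps n 2) = eps n 2 ^ 2 + eps n 1 * eps n 2 := by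
  rw [map_add, map_pow, map_mul, tau_eps2 hn τ hτ1 hτ, hτ1]
  have h : (eps n 2 + eps n 1) ^ 2 + eps n 1 * (eps n 2 + eps n 1) =
      eps n 2 ^ 2 + eps n 1 * eps n 2 +
        ((eps n 1 * eps n 2 + eps n 1 ^ 2) + (eps n 1 * eps n 2 + eps n 1 ^ 2)) := by ring
  rw [h, add_self', add_zero]

theorem tau_ejbar (j : ℕ) (hj : 3 ≤ j) (hjs : j ≤ numVars n) :
    τ (eps n j + eps n 1 ^ (2 * j - 4) * eps n 2) =
      eps n j + eps n 1 ^ (2 * j - 4) * eps n 2 := by
  rw [map_add, map_mul, map_pow, hτ j (by omega) hjs, hτ1, tau_eps2 hn τ hτ1 hτ]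
  have hp : eps n 1 ^ (2 * j - 3) = eps n 1 ^ (2 * j - 4) * eps n 1 := by
    rw [← pow_succ]; congr 1; omega
  rw [hp]
  have h : eps n j + eps n 1 ^ (2 * j - 4) * eps n 1 +
      eps n 1 ^ (2 * j - 4) * (eps n 2 + eps n 1) =
      eps n j + eps n 1 ^ (2 * j - 4) * eps n 2 +
        (eps n 1 ^ (2 * j - 4) * eps n 1 + eps n 1 ^ (2 * j - 4) * eps n 1) := by ring
  rw [h, add_self', add_zero]

theorem tau_xbar :
    τ (eps n 1 ^ (n - 1) * eps n 2) = eps n 1 ^ (n - 1) * eps n 2 := by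
  rw [map_mul, map_pow, hτ1, tau_eps2 hn τ hτ1 hτ, mul_add, ← pow_succ,
    Nat.sub_add_cancel (by omega : 1 ≤ n), eps1_pow, add_zero]

theorem mem_fix_iff (x : P n) :
    x ∈ AlgHom.equalizer τ (AlgHom.id (ZMod 2) (P n)) ↔ τ x = x := by
  rw [AlgHom.mem_equalizer]; rfl

/-- decomposition with `τ`-fixed coefficients -/
theorem dec_fix (y : P n) : ∃ a b : P n, τ a = a ∧ τ b = b ∧ y = a + b * eps n 2 := by
  obtain ⟨a, ha, b, hb, h⟩ := dec_all n hn (AlgHom.equalizer τ (AlgHom.id (ZMod 2) (P n)))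
    ((mem_fix_iff hn τ hτ1 hτ _).mpr hτ1)
    ((mem_fix_iff hn τ hτ1 hτ _).mpr (tau_e2bar hn τ hτ1 hτ))
    (fun j hj hjs => (mem_fix_iff hn τ hτ1 hτ _).mpr (tau_ejbar hn τ hτ1 hτ j hj hjs)) y
  exact ⟨a, b, (mem_fix_iff hn τ hτ1 hτ _).mp ha, (mem_fix_iff hn τ hτ1 hτ _).mp hb, h⟩

theorem one_add_tau (a b : P n) (ha : τ a = a) (hb : τ b = b) :
    (a + b * eps n 2) + τ (a + b * eps n 2) = eps n 1 * b := by
  rw [map_add, map_mul, ha, hb, tau_eps2 hn τ hτ1 hτ]
  have h : a + b * eps n 2 + (a + b * (eps n 2 + eps n 1)) =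
      eps n 1 * b + ((a + b * eps n 2) + (a + b * eps n 2)) := by ring
  rw [h, add_self', add_zero]

theorem main39 : Set.range (fun y : P n => y + τ y) =
    (fun z : P n => eps n 1 * z) ''
      (AlgHom.equalizer τ (AlgHom.id (ZMod 2) (P n)) : Set (P n)) := by
  ext w
  constructor
  · rintro ⟨y, rfl⟩
    obtain ⟨a, b, ha, hb, rfl⟩ := dec_fix hn τ hτ1 hτ y
    refine ⟨b, (mem_fix_iff hn τ hτ1 hτ _).mpr hb, ?_⟩
    exact (one_add_tau hn τ hτ1 hτ a b ha hb).symm
  · rintro ⟨z, hz, rfl⟩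
    have hz' : τ z = z := (mem_fix_iff hn τ hτ1 hτ _).mp hz
    obtain ⟨a, b, ha, hb, rfl⟩ := dec_fix hn τ hτ1 hτ z
    rw [map_add, map_mul, ha, hb, tau_eps2 hn τ hτ1 hτ] at hz'
    have hb1 : b * eps n 1 = 0 := by
      have h : a + b * (eps n 2 + eps n 1) = (a + b * eps n 2) + b * eps n 1 := by ring
      rw [h] at hz'
      exact add_left_cancel (a := a + b * eps n 2) (hz'.trans (add_zero _).symm)
    refine ⟨a * eps n 2, ?_⟩
    show a * eps n 2 + τ (a * eps n 2) = eps n 1 * (a + b * eps n 2)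
    rw [map_mul, ha, tau_eps2 hn τ hτ1 hτ]
    have h : a * eps n 2 + a * (eps n 2 + eps n 1) =
        eps n 1 * a + (a * eps n 2 + a * eps n 2) := by ring
    rw [h, add_self', add_zero]
    have h' : eps n 1 * (a + b * eps n 2) = eps n 1 * a + (b * eps n 1) * eps n 2 := by ring
    rw [h', hb1, zero_mul, add_zero]

theorem main40 (m : ℕ) (hm1 : 1 ≤ m) (hmn : m ≤ n) (y : P n)
    (hy : y + τ y ∈ Ideal.span ({eps n 1 ^ m} : Set (P n))) :
    ∃ z : P n, τ z = z ∧ y + τ y = eps n 1 ^ m * z := by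
  obtain ⟨w', hw'⟩ := Ideal.mem_span_singleton'.mp hy
  obtain ⟨a, b, ha, hb, rfl⟩ := dec_fix hn τ hτ1 hτ y
  have hyb := one_add_tau hn τ hτ1 hτ a b ha hb
  rw [hyb] at hw' ⊢
  have hann : (b + eps n 1 ^ (m - 1) * w') * eps n 1 = 0 := by
    have h : (b + eps n 1 ^ (m - 1) * w') * eps n 1 =
        eps n 1 * b + w' * (eps n 1 ^ (m - 1) * eps n 1) := by ring
    rw [h, ← pow_succ, Nat.sub_add_cancel hm1, hw', add_self']
  obtain ⟨w'', hw''⟩ := ann_eps1 n (by omega) _ hann
  have hb' : b = eps n 1 ^ (m - 1) * (w' + eps n 1 ^ (n - m) * w'') := by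
    have h1 : eps n 1 ^ (n - 1) = eps n 1 ^ (m - 1) * eps n 1 ^ (n - m) := by
      rw [← pow_add]; congr 1; omega
    calc b = (b + eps n 1 ^ (m - 1) * w') + eps n 1 ^ (m - 1) * w' := by
          rw [add_assoc, add_self', add_zero]
      _ = eps n 1 ^ (n - 1) * w'' + eps n 1 ^ (m - 1) * w' := by rw [hw'']
      _ = _ := by rw [h1]; ring
  obtain ⟨c, d, hc, hd, hw⟩ := dec_fix hn τ hτ1 hτ (w' + eps n 1 ^ (n - m) * w'')
  rw [hw] at hb'
  have hpm : eps n 1 ^ m = eps n 1 ^ (m - 1) * eps n 1 := by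
    rw [← pow_succ, Nat.sub_add_cancel hm1]
  have hd0 : eps n 1 ^ m * d = 0 := by
    have h3 : τ b = b + eps n 1 ^ m * d := by
      rw [hb', map_mul, map_pow, hτ1, map_add, map_mul, hc, hd, tau_eps2 hn τ hτ1 hτ, hpm]
      ring
    rw [hb] at h3
    exact (add_left_cancel (a := b) (h3.symm.trans (add_zero _).symm))
  refine ⟨c, hc, ?_⟩
  rw [hb']
  have h : eps n 1 * (eps n 1 ^ (m - 1) * (c + d * eps n 2)) =
      eps n 1 ^ (m - 1) * eps n 1 * c + (eps n 1 ^ (m - 1) * eps n 1 * d) * eps n 2 := by ring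
  rw [h, ← hpm, hd0, zero_mul, add_zero]

theorem genImage_fixed (i : Option (Fin (numVars n))) : τ (genImage n i) = genImage n i := by
  cases i with
  | none => exact tau_xbar hn τ hτ1 hτ
  | some i =>
    show τ (if i.val = 0 then eps n 1
      else if i.val = 1 then eps n 2 ^ 2 + eps n 1 * eps n 2
      else eps n (i.val + 1) + eps n 1 ^ (2 * (i.val + 1) - 4) * eps n 2) = 
      (if i.val = 0 then eps n 1
      else if i.val = 1 then eps n 2 ^ 2 + eps n 1 * eps n 2
      else eps n (i.val + 1) + eps n 1 ^ (2 * (i.val + 1) - 4) * eps n 2)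
    split_ifs with h0 h1
    · exact hτ1
    · exact tau_e2bar hn τ hτ1 hτ
    · exact tau_ejbar hn τ hτ1 hτ (i.val + 1) (by omega) i.isLt

theorem phi_fixed (q : FreeE n) : τ (phi n q) = phi n q := by
  induction q using MvPolynomial.induction_on with
  | C c =>
    have : phi n (C c) = algebraMap (ZMod 2) (P n) c := aeval_C _ _
    rw [this, τ.commutes]
  | add p q hp hq => rw [map_add, map_add, hp, hq]
  | mul_X p i hp =>
    have : phi n (X i) = genImage n i := aeval_X _ _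
    rw [map_mul, map_mul, hp, this, genImage_fixed hn τ hτ1 hτ]

theorem main41 : (phi n).range = AlgHom.equalizer τ (AlgHom.id (ZMod 2) (P n)) := by
  apply le_antisymm
  · rintro _ ⟨q, rfl⟩
    exact (mem_fix_iff hn τ hτ1 hτ _).mpr (phi_fixed hn τ hτ1 hτ q)
  · intro z hz
    have hz' : τ z = z := (mem_fix_iff hn τ hτ1 hτ _).mp hz
    have hnv : 2 ≤ numVars n := by unfold numVars; omega
    have hfix : ∀ x ∈ (phi n).range, τ x = x := by
      rintro _ ⟨q, rfl⟩
      exact phi_fixed hn τ hτ1 hτ q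
    have hX : ∀ i, genImage n i ∈ (phi n).range := fun i => ⟨X i, aeval_X _ _⟩
    -- generators
    have h1 : eps n 1 ∈ (phi n).range := by
      have := hX (some ⟨0, by omega⟩)
      exact this
    have h2 : eps n 2 ^ 2 + eps n 1 * eps n 2 ∈ (phi n).range := by
      have := hX (some ⟨1, by omega⟩)
      exact this
    have h3 : ∀ j : ℕ, 3 ≤ j → j ≤ numVars n →
        eps n j + eps n 1 ^ (2 * j - 4) * eps n 2 ∈ (phi n).range := by
      intro j hj hjs
      obtain ⟨j', rfl⟩ : ∃ j', j = j' + 1 := ⟨j - 1, by omega⟩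
      have := hX (some ⟨j', by omega⟩)
      have e : genImage n (some ⟨j', by omega⟩) =
          eps n (j' + 1) + eps n 1 ^ (2 * (j' + 1) - 4) * eps n 2 := by
        show (if j' = 0 then eps n 1
          else if j' = 1 then eps n 2 ^ 2 + eps n 1 * eps n 2
          else eps n (j' + 1) + eps n 1 ^ (2 * (j' + 1) - 4) * eps n 2) = _
        rw [if_neg (by omega), if_neg (by omega)]
      rw [e] at this
      exact this
    have hx : eps n 1 ^ (n - 1) * eps n 2 ∈ (phi n).range := hX none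
    obtain ⟨a, ha, b, hb, rfl⟩ := dec_all n hn (phi n).range h1 h2 h3 z
    have hτa := hfix a ha
    have hτb := hfix b hb
    rw [map_add, map_mul, hτa, hτb, tau_eps2 hn τ hτ1 hτ] at hz'
    have hb1 : b * eps n 1 = 0 := by
      have h : a + b * (eps n 2 + eps n 1) = (a + b * eps n 2) + b * eps n 1 := by ring
      rw [h] at hz'
      exact add_left_cancel (a := a + b * eps n 2) (hz'.trans (add_zero _).symm)
    obtain ⟨w, hw⟩ := ann_eps1 n (by omega) b hb1
    obtain ⟨c, hc, d, hd, rfl⟩ := dec_all n hn (phi n).range h1 h2 h3 w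
    have hz_eq : a + eps n 1 ^ (n - 1) * (c + d * eps n 2) * eps n 2 +
        (d * eps n 1 ^ (n - 1) * (eps n 1 * eps n 2) +
          d * eps n 1 ^ (n - 1) * (eps n 1 * eps n 2)) =
        a + c * (eps n 1 ^ (n - 1) * eps n 2) +
          d * eps n 1 ^ (n - 1) * (eps n 2 ^ 2 + eps n 1 * eps n 2) +
          d * (eps n 1 ^ (n - 1) * eps n 1) * eps n 2 := by ring
    rw [add_self', add_zero, ← pow_succ, Nat.sub_add_cancel (by omega : 1 ≤ n), eps1_pow,
      mul_zero, zero_mul, add_zero] at hz_eq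
    rw [hw, hz_eq]
    exact Subalgebra.add_mem _ (Subalgebra.add_mem _ ha (Subalgebra.mul_mem _ hc hx))
      (Subalgebra.mul_mem _ (Subalgebra.mul_mem _ hd (Subalgebra.pow_mem _ h1 _)) h2)

end Tau

end Groth.Agent.Lib.Helper21.RJr
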