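import Mathlib
import Groth.Prelude.Def_W4c4chowquasisplitPn
import Groth.Agent.Lib.Helper21.RJr

set_option autoImplicit false
set_option linter.style.haveILetI false
set_option linter.unusedSectionVars false
set_option linter.unusedVariables false
set_option linter.unusedSimpArgs false

/-! Characteristic two identities, the map `phi` kills the relation ideal, and the involution
`tau` of the truncated algebra `P n`. -/

namespace Groth.Agent.Lib.Helper21.RJs

open MvPolynomial QsChow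
open Groth.Agent.Lib.Helper21.RJr

section Char2

variable {A : Type*} [CommRing A] (h2 : ∀ x : A, x + x = 0)
include h2

theorem sq_add' (a b : A) : (a + b) ^ 2 = a ^ 2 + b ^ 2 := by
  have h : (a + b) ^ 2 = a ^ 2 + b ^ 2 + (a * b + a * b) := by ring
  rw [h, h2, add_zero]

theorem pow_two_pow_add (a b : A) (k : ℕ) : (a + b) ^ 2 ^ k = a ^ 2 ^ k + b ^ 2 ^ k := by
  induction k with
  | zero => simp
  | succ k ih => rw [pow_succ, pow_mul, ih, sq_add' h2, ← pow_mul, ← pow_mul]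

theorem sq_sum {ι : Type*} (s : Finset ι) (f : ι → A) :
    (∑ i ∈ s, f i) ^ 2 = ∑ i ∈ s, f i ^ 2 := by
  classical
  induction s using Finset.induction_on with
  | empty => simp
  | insert a s ha ih => rw [Finset.sum_insert ha, Finset.sum_insert ha, sq_add' h2, ih]

theorem add_eq_zero_iff' (a b : A) : a + b = 0 ↔ a = b := by
  constructor
  · intro h
    have h' : a = a + (b + b) := by rw [h2, add_zero]
    rw [h', ← add_assoc, h, zero_add]
  · rintro rfl; exact h2 a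

/-- key identity: `v^(2^k) = Σ_{t<k} u^(2^k - 2^(t+1)) (v²+uv)^(2^t) + u^(2^k-1) v` -/
theorem key_identity (u v : A) (k : ℕ) :
    v ^ 2 ^ k = ∑ t ∈ Finset.range k, u ^ (2 ^ k - 2 ^ (t + 1)) * (v ^ 2 + u * v) ^ 2 ^ t
      + u ^ (2 ^ k - 1) * v := by
  induction k with
  | zero => simp
  | succ k ih =>
    have e1 : v ^ 2 ^ (k + 1) = (v ^ 2 ^ k) ^ 2 := by rw [pow_succ, pow_mul]
    rw [e1, ih, sq_add' h2, sq_sum h2, Finset.sum_range_succ']
    have e2 : ∀ t ∈ Finset.range k,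
        (u ^ (2 ^ k - 2 ^ (t + 1)) * (v ^ 2 + u * v) ^ 2 ^ t) ^ 2 =
        u ^ (2 ^ (k + 1) - 2 ^ (t + 1 + 1)) * (v ^ 2 + u * v) ^ 2 ^ (t + 1) := by
      intro t _
      rw [mul_pow, ← pow_mul, ← pow_mul, ← pow_succ]
      congr 2
      rw [Nat.sub_mul, ← pow_succ, ← pow_succ]
    rw [Finset.sum_congr rfl e2]
    have e3 : (u ^ (2 ^ k - 1) * v) ^ 2 =
        u ^ (2 ^ (k + 1) - 2 ^ (0 + 1)) * (v ^ 2 + u * v) ^ 2 ^ 0
        + u ^ (2 ^ (k + 1) - 1) * v := by
      have hN : 1 ≤ 2 ^ k := Nat.one_le_two_pow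
      have x1 : 2 ^ (k + 1) - 2 ^ (0 + 1) = (2 ^ k - 1) * 2 := by
        rw [pow_succ, zero_add, pow_one, Nat.sub_mul]
      have x2 : 2 ^ (k + 1) - 1 = (2 ^ k - 1) * 2 + 1 := by
        rw [pow_succ, Nat.sub_mul]; omega
      rw [x1, x2, pow_zero, pow_one, mul_pow, ← pow_mul, pow_succ u ((2 ^ k - 1) * 2)]
      generalize u ^ ((2 ^ k - 1) * 2) = Y
      have h : Y * (v ^ 2 + u * v) + Y * u * v = Y * v ^ 2 + (Y * u * v + Y * u * v) := by ring
      rw [h, h2, add_zero]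
    rw [e3, add_assoc]

end Char2

theorem le_mul_two_pow_klog (n j : ℕ) (hn : 1 ≤ n) (hj : 2 ≤ j) :
    n ≤ (2 * j - 3) * 2 ^ klog n j := by
  unfold klog
  have hd : 0 < 2 * j - 3 := by omega
  have h1 : (2 * n - 1) / (2 * j - 3) < 2 ^ (Nat.log 2 ((2 * n - 1) / (2 * j - 3)) + 1) :=
    Nat.lt_pow_succ_log_self (by norm_num) _
  have h2 : 2 * n - 1 < (2 * j - 3) * ((2 * n - 1) / (2 * j - 3) + 1) :=
    Nat.lt_mul_div_succ _ hd
  have h3 : (2 * j - 3) * ((2 * n - 1) / (2 * j - 3) + 1) ≤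
      (2 * j - 3) * 2 ^ (Nat.log 2 ((2 * n - 1) / (2 * j - 3)) + 1) :=
    Nat.mul_le_mul_left _ h1
  rw [pow_succ] at h3
  have h4 : (2 * j - 3) * (2 ^ Nat.log 2 ((2 * n - 1) / (2 * j - 3)) * 2) =
      2 * ((2 * j - 3) * 2 ^ Nat.log 2 ((2 * n - 1) / (2 * j - 3))) := by ring
  rw [h4] at h3
  omega

theorem eps_pow_klog (n j : ℕ) (hj : 2 ≤ j) (hjs : j ≤ numVars n) :
    eps n j ^ 2 ^ klog n j = 0 := by
  obtain ⟨i, hi⟩ : ∃ i : Fin (numVars n), i.val + 1 = j :=
    ⟨⟨j - 1, by omega⟩, by show j - 1 + 1 = j; omega⟩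
  rw [eps_of_val n i j hi, ← map_pow, Ideal.Quotient.eq_zero_iff_mem]
  apply Ideal.subset_span
  refine ⟨i, ?_⟩
  have hb : bound n i = 2 ^ klog n j := by
    unfold bound
    rw [if_neg (by omega), hi]
  simp only [hb]

theorem phi_X (n : ℕ) (o : Option (Fin (numVars n))) : phi n (X o) = genImage n o :=
  aeval_X _ _

theorem evar_succ (n : ℕ) (i : Fin (numVars n)) : evar n (i.val + 1) = X (some i) := by
  have h : 0 < i.val + 1 ∧ i.val + 1 ≤ numVars n := ⟨Nat.succ_pos _, i.isLt⟩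
  unfold evar
  rw [dif_pos h]
  simp only [Nat.add_sub_cancel, Fin.eta]

theorem evar_of_val (n : ℕ) (i : Fin (numVars n)) (j : ℕ) (hj : i.val + 1 = j) :
    evar n j = X (some i) := by
  rw [← hj]; exact evar_succ n i

theorem genImage_zero (n : ℕ) (i : Fin (numVars n)) (h0 : i.val = 0) :
    genImage n (some i) = eps n 1 := by
  show (if i.val = 0 then eps n 1
      else if i.val = 1 then eps n 2 ^ 2 + eps n 1 * eps n 2
      else eps n (i.val + 1) + eps n 1 ^ (2 * (i.val + 1) - 4) * eps n 2) = _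
  rw [if_pos h0]

theorem genImage_one (n : ℕ) (i : Fin (numVars n)) (h1 : i.val = 1) :
    genImage n (some i) = eps n 2 ^ 2 + eps n 1 * eps n 2 := by
  show (if i.val = 0 then eps n 1
      else if i.val = 1 then eps n 2 ^ 2 + eps n 1 * eps n 2
      else eps n (i.val + 1) + eps n 1 ^ (2 * (i.val + 1) - 4) * eps n 2) = _
  rw [if_neg (by omega), if_pos h1]

theorem genImage_ge (n : ℕ) (i : Fin (numVars n)) (h2 : 2 ≤ i.val) :
    genImage n (some i) = eps n (i.val + 1) + eps n 1 ^ (2 * (i.val + 1) - 4) * eps n 2 := by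
  show (if i.val = 0 then eps n 1
      else if i.val = 1 then eps n 2 ^ 2 + eps n 1 * eps n 2
      else eps n (i.val + 1) + eps n 1 ^ (2 * (i.val + 1) - 4) * eps n 2) = _
  rw [if_neg (by omega), if_neg (by omega)]

section Phi

variable (n : ℕ) (hn : 2 ≤ n)
include hn

theorem phi_evar1 : phi n (evar n 1) = eps n 1 := by
  have hi0 : 0 < numVars n := by unfold numVars; omega
  rw [evar_of_val n ⟨0, hi0⟩ 1 rfl, phi_X, genImage_zero n _ rfl]

theorem phi_evar2 : phi n (evar n 2) = eps n 2 ^ 2 + eps n 1 * eps n 2 := by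
  have hi1 : 1 < numVars n := by unfold numVars; omega
  rw [evar_of_val n ⟨1, hi1⟩ 2 rfl, phi_X, genImage_one n _ rfl]

theorem phi_evarj (j : ℕ) (hj : 3 ≤ j) (hjs : j ≤ numVars n) :
    phi n (evar n j) = eps n j + eps n 1 ^ (2 * j - 4) * eps n 2 := by
  obtain ⟨i, hi⟩ : ∃ i : Fin (numVars n), i.val + 1 = j :=
    ⟨⟨j - 1, by omega⟩, by show j - 1 + 1 = j; omega⟩
  rw [evar_of_val n i j hi, phi_X, genImage_ge n i (by omega), hi]

theorem phi_xvar : phi n (xvar n) = eps n 1 ^ (n - 1) * eps n 2 := phi_X n none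

theorem phi_sPoly (j : ℕ) :
    phi n (sPoly n j) = ∑ t ∈ Finset.range (klog n j),
      eps n 1 ^ (2 ^ klog n j - 2 ^ (t + 1)) * (eps n 2 ^ 2 + eps n 1 * eps n 2) ^ 2 ^ t := by
  unfold sPoly
  rw [map_sum]
  apply Finset.sum_congr rfl
  intro t _
  rw [map_mul, map_pow, map_pow, phi_evar1 n hn, phi_evar2 n hn]

theorem phi_hrel2 : phi n (hrel n 2) = 0 := by
  have hnv : 2 ≤ numVars n := by unfold numVars; omega
  unfold hrel
  rw [if_pos rfl, map_add, map_mul, map_pow, phi_evar1 n hn, phi_xvar n hn, phi_sPoly n hn]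
  have hk := key_identity (add_self' n) (eps n 1) (eps n 2) (klog n 2)
  rw [eps_pow_klog n 2 le_rfl hnv] at hk
  have hle : n ≤ 2 ^ klog n 2 := by
    have := le_mul_two_pow_klog n 2 (by omega) le_rfl
    simpa using this
  have he : eps n 1 ^ (2 ^ klog n 2 - n) * (eps n 1 ^ (n - 1) * eps n 2) =
      eps n 1 ^ (2 ^ klog n 2 - 1) * eps n 2 := by
    rw [← mul_assoc, ← pow_add]; congr 2; omega
  rw [he, add_comm]; exact hk.symm

theorem phi_hrelj (j : ℕ) (hj : 3 ≤ j) (hjs : j ≤ numVars n) : phi n (hrel n j) = 0 := by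
  unfold hrel
  rw [if_neg (by omega), if_pos ⟨hj, hjs⟩]
  simp only [map_add, map_mul, map_pow]
  rw [phi_evar1 n hn, phi_xvar n hn, phi_sPoly n hn, phi_evarj n hn j hj hjs]
  have hk := key_identity (add_self' n) (eps n 1) (eps n 2) (klog n j)
  have hB : n ≤ (2 * j - 3) * 2 ^ klog n j := le_mul_two_pow_klog n j (by omega) (by omega)
  have hA : (2 * j - 4) * 2 ^ klog n j + 2 ^ klog n j = (2 * j - 3) * 2 ^ klog n j := by
    have h' : 2 * j - 3 = (2 * j - 4) + 1 := by omega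
    rw [h', add_mul, one_mul]
  have hpow1 : (eps n j + eps n 1 ^ (2 * j - 4) * eps n 2) ^ 2 ^ klog n j =
      eps n 1 ^ ((2 * j - 4) * 2 ^ klog n j) * eps n 2 ^ 2 ^ klog n j := by
    rw [pow_two_pow_add (add_self' n), eps_pow_klog n j (by omega) hjs, zero_add, mul_pow,
      ← pow_mul]
  have hT : 1 ≤ 2 ^ klog n j := Nat.one_le_two_pow
  have hY1 : eps n 1 ^ ((2 * j - 4) * 2 ^ klog n j) * (eps n 1 ^ (2 ^ klog n j - 1) * eps n 2) =
      eps n 1 ^ ((2 * j - 3) * 2 ^ klog n j - 1) * eps n 2 := by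
    rw [← mul_assoc, ← pow_add]; congr 2; omega
  have hY2 : eps n 1 ^ ((2 * j - 3) * 2 ^ klog n j - n) * (eps n 1 ^ (n - 1) * eps n 2) =
      eps n 1 ^ ((2 * j - 3) * 2 ^ klog n j - 1) * eps n 2 := by
    rw [← mul_assoc, ← pow_add]; congr 2; omega
  rw [hpow1, hk, mul_add, hY1, hY2]
  have hfin : ∀ a b : P n, a + b + b + a = 0 := by
    intro a b
    have h' : a + b + b + a = (a + a) + (b + b) := by ring
    rw [h', add_self', add_self', add_zero]
  exact hfin _ _

theorem presIdeal_le_ker : presIdeal n ≤ RingHom.ker (phi n) := by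
  unfold presIdeal
  rw [Ideal.span_le]
  rintro g (hg | ⟨i, rfl⟩)
  · rcases hg with rfl | rfl | rfl
    · show phi n (evar n 1 ^ n) = 0
      rw [map_pow, phi_evar1 n hn, eps1_pow]
    · show phi n (evar n 1 * xvar n) = 0
      rw [map_mul, phi_evar1 n hn, phi_xvar n hn, ← mul_assoc, ← pow_succ',
        Nat.sub_add_cancel (by omega : 1 ≤ n), eps1_pow, zero_mul]
    · show phi n (xvar n ^ 2) = 0
      rw [map_pow, phi_xvar n hn, mul_pow, ← pow_mul]
      have h' : (n - 1) * 2 = n + (n - 2) := by omega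
      rw [h', pow_add, eps1_pow, zero_mul, zero_mul]
  · show phi n (hrel n (i.val + 1)) = 0
    by_cases h0 : i.val = 0
    · have : hrel n (i.val + 1) = 0 := by
        unfold hrel
        rw [if_neg (by omega), if_neg (by omega)]
      rw [this, map_zero]
    · by_cases h1 : i.val = 1
      · have e : i.val + 1 = 2 := by omega
        rw [e]; exact phi_hrel2 n hn
      · exact phi_hrelj n hn (i.val + 1) (by omega) i.isLt

end Phi

/-- images of the variables under the involution -/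
noncomputable def tauImg (n : ℕ) (i : Fin (numVars n)) : P n :=
  if i.val = 0 then eps n 1 else eps n (i.val + 1) + eps n 1 ^ (2 * (i.val + 1) - 3)

theorem tauImg_pow (n : ℕ) (hn : 1 ≤ n) (i : Fin (numVars n)) : tauImg n i ^ bound n i = 0 := by
  unfold tauImg bound
  by_cases h0 : i.val = 0
  · rw [if_pos h0, if_pos h0]; exact eps1_pow n
  · rw [if_neg h0, if_neg h0, pow_two_pow_add (add_self' n),
      eps_pow_klog n (i.val + 1) (by omega) i.isLt, zero_add, ← pow_mul]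
    have h := le_mul_two_pow_klog n (i.val + 1) hn (by omega)
    obtain ⟨c, hc⟩ := Nat.exists_eq_add_of_le h
    rw [hc, pow_add, eps1_pow, zero_mul]

theorem tau_aux (n : ℕ) (hn : 1 ≤ n) :
    ∀ a : FreeP n, a ∈ truncIdeal n → (aeval (tauImg n) : FreeP n →ₐ[ZMod 2] P n) a = 0 := by
  intro a ha
  have hle : truncIdeal n ≤ RingHom.ker (aeval (tauImg n) : FreeP n →ₐ[ZMod 2] P n) := by
    unfold truncIdeal
    rw [Ideal.span_le]
    rintro _ ⟨i, rfl⟩
    show (aeval (tauImg n) : FreeP n →ₐ[ZMod 2] P n) (X i ^ bound n i) = 0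
    rw [map_pow, aeval_X]
    exact tauImg_pow n hn i
  exact hle ha

/-- the involution `τ` -/
noncomputable def tau (n : ℕ) (hn : 1 ≤ n) : P n →ₐ[ZMod 2] P n :=
  Ideal.Quotient.liftₐ (truncIdeal n) (aeval (tauImg n)) (tau_aux n hn)

theorem tau_mk (n : ℕ) (hn : 1 ≤ n) (p : FreeP n) :
    tau n hn (Ideal.Quotient.mk (truncIdeal n) p) = aeval (tauImg n) p := by
  rfl

theorem tau_eps1 (n : ℕ) (hn : 1 ≤ n) : tau n hn (eps n 1) = eps n 1 := by
  have hi0 : 0 < numVars n := by unfold numVars; omega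
  rw [eps_of_val n ⟨0, hi0⟩ 1 rfl, tau_mk, aeval_X]
  unfold tauImg
  rw [if_pos rfl, eps_of_val n ⟨0, hi0⟩ 1 rfl]

theorem tau_epsj (n : ℕ) (hn : 1 ≤ n) (j : ℕ) (hj : 2 ≤ j) (hjs : j ≤ numVars n) :
    tau n hn (eps n j) = eps n j + eps n 1 ^ (2 * j - 3) := by
  obtain ⟨i, hi⟩ : ∃ i : Fin (numVars n), i.val + 1 = j :=
    ⟨⟨j - 1, by omega⟩, by show j - 1 + 1 = j; omega⟩
  rw [eps_of_val n i j hi, tau_mk, aeval_X]
  unfold tauImg
  rw [if_neg (by omega), hi, eps_of_val n i j hi]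

end Groth.Agent.Lib.Helper21.RJs
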