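import Mathlib

set_option autoImplicit false
set_option linter.style.haveILetI false
set_option linter.unusedSectionVars false
set_option linter.unusedVariables false
set_option linter.unusedSimpArgs false

/-! Dimension of the quotient of a polynomial ring over the field with two elements by the
ideal of powers of the variables. -/

namespace Groth.Agent.Lib.Helper21.RJt

open MvPolynomial

variable {σ : Type*} [Fintype σ] [DecidableEq σ] (b : σ → ℕ)

/-- exponent vector attached to a point of the box -/
noncomputable def tf (f : ∀ i, Fin (b i)) : σ →₀ ℕ :=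
  Finsupp.equivFunOnFinite.symm (fun i => ((f i : Fin (b i)) : ℕ))

theorem tf_apply (f : ∀ i, Fin (b i)) (i : σ) : tf b f i = (f i : ℕ) := rfl

theorem tf_injective : Function.Injective (tf b) := by
  intro f g h
  funext i
  apply Fin.ext
  rw [← tf_apply b f i, ← tf_apply b g i, h]

theorem exists_tf_eq (m : σ →₀ ℕ) (hm : ∀ i, m i < b i) : ∃ f, tf b f = m :=
  ⟨fun i => ⟨m i, hm i⟩, by ext i; rw [tf_apply]⟩

/-- coefficient extraction on the box -/
noncomputable def rho : MvPolynomial σ (ZMod 2) →ₗ[ZMod 2] ((∀ i, Fin (b i)) → ZMod 2) where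
  toFun p f := coeff (tf b f) p
  map_add' p q := by funext f; simp only [coeff_add, Pi.add_apply]
  map_smul' c p := by funext f; simp only [coeff_smul, Pi.smul_apply, RingHom.id_apply]

theorem rho_apply (p : MvPolynomial σ (ZMod 2)) (f : ∀ i, Fin (b i)) :
    rho b p f = coeff (tf b f) p := rfl

/-- the ideal of powers -/
noncomputable abbrev powI : Ideal (MvPolynomial σ (ZMod 2)) :=
  Ideal.span (Set.range fun i : σ => (X i : MvPolynomial σ (ZMod 2)) ^ b i)

theorem powI_eq : powI b = Ideal.span ((fun s => monomial s (1 : ZMod 2)) ''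
    (Set.range fun i : σ => Finsupp.single i (b i))) := by
  have h : (fun i : σ => (X i : MvPolynomial σ (ZMod 2)) ^ b i) =
      (fun s => monomial s (1 : ZMod 2)) ∘ (fun i : σ => Finsupp.single i (b i)) := by
    funext i
    simp only [Function.comp_apply]
    exact X_pow_eq_monomial
  unfold powI
  rw [h, Set.range_comp]

theorem mem_powI_iff (p : MvPolynomial σ (ZMod 2)) :
    p ∈ powI b ↔ ∀ m ∈ p.support, ∃ i, b i ≤ m i := by
  rw [powI_eq, mem_ideal_span_monomial_image]
  constructor
  · intro h m hm
    obtain ⟨si, ⟨i, rfl⟩, hle⟩ := h m hm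
    exact ⟨i, Finsupp.single_le_iff.mp hle⟩
  · intro h m hm
    obtain ⟨i, hi⟩ := h m hm
    exact ⟨_, ⟨i, rfl⟩, Finsupp.single_le_iff.mpr hi⟩

theorem ker_rho : LinearMap.ker (rho b) = (powI b).restrictScalars (ZMod 2) := by
  ext p
  rw [LinearMap.mem_ker, Submodule.restrictScalars_mem, mem_powI_iff]
  constructor
  · intro h m hm
    by_contra hcon
    push Not at hcon
    obtain ⟨f, rfl⟩ := exists_tf_eq b m hcon
    have h0 : rho b p f = 0 := by rw [h]; rfl
    rw [rho_apply] at h0
    exact (mem_support_iff.mp hm) h0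
  · intro h
    funext f
    rw [rho_apply]
    by_contra hne
    have hm : tf b f ∈ p.support := mem_support_iff.mpr hne
    obtain ⟨i, hi⟩ := h _ hm
    rw [tf_apply] at hi
    exact absurd (f i).isLt (not_lt.mpr hi)

theorem rho_surjective : Function.Surjective (rho b) := by
  classical
  intro g
  refine ⟨∑ f : (∀ i, Fin (b i)), monomial (tf b f) (g f), ?_⟩
  funext f₀
  rw [rho_apply, coeff_sum, Finset.sum_eq_single f₀]
  · rw [coeff_monomial, if_pos rfl]
  · intro f _ hne
    rw [coeff_monomial, if_neg]
    intro h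
    exact hne (tf_injective b h)
  · intro h; exact absurd (Finset.mem_univ _) h

/-- the quotient is the space of functions on the box -/
noncomputable def quotEquiv :
    (MvPolynomial σ (ZMod 2) ⧸ powI b) ≃ₗ[ZMod 2] ((∀ i, Fin (b i)) → ZMod 2) :=
  ((Submodule.Quotient.restrictScalarsEquiv (ZMod 2) (powI b)).symm.trans
    (Submodule.quotEquivOfEq _ _ (ker_rho b).symm)).trans
    ((rho b).quotKerEquivOfSurjective (rho_surjective b))

theorem finrank_quot :
    Module.finrank (ZMod 2) (MvPolynomial σ (ZMod 2) ⧸ powI b) = ∏ i, b i := by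
  have h := (quotEquiv b).finrank_eq
  refine h.trans ((Module.finrank_fintype_fun_eq_card (ZMod 2)).trans ?_)
  rw [Fintype.card_pi]
  simp

theorem finite_quot : Module.Finite (ZMod 2) (MvPolynomial σ (ZMod 2) ⧸ powI b) :=
  Module.Finite.equiv (quotEquiv b).symm

end Groth.Agent.Lib.Helper21.RJt
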