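import Mathlib
import Groth.Prelude.Def_W4c4chowquasisplitPn
import Groth.Agent.Lib.Helper21.RJr
import Groth.Agent.Lib.Helper21.RJs
import Groth.Agent.Lib.Helper21.RJt

set_option autoImplicit false
set_option linter.style.haveILetI false
set_option linter.unusedSectionVars false
set_option linter.unusedVariables false
set_option linter.unusedSimpArgs false

/-! Dimension of the fixed subalgebra of the involution of `P n`. -/

namespace Groth.Agent.Lib.Helper21.RJu

open MvPolynomial QsChow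
open Groth.Agent.Lib.Helper21.RJr Groth.Agent.Lib.Helper21.RJs Groth.Agent.Lib.Helper21.RJt

/-- second bound function: exponent one for the first variable -/
def bound' (n : ℕ) (i : Fin (numVars n)) : ℕ := if i.val = 0 then 1 else bound n i

theorem finiteP (n : ℕ) : Module.Finite (ZMod 2) (P n) := finite_quot (bound n)

theorem finrank_P (n : ℕ) : Module.finrank (ZMod 2) (P n) = ∏ i, bound n i :=
  finrank_quot (bound n)

theorem trunc_le (n : ℕ) (hn : 1 ≤ n) : truncIdeal n ≤ powI (bound' n) := by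
  unfold truncIdeal
  rw [Ideal.span_le]
  rintro _ ⟨i, rfl⟩
  show (X i : FreeP n) ^ bound n i ∈ powI (bound' n)
  by_cases h0 : i.val = 0
  · have h1 : (X i : FreeP n) ^ bound' n i ∈ powI (bound' n) := Ideal.subset_span ⟨i, rfl⟩
    have hb : bound n i = n := by simp only [bound, if_pos h0]
    have hb' : bound' n i = 1 := by simp only [bound', if_pos h0]
    rw [hb', pow_one] at h1
    rw [hb]
    exact Ideal.pow_mem_of_mem _ h1 n (by omega)
  · have hb' : bound' n i = bound n i := by simp only [bound', if_neg h0]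
    rw [← hb']
    exact Ideal.subset_span ⟨i, rfl⟩

theorem finrank_range_mulLeft (n : ℕ) (hn : 2 ≤ n) :
    Module.finrank (ZMod 2) (LinearMap.range (LinearMap.mulLeft (ZMod 2) (eps n 1))) +
      ∏ i, bound' n i = ∏ i, bound n i := by
  classical
  haveI := finiteP n
  have hi0 : 0 < numVars n := by unfold numVars; omega
  obtain ⟨i0, hi0v⟩ : ∃ i0 : Fin (numVars n), i0.val = 0 := ⟨⟨0, hi0⟩, rfl⟩
  have he1 : eps n 1 = Ideal.Quotient.mk (truncIdeal n) (X i0) := eps_of_val n i0 1 (by omega)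
  have hle := trunc_le n (by omega : 1 ≤ n)
  let gl : P n →ₗ[ZMod 2] (FreeP n ⧸ powI (bound' n)) :=
    (Ideal.Quotient.factorₐ (ZMod 2) hle).toLinearMap
  have hg : ∀ p : FreeP n, gl (Ideal.Quotient.mk (truncIdeal n) p) =
      Ideal.Quotient.mk (powI (bound' n)) p := fun p => rfl
  have hsurj : Function.Surjective gl := by
    intro y
    obtain ⟨p, rfl⟩ := Ideal.Quotient.mk_surjective y
    exact ⟨Ideal.Quotient.mk (truncIdeal n) p, hg p⟩
  have hker : LinearMap.ker gl = LinearMap.range (LinearMap.mulLeft (ZMod 2) (eps n 1)) := by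
    ext x
    obtain ⟨p, rfl⟩ := Ideal.Quotient.mk_surjective x
    rw [LinearMap.mem_ker, LinearMap.mem_range, hg, Ideal.Quotient.eq_zero_iff_mem]
    constructor
    · intro hp
      have hsup : powI (bound' n) ≤ truncIdeal n ⊔ Ideal.span {(X i0 : FreeP n)} := by
        rw [Ideal.span_le]
        rintro _ ⟨i, rfl⟩
        show (X i : FreeP n) ^ bound' n i ∈ _
        by_cases h0 : i.val = 0
        · have hii : i = i0 := Fin.ext (by omega)
          have hb' : bound' n i = 1 := by simp only [bound', if_pos h0]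
          rw [hb', pow_one, hii]
          exact Ideal.mem_sup_right (Ideal.subset_span rfl)
        · have hb' : bound' n i = bound n i := by simp only [bound', if_neg h0]
          rw [hb']
          exact Ideal.mem_sup_left (Ideal.subset_span ⟨i, rfl⟩)
      obtain ⟨t, ht, u, hu, rfl⟩ := Submodule.mem_sup.mp (hsup hp)
      obtain ⟨q, rfl⟩ := Ideal.mem_span_singleton'.mp hu
      refine ⟨Ideal.Quotient.mk (truncIdeal n) q, ?_⟩
      rw [LinearMap.mulLeft_apply, map_add, Ideal.Quotient.eq_zero_iff_mem.mpr ht, zero_add,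
        map_mul, he1, mul_comm]
    · rintro ⟨y, hy⟩
      obtain ⟨q, rfl⟩ := Ideal.Quotient.mk_surjective y
      rw [LinearMap.mulLeft_apply, he1, ← map_mul] at hy
      have hmem : X i0 * q - p ∈ truncIdeal n := Ideal.Quotient.eq.mp hy
      have h1 : X i0 * q ∈ powI (bound' n) := by
        apply Ideal.mul_mem_right
        have hb' : bound' n i0 = 1 := by simp only [bound', if_pos hi0v]
        have h1' : (X i0 : FreeP n) ^ bound' n i0 ∈ powI (bound' n) :=
          Ideal.subset_span ⟨i0, rfl⟩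
        rwa [hb', pow_one] at h1'
      have h2 : X i0 * q - p ∈ powI (bound' n) := hle hmem
      have h3 : p = X i0 * q - (X i0 * q - p) := by ring
      rw [h3]; exact Ideal.sub_mem _ h1 h2
  have h1 := LinearMap.finrank_range_add_finrank_ker gl
  rw [LinearMap.range_eq_top.mpr hsurj, finrank_top, hker, finrank_P] at h1
  have h2 : Module.finrank (ZMod 2) (FreeP n ⧸ powI (bound' n)) = ∏ i, bound' n i :=
    finrank_quot (bound' n)
  rw [h2] at h1
  omega

theorem finrank_ker_mulLeft (n : ℕ) (hn : 2 ≤ n) :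
    Module.finrank (ZMod 2) (LinearMap.ker (LinearMap.mulLeft (ZMod 2) (eps n 1))) =
      ∏ i, bound' n i := by
  haveI := finiteP n
  have h1 := LinearMap.finrank_range_add_finrank_ker (LinearMap.mulLeft (ZMod 2) (eps n 1))
  have h2 := finrank_range_mulLeft n hn
  rw [finrank_P] at h1
  omega

/-- the map `1 + τ` -/
noncomputable def Lmap {n : ℕ} (τ : P n →ₐ[ZMod 2] P n) : P n →ₗ[ZMod 2] P n :=
  LinearMap.id + τ.toLinearMap

theorem Lmap_apply {n : ℕ} (τ : P n →ₐ[ZMod 2] P n) (y : P n) : Lmap τ y = y + τ y := rfl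

theorem mem_ker_Lmap {n : ℕ} (τ : P n →ₐ[ZMod 2] P n) (x : P n) :
    x ∈ LinearMap.ker (Lmap τ) ↔ τ x = x := by
  rw [LinearMap.mem_ker, Lmap_apply, add_eq_zero_iff' (add_self' n)]
  exact eq_comm

section Tau

variable {n : ℕ} (hn : 2 ≤ n) (τ : P n →ₐ[ZMod 2] P n) (hτ1 : τ (eps n 1) = eps n 1)
  (hτ : ∀ j : ℕ, 2 ≤ j → j ≤ numVars n → τ (eps n j) = eps n j + eps n 1 ^ (2 * j - 3))
include hn hτ1 hτ

theorem range_Lmap : LinearMap.range (Lmap τ) =
    Submodule.map (LinearMap.mulLeft (ZMod 2) (eps n 1)) (LinearMap.ker (Lmap τ)) := by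
  have h39 := main39 hn τ hτ1 hτ
  ext w
  rw [LinearMap.mem_range, Submodule.mem_map]
  constructor
  · rintro ⟨y, rfl⟩
    have hy : Lmap τ y ∈ Set.range (fun y : P n => y + τ y) := ⟨y, rfl⟩
    rw [h39] at hy
    obtain ⟨z, hz, hzw⟩ := hy
    exact ⟨z, (mem_ker_Lmap τ z).mpr ((mem_fix_iff hn τ hτ1 hτ z).mp hz), hzw⟩
  · rintro ⟨z, hz, rfl⟩
    have hw : (LinearMap.mulLeft (ZMod 2) (eps n 1)) z ∈ (fun z : P n => eps n 1 * z) ''
        (AlgHom.equalizer τ (AlgHom.id (ZMod 2) (P n)) : Set (P n)) :=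
      ⟨z, (mem_fix_iff hn τ hτ1 hτ z).mpr ((mem_ker_Lmap τ z).mp hz), rfl⟩
    rw [← h39] at hw
    obtain ⟨y, hy⟩ := hw
    exact ⟨y, hy⟩

theorem ker_mulLeft_le :
    LinearMap.ker (LinearMap.mulLeft (ZMod 2) (eps n 1)) ≤ LinearMap.ker (Lmap τ) := by
  intro x hx
  rw [LinearMap.mem_ker, LinearMap.mulLeft_apply] at hx
  rw [mem_ker_Lmap]
  obtain ⟨w, rfl⟩ := ann_eps1 n (by omega) x (by rw [mul_comm]; exact hx)
  obtain ⟨a, b, ha, hb, rfl⟩ := dec_fix hn τ hτ1 hτ w
  rw [map_mul, map_pow, hτ1, map_add, map_mul, ha, hb, tau_eps2 hn τ hτ1 hτ]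
  have h : eps n 1 ^ (n - 1) * (a + b * (eps n 2 + eps n 1)) =
      eps n 1 ^ (n - 1) * (a + b * eps n 2) + b * (eps n 1 ^ (n - 1) * eps n 1) := by ring
  rw [h, ← pow_succ, Nat.sub_add_cancel (by omega : 1 ≤ n), eps1_pow, mul_zero, add_zero]

theorem two_mul_finrank_fixed :
    2 * Module.finrank (ZMod 2) (LinearMap.ker (Lmap τ)) =
      ∏ i, bound n i + ∏ i, bound' n i := by
  haveI := finiteP n
  have h1 := LinearMap.finrank_range_add_finrank_ker (Lmap τ)
  rw [finrank_P, range_Lmap hn τ hτ1 hτ] at h1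
  have h2 := LinearMap.finrank_range_add_finrank_ker
    ((LinearMap.mulLeft (ZMod 2) (eps n 1)).domRestrict (LinearMap.ker (Lmap τ)))
  rw [LinearMap.range_domRestrict, LinearMap.ker_domRestrict] at h2
  have h3 : Module.finrank (ZMod 2)
      ((LinearMap.ker (LinearMap.mulLeft (ZMod 2) (eps n 1))).comap
        (LinearMap.ker (Lmap τ)).subtype) =
      Module.finrank (ZMod 2) (LinearMap.ker (LinearMap.mulLeft (ZMod 2) (eps n 1))) :=
    (Submodule.comapSubtypeEquivOfLe (ker_mulLeft_le hn τ hτ1 hτ)).finrank_eq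
  have h4 := finrank_ker_mulLeft n hn
  omega

end Tau

end Groth.Agent.Lib.Helper21.RJu
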