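import Mathlib
import Groth.Prelude.Def_W4c4chowquasisplitPn
import Groth.Agent.Lib.Helper21.RJr
import Groth.Agent.Lib.Helper21.RJs
import Groth.Agent.Lib.Helper21.RJt
import Groth.Agent.Lib.Helper21.RJu

set_option autoImplicit false
set_option linter.style.haveILetI false
set_option linter.unusedSectionVars false
set_option linter.unusedVariables false
set_option linter.unusedSimpArgs false

/-! Spanning set of the presented algebra and the kernel of `phi`. -/

namespace Groth.Agent.Lib.Helper21.RJv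

open MvPolynomial QsChow
open Groth.Agent.Lib.Helper21.RJr Groth.Agent.Lib.Helper21.RJs Groth.Agent.Lib.Helper21.RJt
  Groth.Agent.Lib.Helper21.RJu

abbrev Qn (n : ℕ) : Type := FreeE n ⧸ presIdeal n

noncomputable abbrev qmk (n : ℕ) : FreeE n →+* Qn n := Ideal.Quotient.mk (presIdeal n)

theorem add_selfQ (n : ℕ) (x : Qn n) : x + x = 0 := by
  have h : (2 : ZMod 2) = 0 := by decide
  rw [← two_smul (ZMod 2) x, h, zero_smul]

noncomputable abbrev E1 (n : ℕ) : Qn n := qmk n (evar n 1)
noncomputable abbrev E2 (n : ℕ) : Qn n := qmk n (evar n 2)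
noncomputable abbrev XQ (n : ℕ) : Qn n := qmk n (xvar n)

theorem rel1 (n : ℕ) : E1 n ^ n = 0 := by
  rw [← map_pow, Ideal.Quotient.eq_zero_iff_mem]
  unfold presIdeal
  exact Ideal.subset_span (Or.inl (Set.mem_insert _ _))

theorem rel2 (n : ℕ) : E1 n * XQ n = 0 := by
  rw [← map_mul, Ideal.Quotient.eq_zero_iff_mem]
  unfold presIdeal
  exact Ideal.subset_span (Or.inl (Set.mem_insert_of_mem _ (Set.mem_insert _ _)))

theorem rel3 (n : ℕ) : XQ n ^ 2 = 0 := by
  rw [← map_pow, Ideal.Quotient.eq_zero_iff_mem]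
  unfold presIdeal
  exact Ideal.subset_span (Or.inl (Set.mem_insert_of_mem _ (Set.mem_insert_of_mem _ rfl)))

theorem relH (n : ℕ) (i : Fin (numVars n)) : qmk n (hrel n (i.val + 1)) = 0 := by
  rw [Ideal.Quotient.eq_zero_iff_mem]
  unfold presIdeal
  exact Ideal.subset_span (Or.inr ⟨i, rfl⟩)

theorem qS (n j : ℕ) : qmk n (sPoly n j) = ∑ t ∈ Finset.range (klog n j),
    E1 n ^ (2 ^ klog n j - 2 ^ (t + 1)) * E2 n ^ 2 ^ t := by
  unfold sPoly
  rw [map_sum]
  apply Finset.sum_congr rfl
  intro t _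
  rw [map_mul, map_pow, map_pow]

theorem klog2_pos (n : ℕ) (hn : 2 ≤ n) : 1 ≤ klog n 2 := by
  unfold klog
  have h : (2 * n - 1) / (2 * 2 - 3) = 2 * n - 1 := by norm_num
  rw [h]
  exact Nat.log_pos (by norm_num) (by omega)

/-- half of the truncation exponent of the second variable -/
def m2 (n : ℕ) : ℕ := 2 ^ (klog n 2 - 1)

theorem m2_pos (n : ℕ) : 0 < m2 n := by unfold m2; positivity

theorem two_pow_klog2 (n : ℕ) (hn : 2 ≤ n) : 2 ^ klog n 2 = 2 * m2 n := by
  unfold m2
  have := klog2_pos n hn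
  obtain ⟨K, hK⟩ : ∃ K, klog n 2 = K + 1 := ⟨klog n 2 - 1, by omega⟩
  rw [hK, Nat.add_sub_cancel, pow_succ, mul_comm]

theorem E2_pow_m2 (n : ℕ) (hn : 2 ≤ n) : E2 n ^ m2 n = E1 n ^ (2 ^ klog n 2 - n) * XQ n +
    ∑ t ∈ Finset.range (klog n 2 - 1), E1 n ^ (2 ^ klog n 2 - 2 ^ (t + 1)) * E2 n ^ 2 ^ t := by
  have hnv : 1 < numVars n := by unfold numVars; omega
  have h := relH n ⟨1, hnv⟩
  have e : ((⟨1, hnv⟩ : Fin (numVars n)).val + 1) = 2 := rfl
  rw [e] at h
  unfold hrel at h
  rw [if_pos rfl, map_add, map_mul, map_pow, qS] at h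
  have := klog2_pos n hn
  obtain ⟨K, hK⟩ : ∃ K, klog n 2 = K + 1 := ⟨klog n 2 - 1, by omega⟩
  unfold m2
  rw [hK] at h ⊢
  rw [Nat.add_sub_cancel]
  rw [Finset.sum_range_succ, Nat.sub_self, pow_zero, one_mul, ← add_assoc] at h
  exact ((add_eq_zero_iff' (add_selfQ n) _ _).mp h).symm

open Classical in
/-- generators of the first block -/
noncomputable def G2f (n : ℕ) : Finset (Qn n) :=
  (Finset.univ.image (fun ac : Fin n × Fin (m2 n) => E1 n ^ (ac.1 : ℕ) * E2 n ^ (ac.2 : ℕ))) ∪
    (Finset.univ.image (fun c : Fin (m2 n) => XQ n * E2 n ^ (c : ℕ)))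

theorem G2f_mem1 (n a c : ℕ) (ha : a < n) (hc : c < m2 n) : E1 n ^ a * E2 n ^ c ∈ G2f n := by
  classical
  unfold G2f
  apply Finset.mem_union_left
  exact Finset.mem_image.mpr ⟨(⟨a, ha⟩, ⟨c, hc⟩), Finset.mem_univ _, rfl⟩

theorem G2f_mem2 (n c : ℕ) (hc : c < m2 n) : XQ n * E2 n ^ c ∈ G2f n := by
  classical
  unfold G2f
  apply Finset.mem_union_right
  exact Finset.mem_image.mpr ⟨⟨c, hc⟩, Finset.mem_univ _, rfl⟩

theorem G2f_cases (n : ℕ) (y : Qn n) (hy : y ∈ G2f n) :
    (∃ a c : ℕ, a < n ∧ c < m2 n ∧ y = E1 n ^ a * E2 n ^ c) ∨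
      (∃ c : ℕ, c < m2 n ∧ y = XQ n * E2 n ^ c) := by
  classical
  unfold G2f at hy
  rcases Finset.mem_union.mp hy with h | h
  · obtain ⟨ac, _, rfl⟩ := Finset.mem_image.mp h
    exact Or.inl ⟨ac.1, ac.2, ac.1.isLt, ac.2.isLt, rfl⟩
  · obtain ⟨c, _, rfl⟩ := Finset.mem_image.mp h
    exact Or.inr ⟨c, c.isLt, rfl⟩

theorem card_G2f (n : ℕ) : (G2f n).card ≤ n * m2 n + m2 n := by
  classical
  unfold G2f
  refine (Finset.card_union_le _ _).trans ?_
  apply Nat.add_le_add
  · refine Finset.card_image_le.trans ?_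
    rw [Finset.card_univ, Fintype.card_prod, Fintype.card_fin, Fintype.card_fin]
  · refine Finset.card_image_le.trans ?_
    rw [Finset.card_univ, Fintype.card_fin]

/-- the span of the first block -/
noncomputable abbrev V2 (n : ℕ) : Submodule (ZMod 2) (Qn n) :=
  Submodule.span (ZMod 2) (↑(G2f n) : Set (Qn n))

theorem mem1 (n a c : ℕ) (hc : c < m2 n) : E1 n ^ a * E2 n ^ c ∈ V2 n := by
  by_cases ha : a < n
  · exact Submodule.subset_span (Finset.mem_coe.mpr (G2f_mem1 n a c ha hc))
  · obtain ⟨d, rfl⟩ := Nat.exists_eq_add_of_le (not_lt.mp ha)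
    rw [pow_add, rel1, zero_mul, zero_mul]
    exact zero_mem _

theorem mem2 (n a c : ℕ) (hc : c < m2 n) : E1 n ^ a * XQ n * E2 n ^ c ∈ V2 n := by
  cases a with
  | zero =>
    rw [pow_zero, one_mul]
    exact Submodule.subset_span (Finset.mem_coe.mpr (G2f_mem2 n c hc))
  | succ a =>
    rw [pow_succ, mul_assoc (E1 n ^ a), rel2, mul_zero, zero_mul]
    exact zero_mem _

theorem two_pow_lt_m2 (n t : ℕ) (ht : t ∈ Finset.range (klog n 2 - 1)) : 2 ^ t < m2 n := by
  unfold m2
  exact Nat.pow_lt_pow_right (by norm_num) (Finset.mem_range.mp ht)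

theorem mem3 (n : ℕ) (hn : 2 ≤ n) (a : ℕ) : E1 n ^ a * E2 n ^ m2 n ∈ V2 n := by
  rw [E2_pow_m2 n hn, mul_add, Finset.mul_sum]
  apply add_mem
  · have h : E1 n ^ a * (E1 n ^ (2 ^ klog n 2 - n) * XQ n) =
        E1 n ^ (a + (2 ^ klog n 2 - n)) * XQ n * E2 n ^ 0 := by
      rw [pow_add (E1 n), pow_zero, mul_one, mul_assoc]
    rw [h]; exact mem2 n _ 0 (m2_pos n)
  · apply Submodule.sum_mem
    intro t ht
    have h : E1 n ^ a * (E1 n ^ (2 ^ klog n 2 - 2 ^ (t + 1)) * E2 n ^ 2 ^ t) =
        E1 n ^ (a + (2 ^ klog n 2 - 2 ^ (t + 1))) * E2 n ^ 2 ^ t := by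
      rw [pow_add (E1 n), mul_assoc]
    rw [h]; exact mem1 n _ _ (two_pow_lt_m2 n t ht)

theorem mem4 (n : ℕ) (hn : 2 ≤ n) (a : ℕ) : E1 n ^ a * XQ n * E2 n ^ m2 n ∈ V2 n := by
  rw [E2_pow_m2 n hn, mul_add, Finset.mul_sum]
  apply add_mem
  · have h : E1 n ^ a * XQ n * (E1 n ^ (2 ^ klog n 2 - n) * XQ n) =
        E1 n ^ a * E1 n ^ (2 ^ klog n 2 - n) * XQ n ^ 2 := by ring
    rw [h, rel3, mul_zero]; exact zero_mem _
  · apply Submodule.sum_mem
    intro t ht
    have h : E1 n ^ a * XQ n * (E1 n ^ (2 ^ klog n 2 - 2 ^ (t + 1)) * E2 n ^ 2 ^ t) =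
        E1 n ^ (a + (2 ^ klog n 2 - 2 ^ (t + 1))) * XQ n * E2 n ^ 2 ^ t := by
      rw [pow_add (E1 n)]; ring
    rw [h]; exact mem2 n _ _ (two_pow_lt_m2 n t ht)

theorem V2_mul_E1 (n : ℕ) (v : Qn n) (hv : v ∈ V2 n) : v * E1 n ∈ V2 n := by
  induction hv using Submodule.span_induction with
  | mem y hy =>
    rcases G2f_cases n y (Finset.mem_coe.mp hy) with ⟨a, c, ha, hc, rfl⟩ | ⟨c, hc, rfl⟩
    · have h : E1 n ^ a * E2 n ^ c * E1 n = E1 n ^ (a + 1) * E2 n ^ c := by ring
      rw [h]; exact mem1 n _ _ hc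
    · have h : XQ n * E2 n ^ c * E1 n = (E1 n * XQ n) * E2 n ^ c := by ring
      rw [h, rel2, zero_mul]; exact zero_mem _
  | zero => rw [zero_mul]; exact zero_mem _
  | add x y _ _ hx hy => rw [add_mul]; exact add_mem hx hy
  | smul c x _ hx => rw [smul_mul_assoc]; exact Submodule.smul_mem _ c hx

theorem V2_mul_E2 (n : ℕ) (hn : 2 ≤ n) (v : Qn n) (hv : v ∈ V2 n) : v * E2 n ∈ V2 n := by
  induction hv using Submodule.span_induction with
  | mem y hy =>
    rcases G2f_cases n y (Finset.mem_coe.mp hy) with ⟨a, c, ha, hc, rfl⟩ | ⟨c, hc, rfl⟩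
    · have h : E1 n ^ a * E2 n ^ c * E2 n = E1 n ^ a * E2 n ^ (c + 1) := by ring
      rw [h]
      by_cases hc1 : c + 1 < m2 n
      · exact mem1 n _ _ hc1
      · have hc2 : c + 1 = m2 n := by omega
        rw [hc2]; exact mem3 n hn a
    · have h : XQ n * E2 n ^ c * E2 n = E1 n ^ 0 * XQ n * E2 n ^ (c + 1) := by ring
      rw [h]
      by_cases hc1 : c + 1 < m2 n
      · exact mem2 n _ _ hc1
      · have hc2 : c + 1 = m2 n := by omega
        rw [hc2]; exact mem4 n hn 0
  | zero => rw [zero_mul]; exact zero_mem _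
  | add x y _ _ hx hy => rw [add_mul]; exact add_mem hx hy
  | smul c x _ hx => rw [smul_mul_assoc]; exact Submodule.smul_mem _ c hx

theorem V2_mul_XQ (n : ℕ) (v : Qn n) (hv : v ∈ V2 n) : v * XQ n ∈ V2 n := by
  induction hv using Submodule.span_induction with
  | mem y hy =>
    rcases G2f_cases n y (Finset.mem_coe.mp hy) with ⟨a, c, ha, hc, rfl⟩ | ⟨c, hc, rfl⟩
    · have h : E1 n ^ a * E2 n ^ c * XQ n = E1 n ^ a * XQ n * E2 n ^ c := by ring
      rw [h]; exact mem2 n _ _ hc
    · have h : XQ n * E2 n ^ c * XQ n = XQ n ^ 2 * E2 n ^ c := by ring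
      rw [h, rel3, zero_mul]; exact zero_mem _
  | zero => rw [zero_mul]; exact zero_mem _
  | add x y _ _ hx hy => rw [add_mul]; exact add_mem hx hy
  | smul c x _ hx => rw [smul_mul_assoc]; exact Submodule.smul_mem _ c hx

theorem V2_mul_E1_pow (n a : ℕ) (v : Qn n) (hv : v ∈ V2 n) : v * E1 n ^ a ∈ V2 n := by
  induction a with
  | zero => rw [pow_zero, mul_one]; exact hv
  | succ a ih => rw [pow_succ, ← mul_assoc]; exact V2_mul_E1 n _ ih

theorem V2_mul_E2_pow (n : ℕ) (hn : 2 ≤ n) (a : ℕ) (v : Qn n) (hv : v ∈ V2 n) :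
    v * E2 n ^ a ∈ V2 n := by
  induction a with
  | zero => rw [pow_zero, mul_one]; exact hv
  | succ a ih => rw [pow_succ, ← mul_assoc]; exact V2_mul_E2 n hn _ ih

theorem V2_mul_S (n : ℕ) (hn : 2 ≤ n) (j : ℕ) (v : Qn n) (hv : v ∈ V2 n) :
    v * qmk n (sPoly n j) ∈ V2 n := by
  rw [qS, Finset.mul_sum]
  apply Submodule.sum_mem
  intro t _
  rw [← mul_assoc]
  exact V2_mul_E2_pow n hn _ _ (V2_mul_E1_pow n _ _ hv)

theorem one_mem_V2 (n : ℕ) (hn : 2 ≤ n) : (1 : Qn n) ∈ V2 n := by
  have h : (1 : Qn n) = E1 n ^ 0 * E2 n ^ 0 := by rw [pow_zero, pow_zero, one_mul]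
  rw [h]; exact mem1 n 0 0 (m2_pos n)

theorem Ei_pow (n : ℕ) (i : Fin (numVars n)) (hi : 2 ≤ i.val) :
    qmk n (X (some i)) ^ 2 ^ klog n (i.val + 1) =
      E1 n ^ ((2 * (i.val + 1) - 3) * 2 ^ klog n (i.val + 1) - n) * XQ n +
        E1 n ^ ((2 * (i.val + 1) - 4) * 2 ^ klog n (i.val + 1)) * qmk n (sPoly n (i.val + 1)) := by
  have h := relH n i
  unfold hrel at h
  rw [if_neg (by omega), if_pos ⟨by omega, by have := i.isLt; omega⟩, evar_succ] at h
  simp only [map_add, map_mul, map_pow] at h
  rw [add_assoc] at h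
  exact (add_eq_zero_iff' (add_selfQ n) _ _).mp h

/-- bounds of the remaining variables -/
def cfun (n : ℕ) (i : Fin (numVars n)) : ℕ := if i.val < 2 then 1 else bound n i

theorem cfun_pos (n : ℕ) (i : Fin (numVars n)) : 0 < cfun n i := by
  unfold cfun bound
  split_ifs <;> first | omega | positivity

/-- exponent vector of a monomial in the remaining variables -/
noncomputable def mu (n : ℕ) (r : Fin (numVars n) → ℕ) : Option (Fin (numVars n)) →₀ ℕ :=
  Finsupp.equivFunOnFinite.symm (fun o => Option.elim o 0 r)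

theorem mu_none (n : ℕ) (r : Fin (numVars n) → ℕ) : mu n r none = 0 := rfl

theorem mu_some (n : ℕ) (r : Fin (numVars n) → ℕ) (i : Fin (numVars n)) :
    mu n r (some i) = r i := rfl

theorem mu_add_single (n : ℕ) (r : Fin (numVars n) → ℕ) (i : Fin (numVars n)) (e : ℕ) :
    mu n r + Finsupp.single (some i) e = mu n (Function.update r i (r i + e)) := by
  ext o
  rw [Finsupp.add_apply]
  cases o with
  | none => rw [mu_none, mu_none, Finsupp.single_apply, if_neg (Option.some_ne_none i), add_zero]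
  | some j =>
    rw [mu_some, mu_some, Finsupp.single_apply]
    by_cases hji : j = i
    · subst hji; rw [if_pos rfl, Function.update_self]
    · rw [if_neg (fun h => hji (Option.some.inj h).symm), Function.update_of_ne hji, add_zero]

open Classical in
/-- monomials in the remaining variables -/
noncomputable def Rf (n : ℕ) : Finset (Qn n) :=
  (Fintype.piFinset (fun i : Fin (numVars n) => Finset.range (cfun n i))).image
    (fun r => qmk n (monomial (mu n r) 1))

theorem card_Rf (n : ℕ) : (Rf n).card ≤ ∏ i, cfun n i := by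
  classical
  unfold Rf
  refine Finset.card_image_le.trans ?_
  rw [Fintype.card_piFinset]
  simp

theorem Rf_mem (n : ℕ) (r : Fin (numVars n) → ℕ) (hr : ∀ i, r i < cfun n i) :
    qmk n (monomial (mu n r) 1) ∈ Rf n := by
  classical
  unfold Rf
  refine Finset.mem_image.mpr ⟨r, ?_, rfl⟩
  rw [Fintype.mem_piFinset]
  intro i
  exact Finset.mem_range.mpr (hr i)

theorem Rf_cases (n : ℕ) (w : Qn n) (hw : w ∈ Rf n) :
    ∃ r : Fin (numVars n) → ℕ, (∀ i, r i < cfun n i) ∧ w = qmk n (monomial (mu n r) 1) := by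
  classical
  unfold Rf at hw
  obtain ⟨r, hr, rfl⟩ := Finset.mem_image.mp hw
  rw [Fintype.mem_piFinset] at hr
  exact ⟨r, fun i => Finset.mem_range.mp (hr i), rfl⟩

/-- the span of the monomials in the remaining variables -/
noncomputable abbrev W (n : ℕ) : Submodule (ZMod 2) (Qn n) :=
  Submodule.span (ZMod 2) (↑(Rf n) : Set (Qn n))

theorem one_mem_W (n : ℕ) : (1 : Qn n) ∈ W n := by
  have h0 : mu n (fun _ => 0) = 0 := by
    ext o
    cases o with
    | none => rfl
    | some i => rfl
  have h1 : (1 : Qn n) = qmk n (monomial (mu n (fun _ => 0)) 1) := by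
    rw [h0, ← C_apply, C_1, map_one]
  rw [h1]
  exact Submodule.subset_span (Finset.mem_coe.mpr (Rf_mem n _ (fun i => cfun_pos n i)))

theorem M_mul_gen (n : ℕ) (hn : 2 ≤ n) (o : Option (Fin (numVars n))) (y : Qn n)
    (hy : y ∈ V2 n * W n) : y * qmk n (X o) ∈ V2 n * W n := by
  induction hy using Submodule.mul_induction_on' with
  | add x _ y _ hx hy => rw [add_mul]; exact add_mem hx hy
  | mem_mul_mem v hv w hw =>
    cases o with
    | none =>
      have hx : qmk n (X none) = XQ n := rfl
      rw [hx, mul_right_comm]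
      exact Submodule.mul_mem_mul (V2_mul_XQ n v hv) hw
    | some i =>
      by_cases h0 : i.val = 0
      · have hx : qmk n (X (some i)) = E1 n := by
          show _ = qmk n (evar n 1)
          rw [evar_of_val n i 1 (by omega)]
        rw [hx, mul_right_comm]
        exact Submodule.mul_mem_mul (V2_mul_E1 n v hv) hw
      · by_cases h1 : i.val = 1
        · have hx : qmk n (X (some i)) = E2 n := by
            show _ = qmk n (evar n 2)
            rw [evar_of_val n i 2 (by omega)]
          rw [hx, mul_right_comm]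
          exact Submodule.mul_mem_mul (V2_mul_E2 n hn v hv) hw
        · have hi2 : 2 ≤ i.val := by omega
          have hci : cfun n i = 2 ^ klog n (i.val + 1) := by
            unfold cfun bound
            rw [if_neg (by omega), if_neg (by omega)]
          induction hw using Submodule.span_induction with
          | zero => rw [mul_zero, zero_mul]; exact zero_mem _
          | add x y _ _ hx hy => rw [mul_add, add_mul]; exact add_mem hx hy
          | smul c x _ hx =>
            rw [mul_smul_comm, smul_mul_assoc]; exact Submodule.smul_mem _ c hx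
          | mem w hw =>
            obtain ⟨r, hr, rfl⟩ := Rf_cases n w (Finset.mem_coe.mp hw)
            have hri := hr i
            by_cases hlt : r i + 1 < cfun n i
            · have hmon : monomial (mu n r) (1 : ZMod 2) * X (some i) =
                  monomial (mu n (Function.update r i (r i + 1))) 1 := by
                rw [← mu_add_single, monomial_add_single, pow_one]
              rw [mul_assoc, ← map_mul, hmon]
              apply Submodule.mul_mem_mul hv
              apply Submodule.subset_span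
              apply Finset.mem_coe.mpr
              apply Rf_mem
              intro a
              by_cases hai : a = i
              · subst hai; rw [Function.update_self]; exact hlt
              · rw [Function.update_of_ne hai]; exact hr a
            · have hri' : r i + 1 = 2 ^ klog n (i.val + 1) := by omega
              have hr0 : mu n r = mu n (Function.update r i 0) +
                  Finsupp.single (some i) (r i) := by
                rw [mu_add_single, Function.update_self, zero_add, Function.update_idem,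
                  Function.update_eq_self]
              have hmon : monomial (mu n r) (1 : ZMod 2) * X (some i) =
                  monomial (mu n (Function.update r i 0)) 1 *
                    X (some i) ^ 2 ^ klog n (i.val + 1) := by
                rw [hr0, monomial_add_single, mul_assoc, ← pow_succ, hri']
              rw [mul_assoc, ← map_mul, hmon, map_mul, map_pow, Ei_pow n i hi2, ← mul_assoc,
                mul_right_comm]
              apply Submodule.mul_mem_mul
              · rw [mul_add]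
                apply add_mem
                · rw [← mul_assoc]
                  exact V2_mul_XQ n _ (V2_mul_E1_pow n _ _ hv)
                · rw [← mul_assoc]
                  exact V2_mul_S n hn _ _ (V2_mul_E1_pow n _ _ hv)
              · apply Submodule.subset_span
                apply Finset.mem_coe.mpr
                apply Rf_mem
                intro a
                by_cases hai : a = i
                · subst hai; rw [Function.update_self]; exact cfun_pos n a
                · rw [Function.update_of_ne hai]; exact hr a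

theorem M_top (n : ℕ) (hn : 2 ≤ n) : V2 n * W n = ⊤ := by
  rw [eq_top_iff]
  rintro y -
  obtain ⟨p, rfl⟩ := Ideal.Quotient.mk_surjective y
  induction p using MvPolynomial.induction_on with
  | C c =>
    have h : qmk n (C c) = algebraMap (ZMod 2) (Qn n) c := rfl
    show qmk n (C c) ∈ V2 n * W n
    rw [h, Algebra.algebraMap_eq_smul_one]
    apply Submodule.smul_mem
    have h1 : (1 : Qn n) = 1 * 1 := (mul_one 1).symm
    rw [h1]
    exact Submodule.mul_mem_mul (one_mem_V2 n hn) (one_mem_W n)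
  | add p q hp hq => rw [map_add]; exact add_mem hp hq
  | mul_X p o hp => rw [map_mul]; exact M_mul_gen n hn o _ hp

open scoped Pointwise in
theorem finrank_Q_le (n : ℕ) (hn : 2 ≤ n) : Module.Finite (ZMod 2) (Qn n) ∧
    Module.finrank (ZMod 2) (Qn n) ≤ (n * m2 n + m2 n) * ∏ i, cfun n i := by
  classical
  have htop : Submodule.span (ZMod 2) ((↑(G2f n * Rf n) : Set (Qn n))) = ⊤ := by
    rw [Finset.coe_mul, ← Submodule.span_mul_span]; exact M_top n hn
  constructor
  · rw [Module.finite_def, ← htop]; exact Submodule.fg_span (Finset.finite_toSet _)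
  · rw [← finrank_top (ZMod 2) (Qn n), ← htop]
    refine (finrank_span_finset_le_card _).trans ?_
    refine Finset.card_mul_le.trans ?_
    exact Nat.mul_le_mul (card_G2f n) (card_Rf n)

theorem prod_bound (n : ℕ) (hn : 2 ≤ n) :
    ∏ i, bound n i = n * (2 * m2 n) * ∏ i, cfun n i := by
  classical
  have hnv : 1 < numVars n := by unfold numVars; omega
  obtain ⟨i0, hi0v⟩ : ∃ i0 : Fin (numVars n), i0.val = 0 := ⟨⟨0, by omega⟩, rfl⟩
  obtain ⟨i1, hi1v⟩ : ∃ i1 : Fin (numVars n), i1.val = 1 := ⟨⟨1, hnv⟩, rfl⟩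
  have hd : ∀ i, bound n i =
      (if i = i0 then n else if i = i1 then 2 * m2 n else 1) * cfun n i := by
    intro i
    unfold cfun bound
    by_cases h0 : i.val = 0
    · have hi : i = i0 := Fin.ext (by omega)
      rw [if_pos h0, if_pos hi, if_pos (by omega), mul_one]
    · by_cases h1 : i.val = 1
      · have hi : i = i1 := Fin.ext (by omega)
        have hne : i ≠ i0 := fun h => h0 (by rw [h, hi0v])
        have hk : klog n (i.val + 1) = klog n 2 := by rw [h1]
        rw [if_neg h0, if_neg hne, if_pos hi, if_pos (by omega), mul_one, hk]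
        exact two_pow_klog2 n hn
      · have hne0 : i ≠ i0 := fun h => h0 (by rw [h, hi0v])
        have hne1 : i ≠ i1 := fun h => h1 (by rw [h, hi1v])
        rw [if_neg h0, if_neg hne0, if_neg hne1, if_neg (by omega), one_mul]
  rw [Finset.prod_congr rfl (fun i _ => hd i), Finset.prod_mul_distrib]
  congr 1
  have hne : i0 ≠ i1 := fun h => by rw [h] at hi0v; omega
  rw [Finset.prod_eq_mul i0 i1 hne]
  · rw [if_pos rfl, if_neg hne.symm, if_pos rfl]
  · intro c _ hc
    rw [if_neg hc.1, if_neg hc.2]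
  · intro h; exact absurd (Finset.mem_univ _) h
  · intro h; exact absurd (Finset.mem_univ _) h

theorem prod_bound' (n : ℕ) (hn : 2 ≤ n) :
    ∏ i, bound' n i = 2 * m2 n * ∏ i, cfun n i := by
  classical
  have hnv : 1 < numVars n := by unfold numVars; omega
  obtain ⟨i1, hi1v⟩ : ∃ i1 : Fin (numVars n), i1.val = 1 := ⟨⟨1, hnv⟩, rfl⟩
  have hd : ∀ i, bound' n i = (if i = i1 then 2 * m2 n else 1) * cfun n i := by
    intro i
    unfold bound' cfun bound
    by_cases h0 : i.val = 0
    · have hne : i ≠ i1 := fun h => by rw [h] at h0; omega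
      rw [if_pos h0, if_neg hne, if_pos (by omega), mul_one]
    · by_cases h1 : i.val = 1
      · have hi : i = i1 := Fin.ext (by omega)
        have hk : klog n (i.val + 1) = klog n 2 := by rw [h1]
        rw [if_neg h0, if_neg h0, if_pos hi, if_pos (by omega), mul_one, hk]
        exact two_pow_klog2 n hn
      · have hne1 : i ≠ i1 := fun h => h1 (by rw [h, hi1v])
        rw [if_neg h0, if_neg h0, if_neg hne1, if_neg (by omega), one_mul]
  rw [Finset.prod_congr rfl (fun i _ => hd i), Finset.prod_mul_distrib]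
  congr 1
  rw [Finset.prod_eq_single i1]
  · rw [if_pos rfl]
  · intro c _ hc
    rw [if_neg hc]
  · intro h; exact absurd (Finset.mem_univ _) h

theorem main42 (n : ℕ) (hn : 2 ≤ n) : RingHom.ker (phi n) = presIdeal n := by
  classical
  apply le_antisymm _ (presIdeal_le_ker n hn)
  have hn1 : 1 ≤ n := by omega
  have hτ1 := tau_eps1 n hn1
  have hτ := tau_epsj n hn1
  obtain ⟨hfin, hle⟩ := finrank_Q_le n hn
  haveI := hfin
  haveI := finiteP n
  let φbar : Qn n →ₗ[ZMod 2] P n :=
    (Ideal.Quotient.liftₐ (presIdeal n) (phi n)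
      (fun a ha => presIdeal_le_ker n hn ha)).toLinearMap
  have hφ : ∀ q : FreeE n, φbar (qmk n q) = phi n q := fun q => rfl
  have hrange : LinearMap.range φbar = LinearMap.ker (Lmap (tau n hn1)) := by
    ext x
    rw [LinearMap.mem_range, mem_ker_Lmap, ← mem_fix_iff hn (tau n hn1) hτ1 hτ,
      ← main41 hn (tau n hn1) hτ1 hτ]
    constructor
    · rintro ⟨y, rfl⟩
      obtain ⟨q, rfl⟩ := Ideal.Quotient.mk_surjective y
      exact ⟨q, (hφ q).symm⟩
    · rintro ⟨q, rfl⟩
      exact ⟨qmk n q, hφ q⟩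
  have h1 := LinearMap.finrank_range_add_finrank_ker φbar
  rw [hrange] at h1
  have h2 := two_mul_finrank_fixed hn (tau n hn1) hτ1 hτ
  rw [prod_bound n hn, prod_bound' n hn] at h2
  have hker0 : Module.finrank (ZMod 2) (LinearMap.ker φbar) = 0 := by
    have h3 : 2 * ((n * m2 n + m2 n) * ∏ i, cfun n i) =
        n * (2 * m2 n) * ∏ i, cfun n i + 2 * m2 n * ∏ i, cfun n i := by ring
    omega
  have hbot : LinearMap.ker φbar = ⊥ := Submodule.finrank_eq_zero.mp hker0
  intro q hq
  have hmem : qmk n q ∈ LinearMap.ker φbar := by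
    rw [LinearMap.mem_ker, hφ]; exact hq
  rw [hbot, Submodule.mem_bot] at hmem
  exact Ideal.Quotient.eq_zero_iff_mem.mp hmem

end Groth.Agent.Lib.Helper21.RJv
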