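import Mathlib
import Groth.Prelude.Def_W4c4chowquasisplitPn
import Groth.Prelude.Def_W4c4chowquasisplitPn2
import Groth.Agent.Lib.Helper21.RJr
import Groth.Agent.Lib.Helper21.RJs
import Groth.Agent.Lib.Helper21.RJt
import Groth.Agent.Lib.Helper21.RJu

set_option autoImplicit false
set_option linter.style.haveILetI false
set_option linter.unusedSectionVars false
set_option linter.unusedVariables false
set_option linter.unusedSimpArgs false

/-! The fixed subalgebra modulo `ε₁` for odd `n`. -/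

namespace Groth.Agent.Lib.Helper21.RJw

open MvPolynomial QsChow
open Groth.Agent.Lib.Helper21.RJr Groth.Agent.Lib.Helper21.RJs Groth.Agent.Lib.Helper21.RJt
  Groth.Agent.Lib.Helper21.RJu

theorem twoExp_odd (n : ℕ) (hodd : Odd n) : twoExp n = 0 := by
  unfold twoExp
  apply padicValNat.eq_zero_of_not_dvd
  exact Nat.two_dvd_ne_zero.mpr (Nat.odd_iff.mp hodd)

theorem kprime_one (n : ℕ) : kprime n 1 = twoExp n := by
  unfold kprime; rw [if_pos rfl]

theorem kprime_two (n : ℕ) : kprime n 2 = Nat.log 2 n := by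
  unfold kprime; rw [if_neg (by norm_num), if_pos rfl]

theorem klog2_odd (n : ℕ) (hn : 2 ≤ n) (hodd : Odd n) : klog n 2 = Nat.log 2 n + 1 := by
  unfold klog
  have h : (2 * n - 1) / (2 * 2 - 3) = 2 * n - 1 := by norm_num
  rw [h]
  have h1 : 2 ^ Nat.log 2 n ≤ n := Nat.pow_log_le_self 2 (by omega)
  have h2 : n < 2 ^ (Nat.log 2 n + 1) := Nat.lt_pow_succ_log_self (by norm_num) n
  have hk : 1 ≤ Nat.log 2 n := Nat.log_pos (by norm_num) hn
  have h3 : n ≠ 2 ^ Nat.log 2 n := by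
    intro he
    obtain ⟨K, hK⟩ : ∃ K, Nat.log 2 n = K + 1 := ⟨Nat.log 2 n - 1, by omega⟩
    rw [hK, pow_succ] at he
    have := Nat.odd_iff.mp hodd
    omega
  rw [pow_succ] at h2
  apply Nat.log_eq_of_pow_le_of_lt_pow
  · rw [pow_succ]; omega
  · rw [pow_succ, pow_succ]; omega

theorem log_two_mul_odd (m : ℕ) (hm : Odd m) (hm3 : 3 ≤ m) :
    Nat.log 2 (2 * m) = Nat.log 2 (2 * m - 1) := by
  have h1 : 2 ^ Nat.log 2 (2 * m - 1) ≤ 2 * m - 1 := Nat.pow_log_le_self 2 (by omega)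
  have h2 : 2 * m - 1 < 2 ^ (Nat.log 2 (2 * m - 1) + 1) :=
    Nat.lt_pow_succ_log_self (by norm_num) _
  apply Nat.log_eq_of_pow_le_of_lt_pow
  · omega
  · rw [pow_succ] at h2 ⊢
    by_contra hcon
    have he : m = 2 ^ Nat.log 2 (2 * m - 1) := by omega
    have hk : 1 ≤ Nat.log 2 (2 * m - 1) := Nat.log_pos (by norm_num) (by omega)
    obtain ⟨K, hK⟩ : ∃ K, Nat.log 2 (2 * m - 1) = K + 1 :=
      ⟨Nat.log 2 (2 * m - 1) - 1, by omega⟩
    rw [hK, pow_succ] at he
    have := Nat.odd_iff.mp hm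
    omega

theorem kprime_eq_klog (n : ℕ) (hn : 2 ≤ n) (hodd : Odd n) (j : ℕ) (hj : 3 ≤ j)
    (hjs : j ≤ numVars n) : kprime n j = klog n j := by
  unfold kprime klog
  rw [if_neg (by omega), if_neg (by omega)]
  have hn2 := Nat.odd_iff.mp hodd
  have hjs' : j ≤ n / 2 + 1 := hjs
  have e : 2 * n - 1 + 1 = 2 * n := by omega
  by_cases hdvd : (2 * j - 3) ∣ 2 * n
  · have hdodd : Odd (2 * j - 3) := ⟨j - 2, by omega⟩
    have hcop : Nat.Coprime (2 * j - 3) 2 := Nat.coprime_two_right.mpr hdodd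
    have hdn : (2 * j - 3) ∣ n := hcop.dvd_of_dvd_mul_left hdvd
    obtain ⟨m, hm⟩ := hdn
    have hmodd : Odd m := by
      have h' : Odd ((2 * j - 3) * m) := by rw [← hm]; exact hodd
      exact (Nat.odd_mul.mp h').2
    have hm2 := Nat.odd_iff.mp hmodd
    have hdpos : 0 < 2 * j - 3 := by omega
    have hm3 : 3 ≤ m := by
      have hd_lt : 2 * j - 3 < n := by omega
      have hm1 : m ≠ 1 := by
        rintro rfl
        rw [mul_one] at hm
        omega
      have hm0 : m ≠ 0 := by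
        rintro rfl
        rw [mul_zero] at hm
        omega
      omega
    have hq1 : 2 * n / (2 * j - 3) = 2 * m := by
      have h' : 2 * n = (2 * j - 3) * (2 * m) := by rw [hm]; ring
      rw [h', Nat.mul_div_cancel_left _ hdpos]
    have hX : (2 * m - 1) * (2 * j - 3) + (2 * j - 3) = 2 * n := by
      have h1 : (2 * m - 1) * (2 * j - 3) + (2 * j - 3) = (2 * m - 1 + 1) * (2 * j - 3) := by
        ring
      rw [h1, Nat.sub_add_cancel (by omega : 1 ≤ 2 * m), hm]; ring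
    have hq2 : (2 * n - 1) / (2 * j - 3) = 2 * m - 1 := by
      apply Nat.div_eq_of_lt_le
      · omega
      · have h2 : (2 * m - 1 + 1) * (2 * j - 3) = (2 * m - 1) * (2 * j - 3) + (2 * j - 3) := by
          ring
        rw [h2]; omega
    rw [hq1, hq2]
    exact log_two_mul_odd m hmodd hm3
  · have hq : 2 * n / (2 * j - 3) = (2 * n - 1) / (2 * j - 3) := by
      have h := Nat.succ_div_of_not_dvd (a := 2 * n - 1) (b := 2 * j - 3)
        (by rw [e]; exact hdvd)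
      rw [e] at h; exact h
    rw [hq]

theorem succ_le_B (n : ℕ) (hn : 2 ≤ n) (hodd : Odd n) (j : ℕ) (hj : 3 ≤ j)
    (hjs : j ≤ numVars n) : n + 1 ≤ (2 * j - 3) * 2 ^ klog n j := by
  have hB := le_mul_two_pow_klog n j (by omega) (by omega)
  have hn2 := Nat.odd_iff.mp hodd
  have hjs' : j ≤ n / 2 + 1 := hjs
  rcases Nat.eq_zero_or_pos (klog n j) with h0 | hpos
  · rw [h0, pow_zero, mul_one] at hB ⊢
    omega
  · obtain ⟨K, hK⟩ : ∃ K, klog n j = K + 1 := ⟨klog n j - 1, by omega⟩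
    rw [hK, pow_succ] at hB ⊢
    have h' : (2 * j - 3) * (2 ^ K * 2) = 2 * ((2 * j - 3) * 2 ^ K) := by ring
    rw [h'] at hB ⊢
    omega

/-- exponents of the odd ideal -/
def bO (n : ℕ) (o : Option (Fin (numVars n))) : ℕ :=
  Option.elim o 2 (fun i => 2 ^ kprime n (i.val + 1))

theorem oddIdeal_eq (n : ℕ) (hn : 2 ≤ n) (hodd : Odd n) : oddIdeal n = powI (bO n) := by
  have hi0 : 0 < numVars n := by unfold numVars; omega
  obtain ⟨i0, hi0v⟩ : ∃ i0 : Fin (numVars n), i0.val = 0 := ⟨⟨0, hi0⟩, rfl⟩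
  unfold oddIdeal
  apply le_antisymm
  · rw [Ideal.span_le]
    rintro g (hg | ⟨i, rfl⟩)
    · rcases hg with rfl | rfl
      · have h : evar n 1 = (fun o => (X o : FreeE n) ^ bO n o) (some i0) := by
          show _ = X (some i0) ^ 2 ^ kprime n (i0.val + 1)
          rw [hi0v, zero_add, kprime_one, twoExp_odd n hodd, pow_zero, pow_one,
            evar_of_val n i0 1 (by omega)]
        rw [h]; exact Ideal.subset_span ⟨some i0, rfl⟩
      · exact Ideal.subset_span ⟨none, rfl⟩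
    · show evar n (i.val + 1) ^ 2 ^ kprime n (i.val + 1) ∈ _
      rw [evar_succ]; exact Ideal.subset_span ⟨some i, rfl⟩
  · rw [Ideal.span_le]
    rintro _ ⟨o, rfl⟩
    cases o with
    | none => exact Ideal.subset_span (Or.inl (Set.mem_insert_of_mem _ rfl))
    | some i =>
      show (X (some i) : FreeE n) ^ 2 ^ kprime n (i.val + 1) ∈ _
      rw [← evar_succ]
      exact Ideal.subset_span (Or.inr ⟨i, rfl⟩)

theorem prod_bO (n : ℕ) (hn : 2 ≤ n) (hodd : Odd n) : ∏ o, bO n o = ∏ i, bound' n i := by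
  classical
  have hnv : 1 < numVars n := by unfold numVars; omega
  obtain ⟨i1, hi1v⟩ : ∃ i1 : Fin (numVars n), i1.val = 1 := ⟨⟨1, hnv⟩, rfl⟩
  rw [Fintype.prod_option]
  show 2 * ∏ i : Fin (numVars n), 2 ^ kprime n (i.val + 1) = _
  have hd : ∀ i, bound' n i = (if i = i1 then 2 else 1) * 2 ^ kprime n (i.val + 1) := by
    intro i
    unfold bound' bound
    by_cases h0 : i.val = 0
    · have hne : i ≠ i1 := fun h => by rw [h] at h0; omega
      rw [if_pos h0, if_neg hne, h0, zero_add, kprime_one, twoExp_odd n hodd, pow_zero, mul_one]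
    · by_cases h1 : i.val = 1
      · have hi : i = i1 := Fin.ext (by omega)
        rw [if_neg h0, if_neg h0, if_pos hi, h1]
        show 2 ^ klog n 2 = 2 * 2 ^ kprime n 2
        rw [klog2_odd n hn hodd, kprime_two, pow_succ, mul_comm]
      · have hne1 : i ≠ i1 := fun h => h1 (by rw [h, hi1v])
        rw [if_neg h0, if_neg h0, if_neg hne1, one_mul,
          kprime_eq_klog n hn hodd (i.val + 1) (by omega) i.isLt]
  rw [Finset.prod_congr rfl (fun i _ => hd i), Finset.prod_mul_distrib]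
  congr 1
  rw [Finset.prod_eq_single i1]
  · rw [if_pos rfl]
  · intro c _ hc
    rw [if_neg hc]
  · intro h; exact absurd (Finset.mem_univ _) h

section Tau

variable {n : ℕ} (hn : 2 ≤ n) (τ : P n →ₐ[ZMod 2] P n) (hτ1 : τ (eps n 1) = eps n 1)
  (hτ : ∀ j : ℕ, 2 ≤ j → j ≤ numVars n → τ (eps n j) = eps n j + eps n 1 ^ (2 * j - 3))
include hn hτ1 hτ

/-- membership in `ε₁ · P^τ` -/
def InN (x : P n) : Prop := ∃ w : P n, τ w = w ∧ x = eps n 1 * w

theorem InN_zero : InN τ (0 : P n) := ⟨0, map_zero _, (mul_zero _).symm⟩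

theorem InN_add (x y : P n) (hx : InN τ x) (hy : InN τ y) : InN τ (x + y) := by
  obtain ⟨w, hw, rfl⟩ := hx
  obtain ⟨w', hw', rfl⟩ := hy
  exact ⟨w + w', by rw [map_add, hw, hw'], (mul_add _ _ _).symm⟩

theorem InN_mul (f : P n) (hf : τ f = f) (x : P n) (hx : InN τ x) : InN τ (f * x) := by
  obtain ⟨w, hw, rfl⟩ := hx
  exact ⟨f * w, by rw [map_mul, hf, hw], by ring⟩

theorem InN_pow_mul (A : ℕ) (hA : 1 ≤ A) (Y : P n) (hY : τ Y = Y) :
    InN τ (eps n 1 ^ A * Y) := by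
  obtain ⟨A', rfl⟩ : ∃ A', A = A' + 1 := ⟨A - 1, by omega⟩
  refine ⟨eps n 1 ^ A' * Y, by rw [map_mul, map_pow, hτ1, hY], by ring⟩

theorem InN_sum {ι : Type*} (s : Finset ι) (f : ι → P n) (hf : ∀ i ∈ s, InN τ (f i)) :
    InN τ (∑ i ∈ s, f i) := by
  classical
  induction s using Finset.induction_on with
  | empty => rw [Finset.sum_empty]; exact InN_zero hn τ hτ1 hτ
  | insert a s ha ih =>
    rw [Finset.sum_insert ha]
    exact InN_add hn τ hτ1 hτ _ _ (hf a (Finset.mem_insert_self _ _))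
      (ih (fun i hi => hf i (Finset.mem_insert_of_mem hi)))

theorem InN_eps2 (M : ℕ) (hM : n ≤ M) : InN τ (eps n 1 ^ M * eps n 2) := by
  obtain ⟨M', rfl⟩ : ∃ M', M = M' + 1 := ⟨M - 1, by omega⟩
  refine ⟨eps n 1 ^ M' * eps n 2, ?_, by ring⟩
  rw [map_mul, map_pow, hτ1, tau_eps2 hn τ hτ1 hτ, mul_add, ← pow_succ]
  obtain ⟨c, hc⟩ := Nat.exists_eq_add_of_le hM
  rw [hc, pow_add, eps1_pow, zero_mul, add_zero]

theorem fix_term (e t : ℕ) : τ (eps n 1 ^ e * (eps n 2 ^ 2 + eps n 1 * eps n 2) ^ 2 ^ t) =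
    eps n 1 ^ e * (eps n 2 ^ 2 + eps n 1 * eps n 2) ^ 2 ^ t := by
  rw [map_mul, map_pow, map_pow, hτ1, tau_e2bar hn τ hτ1 hτ]

theorem fix_sum (k : ℕ) : τ (∑ t ∈ Finset.range k,
    eps n 1 ^ (2 ^ k - 2 ^ (t + 1)) * (eps n 2 ^ 2 + eps n 1 * eps n 2) ^ 2 ^ t) =
    ∑ t ∈ Finset.range k,
      eps n 1 ^ (2 ^ k - 2 ^ (t + 1)) * (eps n 2 ^ 2 + eps n 1 * eps n 2) ^ 2 ^ t := by
  rw [map_sum]
  apply Finset.sum_congr rfl
  intro t _
  exact fix_term hn τ hτ1 hτ _ _

theorem InN_gen1 (hodd : Odd n) :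
    InN τ ((eps n 2 ^ 2 + eps n 1 * eps n 2) ^ 2 ^ Nat.log 2 n) := by
  have hnv : 2 ≤ numVars n := by unfold numVars; omega
  have hk := key_identity (add_self' n) (eps n 1) (eps n 2) (klog n 2)
  rw [eps_pow_klog n 2 le_rfl hnv, klog2_odd n hn hodd, Finset.sum_range_succ, Nat.sub_self,
    pow_zero, one_mul] at hk
  have h2 : n < 2 ^ (Nat.log 2 n + 1) := Nat.lt_pow_succ_log_self (by norm_num) n
  have hk' : (eps n 2 ^ 2 + eps n 1 * eps n 2) ^ 2 ^ Nat.log 2 n =
      ∑ t ∈ Finset.range (Nat.log 2 n), eps n 1 ^ (2 ^ (Nat.log 2 n + 1) - 2 ^ (t + 1)) *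
        (eps n 2 ^ 2 + eps n 1 * eps n 2) ^ 2 ^ t +
      eps n 1 ^ (2 ^ (Nat.log 2 n + 1) - 1) * eps n 2 := by
    have h0 : (eps n 2 ^ 2 + eps n 1 * eps n 2) ^ 2 ^ Nat.log 2 n +
        (∑ t ∈ Finset.range (Nat.log 2 n), eps n 1 ^ (2 ^ (Nat.log 2 n + 1) - 2 ^ (t + 1)) *
          (eps n 2 ^ 2 + eps n 1 * eps n 2) ^ 2 ^ t +
        eps n 1 ^ (2 ^ (Nat.log 2 n + 1) - 1) * eps n 2) = 0 := by
      rw [hk]; ring
    exact (add_eq_zero_iff' (add_self' n) _ _).mp h0
  rw [hk']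
  apply InN_add hn τ hτ1 hτ
  · apply InN_sum hn τ hτ1 hτ
    intro t ht
    have ht' : t + 1 < Nat.log 2 n + 1 := by have := Finset.mem_range.mp ht; omega
    have hlt : 2 ^ (t + 1) < 2 ^ (Nat.log 2 n + 1) := Nat.pow_lt_pow_right (by norm_num) ht'
    apply InN_pow_mul hn τ hτ1 hτ _ (by omega)
    rw [map_pow, tau_e2bar hn τ hτ1 hτ]
  · exact InN_eps2 hn τ hτ1 hτ _ (by omega)

theorem InN_genj (hodd : Odd n) (j : ℕ) (hj : 3 ≤ j) (hjs : j ≤ numVars n) :
    InN τ ((eps n j + eps n 1 ^ (2 * j - 4) * eps n 2) ^ 2 ^ klog n j) := by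
  have hk := key_identity (add_self' n) (eps n 1) (eps n 2) (klog n j)
  have hB := succ_le_B n hn hodd j hj hjs
  have hA : (2 * j - 4) * 2 ^ klog n j + 2 ^ klog n j = (2 * j - 3) * 2 ^ klog n j := by
    have h' : 2 * j - 3 = (2 * j - 4) + 1 := by omega
    rw [h', add_mul, one_mul]
  have hpow1 : (eps n j + eps n 1 ^ (2 * j - 4) * eps n 2) ^ 2 ^ klog n j =
      eps n 1 ^ ((2 * j - 4) * 2 ^ klog n j) * eps n 2 ^ 2 ^ klog n j := by
    rw [pow_two_pow_add (add_self' n), eps_pow_klog n j (by omega) hjs, zero_add, mul_pow,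
      ← pow_mul]
  have hT : 1 ≤ 2 ^ klog n j := Nat.one_le_two_pow
  have hY1 : eps n 1 ^ ((2 * j - 4) * 2 ^ klog n j) * (eps n 1 ^ (2 ^ klog n j - 1) * eps n 2) =
      eps n 1 ^ ((2 * j - 3) * 2 ^ klog n j - 1) * eps n 2 := by
    rw [← mul_assoc, ← pow_add]; congr 2; omega
  rw [hpow1, hk, mul_add, hY1]
  apply InN_add hn τ hτ1 hτ
  · apply InN_pow_mul hn τ hτ1 hτ
    · have h1 : 1 ≤ 2 * j - 4 := by omega
      calc 1 = 1 * 1 := rfl
        _ ≤ (2 * j - 4) * 2 ^ klog n j := Nat.mul_le_mul h1 hT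
    · exact fix_sum hn τ hτ1 hτ _
  · exact InN_eps2 hn τ hτ1 hτ _ (by omega)

theorem InN_of_mem_oddIdeal (hodd : Odd n) (q : FreeE n) (hq : q ∈ oddIdeal n) :
    InN τ (phi n q) := by
  unfold oddIdeal at hq
  induction hq using Submodule.span_induction with
  | zero => rw [map_zero]; exact InN_zero hn τ hτ1 hτ
  | add x y _ _ hx hy => rw [map_add]; exact InN_add hn τ hτ1 hτ _ _ hx hy
  | smul a x _ hx =>
    rw [smul_eq_mul, map_mul]
    exact InN_mul hn τ hτ1 hτ (phi n a) (phi_fixed hn τ hτ1 hτ a) _ hx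
  | mem g hg =>
    rcases hg with hg | ⟨i, rfl⟩
    · rcases hg with rfl | rfl
      · rw [phi_evar1 n hn]
        exact ⟨1, map_one _, (mul_one _).symm⟩
      · have h0 : phi n (xvar n ^ 2) = 0 := by
          have hmem : xvar n ^ 2 ∈ presIdeal n := by
            unfold presIdeal
            exact Ideal.subset_span
              (Or.inl (Set.mem_insert_of_mem _ (Set.mem_insert_of_mem _ rfl)))
          exact presIdeal_le_ker n hn hmem
        rw [h0]; exact InN_zero hn τ hτ1 hτ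
    · show InN τ (phi n (evar n (i.val + 1) ^ 2 ^ kprime n (i.val + 1)))
      rw [map_pow]
      by_cases h0 : i.val = 0
      · have e : i.val + 1 = 1 := by omega
        rw [e, phi_evar1 n hn]
        have h1 : eps n 1 ^ 2 ^ kprime n 1 = eps n 1 ^ 2 ^ kprime n 1 * 1 := (mul_one _).symm
        rw [h1]
        exact InN_pow_mul hn τ hτ1 hτ _ Nat.one_le_two_pow 1 (map_one _)
      · by_cases h1 : i.val = 1
        · have e : i.val + 1 = 2 := by omega
          rw [e, phi_evar2 n hn, kprime_two]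
          exact InN_gen1 hn τ hτ1 hτ hodd
        · rw [phi_evarj n hn (i.val + 1) (by omega) i.isLt,
            kprime_eq_klog n hn hodd (i.val + 1) (by omega) i.isLt]
          exact InN_genj hn τ hτ1 hτ hodd (i.val + 1) (by omega) i.isLt

theorem InN_iff_mem_range (x : P n) : InN τ x ↔ x ∈ LinearMap.range (Lmap τ) := by
  rw [range_Lmap hn τ hτ1 hτ, Submodule.mem_map]
  constructor
  · rintro ⟨w, hw, rfl⟩
    exact ⟨w, (mem_ker_Lmap τ w).mpr hw, rfl⟩
  · rintro ⟨w, hw, rfl⟩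
    exact ⟨w, (mem_ker_Lmap τ w).mp hw, rfl⟩

theorem range_le_ker : LinearMap.range (Lmap τ) ≤ LinearMap.ker (Lmap τ) := by
  intro x hx
  obtain ⟨w, hw, rfl⟩ := (InN_iff_mem_range hn τ hτ1 hτ x).mpr hx
  rw [mem_ker_Lmap, map_mul, hτ1, hw]

theorem main47 (hodd : Odd n) (q : FreeE n) :
    (∃ w : P n, τ w = w ∧ phi n q = eps n 1 * w) ↔ q ∈ oddIdeal n := by
  classical
  constructor
  swap
  · exact InN_of_mem_oddIdeal hn τ hτ1 hτ hodd q
  intro hq
  haveI := finiteP n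
  -- the quotient map to `P / ε₁ P^τ`
  let Nm : Submodule (ZMod 2) (P n) := LinearMap.range (Lmap τ)
  let Fm : Submodule (ZMod 2) (P n) := LinearMap.ker (Lmap τ)
  let Φ : FreeE n →ₗ[ZMod 2] (P n ⧸ Nm) := Nm.mkQ ∘ₗ (phi n).toLinearMap
  let Od : Submodule (ZMod 2) (FreeE n) := (oddIdeal n).restrictScalars (ZMod 2)
  have hΦ : ∀ p : FreeE n, Φ p = 0 ↔ InN τ (phi n p) := by
    intro p
    rw [InN_iff_mem_range hn τ hτ1 hτ]
    exact Submodule.Quotient.mk_eq_zero Nm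
  have hle : Od ≤ LinearMap.ker Φ := by
    intro p hp
    rw [LinearMap.mem_ker, hΦ]
    exact InN_of_mem_oddIdeal hn τ hτ1 hτ hodd p hp
  let Θ : (FreeE n ⧸ Od) →ₗ[ZMod 2] (P n ⧸ Nm) := Od.liftQ Φ hle
  -- dimension of the source
  have hfinQ : Module.Finite (ZMod 2) (FreeE n ⧸ powI (bO n)) := finite_quot (bO n)
  have hrkQ : Module.finrank (ZMod 2) (FreeE n ⧸ powI (bO n)) = ∏ i, bound' n i := by
    rw [finrank_quot (bO n), prod_bO n hn hodd]
  have hOd : Od = (powI (bO n)).restrictScalars (ZMod 2) := by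
    show (oddIdeal n).restrictScalars (ZMod 2) = _
    rw [oddIdeal_eq n hn hodd]
  let eQ : (FreeE n ⧸ Od) ≃ₗ[ZMod 2] (FreeE n ⧸ powI (bO n)) :=
    (Submodule.quotEquivOfEq _ _ hOd).trans
      (Submodule.Quotient.restrictScalarsEquiv (ZMod 2) (powI (bO n)))
  haveI : Module.Finite (ZMod 2) (FreeE n ⧸ Od) := Module.Finite.equiv eQ.symm
  have hsrc : Module.finrank (ZMod 2) (FreeE n ⧸ Od) = ∏ i, bound' n i := by
    rw [eQ.finrank_eq, hrkQ]
  -- dimension of the range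
  have hrangeφ : LinearMap.range (phi n).toLinearMap = Fm := by
    ext x
    rw [LinearMap.mem_range]
    show _ ↔ x ∈ LinearMap.ker (Lmap τ)
    rw [mem_ker_Lmap, ← mem_fix_iff hn τ hτ1 hτ, ← main41 hn τ hτ1 hτ]
    constructor
    · rintro ⟨y, rfl⟩; exact ⟨y, rfl⟩
    · rintro ⟨y, rfl⟩; exact ⟨y, rfl⟩
  have hrangeΘ : LinearMap.range Θ = Fm.map Nm.mkQ := by
    show LinearMap.range (Od.liftQ Φ hle) = _
    rw [Submodule.range_liftQ]
    show LinearMap.range (Nm.mkQ ∘ₗ (phi n).toLinearMap) = _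
    rw [LinearMap.range_comp, hrangeφ]
  have h1 := LinearMap.finrank_range_add_finrank_ker (Lmap τ)
  rw [finrank_P] at h1
  have h2 := two_mul_finrank_fixed hn τ hτ1 hτ
  have h5 := LinearMap.finrank_range_add_finrank_ker (Nm.mkQ.domRestrict Fm)
  rw [LinearMap.range_domRestrict, LinearMap.ker_domRestrict, Submodule.ker_mkQ] at h5
  have h6 : Module.finrank (ZMod 2) (Nm.comap Fm.subtype) = Module.finrank (ZMod 2) Nm :=
    (Submodule.comapSubtypeEquivOfLe (range_le_ker hn τ hτ1 hτ)).finrank_eq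
  have h7 := LinearMap.finrank_range_add_finrank_ker Θ
  rw [hrangeΘ, hsrc] at h7
  have e1 : Module.finrank (ZMod 2) Fm =
      Module.finrank (ZMod 2) (LinearMap.ker (Lmap τ)) := rfl
  have e2 : Module.finrank (ZMod 2) Nm =
      Module.finrank (ZMod 2) (LinearMap.range (Lmap τ)) := rfl
  have hker0 : Module.finrank (ZMod 2) (LinearMap.ker Θ) = 0 := by omega
  have hbot : LinearMap.ker Θ = ⊥ := Submodule.finrank_eq_zero.mp hker0
  have hmem : (Submodule.Quotient.mk q : FreeE n ⧸ Od) ∈ LinearMap.ker Θ := by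
    rw [LinearMap.mem_ker]
    show Φ q = 0
    exact (hΦ q).mpr hq
  rw [hbot, Submodule.mem_bot, Submodule.Quotient.mk_eq_zero] at hmem
  exact hmem

end Tau

end Groth.Agent.Lib.Helper21.RJw
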