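import Mathlib
import Groth.Prelude.Def_W4c4chowquasisplitPn
import Groth.Prelude.Def_W4c4chowquasisplitPn2
import Groth.Agent.Lib.Helper21.RJr
import Groth.Agent.Lib.Helper21.RJs
import Groth.Agent.Lib.Helper21.RJt
import Groth.Agent.Lib.Helper21.RJu
import Groth.Agent.Lib.Helper21.RJv
import Groth.Agent.Lib.Helper21.RJw

set_option autoImplicit false
set_option linter.style.haveILetI false
set_option linter.unusedSectionVars false
set_option linter.unusedVariables false
set_option linter.unusedSimpArgs false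

/-! The presentation of the fixed subalgebra for `n` a power of two, by elimination of `x`. -/

namespace Groth.Agent.Lib.Helper21.RJx

open MvPolynomial QsChow
open Groth.Agent.Lib.Helper21.RJr Groth.Agent.Lib.Helper21.RJs Groth.Agent.Lib.Helper21.RJt
  Groth.Agent.Lib.Helper21.RJu Groth.Agent.Lib.Helper21.RJv Groth.Agent.Lib.Helper21.RJw

theorem add_selfP (n : ℕ) (x : FreeP n) : x + x = 0 := by
  have h : (2 : ZMod 2) = 0 := by decide
  rw [← two_smul (ZMod 2) x, h, zero_smul]

theorem not_dvd_two_pow (d m : ℕ) (hd : 3 ≤ d) (hodd : d % 2 = 1) : ¬ d ∣ 2 ^ m := by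
  intro h
  obtain ⟨r, -, hr⟩ := (Nat.dvd_prime_pow Nat.prime_two).mp h
  cases r with
  | zero => rw [pow_zero] at hr; omega
  | succ r => rw [pow_succ] at hr; omega

theorem one_le_of_pow (n b : ℕ) (hnb : n = 2 ^ b) : 1 ≤ n := by
  rw [hnb]; exact Nat.one_le_two_pow

theorem klog_two (n b : ℕ) (hnb : n = 2 ^ b) : klog n 2 = b := by
  unfold klog
  have h : (2 * n - 1) / (2 * 2 - 3) = 2 * n - 1 := by norm_num
  rw [h]
  have hp : 0 < 2 ^ b := by positivity
  rw [Nat.log_eq_iff (Or.inr ⟨by norm_num, by omega⟩)]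
  constructor
  · omega
  · rw [pow_succ]; omega

theorem kprime_one_pow (n b : ℕ) (hnb : n = 2 ^ b) : kprime n 1 = b := by
  rw [kprime_one, hnb]; unfold twoExp; exact padicValNat.prime_pow b

theorem kprime_two_pow (n b : ℕ) (hnb : n = 2 ^ b) : kprime n 2 = b := by
  rw [kprime_two, hnb]; exact Nat.log_pow (by norm_num) b

theorem kprime_eq_klog_pow (n b : ℕ) (hnb : n = 2 ^ b) (j : ℕ) (hj : 3 ≤ j) :
    kprime n j = klog n j := by
  have hn1 : 1 ≤ n := one_le_of_pow n b hnb
  unfold kprime klog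
  rw [if_neg (by omega), if_neg (by omega)]
  have h : 2 * n = (2 * n - 1) + 1 := by omega
  have hnd : ¬ (2 * j - 3) ∣ (2 * n - 1) + 1 := by
    rw [← h, hnb, ← pow_succ']
    exact not_dvd_two_pow _ _ (by omega) (by omega)
  have e : 2 * n / (2 * j - 3) = (2 * n - 1) / (2 * j - 3) := by
    have := Nat.succ_div_of_not_dvd hnd
    rwa [← h] at this
  rw [e]

theorem B_gt (n b : ℕ) (hnb : n = 2 ^ b) (j : ℕ) (hj : 3 ≤ j) :
    n < (2 * j - 3) * 2 ^ klog n j := by
  have hn1 : 1 ≤ n := one_le_of_pow n b hnb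
  have hB := le_mul_two_pow_klog n j hn1 (by omega)
  rcases Nat.lt_or_ge n ((2 * j - 3) * 2 ^ klog n j) with h | h
  · exact h
  · exfalso
    have heq : (2 * j - 3) * 2 ^ klog n j = n := le_antisymm h hB
    have hdvd : (2 * j - 3) ∣ 2 ^ b := by rw [← hnb]; exact Dvd.intro _ heq
    exact not_dvd_two_pow (2 * j - 3) b (by omega) (by omega) hdvd

theorem A_ge (n b : ℕ) (hnb : n = 2 ^ b) (j : ℕ) (hj : 3 ≤ j) :
    n ≤ (2 * j - 4) * 2 ^ klog n j := by
  have hB := B_gt n b hnb j hj
  generalize klog n j = k at hB ⊢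
  rw [hnb] at hB ⊢
  rcases le_or_gt b k with hbk | hkb
  · have h1 : 2 ^ b ≤ 2 ^ k := Nat.pow_le_pow_right (by norm_num) hbk
    have h2 : 1 * 2 ^ k ≤ (2 * j - 4) * 2 ^ k := Nat.mul_le_mul_right _ (by omega)
    omega
  · obtain ⟨d, hd⟩ : ∃ d, b = k + (d + 1) := ⟨b - k - 1, by omega⟩
    rw [hd, pow_add] at hB ⊢
    have h1 : 2 ^ (d + 1) < 2 * j - 3 := by
      rw [mul_comm (2 * j - 3)] at hB
      exact Nat.lt_of_mul_lt_mul_left hB
    have h2 : 2 ^ (d + 1) ≤ 2 * j - 4 := by omega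
    calc 2 ^ k * 2 ^ (d + 1) ≤ 2 ^ k * (2 * j - 4) := Nat.mul_le_mul_left _ h2
      _ = (2 * j - 4) * 2 ^ k := mul_comm _ _

/-- the sum replacing `x` -/
noncomputable def S2 (n : ℕ) : FreeP n :=
  ∑ t ∈ Finset.range (klog n 2), evarE n 1 ^ (2 ^ klog n 2 - 2 ^ (t + 1)) * evarE n 2 ^ 2 ^ t

/-- images of the variables under the elimination map -/
noncomputable def sigmaFun (n : ℕ) : Option (Fin (numVars n)) → FreeP n
  | none => S2 n
  | some i => X i

/-- the elimination map -/
noncomputable def sigma (n : ℕ) : FreeE n →ₐ[ZMod 2] FreeP n := aeval (sigmaFun n)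

/-- the inclusion of the polynomials without `x` -/
noncomputable def iota (n : ℕ) : FreeP n →ₐ[ZMod 2] FreeE n := rename some

theorem sigma_iota (n : ℕ) (p : FreeP n) : sigma n (iota n p) = p := by
  unfold sigma iota
  rw [aeval_rename]
  have h : (sigmaFun n ∘ some) = X := rfl
  rw [h, aeval_X_left]; rfl

theorem psi_eq (n : ℕ) (p : FreeP n) : psi n p = phi n (iota n p) := by
  unfold psi phi iota
  rw [aeval_rename]; rfl

theorem iota_evarE (n j : ℕ) : iota n (evarE n j) = evar n j := by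
  unfold iota evarE evar
  split_ifs with h
  · exact rename_X _ _
  · exact map_zero _

theorem sigma_evar (n j : ℕ) : sigma n (evar n j) = evarE n j := by
  unfold sigma evarE evar
  split_ifs with h
  · exact aeval_X _ _
  · exact map_zero _

theorem sigma_xvar (n : ℕ) : sigma n (xvar n) = S2 n := by
  unfold sigma xvar; exact aeval_X _ _

theorem iota_S2 (n : ℕ) : iota n (S2 n) = sPoly n 2 := by
  unfold S2 sPoly
  rw [map_sum]
  apply Finset.sum_congr rfl
  intro t _
  rw [map_mul, map_pow, map_pow, iota_evarE, iota_evarE]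

theorem sigma_sPoly2 (n : ℕ) : sigma n (sPoly n 2) = S2 n := by
  unfold S2 sPoly
  rw [map_sum]
  apply Finset.sum_congr rfl
  intro t _
  rw [map_mul, map_pow, map_pow, sigma_evar, sigma_evar]

section Main

variable (n : ℕ) (hn : 2 ≤ n) (b : ℕ) (hnb : n = 2 ^ b)
include hn hnb

theorem phi_sPoly2_pow : phi n (sPoly n 2) = eps n 1 ^ (n - 1) * eps n 2 := by
  have h := phi_hrel2 n hn
  unfold hrel at h
  rw [if_pos rfl, map_add, map_mul, map_pow, phi_evar1 n hn, phi_xvar n hn,
    klog_two n b hnb] at h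
  have e : 2 ^ b - n = 0 := by omega
  rw [e, pow_zero, one_mul] at h
  exact ((add_eq_zero_iff' (add_self' n) _ _).mp h).symm

theorem psi_S2 : psi n (S2 n) = eps n 1 ^ (n - 1) * eps n 2 := by
  rw [psi_eq, iota_S2, phi_sPoly2_pow n hn b hnb]

theorem psi_evarE1 : psi n (evarE n 1) = eps n 1 := by
  rw [psi_eq, iota_evarE, phi_evar1 n hn]

theorem psi_evarE2 : psi n (evarE n 2) = eps n 2 ^ 2 + eps n 1 * eps n 2 := by
  rw [psi_eq, iota_evarE, phi_evar2 n hn]

theorem psi_evarEj (j : ℕ) (hj : 3 ≤ j) (hjs : j ≤ numVars n) :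
    psi n (evarE n j) = eps n j + eps n 1 ^ (2 * j - 4) * eps n 2 := by
  rw [psi_eq, iota_evarE, phi_evarj n hn j hj hjs]

theorem psi_sigma (q : FreeE n) : psi n (sigma n q) = phi n q := by
  have h : (psi n).comp (sigma n) = phi n := by
    apply MvPolynomial.algHom_ext
    intro o
    cases o with
    | none =>
      rw [AlgHom.comp_apply]
      have h1 : sigma n (X none) = S2 n := aeval_X _ _
      rw [h1, psi_S2 n hn b hnb]
      exact (phi_X n none).symm
    | some i =>
      rw [AlgHom.comp_apply]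
      have h1 : sigma n (X (some i)) = X i := aeval_X _ _
      rw [h1, phi_X]
      exact aeval_X _ _
  rw [← h]; rfl

theorem gen_mem (j : ℕ) (hj : 1 ≤ j) (hjs : j ≤ numVars n) :
    evarE n j ^ 2 ^ kprime n j ∈ powIdeal n := by
  obtain ⟨i, hi⟩ : ∃ i : Fin (numVars n), i.val + 1 = j :=
    ⟨⟨j - 1, by omega⟩, by show j - 1 + 1 = j; omega⟩
  rw [← hi]; unfold powIdeal
  exact Ideal.subset_span (Or.inr ⟨i, rfl⟩)

theorem Y1_pow_mem : evarE n 1 ^ n ∈ powIdeal n := by
  have h := gen_mem n hn b hnb 1 le_rfl (by unfold numVars; omega)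
  rw [kprime_one_pow n b hnb, ← hnb] at h
  exact h

theorem Y2_pow_mem : evarE n 2 ^ 2 ^ b ∈ powIdeal n := by
  have h := gen_mem n hn b hnb 2 (by norm_num) (by unfold numVars; omega)
  rw [kprime_two_pow n b hnb] at h
  exact h

theorem special_eq : (∑ t ∈ Finset.range (kprime n 2),
    evarE n 1 ^ (2 ^ kprime n 2 - 2 ^ (t + 1)) * evarE n 2 ^ 2 ^ t) = S2 n := by
  unfold S2
  rw [kprime_two_pow n b hnb, klog_two n b hnb]

theorem Y1_S2_mem : evarE n 1 * S2 n ∈ powIdeal n := by
  rw [← special_eq n hn b hnb]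
  unfold powIdeal
  exact Ideal.subset_span (Or.inl (Set.mem_singleton _))

theorem S2_sq_mem : S2 n ^ 2 ∈ powIdeal n := by
  unfold S2
  rw [sq_sum (add_selfP n), klog_two n b hnb]
  apply Ideal.sum_mem
  intro t ht
  have htb : t < b := Finset.mem_range.mp ht
  rw [mul_pow, ← pow_mul, ← pow_mul]
  by_cases h : t + 1 = b
  · apply Ideal.mul_mem_left
    have e : 2 ^ t * 2 = 2 ^ b := by rw [← pow_succ, h]
    rw [e]; exact Y2_pow_mem n hn b hnb
  · apply Ideal.mul_mem_right
    have h1 : 2 ^ (t + 1) * 2 ≤ 2 ^ b := by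
      rw [← pow_succ]; exact Nat.pow_le_pow_right (by norm_num) (by omega)
    obtain ⟨c, hc⟩ : ∃ c, (2 ^ b - 2 ^ (t + 1)) * 2 = n + c :=
      ⟨(2 ^ b - 2 ^ (t + 1)) * 2 - n, by omega⟩
    rw [hc, pow_add]; exact Ideal.mul_mem_right _ _ (Y1_pow_mem n hn b hnb)

theorem pres_le_comap : presIdeal n ≤ Ideal.comap (sigma n) (powIdeal n) := by
  unfold presIdeal
  rw [Ideal.span_le]
  rintro g (hg | ⟨i, rfl⟩)
  · rcases hg with rfl | rfl | rfl
    · show sigma n (evar n 1 ^ n) ∈ powIdeal n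
      rw [map_pow, sigma_evar]
      exact Y1_pow_mem n hn b hnb
    · show sigma n (evar n 1 * xvar n) ∈ powIdeal n
      rw [map_mul, sigma_evar, sigma_xvar]
      exact Y1_S2_mem n hn b hnb
    · show sigma n (xvar n ^ 2) ∈ powIdeal n
      rw [map_pow, sigma_xvar]
      exact S2_sq_mem n hn b hnb
  · show sigma n (hrel n (i.val + 1)) ∈ powIdeal n
    by_cases h0 : i.val = 0
    · have : hrel n (i.val + 1) = 0 := by
        unfold hrel
        rw [if_neg (by omega), if_neg (by omega)]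
      rw [this, map_zero]; exact Ideal.zero_mem _
    · by_cases h1 : i.val = 1
      · have e : i.val + 1 = 2 := by omega
        rw [e]
        unfold hrel
        rw [if_pos rfl, map_add, map_mul, map_pow, sigma_evar, sigma_xvar, sigma_sPoly2,
          klog_two n b hnb]
        have e2 : 2 ^ b - n = 0 := by omega
        rw [e2, pow_zero, one_mul, add_selfP]
        exact Ideal.zero_mem _
      · have hj3 : 3 ≤ i.val + 1 := by omega
        have hjs : i.val + 1 ≤ numVars n := i.isLt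
        unfold hrel
        rw [if_neg (by omega), if_pos ⟨hj3, hjs⟩]
        simp only [map_add, map_mul, map_pow, sigma_evar, sigma_xvar]
        apply Ideal.add_mem _ (Ideal.add_mem _ _ _) _
        · rw [← kprime_eq_klog_pow n b hnb _ hj3]
          exact gen_mem n hn b hnb _ (by omega) hjs
        · have hB := B_gt n b hnb (i.val + 1) hj3
          obtain ⟨c, hc⟩ : ∃ c, (2 * (i.val + 1) - 3) * 2 ^ klog n (i.val + 1) - n = c + 1 :=
            ⟨(2 * (i.val + 1) - 3) * 2 ^ klog n (i.val + 1) - n - 1, by omega⟩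
          rw [hc, pow_succ, mul_assoc]
          exact Ideal.mul_mem_left _ _ (Y1_S2_mem n hn b hnb)
        · obtain ⟨c, hc⟩ := Nat.exists_eq_add_of_le (A_ge n b hnb (i.val + 1) hj3)
          rw [hc, pow_add, mul_assoc]
          exact Ideal.mul_mem_right _ _ (Y1_pow_mem n hn b hnb)

theorem ker_le : RingHom.ker (psi n) ≤ powIdeal n := by
  intro p hp
  have h1 : iota n p ∈ presIdeal n := by
    rw [← main42 n hn, RingHom.mem_ker, ← psi_eq]
    exact (RingHom.mem_ker).mp hp
  have h2 := pres_le_comap n hn b hnb h1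
  rw [Ideal.mem_comap, sigma_iota] at h2
  exact h2

theorem pow_le_ker : powIdeal n ≤ RingHom.ker (psi n) := by
  have hnv : 2 ≤ numVars n := by unfold numVars; omega
  unfold powIdeal
  rw [Ideal.span_le]
  rintro g (hg | ⟨i, rfl⟩)
  · rw [Set.mem_singleton_iff] at hg
    rw [hg, special_eq n hn b hnb]
    show psi n (evarE n 1 * S2 n) = 0
    rw [map_mul, psi_evarE1 n hn b hnb, psi_S2 n hn b hnb, ← mul_assoc, ← pow_succ',
      Nat.sub_add_cancel (by omega : 1 ≤ n), eps1_pow, zero_mul]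
  · show psi n (evarE n (i.val + 1) ^ 2 ^ kprime n (i.val + 1)) = 0
    by_cases h0 : i.val = 0
    · have e : i.val + 1 = 1 := by omega
      rw [e, map_pow, psi_evarE1 n hn b hnb, kprime_one_pow n b hnb, ← hnb, eps1_pow]
    · by_cases h1 : i.val = 1
      · have e : i.val + 1 = 2 := by omega
        have h2 : eps n 2 ^ 2 ^ b = 0 := by
          have := eps_pow_klog n 2 le_rfl hnv
          rwa [klog_two n b hnb] at this
        rw [e, map_pow, psi_evarE2 n hn b hnb, kprime_two_pow n b hnb,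
          pow_two_pow_add (add_self' n), ← pow_mul, mul_comm 2 (2 ^ b), pow_mul, h2, mul_pow, h2,
          mul_zero, zero_pow two_ne_zero, add_zero]
      · have hj3 : 3 ≤ i.val + 1 := by omega
        have hjs : i.val + 1 ≤ numVars n := i.isLt
        rw [map_pow, psi_evarEj n hn b hnb _ hj3 hjs, kprime_eq_klog_pow n b hnb _ hj3,
          pow_two_pow_add (add_self' n), eps_pow_klog n _ (by omega) hjs, zero_add, mul_pow,
          ← pow_mul]
        obtain ⟨c, hc⟩ := Nat.exists_eq_add_of_le (A_ge n b hnb (i.val + 1) hj3)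
        rw [hc, pow_add, eps1_pow, zero_mul, zero_mul]

theorem ker_psi : RingHom.ker (psi n) = powIdeal n :=
  le_antisymm (ker_le n hn b hnb) (pow_le_ker n hn b hnb)

theorem range_psi (τ : P n →ₐ[ZMod 2] P n) (hτ1 : τ (eps n 1) = eps n 1)
    (hτ : ∀ j : ℕ, 2 ≤ j → j ≤ numVars n → τ (eps n j) = eps n j + eps n 1 ^ (2 * j - 3)) :
    (psi n).range = AlgHom.equalizer τ (AlgHom.id (ZMod 2) (P n)) := by
  rw [← main41 hn τ hτ1 hτ]
  apply le_antisymm
  · rintro _ ⟨p, rfl⟩
    exact (AlgHom.mem_range _).mpr ⟨iota n p, (psi_eq n p).symm⟩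
  · rintro _ ⟨q, rfl⟩
    exact (AlgHom.mem_range _).mpr ⟨sigma n q, psi_sigma n hn b hnb q⟩

theorem main49 (τ : P n →ₐ[ZMod 2] P n) (hτ1 : τ (eps n 1) = eps n 1)
    (hτ : ∀ j : ℕ, 2 ≤ j → j ≤ numVars n → τ (eps n j) = eps n j + eps n 1 ^ (2 * j - 3)) :
    (psi n).range = AlgHom.equalizer τ (AlgHom.id (ZMod 2) (P n)) ∧
      RingHom.ker (psi n) = powIdeal n :=
  ⟨range_psi n hn b hnb τ hτ1 hτ, ker_psi n hn b hnb⟩

end Main

end Groth.Agent.Lib.Helper21.RJx
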