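import Mathlib
import Groth.Prelude.Def_W4c4chowquasisplitPn
import Groth.Prelude.Def_W4c4chowquasisplitPn2
import Groth.Agent.Lib.Helper21.RJr
import Groth.Agent.Lib.Helper21.RJs
import Groth.Agent.Lib.Helper21.RJt
import Groth.Agent.Lib.Helper21.RJu
import Groth.Agent.Lib.Helper21.RJv
import Groth.Agent.Lib.Helper21.RJw
import Groth.Agent.Lib.Helper21.RJx

set_option autoImplicit false
set_option linter.style.haveILetI false
set_option linter.unusedSectionVars false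
set_option linter.unusedVariables false
set_option linter.unusedSimpArgs false

/-! The fixed subalgebra modulo `ε₁^(2^a)` for `n` even and not a power of two, by elimination. -/

namespace Groth.Agent.Lib.Helper21.RJy

open MvPolynomial QsChow
open Groth.Agent.Lib.Helper21.RJr Groth.Agent.Lib.Helper21.RJs Groth.Agent.Lib.Helper21.RJv
  Groth.Agent.Lib.Helper21.RJw
open Groth.Agent.Lib.Helper21.RJx (iota psi_eq iota_evarE add_selfP)

theorem odd_part_unique (d k m a : ℕ) (hd : d % 2 = 1) (hm : m % 2 = 1)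
    (h : d * 2 ^ k = 2 ^ a * m) : d = m := by
  have hd0 : d ≠ 0 := by omega
  have hm0 : m ≠ 0 := by omega
  have hk0 : (2 : ℕ) ^ k ≠ 0 := by positivity
  have ha0 : (2 : ℕ) ^ a ≠ 0 := by positivity
  have hvd : padicValNat 2 d = 0 := padicValNat.eq_zero_of_not_dvd (by omega)
  have hvm : padicValNat 2 m = 0 := padicValNat.eq_zero_of_not_dvd (by omega)
  have h1 : padicValNat 2 (d * 2 ^ k) = k := by
    rw [padicValNat.mul hd0 hk0, hvd, padicValNat.prime_pow, zero_add]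
  have h2 : padicValNat 2 (2 ^ a * m) = a := by
    rw [padicValNat.mul ha0 hm0, hvm, padicValNat.prime_pow, add_zero]
  have hka : k = a := by
    calc k = padicValNat 2 (d * 2 ^ k) := h1.symm
      _ = padicValNat 2 (2 ^ a * m) := by rw [h]
      _ = a := h2
  rw [hka, mul_comm d (2 ^ a)] at h
  exact Nat.eq_of_mul_eq_mul_left (by positivity) h

theorem klog_upper (n j : ℕ) (hj : 2 ≤ j) (hjn : 2 * j - 3 ≤ 2 * n - 1) :
    (2 * j - 3) * 2 ^ klog n j ≤ 2 * n - 1 := by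
  unfold klog
  have hd : 0 < 2 * j - 3 := by omega
  have hx : (2 * n - 1) / (2 * j - 3) ≠ 0 := (Nat.div_pos hjn hd).ne'
  have h1 := Nat.pow_log_le_self 2 hx
  have h2 := (Nat.le_div_iff_mul_le hd).mp h1
  rw [mul_comm]; exact h2

theorem klog_lt (n j : ℕ) (hj : 2 ≤ j) :
    2 * n - 1 < (2 * j - 3) * 2 ^ (klog n j + 1) := by
  unfold klog
  have hd : 0 < 2 * j - 3 := by omega
  have h1 : (2 * n - 1) / (2 * j - 3) < 2 ^ (Nat.log 2 ((2 * n - 1) / (2 * j - 3)) + 1) :=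
    Nat.lt_pow_succ_log_self (by norm_num) _
  have h2 := (Nat.div_lt_iff_lt_mul hd).mp h1
  rw [mul_comm (2 * j - 3)]; exact h2

theorem split_B (j k : ℕ) (hj : 3 ≤ j) :
    (2 * j - 3) * 2 ^ k = (2 * j - 4) * 2 ^ k + 2 ^ k := by
  have h' : 2 * j - 3 = (2 * j - 4) + 1 := by omega
  rw [h', add_mul, one_mul]

theorem nt_basic (n : ℕ) (hn : 2 ≤ n) (hne : n ≠ 2 ^ twoExp n) :
    ∃ m : ℕ, n = 2 ^ twoExp n * m ∧ m % 2 = 1 ∧ 3 ≤ m ∧ 2 * lIdx n = m + 3 := by
  have hn0 : n ≠ 0 := by omega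
  have hdvd : 2 ^ twoExp n ∣ n := by unfold twoExp; exact pow_padicValNat_dvd
  have hnd : ¬ 2 ^ (twoExp n + 1) ∣ n := by
    unfold twoExp; exact pow_succ_padicValNat_not_dvd hn0
  obtain ⟨m, hm⟩ := hdvd
  have hodd : m % 2 = 1 := by
    by_contra hc
    obtain ⟨m', hm'⟩ : 2 ∣ m := by omega
    exact hnd ⟨m', hm.trans (by rw [hm', pow_succ]; ring)⟩
  have hm1 : m ≠ 1 := by
    intro h1
    apply hne
    rw [h1, mul_one] at hm
    exact hm
  have hm0 : m ≠ 0 := by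
    intro h0
    rw [h0, mul_zero] at hm
    exact hn0 hm
  have hm3 : 3 ≤ m := by omega
  refine ⟨m, hm, hodd, hm3, ?_⟩
  unfold lIdx
  have hp : 0 < 2 ^ twoExp n := by positivity
  have hdiv : n / 2 ^ twoExp n = m := Nat.div_eq_of_eq_mul_right hp hm
  rw [hdiv]; omega

/-- the standing numerical hypotheses -/
structure Hyp (n a m : ℕ) : Prop where
  hn : 2 ≤ n
  hta : twoExp n = a
  ha : 1 ≤ a
  hnam : n = 2 ^ a * m
  hm : m % 2 = 1
  hm3 : 3 ≤ m
  hl : 2 * lIdx n = m + 3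

section NT

variable {n a m : ℕ} (H : Hyp n a m)
include H

theorem two_le_pow : 2 ≤ 2 ^ a := by
  obtain ⟨hn, hta, ha, hnam, hm, hm3, hl⟩ := H
  calc 2 = 2 ^ 1 := rfl
    _ ≤ 2 ^ a := Nat.pow_le_pow_right (by norm_num) ha

theorem three_pow_le : 3 * 2 ^ a ≤ n := by
  obtain ⟨hn, hta, ha, hnam, hm, hm3, hl⟩ := H
  calc 3 * 2 ^ a = 2 ^ a * 3 := mul_comm _ _
    _ ≤ 2 ^ a * m := Nat.mul_le_mul_left _ hm3
    _ = n := hnam.symm

theorem two_m_le : 2 * m ≤ n := by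
  have h2 := two_le_pow H
  obtain ⟨hn, hta, ha, hnam, hm, hm3, hl⟩ := H
  calc 2 * m ≤ 2 ^ a * m := Nat.mul_le_mul_right m h2
    _ = n := hnam.symm

theorem l_ge : 3 ≤ lIdx n := by
  obtain ⟨hn, hta, ha, hnam, hm, hm3, hl⟩ := H
  omega

theorem l_le : lIdx n ≤ numVars n := by
  have h2 := two_m_le H
  obtain ⟨hn, hta, ha, hnam, hm, hm3, hl⟩ := H
  unfold numVars; omega

theorem ld : 2 * lIdx n - 3 = m := by
  obtain ⟨hn, hta, ha, hnam, hm, hm3, hl⟩ := H
  omega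

theorem two_n_eq : 2 ^ (a + 1) * m = 2 * n := by
  obtain ⟨hn, hta, ha, hnam, hm, hm3, hl⟩ := H
  calc 2 ^ (a + 1) * m = 2 * (2 ^ a * m) := by ring
    _ = 2 * n := by rw [← hnam]

theorem klog_l : klog n (lIdx n) = a := by
  have hd := ld H
  have h2n := two_n_eq H
  obtain ⟨hn, hta, ha, hnam, hm, hm3, hl⟩ := H
  have hm0 : 0 < m := by omega
  unfold klog
  rw [hd, Nat.log_eq_iff (Or.inl (by omega))]
  constructor
  · rw [Nat.le_div_iff_mul_le hm0, ← hnam]; omega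
  · rw [Nat.div_lt_iff_lt_mul hm0, h2n]; omega

theorem kprime_l : kprime n (lIdx n) = a + 1 := by
  have hd := ld H
  have h2n := two_n_eq H
  have hl3 := l_ge H
  obtain ⟨hn, hta, ha, hnam, hm, hm3, hl⟩ := H
  have hm0 : 0 < m := by omega
  unfold kprime
  rw [if_neg (by omega), if_neg (by omega), hd, ← h2n, Nat.mul_div_cancel _ hm0]
  exact Nat.log_pow (by norm_num) _

theorem pow_log_lt : 2 ^ Nat.log 2 n < n := by
  obtain ⟨hn, hta, ha, hnam, hm, hm3, hl⟩ := H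
  have h1 : 2 ^ Nat.log 2 n ≤ n := Nat.pow_log_le_self 2 (by omega)
  rcases Nat.lt_or_ge (2 ^ Nat.log 2 n) n with h | h
  · exact h
  · exfalso
    have heq : 2 ^ Nat.log 2 n = n := le_antisymm h1 h
    have := odd_part_unique 1 (Nat.log 2 n) m a (by norm_num) hm
      (by rw [one_mul, heq]; exact hnam)
    omega

theorem klog_2 : klog n 2 = Nat.log 2 n + 1 := by
  have h1 := pow_log_lt H
  obtain ⟨hn, hta, ha, hnam, hm, hm3, hl⟩ := H
  have h2 : n < 2 ^ (Nat.log 2 n + 1) := Nat.lt_pow_succ_log_self (by norm_num) n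
  unfold klog
  have h : (2 * n - 1) / (2 * 2 - 3) = 2 * n - 1 := by norm_num
  rw [h, Nat.log_eq_iff (Or.inl (by omega))]
  constructor
  · rw [pow_succ]; omega
  · rw [pow_succ 2 (Nat.log 2 n + 1)]; omega

theorem a_le_log : a ≤ Nat.log 2 n := by
  have h3 := three_pow_le H
  exact Nat.le_log_of_pow_le (by norm_num) (by omega)

theorem B_ne (j : ℕ) (hj3 : 3 ≤ j) (hjl : j ≠ lIdx n) (k c : ℕ) :
    (2 * j - 3) * 2 ^ k ≠ 2 ^ c * m := by
  obtain ⟨hn, hta, ha, hnam, hm, hm3, hl⟩ := H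
  intro h
  have := odd_part_unique (2 * j - 3) k m c (by omega) hm h
  omega

theorem B_gt (j : ℕ) (hj3 : 3 ≤ j) (hjl : j ≠ lIdx n) :
    n < (2 * j - 3) * 2 ^ klog n j := by
  have hne := B_ne H j hj3 hjl (klog n j) a
  obtain ⟨hn, hta, ha, hnam, hm, hm3, hl⟩ := H
  have hB := le_mul_two_pow_klog n j (by omega) (by omega)
  rw [← hnam] at hne
  omega

theorem kprime_eq_klog_even (j : ℕ) (hj3 : 3 ≤ j) (hjs : j ≤ numVars n) (hjl : j ≠ lIdx n) :
    kprime n j = klog n j := by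
  have hne := B_ne H j hj3 hjl (klog n j + 1) (a + 1)
  rw [two_n_eq H] at hne
  obtain ⟨hn, hta, ha, hnam, hm, hm3, hl⟩ := H
  have hd : 0 < 2 * j - 3 := by omega
  have hjn : 2 * j - 3 ≤ 2 * n - 1 := by unfold numVars at hjs; omega
  have hU := klog_upper n j (by omega) hjn
  have hL := klog_lt n j (by omega)
  unfold kprime
  rw [if_neg (by omega), if_neg (by omega),
    Nat.log_eq_iff (Or.inr ⟨by norm_num, (Nat.div_pos (by omega) hd).ne'⟩)]
  constructor
  · rw [Nat.le_div_iff_mul_le hd, mul_comm (2 ^ klog n j) (2 * j - 3)]; omega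
  · rw [Nat.div_lt_iff_lt_mul hd, mul_comm (2 ^ (klog n j + 1)) (2 * j - 3)]; omega

theorem A_ge (j : ℕ) (hj3 : 3 ≤ j) : 2 ^ a ≤ (2 * j - 4) * 2 ^ klog n j := by
  have h3 := three_pow_le H
  obtain ⟨hn, hta, ha, hnam, hm, hm3, hl⟩ := H
  have hB := le_mul_two_pow_klog n j (by omega) (by omega)
  generalize klog n j = k at hB ⊢
  have hsplit := split_B j k hj3
  have h3k : 3 * 2 ^ k ≤ (2 * j - 3) * 2 ^ k := Nat.mul_le_mul_right _ (by omega)
  omega

theorem Bl_sub : (2 * lIdx n - 3) * 2 ^ klog n (lIdx n) - n = 0 := by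
  rw [klog_l H, ld H, mul_comm m (2 ^ a), ← H.hnam]; exact Nat.sub_self n

end NT

/-- the sum `S_l` in the variables without `x` -/
noncomputable def SlP (n : ℕ) : FreeP n :=
  ∑ t ∈ Finset.range (klog n (lIdx n)),
    evarE n 1 ^ (2 ^ klog n (lIdx n) - 2 ^ (t + 1)) * evarE n 2 ^ 2 ^ t

/-- the polynomial replacing `x` -/
noncomputable def TL (n : ℕ) : FreeP n :=
  evarE n (lIdx n) ^ 2 ^ klog n (lIdx n) +
    evarE n 1 ^ ((2 * lIdx n - 4) * 2 ^ klog n (lIdx n)) * SlP n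

/-- images of the variables under the elimination map -/
noncomputable def sigFun (n : ℕ) : Option (Fin (numVars n)) → FreeP n
  | none => TL n
  | some i => X i

/-- the elimination map -/
noncomputable def sig (n : ℕ) : FreeE n →ₐ[ZMod 2] FreeP n := aeval (sigFun n)

theorem sig_iota (n : ℕ) (p : FreeP n) : sig n (iota n p) = p := by
  unfold sig iota
  rw [aeval_rename]
  have h : (sigFun n ∘ some) = X := rfl
  rw [h, aeval_X_left]; rfl

theorem sig_evar (n j : ℕ) : sig n (evar n j) = evarE n j := by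
  unfold sig evarE evar
  split_ifs with h
  · exact aeval_X _ _
  · exact map_zero _

theorem sig_xvar (n : ℕ) : sig n (xvar n) = TL n := by
  unfold sig xvar; exact aeval_X _ _

theorem iota_SlP (n : ℕ) : iota n (SlP n) = sPoly n (lIdx n) := by
  unfold SlP sPoly
  rw [map_sum]
  apply Finset.sum_congr rfl
  intro t _
  rw [map_mul, map_pow, map_pow, iota_evarE, iota_evarE]

theorem iota_TL (n : ℕ) : iota n (TL n) = evar n (lIdx n) ^ 2 ^ klog n (lIdx n) +
    evar n 1 ^ ((2 * lIdx n - 4) * 2 ^ klog n (lIdx n)) * sPoly n (lIdx n) := by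
  unfold TL
  rw [map_add, map_mul, map_pow, map_pow, iota_evarE, iota_evarE, iota_SlP]

theorem sig_sPoly (n j : ℕ) : sig n (sPoly n j) = ∑ t ∈ Finset.range (klog n j),
    evarE n 1 ^ (2 ^ klog n j - 2 ^ (t + 1)) * evarE n 2 ^ 2 ^ t := by
  unfold sPoly
  rw [map_sum]
  apply Finset.sum_congr rfl
  intro t _
  rw [map_mul, map_pow, map_pow, sig_evar, sig_evar]

theorem psi_evarE1 (n : ℕ) (hn : 2 ≤ n) : psi n (evarE n 1) = eps n 1 := by
  rw [psi_eq, iota_evarE, phi_evar1 n hn]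

theorem psi_evarE2 (n : ℕ) (hn : 2 ≤ n) :
    psi n (evarE n 2) = eps n 2 ^ 2 + eps n 1 * eps n 2 := by
  rw [psi_eq, iota_evarE, phi_evar2 n hn]

theorem psi_evarEj (n : ℕ) (hn : 2 ≤ n) (j : ℕ) (hj : 3 ≤ j) (hjs : j ≤ numVars n) :
    psi n (evarE n j) = eps n j + eps n 1 ^ (2 * j - 4) * eps n 2 := by
  rw [psi_eq, iota_evarE, phi_evarj n hn j hj hjs]

theorem psi_fixed {n : ℕ} (hn : 2 ≤ n) (τ : P n →ₐ[ZMod 2] P n)
    (hτ1 : τ (eps n 1) = eps n 1)
    (hτ : ∀ j : ℕ, 2 ≤ j → j ≤ numVars n → τ (eps n j) = eps n j + eps n 1 ^ (2 * j - 3))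
    (q : FreeP n) : τ (psi n q) = psi n q := by
  rw [psi_eq]; exact phi_fixed hn τ hτ1 hτ _

theorem gen_mem (n j : ℕ) (hj : 1 ≤ j) (hjs : j ≤ numVars n) :
    evarE n j ^ 2 ^ kprime n j ∈ evenIdeal n := by
  obtain ⟨i, hi⟩ : ∃ i : Fin (numVars n), i.val + 1 = j :=
    ⟨⟨j - 1, by omega⟩, by show j - 1 + 1 = j; omega⟩
  rw [← hi]; unfold evenIdeal
  exact Ideal.subset_span (Or.inr ⟨i, rfl⟩)

/-- membership in `ε₁^(2^a) · P^τ` -/
def InA {n : ℕ} (a : ℕ) (τ : P n →ₐ[ZMod 2] P n) (x : P n) : Prop :=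
  ∃ w : P n, τ w = w ∧ x = eps n 1 ^ 2 ^ a * w

section Clo

variable {n : ℕ} (a : ℕ) (τ : P n →ₐ[ZMod 2] P n) (hτ1 : τ (eps n 1) = eps n 1)
include hτ1

theorem InA_zero : InA a τ (0 : P n) := ⟨0, map_zero _, (mul_zero _).symm⟩

theorem InA_add (x y : P n) (hx : InA a τ x) (hy : InA a τ y) : InA a τ (x + y) := by
  obtain ⟨w, hw, rfl⟩ := hx
  obtain ⟨w', hw', rfl⟩ := hy
  exact ⟨w + w', by rw [map_add, hw, hw'], (mul_add _ _ _).symm⟩

theorem InA_mul (f : P n) (hf : τ f = f) (x : P n) (hx : InA a τ x) : InA a τ (f * x) := by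
  obtain ⟨w, hw, rfl⟩ := hx
  exact ⟨f * w, by rw [map_mul, hf, hw], by ring⟩

theorem InA_pow_mul (A : ℕ) (hA : 2 ^ a ≤ A) (Y : P n) (hY : τ Y = Y) :
    InA a τ (eps n 1 ^ A * Y) := by
  obtain ⟨c, rfl⟩ := Nat.exists_eq_add_of_le hA
  refine ⟨eps n 1 ^ c * Y, by rw [map_mul, map_pow, hτ1, hY], by rw [pow_add]; ring⟩

theorem InA_sum {ι : Type*} (s : Finset ι) (f : ι → P n) (hf : ∀ i ∈ s, InA a τ (f i)) :
    InA a τ (∑ i ∈ s, f i) := by
  classical
  induction s using Finset.induction_on with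
  | empty => rw [Finset.sum_empty]; exact InA_zero a τ hτ1
  | insert i s his ih =>
    rw [Finset.sum_insert his]
    exact InA_add a τ hτ1 _ _ (hf i (Finset.mem_insert_self _ _))
      (ih (fun j hj => hf j (Finset.mem_insert_of_mem hj)))

end Clo

section Alg0

variable {n a m : ℕ} (H : Hyp n a m)
include H

theorem Y1a_mem : evarE n 1 ^ 2 ^ a ∈ evenIdeal n := by
  have hn := H.hn
  have h := gen_mem n 1 le_rfl (by unfold numVars; omega)
  rw [kprime_one, H.hta] at h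
  exact h

theorem Y1_ge_mem (A : ℕ) (hA : 2 ^ a ≤ A) (r : FreeP n) :
    evarE n 1 ^ A * r ∈ evenIdeal n := by
  obtain ⟨c, rfl⟩ := Nat.exists_eq_add_of_le hA
  rw [pow_add, mul_assoc]
  exact Ideal.mul_mem_right _ _ (Y1a_mem H)

theorem special_mem : evarE n 1 * evarE n (lIdx n) ^ 2 ^ a ∈ evenIdeal n := by
  have h : evarE n 1 * evarE n (lIdx n) ^ 2 ^ (kprime n (lIdx n) - 1) ∈ evenIdeal n := by
    unfold evenIdeal
    exact Ideal.subset_span (Or.inl (Set.mem_singleton _))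
  rw [kprime_l H, Nat.add_sub_cancel] at h
  exact h

theorem gen_l_mem : evarE n (lIdx n) ^ 2 ^ (a + 1) ∈ evenIdeal n := by
  have hl3 := l_ge H
  have h := gen_mem n (lIdx n) (by omega) (l_le H)
  rw [kprime_l H] at h
  exact h

theorem Y1_TL_mem : evarE n 1 * TL n ∈ evenIdeal n := by
  have hl3 := l_ge H
  have hA := A_ge H (lIdx n) hl3
  unfold TL
  rw [mul_add, ← mul_assoc, ← pow_succ']
  apply Ideal.add_mem
  · rw [klog_l H]; exact special_mem H
  · exact Y1_ge_mem H _ (by omega) _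

theorem TL_sq_mem : TL n ^ 2 ∈ evenIdeal n := by
  have hl3 := l_ge H
  have hA := A_ge H (lIdx n) hl3
  unfold TL
  rw [sq_add' (add_selfP n), ← pow_mul, mul_pow, ← pow_mul]
  apply Ideal.add_mem
  · rw [klog_l H, ← pow_succ]; exact gen_l_mem H
  · exact Y1_ge_mem H _ (by omega) _

theorem sig_hrel2_mem : sig n (hrel n 2) ∈ evenIdeal n := by
  have hn := H.hn
  have h1 := pow_log_lt H
  have h2 : n < 2 ^ (Nat.log 2 n + 1) := Nat.lt_pow_succ_log_self (by norm_num) n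
  unfold hrel
  rw [if_pos rfl, map_add, map_mul, map_pow, sig_evar, sig_xvar, sig_sPoly, klog_2 H]
  apply Ideal.add_mem
  · obtain ⟨c, hc⟩ : ∃ c, 2 ^ (Nat.log 2 n + 1) - n = c + 1 :=
      ⟨2 ^ (Nat.log 2 n + 1) - n - 1, by omega⟩
    rw [hc, pow_succ, mul_assoc]
    exact Ideal.mul_mem_left _ _ (Y1_TL_mem H)
  · rw [Finset.sum_range_succ]
    apply Ideal.add_mem
    · apply Ideal.sum_mem
      intro t ht
      have ht' : t + 1 ≤ Nat.log 2 n := by have := Finset.mem_range.mp ht; omega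
      have hle : 2 ^ (t + 1) ≤ 2 ^ Nat.log 2 n := Nat.pow_le_pow_right (by norm_num) ht'
      have hpa : 2 ^ a ≤ 2 ^ Nat.log 2 n := Nat.pow_le_pow_right (by norm_num) (a_le_log H)
      have hps : 2 ^ (Nat.log 2 n + 1) = 2 ^ Nat.log 2 n * 2 := pow_succ _ _
      exact Y1_ge_mem H _ (by omega) _
    · apply Ideal.mul_mem_left
      have h := gen_mem n 2 (by norm_num) (by unfold numVars; omega)
      rw [kprime_two] at h
      exact h

theorem sig_hrelj_mem (j : ℕ) (hj3 : 3 ≤ j) (hjs : j ≤ numVars n) :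
    sig n (hrel n j) ∈ evenIdeal n := by
  have hn := H.hn
  unfold hrel
  rw [if_neg (by omega), if_pos ⟨hj3, hjs⟩]
  simp only [map_add, map_mul, map_pow, sig_evar, sig_xvar]
  by_cases hjl : j = lIdx n
  · subst hjl
    have hA := A_ge H (lIdx n) hj3
    rw [Bl_sub H, pow_zero, one_mul]
    unfold TL
    have e : ∀ p q r : FreeP n, p + (p + q) + r = (q + r) + (p + p) := by
      intro p q r; ring
    rw [e, add_selfP, add_zero]
    exact Ideal.add_mem _ (Y1_ge_mem H _ hA _) (Y1_ge_mem H _ hA _)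
  · have hA := A_ge H j hj3
    have hB := B_gt H j hj3 hjl
    apply Ideal.add_mem _ (Ideal.add_mem _ _ _) _
    · rw [← kprime_eq_klog_even H j hj3 hjs hjl]
      exact gen_mem n j (by omega) hjs
    · obtain ⟨c, hc⟩ : ∃ c, (2 * j - 3) * 2 ^ klog n j - n = c + 1 :=
        ⟨(2 * j - 3) * 2 ^ klog n j - n - 1, by omega⟩
      rw [hc, pow_succ, mul_assoc]
      exact Ideal.mul_mem_left _ _ (Y1_TL_mem H)
    · exact Y1_ge_mem H _ hA _

theorem pres_le_comap : presIdeal n ≤ Ideal.comap (sig n) (evenIdeal n) := by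
  have hn := H.hn
  have h3 := three_pow_le H
  unfold presIdeal
  rw [Ideal.span_le]
  rintro g (hg | ⟨i, rfl⟩)
  · rcases hg with rfl | rfl | rfl
    · show sig n (evar n 1 ^ n) ∈ evenIdeal n
      rw [map_pow, sig_evar]
      have := Y1_ge_mem H n (by omega) 1
      rwa [mul_one] at this
    · show sig n (evar n 1 * xvar n) ∈ evenIdeal n
      rw [map_mul, sig_evar, sig_xvar]
      exact Y1_TL_mem H
    · show sig n (xvar n ^ 2) ∈ evenIdeal n
      rw [map_pow, sig_xvar]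
      exact TL_sq_mem H
  · show sig n (hrel n (i.val + 1)) ∈ evenIdeal n
    by_cases h0 : i.val = 0
    · have : hrel n (i.val + 1) = 0 := by
        unfold hrel
        rw [if_neg (by omega), if_neg (by omega)]
      rw [this, map_zero]; exact Ideal.zero_mem _
    · by_cases h1 : i.val = 1
      · have e : i.val + 1 = 2 := by omega
        rw [e]; exact sig_hrel2_mem H
      · exact sig_hrelj_mem H (i.val + 1) (by omega) i.isLt

theorem phi_iota_TL : phi n (iota n (TL n)) = eps n 1 ^ (n - 1) * eps n 2 := by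
  have hn := H.hn
  have hl3 := l_ge H
  have hls := l_le H
  have h := phi_hrelj n hn (lIdx n) hl3 hls
  unfold hrel at h
  rw [if_neg (by omega), if_pos ⟨hl3, hls⟩] at h
  rw [Bl_sub H, pow_zero, one_mul, map_add, map_add, phi_xvar n hn] at h
  rw [iota_TL, map_add]
  have e : ∀ p q r : P n, p + r + q = 0 → p + q = r := by
    intro p q r hh
    have h' : (p + q) + r = 0 := by rw [← hh]; ring
    exact (add_eq_zero_iff' (add_self' n) _ _).mp h'
  exact e _ _ _ h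

theorem psi_TL : psi n (TL n) = eps n 1 ^ (n - 1) * eps n 2 := by
  rw [psi_eq]; exact phi_iota_TL H

theorem psi_sig (q : FreeE n) : psi n (sig n q) = phi n q := by
  have h : (psi n).comp (sig n) = phi n := by
    apply MvPolynomial.algHom_ext
    intro o
    cases o with
    | none =>
      rw [AlgHom.comp_apply]
      have h1 : sig n (X none) = TL n := aeval_X _ _
      rw [h1, psi_TL H]
      exact (phi_X n none).symm
    | some i =>
      rw [AlgHom.comp_apply]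
      have h1 : sig n (X (some i)) = X i := aeval_X _ _
      rw [h1, phi_X]
      exact aeval_X _ _
  rw [← h]; rfl

theorem psi_gen_l_zero :
    (eps n (lIdx n) + eps n 1 ^ (2 * lIdx n - 4) * eps n 2) ^ 2 ^ (a + 1) = 0 := by
  have hn := H.hn
  have hl3 := l_ge H
  have hls := l_le H
  have hkl := klog_l H
  have h1 : eps n (lIdx n) ^ 2 ^ a = 0 := by
    have := eps_pow_klog n (lIdx n) (by omega) hls
    rwa [hkl] at this
  have h2 : n ≤ (2 * lIdx n - 4) * (2 ^ a * 2) := by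
    have hd := ld H
    obtain ⟨hn', hta, ha, hnam, hm, hm3, hl⟩ := H
    have e : 2 * lIdx n - 4 = m - 1 := by omega
    rw [e]
    calc n = 2 ^ a * m := hnam
      _ ≤ 2 ^ a * (2 * (m - 1)) := Nat.mul_le_mul_left _ (by omega)
      _ = (m - 1) * (2 ^ a * 2) := by ring
  have hA0 : eps n 1 ^ ((2 * lIdx n - 4) * (2 ^ a * 2)) = 0 := by
    obtain ⟨c, hc⟩ := Nat.exists_eq_add_of_le h2
    rw [hc, pow_add, eps1_pow, zero_mul]
  rw [pow_two_pow_add (add_self' n), pow_succ 2 a, pow_mul, h1, zero_pow two_ne_zero, zero_add,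
    mul_pow, ← pow_mul, hA0, zero_mul]

end Alg0

section Alg

variable {n a m : ℕ} (H : Hyp n a m) (τ : P n →ₐ[ZMod 2] P n)
  (hτ1 : τ (eps n 1) = eps n 1)
  (hτ : ∀ j : ℕ, 2 ≤ j → j ≤ numVars n → τ (eps n j) = eps n j + eps n 1 ^ (2 * j - 3))
include H hτ1 hτ

theorem InA_eps2pow (M k : ℕ) (hM : 2 ^ a ≤ M) (hMk : n + 1 ≤ M + 2 ^ k) :
    InA a τ (eps n 1 ^ M * eps n 2 ^ 2 ^ k) := by
  have hn := H.hn
  have hk := key_identity (add_self' n) (eps n 1) (eps n 2) k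
  rw [hk, mul_add, Finset.mul_sum]
  apply InA_add a τ hτ1
  · apply InA_sum a τ hτ1
    intro t _
    exact InA_pow_mul a τ hτ1 M hM _ (fix_term hn τ hτ1 hτ _ t)
  · have hT : 1 ≤ 2 ^ k := Nat.one_le_two_pow
    obtain ⟨c, hc⟩ : ∃ c, M + (2 ^ k - 1) = n + c := ⟨M + (2 ^ k - 1) - n, by omega⟩
    rw [← mul_assoc, ← pow_add, hc, pow_add, eps1_pow, zero_mul, zero_mul]
    exact InA_zero a τ hτ1

theorem InA_gen2 : InA a τ ((eps n 2 ^ 2 + eps n 1 * eps n 2) ^ 2 ^ Nat.log 2 n) := by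
  have hn := H.hn
  have hnv : 2 ≤ numVars n := by unfold numVars; omega
  have hk := key_identity (add_self' n) (eps n 1) (eps n 2) (klog n 2)
  rw [eps_pow_klog n 2 le_rfl hnv, klog_2 H, Finset.sum_range_succ, Nat.sub_self,
    pow_zero, one_mul] at hk
  have h2 : n < 2 ^ (Nat.log 2 n + 1) := Nat.lt_pow_succ_log_self (by norm_num) n
  have hlast : eps n 1 ^ (2 ^ (Nat.log 2 n + 1) - 1) = 0 := by
    obtain ⟨c, hc⟩ : ∃ c, 2 ^ (Nat.log 2 n + 1) - 1 = n + c :=
      ⟨2 ^ (Nat.log 2 n + 1) - 1 - n, by omega⟩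
    rw [hc, pow_add, eps1_pow, zero_mul]
  rw [hlast, zero_mul, add_zero] at hk
  have hk' : (eps n 2 ^ 2 + eps n 1 * eps n 2) ^ 2 ^ Nat.log 2 n =
      ∑ t ∈ Finset.range (Nat.log 2 n), eps n 1 ^ (2 ^ (Nat.log 2 n + 1) - 2 ^ (t + 1)) *
        (eps n 2 ^ 2 + eps n 1 * eps n 2) ^ 2 ^ t := by
    have h0 : (eps n 2 ^ 2 + eps n 1 * eps n 2) ^ 2 ^ Nat.log 2 n +
        (∑ t ∈ Finset.range (Nat.log 2 n), eps n 1 ^ (2 ^ (Nat.log 2 n + 1) - 2 ^ (t + 1)) *
          (eps n 2 ^ 2 + eps n 1 * eps n 2) ^ 2 ^ t) = 0 := by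
      rw [hk]; ring
    exact (add_eq_zero_iff' (add_self' n) _ _).mp h0
  rw [hk']
  apply InA_sum a τ hτ1
  intro t ht
  have ht' : t + 1 ≤ Nat.log 2 n := by have := Finset.mem_range.mp ht; omega
  have hle : 2 ^ (t + 1) ≤ 2 ^ Nat.log 2 n := Nat.pow_le_pow_right (by norm_num) ht'
  have hpa : 2 ^ a ≤ 2 ^ Nat.log 2 n := Nat.pow_le_pow_right (by norm_num) (a_le_log H)
  have hps : 2 ^ (Nat.log 2 n + 1) = 2 ^ Nat.log 2 n * 2 := pow_succ _ _
  apply InA_pow_mul a τ hτ1 _ (by omega)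
  rw [map_pow, tau_e2bar hn τ hτ1 hτ]

theorem InA_genj (j : ℕ) (hj : 3 ≤ j) (hjs : j ≤ numVars n) (hjl : j ≠ lIdx n) :
    InA a τ ((eps n j + eps n 1 ^ (2 * j - 4) * eps n 2) ^ 2 ^ klog n j) := by
  have hn := H.hn
  have hpow1 : (eps n j + eps n 1 ^ (2 * j - 4) * eps n 2) ^ 2 ^ klog n j =
      eps n 1 ^ ((2 * j - 4) * 2 ^ klog n j) * eps n 2 ^ 2 ^ klog n j := by
    rw [pow_two_pow_add (add_self' n), eps_pow_klog n j (by omega) hjs, zero_add, mul_pow,
      ← pow_mul]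
  rw [hpow1]
  apply InA_eps2pow H τ hτ1 hτ _ _ (A_ge H j hj)
  have hB := B_gt H j hj hjl
  have hs := split_B j (klog n j) hj
  omega

theorem InA_special : InA a τ (eps n 1 *
    (eps n (lIdx n) + eps n 1 ^ (2 * lIdx n - 4) * eps n 2) ^ 2 ^ a) := by
  have hn := H.hn
  have hl3 := l_ge H
  have hls := l_le H
  have hkl := klog_l H
  have h1 : eps n (lIdx n) ^ 2 ^ a = 0 := by
    have := eps_pow_klog n (lIdx n) (by omega) hls
    rwa [hkl] at this
  have hA := A_ge H (lIdx n) hl3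
  rw [hkl] at hA
  have hs := split_B (lIdx n) a hl3
  have hBn : (2 * lIdx n - 3) * 2 ^ a = n := by
    rw [ld H, mul_comm m (2 ^ a)]; exact H.hnam.symm
  have e : eps n 1 * (eps n (lIdx n) + eps n 1 ^ (2 * lIdx n - 4) * eps n 2) ^ 2 ^ a =
      eps n 1 ^ ((2 * lIdx n - 4) * 2 ^ a + 1) * eps n 2 ^ 2 ^ a := by
    rw [pow_two_pow_add (add_self' n), h1, zero_add, mul_pow, ← pow_mul, ← mul_assoc,
      ← pow_succ']
  rw [e]
  apply InA_eps2pow H τ hτ1 hτ _ _ (by omega)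
  omega

theorem InA_of_mem (q : FreeP n) (hq : q ∈ evenIdeal n) : InA a τ (psi n q) := by
  have hn := H.hn
  unfold evenIdeal at hq
  induction hq using Submodule.span_induction with
  | zero => rw [map_zero]; exact InA_zero a τ hτ1
  | add x y _ _ hx hy => rw [map_add]; exact InA_add a τ hτ1 _ _ hx hy
  | smul r x _ hx =>
    rw [smul_eq_mul, map_mul]
    exact InA_mul a τ hτ1 (psi n r) (psi_fixed hn τ hτ1 hτ r) _ hx
  | mem g hg =>
    rcases hg with hg | ⟨i, rfl⟩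
    · rw [Set.mem_singleton_iff] at hg
      rw [hg, map_mul, map_pow, psi_evarE1 n hn, psi_evarEj n hn _ (l_ge H) (l_le H),
        kprime_l H, Nat.add_sub_cancel]
      exact InA_special H τ hτ1 hτ
    · show InA a τ (psi n (evarE n (i.val + 1) ^ 2 ^ kprime n (i.val + 1)))
      rw [map_pow]
      by_cases h0 : i.val = 0
      · have e : i.val + 1 = 1 := by omega
        rw [e, psi_evarE1 n hn, kprime_one, H.hta]
        exact ⟨1, map_one _, (mul_one _).symm⟩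
      · by_cases h1 : i.val = 1
        · have e : i.val + 1 = 2 := by omega
          rw [e, psi_evarE2 n hn, kprime_two]
          exact InA_gen2 H τ hτ1 hτ
        · by_cases hjl : i.val + 1 = lIdx n
          · rw [hjl, psi_evarEj n hn _ (l_ge H) (l_le H), kprime_l H, psi_gen_l_zero H]
            exact InA_zero a τ hτ1
          · rw [psi_evarEj n hn (i.val + 1) (by omega) i.isLt,
              kprime_eq_klog_even H (i.val + 1) (by omega) i.isLt hjl]
            exact InA_genj H τ hτ1 hτ (i.val + 1) (by omega) i.isLt hjl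

theorem mem_even_of (q : FreeP n) (w : P n) (hw : τ w = w)
    (h : psi n q = eps n 1 ^ 2 ^ a * w) : q ∈ evenIdeal n := by
  have hn := H.hn
  have hwr : w ∈ (phi n).range := by
    rw [main41 hn τ hτ1 hτ]; exact (mem_fix_iff hn τ hτ1 hτ w).mpr hw
  obtain ⟨Q, hQ⟩ := (AlgHom.mem_range _).mp hwr
  have hker : iota n q + evar n 1 ^ 2 ^ a * Q ∈ presIdeal n := by
    rw [← main42 n hn, RingHom.mem_ker, map_add, map_mul, map_pow, phi_evar1 n hn, hQ,
      ← psi_eq, h]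
    exact add_self' n _
  have h2 := pres_le_comap H hker
  rw [Ideal.mem_comap, map_add, sig_iota, map_mul, map_pow, sig_evar] at h2
  have h3 : evarE n 1 ^ 2 ^ a * sig n Q ∈ evenIdeal n := Ideal.mul_mem_right _ _ (Y1a_mem H)
  have h4 := Ideal.add_mem _ h2 h3
  rwa [add_assoc, add_selfP, add_zero] at h4

theorem part1 (q : FreeP n) :
    (∃ w : P n, τ w = w ∧ psi n q = eps n 1 ^ 2 ^ a * w) ↔ q ∈ evenIdeal n := by
  constructor
  · rintro ⟨w, hw, h⟩
    exact mem_even_of H τ hτ1 hτ q w hw h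
  · intro hq
    exact InA_of_mem H τ hτ1 hτ q hq

theorem part2 (z : P n) (hz : τ z = z) :
    ∃ q : FreeP n, ∃ w : P n, τ w = w ∧ z = psi n q + eps n 1 ^ 2 ^ a * w := by
  have hn := H.hn
  have hzr : z ∈ (phi n).range := by
    rw [main41 hn τ hτ1 hτ]; exact (mem_fix_iff hn τ hτ1 hτ z).mpr hz
  obtain ⟨Q, hQ⟩ := (AlgHom.mem_range _).mp hzr
  exact ⟨sig n Q, 0, map_zero τ, by rw [mul_zero, add_zero, psi_sig H, hQ]⟩

end Alg

theorem main48 (n : ℕ) (hn : 2 ≤ n)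
    (τ : P n →ₐ[ZMod 2] P n) (hτ1 : τ (eps n 1) = eps n 1)
    (hτ : ∀ j : ℕ, 2 ≤ j → j ≤ numVars n → τ (eps n j) = eps n j + eps n 1 ^ (2 * j - 3))
    (ha : 1 ≤ twoExp n) (hne : n ≠ 2 ^ twoExp n) :
    (∀ q : FreeP n,
      (∃ w : P n, τ w = w ∧ psi n q = eps n 1 ^ 2 ^ twoExp n * w) ↔ q ∈ evenIdeal n) ∧
    (∀ z : P n, τ z = z → ∃ q : FreeP n, ∃ w : P n,
      τ w = w ∧ z = psi n q + eps n 1 ^ 2 ^ twoExp n * w) := by
  obtain ⟨m, hnam, hm, hm3, hl⟩ := nt_basic n hn hne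
  have H : Hyp n (twoExp n) m := ⟨hn, rfl, ha, hnam, hm, hm3, hl⟩
  exact ⟨fun q => part1 H τ hτ1 hτ q, fun z hz => part2 H τ hτ1 hτ z hz⟩

end Groth.Agent.Lib.Helper21.RJy
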