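import Mathlib
import Groth.Prelude.Def_Models
import Groth.Agent.Lib.Helper11.NumType
import Groth.Agent.Lib.Helper11.NumTypeGen
import Groth.Agent.Lib.Helper11.NumTypeBasic
import Groth.Agent.S2183

/-!
# Bound `m i * |a i j| ≤ 768 g` for minimal numerical types of genus `g ≥ 2`

Classification-free proof.  Put `MM k = m k * w k`.  On the set `K` of `(-2)`-indices the
function `MM` satisfies the row relation `∑_{l ≠ k} c l k * MM l = 2 * MM k`.  Indices of `K`
adjacent to a non-`(-2)`-index are bounded by `6 g - 6` (S2183); going away from them `MM` at most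
doubles at each step; and a maximum of `MM` on `K` far from the non-`(-2)`-indices is impossible
by a concavity argument along a chain of six steps.
-/

set_option autoImplicit false
set_option linter.style.haveILetI false
set_option linter.unusedSectionVars false
set_option linter.unusedVariables false
set_option linter.unusedSimpArgs false

open Finset Models

namespace Groth.Agent.Lib.Helper21.RJz

open Groth.Agent.Lib.Helper11.NumType

variable {n : ℕ} (T : Models.NumericalType n)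

/-- `m k * w k` -/
def MM (k : Fin n) : ℤ := T.m k * T.w k

lemma MM_pos (k : Fin n) : 0 < MM T k := mul_pos (T.m_pos k) (T.w_pos k)

lemma term_eq (k l : Fin n) : T.a k l * T.m l = c T l k * MM T l := by
  unfold MM
  rw [a_symm T k l, a_eq T l k]
  ring

lemma term_nonneg {k l : Fin n} (h : l ≠ k) : 0 ≤ T.a k l * T.m l :=
  mul_nonneg (T.offDiag_nonneg k l (Ne.symm h)) (T.m_pos l).le

lemma MM_le_term {k l : Fin n} (h : l ≠ k) (ha : T.a k l ≠ 0) :
    MM T l ≤ T.a k l * T.m l := by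
  rw [term_eq]
  have h1 : 1 ≤ c T l k := one_le_c T h (by rw [a_symm T l k]; exact ha)
  have h2 := MM_pos T l
  nlinarith

lemma row_eq {k : Fin n} (hk : T.IsMinusTwo k) :
    ∑ l ∈ univ.erase k, T.a k l * T.m l = 2 * MM T k := by
  have h := sum_a_mul_m T k
  have h2 : T.a k k * T.m k + ∑ l ∈ univ.erase k, T.a k l * T.m l = ∑ l, T.a k l * T.m l :=
    Finset.add_sum_erase univ (fun l => T.a k l * T.m l) (mem_univ k)
  rw [h, hk.2] at h2
  unfold MM
  linarith

lemma one_term {k : Fin n} (hk : T.IsMinusTwo k) {l : Fin n} (h : l ≠ k) :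
    T.a k l * T.m l ≤ 2 * MM T k := by
  rw [← row_eq T hk]
  exact Finset.single_le_sum (f := fun l => T.a k l * T.m l)
    (fun x hx => term_nonneg T (Finset.ne_of_mem_erase hx))
    (Finset.mem_erase.mpr ⟨h, mem_univ l⟩)

lemma MM_le_two {k : Fin n} (hk : T.IsMinusTwo k) {l : Fin n} (h : l ≠ k) (ha : T.a k l ≠ 0) :
    MM T l ≤ 2 * MM T k :=
  (MM_le_term T h ha).trans (one_term T hk h)

lemma concave {k : Fin n} (hk : T.IsMinusTwo k) {l l' : Fin n} (h : l ≠ k) (h' : l' ≠ k)
    (hll : l ≠ l') (ha : T.a k l ≠ 0) (ha' : T.a k l' ≠ 0) :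
    MM T l + MM T l' ≤ 2 * MM T k := by
  rw [← row_eq T hk]
  have hsub : ({l, l'} : Finset (Fin n)) ⊆ univ.erase k := by
    intro x hx
    rw [Finset.mem_insert, Finset.mem_singleton] at hx
    rcases hx with hx | hx
    · rw [hx]; exact Finset.mem_erase.mpr ⟨h, mem_univ _⟩
    · rw [hx]; exact Finset.mem_erase.mpr ⟨h', mem_univ _⟩
  have h1 : ∑ x ∈ ({l, l'} : Finset (Fin n)), T.a k x * T.m x
      ≤ ∑ x ∈ univ.erase k, T.a k x * T.m x :=
    Finset.sum_le_sum_of_subset_of_nonneg hsub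
      (fun x hx _ => term_nonneg T (Finset.ne_of_mem_erase hx))
  rw [Finset.sum_pair hll] at h1
  have h2 := MM_le_term T h ha
  have h3 := MM_le_term T h' ha'
  linarith

/-- `(-2)`-indices within graph distance `s + 1` of a non-`(-2)`-index -/
def Near (T : Models.NumericalType n) : ℕ → Fin n → Prop
  | 0, k => T.IsMinusTwo k ∧ ∃ j, ¬T.IsMinusTwo j ∧ T.a k j ≠ 0
  | (s + 1), k => Near T s k ∨ (T.IsMinusTwo k ∧ ∃ l, Near T s l ∧ T.a k l ≠ 0)

lemma near_zero (k : Fin n) :
    Near T 0 k ↔ (T.IsMinusTwo k ∧ ∃ j, ¬T.IsMinusTwo j ∧ T.a k j ≠ 0) := Iff.rfl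

lemma near_succ (s : ℕ) (k : Fin n) :
    Near T (s + 1) k ↔ (Near T s k ∨ (T.IsMinusTwo k ∧ ∃ l, Near T s l ∧ T.a k l ≠ 0)) :=
  Iff.rfl

lemma near_minusTwo (s : ℕ) (k : Fin n) (h : Near T s k) : T.IsMinusTwo k := by
  induction s generalizing k with
  | zero => exact ((near_zero T k).mp h).1
  | succ s ih =>
    rcases (near_succ T s k).mp h with h | h
    · exact ih k h
    · exact h.1

lemma near_mono {s s' : ℕ} (hs : s ≤ s') {k : Fin n} (h : Near T s k) : Near T s' k := by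
  induction s' with
  | zero =>
    have h0 : s = 0 := by omega
    subst h0; exact h
  | succ t ih =>
    rcases Nat.lt_or_ge s (t + 1) with h1 | h1
    · exact (near_succ T t k).mpr (Or.inl (ih (by omega)))
    · have h0 : s = t + 1 := by omega
      subst h0; exact h

lemma near_bound (B : ℤ) (hB0 : 0 ≤ B) (hB : ∀ k, Near T 0 k → MM T k ≤ B) (s : ℕ) (k : Fin n)
    (h : Near T s k) : MM T k ≤ 2 ^ s * B := by
  induction s generalizing k with
  | zero => simpa using hB k h
  | succ s ih =>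
    have hpow : (2:ℤ) ^ (s + 1) * B = 2 * (2 ^ s * B) := by ring
    have hnn : 0 ≤ (2:ℤ) ^ s * B := mul_nonneg (by positivity) hB0
    rcases (near_succ T s k).mp h with h | ⟨hk, l, hl, hal⟩
    · have h1 := ih k h
      rw [hpow]; linarith
    · by_cases hlk : k = l
      · have h1 := ih k (by rw [hlk]; exact hl)
        rw [hpow]; linarith
      · have h1 := ih l hl
        have h2 := MM_le_two T (near_minusTwo T s l hl) hlk (by rw [a_symm T l k]; exact hal)
        rw [hpow]; linarith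

lemma exists_near (hJ : ∃ j, ¬T.IsMinusTwo j) {k : Fin n} (hk : T.IsMinusTwo k) :
    ∃ s, Near T s k := by
  classical
  by_contra hcon
  have hcon' : ∀ s, ¬Near T s k := fun s hs => hcon ⟨s, hs⟩
  obtain ⟨I, hI⟩ : ∃ I : Finset (Fin n), ∀ x, x ∈ I ↔ (T.IsMinusTwo x ∧ ∀ s, ¬Near T s x) :=
    ⟨univ.filter (fun x => T.IsMinusTwo x ∧ ∀ s, ¬Near T s x), fun x => by
      rw [Finset.mem_filter]; exact ⟨fun h => h.2, fun h => ⟨mem_univ _, h⟩⟩⟩
  obtain ⟨j, hj⟩ := hJ
  have hne : I.Nonempty := ⟨k, (hI k).mpr ⟨hk, hcon'⟩⟩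
  have hnu : I ≠ univ := by
    intro h
    have hjI : j ∈ I := by rw [h]; exact mem_univ j
    exact hj ((hI j).mp hjI).1
  obtain ⟨i, hiI, j', hj'I, haij⟩ := T.connected I hne hnu
  obtain ⟨hiK, hiN⟩ := (hI i).mp hiI
  by_cases hj'K : T.IsMinusTwo j'
  · exact hj'I ((hI j').mpr ⟨hj'K, fun s hs =>
      hiN (s + 1) ((near_succ T s i).mpr (Or.inr ⟨hiK, j', hs, haij⟩))⟩)
  · exact hiN 0 ((near_zero T i).mpr ⟨hiK, j', hj'K, haij⟩)

lemma descend (s t : ℕ) (ht : t = s + 1) {k : Fin n} (h : Near T t k) (h' : ¬Near T s k) :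
    ∃ l, Near T s l ∧ T.a k l ≠ 0 := by
  subst ht
  rcases (near_succ T s k).mp h with h1 | ⟨_, l, hl, hal⟩
  · exact absurd h1 h'
  · exact ⟨l, hl, hal⟩

lemma not_near_of_adj (s t : ℕ) (ht : t = s + 1) {k l : Fin n} (hk : T.IsMinusTwo k)
    (h : ¬Near T t k) (hal : T.a k l ≠ 0) : ¬Near T s l := by
  subst ht
  exact fun hl => h ((near_succ T s k).mpr (Or.inr ⟨hk, l, hl, hal⟩))

lemma nbr_minusTwo {k l : Fin n} (hk : T.IsMinusTwo k) (h : ¬Near T 0 k) (hal : T.a k l ≠ 0) :
    T.IsMinusTwo l := by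
  by_contra hl
  exact h ((near_zero T k).mpr ⟨hk, l, hl, hal⟩)

lemma genus_eq_one_of_all (h : ∀ i, T.IsMinusTwo i) : T.genus = 1 := by
  unfold Models.NumericalType.genus
  have h1 : ∑ i, T.m i * T.w i * (T.g i - 1) = - ∑ i, MM T i := by
    rw [← Finset.sum_neg_distrib]
    exact Finset.sum_congr rfl (fun i _ => by rw [(h i).1]; unfold MM; ring)
  have h2 : ∑ i, T.m i * T.a i i = 2 * (- ∑ i, MM T i) := by
    rw [← Finset.sum_neg_distrib, Finset.mul_sum]
    exact Finset.sum_congr rfl (fun i _ => by rw [(h i).2]; unfold MM; ring)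
  rw [h1, h2, Int.mul_ediv_cancel_left _ (by norm_num : (2:ℤ) ≠ 0)]
  ring

lemma claim1 {i l : Fin n} (hl : T.IsMinusTwo l) (hli : i ≠ l) (hal : T.a l i ≠ 0)
    (hnb : ∀ l', T.a l l' ≠ 0 → T.IsMinusTwo l') (hle : MM T l ≤ MM T i) :
    2 * MM T l = MM T i ∨ 2 * MM T i ≤ 3 * MM T l := by
  classical
  have hi_mem : i ∈ univ.erase l := Finset.mem_erase.mpr ⟨hli, mem_univ i⟩
  have hsplit : T.a l i * T.m i + ∑ x ∈ (univ.erase l).erase i, T.a l x * T.m x
      = ∑ x ∈ univ.erase l, T.a l x * T.m x :=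
    Finset.add_sum_erase (univ.erase l) (fun x => T.a l x * T.m x) hi_mem
  rw [row_eq T hl, term_eq T l i] at hsplit
  have hγ : 1 ≤ c T i l := one_le_c T hli (by rw [a_symm T i l]; exact hal)
  have hMi := MM_pos T i
  have hMl := MM_pos T l
  by_cases hex : ∃ l', l' ≠ l ∧ l' ≠ i ∧ T.a l l' ≠ 0
  · obtain ⟨l', hl'l, hl'i, hal'⟩ := hex
    right
    have hl'K := hnb l' hal'
    have h1 : MM T l ≤ 2 * MM T l' :=
      MM_le_two T hl'K (Ne.symm hl'l) (by rw [a_symm T l' l]; exact hal')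
    have h2 : MM T l' ≤ T.a l l' * T.m l' := MM_le_term T hl'l hal'
    have h3 : T.a l l' * T.m l' ≤ ∑ x ∈ (univ.erase l).erase i, T.a l x * T.m x :=
      Finset.single_le_sum (f := fun x => T.a l x * T.m x)
        (fun x hx => term_nonneg T (Finset.ne_of_mem_erase (Finset.mem_of_mem_erase hx)))
        (Finset.mem_erase.mpr ⟨hl'i, Finset.mem_erase.mpr ⟨hl'l, mem_univ l'⟩⟩)
    have h4 : MM T i ≤ c T i l * MM T i := by nlinarith
    linarith
  · have hzero : ∑ x ∈ (univ.erase l).erase i, T.a l x * T.m x = 0 := by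
      apply Finset.sum_eq_zero
      intro x hx
      have hxi : x ≠ i := Finset.ne_of_mem_erase hx
      have hxl : x ≠ l := Finset.ne_of_mem_erase (Finset.mem_of_mem_erase hx)
      have hax : T.a l x = 0 := by
        by_contra hne
        exact hex ⟨x, hxl, hxi, hne⟩
      rw [hax, zero_mul]
    rw [hzero, add_zero] at hsplit
    have hγ2 : c T i l ≤ 2 := by
      by_contra hcon
      have h3 : 3 ≤ c T i l := by omega
      nlinarith
    rcases (by omega : c T i l = 1 ∨ c T i l = 2) with h1 | h2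
    · left; rw [h1, one_mul] at hsplit; linarith
    · right; rw [h2] at hsplit; linarith

lemma core_ineq (i : Fin n) (M : ℤ) (hM : 0 < M) (S : Finset (Fin n))
    (hc : ∀ l ∈ S, 0 ≤ c T l i)
    (hcl : ∀ l ∈ S, c T l i ≠ 0 →
      (2 * MM T l = M ∨ (MM T l ≤ M ∧ 2 * M ≤ 3 * MM T l))) :
    ∃ n1 n2 : ℤ, 0 ≤ n1 ∧ 0 ≤ n2 ∧
      6 * ∑ l ∈ S, c T l i * MM T l ≤ (3 * n1 + 6 * n2) * M ∧
      (3 * n1 + 4 * n2) * M ≤ 6 * ∑ l ∈ S, c T l i * MM T l := by
  classical
  induction S using Finset.induction_on with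
  | empty => exact ⟨0, 0, le_refl _, le_refl _, by simp, by simp⟩
  | insert a S ha ih =>
    obtain ⟨n1, n2, h1, h2, h3, h4⟩ := ih (fun l hl => hc l (Finset.mem_insert_of_mem hl))
      (fun l hl => hcl l (Finset.mem_insert_of_mem hl))
    have hca := hc a (Finset.mem_insert_self a S)
    rw [Finset.sum_insert ha]
    by_cases h0 : c T a i = 0
    · refine ⟨n1, n2, h1, h2, ?_, ?_⟩
      · rw [h0, zero_mul, zero_add]; exact h3
      · rw [h0, zero_mul, zero_add]; exact h4
    · rcases hcl a (Finset.mem_insert_self a S) h0 with hH | ⟨hG1, hG2⟩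
      · have h5 : 6 * (c T a i * MM T a) = 3 * c T a i * M := by rw [← hH]; ring
        refine ⟨n1 + c T a i, n2, by linarith, h2, ?_, ?_⟩
        · linarith
        · linarith
      · have h5 : c T a i * MM T a ≤ c T a i * M := mul_le_mul_of_nonneg_left hG1 hca
        have h6 : c T a i * (2 * M) ≤ c T a i * (3 * MM T a) :=
          mul_le_mul_of_nonneg_left hG2 hca
        refine ⟨n1, n2 + c T a i, h1, by linarith, ?_, ?_⟩
        · linarith
        · linarith

lemma peak_contra {i p : Fin n} (hi : T.IsMinusTwo i)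
    (hmax : ∀ k, T.IsMinusTwo k → MM T k ≤ MM T i)
    (hnb1 : ∀ l, T.a i l ≠ 0 → T.IsMinusTwo l)
    (hnb2 : ∀ l, T.a i l ≠ 0 → ∀ l', T.a l l' ≠ 0 → T.IsMinusTwo l')
    (hpi : p ≠ i) (hap : T.a i p ≠ 0) (hlt : MM T p < MM T i)
    (h6 : 6 * (MM T i - MM T p) < MM T i) : False := by
  classical
  have hM := MM_pos T i
  have hrow : ∑ l ∈ univ.erase i, c T l i * MM T l = 2 * MM T i := by
    rw [← row_eq T hi]
    exact Finset.sum_congr rfl (fun l _ => (term_eq T i l).symm)
  have hp_mem : p ∈ univ.erase i := Finset.mem_erase.mpr ⟨hpi, mem_univ p⟩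
  have hsplit : c T p i * MM T p + ∑ l ∈ (univ.erase i).erase p, c T l i * MM T l
      = ∑ l ∈ univ.erase i, c T l i * MM T l :=
    Finset.add_sum_erase (univ.erase i) (fun l => c T l i * MM T l) hp_mem
  rw [hrow] at hsplit
  have hγ : 1 ≤ c T p i := one_le_c T hpi (by rw [a_symm T p i]; exact hap)
  obtain ⟨n1, n2, h1, h2, h3, h4⟩ := core_ineq T i (MM T i) hM ((univ.erase i).erase p)
    (fun l hl => c_nonneg T (Finset.ne_of_mem_erase (Finset.mem_of_mem_erase hl)))
    (fun l hl hcl => by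
      have hli : l ≠ i := Finset.ne_of_mem_erase (Finset.mem_of_mem_erase hl)
      have hali : T.a l i ≠ 0 := fun h => hcl (c_eq_zero T h)
      have hail : T.a i l ≠ 0 := by rw [a_symm T i l]; exact hali
      have hlK := hnb1 l hail
      have hle := hmax l hlK
      rcases claim1 T hlK (Ne.symm hli) hali (hnb2 l hail) hle with h | h
      · exact Or.inl h
      · exact Or.inr ⟨hle, h⟩)
  have hA : c T p i * MM T p < c T p i * MM T i := mul_lt_mul_of_pos_left hlt (by linarith)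
  have hB : c T p i * (5 * MM T i) < c T p i * (6 * MM T p) :=
    mul_lt_mul_of_pos_left (by linarith) (by linarith)
  have hC : 12 * MM T i < (6 * c T p i + 3 * n1 + 6 * n2) * MM T i := by linarith
  have hD : (5 * c T p i + 3 * n1 + 4 * n2) * MM T i < 12 * MM T i := by linarith
  have hC' := lt_of_mul_lt_mul_right hC hM.le
  have hD' := lt_of_mul_lt_mul_right hD hM.le
  omega

lemma bound_minusTwo (B : ℤ) (hB0 : 0 ≤ B) (hB : ∀ k, Near T 0 k → MM T k ≤ B)
    (hJ : ∃ j, ¬T.IsMinusTwo j) {k : Fin n} (hk : T.IsMinusTwo k) : MM T k ≤ 32 * B := by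
  classical
  obtain ⟨K, hK⟩ : ∃ K : Finset (Fin n), ∀ x, x ∈ K ↔ T.IsMinusTwo x :=
    ⟨univ.filter (fun x => T.IsMinusTwo x), fun x => by
      rw [Finset.mem_filter]; exact ⟨fun h => h.2, fun h => ⟨mem_univ _, h⟩⟩⟩
  obtain ⟨k0, hk0K, hk0max⟩ := Finset.exists_max_image K (MM T) ⟨k, (hK k).mpr hk⟩
  have hk0 : T.IsMinusTwo k0 := (hK k0).mp hk0K
  have hmax0 : ∀ x, T.IsMinusTwo x → MM T x ≤ MM T k0 := fun x hx => hk0max x ((hK x).mpr hx)
  by_contra hcon
  have hbig : 32 * B < MM T k0 := by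
    have h1 := hmax0 k hk
    omega
  have hex : ∃ s, ∃ z, T.IsMinusTwo z ∧ MM T z = MM T k0 ∧ Near T s z := by
    obtain ⟨s, hs⟩ := exists_near T hJ hk0
    exact ⟨s, k0, hk0, rfl, hs⟩
  obtain ⟨r, ⟨i, hiK, hiM, hir⟩, hmin⟩ : ∃ r,
      (∃ z, T.IsMinusTwo z ∧ MM T z = MM T k0 ∧ Near T r z) ∧
      ∀ s, s < r → ¬ ∃ z, T.IsMinusTwo z ∧ MM T z = MM T k0 ∧ Near T s z :=
    ⟨Nat.find hex, Nat.find_spec hex, fun s hs => Nat.find_min hex hs⟩
  have hmaxi : ∀ x, T.IsMinusTwo x → MM T x ≤ MM T i := fun x hx => by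
    rw [hiM]; exact hmax0 x hx
  have hbigi : 32 * B < MM T i := by rw [hiM]; exact hbig
  rcases Nat.lt_or_ge r 6 with hr6 | hr6
  · have h1 := near_bound T B hB0 hB r i hir
    have h2 : (2:ℤ) ^ r ≤ 32 := by
      calc (2:ℤ) ^ r ≤ 2 ^ 5 := pow_le_pow_right₀ (by norm_num) (by omega)
        _ = 32 := by norm_num
    have h3 : (2:ℤ) ^ r * B ≤ 32 * B := mul_le_mul_of_nonneg_right h2 hB0
    linarith
  · obtain ⟨r', hr'⟩ : ∃ r', r = r' + 6 := ⟨r - 6, by omega⟩
    subst hr'
    have hn0 : ¬Near T (r' + 5) i := fun h => hmin (r' + 5) (by omega) ⟨i, hiK, hiM, h⟩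
    obtain ⟨p1, hN1, ha1⟩ := descend T (r' + 5) (r' + 6) (by omega) hir hn0
    have hn1 : ¬Near T (r' + 4) p1 :=
      not_near_of_adj T (r' + 4) (r' + 5) (by omega) hiK hn0 ha1
    have hK1 := near_minusTwo T _ _ hN1
    obtain ⟨p2, hN2, ha2⟩ := descend T (r' + 4) (r' + 5) (by omega) hN1 hn1
    have hn2 : ¬Near T (r' + 3) p2 :=
      not_near_of_adj T (r' + 3) (r' + 4) (by omega) hK1 hn1 ha2
    have hK2 := near_minusTwo T _ _ hN2
    obtain ⟨p3, hN3, ha3⟩ := descend T (r' + 3) (r' + 4) (by omega) hN2 hn2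
    have hn3 : ¬Near T (r' + 2) p3 :=
      not_near_of_adj T (r' + 2) (r' + 3) (by omega) hK2 hn2 ha3
    have hK3 := near_minusTwo T _ _ hN3
    obtain ⟨p4, hN4, ha4⟩ := descend T (r' + 2) (r' + 3) (by omega) hN3 hn3
    have hn4 : ¬Near T (r' + 1) p4 :=
      not_near_of_adj T (r' + 1) (r' + 2) (by omega) hK3 hn3 ha4
    have hK4 := near_minusTwo T _ _ hN4
    obtain ⟨p5, hN5, ha5⟩ := descend T (r' + 1) (r' + 2) (by omega) hN4 hn4
    have hn5 : ¬Near T r' p5 :=
      not_near_of_adj T r' (r' + 1) (by omega) hK4 hn4 ha5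
    have hK5 := near_minusTwo T _ _ hN5
    obtain ⟨p6, hN6, ha6⟩ := descend T r' (r' + 1) (by omega) hN5 hn5
    -- distinctness and concavity
    have hp1i : p1 ≠ i := fun e => hn0 (by rw [← e]; exact hN1)
    have c1 : MM T i + MM T p2 ≤ 2 * MM T p1 :=
      concave T hK1 (Ne.symm hp1i) (fun e => hn1 (by rw [← e]; exact hN2))
        (fun e => hn0 (by rw [e]; exact near_mono T (by omega) hN2))
        (by rw [a_symm T p1 i]; exact ha1) ha2
    have c2 : MM T p1 + MM T p3 ≤ 2 * MM T p2 :=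
      concave T hK2 (fun e => hn1 (by rw [e]; exact hN2)) (fun e => hn2 (by rw [← e]; exact hN3))
        (fun e => hn1 (by rw [e]; exact near_mono T (by omega) hN3))
        (by rw [a_symm T p2 p1]; exact ha2) ha3
    have c3 : MM T p2 + MM T p4 ≤ 2 * MM T p3 :=
      concave T hK3 (fun e => hn2 (by rw [e]; exact hN3)) (fun e => hn3 (by rw [← e]; exact hN4))
        (fun e => hn2 (by rw [e]; exact near_mono T (by omega) hN4))
        (by rw [a_symm T p3 p2]; exact ha3) ha4
    have c4 : MM T p3 + MM T p5 ≤ 2 * MM T p4 :=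
      concave T hK4 (fun e => hn3 (by rw [e]; exact hN4)) (fun e => hn4 (by rw [← e]; exact hN5))
        (fun e => hn3 (by rw [e]; exact near_mono T (by omega) hN5))
        (by rw [a_symm T p4 p3]; exact ha4) ha5
    have c5 : MM T p4 + MM T p6 ≤ 2 * MM T p5 :=
      concave T hK5 (fun e => hn4 (by rw [e]; exact hN5)) (fun e => hn5 (by rw [← e]; exact hN6))
        (fun e => hn4 (by rw [e]; exact near_mono T (by omega) hN6))
        (by rw [a_symm T p5 p4]; exact ha5) ha6
    have hx6 := MM_pos T p6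
    have h6 : 6 * (MM T i - MM T p1) < MM T i := by linarith
    have hle1 := hmaxi p1 hK1
    have hlt1 : MM T p1 < MM T i := by
      rcases hle1.lt_or_eq with h | h
      · exact h
      · exact absurd ⟨p1, hK1, h.trans hiM, hN1⟩ (hmin (r' + 5) (by omega))
    have hi0 : ¬Near T 0 i := fun h => hn0 (near_mono T (by omega) h)
    have hnb1 : ∀ l, T.a i l ≠ 0 → T.IsMinusTwo l := fun l hl => nbr_minusTwo T hiK hi0 hl
    have hnb2 : ∀ l, T.a i l ≠ 0 → ∀ l', T.a l l' ≠ 0 → T.IsMinusTwo l' := by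
      intro l hl l' hl'
      have hl4 : ¬Near T (r' + 4) l :=
        not_near_of_adj T (r' + 4) (r' + 5) (by omega) hiK hn0 hl
      have hl0 : ¬Near T 0 l := fun h => hl4 (near_mono T (by omega) h)
      exact nbr_minusTwo T (hnb1 l hl) hl0 hl'
    exact peak_contra T hiK hmaxi hnb1 hnb2 hp1i ha1 hlt1 h6

theorem main2184 {n : ℕ} (T : Models.NumericalType n) (hmin : T.IsMinimal) (hg : 2 ≤ T.genus)
    (i j : Fin n) : T.m i * |T.a i j| ≤ 768 * T.genus := by
  rcases Nat.lt_or_ge 1 n with hn | hn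
  · obtain ⟨_, hJ⟩ := Groth.Agent.S2183.result T hmin hn hg
    have hB0 : 0 ≤ 6 * T.genus - 6 := by linarith
    have hJne : ∃ j, ¬T.IsMinusTwo j := by
      by_contra hcon
      have hall : ∀ i, T.IsMinusTwo i := fun i => by
        by_contra h
        exact hcon ⟨i, h⟩
      have h1 := genus_eq_one_of_all T hall
      omega
    have hB : ∀ k, Near T 0 k → MM T k ≤ 6 * T.genus - 6 := by
      intro k h
      obtain ⟨hk, j', hj', hakj⟩ := (near_zero T k).mp h
      have hne : k ≠ j' := fun e => hj' (by rw [← e]; exact hk)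
      have h1 := MM_le_term T hne (by rw [a_symm T j' k]; exact hakj)
      have h2 := (hJ j' hj').2.2 k
      rw [a_symm T j' k] at h1
      linarith
    have hbd : ∀ k, T.IsMinusTwo k → MM T k ≤ 32 * (6 * T.genus - 6) :=
      fun k hk => bound_minusTwo T _ hB0 hB hJne hk
    by_cases hij : i = j
    · subst hij
      by_cases hiK : T.IsMinusTwo i
      · have h1 := hbd i hiK
        rw [hiK.2]
        have hw := T.w_pos i
        have habs : |(-2 * T.w i)| = 2 * T.w i := by
          rw [abs_of_neg (by linarith)]; ring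
        rw [habs]
        unfold MM at h1
        nlinarith
      · have h1 := (hJ i hiK).2.1
        linarith
    · have hnn : 0 ≤ T.a i j := T.offDiag_nonneg i j hij
      rw [abs_of_nonneg hnn]
      by_cases hjK : T.IsMinusTwo j
      · have h1 := hbd j hjK
        have h2 := one_term T hjK hij
        rw [a_symm T j i] at h2
        linarith
      · have h1 := (hJ j hjK).2.2 i
        linarith
  · have hn1 : n = 1 := by have := T.pos; omega
    subst hn1
    have hi : i = 0 := Subsingleton.elim _ _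
    have hj : j = 0 := Subsingleton.elim _ _
    rw [hi, hj, single_a_zero T, abs_zero, mul_zero]
    linarith

end Groth.Agent.Lib.Helper21.RJz
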