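import Mathlib
import Groth.Prelude.Def_Models
import Groth.Agent.Lib.Helper11.NumType
import Groth.Agent.Lib.Helper11.NumTypeGen
import Groth.Agent.Lib.Helper11.NumTypeBasic
import Groth.Agent.Lib.Helper6.NumPicZ
import Groth.Agent.Lib.Helper21.RJz
import Groth.Agent.S2172
import Groth.Agent.S2177
import Groth.Agent.S2179

/-!
# The `ℓ`-torsion of the Picard group of a numerical type, `ℓ > 768 g`

Minimal case: `ℓ` divides no non-zero entry of `a` and no `m i` (bound `m i |a i j| ≤ 768 g`),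
so the graph-theoretic torsion bound applies to the cokernel of `a`, in which `Pic` embeds.
General case: contract `(-1)`-indices one at a time; `Pic` embeds in the `Pic` of the contraction
and the genus does not change.
-/

set_option autoImplicit false
set_option linter.style.haveILetI false
set_option linter.unusedSectionVars false
set_option linter.unusedVariables false
set_option linter.unusedSimpArgs false

open Finset Models

namespace Groth.Agent.Lib.Helper21.RKa

open Groth.Agent.Lib.Helper11.NumType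
open Groth.Agent.Lib.Helper6.NumContr (contr isContraction_contr genus_eq)
open Groth.Agent.Lib.Helper6.NumContrPic (pic_contraction)
open Groth.Agent.Lib.Helper6.NumPicZ (perm genus_perm picPerm)

lemma finite_torsionBy_quot (n : ℕ) (S : Submodule ℤ (Fin n → ℤ)) (ℓ : ℤ) (hℓ : ℓ ≠ 0) :
    Finite (Submodule.torsionBy ℤ ((Fin n → ℤ) ⧸ S) ℓ) := by
  apply Module.finite_of_fg_torsion
  intro x
  refine ⟨⟨ℓ, mem_nonZeroDivisors_of_ne_zero hℓ⟩, ?_⟩
  have h1 : (⟨ℓ, mem_nonZeroDivisors_of_ne_zero hℓ⟩ : nonZeroDivisors ℤ) • x = ℓ • x := rfl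
  rw [h1]
  apply Subtype.ext
  rw [Submodule.coe_smul, Submodule.coe_zero]
  exact (Submodule.mem_torsionBy_iff _ _).mp x.2

lemma card_torsionBy_le_of_injective {M N : Type*} [AddCommGroup M] [AddCommGroup N]
    [Module ℤ M] [Module ℤ N] (f : M →+ N) (hf : Function.Injective f) (ℓ : ℤ)
    [Finite (Submodule.torsionBy ℤ N ℓ)] :
    Nat.card (Submodule.torsionBy ℤ M ℓ) ≤ Nat.card (Submodule.torsionBy ℤ N ℓ) := by
  have hmem : ∀ x : Submodule.torsionBy ℤ M ℓ, f x.1 ∈ Submodule.torsionBy ℤ N ℓ := by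
    intro x
    have h1 := (Submodule.mem_torsionBy_iff ℓ x.1).mp x.2
    have h1' : ℓ • x.1 = 0 := (int_smul_eq_zsmul ‹Module ℤ M› ℓ x.1).symm.trans h1
    have h2 : ℓ • f x.1 = 0 := by rw [← map_zsmul, h1', map_zero]
    rw [Submodule.mem_torsionBy_iff]
    exact (int_smul_eq_zsmul ‹Module ℤ N› ℓ (f x.1)).trans h2
  apply Nat.card_le_card_of_injective
    (fun x => (⟨f x.1, hmem x⟩ : Submodule.torsionBy ℤ N ℓ))
  intro x y hxy
  apply Subtype.ext
  apply hf
  exact congrArg Subtype.val hxy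

lemma minimal_of_one (T : NumericalType 1) : T.IsMinimal := by
  intro i hi
  have hi0 : i = 0 := Subsingleton.elim _ _
  rw [hi0] at hi
  have h1 := hi.2
  rw [single_a_zero T] at h1
  have h2 := T.w_pos 0
  omega

lemma edgeCount_one (T : NumericalType 1) : T.edgeCount = 0 := by
  unfold NumericalType.edgeCount
  rw [Finset.card_eq_zero, Finset.filter_eq_empty_iff]
  intro p _ hp
  have h1 : p.1 = p.2 := Subsingleton.elim _ _
  have h2 := hp.1
  rw [h1] at h2
  exact lt_irrefl _ h2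

theorem minimal_case {n : ℕ} (T : NumericalType n) (hmin : T.IsMinimal) (hg : 2 ≤ T.genus)
    (ℓ : ℕ) (hℓ : ℓ.Prime) (hℓg : 768 * T.genus < ℓ) :
    Nat.card (Submodule.torsionBy ℤ T.Pic (ℓ : ℤ)) ≤ ℓ ^ T.topGenus.toNat ∧
      T.topGenus ≤ T.genus := by
  have hbound := Groth.Agent.Lib.Helper21.RJz.main2184 T hmin hg
  have hℓA : ∀ i j, T.a i j ≠ 0 → ¬ ((ℓ : ℤ) ∣ T.a i j) := by
    intro i j hne hdvd
    have h1 := hbound i j
    have hm := T.m_pos i
    have habs : 0 < |T.a i j| := abs_pos.mpr hne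
    have h2 : (ℓ : ℤ) ≤ |T.a i j| := Int.le_of_dvd habs ((dvd_abs _ _).mpr hdvd)
    have h3 : |T.a i j| ≤ T.m i * |T.a i j| := by nlinarith
    linarith
  have hmlt : ∀ i, T.m i < ℓ := by
    intro i
    rcases Nat.lt_or_ge 1 n with hn | hn
    · have hc := c_diag_neg T (by omega) i
      have ha := a_eq T i i
      have hw := T.w_pos i
      have hne : T.a i i ≠ 0 := by
        rw [ha]
        have hlt : T.w i * c T i i < 0 := by nlinarith
        exact hlt.ne
      have h1 := hbound i i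
      have habs : 1 ≤ |T.a i i| := Int.one_le_abs hne
      have hm := T.m_pos i
      have h3 : T.m i ≤ T.m i * |T.a i i| := by nlinarith
      linarith
    · have hn1 : n = 1 := by have := T.pos; omega
      subst hn1
      have hi : i = 0 := Subsingleton.elim _ _
      rw [hi]
      have hgen := single_genus T
      have hm := T.m_pos 0
      have hw := T.w_pos 0
      have hprod : 1 ≤ T.m 0 * T.w 0 * (T.g 0 - 1) := by linarith
      have hP0 : 0 < T.m 0 * T.w 0 := mul_pos hm hw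
      have hg1 : 1 ≤ T.g 0 - 1 := by
        by_contra hcon
        have h0 : T.g 0 - 1 ≤ 0 := by omega
        nlinarith
      have hP : T.m 0 ≤ T.m 0 * T.w 0 := by nlinarith
      have h4 : T.m 0 ≤ T.m 0 * T.w 0 * (T.g 0 - 1) := by nlinarith
      linarith
  have hℓm : ∀ i, ¬ ((ℓ : ℤ) ∣ T.m i) := by
    intro i hd
    have h1 := Int.le_of_dvd (T.m_pos i) hd
    have h2 := hmlt i
    omega
  have h72 := Groth.Agent.S2172.result T.a T.m T.symm T.offDiag_nonneg T.m_pos T.mulVec_m
    T.connected ℓ hℓ hℓA hℓm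
  obtain ⟨f, hf, -⟩ := Groth.Agent.S2179.result T
  haveI : Finite (Submodule.torsionBy ℤ T.CokerA (ℓ : ℤ)) :=
    finite_torsionBy_quot n _ (ℓ : ℤ) (by exact_mod_cast hℓ.ne_zero)
  have hle := card_torsionBy_le_of_injective f hf (ℓ : ℤ)
  have htop : T.topGenus ≤ T.genus := by
    rcases Nat.lt_or_ge 1 n with hn | hn
    · exact Groth.Agent.S2177.result T hmin hn
    · have hn1 : n = 1 := by have := T.pos; omega
      subst hn1
      unfold NumericalType.topGenus
      rw [edgeCount_one T]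
      push_cast
      linarith
  refine ⟨?_, htop⟩
  have hexp : T.edgeCount + 1 - n = T.topGenus.toNat := by
    unfold NumericalType.topGenus
    omega
  calc Nat.card (Submodule.torsionBy ℤ T.Pic (ℓ : ℤ))
      ≤ Nat.card (Submodule.torsionBy ℤ T.CokerA (ℓ : ℤ)) := hle
    _ ≤ ℓ ^ (T.edgeCount + 1 - n) := h72
    _ = ℓ ^ T.topGenus.toNat := by rw [hexp]

theorem min_to_genus {n : ℕ} (T : NumericalType n) (hmin : T.IsMinimal) (hg : 2 ≤ T.genus)
    (ℓ : ℕ) (hℓ : ℓ.Prime) (hℓg : 768 * T.genus < ℓ) :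
    Nat.card (Submodule.torsionBy ℤ T.Pic (ℓ : ℤ)) ≤ ℓ ^ T.genus.toNat := by
  obtain ⟨h1, h2⟩ := minimal_case T hmin hg ℓ hℓ hℓg
  exact h1.trans (Nat.pow_le_pow_right hℓ.pos (Int.toNat_le_toNat h2))

theorem card_le_genus : ∀ (n : ℕ) (T : NumericalType (n + 1)) (ℓ : ℕ), 2 ≤ T.genus → ℓ.Prime →
    768 * T.genus < ℓ → Nat.card (Submodule.torsionBy ℤ T.Pic (ℓ : ℤ)) ≤ ℓ ^ T.genus.toNat
  | 0, T, ℓ, hg, hℓ, hℓg => min_to_genus T (minimal_of_one T) hg ℓ hℓ hℓg
  | (n + 1), T, ℓ, hg, hℓ, hℓg => by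
    by_cases hmin : T.IsMinimal
    · exact min_to_genus T hmin hg ℓ hℓ hℓg
    · obtain ⟨i, hi⟩ := not_forall_not.mp hmin
      have hlast : (perm T (Equiv.swap i (Fin.last (n + 1)))).IsMinusOne (Fin.last (n + 1)) := by
        show T.IsMinusOne ((Equiv.swap i (Fin.last (n + 1))) (Fin.last (n + 1)))
        rw [Equiv.swap_apply_right]
        exact hi
      have hcon := isContraction_contr _ hlast
      have hg'eq : (contr _ hlast).genus = T.genus := by
        rw [genus_eq _ hlast _ hcon, genus_perm]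
      have ih := card_le_genus n (contr _ hlast) ℓ (by rw [hg'eq]; exact hg) hℓ
        (by rw [hg'eq]; exact hℓg)
      obtain ⟨f, hf, -⟩ := pic_contraction _ _ hlast hcon
      haveI : Finite (Submodule.torsionBy ℤ (contr _ hlast).Pic (ℓ : ℤ)) :=
        finite_torsionBy_quot _ _ (ℓ : ℤ) (by exact_mod_cast hℓ.ne_zero)
      have hle := card_torsionBy_le_of_injective
        (f.comp (picPerm T (Equiv.swap i (Fin.last (n + 1)))).toAddEquiv.toAddMonoidHom)
        (fun x y hxy => (picPerm T _).injective (hf hxy)) (ℓ : ℤ)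
      rw [hg'eq] at ih
      exact hle.trans ih

theorem main2185 {n : ℕ} (T : NumericalType n) (hg : 2 ≤ T.genus) (ℓ : ℕ) (hℓ : ℓ.Prime)
    (hℓg : 768 * T.genus < ℓ) :
    Nat.card (Submodule.torsionBy ℤ T.Pic (ℓ : ℤ)) ≤ ℓ ^ T.genus.toNat ∧
      (T.IsMinimal → Nat.card (Submodule.torsionBy ℤ T.Pic (ℓ : ℤ)) ≤ ℓ ^ T.topGenus.toNat ∧
        T.topGenus ≤ T.genus) := by
  refine ⟨?_, fun hmin => minimal_case T hmin hg ℓ hℓ hℓg⟩
  obtain ⟨m, rfl⟩ : ∃ m, n = m + 1 := Nat.exists_eq_succ_of_ne_zero T.pos.ne'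
  exact card_le_genus m T ℓ hg hℓ hℓg

end Groth.Agent.Lib.Helper21.RKa
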