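import Mathlib

set_option autoImplicit false
set_option linter.style.haveILetI false
set_option linter.unusedSectionVars false
set_option linter.unusedVariables false
set_option linter.unusedSimpArgs false

/-!
# Finite domains over complete local rings with algebraically closed residue field

* `isPrecomplete_of_finite`: finite modules over a precomplete ring are precomplete.
* `idem_mod`: in a domain which is `J`-adically complete, idempotents modulo `J` are trivial.
* `exists_sub_nilpotent`: in a connected algebra over an algebraically closed field, every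
  integral element is a scalar plus a nilpotent.
* `isLocalRing_of_finite`, `exists_sub_mem_maximalIdeal`: a domain finite over a complete
  Noetherian local ring with algebraically closed residue field is local with the same residue field.
-/

namespace Groth.Agent.Lib.Helper21.RKb

open Polynomial IsLocalRing

universe u v

/-- Finite modules over a precomplete ring are precomplete. -/
theorem isPrecomplete_of_finite {R : Type*} [CommRing R] (I : Ideal R) (M : Type*)
    [AddCommGroup M] [Module R M] [Module.Finite R M] [IsPrecomplete I R] :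
    IsPrecomplete I M := by
  rw [← AdicCompletion.of_surjective_iff]
  intro y
  obtain ⟨z, rfl⟩ := AdicCompletion.ofTensorProduct_surjective_of_finite I M y
  induction z using TensorProduct.induction_on with
  | zero => exact ⟨0, by simp⟩
  | tmul r m =>
    obtain ⟨r', rfl⟩ := AdicCompletion.of_surjective I R r
    refine ⟨r' • m, ?_⟩
    rw [AdicCompletion.ofTensorProduct_tmul]
    ext n
    rw [AdicCompletion.smul_eval, map_smul, AdicCompletion.val_smul_apply,
      AdicCompletion.of_apply, AdicCompletion.of_apply]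
    rfl
  | add a b ha hb =>
    obtain ⟨a', ha'⟩ := ha
    obtain ⟨b', hb'⟩ := hb
    exact ⟨a' + b', by rw [map_add, ha', hb', map_add]⟩

theorem isUnit_add_of_mem_jacobson {B : Type*} [CommRing B] {w ν : B} (hw : IsUnit w)
    (hν : ν ∈ Ideal.jacobson (⊥ : Ideal B)) : IsUnit (w + ν) := by
  obtain ⟨w', rfl⟩ := hw
  have h := (Ideal.mem_jacobson_bot.mp hν) (↑w'⁻¹ : B)
  have e : (w' : B) + ν = (ν * ↑w'⁻¹ + 1) * w' := by
    have := w'.inv_mul
    linear_combination (-ν) * this
  rw [e]
  exact h.mul w'.isUnit

/-- Idempotents modulo a complete ideal of a domain are trivial. -/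
theorem idem_mod {B : Type*} [CommRing B] [IsDomain B] (J : Ideal B) [IsAdicComplete J B]
    (e₀ : B) (h : e₀ * e₀ - e₀ ∈ J) : e₀ ∈ J ∨ e₀ - 1 ∈ J := by
  have hH : HenselianRing B J := inferInstance
  have hmonic : (X ^ 2 - X : B[X]).Monic :=
    monic_X_pow_sub (n := 2) (p := (X : B[X])) (lt_of_le_of_lt degree_X_le (by norm_num))
  have hev : (X ^ 2 - X : B[X]).eval e₀ ∈ J := by
    have : (X ^ 2 - X : B[X]).eval e₀ = e₀ * e₀ - e₀ := by
      simp only [eval_sub, eval_pow, eval_X]; ring
    rw [this]; exact h
  have hder : (X ^ 2 - X : B[X]).derivative.eval e₀ = 2 * e₀ - 1 := by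
    simp only [derivative_sub, derivative_X_pow, derivative_X, eval_sub, eval_mul, eval_pow,
      eval_X, eval_one, eval_C, Nat.cast_ofNat]
    simp
  have hunit : IsUnit (Ideal.Quotient.mk J ((X ^ 2 - X : B[X]).derivative.eval e₀)) := by
    rw [hder]
    apply IsUnit.of_mul_eq_one (Ideal.Quotient.mk J (2 * e₀ - 1))
    rw [← map_mul, ← map_one (Ideal.Quotient.mk J), Ideal.Quotient.eq]
    have : (2 * e₀ - 1) * (2 * e₀ - 1) - 1 = 4 * (e₀ * e₀ - e₀) := by ring
    rw [this]; exact J.mul_mem_left _ h
  obtain ⟨a, ha, haJ⟩ := hH.is_henselian (X ^ 2 - X) hmonic e₀ hev hunit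
  have ha' : a * (a - 1) = 0 := by
    have h1 : (X ^ 2 - X : B[X]).eval a = 0 := ha
    simp only [eval_sub, eval_pow, eval_X] at h1
    linear_combination h1
  rcases mul_eq_zero.mp ha' with h0 | h1
  · left
    have e : e₀ = -(a - e₀) := by rw [h0]; ring
    rw [e]; exact J.neg_mem haJ
  · right
    have h1' : a = 1 := by linear_combination h1
    have e : e₀ - 1 = -(a - e₀) := by rw [h1']; ring
    rw [e]; exact J.neg_mem haJ

theorem idem_aux {Λ : Type*} [CommRing Λ] (hid : ∀ e : Λ, e * e = e → e = 0 ∨ e = 1)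
    (A Bt G H : Λ) (hsum : A * G + Bt * H = 1) (hgh : G * H = 0) : H = 0 ∨ G = 0 := by
  have hidem : (Bt * H) * (Bt * H) = Bt * H := by
    linear_combination (Bt * H) * hsum - A * Bt * hgh
  rcases hid _ hidem with h0 | h1
  · left; linear_combination (-H) * hsum + A * hgh + H * h0
  · right; linear_combination Bt * hgh - G * h1

/-- In a connected algebra over an algebraically closed field, every integral element is a
scalar plus a nilpotent element. -/
theorem exists_sub_nilpotent {k Λ : Type*} [Field k] [IsAlgClosed k] [CommRing Λ] [Algebra k Λ]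
    [Nontrivial Λ] (hid : ∀ e : Λ, e * e = e → e = 0 ∨ e = 1) (x : Λ) (hx : IsIntegral k x) :
    ∃ c : k, IsNilpotent (x - algebraMap k Λ c) := by
  have hμ0 : minpoly k x ≠ 0 := minpoly.ne_zero hx
  have hdeg : (minpoly k x).degree ≠ 0 := (minpoly.degree_pos hx).ne'
  obtain ⟨c, hc⟩ := IsAlgClosed.exists_root (minpoly k x) hdeg
  obtain ⟨h, hfac, hnd⟩ :=
    Polynomial.exists_eq_pow_rootMultiplicity_mul_and_not_dvd (minpoly k x) hμ0 c
  obtain ⟨n, hn⟩ : ∃ n : ℕ, n = (minpoly k x).rootMultiplicity c := ⟨_, rfl⟩
  rw [← hn] at hfac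
  have hcop : IsCoprime ((X - C c) ^ n) h :=
    ((Polynomial.irreducible_X_sub_C c).coprime_iff_not_dvd.mpr hnd).pow_left
  obtain ⟨α, β, hab⟩ := hcop
  have hμx : aeval x (minpoly k x) = 0 := minpoly.aeval k x
  have hgh : aeval x ((X - C c) ^ n) * aeval x h = 0 := by
    rw [← map_mul, ← hfac, hμx]
  have hsum : aeval x α * aeval x ((X - C c) ^ n) + aeval x β * aeval x h = 1 := by
    rw [← map_mul, ← map_mul, ← map_add, hab, map_one]
  rcases idem_aux hid _ _ _ _ hsum hgh with hH | hG
  · exfalso
    have hdvd : minpoly k x ∣ h := minpoly.dvd k x hH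
    exact hnd ((dvd_iff_isRoot.mpr hc).trans hdvd)
  · refine ⟨c, n, ?_⟩
    rw [← hG]
    simp only [map_pow, map_sub, aeval_X, aeval_C]

section D

variable (R : Type*) [CommRing R] [IsLocalRing R] [IsNoetherianRing R]
  [IsAdicComplete (maximalIdeal R) R] [IsAlgClosed (ResidueField R)]
  {B : Type*} [CommRing B] [IsDomain B] [Algebra R B] [Module.Finite R B]

theorem isAdicComplete_map :
    IsAdicComplete ((maximalIdeal R).map (algebraMap R B)) B := by
  rw [IsAdicComplete.map_algebraMap_iff]
  haveI : IsPrecomplete (maximalIdeal R) B := isPrecomplete_of_finite _ _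
  exact { toIsHausdorff := inferInstance, toIsPrecomplete := this }

theorem map_le_jacobson_bot :
    (maximalIdeal R).map (algebraMap R B) ≤ Ideal.jacobson (⊥ : Ideal B) := by
  haveI hc : IsAdicComplete ((maximalIdeal R).map (algebraMap R B)) B := isAdicComplete_map R
  exact IsAdicComplete.le_jacobson_bot _

theorem radical_le_jacobson_bot :
    ((maximalIdeal R).map (algebraMap R B)).radical ≤ Ideal.jacobson (⊥ : Ideal B) := by
  have h1 := map_le_jacobson_bot R (B := B)
  calc ((maximalIdeal R).map (algebraMap R B)).radical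
      ≤ Ideal.jacobson ((maximalIdeal R).map (algebraMap R B)) := Ideal.radical_le_jacobson
    _ ≤ Ideal.jacobson (Ideal.jacobson (⊥ : Ideal B)) := Ideal.jacobson_mono h1
    _ = Ideal.jacobson (⊥ : Ideal B) := Ideal.jacobson_idem

theorem map_ne_top : (maximalIdeal R).map (algebraMap R B) ≠ ⊤ := by
  intro h
  have h1 := map_le_jacobson_bot R (B := B)
  rw [h] at h1
  have h2 : (1 : B) ∈ Ideal.jacobson (⊥ : Ideal B) := h1 Submodule.mem_top
  have h3 := (Ideal.mem_jacobson_bot.mp h2) (-1)
  simp at h3

theorem exists_sub_mem_radical (b : B) :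
    ∃ c : R, b - algebraMap R B c ∈ ((maximalIdeal R).map (algebraMap R B)).radical := by
  haveI hc : IsAdicComplete ((maximalIdeal R).map (algebraMap R B)) B := isAdicComplete_map R
  haveI : Nontrivial (B ⧸ (maximalIdeal R).map (algebraMap R B)) :=
    Ideal.Quotient.nontrivial_iff.mpr (map_ne_top R)
  haveI : Module.Finite R (B ⧸ (maximalIdeal R).map (algebraMap R B)) :=
    Module.Finite.of_surjective (Ideal.Quotient.mkₐ R _).toLinearMap
      (Ideal.Quotient.mkₐ_surjective R _)
  letI : Algebra (ResidueField R) (B ⧸ (maximalIdeal R).map (algebraMap R B)) :=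
    inferInstanceAs (Algebra (R ⧸ maximalIdeal R) (B ⧸ (maximalIdeal R).map (algebraMap R B)))
  haveI : IsScalarTower R (ResidueField R) (B ⧸ (maximalIdeal R).map (algebraMap R B)) :=
    inferInstanceAs (IsScalarTower R (R ⧸ maximalIdeal R)
      (B ⧸ (maximalIdeal R).map (algebraMap R B)))
  haveI : Module.Finite (ResidueField R) (B ⧸ (maximalIdeal R).map (algebraMap R B)) :=
    Module.Finite.of_restrictScalars_finite R _ _
  have hid : ∀ e : B ⧸ (maximalIdeal R).map (algebraMap R B), e * e = e → e = 0 ∨ e = 1 := by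
    intro e he
    obtain ⟨e₀, rfl⟩ := Ideal.Quotient.mk_surjective e
    have h1 : e₀ * e₀ - e₀ ∈ (maximalIdeal R).map (algebraMap R B) := by
      rw [← Ideal.Quotient.eq, map_mul]; exact he
    rcases idem_mod _ e₀ h1 with h | h
    · left; exact Ideal.Quotient.eq_zero_iff_mem.mpr h
    · right
      rw [← map_one (Ideal.Quotient.mk _), Ideal.Quotient.eq]; exact h
  obtain ⟨cbar, hcb⟩ := exists_sub_nilpotent (k := ResidueField R) hid
    (Ideal.Quotient.mk _ b) (Algebra.IsIntegral.isIntegral _)
  obtain ⟨c, rfl⟩ := Ideal.Quotient.mk_surjective cbar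
  refine ⟨c, ?_⟩
  obtain ⟨n, hn⟩ := hcb
  rw [Ideal.mem_radical_iff]
  refine ⟨n, ?_⟩
  rw [← Ideal.Quotient.eq_zero_iff_mem, map_pow, map_sub]
  exact hn

theorem isLocalRing_of_finite (R : Type*) [CommRing R] [IsLocalRing R] [IsNoetherianRing R]
    [IsAdicComplete (maximalIdeal R) R] [IsAlgClosed (ResidueField R)]
    {B : Type*} [CommRing B] [IsDomain B] [Algebra R B] [Module.Finite R B] : IsLocalRing B := by
  apply IsLocalRing.of_isUnit_or_isUnit_one_sub_self
  intro a
  obtain ⟨c, hc⟩ := exists_sub_mem_radical R a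
  have hν := radical_le_jacobson_bot R hc
  by_cases hcu : IsUnit c
  · left
    have e : a = algebraMap R B c + (a - algebraMap R B c) := by ring
    rw [e]; exact isUnit_add_of_mem_jacobson (hcu.map _) hν
  · right
    have h1c : IsUnit (1 - c) := IsLocalRing.isUnit_one_sub_self_of_mem_nonunits c hcu
    have e : 1 - a = algebraMap R B (1 - c) + (-(a - algebraMap R B c)) := by
      rw [map_sub, map_one]; ring
    rw [e]; exact isUnit_add_of_mem_jacobson (h1c.map _) (neg_mem hν)

theorem exists_sub_mem_maximalIdeal [IsLocalRing B] (b : B) :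
    ∃ c : R, b - algebraMap R B c ∈ maximalIdeal B := by
  obtain ⟨c, hc⟩ := exists_sub_mem_radical R b
  refine ⟨c, ?_⟩
  have h := radical_le_jacobson_bot R hc
  rwa [IsLocalRing.jacobson_eq_maximalIdeal (⊥ : Ideal B) bot_ne_top] at h

theorem map_le_maximalIdeal [IsLocalRing B] :
    (maximalIdeal R).map (algebraMap R B) ≤ maximalIdeal B := by
  have h := map_le_jacobson_bot R (B := B)
  rwa [IsLocalRing.jacobson_eq_maximalIdeal (⊥ : Ideal B) bot_ne_top] at h

end D

end Groth.Agent.Lib.Helper21.RKb
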