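import Mathlib
import Groth.Agent.Lib.Helper21.RKb

set_option autoImplicit false
set_option linter.style.haveILetI false
set_option linter.unusedSectionVars false
set_option linter.unusedVariables false
set_option linter.unusedSimpArgs false

/-!
# Elliptic curves with equal `j` over a complete local domain with algebraically closed residue field

* `lin`: the linearised automorphism equations of a Weierstrass cubic with invertible
  discriminant only have the trivial solution (in every characteristic).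
* `rigid`: a change of variables between two congruent Weierstrass cubics over a local ring which
  is congruent to the identity modulo the maximal ideal is congruent to the identity modulo the
  congruence ideal (Nakayama).
* `integral_all`: coefficients of a change of variables between two elliptic curves are integral.
* `main`: two elliptic curves over a complete Noetherian local domain with algebraically closed
  residue field having the same `j` are related by a change of variables.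
-/

namespace Groth.Agent.Lib.Helper21.RKc

open Polynomial IsLocalRing WeierstrassCurve

universe u v

theorem cancel_pow {Q : Type*} [CommRing Q] {z : Q} (hz : ∀ q : Q, z * q = 0 → q = 0) (n : ℕ) :
    ∀ q : Q, z ^ n * q = 0 → q = 0 := by
  induction n with
  | zero => intro q hq; simpa using hq
  | succ n ih =>
    intro q hq
    apply hz
    apply ih
    rw [← mul_assoc, ← pow_succ]; exact hq

section Lin

variable {Q : Type*} [CommRing Q] (A₁ A₂ A₃ A₄ A₆ P Rr S Tt : Q)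

/-- The annihilator of the four unknowns. -/
def Ann : Ideal Q where
  carrier := {z | z * P = 0 ∧ z * Rr = 0 ∧ z * S = 0 ∧ z * Tt = 0}
  add_mem' := by
    rintro a b ⟨h1, h2, h3, h4⟩ ⟨g1, g2, g3, g4⟩
    exact ⟨by rw [add_mul, h1, g1, add_zero], by rw [add_mul, h2, g2, add_zero],
      by rw [add_mul, h3, g3, add_zero], by rw [add_mul, h4, g4, add_zero]⟩
  zero_mem' := ⟨zero_mul _, zero_mul _, zero_mul _, zero_mul _⟩
  smul_mem' := by
    rintro c a ⟨h1, h2, h3, h4⟩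
    exact ⟨by rw [smul_eq_mul, mul_assoc, h1, mul_zero], by rw [smul_eq_mul, mul_assoc, h2, mul_zero],
      by rw [smul_eq_mul, mul_assoc, h3, mul_zero], by rw [smul_eq_mul, mul_assoc, h4, mul_zero]⟩

local notation "b2" => (A₁ ^ 2 + 4 * A₂)
local notation "b4" => (2 * A₄ + A₁ * A₃)
local notation "b6" => (A₃ ^ 2 + 4 * A₆)
local notation "b8" => (A₁ ^ 2 * A₆ + 4 * A₂ * A₆ - A₁ * A₃ * A₄ + A₂ * A₃ ^ 2 - A₄ ^ 2)
local notation "c4" => (b2 ^ 2 - 24 * b4)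
local notation "c6" => (-b2 ^ 3 + 36 * b2 * b4 - 216 * b6)
local notation "Dl" => (-b2 ^ 2 * b8 - 8 * b4 ^ 3 - 27 * b6 ^ 2 + 9 * b2 * b4 * b6)

theorem lin
    (l1 : A₁ * P - 2 * S = 0)
    (l2 : 2 * A₂ * P + A₁ * S - 3 * Rr = 0)
    (l3 : 3 * A₃ * P - A₁ * Rr - 2 * Tt = 0)
    (l4 : 4 * A₄ * P + A₃ * S - 2 * A₂ * Rr + A₁ * Tt = 0)
    (l6 : 6 * A₆ * P - A₄ * Rr + A₃ * Tt = 0)
    (d2 : (∀ q : Q, (2 : Q) * q = 0 → q = 0) ∨ (2 : Q) ∈ Ann P Rr S Tt)
    (d3 : (∀ q : Q, (3 : Q) * q = 0 → q = 0) ∨ (3 : Q) ∈ Ann P Rr S Tt)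
    (da1 : (∀ q : Q, A₁ * q = 0 → q = 0) ∨ A₁ ∈ Ann P Rr S Tt)
    (da3 : (∀ q : Q, A₃ * q = 0 → q = 0) ∨ A₃ ∈ Ann P Rr S Tt)
    (db2 : (∀ q : Q, b2 * q = 0 → q = 0) ∨ b2 ∈ Ann P Rr S Tt)
    (db4 : (∀ q : Q, b4 * q = 0 → q = 0) ∨ b4 ∈ Ann P Rr S Tt)
    (dc4 : (∀ q : Q, c4 * q = 0 → q = 0) ∨ c4 ∈ Ann P Rr S Tt)
    (dc6 : (∀ q : Q, c6 * q = 0 → q = 0) ∨ c6 ∈ Ann P Rr S Tt)
    (hΔ : ∀ q : Q, Dl * q = 0 → q = 0) :
    P = 0 ∧ Rr = 0 ∧ S = 0 ∧ Tt = 0 := by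
  have fin : ∀ z : Q, (∀ q : Q, z * q = 0 → q = 0) → z ∈ Ann P Rr S Tt →
      P = 0 ∧ Rr = 0 ∧ S = 0 ∧ Tt = 0 :=
    fun z hz h => ⟨hz _ h.1, hz _ h.2.1, hz _ h.2.2.1, hz _ h.2.2.2⟩
  rcases d2 with U2 | K2 <;> rcases d3 with U3 | K3
  · -- 2, 3 cancellable
    have hc4P : c4 * P = 0 := by
      linear_combination (-1 : Q) * ((6 * A₃ - A₁ * b2) * l1 - 2 * b2 * l2 + 6 * A₁ * l3 + 12 * l4)
    have hc6'P : (b2 * b4 - 18 * b6) * P = 0 := by
      linear_combination (-1 : Q) * (-(A₁ * b4) * l1 - 2 * b4 * l2 + 6 * A₃ * l3 + 12 * l6)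
    have hc6P : c6 * P = 0 := by linear_combination (-b2) * hc4P + 12 * hc6'P
    have hP : P = 0 := by
      rcases dc4 with Uc4 | Kc4
      · exact Uc4 P hc4P
      · rcases dc6 with Uc6 | Kc6
        · exact Uc6 P hc6P
        · have hmem : (1728 : Q) * Dl ∈ Ann P Rr S Tt := by
            have e : (1728 : Q) * Dl = c4 ^ 2 * c4 - c6 * c6 := by ring
            rw [e]
            exact (Ann P Rr S Tt).sub_mem ((Ann P Rr S Tt).mul_mem_left _ Kc4)
              ((Ann P Rr S Tt).mul_mem_left _ Kc6)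
          have hU : ∀ q : Q, ((1728 : Q) * Dl) * q = 0 → q = 0 := by
            intro q hq
            apply hΔ
            have h' : (2 : Q) ^ 6 * ((3 : Q) ^ 3 * (Dl * q)) = 0 := by linear_combination hq
            exact cancel_pow U3 3 _ (cancel_pow U2 6 _ h')
          exact (fin _ hU hmem).1
    have hS : S = 0 := U2 S (by linear_combination (-1 : Q) * l1 + A₁ * hP)
    have hR : Rr = 0 := U3 Rr (by linear_combination (-1 : Q) * l2 + 2 * A₂ * hP + A₁ * hS)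
    have hT : Tt = 0 := U2 Tt (by linear_combination (-1 : Q) * l3 + 3 * A₃ * hP - A₁ * hR)
    exact ⟨hP, hR, hS, hT⟩
  · -- 3 kills, 2 cancellable
    have K3' := K3
    obtain ⟨k3P, k3R, k3S, k3T⟩ := K3
    have hb2P : b2 * P = 0 := by linear_combination 2 * l2 + A₁ * l1 + 2 * k3R
    have l3'' : A₁ * Rr + 2 * Tt = 0 := by linear_combination (-1 : Q) * l3 + A₃ * k3P
    have hb4 : b4 * P - b2 * Rr = 0 := by
      linear_combination 2 * l4 + A₃ * l1 - A₁ * l3'' - 2 * A₄ * k3P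
    have hb4R : b4 * Rr = 0 := by
      linear_combination (-2 : Q) * l6 + A₃ * l3'' + 4 * A₆ * k3P
    have tail2 : P = 0 → Rr = 0 → P = 0 ∧ Rr = 0 ∧ S = 0 ∧ Tt = 0 := by
      intro hP hR
      have hS : S = 0 := U2 S (by linear_combination (-1 : Q) * l1 + A₁ * hP)
      have hT : Tt = 0 := U2 Tt (by linear_combination l3'' - A₁ * hR)
      exact ⟨hP, hR, hS, hT⟩
    rcases db2 with Ub2 | Kb2
    · have hP : P = 0 := Ub2 P hb2P
      have hR : Rr = 0 := Ub2 Rr (by linear_combination (-1 : Q) * hb4 + b4 * hP)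
      exact tail2 hP hR
    · rcases db4 with Ub4 | Kb4
      · have hR : Rr = 0 := Ub4 Rr hb4R
        have hP : P = 0 := Ub4 P (by linear_combination hb4 + b2 * hR)
        exact tail2 hP hR
      · have hmem : Dl ∈ Ann P Rr S Tt := by
          have e : Dl = (-(b2 * b8) + 9 * b4 * b6) * b2 + (-8 * b4 ^ 2) * b4
              + (-9 * b6 ^ 2) * 3 := by ring
          rw [e]
          exact (Ann P Rr S Tt).add_mem ((Ann P Rr S Tt).add_mem
            ((Ann P Rr S Tt).mul_mem_left _ Kb2) ((Ann P Rr S Tt).mul_mem_left _ Kb4))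
            ((Ann P Rr S Tt).mul_mem_left _ K3')
        exact fin _ hΔ hmem
  · -- 2 kills, 3 cancellable
    have K2' := K2
    obtain ⟨k2P, k2R, k2S, k2T⟩ := K2
    have l1' : A₁ * P = 0 := by linear_combination l1 + k2S
    rcases da1 with Ua1 | Ka1
    · have hP : P = 0 := Ua1 P l1'
      have hR : Rr = 0 := Ua1 Rr (by linear_combination (-1 : Q) * l3 + 3 * A₃ * hP - k2T)
      have hS : S = 0 := Ua1 S (by linear_combination l2 - 2 * A₂ * hP + 3 * hR)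
      have hT : Tt = 0 := Ua1 Tt (by
        linear_combination l4 - 4 * A₄ * hP - A₃ * hS + 2 * A₂ * hR)
      exact ⟨hP, hR, hS, hT⟩
    · have Ka1' := Ka1
      obtain ⟨ka1P, ka1R, ka1S, ka1T⟩ := Ka1
      rcases da3 with Ua3 | Ka3
      · have h3P : (3 : Q) * P = 0 := Ua3 _ (by linear_combination l3 + ka1R + k2T)
        have hP : P = 0 := U3 P h3P
        have hR : Rr = 0 := U3 Rr (by linear_combination (-1 : Q) * l2 + 2 * A₂ * hP + ka1S)
        have hS : S = 0 := Ua3 S (by linear_combination l4 - 4 * A₄ * hP + 2 * A₂ * hR - ka1T)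
        have hT : Tt = 0 := Ua3 Tt (by linear_combination l6 - 6 * A₆ * hP + A₄ * hR)
        exact ⟨hP, hR, hS, hT⟩
      · have hb2 : b2 ∈ Ann P Rr S Tt := by
          have e : b2 = A₁ * A₁ + (2 * A₂) * 2 := by ring
          rw [e]
          exact (Ann P Rr S Tt).add_mem ((Ann P Rr S Tt).mul_mem_left _ Ka1')
            ((Ann P Rr S Tt).mul_mem_left _ K2')
        have hb4 : b4 ∈ Ann P Rr S Tt := by
          have e : b4 = A₄ * 2 + A₃ * A₁ := by ring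
          rw [e]
          exact (Ann P Rr S Tt).add_mem ((Ann P Rr S Tt).mul_mem_left _ K2')
            ((Ann P Rr S Tt).mul_mem_left _ Ka1')
        have hb6 : b6 ∈ Ann P Rr S Tt := by
          have e : b6 = A₃ * A₃ + (2 * A₆) * 2 := by ring
          rw [e]
          exact (Ann P Rr S Tt).add_mem ((Ann P Rr S Tt).mul_mem_left _ Ka3)
            ((Ann P Rr S Tt).mul_mem_left _ K2')
        have hmem : Dl ∈ Ann P Rr S Tt := by
          have e : Dl = (-(b2 * b8) + 9 * b4 * b6) * b2 + (-8 * b4 ^ 2) * b4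
              + (-27 * b6) * b6 := by ring
          rw [e]
          exact (Ann P Rr S Tt).add_mem ((Ann P Rr S Tt).add_mem
            ((Ann P Rr S Tt).mul_mem_left _ hb2) ((Ann P Rr S Tt).mul_mem_left _ hb4))
            ((Ann P Rr S Tt).mul_mem_left _ hb6)
        exact fin _ hΔ hmem
  · -- both kill
    have h1 : (1 : Q) ∈ Ann P Rr S Tt := by
      have e : (1 : Q) = 3 - 2 := by norm_num
      rw [e]; exact (Ann P Rr S Tt).sub_mem K3 K2
    exact fin 1 (fun q hq => by simpa using hq) h1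

end Lin

/-- Rigidity of changes of variables congruent to the identity. -/
theorem rigid {Λ : Type*} [CommRing Λ] [IsLocalRing Λ] (Jd : Ideal Λ)
    (W W' : WeierstrassCurve Λ) [W.IsElliptic]
    (h1 : W.a₁ - W'.a₁ ∈ Jd) (h2 : W.a₂ - W'.a₂ ∈ Jd) (h3 : W.a₃ - W'.a₃ ∈ Jd)
    (h4 : W.a₄ - W'.a₄ ∈ Jd) (h6 : W.a₆ - W'.a₆ ∈ Jd)
    (D : WeierstrassCurve.VariableChange Λ) (hD : D • W = W')
    (hu : (D.u : Λ) - 1 ∈ maximalIdeal Λ) (hr : D.r ∈ maximalIdeal Λ)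
    (hs : D.s ∈ maximalIdeal Λ) (ht : D.t ∈ maximalIdeal Λ) :
    (D.u : Λ) - 1 ∈ Jd ∧ D.r ∈ Jd ∧ D.s ∈ Jd ∧ D.t ∈ Jd := by
  have hΔu : IsUnit W.Δ := W.isUnit_Δ
  obtain ⟨a₁, a₂, a₃, a₄, a₆⟩ := W
  obtain ⟨a₁', a₂', a₃', a₄', a₆'⟩ := W'
  obtain ⟨du, r, s, t⟩ := D
  obtain ⟨u, hu_def⟩ : ∃ u : Λ, u = (du : Λ) := ⟨_, rfl⟩
  obtain ⟨v, hv_def⟩ : ∃ v : Λ, v = ((du⁻¹ : Λˣ) : Λ) := ⟨_, rfl⟩
  have huv : u * v = 1 := by rw [hu_def, hv_def]; exact du.mul_inv
  dsimp only at h1 h2 h3 h4 h6 hu hr hs ht ⊢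
  rw [← hu_def] at hu ⊢
  have e1 : v * (a₁ + 2 * s) = a₁' := by
    rw [hv_def]; exact congrArg WeierstrassCurve.a₁ hD
  have e2 : v ^ 2 * (a₂ - s * a₁ + 3 * r - s ^ 2) = a₂' := by
    rw [hv_def]; exact congrArg WeierstrassCurve.a₂ hD
  have e3 : v ^ 3 * (a₃ + r * a₁ + 2 * t) = a₃' := by
    rw [hv_def]; exact congrArg WeierstrassCurve.a₃ hD
  have e4 : v ^ 4 * (a₄ - s * a₃ + 2 * r * a₂ - (t + r * s) * a₁ + 3 * r ^ 2 - 2 * s * t)
      = a₄' := by
    rw [hv_def]; exact congrArg WeierstrassCurve.a₄ hD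
  have e6 : v ^ 6 * (a₆ + r * a₄ + r ^ 2 * a₂ + r ^ 3 - t * a₃ - t ^ 2 - r * t * a₁) = a₆' := by
    rw [hv_def]; exact congrArg WeierstrassCurve.a₆ hD
  have hΔe : (WeierstrassCurve.mk a₁ a₂ a₃ a₄ a₆).Δ =
      -(a₁ ^ 2 + 4 * a₂) ^ 2 * (a₁ ^ 2 * a₆ + 4 * a₂ * a₆ - a₁ * a₃ * a₄ + a₂ * a₃ ^ 2 - a₄ ^ 2)
        - 8 * (2 * a₄ + a₁ * a₃) ^ 3 - 27 * (a₃ ^ 2 + 4 * a₆) ^ 2
        + 9 * (a₁ ^ 2 + 4 * a₂) * (2 * a₄ + a₁ * a₃) * (a₃ ^ 2 + 4 * a₆) := by
    simp only [WeierstrassCurve.Δ, WeierstrassCurve.b₂, WeierstrassCurve.b₄, WeierstrassCurve.b₆,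
      WeierstrassCurve.b₈]
  rw [hΔe] at hΔu
  -- the identities
  have I1 : a₁ * (u - 1) - 2 * s = (a₁ - a₁') * u := by
    linear_combination (-u) * e1 + (a₁ + 2 * s) * huv
  have I2 : 2 * a₂ * (u - 1) + a₁ * s - 3 * r
      = (a₂ - a₂') * u ^ 2 - a₂ * ((u - 1) * (u - 1)) - s * s := by
    linear_combination (-u ^ 2) * e2 + (a₂ - s * a₁ + 3 * r - s ^ 2) * (u * v + 1) * huv
  have I3 : 3 * a₃ * (u - 1) - a₁ * r - 2 * t
      = (a₃ - a₃') * u ^ 3 - a₃ * (3 + (u - 1)) * ((u - 1) * (u - 1)) := by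
    linear_combination (-u ^ 3) * e3
      + (a₃ + r * a₁ + 2 * t) * (u ^ 2 * v ^ 2 + u * v + 1) * huv
  have I4 : 4 * a₄ * (u - 1) + a₃ * s - 2 * a₂ * r + a₁ * t
      = (a₄ - a₄') * u ^ 4 - a₄ * (6 + 4 * (u - 1) + (u - 1) ^ 2) * ((u - 1) * (u - 1))
        - a₁ * (r * s) + 3 * (r * r) - 2 * (s * t) := by
    linear_combination (-u ^ 4) * e4
      + (a₄ - s * a₃ + 2 * r * a₂ - (t + r * s) * a₁ + 3 * r ^ 2 - 2 * s * t)
        * (u ^ 3 * v ^ 3 + u ^ 2 * v ^ 2 + u * v + 1) * huv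
  have I6 : 6 * a₆ * (u - 1) - a₄ * r + a₃ * t
      = (a₆ - a₆') * u ^ 6
        - a₆ * (15 + 20 * (u - 1) + 15 * (u - 1) ^ 2 + 6 * (u - 1) ^ 3 + (u - 1) ^ 4)
          * ((u - 1) * (u - 1))
        + (a₂ + r) * (r * r) - t * t - a₁ * (r * t) := by
    linear_combination (-u ^ 6) * e6
      + (a₆ + r * a₄ + r ^ 2 * a₂ + r ^ 3 - t * a₃ - t ^ 2 - r * t * a₁)
        * (u ^ 5 * v ^ 5 + u ^ 4 * v ^ 4 + u ^ 3 * v ^ 3 + u ^ 2 * v ^ 2 + u * v + 1) * huv
  -- ideals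
  obtain ⟨I, hI⟩ : ∃ I : Ideal Λ, I = Ideal.span ({u - 1, r, s, t} : Set Λ) := ⟨_, rfl⟩
  have hpI : u - 1 ∈ I := hI ▸ Ideal.subset_span (by simp)
  have hrI : r ∈ I := hI ▸ Ideal.subset_span (by simp)
  have hsI : s ∈ I := hI ▸ Ideal.subset_span (by simp)
  have htI : t ∈ I := hI ▸ Ideal.subset_span (by simp)
  obtain ⟨T, hT⟩ : ∃ T : Ideal Λ, T = Jd ⊔ maximalIdeal Λ • I := ⟨_, rfl⟩
  have hJT : ∀ x ∈ Jd, x ∈ T := fun x hx => hT ▸ Ideal.mem_sup_left hx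
  have hnT : ∀ z ∈ maximalIdeal Λ, ∀ y ∈ I, z * y ∈ T := by
    intro z hz y hy
    rw [hT]
    exact Ideal.mem_sup_right (by simpa only [smul_eq_mul] using Submodule.smul_mem_smul hz hy)
  have hpp : (u - 1) * (u - 1) ∈ T := hnT _ hu _ hpI
  have hss : s * s ∈ T := hnT _ hs _ hsI
  have hrs : r * s ∈ T := hnT _ hr _ hsI
  have hrr : r * r ∈ T := hnT _ hr _ hrI
  have hst : s * t ∈ T := hnT _ hs _ htI
  have htt : t * t ∈ T := hnT _ ht _ htI
  have hrt : r * t ∈ T := hnT _ hr _ htI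
  have L1 : a₁ * (u - 1) - 2 * s ∈ T := by
    rw [I1]; exact T.mul_mem_right _ (hJT _ h1)
  have L2 : 2 * a₂ * (u - 1) + a₁ * s - 3 * r ∈ T := by
    rw [I2]
    exact T.sub_mem (T.sub_mem (T.mul_mem_right _ (hJT _ h2)) (T.mul_mem_left _ hpp)) hss
  have L3 : 3 * a₃ * (u - 1) - a₁ * r - 2 * t ∈ T := by
    rw [I3]
    exact T.sub_mem (T.mul_mem_right _ (hJT _ h3)) (T.mul_mem_left _ hpp)
  have L4 : 4 * a₄ * (u - 1) + a₃ * s - 2 * a₂ * r + a₁ * t ∈ T := by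
    rw [I4]
    exact T.sub_mem (T.add_mem (T.sub_mem (T.sub_mem (T.mul_mem_right _ (hJT _ h4))
      (T.mul_mem_left _ hpp)) (T.mul_mem_left _ hrs)) (T.mul_mem_left _ hrr))
      (T.mul_mem_left _ hst)
  have L6 : 6 * a₆ * (u - 1) - a₄ * r + a₃ * t ∈ T := by
    rw [I6]
    exact T.sub_mem (T.sub_mem (T.add_mem (T.sub_mem (T.mul_mem_right _ (hJT _ h6))
      (T.mul_mem_left _ hpp)) (T.mul_mem_left _ hrr)) htt) (T.mul_mem_left _ hrt)
  -- pass to the quotient by `T`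
  have dichU : ∀ z : Λ, IsUnit z → ∀ q : Λ ⧸ T, Ideal.Quotient.mk T z * q = 0 → q = 0 :=
    fun z hz q hq => (hz.map (Ideal.Quotient.mk T)).mul_right_eq_zero.mp hq
  have dich : ∀ z' : Λ ⧸ T, (∀ q : Λ ⧸ T, z' * q = 0 → q = 0) ∨
      z' ∈ Ann (Ideal.Quotient.mk T (u - 1)) (Ideal.Quotient.mk T r)
        (Ideal.Quotient.mk T s) (Ideal.Quotient.mk T t) := by
    intro z'
    obtain ⟨z, rfl⟩ := Ideal.Quotient.mk_surjective z'
    by_cases hz : IsUnit z
    · left; exact dichU z hz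
    · right
      have hz' : z ∈ maximalIdeal Λ := (IsLocalRing.mem_maximalIdeal z).mpr hz
      have kz : ∀ y ∈ I, Ideal.Quotient.mk T z * Ideal.Quotient.mk T y = 0 := fun y hy => by
        rw [← map_mul]; exact Ideal.Quotient.eq_zero_iff_mem.mpr (hnT z hz' y hy)
      exact ⟨kz _ hpI, kz _ hrI, kz _ hsI, kz _ htI⟩
  have key := lin (Ideal.Quotient.mk T a₁) (Ideal.Quotient.mk T a₂) (Ideal.Quotient.mk T a₃)
    (Ideal.Quotient.mk T a₄) (Ideal.Quotient.mk T a₆) (Ideal.Quotient.mk T (u - 1))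
    (Ideal.Quotient.mk T r) (Ideal.Quotient.mk T s) (Ideal.Quotient.mk T t)
    (by
      have := Ideal.Quotient.eq_zero_iff_mem.mpr L1
      simpa only [map_sub, map_add, map_mul, map_ofNat] using this)
    (by
      have := Ideal.Quotient.eq_zero_iff_mem.mpr L2
      simpa only [map_sub, map_add, map_mul, map_ofNat] using this)
    (by
      have := Ideal.Quotient.eq_zero_iff_mem.mpr L3
      simpa only [map_sub, map_add, map_mul, map_ofNat] using this)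
    (by
      have := Ideal.Quotient.eq_zero_iff_mem.mpr L4
      simpa only [map_sub, map_add, map_mul, map_ofNat] using this)
    (by
      have := Ideal.Quotient.eq_zero_iff_mem.mpr L6
      simpa only [map_sub, map_add, map_mul, map_ofNat] using this)
    (dich _) (dich _) (dich _) (dich _) (dich _) (dich _) (dich _) (dich _)
    (by simpa only [map_sub, map_add, map_mul, map_pow, map_ofNat, map_neg]
      using dichU _ hΔu)
  obtain ⟨kP, kR, kS, kT⟩ := key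
  have hIT : I ≤ T := by
    rw [hI]
    apply Ideal.span_le.mpr
    intro x hx
    simp only [Set.mem_insert_iff, Set.mem_singleton_iff] at hx
    rcases hx with rfl | rfl | rfl | rfl
    · exact Ideal.Quotient.eq_zero_iff_mem.mp kP
    · exact Ideal.Quotient.eq_zero_iff_mem.mp kR
    · exact Ideal.Quotient.eq_zero_iff_mem.mp kS
    · exact Ideal.Quotient.eq_zero_iff_mem.mp kT
  have hIJ : I ≤ Jd := by
    apply Submodule.le_of_le_smul_of_le_jacobson_bot (I := maximalIdeal Λ) (N := Jd) (N' := I)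
    · rw [hI]; exact Submodule.fg_span (Set.toFinite _)
    · exact IsLocalRing.maximalIdeal_le_jacobson ⊥
    · rw [← hT]; exact hIT
  exact ⟨hIJ hpI, hIJ hrI, hIJ hsI, hIJ htI⟩

section Integral

variable {R Ω : Type*} [CommRing R] [CommRing Ω] [Algebra R Ω]

theorem mem_closure_of_monic (x : Ω) (n : ℕ)
    (c : Fin n → Ω) (hc : ∀ i, c i ∈ integralClosure R Ω)
    (h : x ^ n + ∑ i : Fin n, c i * x ^ (i : ℕ) = 0) : x ∈ integralClosure R Ω := by
  have hx : IsIntegral (integralClosure R Ω) x := by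
    refine ⟨X ^ n + ∑ i : Fin n, C (⟨c i, hc i⟩ : integralClosure R Ω) * X ^ (i : ℕ),
      Polynomial.monic_X_pow_add (Polynomial.degree_sum_fin_lt _), ?_⟩
    simp only [eval₂_add, eval₂_pow, eval₂_X, eval₂_finsetSum, eval₂_mul, eval₂_C]
    exact h
  exact isIntegral_trans x hx

theorem mem_closure_quadratic (x c1 c0 : Ω)
    (h1 : c1 ∈ integralClosure R Ω) (h0 : c0 ∈ integralClosure R Ω)
    (h : x ^ 2 + c1 * x + c0 = 0) : x ∈ integralClosure R Ω := by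
  refine mem_closure_of_monic x 2 ![c0, c1] ?_ ?_
  · intro i
    fin_cases i
    · exact h0
    · exact h1
  · rw [Fin.sum_univ_two]
    show x ^ 2 + (c0 * x ^ 0 + c1 * x ^ 1) = 0
    linear_combination h

theorem mem_closure_quartic (x c2 c1 c0 : Ω)
    (h2 : c2 ∈ integralClosure R Ω) (h1 : c1 ∈ integralClosure R Ω)
    (h0 : c0 ∈ integralClosure R Ω)
    (h : x ^ 4 + c2 * x ^ 2 + c1 * x + c0 = 0) : x ∈ integralClosure R Ω := by
  refine mem_closure_of_monic x 4 ![c0, c1, c2, 0] ?_ ?_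
  · intro i
    fin_cases i
    · exact h0
    · exact h1
    · exact h2
    · exact (integralClosure R Ω).zero_mem
  · rw [Fin.sum_univ_four]
    show x ^ 4 + (c0 * x ^ 0 + c1 * x ^ 1 + c2 * x ^ 2 + 0 * x ^ 3) = 0
    linear_combination h

/-- The coefficients of a change of variables between (base changes of) two elliptic curves are
integral over the base. -/
theorem integral_all (W₁ W₂ : WeierstrassCurve R) [W₁.IsElliptic] [W₂.IsElliptic]
    (C : WeierstrassCurve.VariableChange Ω)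
    (hC : C • (W₁.map (algebraMap R Ω)) = W₂.map (algebraMap R Ω)) :
    IsIntegral R (C.u : Ω) ∧ IsIntegral R ((C.u⁻¹ : Ωˣ) : Ω) ∧ IsIntegral R C.r ∧
      IsIntegral R C.s ∧ IsIntegral R C.t := by
  obtain ⟨u, hu_def⟩ : ∃ u : Ω, u = (C.u : Ω) := ⟨_, rfl⟩
  obtain ⟨v, hv_def⟩ : ∃ v : Ω, v = ((C.u⁻¹ : Ωˣ) : Ω) := ⟨_, rfl⟩
  have huv : u * v = 1 := by rw [hu_def, hv_def]; exact C.u.mul_inv
  rw [← hu_def, ← hv_def]
  have hΔ : algebraMap R Ω W₂.Δ = v ^ 12 * algebraMap R Ω W₁.Δ := by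
    have := congrArg WeierstrassCurve.Δ hC
    rw [WeierstrassCurve.variableChange_Δ, WeierstrassCurve.map_Δ, WeierstrassCurve.map_Δ,
      ← hv_def] at this
    exact this.symm
  obtain ⟨δ₁, hδ₁⟩ := W₁.isUnit_Δ
  obtain ⟨δ₂, hδ₂⟩ := W₂.isUnit_Δ
  have hB1 : algebraMap R Ω W₁.Δ * algebraMap R Ω (↑δ₁⁻¹ : R) = 1 := by
    rw [← hδ₁, ← map_mul, Units.mul_inv, map_one]
  have hB2 : algebraMap R Ω W₂.Δ * algebraMap R Ω (↑δ₂⁻¹ : R) = 1 := by
    rw [← hδ₂, ← map_mul, Units.mul_inv, map_one]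
  have huv12 : u ^ 12 * v ^ 12 = 1 := by rw [← mul_pow, huv, one_pow]
  have huv2 : u ^ 2 * v ^ 2 = 1 := by rw [← mul_pow, huv, one_pow]
  have huv6 : u ^ 6 * v ^ 6 = 1 := by rw [← mul_pow, huv, one_pow]
  have huv8 : u ^ 8 * v ^ 8 = 1 := by rw [← mul_pow, huv, one_pow]
  have hu12 : u ^ 12 = algebraMap R Ω (W₁.Δ * ↑δ₂⁻¹) := by
    rw [map_mul]
    linear_combination (-u ^ 12) * hB2 + algebraMap R Ω (↑δ₂⁻¹ : R) * u ^ 12 * hΔ
      + algebraMap R Ω (↑δ₂⁻¹ : R) * algebraMap R Ω W₁.Δ * huv12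
  have hv12 : v ^ 12 = algebraMap R Ω (W₂.Δ * ↑δ₁⁻¹) := by
    rw [map_mul]
    linear_combination (-(algebraMap R Ω (↑δ₁⁻¹ : R))) * hΔ - v ^ 12 * hB1
  have hiu : IsIntegral R u :=
    ⟨X ^ 12 - Polynomial.C (W₁.Δ * ↑δ₂⁻¹), monic_X_pow_sub_C _ (by norm_num), by
      rw [eval₂_sub, eval₂_pow, eval₂_X, eval₂_C, hu12, sub_self]⟩
  have hiv : IsIntegral R v :=
    ⟨X ^ 12 - Polynomial.C (W₂.Δ * ↑δ₁⁻¹), monic_X_pow_sub_C _ (by norm_num), by
      rw [eval₂_sub, eval₂_pow, eval₂_X, eval₂_C, hv12, sub_self]⟩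
  have huS : u ∈ integralClosure R Ω := hiu
  have hvS : v ∈ integralClosure R Ω := hiv
  have hφS : ∀ x : R, algebraMap R Ω x ∈ integralClosure R Ω :=
    fun x => (integralClosure R Ω).algebraMap_mem x
  -- the equations
  have e2 : v ^ 2 * (algebraMap R Ω W₁.a₂ - C.s * algebraMap R Ω W₁.a₁ + 3 * C.r - C.s ^ 2)
      = algebraMap R Ω W₂.a₂ := by
    rw [hv_def]; exact congrArg WeierstrassCurve.a₂ hC
  have e6 : v ^ 6 * (algebraMap R Ω W₁.a₆ + C.r * algebraMap R Ω W₁.a₄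
      + C.r ^ 2 * algebraMap R Ω W₁.a₂ + C.r ^ 3 - C.t * algebraMap R Ω W₁.a₃ - C.t ^ 2
      - C.r * C.t * algebraMap R Ω W₁.a₁) = algebraMap R Ω W₂.a₆ := by
    rw [hv_def]; exact congrArg WeierstrassCurve.a₆ hC
  have X6 : algebraMap R Ω W₂.b₆ = v ^ 6 * (algebraMap R Ω W₁.b₆ + 2 * C.r * algebraMap R Ω W₁.b₄
      + C.r ^ 2 * algebraMap R Ω W₁.b₂ + 4 * C.r ^ 3) := by
    have := congrArg WeierstrassCurve.b₆ hC
    rw [WeierstrassCurve.variableChange_b₆, WeierstrassCurve.map_b₆, WeierstrassCurve.map_b₆,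
      WeierstrassCurve.map_b₄, WeierstrassCurve.map_b₂, ← hv_def] at this
    exact this.symm
  have X8 : algebraMap R Ω W₂.b₈ = v ^ 8 * (algebraMap R Ω W₁.b₈ + 3 * C.r * algebraMap R Ω W₁.b₆
      + 3 * C.r ^ 2 * algebraMap R Ω W₁.b₄ + C.r ^ 3 * algebraMap R Ω W₁.b₂ + 3 * C.r ^ 4) := by
    have := congrArg WeierstrassCurve.b₈ hC
    rw [WeierstrassCurve.variableChange_b₈, WeierstrassCurve.map_b₈, WeierstrassCurve.map_b₈,
      WeierstrassCurve.map_b₆, WeierstrassCurve.map_b₄, WeierstrassCurve.map_b₂, ← hv_def] at this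
    exact this.symm
  have hr : C.r ∈ integralClosure R Ω := by
    refine mem_closure_quartic C.r (-(algebraMap R Ω W₁.b₄))
      (-(2 * algebraMap R Ω W₁.b₆ + u ^ 6 * algebraMap R Ω W₂.b₆))
      (u ^ 8 * algebraMap R Ω W₂.b₈ - algebraMap R Ω W₁.b₈) ?_ ?_ ?_ ?_
    · exact neg_mem (hφS _)
    · exact neg_mem (add_mem (mul_mem (by
        have : (2 : Ω) = algebraMap R Ω 2 := (map_ofNat (algebraMap R Ω) 2).symm
        rw [this]; exact hφS _) (hφS _)) (mul_mem (pow_mem huS 6) (hφS _)))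
    · exact sub_mem (mul_mem (pow_mem huS 8) (hφS _)) (hφS _)
    · linear_combination (-C.r * u ^ 6) * X6
        - C.r * (algebraMap R Ω W₁.b₆ + 2 * C.r * algebraMap R Ω W₁.b₄
          + C.r ^ 2 * algebraMap R Ω W₁.b₂ + 4 * C.r ^ 3) * huv6
        + u ^ 8 * X8
        + (algebraMap R Ω W₁.b₈ + 3 * C.r * algebraMap R Ω W₁.b₆
          + 3 * C.r ^ 2 * algebraMap R Ω W₁.b₄ + C.r ^ 3 * algebraMap R Ω W₁.b₂ + 3 * C.r ^ 4) * huv8
  have h3S : (3 : Ω) ∈ integralClosure R Ω := by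
    have : (3 : Ω) = algebraMap R Ω 3 := (map_ofNat (algebraMap R Ω) 3).symm
    rw [this]; exact hφS _
  have hs : C.s ∈ integralClosure R Ω := by
    refine mem_closure_quadratic C.s (algebraMap R Ω W₁.a₁)
      (u ^ 2 * algebraMap R Ω W₂.a₂ - algebraMap R Ω W₁.a₂ - 3 * C.r) (hφS _) ?_ ?_
    · exact sub_mem (sub_mem (mul_mem (pow_mem huS 2) (hφS _)) (hφS _)) (mul_mem h3S hr)
    · linear_combination (-u ^ 2) * e2
        + (algebraMap R Ω W₁.a₂ - C.s * algebraMap R Ω W₁.a₁ + 3 * C.r - C.s ^ 2) * huv2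
  have ht : C.t ∈ integralClosure R Ω := by
    refine mem_closure_quadratic C.t (algebraMap R Ω W₁.a₃ + C.r * algebraMap R Ω W₁.a₁)
      (u ^ 6 * algebraMap R Ω W₂.a₆ - algebraMap R Ω W₁.a₆ - C.r * algebraMap R Ω W₁.a₄
        - C.r ^ 2 * algebraMap R Ω W₁.a₂ - C.r ^ 3) ?_ ?_ ?_
    · exact add_mem (hφS _) (mul_mem hr (hφS _))
    · exact sub_mem (sub_mem (sub_mem (sub_mem (mul_mem (pow_mem huS 6) (hφS _)) (hφS _))
        (mul_mem hr (hφS _))) (mul_mem (pow_mem hr 2) (hφS _))) (pow_mem hr 3)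
    · linear_combination (-u ^ 6) * e6
        + (algebraMap R Ω W₁.a₆ + C.r * algebraMap R Ω W₁.a₄
          + C.r ^ 2 * algebraMap R Ω W₁.a₂ + C.r ^ 3 - C.t * algebraMap R Ω W₁.a₃ - C.t ^ 2
          - C.r * C.t * algebraMap R Ω W₁.a₁) * huv6
  exact ⟨hiu, hiv, hr, hs, ht⟩

end Integral

end Groth.Agent.Lib.Helper21.RKc
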