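import Mathlib
import Groth.Agent.Lib.Helper21.RKb
import Groth.Agent.Lib.Helper21.RKc

set_option autoImplicit false
set_option linter.style.haveILetI false
set_option linter.unusedSectionVars false
set_option linter.unusedVariables false
set_option linter.unusedSimpArgs false

/-!
# Elliptic curves with equal `j` over a complete local domain: descent of the change of variables

`core`: if a change of variables between (base changes of) two elliptic curves over `R` is defined
over a finite local domain `B ⊇ R` generated by its coefficients, it is defined over `R`.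
`main`: the same for a change of variables defined over any field extension of `R`.
-/

namespace Groth.Agent.Lib.Helper21.RKd

open IsLocalRing WeierstrassCurve

universe u v

section

variable {R : Type u} [CommRing R] [IsDomain R] [IsLocalRing R] [IsNoetherianRing R]
  [IsAdicComplete (maximalIdeal R) R] [IsAlgClosed (ResidueField R)]

theorem core {B : Type v} [CommRing B] [IsDomain B] [Algebra R B] [Module.Finite R B]
    [IsLocalRing B] (hinj : Function.Injective (algebraMap R B))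
    (W₁ W₂ : WeierstrassCurve R) [W₁.IsElliptic] [W₂.IsElliptic]
    (CB : VariableChange B) (hCW : CB • W₁.map (algebraMap R B) = W₂.map (algebraMap R B))
    (hgen : Algebra.adjoin R
      ({(CB.u : B), ((CB.u⁻¹ : Bˣ) : B), CB.r, CB.s, CB.t} : Set B) = ⊤) :
    ∃ C' : VariableChange R, C' • W₁ = W₂ := by
  obtain ⟨Jd, hJd⟩ : ∃ J : Ideal B, J = (maximalIdeal R).map (algebraMap R B) := ⟨_, rfl⟩
  -- lifts
  obtain ⟨u₀, hu₀⟩ := RKb.exists_sub_mem_maximalIdeal R (CB.u : B)
  obtain ⟨r₀, hr₀⟩ := RKb.exists_sub_mem_maximalIdeal R CB.r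
  obtain ⟨s₀, hs₀⟩ := RKb.exists_sub_mem_maximalIdeal R CB.s
  obtain ⟨t₀, ht₀⟩ := RKb.exists_sub_mem_maximalIdeal R CB.t
  have hJn : Jd ≤ maximalIdeal B := hJd ▸ RKb.map_le_maximalIdeal R
  have hmapJ : ∀ x ∈ maximalIdeal R, algebraMap R B x ∈ Jd := fun x hx =>
    hJd ▸ Ideal.mem_map_of_mem _ hx
  have hu₀unit : IsUnit u₀ := by
    by_contra hnu
    have h1 : u₀ ∈ maximalIdeal R := (IsLocalRing.mem_maximalIdeal u₀).mpr hnu
    have h2 : algebraMap R B u₀ ∈ maximalIdeal B := hJn (hmapJ _ h1)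
    have h3 : (CB.u : B) ∈ maximalIdeal B := by
      have := (maximalIdeal B).add_mem hu₀ h2
      rwa [sub_add_cancel] at this
    exact (IsLocalRing.mem_maximalIdeal _).mp h3 CB.u.isUnit
  obtain ⟨w₀, hw₀⟩ : ∃ w₀ : R, u₀ * w₀ = 1 := hu₀unit.exists_right_inv
  obtain ⟨C', hC'⟩ : ∃ C' : VariableChange R, C' = ⟨hu₀unit.unit, r₀, s₀, t₀⟩ := ⟨_, rfl⟩
  have hC'u : (C'.u : R) = u₀ := by rw [hC']; rfl
  have hC'r : C'.r = r₀ := by rw [hC']
  have hC's : C'.s = s₀ := by rw [hC']
  have hC't : C'.t = t₀ := by rw [hC']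
  obtain ⟨ρ, hρdef⟩ : ∃ ρ : B →+* B ⧸ maximalIdeal B, ρ = Ideal.Quotient.mk (maximalIdeal B) :=
    ⟨_, rfl⟩
  have hρ : CB.map ρ = (C'.map (algebraMap R B)).map ρ := by
    rw [hρdef]
    refine VariableChange.ext (Units.ext ?_) ?_ ?_ ?_
    · show Ideal.Quotient.mk (maximalIdeal B) (CB.u : B)
        = Ideal.Quotient.mk (maximalIdeal B) (algebraMap R B (C'.u : R))
      rw [hC'u]; exact Ideal.Quotient.eq.mpr hu₀
    · show Ideal.Quotient.mk (maximalIdeal B) CB.r
        = Ideal.Quotient.mk (maximalIdeal B) (algebraMap R B C'.r)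
      rw [hC'r]; exact Ideal.Quotient.eq.mpr hr₀
    · show Ideal.Quotient.mk (maximalIdeal B) CB.s
        = Ideal.Quotient.mk (maximalIdeal B) (algebraMap R B C'.s)
      rw [hC's]; exact Ideal.Quotient.eq.mpr hs₀
    · show Ideal.Quotient.mk (maximalIdeal B) CB.t
        = Ideal.Quotient.mk (maximalIdeal B) (algebraMap R B C'.t)
      rw [hC't]; exact Ideal.Quotient.eq.mpr ht₀
  obtain ⟨D, hDdef⟩ : ∃ D : VariableChange B, D = CB * (C'.map (algebraMap R B))⁻¹ := ⟨_, rfl⟩
  have hDmul : D * C'.map (algebraMap R B) = CB := by rw [hDdef, inv_mul_cancel_right]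
  have hDρ : D.map ρ = 1 := by
    have h : VariableChange.mapHom ρ D = 1 := by
      rw [hDdef, map_mul, map_inv]
      show CB.map ρ * ((C'.map (algebraMap R B)).map ρ)⁻¹ = 1
      rw [hρ, mul_inv_cancel]
    exact h
  have hDW : D • ((C' • W₁).map (algebraMap R B)) = W₂.map (algebraMap R B) := by
    rw [← map_variableChange W₁ C' (algebraMap R B), ← mul_smul, hDmul, hCW]
  have hWρ : ((C' • W₁).map (algebraMap R B)).map ρ = (W₂.map (algebraMap R B)).map ρ := by
    rw [← hDW, ← map_variableChange ((C' • W₁).map (algebraMap R B)) D ρ, hDρ, one_smul]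
  have F2 : ∀ x : R, algebraMap R B x ∈ maximalIdeal B → x ∈ maximalIdeal R := by
    intro x hx
    by_contra hnx
    have hxu : IsUnit x := by
      by_contra h; exact hnx ((IsLocalRing.mem_maximalIdeal x).mpr h)
    exact (IsLocalRing.mem_maximalIdeal _).mp hx (hxu.map (algebraMap R B))
  have cong : ∀ x y : R, ρ (algebraMap R B x) = ρ (algebraMap R B y) →
      algebraMap R B x - algebraMap R B y ∈ Jd := by
    intro x y h
    rw [hρdef] at h
    have h1 : algebraMap R B x - algebraMap R B y ∈ maximalIdeal B := Ideal.Quotient.eq.mp h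
    rw [← map_sub] at h1 ⊢
    exact hmapJ _ (F2 _ h1)
  have h1 : algebraMap R B (C' • W₁).a₁ - algebraMap R B W₂.a₁ ∈ Jd :=
    cong _ _ (congrArg WeierstrassCurve.a₁ hWρ)
  have h2 : algebraMap R B (C' • W₁).a₂ - algebraMap R B W₂.a₂ ∈ Jd :=
    cong _ _ (congrArg WeierstrassCurve.a₂ hWρ)
  have h3 : algebraMap R B (C' • W₁).a₃ - algebraMap R B W₂.a₃ ∈ Jd :=
    cong _ _ (congrArg WeierstrassCurve.a₃ hWρ)
  have h4 : algebraMap R B (C' • W₁).a₄ - algebraMap R B W₂.a₄ ∈ Jd :=
    cong _ _ (congrArg WeierstrassCurve.a₄ hWρ)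
  have h6 : algebraMap R B (C' • W₁).a₆ - algebraMap R B W₂.a₆ ∈ Jd :=
    cong _ _ (congrArg WeierstrassCurve.a₆ hWρ)
  have hu : (D.u : B) - 1 ∈ maximalIdeal B := by
    have h0 := congrArg (fun E : VariableChange (B ⧸ maximalIdeal B) =>
      (E.u : B ⧸ maximalIdeal B)) hDρ
    have h' : ρ (D.u : B) = ρ 1 := by rw [map_one]; exact h0
    rw [hρdef] at h'
    exact Ideal.Quotient.eq.mp h'
  have hr : D.r ∈ maximalIdeal B := by
    have h' : ρ D.r = 0 := congrArg VariableChange.r hDρ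
    rw [hρdef] at h'
    exact Ideal.Quotient.eq_zero_iff_mem.mp h'
  have hs : D.s ∈ maximalIdeal B := by
    have h' : ρ D.s = 0 := congrArg VariableChange.s hDρ
    rw [hρdef] at h'
    exact Ideal.Quotient.eq_zero_iff_mem.mp h'
  have ht : D.t ∈ maximalIdeal B := by
    have h' : ρ D.t = 0 := congrArg VariableChange.t hDρ
    rw [hρdef] at h'
    exact Ideal.Quotient.eq_zero_iff_mem.mp h'
  obtain ⟨gu, gr, gs, gt⟩ := RKc.rigid Jd
    ((C' • W₁).map (algebraMap R B)) (W₂.map (algebraMap R B)) h1 h2 h3 h4 h6 D hDW hu hr hs ht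
  -- component equations
  have eu : (CB.u : B) = (D.u : B) * algebraMap R B u₀ := by
    rw [← hC'u]
    exact (congrArg (fun E : VariableChange B => (E.u : B)) hDmul).symm
  have er : CB.r = D.r * (algebraMap R B u₀) ^ 2 + algebraMap R B r₀ := by
    rw [← hC'u, ← hC'r]
    exact (congrArg VariableChange.r hDmul).symm
  have es : CB.s = algebraMap R B u₀ * D.s + algebraMap R B s₀ := by
    rw [← hC'u, ← hC's]
    exact (congrArg VariableChange.s hDmul).symm
  have et : CB.t = D.t * (algebraMap R B u₀) ^ 3 + D.r * algebraMap R B s₀ * (algebraMap R B u₀) ^ 2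
      + algebraMap R B t₀ := by
    rw [← hC'u, ← hC's, ← hC't]
    exact (congrArg VariableChange.t hDmul).symm
  have su : (CB.u : B) - algebraMap R B u₀ ∈ Jd := by
    have e : (CB.u : B) - algebraMap R B u₀ = ((D.u : B) - 1) * algebraMap R B u₀ := by
      rw [eu]; ring
    rw [e]; exact Jd.mul_mem_right _ gu
  have sv : ((CB.u⁻¹ : Bˣ) : B) - algebraMap R B w₀ ∈ Jd := by
    have hw : algebraMap R B u₀ * algebraMap R B w₀ = 1 := by rw [← map_mul, hw₀, map_one]
    have hv : (CB.u : B) * ((CB.u⁻¹ : Bˣ) : B) = 1 := CB.u.mul_inv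
    have e : ((CB.u⁻¹ : Bˣ) : B) - algebraMap R B w₀
        = (-(((CB.u⁻¹ : Bˣ) : B) * algebraMap R B w₀)) * ((CB.u : B) - algebraMap R B u₀) := by
      linear_combination (algebraMap R B w₀) * hv - ((CB.u⁻¹ : Bˣ) : B) * hw
    rw [e]; exact Jd.mul_mem_left _ su
  have sr : CB.r - algebraMap R B r₀ ∈ Jd := by
    have e : CB.r - algebraMap R B r₀ = D.r * (algebraMap R B u₀) ^ 2 := by rw [er]; ring
    rw [e]; exact Jd.mul_mem_right _ gr
  have ss : CB.s - algebraMap R B s₀ ∈ Jd := by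
    have e : CB.s - algebraMap R B s₀ = algebraMap R B u₀ * D.s := by rw [es]; ring
    rw [e]; exact Jd.mul_mem_left _ gs
  have st : CB.t - algebraMap R B t₀ ∈ Jd := by
    have e : CB.t - algebraMap R B t₀ = D.t * (algebraMap R B u₀) ^ 3
        + D.r * (algebraMap R B s₀ * (algebraMap R B u₀) ^ 2) := by rw [et]; ring
    rw [e]; exact Jd.add_mem (Jd.mul_mem_right _ gt) (Jd.mul_mem_right _ gr)
  -- the subalgebra `R + Jd`
  obtain ⟨S', hS'⟩ : ∃ S' : Subalgebra R B,
      ∀ b : B, b ∈ S' ↔ ∃ c : R, b - algebraMap R B c ∈ Jd := by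
    refine ⟨{ carrier := {b | ∃ c : R, b - algebraMap R B c ∈ Jd}
              mul_mem' := ?_
              one_mem' := ⟨1, by rw [map_one, sub_self]; exact Jd.zero_mem⟩
              add_mem' := ?_
              zero_mem' := ⟨0, by rw [map_zero, sub_self]; exact Jd.zero_mem⟩
              algebraMap_mem' := fun r => ⟨r, by rw [sub_self]; exact Jd.zero_mem⟩ },
      fun b => Iff.rfl⟩
    · rintro a b ⟨c, hc⟩ ⟨d, hd⟩
      refine ⟨c * d, ?_⟩
      have e : a * b - algebraMap R B (c * d)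
          = (a - algebraMap R B c) * b + algebraMap R B c * (b - algebraMap R B d) := by
        rw [map_mul]; ring
      rw [e]; exact Jd.add_mem (Jd.mul_mem_right _ hc) (Jd.mul_mem_left _ hd)
    · rintro a b ⟨c, hc⟩ ⟨d, hd⟩
      refine ⟨c + d, ?_⟩
      have e : a + b - algebraMap R B (c + d)
          = (a - algebraMap R B c) + (b - algebraMap R B d) := by
        rw [map_add]; ring
      rw [e]; exact Jd.add_mem hc hd
  have hS'top : S' = ⊤ := by
    apply top_le_iff.mp
    rw [← hgen]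
    apply Algebra.adjoin_le
    intro x hx
    simp only [Set.mem_insert_iff, Set.mem_singleton_iff] at hx
    rcases hx with rfl | rfl | rfl | rfl | rfl
    · exact (hS' _).mpr ⟨u₀, su⟩
    · exact (hS' _).mpr ⟨w₀, sv⟩
    · exact (hS' _).mpr ⟨r₀, sr⟩
    · exact (hS' _).mpr ⟨s₀, ss⟩
    · exact (hS' _).mpr ⟨t₀, st⟩
  have hsurj : Function.Surjective (algebraMap R B) := by
    have hle : (⊤ : Submodule R B) ≤ LinearMap.range (Algebra.linearMap R B) := by
      apply Submodule.le_of_le_smul_of_le_jacobson_bot (I := maximalIdeal R)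
      · exact Module.Finite.fg_top
      · exact IsLocalRing.maximalIdeal_le_jacobson ⊥
      · intro b _
        have hb : b ∈ S' := by rw [hS'top]; exact Algebra.mem_top
        obtain ⟨c, hc⟩ := (hS' b).mp hb
        have e : b = algebraMap R B c + (b - algebraMap R B c) := by ring
        rw [e]
        apply Submodule.add_mem_sup
        · exact ⟨c, rfl⟩
        · rw [Ideal.smul_top_eq_map, ← hJd]
          exact hc
    intro b
    obtain ⟨c, hc⟩ := hle (Submodule.mem_top : b ∈ ⊤)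
    exact ⟨c, hc⟩
  obtain ⟨u₁, hu₁⟩ := hsurj (CB.u : B)
  obtain ⟨v₁, hv₁⟩ := hsurj ((CB.u⁻¹ : Bˣ) : B)
  obtain ⟨r₁, hr₁⟩ := hsurj CB.r
  obtain ⟨s₁, hs₁⟩ := hsurj CB.s
  obtain ⟨t₁, ht₁⟩ := hsurj CB.t
  have huv₁ : u₁ * v₁ = 1 := by
    apply hinj
    rw [map_mul, hu₁, hv₁, map_one]; exact CB.u.mul_inv
  have hvu₁ : v₁ * u₁ = 1 := by rw [mul_comm]; exact huv₁
  refine ⟨⟨⟨u₁, v₁, huv₁, hvu₁⟩, r₁, s₁, t₁⟩, ?_⟩
  apply WeierstrassCurve.map_injective hinj
  show ((⟨⟨u₁, v₁, huv₁, hvu₁⟩, r₁, s₁, t₁⟩ : VariableChange R) • W₁).map (algebraMap R B)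
    = W₂.map (algebraMap R B)
  rw [← map_variableChange, ← hCW]
  congr 1
  refine VariableChange.ext (Units.ext ?_) ?_ ?_ ?_
  · exact hu₁
  · exact hr₁
  · exact hs₁
  · exact ht₁

theorem main {Ω : Type v} [Field Ω] [Algebra R Ω] (hinj : Function.Injective (algebraMap R Ω))
    (W₁ W₂ : WeierstrassCurve R) [W₁.IsElliptic] [W₂.IsElliptic]
    (C : VariableChange Ω) (hC : C • W₁.map (algebraMap R Ω) = W₂.map (algebraMap R Ω)) :
    ∃ C' : VariableChange R, C' • W₁ = W₂ := by
  obtain ⟨hiu, hiv, hir, his, hit⟩ := RKc.integral_all W₁ W₂ C hC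
  obtain ⟨gens, hgens⟩ : ∃ g : Set Ω,
      g = {(C.u : Ω), ((C.u⁻¹ : Ωˣ) : Ω), C.r, C.s, C.t} := ⟨_, rfl⟩
  have hfin : gens.Finite := by rw [hgens]; exact Set.toFinite _
  have hint : ∀ x ∈ gens, IsIntegral R x := by
    intro x hx
    rw [hgens] at hx
    simp only [Set.mem_insert_iff, Set.mem_singleton_iff] at hx
    rcases hx with rfl | rfl | rfl | rfl | rfl
    exacts [hiu, hiv, hir, his, hit]
  have hfg : (Algebra.adjoin R gens).toSubmodule.FG := fg_adjoin_of_finite hfin hint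
  haveI : Module.Finite R ↥(Algebra.adjoin R gens) := Module.Finite.iff_fg.mpr hfg
  have hmem : ∀ x ∈ gens, x ∈ Algebra.adjoin R gens := fun x hx => Algebra.subset_adjoin hx
  have hu : (C.u : Ω) ∈ Algebra.adjoin R gens := hmem _ (by rw [hgens]; simp)
  have hv : ((C.u⁻¹ : Ωˣ) : Ω) ∈ Algebra.adjoin R gens := hmem _ (by rw [hgens]; simp)
  have hr : C.r ∈ Algebra.adjoin R gens := hmem _ (by rw [hgens]; simp)
  have hs : C.s ∈ Algebra.adjoin R gens := hmem _ (by rw [hgens]; simp)
  have ht : C.t ∈ Algebra.adjoin R gens := hmem _ (by rw [hgens]; simp)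
  haveI : IsLocalRing ↥(Algebra.adjoin R gens) := RKb.isLocalRing_of_finite R
  have hinjB : Function.Injective (algebraMap R ↥(Algebra.adjoin R gens)) := by
    intro x y hxy
    apply hinj
    exact congrArg Subtype.val hxy
  obtain ⟨CB, hCB⟩ : ∃ CB : VariableChange ↥(Algebra.adjoin R gens), CB =
      ⟨⟨⟨(C.u : Ω), hu⟩, ⟨((C.u⁻¹ : Ωˣ) : Ω), hv⟩, Subtype.ext C.u.mul_inv,
        Subtype.ext C.u.inv_mul⟩, ⟨C.r, hr⟩, ⟨C.s, hs⟩, ⟨C.t, ht⟩⟩ := ⟨_, rfl⟩
  have hCBm : CB.map (Algebra.adjoin R gens).val.toRingHom = C := by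
    rw [hCB]
    refine VariableChange.ext (Units.ext ?_) ?_ ?_ ?_ <;> rfl
  have hCW : CB • W₁.map (algebraMap R ↥(Algebra.adjoin R gens))
      = W₂.map (algebraMap R ↥(Algebra.adjoin R gens)) := by
    apply WeierstrassCurve.map_injective (f := (Algebra.adjoin R gens).val.toRingHom)
      Subtype.val_injective
    show (CB • W₁.map (algebraMap R ↥(Algebra.adjoin R gens))).map
        (Algebra.adjoin R gens).val.toRingHom
      = (W₂.map (algebraMap R ↥(Algebra.adjoin R gens))).map (Algebra.adjoin R gens).val.toRingHom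
    rw [← map_variableChange, WeierstrassCurve.map_map, WeierstrassCurve.map_map]
    have hcomp : (Algebra.adjoin R gens).val.toRingHom.comp
        (algebraMap R ↥(Algebra.adjoin R gens)) = algebraMap R Ω := RingHom.ext fun _ => rfl
    rw [hcomp, hCBm]; exact hC
  have hgen : Algebra.adjoin R ({(CB.u : ↥(Algebra.adjoin R gens)),
      ((CB.u⁻¹ : (↥(Algebra.adjoin R gens))ˣ) : ↥(Algebra.adjoin R gens)),
      CB.r, CB.s, CB.t} : Set ↥(Algebra.adjoin R gens)) = ⊤ := by
    apply top_le_iff.mp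
    have h := Algebra.adjoin_adjoin_coe_preimage (R := R) (s := gens)
    refine h.ge.trans (Algebra.adjoin_mono ?_)
    intro x hx
    have hx' : (x : Ω) ∈ gens := hx
    obtain ⟨y, hy⟩ : ∃ y : Ω, y = (x : Ω) := ⟨_, rfl⟩
    rw [← hy] at hx'
    rw [hgens] at hx'
    simp only [Set.mem_insert_iff, Set.mem_singleton_iff] at hx' ⊢
    rw [hCB]
    rcases hx' with h | h | h | h | h
    · left; exact Subtype.ext (hy.symm.trans h)
    · right; left; exact Subtype.ext (hy.symm.trans h)
    · right; right; left; exact Subtype.ext (hy.symm.trans h)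
    · right; right; right; left; exact Subtype.ext (hy.symm.trans h)
    · right; right; right; right; exact Subtype.ext (hy.symm.trans h)
  exact core hinjB W₁ W₂ CB hCW hgen

end

end Groth.Agent.Lib.Helper21.RKd
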