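import Mathlib
import Groth.Agent.Lib.Helper7.KADvr2

set_option autoImplicit false
set_option linter.style.haveILetI false
set_option linter.unusedSectionVars false
set_option linter.unusedVariables false
set_option linter.unusedSimpArgs false

/-!
# Integral `j`-invariant and potential good reduction

* `exists_model`: over a local ring `R` and an algebraically closed `R`-field `Ω`, for every `j : R`
  there is a Weierstrass cubic over `Ω` with coefficients integral over `R`, discriminant a unit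
  of the integral closure and `j`-invariant `j` (Deuring form if `3` is a unit, Legendre form if
  `2` is a unit).
* `good_of_model`, `forward`, `backward`: the two directions of "integral `j` iff potentially good
  reduction" over a discrete valuation ring.
-/

namespace Groth.Agent.Lib.Helper21.RKe

universe u

section Models

open Polynomial

theorem exists_integral_root {R Ω : Type*} [CommRing R] [Field Ω] [IsAlgClosed Ω] [Algebra R Ω]
    (P : Polynomial R) (hP : P.Monic) (hd : P.degree ≠ 0) :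
    ∃ α : Ω, _root_.IsIntegral R α ∧ Polynomial.aeval α P = 0 := by
  have hd' : (P.map (algebraMap R Ω)).degree ≠ 0 := by
    rw [hP.degree_map]; exact hd
  obtain ⟨α, hα⟩ := IsAlgClosed.exists_root _ hd'
  have h0 : Polynomial.aeval α P = 0 := by
    rw [Polynomial.aeval_def, ← Polynomial.eval_map]; exact hα
  exact ⟨α, ⟨P, hP, by rw [← Polynomial.aeval_def]; exact h0⟩, h0⟩

theorem monic_aux {R : Type*} [CommRing R] [Nontrivial R] (n m : ℕ) (hmn : m < n) (p : R[X])
    (hp : p.natDegree ≤ m) : (X ^ n - p).Monic ∧ (X ^ n - p).degree ≠ 0 := by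
  have hdeg : p.degree < (n : WithBot ℕ) :=
    lt_of_le_of_lt (Polynomial.degree_le_of_natDegree_le hp) (by exact_mod_cast hmn)
  have hmonic : (X ^ n - p).Monic := Polynomial.monic_X_pow_sub hdeg
  refine ⟨hmonic, ?_⟩
  rw [Polynomial.degree_sub_eq_left_of_degree_lt (by rw [Polynomial.degree_X_pow]; exact hdeg),
    Polynomial.degree_X_pow]
  exact_mod_cast (by omega : n ≠ 0)

theorem isIntegral_ofNat' {R Ω : Type*} [CommRing R] [Field Ω] [Algebra R Ω] (n : ℕ)
    [n.AtLeastTwo] : _root_.IsIntegral R (OfNat.ofNat n : Ω) := by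
  rw [← map_ofNat (algebraMap R Ω) n]; exact isIntegral_algebraMap

/-- Deuring normal form `y² + αxy + y = x³`. -/
theorem deuring {R Ω : Type*} [CommRing R] [Nontrivial R] [Field Ω] [IsAlgClosed Ω] [Algebra R Ω]
    (w : R) (hw : 3 * w = 1) (j : R) :
    ∃ (W₀ : WeierstrassCurve Ω) (D : Ω), _root_.IsIntegral R W₀.a₁ ∧ _root_.IsIntegral R W₀.a₂ ∧
      _root_.IsIntegral R W₀.a₃ ∧ _root_.IsIntegral R W₀.a₄ ∧ _root_.IsIntegral R W₀.a₆ ∧
      _root_.IsIntegral R D ∧ W₀.Δ * D = 1 ∧ algebraMap R Ω j * W₀.Δ = W₀.c₄ ^ 3 := by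
  obtain ⟨hmonic, hd⟩ := monic_aux 12 9 (by norm_num)
    (C 72 * X ^ 9 - C 1728 * X ^ 6 + C (13824 + j) * X ^ 3 - C (27 * j) : R[X])
    (by compute_degree)
  obtain ⟨α, hαi, hα⟩ := exists_integral_root (Ω := Ω) _ hmonic hd
  simp only [map_sub, map_add, map_mul, map_pow, aeval_X, aeval_C, map_ofNat] at hα
  obtain ⟨j₀, hj₀⟩ : ∃ j₀ : Ω, j₀ = algebraMap R Ω j := ⟨_, rfl⟩
  rw [← hj₀] at hα ⊢
  obtain ⟨w₀, hw₀⟩ : ∃ w₀ : Ω, w₀ = algebraMap R Ω w := ⟨_, rfl⟩
  have hw₀i : _root_.IsIntegral R w₀ := hw₀ ▸ isIntegral_algebraMap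
  have hj₀i : _root_.IsIntegral R j₀ := hj₀ ▸ isIntegral_algebraMap
  have h3w : 3 * w₀ = 1 := by
    have := congrArg (algebraMap R Ω) hw
    rw [map_mul, map_ofNat, map_one, ← hw₀] at this
    exact this
  have h729 : 729 * w₀ ^ 6 = 1 := by
    have h : (3 * w₀) ^ 6 = 1 := by rw [h3w, one_pow]
    linear_combination h
  refine ⟨⟨α, 0, 1, 0, 0⟩,
    -w₀ ^ 6 * ((α ^ 3 - 27) ^ 3 + 36 * (α ^ 3 - 27) ^ 2 + 270 * (α ^ 3 - 27) + 756 - j₀),
    hαi, isIntegral_zero, isIntegral_one, isIntegral_zero, isIntegral_zero, ?_, ?_, ?_⟩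
  · have hβ : _root_.IsIntegral R (α ^ 3 - 27) := (hαi.pow 3).sub (isIntegral_ofNat' 27)
    exact ((hw₀i.pow 6).neg).mul (((((hβ.pow 3).add ((isIntegral_ofNat' 36).mul (hβ.pow 2))).add
      ((isIntegral_ofNat' 270).mul hβ)).add (isIntegral_ofNat' 756)).sub hj₀i)
  · simp only [WeierstrassCurve.Δ, WeierstrassCurve.b₂, WeierstrassCurve.b₄, WeierstrassCurve.b₆,
      WeierstrassCurve.b₈]
    linear_combination (-w₀ ^ 6) * hα + h729
  · simp only [WeierstrassCurve.Δ, WeierstrassCurve.b₂, WeierstrassCurve.b₄, WeierstrassCurve.b₆,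
      WeierstrassCurve.b₈, WeierstrassCurve.c₄]
    linear_combination (-1 : Ω) * hα

/-- Legendre normal form `y² = x(x-1)(x-λ)`. -/
theorem legendre {R Ω : Type*} [CommRing R] [Nontrivial R] [Field Ω] [IsAlgClosed Ω] [Algebra R Ω]
    (w : R) (hw : 2 * w = 1) (j : R) :
    ∃ (W₀ : WeierstrassCurve Ω) (D : Ω), _root_.IsIntegral R W₀.a₁ ∧ _root_.IsIntegral R W₀.a₂ ∧
      _root_.IsIntegral R W₀.a₃ ∧ _root_.IsIntegral R W₀.a₄ ∧ _root_.IsIntegral R W₀.a₆ ∧
      _root_.IsIntegral R D ∧ W₀.Δ * D = 1 ∧ algebraMap R Ω j * W₀.Δ = W₀.c₄ ^ 3 := by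
  obtain ⟨c, hc⟩ : ∃ c : R, c = w ^ 8 * j := ⟨_, rfl⟩
  have hcj : 256 * c = j := by
    have h8 : (2 * w) ^ 8 = 1 := by rw [hw, one_pow]
    rw [hc]
    calc 256 * (w ^ 8 * j) = (2 * w) ^ 8 * j := by ring
      _ = j := by rw [h8, one_mul]
  obtain ⟨hmonic, hd⟩ := monic_aux 6 5 (by norm_num)
    (C 3 * X ^ 5 - C (6 - c) * X ^ 4 + C (7 - 2 * c) * X ^ 3 - C (6 - c) * X ^ 2 + C 3 * X - C 1 :
      R[X]) (by compute_degree)
  obtain ⟨l, hli, hl⟩ := exists_integral_root (Ω := Ω) _ hmonic hd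
  simp only [map_sub, map_add, map_mul, map_pow, aeval_X, aeval_C, map_ofNat, map_one] at hl
  obtain ⟨j₀, hj₀⟩ : ∃ j₀ : Ω, j₀ = algebraMap R Ω j := ⟨_, rfl⟩
  obtain ⟨c₀, hc₀⟩ : ∃ c₀ : Ω, c₀ = algebraMap R Ω c := ⟨_, rfl⟩
  rw [← hc₀] at hl
  rw [← hj₀]
  obtain ⟨w₀, hw₀⟩ : ∃ w₀ : Ω, w₀ = algebraMap R Ω w := ⟨_, rfl⟩
  have hw₀i : _root_.IsIntegral R w₀ := hw₀ ▸ isIntegral_algebraMap
  have hc₀i : _root_.IsIntegral R c₀ := hc₀ ▸ isIntegral_algebraMap
  have h2w : 2 * w₀ = 1 := by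
    have := congrArg (algebraMap R Ω) hw
    rw [map_mul, map_ofNat, map_one, ← hw₀] at this
    exact this
  have h16 : 16 * w₀ ^ 4 = 1 := by
    have h : (2 * w₀) ^ 4 = 1 := by rw [h2w, one_pow]
    linear_combination h
  have hcj₀ : 256 * c₀ = j₀ := by
    have := congrArg (algebraMap R Ω) hcj
    rw [map_mul, map_ofNat, ← hc₀, ← hj₀] at this
    exact this
  have hmT : (l ^ 2 - l) * (c₀ * (l ^ 2 - l) - 3 - 3 * (l ^ 2 - l) - (l ^ 2 - l) ^ 2) = 1 := by
    linear_combination (-1 : Ω) * hl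
  refine ⟨⟨0, -(1 + l), 0, l, 0⟩,
    w₀ ^ 4 * (c₀ * (l ^ 2 - l) - 3 - 3 * (l ^ 2 - l) - (l ^ 2 - l) ^ 2) ^ 2,
    isIntegral_zero, (isIntegral_one.add hli).neg, isIntegral_zero, hli, isIntegral_zero,
    ?_, ?_, ?_⟩
  · have hm : _root_.IsIntegral R (l ^ 2 - l) := (hli.pow 2).sub hli
    exact (hw₀i.pow 4).mul (((((hc₀i.mul hm).sub (isIntegral_ofNat' 3)).sub
      ((isIntegral_ofNat' 3).mul hm)).sub (hm.pow 2)).pow 2)
  · simp only [WeierstrassCurve.Δ, WeierstrassCurve.b₂, WeierstrassCurve.b₄, WeierstrassCurve.b₆,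
      WeierstrassCurve.b₈]
    linear_combination
      ((l ^ 2 - l) * (c₀ * (l ^ 2 - l) - 3 - 3 * (l ^ 2 - l) - (l ^ 2 - l) ^ 2)) ^ 2 * h16
      + ((l ^ 2 - l) * (c₀ * (l ^ 2 - l) - 3 - 3 * (l ^ 2 - l) - (l ^ 2 - l) ^ 2) + 1) * hmT
  · simp only [WeierstrassCurve.Δ, WeierstrassCurve.b₂, WeierstrassCurve.b₄, WeierstrassCurve.b₆,
      WeierstrassCurve.b₈, WeierstrassCurve.c₄]
    linear_combination (-4096 : Ω) * hl - 16 * (l ^ 2 - l) ^ 2 * hcj₀

end Models

theorem exists_model {R Ω : Type*} [CommRing R] [IsLocalRing R] [Field Ω] [IsAlgClosed Ω]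
    [Algebra R Ω] (j : R) :
    ∃ (W₀ : WeierstrassCurve Ω) (D : Ω), _root_.IsIntegral R W₀.a₁ ∧ _root_.IsIntegral R W₀.a₂ ∧
      _root_.IsIntegral R W₀.a₃ ∧ _root_.IsIntegral R W₀.a₄ ∧ _root_.IsIntegral R W₀.a₆ ∧
      _root_.IsIntegral R D ∧ W₀.Δ * D = 1 ∧ algebraMap R Ω j * W₀.Δ = W₀.c₄ ^ 3 := by
  have h1 : IsUnit ((3 : R) + (-2)) := by
    have e : (3 : R) + (-2) = 1 := by norm_num
    rw [e]; exact isUnit_one
  rcases IsLocalRing.isUnit_or_isUnit_of_isUnit_add h1 with h3 | h2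
  · obtain ⟨w, hw⟩ := h3.exists_right_inv
    exact deuring w hw j
  · have h2' : IsUnit (2 : R) := by
      have := h2.neg
      rwa [neg_neg] at this
    obtain ⟨w, hw⟩ := h2'.exists_right_inv
    exact legendre w hw j

theorem j_of_rel {F : Type*} [Field F] (W₀ : WeierstrassCurve F) [W₀.IsElliptic] (j₀ : F)
    (hrel : j₀ * W₀.Δ = W₀.c₄ ^ 3) : W₀.j = j₀ := by
  rw [WeierstrassCurve.j, ← hrel, ← W₀.coe_Δ', mul_comm j₀, ← mul_assoc, Units.inv_mul, one_mul]

theorem j_congr {F : Type*} [CommRing F] (W1 W2 : WeierstrassCurve F) [W1.IsElliptic]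
    [W2.IsElliptic] (h : W1 = W2) : W1.j = W2.j := by
  subst h; rfl

section Main

variable {R : Type u} [CommRing R] [IsDomain R] [IsDiscreteValuationRing R]
  {K : Type u} [Field K] [Algebra R K] [IsFractionRing R K]

theorem good_of_model (L : Type u) [Field L] [Algebra K L] [FiniteDimensional K L] [Algebra R L]
    [IsScalarTower R K L] (W : WeierstrassCurve K)
    (W₀ : WeierstrassCurve L) (C : WeierstrassCurve.VariableChange L)
    (hC : C • W.map (algebraMap K L) = W₀)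
    (h1 : _root_.IsIntegral R W₀.a₁) (h2 : _root_.IsIntegral R W₀.a₂)
    (h3 : _root_.IsIntegral R W₀.a₃) (h4 : _root_.IsIntegral R W₀.a₄)
    (h6 : _root_.IsIntegral R W₀.a₆) (D : L) (hD : _root_.IsIntegral R D)
    (hΔD : W₀.Δ * D = 1) :
    ∃ (RL : Type u) (_ : CommRing RL) (_ : IsDomain RL) (_ : IsDiscreteValuationRing RL)
      (_ : Algebra RL L) (_ : IsFractionRing RL L) (φ : R →+* RL), IsLocalHom φ ∧
      (∀ r : R, algebraMap K L (algebraMap R K r) = algebraMap RL L (φ r)) ∧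
      ((W.baseChange L).minimal RL).HasGoodReduction RL := by
  have hfg : (⊤ : IntermediateField K L).FG := IntermediateField.fg_of_noetherian ⊤
  obtain ⟨RL, hDVR, hmem, hlt⟩ := Groth.Agent.Lib.Helper7.exists_dvr_dominating R K L hfg
    (IsLocalRing.maximalIdeal R) (IsDiscreteValuationRing.not_a_field R)
  haveI := hDVR
  obtain ⟨φ, hφ⟩ : ∃ φ : R →+* ↥RL, ∀ r, ((φ r : ↥RL) : L) = algebraMap R L r :=
    ⟨(algebraMap R L).codRestrict RL hmem, fun r => rfl⟩
  refine ⟨↥RL, inferInstance, inferInstance, hDVR, inferInstance, inferInstance, φ, ?_, ?_, ?_⟩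
  · constructor
    intro a ha
    by_contra hna
    have ham : a ∈ IsLocalRing.maximalIdeal R := (IsLocalRing.mem_maximalIdeal a).mpr hna
    have hv1 := hlt a ham
    have hv2 : RL.valuation ((φ a : ↥RL) : L) = 1 := (RL.valuation_eq_one_iff (φ a)).mp ha
    rw [hφ] at hv2
    exact absurd hv2 (ne_of_lt hv1)
  · intro r
    rw [← IsScalarTower.algebraMap_apply R K L]
    exact (hφ r).symm
  · letI : Algebra R ↥RL := φ.toAlgebra
    haveI : IsScalarTower R ↥RL L := IsScalarTower.of_algebraMap_eq (fun r => (hφ r).symm)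
    have hint : ∀ x : L, _root_.IsIntegral R x → ∃ y : ↥RL, algebraMap ↥RL L y = x := by
      intro x hx
      have hx' : _root_.IsIntegral ↥RL x := hx.tower_top
      exact IsIntegrallyClosed.isIntegral_iff.mp hx'
    haveI hW₀int : WeierstrassCurve.IsIntegral ↥RL W₀ :=
      WeierstrassCurve.isIntegral_of_exists_lift ↥RL (hint _ h1) (hint _ h2) (hint _ h3)
        (hint _ h4) (hint _ h6)
    have hvΔ : IsDedekindDomain.HeightOneSpectrum.valuation L
        (IsDiscreteValuationRing.maximalIdeal ↥RL) W₀.Δ = 1 := by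
      obtain ⟨δ, hδ⟩ := WeierstrassCurve.Δ_integral_of_isIntegral ↥RL W₀
      obtain ⟨d, hd⟩ := hint D hD
      rw [← hδ]
      apply (IsDedekindDomain.HeightOneSpectrum.valuation_eq_one_iff_notMem _).mpr
      have hu : δ * d = 1 := by
        apply IsFractionRing.injective ↥RL L
        rw [map_mul, hδ, hd, map_one]; exact hΔD
      have hδu : IsUnit δ := IsUnit.of_mul_eq_one d hu
      show δ ∉ IsLocalRing.maximalIdeal ↥RL
      exact fun hmem' => (IsLocalRing.mem_maximalIdeal _).mp hmem' hδu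
    obtain ⟨Cm, hCm⟩ : ∃ Cm : WeierstrassCurve.VariableChange L,
        (W.baseChange L).minimal ↥RL = Cm • W.map (algebraMap K L) := ⟨_, rfl⟩
    haveI hmin : WeierstrassCurve.IsMinimal ↥RL ((W.baseChange L).minimal ↥RL) := inferInstance
    have hW₀eq : W₀ = (C * Cm⁻¹) • (W.baseChange L).minimal ↥RL := by
      rw [hCm, ← mul_smul, inv_mul_cancel_right, hC]
    have hmax := hmin.val_Δ_maximal
    have hP : WeierstrassCurve.IsIntegral ↥RL ((C * Cm⁻¹) • (W.baseChange L).minimal ↥RL) :=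
      hW₀eq ▸ hW₀int
    have hfj : ((WeierstrassCurve.valuation_Δ_aux ↥RL
        ((C * Cm⁻¹) • (W.baseChange L).minimal ↥RL)).1) = 1 := by
      rw [← hW₀eq]
      exact (WeierstrassCurve.valuation_Δ_aux_eq_of_isIntegral ↥RL W₀).trans hvΔ
    have hf1le : WeierstrassCurve.valuation_Δ_aux ↥RL
        ((1 : WeierstrassCurve.VariableChange L) • (W.baseChange L).minimal ↥RL)
        ≤ WeierstrassCurve.valuation_Δ_aux ↥RL ((C * Cm⁻¹) • (W.baseChange L).minimal ↥RL) := by
      apply Subtype.coe_le_coe.mp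
      rw [hfj]
      exact (WeierstrassCurve.valuation_Δ_aux ↥RL _).2
    have hle := hmax.2 hP hf1le
    have hle' : (1 : WithZero (Multiplicative ℤ)) ≤ (WeierstrassCurve.valuation_Δ_aux ↥RL
        ((1 : WeierstrassCurve.VariableChange L) • (W.baseChange L).minimal ↥RL)).1 := by
      exact (le_of_eq hfj.symm).trans (Subtype.coe_le_coe.mpr hle)
    rw [one_smul] at hle'
    have hval : ((WeierstrassCurve.valuation_Δ_aux ↥RL ((W.baseChange L).minimal ↥RL)).1) = 1 :=
      le_antisymm (WeierstrassCurve.valuation_Δ_aux ↥RL _).2 hle'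
    have hgood : IsDedekindDomain.HeightOneSpectrum.valuation L
        (IsDiscreteValuationRing.maximalIdeal ↥RL) ((W.baseChange L).minimal ↥RL).Δ = 1 := by
      rw [← WeierstrassCurve.valuation_Δ_aux_eq_of_isIntegral ↥RL ((W.baseChange L).minimal ↥RL)]
      exact hval
    exact { toIsMinimal := hmin, goodReduction := hgood }

theorem forward (W : WeierstrassCurve K) [W.IsElliptic] (r : R) (hr : algebraMap R K r = W.j) :
    ∃ (L : Type u) (_ : Field L) (_ : Algebra K L) (_ : FiniteDimensional K L) (RL : Type u)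
      (_ : CommRing RL) (_ : IsDomain RL) (_ : IsDiscreteValuationRing RL) (_ : Algebra RL L)
      (_ : IsFractionRing RL L) (φ : R →+* RL), IsLocalHom φ ∧
      (∀ r : R, algebraMap K L (algebraMap R K r) = algebraMap RL L (φ r)) ∧
      ((W.baseChange L).minimal RL).HasGoodReduction RL := by
  obtain ⟨W₀, D, h1, h2, h3, h4, h6, hD, hΔD, hrel⟩ :=
    exists_model (R := R) (Ω := AlgebraicClosure K) r
  haveI : W₀.IsElliptic := ⟨IsUnit.of_mul_eq_one D hΔD⟩
  have hj₀ : W₀.j = algebraMap R (AlgebraicClosure K) r := j_of_rel W₀ _ hrel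
  have hjeq : (W.map (algebraMap K (AlgebraicClosure K))).j = W₀.j := by
    rw [WeierstrassCurve.map_j, hj₀, ← hr, ← IsScalarTower.algebraMap_apply]
  obtain ⟨C, hC⟩ := WeierstrassCurve.exists_variableChange_of_j_eq _ _ hjeq
  obtain ⟨S, hS⟩ : ∃ S : Set (AlgebraicClosure K), S = {W₀.a₁, W₀.a₂, W₀.a₃, W₀.a₄, W₀.a₆, D,
      (C.u : AlgebraicClosure K), ((C.u⁻¹ : (AlgebraicClosure K)ˣ) : AlgebraicClosure K),
      C.r, C.s, C.t} := ⟨_, rfl⟩
  haveI : Finite S := by rw [hS]; infer_instance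
  haveI hfd : FiniteDimensional K (IntermediateField.adjoin K S) :=
    IntermediateField.finiteDimensional_adjoin (fun x _ => Algebra.IsIntegral.isIntegral x)
  have hmem : ∀ x ∈ S, x ∈ IntermediateField.adjoin K S :=
    fun x hx => IntermediateField.subset_adjoin K S hx
  have m1 : W₀.a₁ ∈ IntermediateField.adjoin K S := hmem _ (by rw [hS]; simp)
  have m2 : W₀.a₂ ∈ IntermediateField.adjoin K S := hmem _ (by rw [hS]; simp)
  have m3 : W₀.a₃ ∈ IntermediateField.adjoin K S := hmem _ (by rw [hS]; simp)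
  have m4 : W₀.a₄ ∈ IntermediateField.adjoin K S := hmem _ (by rw [hS]; simp)
  have m6 : W₀.a₆ ∈ IntermediateField.adjoin K S := hmem _ (by rw [hS]; simp)
  have mD : D ∈ IntermediateField.adjoin K S := hmem _ (by rw [hS]; simp)
  have mu : (C.u : AlgebraicClosure K) ∈ IntermediateField.adjoin K S :=
    hmem _ (by rw [hS]; simp)
  have mv : ((C.u⁻¹ : (AlgebraicClosure K)ˣ) : AlgebraicClosure K) ∈ IntermediateField.adjoin K S :=
    hmem _ (by rw [hS]; simp)
  have mr : C.r ∈ IntermediateField.adjoin K S := hmem _ (by rw [hS]; simp)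
  have ms : C.s ∈ IntermediateField.adjoin K S := hmem _ (by rw [hS]; simp)
  have mt : C.t ∈ IntermediateField.adjoin K S := hmem _ (by rw [hS]; simp)
  obtain ⟨W₀L, hW₀L⟩ : ∃ W' : WeierstrassCurve ↥(IntermediateField.adjoin K S),
      W' = ⟨⟨W₀.a₁, m1⟩, ⟨W₀.a₂, m2⟩, ⟨W₀.a₃, m3⟩, ⟨W₀.a₄, m4⟩, ⟨W₀.a₆, m6⟩⟩ := ⟨_, rfl⟩
  obtain ⟨CL, hCL⟩ : ∃ C' : WeierstrassCurve.VariableChange ↥(IntermediateField.adjoin K S),
      C' = ⟨⟨⟨(C.u : AlgebraicClosure K), mu⟩,
        ⟨((C.u⁻¹ : (AlgebraicClosure K)ˣ) : AlgebraicClosure K), mv⟩,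
        Subtype.ext C.u.mul_inv, Subtype.ext C.u.inv_mul⟩, ⟨C.r, mr⟩, ⟨C.s, ms⟩, ⟨C.t, mt⟩⟩ :=
    ⟨_, rfl⟩
  have hinj : Function.Injective
      (algebraMap ↥(IntermediateField.adjoin K S) (AlgebraicClosure K)) :=
    (algebraMap ↥(IntermediateField.adjoin K S) (AlgebraicClosure K)).injective
  have hW₀map : W₀L.map (algebraMap ↥(IntermediateField.adjoin K S) (AlgebraicClosure K)) = W₀ := by
    rw [hW₀L]; rfl
  have hCLmap : CL.map (algebraMap ↥(IntermediateField.adjoin K S) (AlgebraicClosure K)) = C := by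
    rw [hCL]
    refine WeierstrassCurve.VariableChange.ext (Units.ext ?_) ?_ ?_ ?_ <;> rfl
  have hCW : CL • W.map (algebraMap K ↥(IntermediateField.adjoin K S)) = W₀L := by
    apply WeierstrassCurve.map_injective hinj
    show (CL • W.map (algebraMap K ↥(IntermediateField.adjoin K S))).map
        (algebraMap ↥(IntermediateField.adjoin K S) (AlgebraicClosure K))
      = W₀L.map (algebraMap ↥(IntermediateField.adjoin K S) (AlgebraicClosure K))
    rw [← WeierstrassCurve.map_variableChange, WeierstrassCurve.map_map, hCLmap, hW₀map,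
      ← IsScalarTower.algebraMap_eq K ↥(IntermediateField.adjoin K S) (AlgebraicClosure K)]
    exact hC
  haveI : IsScalarTower R ↥(IntermediateField.adjoin K S) (AlgebraicClosure K) :=
    IsScalarTower.of_algebraMap_eq (fun r => rfl)
  have hI : ∀ (x : AlgebraicClosure K) (hx : x ∈ IntermediateField.adjoin K S),
      _root_.IsIntegral R x → _root_.IsIntegral R (⟨x, hx⟩ : ↥(IntermediateField.adjoin K S)) := by
    intro x hx hxi
    exact (isIntegral_algebraMap_iff hinj).mp hxi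
  have hΔDL : W₀L.Δ * (⟨D, mD⟩ : ↥(IntermediateField.adjoin K S)) = 1 := by
    apply hinj
    rw [map_mul, map_one, ← WeierstrassCurve.map_Δ, hW₀map]
    exact hΔD
  obtain ⟨RL, i1, i2, i3, i4, i5, φ, hloc, hcompat, hgood⟩ :=
    good_of_model (R := R) ↥(IntermediateField.adjoin K S) W W₀L CL hCW
      (by rw [hW₀L]; exact hI _ m1 h1) (by rw [hW₀L]; exact hI _ m2 h2)
      (by rw [hW₀L]; exact hI _ m3 h3) (by rw [hW₀L]; exact hI _ m4 h4)
      (by rw [hW₀L]; exact hI _ m6 h6) ⟨D, mD⟩ (hI _ mD hD) hΔDL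
  exact ⟨↥(IntermediateField.adjoin K S), inferInstance, inferInstance, hfd, RL, i1, i2, i3, i4,
    i5, φ, hloc, hcompat, hgood⟩

theorem backward (W : WeierstrassCurve K) [W.IsElliptic]
    (L : Type u) [Field L] [Algebra K L] (RL : Type u) [CommRing RL] [IsDomain RL]
    [IsDiscreteValuationRing RL] [Algebra RL L] [IsFractionRing RL L] (φ : R →+* RL)
    (hloc : IsLocalHom φ)
    (hcompat : ∀ r : R, algebraMap K L (algebraMap R K r) = algebraMap RL L (φ r))
    (hgood : ((W.baseChange L).minimal RL).HasGoodReduction RL) :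
    ∃ r : R, algebraMap R K r = W.j := by
  obtain ⟨Cm, hCm⟩ : ∃ Cm : WeierstrassCurve.VariableChange L,
      (W.baseChange L).minimal RL = Cm • W.map (algebraMap K L) := ⟨_, rfl⟩
  haveI hmin : WeierstrassCurve.IsMinimal RL ((W.baseChange L).minimal RL) := hgood.toIsMinimal
  haveI hint : WeierstrassCurve.IsIntegral RL ((W.baseChange L).minimal RL) := inferInstance
  obtain ⟨Wi, hWi⟩ := hint.integral
  have hWi' : (W.baseChange L).minimal RL = Wi.map (algebraMap RL L) := hWi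
  have hΔ1 := hgood.goodReduction
  have hΔu : IsUnit Wi.Δ := by
    rw [hWi', WeierstrassCurve.map_Δ] at hΔ1
    have hnm := (IsDedekindDomain.HeightOneSpectrum.valuation_eq_one_iff_notMem _).mp hΔ1
    by_contra hnu
    exact hnm ((IsLocalRing.mem_maximalIdeal _).mpr hnu)
  haveI : Wi.IsElliptic := ⟨hΔu⟩
  have hj : algebraMap K L W.j = algebraMap RL L Wi.j := by
    have e1 : (W.map (algebraMap K L)).j = algebraMap K L W.j := WeierstrassCurve.map_j W _
    have e2 : (Cm • W.map (algebraMap K L)).j = (W.map (algebraMap K L)).j :=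
      WeierstrassCurve.variableChange_j _ _
    have e3 : (Wi.map (algebraMap RL L)).j = algebraMap RL L Wi.j := WeierstrassCurve.map_j Wi _
    have e4 : Cm • W.map (algebraMap K L) = Wi.map (algebraMap RL L) := by rw [← hCm, hWi']
    rw [← e1, ← e2, ← e3]
    exact j_congr _ _ e4
  rcases ValuationRing.isInteger_or_isInteger R W.j with ⟨r, hr⟩ | ⟨r', hr'⟩
  · exact ⟨r, hr⟩
  · by_cases hj0 : W.j = 0
    · exact ⟨0, by rw [map_zero, hj0]⟩
    · have hru : IsUnit r' := by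
        apply hloc.map_nonunit
        have h1 : algebraMap RL L Wi.j * algebraMap RL L (φ r') = 1 := by
          rw [← hcompat, hr', ← hj, ← map_mul, mul_inv_cancel₀ hj0, map_one]
        have h2 : φ r' * Wi.j = 1 := by
          apply IsFractionRing.injective RL L
          rw [map_mul, map_one, mul_comm]; exact h1
        exact IsUnit.of_mul_eq_one _ h2
      obtain ⟨ρ, hρ⟩ := hru
      refine ⟨((ρ⁻¹ : Rˣ) : R), ?_⟩
      have h3 : algebraMap R K ((ρ⁻¹ : Rˣ) : R) * algebraMap R K r' = 1 := by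
        rw [← map_mul, ← hρ, Units.inv_mul, map_one]
      rw [hr'] at h3
      exact (mul_inv_eq_one₀ hj0).mp h3

end Main

end Groth.Agent.Lib.Helper21.RKe
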