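import Mathlib
import Groth.Prelude.Def_QuadSing
import Groth.Agent.Lib.Helper14.FormalMorse
import Groth.Agent.Lib.Helper7.PowSerCRing
import Groth.Agent.Lib.Helper7.FlatFS2
import Groth.Agent.Lib.Helper1.PSOmega
import Groth.Agent.Lib.Helper21.RIa

/-!
# Power series tools for quadratic singularities (helper21)

* `ringHom_ext_of_hausdorff`: ring maps from a power series ring to a Hausdorff local ring are
  determined by their values on constants and variables;
* `nondeg_iff`: the quadratic part of a series without linear terms is non-degenerate iff the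
  partial derivatives generate the ideal of the variables;
* `chain_rule`: the chain rule for algebra endomorphisms of power series rings;
* `inv_step`: invariance of the Jacobian criterion under isomorphisms of the quotients
  `k[[x]]/(F)`.
-/

set_option autoImplicit false
set_option linter.style.haveILetI false
set_option linter.unusedSectionVars false
set_option linter.unusedVariables false
set_option linter.unusedSimpArgs false

namespace Groth.Agent.Lib.Helper21.RKf

open MvPowerSeries IsLocalRing Finsupp Groth.Agent.Lib.Helper14.FormalIFT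
  Groth.Agent.Lib.Helper14.FormalMorse

universe u

/-- uniqueness of ring maps from a power series ring to a Hausdorff local ring -/
theorem ringHom_ext_of_hausdorff {R T : Type*} [CommRing R] [CommRing T] [IsLocalRing T]
    [IsHausdorff (maximalIdeal T) T] {σ : Type*} [Fintype σ]
    (φ₁ φ₂ : MvPowerSeries σ R →+* T) (hC : ∀ r, φ₁ (C r) = φ₂ (C r))
    (hX : ∀ i, φ₁ (X i) = φ₂ (X i)) (hm : ∀ i, φ₁ (X i) ∈ maximalIdeal T) : φ₁ = φ₂ := by
  apply RingHom.ext
  intro f
  apply Groth.Agent.Lib.Helper21.RIa.eq_of_forall_sub_mem_pow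
  intro n
  have h := Groth.Agent.Lib.Helper7.PowSerCRing.evNil_unique
    ((Ideal.Quotient.mk (maximalIdeal T ^ n)).comp φ₁)
    ((Ideal.Quotient.mk (maximalIdeal T ^ n)).comp φ₂)
    (fun r => by rw [RingHom.comp_apply, RingHom.comp_apply, hC r])
    (fun i => by rw [RingHom.comp_apply, RingHom.comp_apply, hX i])
    (fun i => ⟨n, by
      rw [RingHom.comp_apply, ← map_pow, Ideal.Quotient.eq_zero_iff_mem]
      exact Ideal.pow_mem_pow (hm i) n⟩)
  have h2 := RingHom.congr_fun h f
  rw [RingHom.comp_apply, RingHom.comp_apply, Ideal.Quotient.eq] at h2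
  exact h2

section general

variable {R : Type*} [CommRing R] {N : ℕ}

theorem polar_eq (F : MvPowerSeries (Fin N) R) :
    VanCyc.polarMatrix (VanCyc.quadPart F) = quadTable F + (quadTable F).transpose := by
  ext i j
  rw [Matrix.add_apply, Matrix.transpose_apply, VanCyc.polarMatrix]
  by_cases hij : i = j
  · subst hij
    rw [if_pos rfl, two_mul]
    rfl
  · rw [if_neg hij]
    rcases lt_or_gt_of_ne hij with h | h
    · rw [if_pos h]
      have h0 : quadTable F j i = 0 := by
        rw [quadTable, if_neg (Ne.symm hij), if_neg (not_lt.mpr h.le)]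
      rw [h0, add_zero]
      rfl
    · rw [if_neg (not_lt.mpr h.le)]
      have h0 : quadTable F i j = 0 := by
        rw [quadTable, if_neg hij, if_neg (not_lt.mpr h.le)]
      rw [h0, zero_add]
      rfl

theorem nondeg_iff (F : MvPowerSeries (Fin N) R)
    (h1 : ∀ i, coeff (Finsupp.single i 1) F = 0) :
    VanCyc.QuadNondeg (VanCyc.quadPart F) ↔
      ∀ l, (X l : MvPowerSeries (Fin N) R) ∈ Ideal.span (Set.range fun i => pderiv R i F) := by
  rw [VanCyc.QuadNondeg, polar_eq]
  constructor
  · intro h l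
    rw [span_pderiv_eq_span_X F h1 h]
    exact Ideal.subset_span ⟨l, rfl⟩
  · intro h
    have := isUnit_det_jacobian_of_X_mem (fun i => pderiv R i F)
      (constantCoeff_pderiv_of_lin F h1) h
    rwa [jacobian_gradient_eq] at this

end general

section chain

variable {σ R : Type*} [CommRing R]

theorem fil_pderiv {n : ℕ} {g : MvPowerSeries σ R} (hg : Fil (n + 1) g) (i : σ) :
    Fil n (pderiv R i g) := by
  intro m hm
  rw [coeff_pderiv, hg (m + Finsupp.single i 1)
    (by rw [map_add, Finsupp.degree_single]; omega), zero_mul]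

variable [Fintype σ] [DecidableEq σ]
  (Ψ : MvPowerSeries σ R →ₐ[R] MvPowerSeries σ R) (i : σ)

/-- the defect of the chain rule -/
noncomputable def chainErr (G : MvPowerSeries σ R) : MvPowerSeries σ R :=
  pderiv R i (Ψ G) - ∑ j, Ψ (pderiv R j G) * pderiv R i (Ψ (X j))

theorem chainErr_add (G H : MvPowerSeries σ R) :
    chainErr Ψ i (G + H) = chainErr Ψ i G + chainErr Ψ i H := by
  simp only [chainErr, map_add, add_mul, Finset.sum_add_distrib]
  abel

theorem chainErr_C (a : R) : chainErr Ψ i (C a) = 0 := by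
  have hC : (C a : MvPowerSeries σ R) = algebraMap R (MvPowerSeries σ R) a := by
    rw [MvPowerSeries.algebraMap_apply]; rfl
  have hΨ : Ψ (C a) = C a := by rw [hC, Ψ.commutes]
  simp only [chainErr, hΨ, pderiv_C, map_zero, zero_mul, Finset.sum_const_zero, sub_zero]

theorem chainErr_mul_X (P : MvPowerSeries σ R) (l : σ) :
    chainErr Ψ i (P * X l) = Ψ (X l) * chainErr Ψ i P := by
  have h1 : ∀ j, Ψ (pderiv R j (P * X l)) * pderiv R i (Ψ (X j)) =
      (if j = l then Ψ P * pderiv R i (Ψ (X l)) else 0) +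
        Ψ (X l) * (Ψ (pderiv R j P) * pderiv R i (Ψ (X j))) := by
    intro j
    rw [Derivation.leibniz, smul_eq_mul, smul_eq_mul, map_add, map_mul, map_mul]
    by_cases hjl : j = l
    · subst hjl
      rw [pderiv_X_self, map_one, mul_one, if_pos rfl]; ring
    · rw [pderiv_X_of_ne (Ne.symm hjl), map_zero, mul_zero, if_neg hjl]; ring
  have key : ∑ j, Ψ (pderiv R j (P * X l)) * pderiv R i (Ψ (X j)) =
      Ψ P * pderiv R i (Ψ (X l)) +
        Ψ (X l) * ∑ j, Ψ (pderiv R j P) * pderiv R i (Ψ (X j)) := by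
    rw [Finset.sum_congr rfl (fun j _ => h1 j), Finset.sum_add_distrib, Finset.sum_ite_eq',
      if_pos (Finset.mem_univ l), Finset.mul_sum]
  rw [chainErr, key, map_mul, Derivation.leibniz, smul_eq_mul, smul_eq_mul, chainErr]
  ring

theorem chainErr_coe (p : MvPolynomial σ R) : chainErr Ψ i (p : MvPowerSeries σ R) = 0 := by
  induction p using MvPolynomial.induction_on with
  | C a => rw [MvPolynomial.coe_C]; exact chainErr_C Ψ i a
  | add p q hp hq => rw [MvPolynomial.coe_add, chainErr_add, hp, hq, add_zero]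
  | mul_X p l hp => rw [MvPolynomial.coe_mul, MvPolynomial.coe_X, chainErr_mul_X, hp, mul_zero]

theorem fil_chainErr (h0 : ∀ j, constantCoeff (Ψ (X j)) = 0) {n : ℕ} {G : MvPowerSeries σ R}
    (hG : Fil (n + 1) G) : Fil n (chainErr Ψ i G) := by
  apply Fil.sub
  · exact fil_pderiv (fil_map Ψ h0 (n + 1) G hG) i
  · apply Fil.sum
    intro j _
    have := (fil_map Ψ h0 n _ (fil_pderiv hG j)).mul (fil_zero_left (pderiv R i (Ψ (X j))))
    rwa [add_zero] at this

/-- the chain rule for algebra endomorphisms of power series rings -/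
theorem chain_rule (h0 : ∀ j, constantCoeff (Ψ (X j)) = 0) (G : MvPowerSeries σ R) :
    pderiv R i (Ψ G) = ∑ j, Ψ (pderiv R j G) * pderiv R i (Ψ (X j)) := by
  have key : chainErr Ψ i G = 0 := by
    apply eq_zero_of_forall_fil
    intro n
    have e : chainErr Ψ i G =
        chainErr Ψ i (G - ((truncTotal (n + 1) G : MvPolynomial σ R) : MvPowerSeries σ R)) := by
      have h2 := chainErr_add Ψ i ((truncTotal (n + 1) G : MvPolynomial σ R) : MvPowerSeries σ R)
        (G - ((truncTotal (n + 1) G : MvPolynomial σ R) : MvPowerSeries σ R))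
      rw [add_sub_cancel, chainErr_coe, zero_add] at h2
      exact h2
    rw [e]
    exact fil_chainErr Ψ i h0 (fil_sub_truncTotal (n + 1) G)
  rw [chainErr, sub_eq_zero] at key
  exact key

end chain

section field

variable {k : Type u} [Field k] {N : ℕ}

theorem C_eq_algebraMap (c : k) :
    (C c : MvPowerSeries (Fin N) k) = algebraMap k (MvPowerSeries (Fin N) k) c := by
  rw [MvPowerSeries.algebraMap_apply]; rfl

theorem constantCoeff_of_mem_span {F : MvPowerSeries (Fin N) k} (hF0 : constantCoeff F = 0)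
    {w : MvPowerSeries (Fin N) k} (hw : w ∈ Ideal.span {F}) : constantCoeff w = 0 := by
  obtain ⟨a, rfl⟩ := Ideal.mem_span_singleton'.mp hw
  rw [map_mul, hF0, mul_zero]

theorem span_ne_top {F : MvPowerSeries (Fin N) k} (hF0 : constantCoeff F = 0) :
    Ideal.span {F} ≠ (⊤ : Ideal (MvPowerSeries (Fin N) k)) := by
  intro h
  have h1 : (1 : MvPowerSeries (Fin N) k) ∈ Ideal.span {F} := by rw [h]; exact Submodule.mem_top
  have := constantCoeff_of_mem_span hF0 h1
  rw [map_one] at this
  exact one_ne_zero this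

theorem isLocalRing_quot {F : MvPowerSeries (Fin N) k} (hF0 : constantCoeff F = 0) :
    IsLocalRing (MvPowerSeries (Fin N) k ⧸ Ideal.span {F}) := by
  haveI : Nontrivial (MvPowerSeries (Fin N) k ⧸ Ideal.span {F}) :=
    Ideal.Quotient.nontrivial_iff.mpr (span_ne_top hF0)
  exact IsLocalRing.of_surjective' (Ideal.Quotient.mk (Ideal.span {F}))
    Ideal.Quotient.mk_surjective

/-- the residue map of `k[[x]]/(F)` -/
noncomputable def epsQ (F : MvPowerSeries (Fin N) k) (hF0 : constantCoeff F = 0) :
    (MvPowerSeries (Fin N) k ⧸ Ideal.span {F}) →+* k :=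
  Ideal.Quotient.lift (Ideal.span {F}) constantCoeff
    (fun w hw => constantCoeff_of_mem_span hF0 hw)

theorem epsQ_mk (F : MvPowerSeries (Fin N) k) (hF0 : constantCoeff F = 0)
    (w : MvPowerSeries (Fin N) k) :
    epsQ F hF0 (Ideal.Quotient.mk (Ideal.span {F}) w) = constantCoeff w := rfl

theorem mk_mem_maximalIdeal_iff {F : MvPowerSeries (Fin N) k} (hF0 : constantCoeff F = 0)
    (hloc : IsLocalRing (MvPowerSeries (Fin N) k ⧸ Ideal.span {F}))
    (w : MvPowerSeries (Fin N) k) :
    Ideal.Quotient.mk (Ideal.span {F}) w ∈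
      maximalIdeal (MvPowerSeries (Fin N) k ⧸ Ideal.span {F}) ↔ constantCoeff w = 0 := by
  rw [mem_maximalIdeal, mem_nonunits_iff]
  constructor
  · intro h
    by_contra hc
    apply h
    apply IsUnit.map
    rw [MvPowerSeries.isUnit_iff_constantCoeff]
    exact isUnit_iff_ne_zero.mpr hc
  · intro h hu
    have := hu.map (epsQ F hF0)
    rw [epsQ_mk, h] at this
    exact not_isUnit_zero this

/-- Nakayama: a series of order two can be dropped from a generating family of the maximal
ideal -/
theorem X_mem_of_mem_sup (F : MvPowerSeries (Fin N) k) (hF : Fil 2 F)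
    (K : Ideal (MvPowerSeries (Fin N) k))
    (h : ∀ l, (X l : MvPowerSeries (Fin N) k) ∈ K ⊔ Ideal.span {F}) (l : Fin N) :
    (X l : MvPowerSeries (Fin N) k) ∈ K := by
  classical
  obtain ⟨M, hM⟩ : ∃ M : Ideal (MvPowerSeries (Fin N) k),
      M = Ideal.span (Set.range (X : Fin N → MvPowerSeries (Fin N) k)) := ⟨_, rfl⟩
  have hMmax : M = maximalIdeal (MvPowerSeries (Fin N) k) := by
    rw [hM]; exact (Groth.Agent.Lib.Helper1.PSOmega.maximalIdeal_eq_span k N).symm
  have hFM : F ∈ M * M := by
    obtain ⟨g, hg, hF'⟩ := exists_decomp (Finset.univ : Finset (Fin N)) 1 F hF (by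
      intro m hm
      have : m = 0 := by
        ext i; simpa using hm i (Finset.mem_univ i)
      rw [this]
      exact hF 0 (by simp))
    rw [hF']
    refine Ideal.sum_mem _ fun i _ => Ideal.mul_mem_mul ?_ ?_
    · rw [hM]; exact Ideal.subset_span ⟨i, rfl⟩
    · rw [hM, mem_span_X_iff, ← coeff_zero_eq_constantCoeff_apply]
      exact hg i 0 (by simp)
  have hle : M ≤ K := by
    apply Submodule.le_of_le_smul_of_le_jacobson_bot (I := M) (N := K) (N' := M)
    · rw [hM]; exact Submodule.fg_span (Set.finite_range _)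
    · rw [hMmax]; exact IsLocalRing.maximalIdeal_le_jacobson _
    · rw [hM, Ideal.span_le]
      rintro _ ⟨j, rfl⟩
      rw [← hM]
      refine sup_le_sup_left ?_ K (h j)
      rw [Ideal.span_singleton_le_iff_mem, smul_eq_mul]
      exact hFM
  apply hle
  rw [hM]
  exact Ideal.subset_span ⟨l, rfl⟩

/-- invariance of the Jacobian criterion under isomorphisms of the quotients -/
theorem inv_step (F G : MvPowerSeries (Fin N) k)
    (hF0 : constantCoeff F = 0) (hF1 : ∀ i, coeff (Finsupp.single i 1) F = 0)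
    (ψ : (MvPowerSeries (Fin N) k ⧸ Ideal.span {G}) ≃ₐ[k]
      (MvPowerSeries (Fin N) k ⧸ Ideal.span {F}))
    (hG : ∀ l, (X l : MvPowerSeries (Fin N) k) ∈
      Ideal.span (Set.range fun i => pderiv k i G)) :
    ∀ l, (X l : MvPowerSeries (Fin N) k) ∈ Ideal.span (Set.range fun i => pderiv k i F) := by
  classical
  haveI hloc : IsLocalRing (MvPowerSeries (Fin N) k ⧸ Ideal.span {F}) := isLocalRing_quot hF0
  haveI : IsAdicComplete (maximalIdeal (MvPowerSeries (Fin N) k ⧸ Ideal.span {F}))
      (MvPowerSeries (Fin N) k ⧸ Ideal.span {F}) :=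
    Groth.Agent.Lib.Helper7.FlatFS.isAdicComplete_quot (Ideal.span {F})
  have hψC : ∀ c : k, ψ (Ideal.Quotient.mk (Ideal.span {G}) (C c)) =
      Ideal.Quotient.mk (Ideal.span {F}) (C c) := by
    intro c
    rw [C_eq_algebraMap]
    exact ψ.commutes c
  choose q hq using fun j =>
    Ideal.Quotient.mk_surjective (ψ (Ideal.Quotient.mk (Ideal.span {G}) (X j)))
  have hq0 : ∀ j, constantCoeff (q j) = 0 := by
    intro j
    by_contra hc
    have hu : IsUnit ((X j : MvPowerSeries (Fin N) k) - C (constantCoeff (q j))) := by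
      rw [MvPowerSeries.isUnit_iff_constantCoeff, map_sub, constantCoeff_X, constantCoeff_C,
        zero_sub]
      exact (isUnit_iff_ne_zero.mpr hc).neg
    have hu2 : IsUnit (ψ (Ideal.Quotient.mk (Ideal.span {G})
        (X j - C (constantCoeff (q j))))) :=
      (hu.map (Ideal.Quotient.mk (Ideal.span {G}))).map ψ
    have hu3 := hu2.map (epsQ F hF0)
    have hz : epsQ F hF0 (ψ (Ideal.Quotient.mk (Ideal.span {G})
        (X j - C (constantCoeff (q j))))) = 0 := by
      rw [map_sub, map_sub, map_sub, ← hq j, hψC, epsQ_mk, epsQ_mk, constantCoeff_C, sub_self]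
    rw [hz] at hu3
    exact not_isUnit_zero hu3
  have hs : HasSubst q := hasSubst_of_constantCoeff_zero hq0
  obtain ⟨Ψ, hΨ⟩ : ∃ Ψ : MvPowerSeries (Fin N) k →ₐ[k] MvPowerSeries (Fin N) k,
      ∀ j, Ψ (X j) = q j := ⟨substAlgHom hs, fun j => substAlgHom_X hs j⟩
  have hΨ0 : ∀ j, constantCoeff (Ψ (X j)) = 0 := fun j => by rw [hΨ]; exact hq0 j
  have hΨC : ∀ c : k, Ψ (C c) = C c := by
    intro c
    rw [C_eq_algebraMap]; exact Ψ.commutes c
  have hcomm : ∀ u, Ideal.Quotient.mk (Ideal.span {F}) (Ψ u) =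
      ψ (Ideal.Quotient.mk (Ideal.span {G}) u) := by
    have := ringHom_ext_of_hausdorff
      ((Ideal.Quotient.mk (Ideal.span {F})).comp (Ψ : MvPowerSeries (Fin N) k →+* _))
      ((ψ.toAlgHom : _ →+* _).comp (Ideal.Quotient.mk (Ideal.span {G})))
      (fun r => by
        show Ideal.Quotient.mk (Ideal.span {F}) (Ψ (C r)) =
          ψ (Ideal.Quotient.mk (Ideal.span {G}) (C r))
        rw [hΨC, hψC])
      (fun i => by
        show Ideal.Quotient.mk (Ideal.span {F}) (Ψ (X i)) =
          ψ (Ideal.Quotient.mk (Ideal.span {G}) (X i))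
        rw [hΨ, hq])
      (fun i => by
        show Ideal.Quotient.mk (Ideal.span {F}) (Ψ (X i)) ∈ _
        rw [hΨ, mk_mem_maximalIdeal_iff hF0 hloc]
        exact hq0 i)
    intro u
    exact RingHom.congr_fun this u
  obtain ⟨h, hh⟩ : ∃ h, h * F = Ψ G := by
    apply Ideal.mem_span_singleton'.mp
    rw [← Ideal.Quotient.eq_zero_iff_mem, hcomm,
      (Ideal.Quotient.eq_zero_iff_mem).mpr (Ideal.mem_span_singleton_self G), map_zero]
  have hXq : ∀ l, (X l : MvPowerSeries (Fin N) k) ∈ Ideal.span (Set.range q) := by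
    apply X_mem_of_mem_sup F (fil_two_of F hF0 hF1)
    intro l
    obtain ⟨ubar, hubar⟩ := ψ.surjective (Ideal.Quotient.mk _ (X l))
    obtain ⟨u, rfl⟩ := Ideal.Quotient.mk_surjective ubar
    have h1 : X l - Ψ u ∈ Ideal.span {F} := by
      rw [← Ideal.Quotient.eq, hcomm, hubar]
    have hu0 : constantCoeff u = 0 := by
      have h2 := constantCoeff_of_mem_span hF0 h1
      rw [map_sub, constantCoeff_X, zero_sub, neg_eq_zero, constantCoeff_map Ψ hΨ0] at h2
      exact h2
    have hu1 : Ψ u ∈ Ideal.span (Set.range q) := by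
      obtain ⟨c, hc⟩ := Ideal.mem_span_range_iff_exists_fun.mp ((mem_span_X_iff u).mpr hu0)
      rw [← hc, map_sum]
      refine Ideal.sum_mem _ fun j _ => ?_
      rw [map_mul, hΨ]
      exact Ideal.mul_mem_left _ _ (Ideal.subset_span ⟨j, rfl⟩)
    have := Submodule.add_mem_sup hu1 h1
    rwa [add_sub_cancel] at this
  have hdetk : IsUnit (Matrix.of fun i j : Fin N => coeff (Finsupp.single j 1) (q i)).det :=
    isUnit_det_jacobian_of_X_mem q hq0 hXq
  obtain ⟨A, hA⟩ : ∃ A : Matrix (Fin N) (Fin N) (MvPowerSeries (Fin N) k),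
      A = Matrix.of fun i j => pderiv k i (q j) := ⟨_, rfl⟩
  have hdetA : IsUnit A.det := by
    rw [MvPowerSeries.isUnit_iff_constantCoeff, RingHom.map_det]
    have hmap : (constantCoeff (σ := Fin N) (R := k)).mapMatrix A =
        (Matrix.of fun i j : Fin N => coeff (Finsupp.single j 1) (q i)).transpose := by
      ext i j
      rw [RingHom.mapMatrix_apply, Matrix.map_apply, hA, Matrix.of_apply, Matrix.transpose_apply,
        Matrix.of_apply, ← coeff_zero_eq_constantCoeff_apply, coeff_pderiv, zero_add]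
      simp
    rw [hmap, Matrix.det_transpose]
    exact hdetk
  obtain ⟨K, hK⟩ : ∃ K : Ideal (MvPowerSeries (Fin N) k),
      K = Ideal.span (Set.range fun i => pderiv k i F) ⊔ Ideal.span {F} := ⟨_, rfl⟩
  have hw : ∀ i, ∑ j, Ψ (pderiv k j G) * pderiv k i (q j) ∈ K := by
    intro i
    have hc := chain_rule Ψ i hΨ0 G
    simp only [hΨ] at hc
    rw [← hc, ← hh, Derivation.leibniz, smul_eq_mul, smul_eq_mul, hK]
    exact Ideal.add_mem _
      (Ideal.mul_mem_left _ _ (Ideal.mem_sup_left (Ideal.subset_span ⟨i, rfl⟩)))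
      (Ideal.mul_mem_right _ _ (Ideal.mem_sup_right (Ideal.mem_span_singleton_self F)))
  have hv : ∀ j, Ψ (pderiv k j G) ∈ K := by
    intro j
    have hmv : ∀ i, (A.mulVec fun j => Ψ (pderiv k j G)) i ∈ K := by
      intro i
      have h3 : (A.mulVec fun j => Ψ (pderiv k j G)) i =
          ∑ j, Ψ (pderiv k j G) * pderiv k i (q j) := by
        simp only [Matrix.mulVec, dotProduct, hA, Matrix.of_apply]
        exact Finset.sum_congr rfl fun j _ => mul_comm _ _
      rw [h3]; exact hw i
    have hinv : A⁻¹ * A = 1 := Matrix.nonsing_inv_mul A hdetA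
    have e : (fun j => Ψ (pderiv k j G)) =
        A⁻¹.mulVec (A.mulVec fun j => Ψ (pderiv k j G)) := by
      rw [Matrix.mulVec_mulVec, hinv, Matrix.one_mulVec]
    have e2 : Ψ (pderiv k j G) =
        ∑ i, A⁻¹ j i * (A.mulVec fun j => Ψ (pderiv k j G)) i := by
      conv_lhs => rw [show Ψ (pderiv k j G) = (fun j => Ψ (pderiv k j G)) j from rfl, e]
      simp only [Matrix.mulVec, dotProduct]
    rw [e2]
    exact Ideal.sum_mem _ fun i _ => Ideal.mul_mem_left _ _ (hmv i)
  apply X_mem_of_mem_sup F (fil_two_of F hF0 hF1)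
  intro l
  rw [← hK]
  have h1 : Ideal.span (Set.range q) ≤ K := by
    rw [Ideal.span_le]
    rintro _ ⟨j, rfl⟩
    have h2 : Ψ (X j) ∈ Ideal.map (Ψ : MvPowerSeries (Fin N) k →+* MvPowerSeries (Fin N) k)
        (Ideal.span (Set.range fun i => pderiv k i G)) :=
      Ideal.mem_map_of_mem _ (hG j)
    rw [Ideal.map_span] at h2
    rw [← hΨ j]
    refine (Ideal.span_le.mpr ?_) h2
    rintro _ ⟨_, ⟨i, rfl⟩, rfl⟩
    exact hv i
  exact h1 (hXq l)

end field

end Groth.Agent.Lib.Helper21.RKf
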