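import Mathlib
import Groth.Agent.Lib.Helper21.RKf
import Groth.Agent.Lib.Helper7.ComplLim

/-!
# The completed local ring of a hypersurface at a rational point (helper21)

For `f ∈ k[x]` vanishing at `y`, the completion of the local ring of `k[x]/(f)` at `y` is
`k[[x]]/(f(x+y))`, as `k`-algebras.
-/

set_option autoImplicit false
set_option linter.style.haveILetI false
set_option linter.unusedSectionVars false
set_option linter.unusedVariables false
set_option linter.unusedSimpArgs false

namespace Groth.Agent.Lib.Helper21.RKg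

open MvPowerSeries IsLocalRing Groth.Agent.Lib.Helper21.RKf Groth.Agent.Lib.Helper14.FormalIFT

universe u

variable {k : Type u} [Field k] {N : ℕ}

/-- translation to the origin, into power series -/
noncomputable def iota (y : Fin N → k) : MvPolynomial (Fin N) k →ₐ[k] MvPowerSeries (Fin N) k :=
  MvPolynomial.aeval (fun i => (X i : MvPowerSeries (Fin N) k) + C (y i))

theorem iota_X (y : Fin N → k) (i : Fin N) : iota y (MvPolynomial.X i) = X i + C (y i) :=
  MvPolynomial.aeval_X _ _

theorem iota_C (y : Fin N → k) (a : k) : iota y (MvPolynomial.C a) = C a := by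
  rw [iota, MvPolynomial.aeval_C, C_eq_algebraMap]

theorem constantCoeff_iota (y : Fin N → k) (p : MvPolynomial (Fin N) k) :
    constantCoeff (iota y p) = MvPolynomial.eval y p := by
  induction p using MvPolynomial.induction_on with
  | C a => rw [iota_C, constantCoeff_C, MvPolynomial.eval_C]
  | add p q hp hq => rw [map_add, map_add, hp, hq, map_add]
  | mul_X p i hp =>
    rw [map_mul, map_mul, hp, iota_X, map_add, constantCoeff_X, constantCoeff_C, zero_add, map_mul,
      MvPolynomial.eval_X]

theorem pderiv_iota (y : Fin N → k) (i : Fin N) (p : MvPolynomial (Fin N) k) :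
    pderiv k i (iota y p) = iota y (MvPolynomial.pderiv i p) := by
  induction p using MvPolynomial.induction_on with
  | C a => rw [iota_C, pderiv_C, MvPolynomial.pderiv_C, map_zero]
  | add p q hp hq => rw [map_add, map_add, hp, hq, map_add, map_add]
  | mul_X p j hp =>
    rw [map_mul, Derivation.leibniz, Derivation.leibniz, hp, smul_eq_mul, smul_eq_mul, smul_eq_mul,
      smul_eq_mul, map_add, map_mul, map_mul, iota_X, map_add, pderiv_C, add_zero]
    by_cases hij : j = i
    · subst hij
      rw [pderiv_X_self, MvPolynomial.pderiv_X_self, map_one]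
    · rw [pderiv_X_of_ne hij, MvPolynomial.pderiv_X_of_ne hij, map_zero]

section geo

variable (f : MvPolynomial (Fin N) k)
  (P : Ideal (MvPolynomial (Fin N) k ⧸ Ideal.span {f})) [P.IsMaximal] (y : Fin N → k)
  (hy : ∀ p : MvPolynomial (Fin N) k,
    Ideal.Quotient.mk (Ideal.span {f}) p ∈ P ↔ MvPolynomial.eval y p = 0)

include hy in
theorem constantCoeff_iota_f : constantCoeff (iota y f) = 0 := by
  rw [constantCoeff_iota]
  apply (hy f).mp
  rw [Ideal.Quotient.eq_zero_iff_mem.mpr (Ideal.mem_span_singleton_self f)]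
  exact P.zero_mem

/-- the map of the coordinate ring to `k[[x]]/(f(x+y))` -/
noncomputable def theta0 : (MvPolynomial (Fin N) k ⧸ Ideal.span {f}) →ₐ[k]
    (MvPowerSeries (Fin N) k ⧸ Ideal.span {iota y f}) :=
  Ideal.Quotient.liftₐ (Ideal.span {f})
    ((Ideal.Quotient.mkₐ k (Ideal.span {iota y f})).comp (iota y)) (by
      intro a ha
      obtain ⟨c, rfl⟩ := Ideal.mem_span_singleton'.mp ha
      rw [AlgHom.comp_apply, map_mul, Ideal.Quotient.mkₐ_eq_mk, Ideal.Quotient.eq_zero_iff_mem]
      exact Ideal.mul_mem_left _ _ (Ideal.mem_span_singleton_self _))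

theorem theta0_mk (p : MvPolynomial (Fin N) k) :
    theta0 f y (Ideal.Quotient.mk (Ideal.span {f}) p) =
      Ideal.Quotient.mk (Ideal.span {iota y f}) (iota y p) := rfl

include hy in
theorem isUnit_theta0 (b : MvPolynomial (Fin N) k ⧸ Ideal.span {f}) (hb : b ∉ P) :
    IsUnit (theta0 f y b) := by
  obtain ⟨p, rfl⟩ := Ideal.Quotient.mk_surjective b
  rw [theta0_mk]
  apply IsUnit.map
  rw [MvPowerSeries.isUnit_iff_constantCoeff, constantCoeff_iota, isUnit_iff_ne_zero]
  exact fun h => hb ((hy p).mpr h)

variable (O : Type u) [CommRing O] [Algebra (MvPolynomial (Fin N) k ⧸ Ideal.span {f}) O]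
  [IsLocalization.AtPrime O P] [Algebra k O]
  [IsScalarTower k (MvPolynomial (Fin N) k ⧸ Ideal.span {f}) O] [IsLocalRing O]

/-- the map of the local ring to `k[[x]]/(f(x+y))` -/
noncomputable def theta : O →ₐ[k]
    (MvPowerSeries (Fin N) k ⧸ Ideal.span {iota y f}) :=
  IsLocalization.liftAlgHom (M := P.primeCompl) (f := theta0 f y)
    (fun s => isUnit_theta0 f P y hy s.1 s.2)

theorem theta_algebraMap (b : MvPolynomial (Fin N) k ⧸ Ideal.span {f}) :
    theta f P y hy O (algebraMap _ O b) = theta0 f y b :=
  IsLocalization.lift_eq _ b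

theorem theta_mem_maximalIdeal
    (hloc : IsLocalRing (MvPowerSeries (Fin N) k ⧸ Ideal.span {iota y f}))
    (x : O) (hx : x ∈ maximalIdeal O) :
    theta f P y hy O x ∈ maximalIdeal (MvPowerSeries (Fin N) k ⧸ Ideal.span {iota y f}) := by
  have hF0 := constantCoeff_iota_f f P y hy
  obtain ⟨b, s, rfl⟩ := IsLocalization.exists_mk'_eq P.primeCompl x
  rw [IsLocalization.AtPrime.mk'_mem_maximal_iff O P] at hx
  have h1 : theta f P y hy O (IsLocalization.mk' O b s) *
      theta f P y hy O (algebraMap _ O (s : MvPolynomial (Fin N) k ⧸ Ideal.span {f})) =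
      theta f P y hy O (algebraMap _ O b) := by
    rw [← map_mul, IsLocalization.mk'_spec]
  obtain ⟨p, rfl⟩ := Ideal.Quotient.mk_surjective b
  have h2 : theta f P y hy O (algebraMap _ O
      (Ideal.Quotient.mk (Ideal.span {f}) p)) ∈
      maximalIdeal (MvPowerSeries (Fin N) k ⧸ Ideal.span {iota y f}) := by
    rw [theta_algebraMap, theta0_mk, mk_mem_maximalIdeal_iff hF0 hloc, constantCoeff_iota]
    exact (hy p).mp hx
  by_contra hnot
  rw [mem_maximalIdeal, mem_nonunits_iff, not_not] at hnot
  have hu : IsUnit (theta f P y hy O (algebraMap _ O (s : MvPolynomial (Fin N) k ⧸ Ideal.span {f}))) := by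
    rw [theta_algebraMap]; exact isUnit_theta0 f P y hy s.1 s.2
  have h3 := hnot.mul hu
  rw [h1] at h3
  exact (mem_nonunits_iff.mp ((mem_maximalIdeal _).mp h2)) h3

/-- the completed local ring of the hypersurface at `y` -/
theorem exists_iso :
    ∃ e : AdicCompletion (maximalIdeal O) O ≃ₐ[k]
        (MvPowerSeries (Fin N) k ⧸ Ideal.span {iota y f}),
      ∀ a, e (algebraMap O _ a) = theta f P y hy O a := by
  classical
  have hF0 := constantCoeff_iota_f f P y hy
  haveI hloc : IsLocalRing (MvPowerSeries (Fin N) k ⧸ Ideal.span {iota y f}) :=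
    isLocalRing_quot hF0
  haveI hcompl : IsAdicComplete
      (maximalIdeal (MvPowerSeries (Fin N) k ⧸ Ideal.span {iota y f}))
      (MvPowerSeries (Fin N) k ⧸ Ideal.span {iota y f}) :=
    Groth.Agent.Lib.Helper7.FlatFS.isAdicComplete_quot (Ideal.span {iota y f})
  haveI : IsNoetherianRing O := IsLocalization.isNoetherianRing P.primeCompl O inferInstance
  haveI : IsNoetherianRing (AdicCompletion (maximalIdeal O)
      O) :=
    Groth.Agent.Lib.Helper7.ComplLim.isNoetherianRing_compl O
  letI algORF : Algebra O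
      (MvPowerSeries (Fin N) k ⧸ Ideal.span {iota y f}) := (theta f P y hy O).toRingHom.toAlgebra
  haveI : IsLocalHom (algebraMap O
      (MvPowerSeries (Fin N) k ⧸ Ideal.span {iota y f})) := ⟨fun x hx => by
    by_contra hnu
    have h1 := theta_mem_maximalIdeal f P y hy O hloc x ((mem_maximalIdeal x).mpr hnu)
    exact (mem_nonunits_iff.mp ((mem_maximalIdeal _).mp h1)) hx⟩
  -- the map from the completion
  obtain ⟨β, hβdef⟩ : ∃ β : AdicCompletion (maximalIdeal O)
      O →+* (MvPowerSeries (Fin N) k ⧸ Ideal.span {iota y f}),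
      β = ((AdicCompletion.ofAlgEquiv (maximalIdeal
        (MvPowerSeries (Fin N) k ⧸ Ideal.span {iota y f}))).symm.toAlgHom.toRingHom).comp
        (Groth.Agent.Lib.Helper7.ComplLim.complMap (A := O)
          (B := MvPowerSeries (Fin N) k ⧸ Ideal.span {iota y f})).toRingHom := ⟨_, rfl⟩
  have hβ : ∀ a, β (algebraMap O _ a) = theta f P y hy O a := by
    intro a
    rw [hβdef]
    show (AdicCompletion.ofAlgEquiv (maximalIdeal
        (MvPowerSeries (Fin N) k ⧸ Ideal.span {iota y f}))).symm
      (Groth.Agent.Lib.Helper7.ComplLim.complMap (A := O)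
          (B := MvPowerSeries (Fin N) k ⧸ Ideal.span {iota y f})
        (algebraMap O _ a)) = _
    rw [AlgHom.commutes, AdicCompletion.algebraMap_apply, ← AdicCompletion.ofAlgEquiv_apply,
      AlgEquiv.symm_apply_apply]
    rfl
  -- the map from the power series ring
  obtain ⟨s, hsdef⟩ : ∃ s : Fin N → AdicCompletion (maximalIdeal O)
      O, s = fun i => algebraMap O _
        (algebraMap _ O (Ideal.Quotient.mk (Ideal.span {f})
          (MvPolynomial.X i - MvPolynomial.C (y i)))) := ⟨_, rfl⟩
  have hs : ∀ i, s i ∈ maximalIdeal (AdicCompletion (maximalIdeal O)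
      O) := by
    intro i
    rw [AdicCompletion.maximalIdeal_eq_map, hsdef]
    apply Ideal.mem_map_of_mem
    rw [IsLocalization.AtPrime.to_map_mem_maximal_iff O P, hy, map_sub, MvPolynomial.eval_X,
      MvPolynomial.eval_C, sub_self]
  obtain ⟨α₀, hαC, hαX⟩ := Groth.Agent.Lib.Helper21.RIa.exists_powerSeries_hom
    (algebraMap k (AdicCompletion (maximalIdeal O)
      O)) s hs
  obtain ⟨α, hα⟩ : ∃ α : MvPowerSeries (Fin N) k →ₐ[k]
      AdicCompletion (maximalIdeal O) O,
      ∀ w, α w = α₀ w := by
    have hcomm : ∀ r : k, α₀ (algebraMap k (MvPowerSeries (Fin N) k) r) =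
        algebraMap k (AdicCompletion (maximalIdeal O)
          O) r := by
      intro r
      rw [← C_eq_algebraMap, hαC]
    exact ⟨{ α₀ with commutes' := hcomm }, fun w => rfl⟩
  have hkO : ∀ c : k, algebraMap k (AdicCompletion (maximalIdeal O)
      O) c = algebraMap O _
        (algebraMap _ O (Ideal.Quotient.mk (Ideal.span {f})
          (MvPolynomial.C c))) := by
    intro c
    rw [← MvPolynomial.algebraMap_eq, Ideal.Quotient.mk_algebraMap,
      ← IsScalarTower.algebraMap_apply k _ O]
    rfl
  have hnat : ∀ p : MvPolynomial (Fin N) k, α (iota y p) =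
      algebraMap O _ (algebraMap _ O
        (Ideal.Quotient.mk (Ideal.span {f}) p)) := by
    intro p
    induction p using MvPolynomial.induction_on with
    | C a => rw [iota_C, hα, hαC, hkO]
    | add p q hp hq => rw [map_add, map_add, hp, hq, map_add, map_add, map_add]
    | mul_X p i hp =>
      rw [map_mul, map_mul, hp, iota_X, map_add, hα (X i), hαX, hα (C (y i)), hαC, hkO, hsdef]
      simp only [map_mul, map_sub, sub_add_cancel]
  obtain ⟨αbar, hαbar⟩ : ∃ αbar : (MvPowerSeries (Fin N) k ⧸ Ideal.span {iota y f}) →ₐ[k]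
      AdicCompletion (maximalIdeal O) O,
      ∀ w, αbar (Ideal.Quotient.mk _ w) = α w := by
    refine ⟨Ideal.Quotient.liftₐ (Ideal.span {iota y f}) α ?_, fun w => rfl⟩
    intro a ha
    obtain ⟨c, rfl⟩ := Ideal.mem_span_singleton'.mp ha
    rw [map_mul, hnat, Ideal.Quotient.eq_zero_iff_mem.mpr (Ideal.mem_span_singleton_self f),
      map_zero, map_zero, mul_zero]
  have hαθ : ∀ a : O, αbar (theta f P y hy O a) = algebraMap _ _ a := by
    have h1 : (αbar.toRingHom).comp (theta f P y hy O).toRingHom =
        algebraMap O _ := by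
      apply IsLocalization.ringHom_ext P.primeCompl
      apply Ideal.Quotient.ringHom_ext
      apply RingHom.ext
      intro p
      show αbar (theta f P y hy O (algebraMap _ O
        (Ideal.Quotient.mk (Ideal.span {f}) p))) = _
      rw [theta_algebraMap, theta0_mk, hαbar, hnat]
      rfl
    intro a
    exact RingHom.congr_fun h1 a
  have hβα : ∀ w, β (αbar w) = w := by
    have h1 : (β.comp αbar.toRingHom).comp (Ideal.Quotient.mk (Ideal.span {iota y f})) =
        Ideal.Quotient.mk (Ideal.span {iota y f}) := by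
      apply ringHom_ext_of_hausdorff
      · intro r
        show β (αbar (Ideal.Quotient.mk _ (C r))) = _
        have h2 : theta f P y hy O (algebraMap _ O
            (Ideal.Quotient.mk (Ideal.span {f}) (MvPolynomial.C r))) =
            Ideal.Quotient.mk _ (C r) := by
          rw [theta_algebraMap, theta0_mk, iota_C]
        rw [hαbar, hα, hαC, hkO, hβ, h2]
      · intro i
        show β (αbar (Ideal.Quotient.mk _ (X i))) = _
        rw [hαbar, hα, hαX, hsdef, hβ, theta_algebraMap, theta0_mk, map_sub, iota_X, iota_C,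
          add_sub_cancel_right]
      · intro i
        show β (αbar (Ideal.Quotient.mk _ (X i))) ∈ _
        rw [hαbar, hα, hαX, hsdef, hβ, theta_algebraMap, theta0_mk, map_sub, iota_X, iota_C,
          add_sub_cancel_right, mk_mem_maximalIdeal_iff hF0 hloc, constantCoeff_X]
    intro w
    obtain ⟨u, rfl⟩ := Ideal.Quotient.mk_surjective w
    exact RingHom.congr_fun h1 u
  have hαβ : ∀ x, αbar (β x) = x := by
    have hcomp : ∀ a, (αbar.toRingHom.comp β) (algebraMap O _ a) =
        algebraMap O _ a := by
      intro a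
      show αbar (β (algebraMap O _ a)) = _
      rw [hβ, hαθ]
    have h1 : αbar.toRingHom.comp β = RingHom.id _ := by
      apply Groth.Agent.Lib.Helper21.RIa.ringHom_ext_completion
      · rw [AdicCompletion.maximalIdeal_eq_map, Ideal.map_map]
        have : (αbar.toRingHom.comp β).comp (algebraMap O _) =
            algebraMap O _ := RingHom.ext hcomp
        rw [this]
      · rw [Ideal.map_id]
      · intro a
        rw [hcomp a]; rfl
    intro x
    exact RingHom.congr_fun h1 x
  have hβk : ∀ r : k, β (algebraMap k _ r) = algebraMap k _ r := by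
    intro r
    rw [hkO, hβ, theta_algebraMap, theta0_mk, iota_C, C_eq_algebraMap]
    rfl
  obtain ⟨βk, hβk'⟩ : ∃ βk : AdicCompletion (maximalIdeal O)
      O →ₐ[k] (MvPowerSeries (Fin N) k ⧸ Ideal.span {iota y f}),
      ∀ x, βk x = β x := ⟨{ β with commutes' := hβk }, fun x => rfl⟩
  refine ⟨AlgEquiv.ofAlgHom βk αbar (AlgHom.ext fun w => ?_) (AlgHom.ext fun x => ?_), ?_⟩
  · rw [AlgHom.comp_apply, hβk', hβα]; rfl
  · rw [AlgHom.comp_apply, hβk', hαβ]; rfl
  · intro a
    show βk (algebraMap O _ a) = _
    rw [hβk', hβ]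

end geo

end Groth.Agent.Lib.Helper21.RKg
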