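import Mathlib
import Groth.Agent.Lib.Helper21.RKg

/-!
# Non-degenerate quadratic singularities of affine hypersurfaces (helper21)

The partial derivatives of `f` generate the maximal ideal of the local ring of `k[x]/(f)` at a
singular rational point iff the point is a non-degenerate quadratic singularity.
-/

set_option autoImplicit false
set_option linter.style.haveILetI false
set_option linter.unusedSectionVars false
set_option linter.unusedVariables false
set_option linter.unusedSimpArgs false

namespace Groth.Agent.Lib.Helper21.RKh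

open MvPowerSeries IsLocalRing Groth.Agent.Lib.Helper21.RKf Groth.Agent.Lib.Helper21.RKg
  Groth.Agent.Lib.Helper14.FormalIFT Groth.Agent.Lib.Helper14.FormalMorse

universe u

variable {k : Type u} [Field k] {N : ℕ}

section geo

variable (f : MvPolynomial (Fin N) k)
  (P : Ideal (MvPolynomial (Fin N) k ⧸ Ideal.span {f})) [P.IsMaximal] (y : Fin N → k)
  (hy : ∀ p : MvPolynomial (Fin N) k,
    Ideal.Quotient.mk (Ideal.span {f}) p ∈ P ↔ MvPolynomial.eval y p = 0)
  (hP : ∀ j : Fin N, Ideal.Quotient.mk (Ideal.span {f}) (MvPolynomial.pderiv j f) ∈ P)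
  (O : Type u) [CommRing O] [Algebra (MvPolynomial (Fin N) k ⧸ Ideal.span {f}) O]
  [IsLocalization.AtPrime O P] [Algebra k O]
  [IsScalarTower k (MvPolynomial (Fin N) k ⧸ Ideal.span {f}) O] [IsLocalRing O]

include hy hP in
theorem coeff_single_iota_f (i : Fin N) : coeff (Finsupp.single i 1) (iota y f) = 0 := by
  have h1 : constantCoeff (pderiv k i (iota y f)) = 0 := by
    rw [pderiv_iota, constantCoeff_iota]
    exact (hy _).mp (hP i)
  rw [← coeff_zero_eq_constantCoeff_apply, coeff_pderiv, zero_add] at h1
  simpa using h1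

include hP in
theorem theta_pderiv (j : Fin N) :
    theta f P y hy O (algebraMap _ O (Ideal.Quotient.mk (Ideal.span {f})
      (MvPolynomial.pderiv j f))) =
      Ideal.Quotient.mk (Ideal.span {iota y f}) (pderiv k j (iota y f)) := by
  rw [theta_algebraMap, theta0_mk, pderiv_iota]

theorem theta_var (l : Fin N) :
    theta f P y hy O (algebraMap _ O (Ideal.Quotient.mk (Ideal.span {f})
      (MvPolynomial.X l - MvPolynomial.C (y l)))) =
      Ideal.Quotient.mk (Ideal.span {iota y f}) (X l) := by
  rw [theta_algebraMap, theta0_mk, map_sub, iota_X, iota_C, add_sub_cancel_right]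

include hy hP in
/-- the Jacobian criterion at the level of the local ring -/
theorem span_pderiv_iff :
    Ideal.map (algebraMap (MvPolynomial (Fin N) k ⧸ Ideal.span {f}) O)
        (Ideal.span (Set.range fun j : Fin N =>
          Ideal.Quotient.mk (Ideal.span {f}) (MvPolynomial.pderiv j f))) = maximalIdeal O ↔
      VanCyc.QuadNondeg (VanCyc.quadPart (iota y f)) := by
  classical
  have hF0 := constantCoeff_iota_f f P y hy
  have hF1 := coeff_single_iota_f f P y hy hP
  haveI hloc : IsLocalRing (MvPowerSeries (Fin N) k ⧸ Ideal.span {iota y f}) :=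
    isLocalRing_quot hF0
  haveI : IsNoetherianRing O := IsLocalization.isNoetherianRing P.primeCompl O inferInstance
  rw [nondeg_iff (iota y f) hF1]
  constructor
  · intro hb
    apply X_mem_of_mem_sup (iota y f) (fil_two_of (iota y f) hF0 hF1)
    intro l
    have ht : algebraMap _ O (Ideal.Quotient.mk (Ideal.span {f})
        (MvPolynomial.X l - MvPolynomial.C (y l))) ∈ maximalIdeal O := by
      rw [IsLocalization.AtPrime.to_map_mem_maximal_iff O P, hy, map_sub, MvPolynomial.eval_X,
        MvPolynomial.eval_C, sub_self]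
    rw [← hb] at ht
    have h2 := Ideal.mem_map_of_mem (theta f P y hy O).toRingHom ht
    rw [Ideal.map_map, Ideal.map_span] at h2
    have h3 : Ideal.span (⇑((theta f P y hy O).toRingHom.comp
        (algebraMap (MvPolynomial (Fin N) k ⧸ Ideal.span {f}) O)) ''
        Set.range fun j : Fin N =>
          Ideal.Quotient.mk (Ideal.span {f}) (MvPolynomial.pderiv j f)) ≤
        Ideal.map (Ideal.Quotient.mk (Ideal.span {iota y f}))
          (Ideal.span (Set.range fun i => pderiv k i (iota y f))) := by
      rw [Ideal.span_le]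
      rintro _ ⟨_, ⟨j, rfl⟩, rfl⟩
      show theta f P y hy O (algebraMap _ O (Ideal.Quotient.mk (Ideal.span {f})
        (MvPolynomial.pderiv j f))) ∈ _
      rw [theta_pderiv f P y hy hP O]
      exact Ideal.mem_map_of_mem _ (Ideal.subset_span ⟨j, rfl⟩)
    have h4 := h3 h2
    have h5 : (theta f P y hy O).toRingHom (algebraMap _ O (Ideal.Quotient.mk (Ideal.span {f})
        (MvPolynomial.X l - MvPolynomial.C (y l)))) =
        Ideal.Quotient.mk (Ideal.span {iota y f}) (X l) := theta_var f P y hy O l
    rw [h5, Ideal.mem_map_iff_of_surjective _ Ideal.Quotient.mk_surjective] at h4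
    obtain ⟨x, hx, hxl⟩ := h4
    have h6 : X l - x ∈ Ideal.span {iota y f} := by
      rw [← Ideal.Quotient.eq, hxl]
    have := Submodule.add_mem_sup hx h6
    rwa [add_sub_cancel] at this
  · intro hX
    obtain ⟨e, he⟩ := exists_iso f P y hy O
    apply le_antisymm
    · rw [Ideal.map_le_iff_le_comap, Ideal.span_le]
      rintro _ ⟨j, rfl⟩
      show algebraMap _ O _ ∈ maximalIdeal O
      rw [IsLocalization.AtPrime.to_map_mem_maximal_iff O P]
      exact hP j
    · obtain ⟨J', hJ'⟩ : ∃ J' : Ideal O, J' =
          Ideal.map (algebraMap (MvPolynomial (Fin N) k ⧸ Ideal.span {f}) O)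
          (Ideal.span (Set.range fun j : Fin N =>
            Ideal.Quotient.mk (Ideal.span {f}) (MvPolynomial.pderiv j f))) := ⟨_, rfl⟩
      rw [← hJ']
      have hgen : ∀ j, algebraMap O (AdicCompletion (maximalIdeal O) O)
          (algebraMap _ O (Ideal.Quotient.mk (Ideal.span {f}) (MvPolynomial.pderiv j f))) ∈
          J'.map (algebraMap O (AdicCompletion (maximalIdeal O) O)) := by
        intro j
        apply Ideal.mem_map_of_mem
        rw [hJ']
        apply Ideal.mem_map_of_mem
        exact Ideal.subset_span ⟨j, rfl⟩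
      apply Submodule.le_of_le_smul_of_le_jacobson_bot (I := maximalIdeal O) (N := J')
        (N' := maximalIdeal O)
      · exact (isNoetherianRing_iff_ideal_fg O).mp inferInstance _
      · exact IsLocalRing.maximalIdeal_le_jacobson _
      · intro b hb
        have hmem : b ∈ J' ⊔ maximalIdeal O ^ 2 := by
          apply Groth.Agent.Lib.Helper21.RIa.mem_of_algebraMap_mem_map (J' ⊔ maximalIdeal O ^ 2) 2
            le_sup_right b
          apply Ideal.map_mono (le_sup_left : J' ≤ J' ⊔ maximalIdeal O ^ 2)
          -- describe `θ b`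
          have hθb := theta_mem_maximalIdeal f P y hy O hloc b hb
          obtain ⟨w, hw⟩ := Ideal.Quotient.mk_surjective (theta f P y hy O b)
          rw [← hw, mk_mem_maximalIdeal_iff hF0 hloc] at hθb
          have hw2 : w ∈ Ideal.span (Set.range fun i => pderiv k i (iota y f)) := by
            have h1 : w ∈ Ideal.span (Set.range (X : Fin N → MvPowerSeries (Fin N) k)) :=
              (mem_span_X_iff w).mpr hθb
            refine (Ideal.span_le.mpr ?_) h1
            rintro _ ⟨l, rfl⟩
            exact hX l
          obtain ⟨c, hc⟩ := Ideal.mem_span_range_iff_exists_fun.mp hw2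
          have hsum : algebraMap O (AdicCompletion (maximalIdeal O) O) b =
              ∑ j, e.symm (Ideal.Quotient.mk (Ideal.span {iota y f}) (c j)) *
                algebraMap O (AdicCompletion (maximalIdeal O) O)
                  (algebraMap _ O (Ideal.Quotient.mk (Ideal.span {f})
                    (MvPolynomial.pderiv j f))) := by
            apply e.injective
            rw [he, map_sum, ← hw, ← hc, map_sum]
            refine Finset.sum_congr rfl fun j _ => ?_
            rw [map_mul, map_mul, AlgEquiv.apply_symm_apply, he, theta_pderiv f P y hy hP O]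
          rw [hsum]
          exact Ideal.sum_mem _ fun j _ => Ideal.mul_mem_left _ _ (hgen j)
        rw [pow_two] at hmem
        rw [smul_eq_mul]
        exact hmem

end geo

/-- the statement for the localisation -/
theorem main (k : Type u) [Field k] [IsAlgClosed k] (m : ℕ) (f : MvPolynomial (Fin (m + 1)) k)
    (P : Ideal (MvPolynomial (Fin (m + 1)) k ⧸ Ideal.span {f})) [P.IsMaximal]
    (hP : ∀ j : Fin (m + 1), Ideal.Quotient.mk (Ideal.span {f}) (MvPolynomial.pderiv j f) ∈ P) :
    Ideal.map (algebraMap (MvPolynomial (Fin (m + 1)) k ⧸ Ideal.span {f}) (Localization.AtPrime P))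
        (Ideal.span (Set.range fun j : Fin (m + 1) =>
          Ideal.Quotient.mk (Ideal.span {f}) (MvPolynomial.pderiv j f))) =
      IsLocalRing.maximalIdeal (Localization.AtPrime P) ↔
    VanCyc.IsNondegQuadSing k (Localization.AtPrime P) m := by
  classical
  haveI hmax : (P.comap (Ideal.Quotient.mk (Ideal.span {f}))).IsMaximal :=
    Ideal.comap_isMaximal_of_surjective _ Ideal.Quotient.mk_surjective
  obtain ⟨y, hy'⟩ := MvPolynomial.isMaximal_iff_eq_vanishingIdeal_singleton.mp hmax
  have hy : ∀ p : MvPolynomial (Fin (m + 1)) k,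
      Ideal.Quotient.mk (Ideal.span {f}) p ∈ P ↔ MvPolynomial.eval y p = 0 := by
    intro p
    rw [← Ideal.mem_comap, hy', MvPolynomial.mem_vanishingIdeal_singleton_iff,
      MvPolynomial.aeval_eq_eval]
  have hF0 := constantCoeff_iota_f f P y hy
  have hF1 := coeff_single_iota_f f P y hy hP
  rw [span_pderiv_iff f P y hy hP (Localization.AtPrime P)]
  constructor
  · intro hnd
    obtain ⟨e, he⟩ := exists_iso f P y hy (Localization.AtPrime P)
    exact ⟨iota y f, ⟨⟨hF0, hF1⟩, hnd⟩, ⟨e⟩⟩
  · rintro ⟨g, ⟨⟨hg0, hg1⟩, hgnd⟩, ⟨e'⟩⟩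
    obtain ⟨e, he⟩ := exists_iso f P y hy (Localization.AtPrime P)
    rw [nondeg_iff (iota y f) hF1]
    exact inv_step (iota y f) g hF0 hF1 (e'.symm.trans e) ((nondeg_iff g hg1).mp hgnd)

end Groth.Agent.Lib.Helper21.RKh
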