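import Mathlib
import Groth.Agent.Lib.Helper14.FormalMorse
import Groth.Agent.Lib.Helper7.PowSerCRing
import Groth.Agent.Lib.Helper21.RIa
import Groth.Agent.Lib.Helper21.RKf

/-!
# Power series over complete local rings (helper21)

For a local ring `A` that is separated and complete for its maximal ideal (not necessarily
Noetherian):

* `isAdicComplete_mvPowerSeries`: `A[[x₁..xₙ]]` is complete for its maximal ideal;
* `exists_transl`: translation automorphisms `x ↦ x + c` (`c` in the maximal ideal);
* `chain_rule_local`, `transl_pderiv`: chain rule for local endomorphisms;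
* `exists_crit`: a critical point of a series whose gradient has invertible Jacobian.
-/

set_option autoImplicit false
set_option linter.style.haveILetI false
set_option linter.unusedSectionVars false
set_option linter.unusedVariables false
set_option linter.unusedSimpArgs false

namespace Groth.Agent.Lib.Helper21.RKi

open MvPowerSeries IsLocalRing Finsupp Groth.Agent.Lib.Helper14.FormalIFT
  Groth.Agent.Lib.Helper14.FormalMorse Groth.Agent.Lib.Helper7.PowSerCRing

section complete

variable {σ : Type*} [Fintype σ] {R : Type*} [CommRing R] [IsLocalRing R]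

theorem isHausdorff_mvPowerSeries [IsHausdorff (maximalIdeal R) R] :
    IsHausdorff (maximalIdeal (MvPowerSeries σ R)) (MvPowerSeries σ R) := by
  refine ⟨fun f hf => ?_⟩
  ext e
  rw [map_zero]
  apply IsHausdorff.haus (inferInstance : IsHausdorff (maximalIdeal R) R)
  intro n
  rw [SModEq.zero, Ideal.smul_eq_mul, Ideal.mul_top]
  have h1 := hf (n + Finsupp.degree e)
  rw [SModEq.zero, Ideal.smul_eq_mul, Ideal.mul_top] at h1
  have h2 := (mem_W _).mp (maximalIdeal_pow_le_W _ h1) e
  rwa [Nat.add_sub_cancel] at h2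

/-- `R[[X₁..Xₙ]]` is complete for its maximal ideal, without Noetherian hypotheses -/
theorem isAdicComplete_mvPowerSeries [IsAdicComplete (maximalIdeal R) R] :
    IsAdicComplete (maximalIdeal (MvPowerSeries σ R)) (MvPowerSeries σ R) := by
  haveI : IsHausdorff (maximalIdeal (MvPowerSeries σ R)) (MvPowerSeries σ R) :=
    isHausdorff_mvPowerSeries
  refine { toIsHausdorff := inferInstance, toIsPrecomplete := ⟨?_⟩ }
  intro f hf
  have hcoef : ∀ (e : σ →₀ ℕ) {a b : ℕ}, a ≤ b →
      coeff e (f a) - coeff e (f b) ∈ maximalIdeal R ^ (a - Finsupp.degree e) := by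
    intro e a b hab
    have h1 : f a - f b ∈ maximalIdeal (MvPowerSeries σ R) ^ a := by
      have := hf hab
      rw [SModEq.sub_mem, Ideal.smul_eq_mul, Ideal.mul_top] at this
      exact this
    have h2 := (mem_W _).mp (maximalIdeal_pow_le_W a h1) e
    rwa [map_sub] at h2
  have hL : ∀ e : σ →₀ ℕ, ∃ L : R, ∀ m,
      coeff e (f (m + Finsupp.degree e)) - L ∈ maximalIdeal R ^ m := by
    intro e
    obtain ⟨L, hL⟩ := IsPrecomplete.prec
      (inferInstance : IsPrecomplete (maximalIdeal R) R)
      (f := fun m => coeff e (f (m + Finsupp.degree e))) (by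
        intro m n hmn
        rw [SModEq.sub_mem, Ideal.smul_eq_mul, Ideal.mul_top]
        have := hcoef e (Nat.add_le_add_right hmn (Finsupp.degree e))
        rwa [Nat.add_sub_cancel] at this)
    refine ⟨L, fun m => ?_⟩
    have := hL m
    rwa [SModEq.sub_mem, Ideal.smul_eq_mul, Ideal.mul_top] at this
  choose L hL using hL
  obtain ⟨g, hg⟩ : ∃ g : MvPowerSeries σ R, ∀ e, coeff e g = L e := ⟨fun e => L e, fun e => rfl⟩
  refine ⟨g, fun n => ?_⟩
  rw [SModEq.sub_mem, Ideal.smul_eq_mul, Ideal.mul_top]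
  apply W_le_maximalIdeal_pow n
  rw [mem_W]
  intro e
  rw [map_sub, hg]
  by_cases hle : Finsupp.degree e ≤ n
  · have := hL e (n - Finsupp.degree e)
    rw [Nat.sub_add_cancel hle] at this
    exact this
  · have : n - Finsupp.degree e = 0 := by omega
    rw [this, pow_zero, Ideal.one_eq_top]; trivial

end complete

section transl

variable {n : ℕ} {A : Type*} [CommRing A] [IsLocalRing A]

theorem C_eq_algebraMap' (r : A) :
    (C r : MvPowerSeries (Fin n) A) = algebraMap A (MvPowerSeries (Fin n) A) r := by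
  rw [MvPowerSeries.algebraMap_apply]; rfl

theorem algHom_C (T : MvPowerSeries (Fin n) A →ₐ[A] MvPowerSeries (Fin n) A) (r : A) :
    T (C r) = C r := by
  rw [C_eq_algebraMap']
  exact T.commutes r

/-- an algebra endomorphism moving the variables inside the maximal ideal maps the maximal ideal
into itself -/
theorem le_comap_maximalIdeal (T : MvPowerSeries (Fin n) A →ₐ[A] MvPowerSeries (Fin n) A)
    (hX : ∀ j, T (X j) ∈ maximalIdeal (MvPowerSeries (Fin n) A)) :
    maximalIdeal (MvPowerSeries (Fin n) A) ≤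
      Ideal.comap T (maximalIdeal (MvPowerSeries (Fin n) A)) := by
  conv_lhs => rw [maximalIdeal_eq_sup]
  refine sup_le ?_ ?_
  · rw [Ideal.map_le_iff_le_comap]
    intro r hr
    rw [Ideal.mem_comap, Ideal.mem_comap, algHom_C]
    exact map_C_le (Ideal.mem_map_of_mem _ hr)
  · rw [Ideal.span_le]
    rintro _ ⟨j, rfl⟩
    exact hX j

theorem map_mem_pow (T : MvPowerSeries (Fin n) A →ₐ[A] MvPowerSeries (Fin n) A)
    (hX : ∀ j, T (X j) ∈ maximalIdeal (MvPowerSeries (Fin n) A))
    {k : ℕ} {g : MvPowerSeries (Fin n) A} (hg : Fil k g) :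
    T g ∈ maximalIdeal (MvPowerSeries (Fin n) A) ^ k := by
  have h1 : g ∈ maximalIdeal (MvPowerSeries (Fin n) A) ^ k := by
    apply W_le_maximalIdeal_pow k
    rw [mem_W]
    intro e
    by_cases he : Finsupp.degree e < k
    · rw [hg e he]; exact Ideal.zero_mem _
    · have : k - Finsupp.degree e = 0 := by omega
      rw [this, pow_zero, Ideal.one_eq_top]; trivial
  have h2 := (Ideal.pow_right_mono (le_comap_maximalIdeal T hX) k).trans (Ideal.le_comap_pow T k)
  exact h2 h1

theorem pderiv_mem_pow (i : Fin n) {k : ℕ} {f : MvPowerSeries (Fin n) A}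
    (hf : f ∈ maximalIdeal (MvPowerSeries (Fin n) A) ^ (k + 1)) :
    pderiv A i f ∈ maximalIdeal (MvPowerSeries (Fin n) A) ^ k := by
  apply W_le_maximalIdeal_pow k
  rw [mem_W]
  intro e
  have h1 := (mem_W _).mp (maximalIdeal_pow_le_W (k + 1) hf) (e + Finsupp.single i 1)
  rw [map_add, Finsupp.degree_single] at h1
  rw [coeff_pderiv]
  have h2 : k + 1 - (Finsupp.degree e + 1) = k - Finsupp.degree e := by omega
  rw [h2] at h1
  exact Ideal.mul_mem_right _ _ h1

/-- the chain rule for algebra endomorphisms of power series rings over a separated local ring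
which move the variables inside the maximal ideal -/
theorem chain_rule_local [IsHausdorff (maximalIdeal A) A]
    (T : MvPowerSeries (Fin n) A →ₐ[A] MvPowerSeries (Fin n) A)
    (hX : ∀ j, T (X j) ∈ maximalIdeal (MvPowerSeries (Fin n) A)) (i : Fin n)
    (G : MvPowerSeries (Fin n) A) :
    pderiv A i (T G) = ∑ j, T (pderiv A j G) * pderiv A i (T (X j)) := by
  haveI : IsHausdorff (maximalIdeal (MvPowerSeries (Fin n) A)) (MvPowerSeries (Fin n) A) :=
    isHausdorff_mvPowerSeries
  have key : Groth.Agent.Lib.Helper21.RKf.chainErr T i G = 0 := by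
    apply Groth.Agent.Lib.Helper21.RIa.eq_of_forall_sub_mem_pow
    intro k
    rw [sub_zero]
    have e : Groth.Agent.Lib.Helper21.RKf.chainErr T i G =
        Groth.Agent.Lib.Helper21.RKf.chainErr T i
          (G - ((truncTotal (k + 1) G : MvPolynomial (Fin n) A) : MvPowerSeries (Fin n) A)) := by
      have h2 := Groth.Agent.Lib.Helper21.RKf.chainErr_add T i
        ((truncTotal (k + 1) G : MvPolynomial (Fin n) A) : MvPowerSeries (Fin n) A)
        (G - ((truncTotal (k + 1) G : MvPolynomial (Fin n) A) : MvPowerSeries (Fin n) A))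
      rw [add_sub_cancel, Groth.Agent.Lib.Helper21.RKf.chainErr_coe, zero_add] at h2
      exact h2
    rw [e]
    have hr := fil_sub_truncTotal (k + 1) G
    rw [Groth.Agent.Lib.Helper21.RKf.chainErr]
    apply Ideal.sub_mem
    · apply pderiv_mem_pow
      exact map_mem_pow T hX hr
    · apply Ideal.sum_mem
      intro j _
      apply Ideal.mul_mem_right
      exact map_mem_pow T hX (Groth.Agent.Lib.Helper21.RKf.fil_pderiv hr j)
  rw [Groth.Agent.Lib.Helper21.RKf.chainErr, sub_eq_zero] at key
  exact key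

theorem transl_pderiv [IsHausdorff (maximalIdeal A) A]
    (T : MvPowerSeries (Fin n) A →ₐ[A] MvPowerSeries (Fin n) A) (c : Fin n → A)
    (hc : ∀ i, c i ∈ maximalIdeal A) (hT : ∀ i, T (X i) = X i + C (c i)) (i : Fin n)
    (G : MvPowerSeries (Fin n) A) : pderiv A i (T G) = T (pderiv A i G) := by
  have hX : ∀ j, T (X j) ∈ maximalIdeal (MvPowerSeries (Fin n) A) := by
    intro j
    rw [hT, mem_maximalIdeal_iff, map_add, constantCoeff_X, constantCoeff_C, zero_add]
    exact hc j
  rw [chain_rule_local T hX i G]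
  have h1 : ∀ j, pderiv A i (T (X j)) = if j = i then 1 else 0 := by
    intro j
    rw [hT j, map_add, pderiv_C, add_zero]
    by_cases hji : j = i
    · rw [if_pos hji, hji, pderiv_X_self]
    · rw [if_neg hji, pderiv_X_of_ne hji]
  simp only [h1, mul_ite, mul_one, mul_zero, Finset.sum_ite_eq', Finset.mem_univ, if_true]

theorem exists_transl_hom [IsAdicComplete (maximalIdeal A) A] (c : Fin n → A)
    (hc : ∀ i, c i ∈ maximalIdeal A) :
    ∃ T : MvPowerSeries (Fin n) A →ₐ[A] MvPowerSeries (Fin n) A,
      ∀ i, T (X i) = X i + C (c i) := by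
  haveI : IsAdicComplete (maximalIdeal (MvPowerSeries (Fin n) A)) (MvPowerSeries (Fin n) A) :=
    isAdicComplete_mvPowerSeries
  obtain ⟨ψ, hψC, hψX⟩ := Groth.Agent.Lib.Helper21.RIa.exists_powerSeries_hom
    (C : A →+* MvPowerSeries (Fin n) A) (fun i => X i + C (c i)) (by
      intro i
      show (X i + C (c i) : MvPowerSeries (Fin n) A) ∈ maximalIdeal (MvPowerSeries (Fin n) A)
      rw [mem_maximalIdeal_iff, map_add, constantCoeff_X, constantCoeff_C, zero_add]
      exact hc i)
  have hcomm : ∀ r : A, ψ (algebraMap A (MvPowerSeries (Fin n) A) r) =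
      algebraMap A (MvPowerSeries (Fin n) A) r := by
    intro r
    rw [← C_eq_algebraMap']
    exact hψC r
  exact ⟨({ toRingHom := ψ, commutes' := hcomm } :
    MvPowerSeries (Fin n) A →ₐ[A] MvPowerSeries (Fin n) A), fun i => hψX i⟩

theorem transl_comp_eq_id [IsHausdorff (maximalIdeal A) A]
    (T₁ T₂ : MvPowerSeries (Fin n) A →ₐ[A] MvPowerSeries (Fin n) A) (c d : Fin n → A)
    (hcd : ∀ i, c i + d i = 0)
    (h₁ : ∀ i, T₁ (X i) = X i + C (c i)) (h₂ : ∀ i, T₂ (X i) = X i + C (d i)) :
    T₂.comp T₁ = AlgHom.id A (MvPowerSeries (Fin n) A) := by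
  haveI : IsHausdorff (maximalIdeal (MvPowerSeries (Fin n) A)) (MvPowerSeries (Fin n) A) :=
    isHausdorff_mvPowerSeries
  have hX : ∀ i, T₂ (T₁ (X i)) = X i := by
    intro i
    rw [h₁, map_add, h₂, algHom_C, add_assoc, ← map_add, add_comm (d i), hcd, map_zero, add_zero]
  have hring := Groth.Agent.Lib.Helper21.RKf.ringHom_ext_of_hausdorff
    ((T₂.comp T₁ : MvPowerSeries (Fin n) A →ₐ[A] MvPowerSeries (Fin n) A) :
      MvPowerSeries (Fin n) A →+* MvPowerSeries (Fin n) A)
    (RingHom.id (MvPowerSeries (Fin n) A))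
    (fun r => by
      change T₂ (T₁ (C r)) = C r
      rw [algHom_C, algHom_C])
    (fun i => by
      change T₂ (T₁ (X i)) = X i
      exact hX i)
    (fun i => by
      change T₂ (T₁ (X i)) ∈ _
      rw [hX]
      exact X_mem i)
  apply AlgHom.ext
  intro f
  exact RingHom.congr_fun hring f

/-- translation automorphisms of `A[[x]]` for a complete local ring `A` -/
theorem exists_transl [IsAdicComplete (maximalIdeal A) A] (c : Fin n → A)
    (hc : ∀ i, c i ∈ maximalIdeal A) :
    ∃ T : MvPowerSeries (Fin n) A ≃ₐ[A] MvPowerSeries (Fin n) A,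
      ∀ i, T (X i) = X i + C (c i) := by
  obtain ⟨T₁, h₁⟩ := exists_transl_hom c hc
  obtain ⟨T₂, h₂⟩ := exists_transl_hom (fun i => - c i) (fun i => neg_mem (hc i))
  have e21 := transl_comp_eq_id T₁ T₂ c (fun i => - c i) (fun i => add_neg_cancel (c i)) h₁ h₂
  have e12 := transl_comp_eq_id T₂ T₁ (fun i => - c i) c (fun i => neg_add_cancel (c i)) h₂ h₁
  exact ⟨AlgEquiv.ofAlgHom T₁ T₂ e12 e21, fun i => h₁ i⟩

theorem ev_mem (ev : MvPowerSeries (Fin n) A →+* A) (hC : ∀ r, ev (C r) = r)
    (hX : ∀ i, ev (X i) ∈ maximalIdeal A) (f : MvPowerSeries (Fin n) A)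
    (hf : constantCoeff f ∈ maximalIdeal A) : ev f ∈ maximalIdeal A := by
  have h1 : f - C (constantCoeff f) ∈
      Ideal.span (Set.range (X : Fin n → MvPowerSeries (Fin n) A)) := by
    rw [mem_span_X_iff, map_sub, constantCoeff_C, sub_self]
  have hle : Ideal.span (Set.range (X : Fin n → MvPowerSeries (Fin n) A)) ≤
      Ideal.comap ev (maximalIdeal A) := by
    rw [Ideal.span_le]
    rintro _ ⟨i, rfl⟩
    exact hX i
  have h2 : ev (f - C (constantCoeff f)) ∈ maximalIdeal A := hle h1
  rw [map_sub, hC] at h2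
  have := Ideal.add_mem _ h2 hf
  rwa [sub_add_cancel] at this

/-- a critical point: if the gradient of `F` has constant terms in the maximal ideal and an
invertible Jacobian matrix, there is an evaluation of `A[[x]]` at a point of the maximal ideal
killing all partial derivatives of `F` -/
theorem exists_crit [IsAdicComplete (maximalIdeal A) A] (F : MvPowerSeries (Fin n) A)
    (hℓ : ∀ i, constantCoeff (pderiv A i F) ∈ maximalIdeal A)
    (hdet : IsUnit
      (Matrix.of fun i j : Fin n => coeff (Finsupp.single j 1) (pderiv A i F)).det) :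
    ∃ ev : MvPowerSeries (Fin n) A →+* A, (∀ r, ev (C r) = r) ∧
      (∀ i, ev (X i) ∈ maximalIdeal A) ∧ ∀ i, ev (pderiv A i F) = 0 := by
  obtain ⟨y, hy⟩ : ∃ y : Fin n → MvPowerSeries (Fin n) A,
      y = fun i => pderiv A i F - C (constantCoeff (pderiv A i F)) := ⟨_, rfl⟩
  have hyi : ∀ i, y i = pderiv A i F - C (constantCoeff (pderiv A i F)) := fun i => by rw [hy]
  have hy0 : ∀ i, constantCoeff (y i) = 0 := by
    intro i
    rw [hyi, map_sub, constantCoeff_C, sub_self]
  have hJ : (Matrix.of fun i j : Fin n => coeff (Finsupp.single j 1) (y i)) =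
      Matrix.of fun i j : Fin n => coeff (Finsupp.single j 1) (pderiv A i F) := by
    classical
    ext i j
    rw [Matrix.of_apply, Matrix.of_apply, hyi, map_sub, coeff_C, if_neg, sub_zero]
    intro h
    have := congrArg Finsupp.degree h
    rw [Finsupp.degree_single, map_zero] at this
    exact one_ne_zero this
  obtain ⟨χ, hχ⟩ := exists_algEquiv_of_isLinPart y hy0
    (Matrix.of fun i j : Fin n => coeff (Finsupp.single j 1) (y i))
    (fun i => fil_two_sub_linForm y hy0 i) (by rw [hJ]; exact hdet)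
  have h0' : ∀ i, constantCoeff
      ((χ : MvPowerSeries (Fin n) A →ₐ[A] MvPowerSeries (Fin n) A) (X i)) = 0 := by
    intro i
    change constantCoeff (χ (X i)) = 0
    rw [hχ]; exact hy0 i
  have h0χ : ∀ i, constantCoeff (χ.symm (X i)) = 0 := by
    intro i
    rw [← constantCoeff_map (χ : MvPowerSeries (Fin n) A →ₐ[A] MvPowerSeries (Fin n) A) h0'
      (χ.symm (X i))]
    change constantCoeff (χ (χ.symm (X i))) = 0
    rw [AlgEquiv.apply_symm_apply, constantCoeff_X]
  obtain ⟨ev0, hev0C, hev0X⟩ := Groth.Agent.Lib.Helper21.RIa.exists_powerSeries_hom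
    (RingHom.id A) (fun i : Fin n => - constantCoeff (pderiv A i F)) (fun i => neg_mem (hℓ i))
  have hχC : ∀ r : A, χ.symm (C r) = C r := by
    intro r
    rw [C_eq_algebraMap']
    exact χ.symm.commutes r
  refine ⟨ev0.comp (χ.symm : MvPowerSeries (Fin n) A →+* MvPowerSeries (Fin n) A), ?_, ?_, ?_⟩
  · intro r
    change ev0 (χ.symm (C r)) = r
    rw [hχC, hev0C]
    exact RingHom.id_apply r
  · intro i
    change ev0 (χ.symm (X i)) ∈ _
    apply ev_mem ev0 (fun r => (hev0C r).trans (RingHom.id_apply r))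
      (fun j => by rw [hev0X]; exact neg_mem (hℓ j))
    rw [h0χ]; exact Ideal.zero_mem _
  · intro i
    change ev0 (χ.symm (pderiv A i F)) = 0
    have h1 : pderiv A i F = χ (X i) + C (constantCoeff (pderiv A i F)) := by
      rw [hχ, hyi]; ring
    rw [h1, map_add, AlgEquiv.symm_apply_apply, map_add, hχC, hev0X, hev0C]
    simp

end transl

end Groth.Agent.Lib.Helper21.RKi
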