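import Mathlib
import Groth.Prelude.Def_QuadSing
import Groth.Agent.Lib.Helper21.RKi
import Groth.Agent.S16230

/-!
# Formal Morse lemma with linear terms over a complete local ring (helper21)

`main`: for a complete separated local ring `A` (not necessarily Noetherian) and a series
`F = a + Σ ℓᵢ xᵢ + Q(x) + (order ≥ 3)` with `a, ℓᵢ` in the maximal ideal and `Q` non-degenerate,
`A[[x]]/(F) ≃ A[[x]]/(Q' + a')`.  The translation `x ↦ x + c` to a critical point `c` of `F`
(found by the formal inverse function theorem applied to the gradient) kills the linear terms;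
then the Morse lemma without linear terms (S16230) applies.
-/

set_option autoImplicit false
set_option linter.style.haveILetI false
set_option linter.unusedSectionVars false
set_option linter.unusedVariables false
set_option linter.unusedSimpArgs false

namespace Groth.Agent.Lib.Helper21.RKj

open MvPowerSeries IsLocalRing Finsupp Groth.Agent.Lib.Helper14.FormalIFT
  Groth.Agent.Lib.Helper14.FormalMorse Groth.Agent.Lib.Helper21.RKi

universe u

section quad

variable {n : ℕ} {A : Type*} [CommRing A]

theorem quadPoly_coe (q : Fin n → Fin n → A) :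
    ((VanCyc.quadPoly q : MvPolynomial (Fin n) A) : MvPowerSeries (Fin n) A) =
      qf (Matrix.of fun i j => if i ≤ j then q i j else 0) Xv := by
  rw [VanCyc.quadPoly, qf, ← coeA_apply, map_sum]
  apply Finset.sum_congr rfl
  intro i _
  rw [map_sum]
  apply Finset.sum_congr rfl
  intro j _
  rw [Matrix.of_apply]
  split_ifs with hij
  · rw [map_mul, map_mul, coeA_apply, coeA_apply, coeA_apply,
      MvPolynomial.coe_C, MvPolynomial.coe_X, MvPolynomial.coe_X]
    rfl
  · rw [map_zero, map_zero, zero_mul, zero_mul]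

theorem polarMatrix_congr (a b : Fin n → Fin n → A) (h : ∀ i j, i ≤ j → a i j = b i j) :
    VanCyc.polarMatrix a = VanCyc.polarMatrix b := by
  ext i j
  simp only [VanCyc.polarMatrix]
  by_cases hij : i = j
  · rw [if_pos hij, if_pos hij, h i i le_rfl]
  · rw [if_neg hij, if_neg hij]
    rcases lt_or_gt_of_ne hij with h1 | h1
    · rw [if_pos h1, if_pos h1, h i j h1.le]
    · rw [if_neg (not_lt.mpr h1.le), if_neg (not_lt.mpr h1.le), h j i h1.le]

theorem coeff_lin_mem [IsLocalRing A] (ℓ : Fin n → A) (hℓ : ∀ i, ℓ i ∈ maximalIdeal A) (a : A)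
    (ha : a ∈ maximalIdeal A) (e : Fin n →₀ ℕ) :
    coeff e ((∑ i, C (ℓ i) * X i) + C a : MvPowerSeries (Fin n) A) ∈ maximalIdeal A := by
  classical
  rw [map_add, map_sum]
  refine Ideal.add_mem _ (Ideal.sum_mem _ fun i _ => ?_) ?_
  · rw [coeff_C_mul]
    exact Ideal.mul_mem_right _ _ (hℓ i)
  · rw [coeff_C]
    split_ifs
    · exact ha
    · exact Ideal.zero_mem _

theorem coeff_lin_eq_zero (ℓ : Fin n → A) (a : A) (e : Fin n →₀ ℕ)
    (he : 2 ≤ Finsupp.degree e) :
    coeff e ((∑ i, C (ℓ i) * X i) + C a : MvPowerSeries (Fin n) A) = 0 := by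
  classical
  have he0 : e ≠ 0 := by
    rintro rfl
    rw [map_zero] at he
    omega
  rw [map_add, map_sum, coeff_C, if_neg he0, add_zero]
  apply Finset.sum_eq_zero
  intro i _
  rw [coeff_C_mul, coeff_X, if_neg, mul_zero]
  rintro rfl
  rw [Finsupp.degree_single] at he
  omega

theorem facts [IsLocalRing A] (q : Fin n → Fin n → A) (a : A) (ha : a ∈ maximalIdeal A)
    (ℓ : Fin n → A) (hℓ : ∀ i, ℓ i ∈ maximalIdeal A) (F : MvPowerSeries (Fin n) A)
    (hF : ∀ e : Fin n →₀ ℕ, e.degree ≤ 2 →
      coeff e F = coeff e ((VanCyc.quadPoly q + ∑ i, MvPolynomial.C (ℓ i) * MvPolynomial.X i +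
        MvPolynomial.C a : MvPolynomial (Fin n) A) : MvPowerSeries (Fin n) A)) :
    constantCoeff F ∈ maximalIdeal A ∧
      (∀ i, coeff (Finsupp.single i 1) F ∈ maximalIdeal A) ∧
      VanCyc.polarMatrix (VanCyc.quadPart F) = VanCyc.polarMatrix q := by
  classical
  have hL : ((∑ i, MvPolynomial.C (ℓ i) * MvPolynomial.X i : MvPolynomial (Fin n) A) :
      MvPowerSeries (Fin n) A) = ∑ i, C (ℓ i) * X i := by
    rw [← coeA_apply, map_sum]
    apply Finset.sum_congr rfl
    intro i _
    rw [map_mul, coeA_apply, coeA_apply, MvPolynomial.coe_C, MvPolynomial.coe_X]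
  have hP : ((VanCyc.quadPoly q + ∑ i, MvPolynomial.C (ℓ i) * MvPolynomial.X i +
      MvPolynomial.C a : MvPolynomial (Fin n) A) : MvPowerSeries (Fin n) A) =
      qf (Matrix.of fun i j => if i ≤ j then q i j else 0) Xv +
        ((∑ i, C (ℓ i) * X i) + C a) := by
    rw [MvPolynomial.coe_add, MvPolynomial.coe_add, quadPoly_coe, hL, MvPolynomial.coe_C,
      add_assoc]
  rw [hP] at hF
  obtain ⟨Qm, hQm⟩ : ∃ Qm : Matrix (Fin n) (Fin n) A,
      Qm = Matrix.of fun i j => if i ≤ j then q i j else 0 := ⟨_, rfl⟩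
  rw [← hQm] at hF
  have hlow : ∀ e : Fin n →₀ ℕ, Finsupp.degree e < 2 → coeff e F ∈ maximalIdeal A := by
    intro e he
    rw [hF e (by omega), map_add, fil_two_qf_Xv Qm e he, zero_add]
    exact coeff_lin_mem ℓ hℓ a ha e
  have hquad : ∀ i j : Fin n, coeff (Finsupp.single i 1 + Finsupp.single j 1) F =
      if i = j then Qm i i else Qm i j + Qm j i := by
    intro i j
    have hd : Finsupp.degree (Finsupp.single i 1 + Finsupp.single j 1 : Fin n →₀ ℕ) = 2 := by
      rw [map_add, Finsupp.degree_single, Finsupp.degree_single]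
    rw [hF _ (le_of_eq hd), map_add, coeff_lin_eq_zero ℓ a _ (le_of_eq hd.symm), add_zero,
      coeff_qf_Xv]
  refine ⟨?_, ?_, ?_⟩
  · rw [← coeff_zero_eq_constantCoeff_apply]
    exact hlow 0 (by rw [map_zero]; norm_num)
  · intro i
    exact hlow _ (by rw [Finsupp.degree_single]; norm_num)
  · apply polarMatrix_congr
    intro i j hij
    simp only [VanCyc.quadPart]
    by_cases h : i = j
    · have h2 : (Finsupp.single i 2 : Fin n →₀ ℕ) =
          Finsupp.single i 1 + Finsupp.single i 1 := by
        rw [← Finsupp.single_add]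
      rw [if_pos h, ← h, h2, hquad i i, if_pos rfl, hQm, Matrix.of_apply, if_pos le_rfl]
    · have hlt : i < j := lt_of_le_of_ne hij h
      rw [if_neg h, if_pos hlt, hquad i j, if_neg h, hQm, Matrix.of_apply, Matrix.of_apply,
        if_pos hij, if_neg (not_le.mpr hlt), add_zero]

theorem deg_two_form (G : MvPowerSeries (Fin n) A)
    (hG1 : ∀ i, coeff (Finsupp.single i 1) G = 0) :
    ∀ e : Fin n →₀ ℕ, e.degree ≤ 2 → coeff e G =
      coeff e ((VanCyc.quadPoly (VanCyc.quadPart G) + MvPolynomial.C (constantCoeff G) :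
        MvPolynomial (Fin n) A) : MvPowerSeries (Fin n) A) := by
  classical
  intro e he
  have hQ : (Matrix.of fun i j => if i ≤ j then VanCyc.quadPart G i j else 0 :
      Matrix (Fin n) (Fin n) A) = quadTable G := by
    ext i j
    rw [Matrix.of_apply]
    by_cases hij : i ≤ j
    · rw [if_pos hij]; rfl
    · rw [if_neg hij, quadTable, if_neg (fun h => hij (le_of_eq h)), if_neg (fun h => hij h.le)]
  rw [MvPolynomial.coe_add, quadPoly_coe, hQ, MvPolynomial.coe_C, map_add]
  rcases Nat.lt_or_ge (Finsupp.degree e) 2 with h2 | h2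
  · rw [fil_two_qf_Xv (quadTable G) e h2, zero_add]
    by_cases h1 : Finsupp.degree e = 1
    · obtain ⟨b, rfl⟩ := exists_single_of_degree_eq_one e h1
      rw [hG1 b, coeff_C, if_neg]
      intro h
      have := congrArg Finsupp.degree h
      rw [Finsupp.degree_single, map_zero] at this
      exact one_ne_zero this
    · have h0 : Finsupp.degree e = 0 := by omega
      rw [(Finsupp.degree_eq_zero_iff e).mp h0, coeff_zero_eq_constantCoeff_apply,
        coeff_zero_eq_constantCoeff_apply, constantCoeff_C]
  · have h2' : Finsupp.degree e = 2 := le_antisymm he h2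
    obtain ⟨b, d, rfl⟩ := exists_single_add_single_of_degree_eq_two e h2'
    rw [coeff_qf_quadTable, coeff_C, if_neg, add_zero]
    intro h
    have := congrArg Finsupp.degree h
    rw [h2', map_zero] at this
    exact two_ne_zero this

end quad

section residue

variable {n : ℕ} {A : Type*} [CommRing A] [IsLocalRing A]

theorem residue_coeff_transl
    (T : MvPowerSeries (Fin n) A →ₐ[A] MvPowerSeries (Fin n) A) (c : Fin n → A)
    (hc : ∀ i, c i ∈ maximalIdeal A) (hT : ∀ i, T (X i) = X i + C (c i))
    (f : MvPowerSeries (Fin n) A) (e : Fin n →₀ ℕ) :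
    residue A (coeff e (T f)) = residue A (coeff e f) := by
  haveI : IsHausdorff (maximalIdeal (MvPowerSeries (Fin n) (ResidueField A)))
      (MvPowerSeries (Fin n) (ResidueField A)) := inferInstance
  have hring := Groth.Agent.Lib.Helper21.RKf.ringHom_ext_of_hausdorff
    ((MvPowerSeries.map (σ := Fin n) (residue A)).comp
      (T : MvPowerSeries (Fin n) A →+* MvPowerSeries (Fin n) A))
    (MvPowerSeries.map (σ := Fin n) (residue A))
    (fun r => by
      change MvPowerSeries.map (residue A) (T (C r)) = MvPowerSeries.map (residue A) (C r)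
      rw [algHom_C])
    (fun i => by
      change MvPowerSeries.map (residue A) (T (X i)) = MvPowerSeries.map (residue A) (X i)
      rw [hT, map_add, MvPowerSeries.map_C, (residue_eq_zero_iff _).mpr (hc i), map_zero,
        add_zero])
    (fun i => by
      change MvPowerSeries.map (residue A) (T (X i)) ∈ _
      rw [hT, map_add, MvPowerSeries.map_C, MvPowerSeries.map_X,
        (residue_eq_zero_iff _).mpr (hc i), map_zero, add_zero]
      exact Groth.Agent.Lib.Helper7.PowSerCRing.X_mem i)
  have h1 := RingHom.congr_fun hring f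
  change MvPowerSeries.map (residue A) (T f) = MvPowerSeries.map (residue A) f at h1
  have h2 := congrArg (coeff e) h1
  rwa [coeff_map, coeff_map] at h2

theorem nondeg_of_residue_eq (G F : MvPowerSeries (Fin n) A)
    (h : ∀ e, residue A (coeff e G) = residue A (coeff e F))
    (hF : IsUnit (VanCyc.polarMatrix (VanCyc.quadPart F)).det) :
    IsUnit (VanCyc.polarMatrix (VanCyc.quadPart G)).det := by
  have hq : ∀ i j, residue A (VanCyc.quadPart G i j) = residue A (VanCyc.quadPart F i j) := by
    intro i j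
    simp only [VanCyc.quadPart]
    split_ifs
    · exact h _
    · exact h _
    · rfl
  have hent : ∀ i j, residue A (VanCyc.polarMatrix (VanCyc.quadPart G) i j) =
      residue A (VanCyc.polarMatrix (VanCyc.quadPart F) i j) := by
    intro i j
    simp only [VanCyc.polarMatrix]
    split_ifs
    · rw [map_mul, map_mul, hq]
    · exact hq i j
    · exact hq j i
  have hmap : (residue A).mapMatrix (VanCyc.polarMatrix (VanCyc.quadPart G)) =
      (residue A).mapMatrix (VanCyc.polarMatrix (VanCyc.quadPart F)) := by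
    ext i j
    rw [RingHom.mapMatrix_apply, RingHom.mapMatrix_apply, Matrix.map_apply, Matrix.map_apply]
    exact hent i j
  have hdet : residue A (VanCyc.polarMatrix (VanCyc.quadPart G)).det =
      residue A (VanCyc.polarMatrix (VanCyc.quadPart F)).det := by
    rw [RingHom.map_det, RingHom.map_det, hmap]
  have hu : IsUnit (residue A (VanCyc.polarMatrix (VanCyc.quadPart G)).det) := by
    rw [hdet]; exact hF.map (residue A)
  exact isUnit_of_map_unit (residue A) _ hu

end residue

/-- formal Morse lemma with linear terms over a complete separated local ring -/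
theorem main (A : Type u) [CommRing A] [IsLocalRing A]
    [IsAdicComplete (IsLocalRing.maximalIdeal A) A] (n : ℕ)
    (q : Fin n → Fin n → A) (hq : VanCyc.QuadNondeg q)
    (a : A) (ha : a ∈ IsLocalRing.maximalIdeal A)
    (ℓ : Fin n → A) (hℓ : ∀ i, ℓ i ∈ IsLocalRing.maximalIdeal A)
    (F : MvPowerSeries (Fin n) A)
    (hF : ∀ e : Fin n →₀ ℕ, e.degree ≤ 2 →
      MvPowerSeries.coeff e F = MvPowerSeries.coeff e ((VanCyc.quadPoly q + ∑ i, MvPolynomial.C (ℓ i) * MvPolynomial.X i + MvPolynomial.C a : MvPolynomial (Fin n) A) : MvPowerSeries (Fin n) A)) :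
    ∃ (a' : A) (q' : Fin n → Fin n → A), a' ∈ IsLocalRing.maximalIdeal A ∧ VanCyc.QuadNondeg q' ∧
      Nonempty ((MvPowerSeries (Fin n) A ⧸ Ideal.span {F}) ≃ₐ[A]
        (MvPowerSeries (Fin n) A ⧸ Ideal.span {((VanCyc.quadPoly q' + MvPolynomial.C a' : MvPolynomial (Fin n) A) : MvPowerSeries (Fin n) A)})) := by
  classical
  obtain ⟨hF0, hF1, hF2⟩ := facts q a ha ℓ hℓ F hF
  have hgrad0 : ∀ (H : MvPowerSeries (Fin n) A) (i : Fin n),
      constantCoeff (pderiv A i H) = coeff (Finsupp.single i 1) H := by
    intro H i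
    rw [← coeff_zero_eq_constantCoeff_apply, coeff_pderiv, zero_add]
    simp
  have hdet : IsUnit
      (Matrix.of fun i j : Fin n => coeff (Finsupp.single j 1) (pderiv A i F)).det := by
    rw [jacobian_gradient_eq, ← Groth.Agent.Lib.Helper21.RKf.polar_eq, hF2]
    exact hq
  obtain ⟨ev, hevC, hevX, hev⟩ := exists_crit F (fun i => by rw [hgrad0]; exact hF1 i) hdet
  obtain ⟨Te, hTe⟩ := exists_transl (fun i => ev (X i)) hevX
  obtain ⟨T, hTdef⟩ : ∃ T : MvPowerSeries (Fin n) A →ₐ[A] MvPowerSeries (Fin n) A,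
      T = (Te : MvPowerSeries (Fin n) A →ₐ[A] MvPowerSeries (Fin n) A) := ⟨_, rfl⟩
  have hT : ∀ i, T (X i) = X i + C (ev (X i)) := by
    intro i
    rw [hTdef]
    exact hTe i
  have hlink : ∀ g, constantCoeff (T g) = ev g := by
    have hring := Groth.Agent.Lib.Helper21.RKf.ringHom_ext_of_hausdorff
      ((constantCoeff (σ := Fin n) (R := A)).comp
        (T : MvPowerSeries (Fin n) A →+* MvPowerSeries (Fin n) A)) ev
      (fun r => by
        change constantCoeff (T (C r)) = ev (C r)
        rw [algHom_C, constantCoeff_C, hevC])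
      (fun i => by
        change constantCoeff (T (X i)) = ev (X i)
        rw [hT, map_add, constantCoeff_X, constantCoeff_C, zero_add])
      (fun i => by
        change constantCoeff (T (X i)) ∈ _
        rw [hT, map_add, constantCoeff_X, constantCoeff_C, zero_add]
        exact hevX i)
    intro g
    exact RingHom.congr_fun hring g
  obtain ⟨G, hG⟩ : ∃ G, G = T F := ⟨_, rfl⟩
  have hG1 : ∀ i, coeff (Finsupp.single i 1) G = 0 := by
    intro i
    rw [← hgrad0 G i, hG, transl_pderiv T _ hevX hT, hlink, hev]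
  have hG0 : constantCoeff G ∈ maximalIdeal A := by
    rw [hG, hlink]
    exact ev_mem ev hevC hevX F hF0
  have hGnd : VanCyc.QuadNondeg (VanCyc.quadPart G) := by
    apply nondeg_of_residue_eq G F
    · intro e
      rw [hG]
      exact residue_coeff_transl T _ hevX hT F e
    · rw [hF2]
      exact hq
  obtain ⟨h, -, -, -, ⟨E⟩⟩ := Groth.Agent.S16230.result A n 2 le_rfl (VanCyc.quadPart G) hGnd
    (constantCoeff G) G (deg_two_form G hG1)
  refine ⟨constantCoeff G, VanCyc.quadPart G, hG0, hGnd, ⟨?_⟩⟩
  refine AlgEquiv.trans (Ideal.quotientEquivAlg _ _ Te ?_) E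
  have hTF : ((Te : MvPowerSeries (Fin n) A ≃ₐ[A] MvPowerSeries (Fin n) A) :
      MvPowerSeries (Fin n) A →+* MvPowerSeries (Fin n) A) F = G := by
    rw [hG, hTdef]
    rfl
  rw [Ideal.map_span, Set.image_singleton, hTF]

end Groth.Agent.Lib.Helper21.RKj
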