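import Mathlib

/-!
# Arithmetic and valuation lemmas for the index of twisted diagonal hypersurfaces (helper21)

* `gcdI d N`: the gcd of the quotients `d / δ` over the divisors `δ` of `d` with `1 ≤ δ ≤ N`;
* `gcdI_dvd_of_dvd_mul`: if `d ∣ δ' * m` with `1 ≤ δ' ≤ N` then `gcdI d N ∣ m`;
* `exists_ne_valuation_eq`: in a vanishing sum with a non-zero term two distinct non-zero terms
  have the same valuation;
* `closure_eq_zmultiples_gcd`: a subgroup of `ℤ` generated by a set of multiples of `g`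
  containing integers with gcd `g` is `gℤ`.
-/

set_option autoImplicit false
set_option linter.style.haveILetI false
set_option linter.unusedSectionVars false
set_option linter.unusedVariables false
set_option linter.unusedSimpArgs false

namespace Groth.Agent.Lib.Helper21.RKk

/-- the gcd of the quotients `d / δ`, `δ ∣ d`, `1 ≤ δ ≤ N` -/
def gcdI (d N : ℕ) : ℕ := ((Finset.Icc 1 N).filter (fun δ => δ ∣ d)).gcd (fun δ => d / δ)

theorem gcdI_dvd_quot (d N δ : ℕ) (h1 : 1 ≤ δ) (hN : δ ≤ N) (hδ : δ ∣ d) : gcdI d N ∣ d / δ := by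
  apply Finset.gcd_dvd
  rw [Finset.mem_filter, Finset.mem_Icc]
  exact ⟨⟨h1, hN⟩, hδ⟩

theorem gcdI_dvd_of_dvd_mul (d N : ℕ) (hd : 1 ≤ d) (δ' m : ℕ) (h1 : 1 ≤ δ') (hN : δ' ≤ N)
    (h : d ∣ δ' * m) : gcdI d N ∣ m := by
  obtain ⟨δ, hδ⟩ : ∃ δ, δ = Nat.gcd δ' d := ⟨_, rfl⟩
  have hδpos : 0 < δ := by
    rw [hδ]
    exact Nat.gcd_pos_of_pos_left d h1
  have hδd : δ ∣ d := by
    rw [hδ]
    exact Nat.gcd_dvd_right δ' d
  have hδδ' : δ ∣ δ' := by
    rw [hδ]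
    exact Nat.gcd_dvd_left δ' d
  have hle : δ ≤ δ' := Nat.le_of_dvd h1 hδδ'
  have h2 : gcdI d N ∣ d / δ := gcdI_dvd_quot d N δ hδpos (hle.trans hN) hδd
  refine h2.trans ?_
  have hcop : Nat.Coprime (d / δ) (δ' / δ) := by
    rw [hδ]
    exact (Nat.coprime_div_gcd_div_gcd (by rw [← hδ]; exact hδpos)).symm
  apply Nat.Coprime.dvd_of_dvd_mul_left hcop
  -- d / δ ∣ m * (δ' / δ)
  apply Nat.dvd_of_mul_dvd_mul_left hδpos
  rw [Nat.mul_div_cancel' hδd]
  have e : δ * (δ' / δ * m) = δ' * m := by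
    rw [← mul_assoc, Nat.mul_div_cancel' hδδ']
  rw [e]
  exact h

theorem exists_ne_valuation_eq {F : Type*} [Field F] {Γ₀ : Type*}
    [LinearOrderedCommGroupWithZero Γ₀] (v : Valuation F Γ₀) {ι : Type*} [DecidableEq ι]
    (s : Finset ι) (a : ι → F) (hsum : ∑ i ∈ s, a i = 0) (hne : ∃ i ∈ s, a i ≠ 0) :
    ∃ i ∈ s, ∃ j ∈ s, i ≠ j ∧ a i ≠ 0 ∧ a j ≠ 0 ∧ v (a i) = v (a j) := by
  classical
  obtain ⟨i₁, hi₁s, hi₁⟩ := hne
  have hne' : (s.filter (fun i => a i ≠ 0)).Nonempty :=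
    ⟨i₁, Finset.mem_filter.mpr ⟨hi₁s, hi₁⟩⟩
  obtain ⟨i₀, hi₀, hmax⟩ := Finset.exists_max_image _ (fun i => v (a i)) hne'
  rw [Finset.mem_filter] at hi₀
  have hv0 : v (a i₀) ≠ 0 := (Valuation.ne_zero_iff v).mpr hi₀.2
  by_contra hcon
  push Not at hcon
  have hlt : ∀ j ∈ s.erase i₀, v (a j) < v (a i₀) := by
    intro j hj
    rw [Finset.mem_erase] at hj
    by_cases hj0 : a j = 0
    · rw [hj0, Valuation.map_zero]
      exact zero_lt_iff.mpr hv0
    · have hle := hmax j (Finset.mem_filter.mpr ⟨hj.2, hj0⟩)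
      refine lt_of_le_of_ne hle ?_
      intro heq
      exact hcon i₀ hi₀.1 j hj.2 (Ne.symm hj.1) hi₀.2 hj0 heq.symm
  have h1 := Valuation.map_sum_lt v hv0 hlt
  have h2 : ∑ j ∈ s.erase i₀, a j = - a i₀ := by
    have := Finset.add_sum_erase s a hi₀.1
    rw [hsum] at this
    exact eq_neg_of_add_eq_zero_right this
  rw [h2, Valuation.map_neg] at h1
  exact lt_irrefl _ h1

theorem closure_eq_zmultiples_gcd (S : Set ℤ) (t : Finset ℕ) (f : ℕ → ℕ)
    (h1 : ∀ m ∈ S, ((t.gcd f : ℕ) : ℤ) ∣ m) (h2 : ∀ δ ∈ t, ((f δ : ℕ) : ℤ) ∈ S) :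
    AddSubgroup.closure S = AddSubgroup.zmultiples ((t.gcd f : ℕ) : ℤ) := by
  apply le_antisymm
  · rw [AddSubgroup.closure_le]
    intro m hm
    exact Int.mem_zmultiples_iff.mpr (h1 m hm)
  · apply AddSubgroup.zmultiples_le_of_mem
    obtain ⟨a, ha⟩ := Int.subgroup_cyclic (AddSubgroup.closure S)
    rw [ha]
    have hdvd : ∀ δ ∈ t, a.natAbs ∣ f δ := by
      intro δ hδ
      have hmem : ((f δ : ℕ) : ℤ) ∈ AddSubgroup.closure ({a} : Set ℤ) := by
        rw [← ha]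
        exact AddSubgroup.subset_closure (h2 δ hδ)
      rw [AddSubgroup.mem_closure_singleton] at hmem
      obtain ⟨k, hk⟩ := hmem
      rw [← Int.natCast_dvd_natCast, Int.natCast_natAbs, abs_dvd]
      exact ⟨k, by rw [← hk, smul_eq_mul, mul_comm]⟩
    have h3 : a.natAbs ∣ t.gcd f := Finset.dvd_gcd hdvd
    have h4 : a ∣ ((t.gcd f : ℕ) : ℤ) := by
      rw [← Int.natAbs_dvd_natAbs, Int.natAbs_natCast]
      exact h3
    rw [AddSubgroup.mem_closure_singleton]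
    obtain ⟨k, hk⟩ := h4
    exact ⟨k, by rw [hk, smul_eq_mul, mul_comm]⟩

end Groth.Agent.Lib.Helper21.RKk
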