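import Mathlib

/-!
# Totally ramified extensions `K(ϖ^{1/e})` of the fraction field of a DVR (helper21)

`exists_ext`: for a uniformizer `ϖ` of a discrete valuation ring `R` with fraction field `K`
and `e ≥ 1` there is a field extension `L / K` of degree `e` containing an `e`-th root of `ϖ`
(Eisenstein's criterion for `X ^ e - ϖ`).
-/

set_option autoImplicit false
set_option linter.style.haveILetI false
set_option linter.unusedSectionVars false
set_option linter.unusedVariables false
set_option linter.unusedSimpArgs false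

namespace Groth.Agent.Lib.Helper21.RKl

open Polynomial

universe u

theorem exists_ext (R : Type u) [CommRing R] [IsDomain R] [IsDiscreteValuationRing R]
    (K : Type u) [Field K] [Algebra R K] [IsFractionRing R K] (ϖ : R) (hϖ : Irreducible ϖ)
    (e : ℕ) (he : 1 ≤ e) :
    ∃ (L : Type u) (_ : Field L) (_ : Algebra K L), FiniteDimensional K L ∧
      Module.finrank K L = e ∧ ∃ t : L, t ^ e = algebraMap K L (algebraMap R K ϖ) := by
  obtain ⟨f, hf⟩ : ∃ f : R[X], f = X ^ e - C ϖ := ⟨_, rfl⟩
  have he0 : e ≠ 0 := by omega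
  have hmonic : f.Monic := by rw [hf]; exact monic_X_pow_sub_C ϖ he0
  have hdeg : f.natDegree = e := by rw [hf]; exact natDegree_X_pow_sub_C
  have hP : (IsLocalRing.maximalIdeal R).IsPrime := inferInstance
  have hϖmem : ϖ ∈ IsLocalRing.maximalIdeal R := by
    rw [hϖ.maximalIdeal_eq]; exact Ideal.mem_span_singleton_self ϖ
  have hirr : Irreducible f := by
    apply irreducible_of_eisenstein_criterion hP
    · rw [hmonic.leadingCoeff]
      exact (Ideal.ne_top_iff_one _).mp hP.ne_top
    · intro n hn
      have hn' : n < e := by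
        rw [degree_eq_natDegree hmonic.ne_zero, hdeg] at hn
        exact_mod_cast hn
      rw [hf, coeff_sub, coeff_X_pow, if_neg (ne_of_lt hn'), zero_sub, coeff_C]
      split_ifs
      · exact neg_mem hϖmem
      · rw [neg_zero]; exact Ideal.zero_mem _
    · rw [degree_eq_natDegree hmonic.ne_zero, hdeg]
      exact_mod_cast (by omega : 0 < e)
    · rw [hf, coeff_sub, coeff_X_pow, if_neg (Ne.symm he0), zero_sub, coeff_C_zero,
        neg_mem_iff, hϖ.maximalIdeal_eq, Ideal.span_singleton_pow, Ideal.mem_span_singleton]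
      rintro ⟨c, hc⟩
      have h0 : ϖ * 1 = ϖ * (ϖ * c) := by
        rw [mul_one, ← mul_assoc, ← pow_two]; exact hc
      have h1 := mul_left_cancel₀ hϖ.ne_zero h0
      exact hϖ.not_isUnit (IsUnit.of_mul_eq_one c h1.symm)
    · exact hmonic.isPrimitive
  have hirrK : Irreducible (f.map (algebraMap R K)) :=
    (Monic.irreducible_iff_irreducible_map_fraction_map hmonic).mp hirr
  haveI : Fact (Irreducible (f.map (algebraMap R K))) := ⟨hirrK⟩
  have hne : f.map (algebraMap R K) ≠ 0 := hirrK.ne_zero
  refine ⟨AdjoinRoot (f.map (algebraMap R K)), inferInstance, inferInstance, ?_, ?_, ?_⟩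
  · exact (AdjoinRoot.powerBasis hne).finite
  · rw [(AdjoinRoot.powerBasis hne).finrank, AdjoinRoot.powerBasis_dim, hmonic.natDegree_map,
      hdeg]
  · refine ⟨AdjoinRoot.root _, ?_⟩
    have hg : f.map (algebraMap R K) = X ^ e - C (algebraMap R K ϖ) := by
      rw [hf, Polynomial.map_sub, Polynomial.map_pow, map_X, map_C]
    have key : ∀ g' : K[X], g' = X ^ e - C (algebraMap R K ϖ) →
        eval₂ (AdjoinRoot.of (f.map (algebraMap R K)))
          (AdjoinRoot.root (f.map (algebraMap R K))) g' =
          AdjoinRoot.root (f.map (algebraMap R K)) ^ e -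
            AdjoinRoot.of (f.map (algebraMap R K)) (algebraMap R K ϖ) := by
      intro g' hg'
      rw [hg', eval₂_sub, eval₂_pow, eval₂_X, eval₂_C]
    have h := AdjoinRoot.eval₂_root (f.map (algebraMap R K))
    rw [key _ hg, sub_eq_zero] at h
    rw [h, AdjoinRoot.algebraMap_eq]

end Groth.Agent.Lib.Helper21.RKl
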