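import Mathlib
import Groth.Agent.Lib.Helper21.RKk

/-!
# Ramification and solutions of twisted diagonal equations (helper21)

`core`: for a discrete valuation ring `R` with fraction field `K`, uniformizer `ϖ`, and a finite
separable extension `Ls / K`, a non-zero solution of
`y₀^d = Σ ϖ^{(i+1) q'} y_{i+1}^d` in `Ls` forces `gcdI d N ∣ q' * [Ls : K]`: at every prime of the
integral closure above `ϖ` two terms have equal valuation, which gives `gcdI d N ∣ q' e`; then
`Σ e f = [Ls : K]`.
-/

set_option autoImplicit false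
set_option linter.style.haveILetI false
set_option linter.unusedSectionVars false
set_option linter.unusedVariables false
set_option linter.unusedSimpArgs false

namespace Groth.Agent.Lib.Helper21.RKm

open Groth.Agent.Lib.Helper21.RKk

theorem dvd_of_int_eq (d N q' e : ℕ) (hd : 1 ≤ d) (i j : ℕ) (hi : i ≤ N) (hj : j ≤ N)
    (hij : i ≠ j) (A B : ℤ)
    (h : ((i * q' : ℕ) : ℤ) * (-(e : ℤ)) + (d : ℤ) * A =
      ((j * q' : ℕ) : ℤ) * (-(e : ℤ)) + (d : ℤ) * B) : gcdI d N ∣ q' * e := by
  rcases Nat.lt_or_gt_of_ne hij with hlt | hlt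
  · apply gcdI_dvd_of_dvd_mul d N hd (j - i) (q' * e) (by omega) (by omega)
    apply Int.natCast_dvd_natCast.mp
    refine ⟨B - A, ?_⟩
    push_cast [Nat.cast_sub hlt.le] at h ⊢
    linear_combination h
  · apply gcdI_dvd_of_dvd_mul d N hd (i - j) (q' * e) (by omega) (by omega)
    apply Int.natCast_dvd_natCast.mp
    refine ⟨A - B, ?_⟩
    push_cast [Nat.cast_sub hlt.le] at h ⊢
    linear_combination (-1 : ℤ) * h

theorem core_aux (R : Type*) [CommRing R] [IsDomain R] [IsDiscreteValuationRing R]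
    (K : Type*) [Field K] [Algebra R K] [IsFractionRing R K]
    (Ls : Type*) [Field Ls] [Algebra K Ls] [FiniteDimensional K Ls] [Algebra.IsSeparable K Ls]
    [Algebra R Ls] [IsScalarTower R K Ls]
    (S : Type*) [CommRing S] [IsDomain S] [Algebra R S] [Algebra S Ls] [IsScalarTower R S Ls]
    [IsIntegralClosure S R Ls]
    (ϖ : R) (hϖ : Irreducible ϖ) (d N q' : ℕ) (hd : 1 ≤ d)
    (y : Fin (N + 1) → Ls) (hy : y ≠ 0)
    (heq : y 0 ^ d = ∑ i : Fin N,
      algebraMap R Ls (ϖ ^ (((i : ℕ) + 1) * q')) * y i.succ ^ d) :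
    gcdI d N ∣ q' * Module.finrank K Ls := by
  classical
  have hinjL : Function.Injective (algebraMap R Ls) := by
    rw [IsScalarTower.algebraMap_eq R K Ls]
    exact (algebraMap K Ls).injective.comp (IsFractionRing.injective R K)
  haveI : FaithfulSMul R Ls := (faithfulSMul_iff_algebraMap_injective R Ls).mpr hinjL
  haveI hDed : IsDedekindDomain S := IsIntegralClosure.isDedekindDomain R K Ls S
  haveI hfin : Module.Finite R S := IsIntegralClosure.finite R K Ls S
  haveI hfrac : IsFractionRing S Ls :=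
    IsIntegralClosure.isFractionRing_of_finite_extension R K Ls S
  haveI htf : Module.IsTorsionFree R Ls := inferInstance
  haveI hfree : Module.Free R S := IsIntegralClosure.module_free R K Ls S
  have hrank : Module.finrank R S = Module.finrank K Ls := IsIntegralClosure.rank R K Ls S
  obtain ⟨p, hp⟩ : ∃ p : Ideal R, p = IsLocalRing.maximalIdeal R := ⟨_, rfl⟩
  haveI hpprime : p.IsPrime := by rw [hp]; infer_instance
  haveI : Fintype (p.primesOver S) := (Algebra.QuasiFinite.finite_primesOver p).fintype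
  have hsum := Ideal.sum_ramification_inertia_eq_finrank p S
  have hp0 : p ≠ ⊥ := by rw [hp]; exact IsDiscreteValuationRing.not_a_field R
  have hpspan : p = Ideal.span {ϖ} := by rw [hp]; exact hϖ.maximalIdeal_eq
  have hpmap : p.map (algebraMap R S) = Ideal.span {algebraMap R S ϖ} := by
    rw [hpspan, Ideal.map_span, Set.image_singleton]
  have hinjS : Function.Injective (algebraMap R S) := by
    have h2 : Function.Injective ((algebraMap S Ls) ∘ (algebraMap R S)) := by
      have e : ((algebraMap S Ls) ∘ (algebraMap R S)) = algebraMap R Ls := by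
        funext r
        exact (IsScalarTower.algebraMap_apply R S Ls r).symm
      rw [e]; exact hinjL
    exact Function.Injective.of_comp h2
  have hϖS : algebraMap R S ϖ ≠ 0 := (map_ne_zero_iff _ hinjS).mpr hϖ.ne_zero
  have hpmap0 : p.map (algebraMap R S) ≠ ⊥ := by
    rw [hpmap, Ne, Ideal.span_singleton_eq_bot]; exact hϖS
  have hϖL : ∀ n : ℕ, algebraMap R Ls (ϖ ^ n) ≠ 0 := fun n =>
    (map_ne_zero_iff _ hinjL).mpr (pow_ne_zero n hϖ.ne_zero)
  -- the uniform terms
  obtain ⟨T, hT⟩ : ∃ T : Fin (N + 1) → Ls,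
      T = fun k : Fin (N + 1) => algebraMap R Ls (ϖ ^ ((k : ℕ) * q')) * y k ^ d := ⟨_, rfl⟩
  have hTk : ∀ k, T k = algebraMap R Ls (ϖ ^ ((k : ℕ) * q')) * y k ^ d := fun k => by rw [hT]
  have hd0 : d ≠ 0 := by omega
  have hTne : ∀ k, T k ≠ 0 ↔ y k ≠ 0 := by
    intro k
    rw [hTk, mul_ne_zero_iff, pow_ne_zero_iff hd0]
    exact ⟨fun h => h.2, fun h => ⟨hϖL _, h⟩⟩
  obtain ⟨a, ha⟩ : ∃ a : Fin (N + 1) → Ls, a = fun k : Fin (N + 1) => if k = 0 then T 0 else - T k :=
    ⟨_, rfl⟩
  have hak : ∀ k, a k = if k = 0 then T 0 else - T k := fun k => by rw [ha]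
  have hasum : ∑ k, a k = 0 := by
    rw [Fin.sum_univ_succ, hak 0, if_pos rfl, hTk 0]
    have h1 : ∀ i : Fin N, a i.succ =
        - (algebraMap R Ls (ϖ ^ (((i : ℕ) + 1) * q')) * y i.succ ^ d) := by
      intro i
      rw [hak, if_neg (Fin.succ_ne_zero i), hTk, Fin.val_succ]
    rw [Finset.sum_congr rfl (fun i _ => h1 i), Finset.sum_neg_distrib, ← heq, Fin.val_zero,
      zero_mul, pow_zero, map_one, one_mul, add_neg_cancel]
  have hane : ∀ k, a k ≠ 0 ↔ y k ≠ 0 := by
    intro k
    rw [hak]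
    split_ifs with hk
    · rw [hk]; exact hTne 0
    · rw [neg_ne_zero]; exact hTne k
  have hex : ∃ k ∈ (Finset.univ : Finset (Fin (N + 1))), a k ≠ 0 := by
    by_contra hcon
    push Not at hcon
    apply hy
    funext k
    have := hcon k (Finset.mem_univ k)
    by_contra hk
    exact (hane k).mpr hk this
  -- key per-prime divisibility
  have hkey : ∀ q : p.primesOver S, gcdI d N ∣ q' * q.1.ramificationIdx R := by
    intro q
    haveI : q.1.IsPrime := q.2.1
    haveI : q.1.LiesOver p := q.2.2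
    have hq0 : q.1 ≠ ⊥ := Ideal.ne_bot_of_liesOver_of_ne_bot hp0 q.1
    obtain ⟨v, hv⟩ : ∃ v : IsDedekindDomain.HeightOneSpectrum S, v.asIdeal = q.1 :=
      ⟨⟨q.1, q.2.1, hq0⟩, rfl⟩
    obtain ⟨w, hw⟩ : ∃ w : Valuation Ls (WithZero (Multiplicative ℤ)), w = v.valuation Ls :=
      ⟨_, rfl⟩
    obtain ⟨e, he⟩ : ∃ e : ℕ, e = q.1.ramificationIdx R := ⟨_, rfl⟩
    have hwϖ : w (algebraMap R Ls ϖ) = WithZero.exp (-(e : ℤ)) := by
      rw [hw, IsScalarTower.algebraMap_apply R S Ls,
        IsDedekindDomain.HeightOneSpectrum.valuation_of_algebraMap,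
        IsDedekindDomain.HeightOneSpectrum.intValuation_eq_exp_neg_multiplicity v hϖS, hv,
        ← hpmap, ← Ideal.IsDedekindDomain.ramificationIdx_eq_multiplicity p q.1 hpmap0, he]
    have hwa : ∀ k, w (a k) = w (T k) := by
      intro k
      rw [hak]
      split_ifs with hk
      · rw [hk]
      · rw [Valuation.map_neg]
    obtain ⟨i, -, j, -, hij, hai, haj, hwij⟩ :=
      exists_ne_valuation_eq w Finset.univ a hasum hex
    rw [hwa, hwa] at hwij
    have hyi : y i ≠ 0 := (hane i).mp hai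
    have hyj : y j ≠ 0 := (hane j).mp haj
    have hlog : ∀ k, y k ≠ 0 → WithZero.log (w (T k)) =
        (((k : ℕ) * q' : ℕ) : ℤ) * (-(e : ℤ)) + (d : ℤ) * WithZero.log (w (y k)) := by
      intro k hk
      have h1 : w (y k) ≠ 0 := (Valuation.ne_zero_iff w).mpr hk
      have h2 : w (algebraMap R Ls ϖ) ≠ 0 := by
        rw [hwϖ]; exact WithZero.exp_ne_zero
      rw [hTk, map_mul, map_pow, map_pow, map_pow,
        WithZero.log_mul (pow_ne_zero _ h2) (pow_ne_zero _ h1), WithZero.log_pow,
        WithZero.log_pow, hwϖ, WithZero.log_exp, nsmul_eq_mul, nsmul_eq_mul]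
    have hE := congrArg WithZero.log hwij
    rw [hlog i hyi, hlog j hyj] at hE
    rw [← he]
    exact dvd_of_int_eq d N q' e hd (i : ℕ) (j : ℕ) (Nat.lt_succ_iff.mp i.2)
      (Nat.lt_succ_iff.mp j.2) (fun h => hij (Fin.ext h)) _ _ hE
  have hfinal : gcdI d N ∣ q' * Module.finrank R S := by
    rw [← hsum, Finset.mul_sum]
    apply Finset.dvd_sum
    intro q _
    rw [← mul_assoc]
    exact Dvd.dvd.mul_right (hkey q) _
  rwa [hrank] at hfinal

end Groth.Agent.Lib.Helper21.RKm
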