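import Mathlib
import Groth.Agent.Lib.Helper21.RKk
import Groth.Agent.Lib.Helper21.RKl
import Groth.Agent.Lib.Helper21.RKm

/-!
# The index of a twisted diagonal hypersurface over the fraction field of a DVR (helper21)

* `core`: the separable case (`RKm.core_aux` for the integral closure);
* `dvd_finrank`: for every finite extension `L / K` with a non-zero solution of
  `x₀^d = Σ ϖ^{i} x_i^d`, `gcdI d N ∣ [L : K]` (reduce to the separable closure by raising the
  solution to the inseparable degree);
* `mem_degrees`: the extensions `K(ϖ^{δ/d})` give the degrees `d / δ`.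
-/

set_option autoImplicit false
set_option linter.style.haveILetI false
set_option linter.unusedSectionVars false
set_option linter.unusedVariables false
set_option linter.unusedSimpArgs false

namespace Groth.Agent.Lib.Helper21.RKn

open Groth.Agent.Lib.Helper21.RKk

universe u

theorem core (R : Type*) [CommRing R] [IsDomain R] [IsDiscreteValuationRing R]
    (K : Type*) [Field K] [Algebra R K] [IsFractionRing R K]
    (Ls : Type*) [Field Ls] [Algebra K Ls] [FiniteDimensional K Ls] [Algebra.IsSeparable K Ls]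
    (ϖ : R) (hϖ : Irreducible ϖ) (d N q' : ℕ) (hd : 1 ≤ d)
    (y : Fin (N + 1) → Ls) (hy : y ≠ 0)
    (heq : y 0 ^ d = ∑ i : Fin N,
      algebraMap K Ls (algebraMap R K (ϖ ^ (((i : ℕ) + 1) * q'))) * y i.succ ^ d) :
    gcdI d N ∣ q' * Module.finrank K Ls := by
  letI : Algebra R Ls := ((algebraMap K Ls).comp (algebraMap R K)).toAlgebra
  haveI : IsScalarTower R K Ls := IsScalarTower.of_algebraMap_eq (fun _ => rfl)
  exact Groth.Agent.Lib.Helper21.RKm.core_aux R K Ls (integralClosure R Ls) ϖ hϖ d N q' hd y hy heq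

theorem dvd_finrank (R : Type u) [CommRing R] [IsDomain R] [IsDiscreteValuationRing R]
    (K : Type u) [Field K] [Algebra R K] [IsFractionRing R K]
    (ϖ : R) (hϖ : Irreducible ϖ) (d N : ℕ) (hd : 1 ≤ d)
    (L : Type u) [Field L] [Algebra K L] [FiniteDimensional K L]
    (x : Fin (N + 1) → L) (hx : x ≠ 0)
    (heq : x 0 ^ d = ∑ i : Fin N,
      algebraMap K L (algebraMap R K (ϖ ^ ((i : ℕ) + 1))) * x i.succ ^ d) :
    gcdI d N ∣ Module.finrank K L := by
  classical
  obtain ⟨p, hp⟩ : ∃ p : ℕ, p = ringExpChar K := ⟨_, rfl⟩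
  haveI hpK : ExpChar K p := by rw [hp]; infer_instance
  haveI hpLs : ExpChar (separableClosure K L) p :=
    expChar_of_injective_algebraMap (algebraMap K (separableClosure K L)).injective p
  haveI hpL : ExpChar L p := expChar_of_injective_algebraMap (algebraMap K L).injective p
  obtain ⟨a, hqa⟩ := IsPurelyInseparable.finrank_eq_pow (separableClosure K L) L p
  have hq'pos : 0 < p ^ a := by rw [← hqa]; exact Module.finrank_pos
  have hmem : ∀ z : L, z ^ p ^ a ∈ (algebraMap (separableClosure K L) L).range := by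
    intro z
    have h1 := IsPurelyInseparable.minpoly_natDegree_eq' (separableClosure K L) p z
    have h2 := IsPurelyInseparable.elemExponent_def' (separableClosure K L) p z
    have h3 : (minpoly (separableClosure K L) z).natDegree ∣ p ^ a := by
      rw [← hqa]; exact minpoly.degree_dvd (Algebra.IsIntegral.isIntegral z)
    rw [h1] at h3
    obtain ⟨c, hc⟩ := h3
    rw [hc, pow_mul]
    exact Subring.pow_mem _ h2 c
  choose y hy using fun k => hmem (x k)
  have hyne : y ≠ 0 := by
    intro h0
    apply hx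
    funext k
    have h5 := hy k
    rw [h0, Pi.zero_apply, map_zero] at h5
    exact (pow_eq_zero_iff hq'pos.ne').mp h5.symm
  have hinj : Function.Injective (algebraMap (separableClosure K L) L) :=
    (algebraMap (separableClosure K L) L).injective
  have heq' : y 0 ^ d = ∑ i : Fin N,
      algebraMap K (separableClosure K L) (algebraMap R K (ϖ ^ (((i : ℕ) + 1) * p ^ a))) *
        y i.succ ^ d := by
    apply hinj
    have hterm : ∀ i : Fin N, algebraMap (separableClosure K L) L
        (algebraMap K (separableClosure K L) (algebraMap R K (ϖ ^ (((i : ℕ) + 1) * p ^ a))) *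
          y i.succ ^ d) =
        (algebraMap K L (algebraMap R K (ϖ ^ ((i : ℕ) + 1))) * x i.succ ^ d) ^ p ^ a := by
      intro i
      have e1 : algebraMap (separableClosure K L) L (algebraMap K (separableClosure K L)
          (algebraMap R K (ϖ ^ (((i : ℕ) + 1) * p ^ a)))) =
          (algebraMap K L (algebraMap R K (ϖ ^ ((i : ℕ) + 1)))) ^ p ^ a := by
        rw [← IsScalarTower.algebraMap_apply K (separableClosure K L) L, pow_mul]
        simp only [map_pow]
      have e2 : algebraMap (separableClosure K L) L (y i.succ ^ d) =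
          (x i.succ ^ d) ^ p ^ a := by
        rw [map_pow, hy i.succ, ← pow_mul, ← pow_mul, mul_comm]
      rw [map_mul, e1, e2, mul_pow]
    rw [map_pow, hy 0, map_sum, Finset.sum_congr rfl (fun i _ => hterm i), ← pow_mul,
      mul_comm (p ^ a) d, pow_mul, heq]
    exact sum_pow_char_pow p a _ _
  have hcore := core R K (separableClosure K L) ϖ hϖ d N (p ^ a) hd y hyne heq'
  have htower := Module.finrank_mul_finrank K (separableClosure K L) L
  rw [hqa] at htower
  rw [← htower, mul_comm]
  exact hcore

theorem mem_degrees (R : Type u) [CommRing R] [IsDomain R] [IsDiscreteValuationRing R]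
    (K : Type u) [Field K] [Algebra R K] [IsFractionRing R K]
    (ϖ : R) (hϖ : Irreducible ϖ) (d N : ℕ) (hd : 1 ≤ d) (δ : ℕ) (h1 : 1 ≤ δ) (hN : δ ≤ N)
    (hδ : δ ∣ d) :
    ∃ (L : Type u) (_ : Field L) (_ : Algebra K L),
      FiniteDimensional K L ∧ ((d / δ : ℕ) : ℤ) = (Module.finrank K L : ℤ) ∧
      ∃ x : Fin (N + 1) → L, x ≠ 0 ∧
        x 0 ^ d = ∑ i : Fin N,
          algebraMap K L (algebraMap R K (ϖ ^ ((i : ℕ) + 1))) * x i.succ ^ d := by
  classical
  have he : 1 ≤ d / δ := Nat.div_pos (Nat.le_of_dvd (by omega) hδ) (by omega)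
  obtain ⟨L, hL1, hL2, hfd, hrank, t, ht⟩ :=
    Groth.Agent.Lib.Helper21.RKl.exists_ext R K ϖ hϖ (d / δ) he
  refine ⟨L, hL1, hL2, hfd, by rw [hrank], ?_⟩
  obtain ⟨i₀, hi₀⟩ : ∃ i₀ : Fin N, (i₀ : ℕ) + 1 = δ := ⟨⟨δ - 1, by omega⟩, by simp; omega⟩
  refine ⟨fun k => if k = 0 then t else if k = i₀.succ then 1 else 0, ?_, ?_⟩
  · intro h0
    have h2 := congrFun h0 i₀.succ
    simp at h2
  · have hd0 : d ≠ 0 := by omega
    have hsum : ∀ i : Fin N, algebraMap K L (algebraMap R K (ϖ ^ ((i : ℕ) + 1))) *
        (if i.succ = (0 : Fin (N + 1)) then t else if i.succ = i₀.succ then 1 else 0) ^ d =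
        if i = i₀ then algebraMap K L (algebraMap R K (ϖ ^ δ)) else 0 := by
      intro i
      rw [if_neg (Fin.succ_ne_zero i)]
      by_cases hi : i = i₀
      · rw [if_pos (by rw [hi]), if_pos hi, one_pow, mul_one, hi, hi₀]
      · rw [if_neg (fun h => hi (Fin.succ_injective _ h)), if_neg hi, zero_pow hd0, mul_zero]
    beta_reduce
    rw [if_pos rfl, Finset.sum_congr rfl (fun i _ => hsum i), Finset.sum_ite_eq' Finset.univ i₀,
      if_pos (Finset.mem_univ i₀), map_pow, map_pow, ← ht, ← pow_mul, Nat.div_mul_cancel hδ]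

end Groth.Agent.Lib.Helper21.RKn
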