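import Mathlib
import Groth.Agent.Lib.Helper7.PowSerCRing
import Groth.Agent.Lib.Helper14.FormalMorse
import Groth.Agent.Lib.Helper26.PowerSeriesRLR

/-!
# The node `κ[[x,y]]/(a x² + b xy + c y²)` with `a ≠ 0`: ideals containing the form, reducedness
-/

set_option autoImplicit false
set_option linter.style.haveILetI false
set_option linter.unusedSectionVars false
set_option linter.unusedVariables false
set_option linter.unusedSimpArgs false

universe u

namespace Groth.Agent.Lib.Helper21.RKo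

open MvPowerSeries IsLocalRing

variable {κ : Type u} [Field κ]

/-- the binary quadratic form -/
noncomputable def Qf (a b c : κ) : MvPowerSeries (Fin 2) κ :=
  C a * X 0 ^ 2 + C b * X 0 * X 1 + C c * X 1 ^ 2

theorem X_mem' (i : Fin 2) :
    (X i : MvPowerSeries (Fin 2) κ) ∈ maximalIdeal (MvPowerSeries (Fin 2) κ) :=
  Groth.Agent.Lib.Helper7.PowSerCRing.X_mem i

theorem Qf_mem_sq (a b c : κ) : Qf a b c ∈ maximalIdeal (MvPowerSeries (Fin 2) κ) ^ 2 := by
  unfold Qf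
  have h00 : (X 0 : MvPowerSeries (Fin 2) κ) ^ 2 ∈ maximalIdeal (MvPowerSeries (Fin 2) κ) ^ 2 :=
    Ideal.pow_mem_pow (X_mem' 0) 2
  have h11 : (X 1 : MvPowerSeries (Fin 2) κ) ^ 2 ∈ maximalIdeal (MvPowerSeries (Fin 2) κ) ^ 2 :=
    Ideal.pow_mem_pow (X_mem' 1) 2
  have h01 : (X 0 * X 1 : MvPowerSeries (Fin 2) κ) ∈
      maximalIdeal (MvPowerSeries (Fin 2) κ) ^ 2 := by
    rw [pow_two]; exact Ideal.mul_mem_mul (X_mem' 0) (X_mem' 1)
  refine Ideal.add_mem _ (Ideal.add_mem _ (Ideal.mul_mem_left _ _ h00) ?_) (Ideal.mul_mem_left _ _ h11)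
  rw [mul_assoc]
  exact Ideal.mul_mem_left _ _ h01

theorem Qf_mem (a b c : κ) : Qf a b c ∈ maximalIdeal (MvPowerSeries (Fin 2) κ) :=
  Ideal.pow_le_self two_ne_zero (Qf_mem_sq a b c)

theorem mem_pow_iff (j : ℕ) (f : MvPowerSeries (Fin 2) κ) :
    f ∈ maximalIdeal (MvPowerSeries (Fin 2) κ) ^ j ↔
      ∀ e : Fin 2 →₀ ℕ, Finsupp.degree e < j → coeff e f = 0 := by
  rw [Groth.Agent.Lib.Helper7.PowSerCRing.maximalIdeal_pow_eq_W,
    Groth.Agent.Lib.Helper7.PowSerCRing.mem_W]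
  constructor
  · intro h e he
    have h1 := h e
    have hb : (maximalIdeal κ) ^ (j - Finsupp.degree e) = ⊥ := by
      rw [IsLocalRing.maximalIdeal_eq_bot, ← Ideal.zero_eq_bot]
      exact zero_pow (by omega)
    rw [hb] at h1
    exact (Ideal.mem_bot).mp h1
  · intro h e
    by_cases he : Finsupp.degree e < j
    · rw [h e he]; exact Ideal.zero_mem _
    · have h0 : j - Finsupp.degree e = 0 := by omega
      rw [h0, pow_zero, Ideal.one_eq_top]; trivial

theorem X_ne_zero' (s : Fin 2) : (X s : MvPowerSeries (Fin 2) κ) ≠ 0 := by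
  intro h
  have := congrArg (coeff (Finsupp.single s 1)) h
  rw [coeff_index_single_self_X, map_zero] at this
  exact one_ne_zero this

theorem X_zero_prime : Prime (X 0 : MvPowerSeries (Fin 2) κ) := by
  haveI : IsDomain (MvPowerSeries (Fin 1) κ) := NoZeroDivisors.to_isDomain _
  have h := (PowerSeries.X_prime (R := MvPowerSeries (Fin 1) κ))
  rw [← MvPowerSeries.finSuccEquiv_X_zero (R := κ) (n := 1)] at h
  exact (MulEquiv.prime_iff (MvPowerSeries.finSuccEquiv κ 1)).mp h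

theorem X_one_prime : Prime (X 1 : MvPowerSeries (Fin 2) κ) := by
  have h := X_zero_prime (κ := κ)
  have h2 : (MvPowerSeries.renameEquiv κ (Equiv.swap (0 : Fin 2) 1)) (X 1) =
      (X 0 : MvPowerSeries (Fin 2) κ) := by
    show MvPowerSeries.rename (⇑(Equiv.swap (0 : Fin 2) 1)) (X 1) = X 0
    rw [MvPowerSeries.rename_X, Equiv.swap_apply_right]
  rw [← h2] at h
  exact (MulEquiv.prime_iff _).mp h

/-- `y` is a non-zero-divisor modulo the form (when `a ≠ 0`). -/
theorem mem_span_of_X_mul_mem {a b c : κ} (ha : a ≠ 0) (g : MvPowerSeries (Fin 2) κ)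
    (hg : X 1 * g ∈ Ideal.span {Qf a b c}) : g ∈ Ideal.span {Qf a b c} := by
  haveI : IsDomain (MvPowerSeries (Fin 2) κ) := NoZeroDivisors.to_isDomain _
  rw [Ideal.mem_span_singleton'] at hg ⊢
  obtain ⟨h, hh⟩ := hg
  have h1 : (X 1 : MvPowerSeries (Fin 2) κ) ∣ C a * X 0 ^ 2 * h := by
    refine ⟨g - (C b * X 0 + C c * X 1) * h, ?_⟩
    unfold Qf at hh
    linear_combination hh
  have hp := X_one_prime (κ := κ)
  have h2 : (X 1 : MvPowerSeries (Fin 2) κ) ∣ h := by
    rcases hp.dvd_or_dvd h1 with h3 | h3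
    · exfalso
      rcases hp.dvd_or_dvd h3 with h4 | h4
      · rw [X_dvd_iff] at h4
        have := h4 0 (by simp)
        rw [coeff_zero_C] at this
        exact ha this
      · have h5 := hp.dvd_of_dvd_pow h4
        rw [X_dvd_iff] at h5
        have := h5 (Finsupp.single 0 1) (by rw [Finsupp.single_apply, if_neg]; decide)
        rw [coeff_index_single_self_X] at this
        exact one_ne_zero this
    · exact h3
  obtain ⟨h', rfl⟩ := h2
  refine ⟨h', ?_⟩
  have hx : (X 1 : MvPowerSeries (Fin 2) κ) ≠ 0 := X_ne_zero' 1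
  apply mul_left_cancel₀ hx
  rw [← hh]; ring

theorem mem_span_of_X_pow_mul_mem {a b c : κ} (ha : a ≠ 0) (n : ℕ) (g : MvPowerSeries (Fin 2) κ)
    (hg : X 1 ^ n * g ∈ Ideal.span {Qf a b c}) : g ∈ Ideal.span {Qf a b c} := by
  induction n with
  | zero => simpa using hg
  | succ n ih =>
    apply ih
    apply mem_span_of_X_mul_mem ha
    rw [← mul_assoc, ← pow_succ']
    exact hg

theorem sq_le {a b c : κ} (ha : a ≠ 0) :
    maximalIdeal (MvPowerSeries (Fin 2) κ) ^ 2 ≤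
      Ideal.span {(X 1 : MvPowerSeries (Fin 2) κ)} * maximalIdeal (MvPowerSeries (Fin 2) κ) ⊔
        Ideal.span {Qf a b c} := by
  have hm : maximalIdeal (MvPowerSeries (Fin 2) κ) = Ideal.span (Set.range X) :=
    Groth.Agent.Lib.Helper26.PowerSeriesRLR.maximalIdeal_mvPowerSeries κ 2
  rw [pow_two]
  conv_lhs => rw [hm]
  rw [Ideal.span_mul_span', Ideal.span_le]
  rintro _ ⟨_, ⟨i, rfl⟩, _, ⟨j, rfl⟩, rfl⟩
  have key : ∀ k : Fin 2, (X 1 * X k : MvPowerSeries (Fin 2) κ) ∈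
      Ideal.span {(X 1 : MvPowerSeries (Fin 2) κ)} * maximalIdeal (MvPowerSeries (Fin 2) κ) ⊔
        Ideal.span {Qf a b c} := fun k =>
    Ideal.mem_sup_left (Ideal.mul_mem_mul (Ideal.mem_span_singleton_self _) (X_mem' k))
  fin_cases i <;> fin_cases j
  · have hC : (C a⁻¹ : MvPowerSeries (Fin 2) κ) * C a = 1 := by
      rw [← map_mul, inv_mul_cancel₀ ha, map_one]
    have h : (X 0 * X 0 : MvPowerSeries (Fin 2) κ) =
        X 1 * (-(C a⁻¹ * (C b * X 0 + C c * X 1))) + C a⁻¹ * Qf a b c := by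
      unfold Qf; linear_combination (-(X 0 : MvPowerSeries (Fin 2) κ) ^ 2) * hC
    show (X 0 * X 0 : MvPowerSeries (Fin 2) κ) ∈ _
    rw [h]
    refine Ideal.add_mem _ (Ideal.mem_sup_left (Ideal.mul_mem_mul (Ideal.mem_span_singleton_self _) ?_))
      (Ideal.mem_sup_right (Ideal.mul_mem_left _ _ (Ideal.mem_span_singleton_self _)))
    exact (Ideal.neg_mem_iff _).mpr (Ideal.mul_mem_left _ _
      (Ideal.add_mem _ (Ideal.mul_mem_left _ _ (X_mem' 0)) (Ideal.mul_mem_left _ _ (X_mem' 1))))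
  · show (X 0 * X 1 : MvPowerSeries (Fin 2) κ) ∈ _
    have hc01 : (X 0 * X 1 : MvPowerSeries (Fin 2) κ) = X 1 * X 0 := mul_comm _ _
    rw [hc01]; exact key 0
  · exact key 0
  · exact key 1

/-- division by `y` modulo the form -/
theorem exists_div {a b c : κ} (ha : a ≠ 0) (g : MvPowerSeries (Fin 2) κ)
    (hg : g ∈ maximalIdeal (MvPowerSeries (Fin 2) κ) ^ 2) :
    ∃ g' ∈ maximalIdeal (MvPowerSeries (Fin 2) κ), g - X 1 * g' ∈ Ideal.span {Qf a b c} := by
  have h := sq_le (b := b) (c := c) ha hg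
  obtain ⟨u, hu, v, hv, rfl⟩ := Submodule.mem_sup.mp h
  obtain ⟨g', hg', rfl⟩ := Ideal.mem_span_singleton_mul.mp hu
  exact ⟨g', hg', by rw [add_sub_cancel_left]; exact hv⟩

/-- Krull: closedness of ideals -/
theorem mem_of_forall_sub_mem (I : Ideal (MvPowerSeries (Fin 2) κ))
    (hI : I ≤ maximalIdeal (MvPowerSeries (Fin 2) κ)) (x : MvPowerSeries (Fin 2) κ)
    (hx : x ∈ maximalIdeal (MvPowerSeries (Fin 2) κ)) (s : MvPowerSeries (Fin 2) κ)
    (h : ∀ n : ℕ, ∃ w, s - x ^ n * w ∈ I) : s ∈ I := by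
  have hne : I ≠ ⊤ := fun h =>
    (IsLocalRing.maximalIdeal.isMaximal (MvPowerSeries (Fin 2) κ)).ne_top (top_le_iff.mp (h ▸ hI))
  haveI : Nontrivial (MvPowerSeries (Fin 2) κ ⧸ I) := Ideal.Quotient.nontrivial_iff.mpr hne
  haveI : IsLocalRing (MvPowerSeries (Fin 2) κ ⧸ I) :=
    IsLocalRing.of_surjective' (Ideal.Quotient.mk I) Ideal.Quotient.mk_surjective
  have hJ : Ideal.span {Ideal.Quotient.mk I x} ≠ ⊤ := by
    intro hJt
    have h1 : (1 : MvPowerSeries (Fin 2) κ ⧸ I) ∈ Ideal.span {Ideal.Quotient.mk I x} :=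
      hJt ▸ Submodule.mem_top
    obtain ⟨w, hw⟩ := Ideal.mem_span_singleton'.mp h1
    obtain ⟨w', rfl⟩ := Ideal.Quotient.mk_surjective w
    rw [← map_mul, ← map_one (Ideal.Quotient.mk I), Ideal.Quotient.eq] at hw
    have h2 : w' * x - 1 ∈ maximalIdeal (MvPowerSeries (Fin 2) κ) := hI hw
    have h3 : w' * x ∈ maximalIdeal (MvPowerSeries (Fin 2) κ) := Ideal.mul_mem_left _ _ hx
    have h4 : (1 : MvPowerSeries (Fin 2) κ) ∈ maximalIdeal (MvPowerSeries (Fin 2) κ) := by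
      have h34 := Ideal.sub_mem _ h3 h2
      rwa [sub_sub_cancel] at h34
    exact (Ideal.ne_top_iff_one _).mp
      (IsLocalRing.maximalIdeal.isMaximal (MvPowerSeries (Fin 2) κ)).ne_top h4
  have hK := Ideal.iInf_pow_eq_bot_of_isLocalRing (Ideal.span {Ideal.Quotient.mk I x}) hJ
  rw [← Ideal.Quotient.eq_zero_iff_mem, ← Ideal.mem_bot, ← hK, Ideal.mem_iInf]
  intro n
  obtain ⟨w, hw⟩ := h n
  have h5 : Ideal.Quotient.mk I s = Ideal.Quotient.mk I x ^ n * Ideal.Quotient.mk I w := by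
    rw [← map_pow, ← map_mul, Ideal.Quotient.eq]; exact hw
  rw [h5]
  exact Ideal.mul_mem_right _ _ (Ideal.pow_mem_pow (Ideal.mem_span_singleton_self _) n)

/-- **Key lemma**: an ideal between `(Q)` and `𝔪²` modulo which some element of `𝔪` is regular
is `(Q)`. -/
theorem node_ideal_eq {a b c : κ} (ha : a ≠ 0) (I : Ideal (MvPowerSeries (Fin 2) κ))
    (hQ : Qf a b c ∈ I) (hI : I ≤ maximalIdeal (MvPowerSeries (Fin 2) κ) ^ 2)
    (t : MvPowerSeries (Fin 2) κ) (ht : t ∈ maximalIdeal (MvPowerSeries (Fin 2) κ))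
    (hreg : ∀ z, t * z ∈ I → z ∈ I) : I = Ideal.span {Qf a b c} := by
  have hQI : Ideal.span {Qf a b c} ≤ I := Ideal.span_le.mpr (Set.singleton_subset_iff.mpr hQ)
  refine le_antisymm ?_ hQI
  have ha' : ∀ u ∈ maximalIdeal (MvPowerSeries (Fin 2) κ), ∀ s ∈ I, ∀ w,
      X 1 * w - u * s ∈ Ideal.span {Qf a b c} → w ∈ I := by
    intro u hu s hs w hw
    apply hreg
    have htu : t * u ∈ maximalIdeal (MvPowerSeries (Fin 2) κ) ^ 2 := by
      rw [pow_two]; exact Ideal.mul_mem_mul ht hu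
    obtain ⟨v, hv, hvq⟩ := exists_div (b := b) (c := c) ha (t * u) htu
    have h1 : X 1 * (t * w - v * s) ∈ Ideal.span {Qf a b c} := by
      have h0 : X 1 * (t * w - v * s) = t * (X 1 * w - u * s) + s * (t * u - X 1 * v) := by ring
      rw [h0]
      exact Ideal.add_mem _ (Ideal.mul_mem_left _ _ hw) (Ideal.mul_mem_left _ _ hvq)
    have h2 := mem_span_of_X_mul_mem ha _ h1
    have h3 : t * w = (t * w - v * s) + v * s := by ring
    rw [h3]
    exact Ideal.add_mem _ (hQI h2) (Ideal.mul_mem_left _ _ hs)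
  have hb' : ∀ z, X 1 * z ∈ I → z ∈ I := by
    intro z hz
    apply hreg
    refine ha' t ht (X 1 * z) hz (t * z) ?_
    have : X 1 * (t * z) - t * (X 1 * z) = 0 := by ring
    rw [this]; exact Ideal.zero_mem _
  intro s hs
  have hc' : ∀ n : ℕ, ∃ w ∈ I, s - X 1 ^ n * w ∈ Ideal.span {Qf a b c} := by
    intro n
    induction n with
    | zero => exact ⟨s, hs, by simp⟩
    | succ n ih =>
      obtain ⟨w, hw, hsw⟩ := ih
      obtain ⟨w', hw', hww⟩ := exists_div (b := b) (c := c) ha w (hI hw)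
      have hw'I : w' ∈ I := by
        apply hb'
        have : X 1 * w' = w - (w - X 1 * w') := by ring
        rw [this]
        exact Ideal.sub_mem _ hw (hQI hww)
      refine ⟨w', hw'I, ?_⟩
      have : s - X 1 ^ (n + 1) * w' = (s - X 1 ^ n * w) + X 1 ^ n * (w - X 1 * w') := by ring
      rw [this]
      exact Ideal.add_mem _ hsw (Ideal.mul_mem_left _ _ hww)
  apply mem_of_forall_sub_mem _
    (Ideal.span_le.mpr (Set.singleton_subset_iff.mpr (Qf_mem a b c))) (X 1) (X_mem' 1) s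
  intro n
  obtain ⟨w, -, hw⟩ := hc' n
  exact ⟨w, hw⟩

end Groth.Agent.Lib.Helper21.RKo
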