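import Mathlib
import Groth.Agent.Lib.Helper21.RKo

/-!
# Reducedness of the node `κ[[x,y]]/(a x² + b xy + c y²)` with `a ≠ 0`, `4ac - b² ≠ 0`
-/

set_option autoImplicit false
set_option linter.style.haveILetI false
set_option linter.unusedSectionVars false
set_option linter.unusedVariables false
set_option linter.unusedSimpArgs false

universe u

namespace Groth.Agent.Lib.Helper21.RKo

section PolyOpen
open Polynomial
section Poly

variable {κ : Type u} [Field κ] (a b c : κ)

/-- the dehomogenised form -/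
noncomputable def qpoly : Polynomial κ :=
  Polynomial.C a * Polynomial.X ^ 2 + Polynomial.C b * Polynomial.X + Polynomial.C c

theorem qpoly_separable (hD : 4 * a * c - b ^ 2 ≠ 0) : (qpoly a b c).Separable := by
  rw [Polynomial.separable_def]
  have hder : derivative (qpoly a b c) = C (2 * a) * X + C b := by
    unfold qpoly
    simp only [derivative_add, derivative_C_mul, derivative_X_sq, derivative_X, derivative_C,
      map_mul, map_ofNat]
    ring
  have key : C (4 * a) * qpoly a b c - (C (2 * a) * X + C b) ^ 2 = C (4 * a * c - b ^ 2) := by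
    unfold qpoly
    simp only [map_mul, map_sub, map_pow, map_ofNat]
    ring
  have hDD : (C (4 * a * c - b ^ 2)⁻¹ : κ[X]) * C (4 * a * c - b ^ 2) = 1 := by
    rw [← map_mul, inv_mul_cancel₀ hD, map_one]
  refine ⟨C (4 * a * c - b ^ 2)⁻¹ * C (4 * a),
    -(C (4 * a * c - b ^ 2)⁻¹ * (C (2 * a) * X + C b)), ?_⟩
  rw [hder]
  linear_combination (C (4 * a * c - b ^ 2)⁻¹ : κ[X]) * key + hDD

theorem isReduced_adjoinRoot (hD : 4 * a * c - b ^ 2 ≠ 0) :
    IsReduced (AdjoinRoot (qpoly a b c)) := by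
  have h1 : Squarefree (qpoly a b c) := (qpoly_separable a b c hD).squarefree
  have h2 : (Ideal.span {qpoly a b c}).IsRadical := isRadical_iff_span_singleton.mp h1.isRadical
  exact (Ideal.isRadical_iff_quotient_reduced _).mp h2

end Poly

end PolyOpen

open MvPowerSeries IsLocalRing

variable {κ : Type u} [Field κ]

section Phi

variable (a b c : κ)

noncomputable def PhiA : Fin 2 → MvPowerSeries Unit (AdjoinRoot (qpoly a b c)) :=
  ![PowerSeries.C (AdjoinRoot.root (qpoly a b c)) * PowerSeries.X, PowerSeries.X]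

theorem hasSubst_PhiA : MvPowerSeries.HasSubst (PhiA a b c) := by
  apply MvPowerSeries.hasSubst_of_constantCoeff_zero
  intro s
  fin_cases s
  · show PowerSeries.constantCoeff
      (PowerSeries.C (AdjoinRoot.root (qpoly a b c)) * PowerSeries.X) = 0
    rw [map_mul, PowerSeries.constantCoeff_X, mul_zero]
  · show PowerSeries.constantCoeff (PowerSeries.X : PowerSeries (AdjoinRoot (qpoly a b c))) = 0
    exact PowerSeries.constantCoeff_X

/-- the parametrisation `x ↦ r T`, `y ↦ T` of the node -/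
noncomputable def Phi : MvPowerSeries (Fin 2) κ →ₐ[κ] PowerSeries (AdjoinRoot (qpoly a b c)) :=
  MvPowerSeries.substAlgHom (R := κ) (hasSubst_PhiA a b c)

theorem Phi_X0 : Phi a b c (X 0) =
    PowerSeries.C (AdjoinRoot.root (qpoly a b c)) * PowerSeries.X := by
  unfold Phi
  rw [substAlgHom_X]
  rfl

theorem Phi_X1 : Phi a b c (X 1) = PowerSeries.X := by
  unfold Phi
  rw [substAlgHom_X]
  rfl

theorem Phi_C (s : κ) : Phi a b c (C s) =
    PowerSeries.C (algebraMap κ (AdjoinRoot (qpoly a b c)) s) := by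
  have h1 : (C s : MvPowerSeries (Fin 2) κ) = algebraMap κ (MvPowerSeries (Fin 2) κ) s := by
    rw [c_eq_algebraMap]
  rw [h1, AlgHom.commutes, PowerSeries.algebraMap_apply]

theorem root_eq : algebraMap κ (AdjoinRoot (qpoly a b c)) a * AdjoinRoot.root (qpoly a b c) ^ 2 +
    algebraMap κ (AdjoinRoot (qpoly a b c)) b * AdjoinRoot.root (qpoly a b c) +
    algebraMap κ (AdjoinRoot (qpoly a b c)) c = 0 := by
  have h := AdjoinRoot.eval₂_root (qpoly a b c)
  rw [← AdjoinRoot.algebraMap_eq] at h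
  have h' : Polynomial.eval₂ (algebraMap κ (AdjoinRoot (qpoly a b c)))
      (AdjoinRoot.root (qpoly a b c))
      (Polynomial.C a * Polynomial.X ^ 2 + Polynomial.C b * Polynomial.X + Polynomial.C c) = 0 := h
  simp only [Polynomial.eval₂_add, Polynomial.eval₂_mul, Polynomial.eval₂_C, Polynomial.eval₂_X,
    Polynomial.eval₂_pow] at h'
  exact h'

theorem Phi_Qf : Phi a b c (Qf a b c) = 0 := by
  unfold Qf
  simp only [map_add, map_mul, map_pow, Phi_C, Phi_X0, Phi_X1]
  have h : PowerSeries.C (algebraMap κ (AdjoinRoot (qpoly a b c)) a) *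
      (PowerSeries.C (AdjoinRoot.root (qpoly a b c)) * PowerSeries.X) ^ 2 +
      PowerSeries.C (algebraMap κ (AdjoinRoot (qpoly a b c)) b) *
        (PowerSeries.C (AdjoinRoot.root (qpoly a b c)) * PowerSeries.X) * PowerSeries.X +
      PowerSeries.C (algebraMap κ (AdjoinRoot (qpoly a b c)) c) * PowerSeries.X ^ 2 =
      PowerSeries.X ^ 2 * PowerSeries.C (algebraMap κ (AdjoinRoot (qpoly a b c)) a *
        AdjoinRoot.root (qpoly a b c) ^ 2 +
        algebraMap κ (AdjoinRoot (qpoly a b c)) b * AdjoinRoot.root (qpoly a b c) +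
        algebraMap κ (AdjoinRoot (qpoly a b c)) c) := by
    rw [map_add, map_add, map_mul, map_mul, map_pow]
    ring
  rw [h, root_eq, map_zero, mul_zero]

theorem Phi_sq (g : MvPowerSeries (Fin 2) κ)
    (hg : g ∈ maximalIdeal (MvPowerSeries (Fin 2) κ) ^ 2) :
    ∃ w, Phi a b c g = PowerSeries.X ^ 2 * w := by
  have hm : maximalIdeal (MvPowerSeries (Fin 2) κ) = Ideal.span (Set.range X) :=
    Groth.Agent.Lib.Helper26.PowerSeriesRLR.maximalIdeal_mvPowerSeries κ 2
  have h1 : Ideal.map (Phi a b c) (maximalIdeal (MvPowerSeries (Fin 2) κ)) ≤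
      Ideal.span {(PowerSeries.X : PowerSeries (AdjoinRoot (qpoly a b c)))} := by
    rw [hm, Ideal.map_span, Ideal.span_le]
    rintro _ ⟨_, ⟨i, rfl⟩, rfl⟩
    fin_cases i
    · show Phi a b c (X 0) ∈ _
      rw [Phi_X0]
      exact Ideal.mem_span_singleton'.mpr ⟨_, rfl⟩
    · show Phi a b c (X 1) ∈ _
      rw [Phi_X1]
      exact Ideal.mem_span_singleton_self _
  have h2 : Phi a b c g ∈ Ideal.span {(PowerSeries.X : PowerSeries (AdjoinRoot (qpoly a b c))) ^ 2} := by
    rw [← Ideal.span_singleton_pow]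
    have h3 : Phi a b c g ∈ Ideal.map (Phi a b c) (maximalIdeal (MvPowerSeries (Fin 2) κ) ^ 2) :=
      Ideal.mem_map_of_mem _ hg
    rw [Ideal.map_pow] at h3
    exact Ideal.pow_right_mono h1 2 h3
  obtain ⟨w, hw⟩ := Ideal.mem_span_singleton'.mp h2
  exact ⟨w, by rw [← hw, mul_comm]⟩

end Phi

theorem exists_decomp (g : MvPowerSeries (Fin 2) κ) (hg0 : constantCoeff g = 0) :
    ∃ α β : κ, ∃ g2 ∈ maximalIdeal (MvPowerSeries (Fin 2) κ) ^ 2,
      g = C α * X 0 + C β * X 1 + g2 := by
  classical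
  refine ⟨coeff (Finsupp.single 0 1) g, coeff (Finsupp.single 1 1) g,
    g - (C (coeff (Finsupp.single 0 1) g) * X 0 + C (coeff (Finsupp.single 1 1) g) * X 1),
    ?_, by ring⟩
  rw [mem_pow_iff]
  intro e he
  rw [map_sub, map_add, coeff_C_mul, coeff_C_mul]
  have hd : Finsupp.degree e = 0 ∨ Finsupp.degree e = 1 := by omega
  rcases hd with hd | hd
  · have : e = 0 := (Finsupp.degree_eq_zero_iff e).mp hd
    subst this
    rw [coeff_zero_eq_constantCoeff_apply, hg0, coeff_zero_X, coeff_zero_X, mul_zero, mul_zero,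
      add_zero, sub_zero]
  · obtain ⟨i, rfl⟩ := Groth.Agent.Lib.Helper14.FormalMorse.exists_single_of_degree_eq_one e hd
    fin_cases i
    · show coeff (Finsupp.single 0 1) g - (coeff (Finsupp.single 0 1) g *
        coeff (Finsupp.single 0 1) (X 0 : MvPowerSeries (Fin 2) κ) + coeff (Finsupp.single 1 1) g *
        coeff (Finsupp.single 0 1) (X 1 : MvPowerSeries (Fin 2) κ)) = 0
      rw [coeff_index_single_self_X, coeff_index_single_X, if_neg (by decide)]
      ring
    · show coeff (Finsupp.single 1 1) g - (coeff (Finsupp.single 0 1) g *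
        coeff (Finsupp.single 1 1) (X 0 : MvPowerSeries (Fin 2) κ) + coeff (Finsupp.single 1 1) g *
        coeff (Finsupp.single 1 1) (X 1 : MvPowerSeries (Fin 2) κ)) = 0
      rw [coeff_index_single_self_X, coeff_index_single_X, if_neg (by decide)]
      ring

/-- an element nilpotent modulo the form has no linear part -/
theorem mem_sq_of_pow_mem {a b c : κ} (ha : a ≠ 0) (hD : 4 * a * c - b ^ 2 ≠ 0)
    (g : MvPowerSeries (Fin 2) κ) (n : ℕ) (hg : g ^ n ∈ Ideal.span {Qf a b c}) :
    g ∈ maximalIdeal (MvPowerSeries (Fin 2) κ) ^ 2 := by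
  haveI := isReduced_adjoinRoot a b c hD
  have hgm : g ∈ maximalIdeal (MvPowerSeries (Fin 2) κ) := by
    have h1 : g ^ n ∈ maximalIdeal (MvPowerSeries (Fin 2) κ) :=
      (Ideal.span_le.mpr (Set.singleton_subset_iff.mpr (Qf_mem a b c))) hg
    exact (IsLocalRing.maximalIdeal.isMaximal _).isPrime.mem_of_pow_mem n h1
  have hg0 : constantCoeff g = 0 := by
    have := (Groth.Agent.Lib.Helper7.PowSerCRing.mem_maximalIdeal_iff g).mp hgm
    rwa [IsLocalRing.maximalIdeal_eq_bot, Ideal.mem_bot] at this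
  obtain ⟨α, β, g2, hg2, hdec⟩ := exists_decomp g hg0
  obtain ⟨w, hw⟩ := Phi_sq a b c g2 hg2
  have hpow : (Phi a b c g) ^ n = 0 := by
    rw [← map_pow]
    obtain ⟨h, hh⟩ := Ideal.mem_span_singleton'.mp hg
    rw [← hh, map_mul, Phi_Qf, mul_zero]
  obtain ⟨e, he⟩ : ∃ e : AdjoinRoot (qpoly a b c),
      e = algebraMap κ (AdjoinRoot (qpoly a b c)) α * AdjoinRoot.root (qpoly a b c) +
        algebraMap κ (AdjoinRoot (qpoly a b c)) β := ⟨_, rfl⟩
  have hΦg : Phi a b c g = PowerSeries.X * (PowerSeries.C e + PowerSeries.X * w) := by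
    rw [hdec, map_add, map_add, map_mul, map_mul, Phi_C, Phi_C, Phi_X0, Phi_X1, hw, he, map_add,
      map_mul]
    ring
  have hen : e ^ n = 0 := by
    have h1 := congrArg (PowerSeries.coeff n) hpow
    rw [hΦg, mul_pow, PowerSeries.coeff_X_pow_mul', if_pos le_rfl, Nat.sub_self, map_zero,
      PowerSeries.coeff_zero_eq_constantCoeff_apply, map_pow, map_add, map_mul,
      PowerSeries.constantCoeff_C, PowerSeries.constantCoeff_X, zero_mul, add_zero] at h1
    exact h1
  have he0 : e = 0 := IsReduced.eq_zero _ ⟨n, hen⟩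
  have hmk : e = AdjoinRoot.mk (qpoly a b c) (Polynomial.C α * Polynomial.X + Polynomial.C β) := by
    rw [he, map_add, map_mul, AdjoinRoot.mk_C, AdjoinRoot.mk_C, AdjoinRoot.mk_X,
      AdjoinRoot.algebraMap_eq]
  rw [hmk, AdjoinRoot.mk_eq_zero] at he0
  have hpz : Polynomial.C α * Polynomial.X + Polynomial.C β = 0 := by
    by_contra hne
    have h1 := Polynomial.natDegree_le_of_dvd he0 hne
    have h2 : (qpoly a b c).natDegree = 2 := Polynomial.natDegree_quadratic ha
    have h3 : (Polynomial.C α * Polynomial.X + Polynomial.C β).natDegree ≤ 1 :=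
      Polynomial.natDegree_linear_le
    omega
  have hα : α = 0 := by
    have := congrArg (fun p => Polynomial.coeff p 1) hpz
    simpa using this
  have hβ : β = 0 := by
    have := congrArg (fun p => Polynomial.coeff p 0) hpz
    simpa using this
  rw [hdec, hα, hβ, map_zero, zero_mul, zero_mul, zero_add, zero_add]
  exact hg2

/-- the node is reduced (`a ≠ 0`) -/
theorem isRadical_span_Qf {a b c : κ} (ha : a ≠ 0) (hD : 4 * a * c - b ^ 2 ≠ 0) :
    (Ideal.span {Qf a b c}).IsRadical := by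
  have hR : (Ideal.span {Qf a b c}).radical = Ideal.span {Qf a b c} := by
    apply node_ideal_eq ha _ (Ideal.le_radical (Ideal.mem_span_singleton_self _)) _ (X 1) (X_mem' 1)
    · intro z hz
      obtain ⟨n, hn⟩ := hz
      rw [mul_pow] at hn
      exact ⟨n, mem_span_of_X_pow_mul_mem ha n _ hn⟩
    · intro g hg
      obtain ⟨n, hn⟩ := hg
      exact mem_sq_of_pow_mem ha hD g n hn
  exact hR.le

theorem isReduced_quot_of_ne {a b c : κ} (ha : a ≠ 0) (hD : 4 * a * c - b ^ 2 ≠ 0) :
    IsReduced (MvPowerSeries (Fin 2) κ ⧸ Ideal.span {Qf a b c}) :=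
  (Ideal.isRadical_iff_quotient_reduced _).mp (isRadical_span_Qf ha hD)

end Groth.Agent.Lib.Helper21.RKo
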