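import Mathlib
import Groth.Agent.Lib.Helper21.RKp

/-!
# Linear changes of coordinates for binary quadratic forms; reducedness of a general node
-/

set_option autoImplicit false
set_option linter.style.haveILetI false
set_option linter.unusedSectionVars false
set_option linter.unusedVariables false
set_option linter.unusedSimpArgs false

universe u

namespace Groth.Agent.Lib.Helper21.RKo

open MvPowerSeries IsLocalRing Groth.Agent.Lib.Helper14.FormalIFT

variable {κ : Type u} [Field κ]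

theorem algEquiv_C (θ : MvPowerSeries (Fin 2) κ ≃ₐ[κ] MvPowerSeries (Fin 2) κ) (r : κ) :
    θ (C r) = C r := by
  have h1 : (C r : MvPowerSeries (Fin 2) κ) = algebraMap κ (MvPowerSeries (Fin 2) κ) r := by
    rw [c_eq_algebraMap]
  rw [h1, AlgEquiv.commutes]

theorem algEquiv_Qf (θ : MvPowerSeries (Fin 2) κ ≃ₐ[κ] MvPowerSeries (Fin 2) κ) (a b c : κ) :
    θ (Qf a b c) = C a * θ (X 0) ^ 2 + C b * θ (X 0) * θ (X 1) + C c * θ (X 1) ^ 2 := by
  unfold Qf
  rw [map_add, map_add, map_mul, map_mul, map_mul, map_mul, map_pow, map_pow, algEquiv_C,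
    algEquiv_C, algEquiv_C]

theorem exists_linear (α β γ δ : κ) (hdet : α * δ - β * γ ≠ 0) :
    ∃ θ : MvPowerSeries (Fin 2) κ ≃ₐ[κ] MvPowerSeries (Fin 2) κ,
      θ (X 0) = C α * X 0 + C β * X 1 ∧ θ (X 1) = C γ * X 0 + C δ * X 1 := by
  classical
  obtain ⟨θ, hθ⟩ := exists_algEquiv_of_isLinPart
    (![C α * X 0 + C β * X 1, C γ * X 0 + C δ * X 1] : Fin 2 → MvPowerSeries (Fin 2) κ)
    (by
      intro i
      fin_cases i
      · show constantCoeff (C α * X 0 + C β * X 1 : MvPowerSeries (Fin 2) κ) = 0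
        simp
      · show constantCoeff (C γ * X 0 + C δ * X 1 : MvPowerSeries (Fin 2) κ) = 0
        simp)
    (!![α, β; γ, δ])
    (by
      intro i
      have h0 : (![C α * X 0 + C β * X 1, C γ * X 0 + C δ * X 1] :
          Fin 2 → MvPowerSeries (Fin 2) κ) i - linForm (!![α, β; γ, δ]) i = 0 := by
        fin_cases i <;> simp [linForm, Fin.sum_univ_two]
      rw [h0]
      exact fil_zero_right 2)
    (by
      rw [Matrix.det_fin_two_of]
      exact isUnit_iff_ne_zero.mpr hdet)
  exact ⟨θ, hθ 0, hθ 1⟩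

/-- a nondegenerate binary form can be moved to one with `a ≠ 0` -/
theorem exists_change (a b c : κ) (hD : 4 * a * c - b ^ 2 ≠ 0) :
    ∃ a' b' c' : κ, a' ≠ 0 ∧ 4 * a' * c' - b' ^ 2 ≠ 0 ∧
      ∃ θ : MvPowerSeries (Fin 2) κ ≃ₐ[κ] MvPowerSeries (Fin 2) κ,
        θ (Qf a b c) = Qf a' b' c' := by
  by_cases ha : a = 0
  · subst ha
    have hb : b ≠ 0 := by
      intro hb
      apply hD
      rw [hb]; ring
    by_cases hc : c = 0
    · subst hc
      obtain ⟨θ, h0, h1⟩ := exists_linear (κ := κ) 1 0 1 1 (by norm_num)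
      refine ⟨b, b, 0, hb, ?_, θ, ?_⟩
      · intro h
        apply hD
        have e : (4 * 0 * 0 - b ^ 2 : κ) = 4 * b * 0 - b ^ 2 := by ring
        rw [e]; exact h
      · rw [algEquiv_Qf, h0, h1]
        unfold Qf
        simp only [map_zero, map_one]
        ring
    · obtain ⟨θ, h0, h1⟩ := exists_linear (κ := κ) 0 1 1 0 (by norm_num)
      refine ⟨c, b, 0, hc, ?_, θ, ?_⟩
      · intro h
        apply hD
        have e : (4 * 0 * c - b ^ 2 : κ) = 4 * c * 0 - b ^ 2 := by ring
        rw [e]; exact h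
      · rw [algEquiv_Qf, h0, h1]
        unfold Qf
        simp only [map_zero, map_one]
        ring
  · exact ⟨a, b, c, ha, hD, AlgEquiv.refl, rfl⟩

/-- the quotient rings for forms related by an automorphism are isomorphic -/
noncomputable def quotEquivOfAlgEquiv
    (θ : MvPowerSeries (Fin 2) κ ≃ₐ[κ] MvPowerSeries (Fin 2) κ)
    (F G : MvPowerSeries (Fin 2) κ) (h : θ F = G) :
    (MvPowerSeries (Fin 2) κ ⧸ Ideal.span {F}) ≃+* (MvPowerSeries (Fin 2) κ ⧸ Ideal.span {G}) :=
  Ideal.quotientEquiv _ _ θ.toRingEquiv (by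
    rw [Ideal.map_span, Set.image_singleton]
    show Ideal.span {G} = Ideal.span {θ F}
    rw [h])

theorem quotEquivOfAlgEquiv_mk
    (θ : MvPowerSeries (Fin 2) κ ≃ₐ[κ] MvPowerSeries (Fin 2) κ)
    (F G : MvPowerSeries (Fin 2) κ) (h : θ F = G) (z : MvPowerSeries (Fin 2) κ) :
    quotEquivOfAlgEquiv θ F G h (Ideal.Quotient.mk _ z) = Ideal.Quotient.mk _ (θ z) := rfl

/-- the node is reduced -/
theorem isReduced_quot (a b c : κ) (hD : 4 * a * c - b ^ 2 ≠ 0) :
    IsReduced (MvPowerSeries (Fin 2) κ ⧸ Ideal.span {Qf a b c}) := by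
  obtain ⟨a', b', c', ha', hD', θ, hθ⟩ := exists_change a b c hD
  haveI := isReduced_quot_of_ne ha' hD'
  exact isReduced_of_injective (quotEquivOfAlgEquiv θ _ _ hθ).toRingHom
    (quotEquivOfAlgEquiv θ _ _ hθ).injective

end Groth.Agent.Lib.Helper21.RKo
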