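import Mathlib
import Groth.Agent.Lib.Helper21.RKq
import Groth.Agent.Lib.Helper21.RIa
import Groth.Agent.Lib.Helper8.ComplDim

/-!
# Completion facts and a Cohen presentation adapted to two generators of the maximal ideal
-/

set_option autoImplicit false
set_option linter.style.haveILetI false
set_option linter.unusedSectionVars false
set_option linter.unusedVariables false
set_option linter.unusedSimpArgs false

universe u

namespace Groth.Agent.Lib.Helper21.RKr

open IsLocalRing MvPowerSeries Groth.Agent.Lib.Helper21.RKo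

section compl

variable {A : Type u} [CommRing A] [IsLocalRing A] [IsNoetherianRing A]

theorem algebraMap_mem_pow_iff (n : ℕ) (z : A) :
    algebraMap A (AdicCompletion (maximalIdeal A) A) z ∈
      maximalIdeal (AdicCompletion (maximalIdeal A) A) ^ n ↔ z ∈ maximalIdeal A ^ n := by
  rw [Groth.Agent.Lib.Helper7.ComplLim.mem_maximalIdeal_pow_iff,
    Groth.Agent.Lib.Helper7.ComplLim.evalₐ_algebraMap, Ideal.Quotient.eq_zero_iff_mem]

theorem algebraMap_mem_iff (z : A) :
    algebraMap A (AdicCompletion (maximalIdeal A) A) z ∈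
      maximalIdeal (AdicCompletion (maximalIdeal A) A) ↔ z ∈ maximalIdeal A := by
  have := algebraMap_mem_pow_iff 1 z
  rwa [pow_one, pow_one] at this

theorem algebraMap_injective :
    Function.Injective (algebraMap A (AdicCompletion (maximalIdeal A) A)) := by
  rw [injective_iff_map_eq_zero]
  intro z hz
  have h : ∀ n : ℕ, z ∈ maximalIdeal A ^ n := fun n => by
    rw [← algebraMap_mem_pow_iff, hz]; exact Ideal.zero_mem _
  have hK := Ideal.iInf_pow_eq_bot_of_isLocalRing (maximalIdeal A)
    (IsLocalRing.maximalIdeal.isMaximal A).ne_top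
  have h2 : z ∈ (⨅ i : ℕ, maximalIdeal A ^ i) := Ideal.mem_iInf.mpr h
  rw [hK] at h2
  exact (Ideal.mem_bot).mp h2

theorem span_pair_eq (x y : A) (hx : x ∈ maximalIdeal A) (hy : y ∈ maximalIdeal A)
    (hxy : Ideal.span {x, y} ⊔ maximalIdeal A ^ 2 = maximalIdeal A) :
    Ideal.span {x, y} = maximalIdeal A := by
  apply le_antisymm
  · rw [Ideal.span_le]
    intro z hz
    rcases hz with rfl | hz
    · exact hx
    · rw [Set.mem_singleton_iff] at hz; rw [hz]; exact hy
  · apply Submodule.le_of_le_smul_of_le_jacobson_bot (IsNoetherian.noetherian _)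
      (IsLocalRing.jacobson_eq_maximalIdeal _ bot_ne_top).ge
    exact le_of_eq (by rw [smul_eq_mul, ← pow_two, hxy])

theorem maximalIdeal_compl_eq_span (x y : A) (hspan : Ideal.span {x, y} = maximalIdeal A) :
    maximalIdeal (AdicCompletion (maximalIdeal A) A) =
      Ideal.span {algebraMap A (AdicCompletion (maximalIdeal A) A) x,
        algebraMap A (AdicCompletion (maximalIdeal A) A) y} := by
  calc maximalIdeal (AdicCompletion (maximalIdeal A) A)
      = (maximalIdeal A).map (algebraMap A (AdicCompletion (maximalIdeal A) A)) :=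
        AdicCompletion.maximalIdeal_eq_map
    _ = (Ideal.span {x, y}).map (algebraMap A (AdicCompletion (maximalIdeal A) A)) := by
        rw [hspan]
    _ = _ := by rw [Ideal.map_span, Set.image_pair]

/-- linear independence of `x, y` in the cotangent space -/
theorem mem_of_mul_add_mul_mem_sq
    (hfr : Module.finrank (ResidueField A) (CotangentSpace A) = 2) (x y : A)
    (hx : x ∈ maximalIdeal A) (hy : y ∈ maximalIdeal A)
    (hspan : Ideal.span {x, y} = maximalIdeal A) (p q : A)
    (h : p * x + q * y ∈ maximalIdeal A ^ 2) : p ∈ maximalIdeal A ∧ q ∈ maximalIdeal A := by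
  classical
  let b : Fin 2 → CotangentSpace A :=
    ![(maximalIdeal A).toCotangent ⟨x, hx⟩, (maximalIdeal A).toCotangent ⟨y, hy⟩]
  have hs : Submodule.span A ({⟨x, hx⟩, ⟨y, hy⟩} : Set (maximalIdeal A)) = ⊤ := by
    rw [eq_top_iff]
    rintro ⟨z, hz⟩ -
    have hz' : z ∈ Ideal.span {x, y} := by rw [hspan]; exact hz
    obtain ⟨p', q', hpq⟩ := Ideal.mem_span_pair.mp hz'
    have h1 : (⟨z, hz⟩ : maximalIdeal A) = p' • (⟨x, hx⟩ : maximalIdeal A) + q' • ⟨y, hy⟩ :=
      Subtype.ext (by simp [smul_eq_mul, hpq])
    rw [h1]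
    exact add_mem (Submodule.smul_mem _ _ (Submodule.subset_span (by simp)))
      (Submodule.smul_mem _ _ (Submodule.subset_span (by simp)))
  have hs' := CotangentSpace.span_image_eq_top_iff.mpr hs
  have spans : ⊤ ≤ Submodule.span (ResidueField A) (Set.range b) := by
    rw [← hs']
    apply Submodule.span_mono
    rintro _ ⟨z, hz, rfl⟩
    rcases hz with rfl | hz
    · exact ⟨0, rfl⟩
    · rw [Set.mem_singleton_iff] at hz; rw [hz]; exact ⟨1, rfl⟩
  have hli : LinearIndependent (ResidueField A) b :=
    linearIndependent_of_top_le_span_of_card_eq_finrank spans (by rw [hfr, Fintype.card_fin])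
  rw [Fintype.linearIndependent_iff] at hli
  have hsum : ∑ i, (![residue A p, residue A q] : Fin 2 → ResidueField A) i • b i = 0 := by
    rw [Fin.sum_univ_two]
    show residue A p • (maximalIdeal A).toCotangent ⟨x, hx⟩ +
      residue A q • (maximalIdeal A).toCotangent ⟨y, hy⟩ = 0
    have e1 : residue A p • (maximalIdeal A).toCotangent ⟨x, hx⟩ =
        (maximalIdeal A).toCotangent (p • ⟨x, hx⟩) := by
      rw [map_smul]
      exact (algebraMap_smul (ResidueField A) p _)
    have e2 : residue A q • (maximalIdeal A).toCotangent ⟨y, hy⟩ =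
        (maximalIdeal A).toCotangent (q • ⟨y, hy⟩) := by
      rw [map_smul]
      exact (algebraMap_smul (ResidueField A) q _)
    rw [e1, e2, ← map_add, Ideal.toCotangent_eq_zero]
    simpa [smul_eq_mul] using h
  have h0 := hli _ hsum
  exact ⟨(residue_eq_zero_iff p).mp (h0 0), (residue_eq_zero_iff q).mp (h0 1)⟩

end compl

section pres

variable (k : Type u) [Field k] (A : Type u) [CommRing A] [IsLocalRing A] [IsNoetherianRing A]
  [Algebra k A]

/-- Cohen presentation with prescribed images of the variables -/
theorem exists_pres [Algebra.IsSeparable k (ResidueField A)] (x y : A)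
    (hx : x ∈ maximalIdeal A) (hy : y ∈ maximalIdeal A)
    (hspan : Ideal.span {x, y} = maximalIdeal A) :
    ∃ ψ : MvPowerSeries (Fin 2) (ResidueField A) →ₐ[k] AdicCompletion (maximalIdeal A) A,
      Function.Surjective ψ ∧
      ψ (X 0) = algebraMap A (AdicCompletion (maximalIdeal A) A) x ∧
      ψ (X 1) = algebraMap A (AdicCompletion (maximalIdeal A) A) y ∧
      ∀ a : A, ψ (C (residue A a)) - algebraMap A (AdicCompletion (maximalIdeal A) A) a ∈
        maximalIdeal (AdicCompletion (maximalIdeal A) A) := by
  classical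
  let φ : ResidueField A →ₐ[k] ResidueField (AdicCompletion (maximalIdeal A) A) :=
    { ResidueField.map (algebraMap A (AdicCompletion (maximalIdeal A) A)) with
      commutes' := fun c => by
        show ResidueField.map (algebraMap A (AdicCompletion (maximalIdeal A) A))
          (residue A (algebraMap k A c)) = residue _ (algebraMap k _ c)
        rw [ResidueField.map_residue]
        rfl }
  have hφ : Function.Bijective φ := AdicCompletion.residueField_map_bijective A
  have hφr : ∀ a : A, φ (residue A a) = residue _ (algebraMap A _ a) := fun a => rfl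
  haveI : Algebra.FormallySmooth k (ResidueField A) := by
    haveI := Algebra.FormallyEtale.of_isSeparable k (ResidueField A)
    infer_instance
  let f : ResidueField A →ₐ[k] AdicCompletion (maximalIdeal A) A ⧸
      maximalIdeal (AdicCompletion (maximalIdeal A) A) := φ
  obtain ⟨σ, hσ⟩ := Algebra.FormallySmooth.exists_mkₐ_comp_eq_of_isAdicComplete f
  have hσ' : ∀ z : ResidueField A,
      residue (AdicCompletion (maximalIdeal A) A) (σ z) = φ z := fun z => by
    have := congrArg (fun h => h z) hσ
    exact this
  letI : Algebra (ResidueField A) (AdicCompletion (maximalIdeal A) A) := σ.toRingHom.toAlgebra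
  haveI : IsScalarTower k (ResidueField A) (AdicCompletion (maximalIdeal A) A) :=
    IsScalarTower.of_algebraMap_eq (fun c => (σ.commutes c).symm)
  have hK : Function.Surjective ((residue (AdicCompletion (maximalIdeal A) A)).comp
      (algebraMap (ResidueField A) (AdicCompletion (maximalIdeal A) A))) := by
    intro w
    obtain ⟨z, rfl⟩ := hφ.2 w
    exact ⟨z, hσ' z⟩
  have hxm : algebraMap A (AdicCompletion (maximalIdeal A) A) x ∈
      maximalIdeal (AdicCompletion (maximalIdeal A) A) := (algebraMap_mem_iff x).mpr hx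
  have hym : algebraMap A (AdicCompletion (maximalIdeal A) A) y ∈
      maximalIdeal (AdicCompletion (maximalIdeal A) A) := (algebraMap_mem_iff y).mpr hy
  obtain ⟨ψ, hψ⟩ := Groth.Agent.Lib.Helper26.PowerSeriesRLR.exists_algHom (ResidueField A)
    (![algebraMap A (AdicCompletion (maximalIdeal A) A) x,
      algebraMap A (AdicCompletion (maximalIdeal A) A) y] :
      Fin 2 → AdicCompletion (maximalIdeal A) A)
    (by
      intro i
      fin_cases i
      · exact hxm
      · exact hym)
  have hψ0 : ψ (X 0) = algebraMap A (AdicCompletion (maximalIdeal A) A) x := hψ 0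
  have hψ1 : ψ (X 1) = algebraMap A (AdicCompletion (maximalIdeal A) A) y := hψ 1
  have hψm : ∀ i, ψ (X i) ∈ maximalIdeal (AdicCompletion (maximalIdeal A) A) := by
    intro i
    fin_cases i
    · show ψ (X 0) ∈ _
      rw [hψ0]; exact hxm
    · show ψ (X 1) ∈ _
      rw [hψ1]; exact hym
  have hmax := maximalIdeal_compl_eq_span x y hspan
  have hsurj : Function.Surjective ψ := by
    apply Groth.Agent.Lib.Helper26.PowerSeriesRLR.surjective_of_span_cotangent hK ψ hψm
    have hr : (Set.range fun i : Fin 2 => (maximalIdeal (AdicCompletion (maximalIdeal A) A)).toCotangent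
        ⟨ψ (X i), hψm i⟩) = (maximalIdeal (AdicCompletion (maximalIdeal A) A)).toCotangent ''
        (Set.range fun i : Fin 2 => (⟨ψ (X i), hψm i⟩ :
          maximalIdeal (AdicCompletion (maximalIdeal A) A))) := by
      rw [← Set.range_comp]; rfl
    rw [hr, CotangentSpace.span_image_eq_top_iff, eq_top_iff]
    rintro ⟨z, hz⟩ -
    have hz' : z ∈ Ideal.span {algebraMap A (AdicCompletion (maximalIdeal A) A) x,
        algebraMap A (AdicCompletion (maximalIdeal A) A) y} := by rw [← hmax]; exact hz
    obtain ⟨p', q', hpq⟩ := Ideal.mem_span_pair.mp hz'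
    have h1 : (⟨z, hz⟩ : maximalIdeal (AdicCompletion (maximalIdeal A) A)) =
        p' • (⟨ψ (X 0), hψm 0⟩ : maximalIdeal (AdicCompletion (maximalIdeal A) A)) +
          q' • ⟨ψ (X 1), hψm 1⟩ :=
      Subtype.ext (by simp [smul_eq_mul, hpq, hψ0, hψ1])
    rw [h1]
    exact add_mem (Submodule.smul_mem _ _ (Submodule.subset_span ⟨0, rfl⟩))
      (Submodule.smul_mem _ _ (Submodule.subset_span ⟨1, rfl⟩))
  refine ⟨ψ.restrictScalars k, hsurj, hψ0, hψ1, ?_⟩
  intro a
  rw [← residue_eq_zero_iff, map_sub, sub_eq_zero]
  have h1 : (ψ.restrictScalars k) (C (residue A a)) = σ (residue A a) := by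
    show ψ (C (residue A a)) = _
    have h2 : (C (residue A a) : MvPowerSeries (Fin 2) (ResidueField A)) =
        algebraMap (ResidueField A) _ (residue A a) := by rw [c_eq_algebraMap]
    rw [h2, AlgHom.commutes]
    rfl
  rw [h1, hσ', hφr]

end pres

end Groth.Agent.Lib.Helper21.RKr
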