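import Mathlib
import Groth.Agent.Lib.Helper21.RKr

/-!
# Node criterion: from the algebraic conditions to the completion
-/

set_option autoImplicit false
set_option linter.style.haveILetI false
set_option linter.unusedSectionVars false
set_option linter.unusedVariables false
set_option linter.unusedSimpArgs false

universe u

namespace Groth.Agent.Lib.Helper21.RKr

open IsLocalRing MvPowerSeries Groth.Agent.Lib.Helper21.RKo
open Groth.Agent.Lib.Helper14.FormalIFT Groth.Agent.Lib.Helper14.FormalMorse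

/-- a reduced Noetherian local ring which is not a field has a regular element in `𝔪` -/
theorem exists_regular (A : Type u) [CommRing A] [IsLocalRing A] [IsNoetherianRing A]
    [IsReduced A] (hne : maximalIdeal A ≠ ⊥) :
    ∃ t ∈ maximalIdeal A, ∀ z : A, t * z = 0 → z = 0 := by
  classical
  by_contra hcon
  push Not at hcon
  have hsub : (maximalIdeal A : Set A) ⊆ ⋃ p ∈ associatedPrimes A A, (p : Set A) := by
    rw [biUnion_associatedPrimes_eq_zero_divisors]
    intro t ht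
    obtain ⟨z, hz, hz0⟩ := hcon t ht
    exact ⟨z, hz0, hz⟩
  have hfin := associatedPrimes.finite A A
  have hsub' : (maximalIdeal A : Set A) ⊆
      ⋃ p ∈ (↑hfin.toFinset : Set (Ideal A)), ((id p : Ideal A) : Set A) := by
    intro t ht
    obtain ⟨S, ⟨p, rfl⟩, hS⟩ := hsub ht
    obtain ⟨S', ⟨hp, rfl⟩, hS'⟩ := hS
    exact Set.mem_biUnion (by simpa using hp) hS'
  obtain ⟨p, hp, hmp⟩ := (Ideal.subset_union_prime (s := hfin.toFinset) (f := id) ⊥ ⊥
    (fun i hi _ _ => (hfin.mem_toFinset.mp hi).isPrime)).mp hsub'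
  have hpA : IsAssociatedPrime p A := hfin.mem_toFinset.mp hp
  have hpm : maximalIdeal A = p :=
    (IsLocalRing.maximalIdeal.isMaximal A).eq_of_le hpA.isPrime.ne_top hmp
  obtain ⟨-, z, hz⟩ := isAssociatedPrime_iff.mp hpA
  have hkill : ∀ r ∈ maximalIdeal A, r * z = 0 := by
    intro r hr
    rw [hpm, hz, Submodule.mem_colon_singleton, Submodule.mem_bot] at hr
    exact hr
  have hzm : z ∈ maximalIdeal A := by
    by_contra hzn
    have hu : IsUnit z := by rwa [mem_maximalIdeal, mem_nonunits_iff, not_not] at hzn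
    apply hne
    rw [eq_bot_iff]
    intro r hr
    have := hkill r hr
    rw [Ideal.mem_bot]
    exact (hu.mul_left_eq_zero).mp this
  have hz0 : z = 0 := by
    have h1 := hkill z hzm
    exact IsReduced.eq_zero z ⟨2, by rw [pow_two]; exact h1⟩
  have htop : p = ⊤ := by
    rw [hz, hz0, eq_top_iff]
    intro r _
    rw [Submodule.mem_colon_singleton, smul_zero]
    exact Submodule.zero_mem _
  exact hpA.isPrime.ne_top htop

theorem algEquiv_mem_pow {κ : Type u} [Field κ]
    (Θ : MvPowerSeries (Fin 2) κ ≃ₐ[κ] MvPowerSeries (Fin 2) κ) (n : ℕ)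
    (z : MvPowerSeries (Fin 2) κ) (hz : z ∈ maximalIdeal (MvPowerSeries (Fin 2) κ) ^ n) :
    Θ z ∈ maximalIdeal (MvPowerSeries (Fin 2) κ) ^ n := by
  have hle : Ideal.map Θ (maximalIdeal (MvPowerSeries (Fin 2) κ)) ≤
      maximalIdeal (MvPowerSeries (Fin 2) κ) := by
    rw [Ideal.map_le_iff_le_comap]
    intro w hw
    rw [Ideal.mem_comap, mem_maximalIdeal, mem_nonunits_iff]
    intro hu
    have h1 := hu.map Θ.symm
    rw [AlgEquiv.symm_apply_apply] at h1
    exact ((mem_maximalIdeal w).mp hw) h1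
  have h2 : Θ z ∈ Ideal.map Θ (maximalIdeal (MvPowerSeries (Fin 2) κ) ^ n) :=
    Ideal.mem_map_of_mem _ hz
  rw [Ideal.map_pow] at h2
  exact Ideal.pow_right_mono hle n h2

section dir1

variable (k : Type u) [Field k] (A : Type u) [CommRing A] [IsLocalRing A] [IsNoetherianRing A]
  [Algebra k A]

local notation "Â" => AdicCompletion (IsLocalRing.maximalIdeal A) A
local notation "κ" => IsLocalRing.ResidueField A
local notation "P" => MvPowerSeries (Fin 2) (IsLocalRing.ResidueField A)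
local notation "ι" => algebraMap A (AdicCompletion (IsLocalRing.maximalIdeal A) A)

theorem dir1 [Algebra.IsSeparable k κ] [IsReduced A]
    (hfr : Module.finrank κ (CotangentSpace A) = 2) (x y a b c : A)
    (hx : x ∈ maximalIdeal A) (hy : y ∈ maximalIdeal A)
    (hxy : Ideal.span {x, y} ⊔ maximalIdeal A ^ 2 = maximalIdeal A)
    (hD : residue A (4 * a * c - b ^ 2) ≠ 0)
    (hq : a * x ^ 2 + b * x * y + c * y ^ 2 ∈ maximalIdeal A ^ 3) :
    ∃ a' b' c' : κ, 4 * a' * c' - b' ^ 2 ≠ 0 ∧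
      ∃ e : Â ≃+* (P ⧸ Ideal.span {Qf a' b' c'}),
        ∀ t : k, e (ι (algebraMap k A t)) =
          Ideal.Quotient.mk _ (C (algebraMap A κ (algebraMap k A t))) := by
  classical
  have hspan := span_pair_eq x y hx hy hxy
  obtain ⟨ψ, hsurj, hψ0, hψ1, hψC⟩ := exists_pres k A x y hx hy hspan
  have hmax := maximalIdeal_compl_eq_span x y hspan
  have hxm : ι x ∈ maximalIdeal Â := (algebraMap_mem_iff x).mpr hx
  have hym : ι y ∈ maximalIdeal Â := (algebraMap_mem_iff y).mpr hy
  -- ψ maps 𝔪 onto 𝔪̂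
  have hmapm : Ideal.map ψ (maximalIdeal P) = maximalIdeal Â := by
    rw [Groth.Agent.Lib.Helper26.PowerSeriesRLR.maximalIdeal_mvPowerSeries κ 2, Ideal.map_span,
      ← Set.range_comp, hmax]
    congr 1
    ext w
    constructor
    · rintro ⟨i, rfl⟩
      fin_cases i
      · left; exact hψ0
      · right; exact hψ1
    · rintro (rfl | hw)
      · exact ⟨0, hψ0⟩
      · rw [Set.mem_singleton_iff] at hw; rw [hw]; exact ⟨1, hψ1⟩
  have hmappow : ∀ n : ℕ, Ideal.map ψ (maximalIdeal P ^ n) = maximalIdeal Â ^ n := fun n => by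
    rw [Ideal.map_pow, hmapm]
  have hψpow : ∀ (n : ℕ) (z : P), z ∈ maximalIdeal P ^ n → ψ z ∈ maximalIdeal Â ^ n :=
    fun n z hz => by rw [← hmappow n]; exact Ideal.mem_map_of_mem _ hz
  -- kernel in 𝔪²
  have hker : ∀ f : P, ψ f = 0 → f ∈ maximalIdeal P ^ 2 := by
    intro f hf
    have hfm : f ∈ maximalIdeal P := by
      by_contra hnm
      have hu : IsUnit f := by rwa [mem_maximalIdeal, mem_nonunits_iff, not_not] at hnm
      have h1 := hu.map ψ
      rw [hf] at h1
      exact not_isUnit_zero h1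
    have hf0 : constantCoeff f = 0 := by
      have := (Groth.Agent.Lib.Helper7.PowSerCRing.mem_maximalIdeal_iff f).mp hfm
      rwa [IsLocalRing.maximalIdeal_eq_bot, Ideal.mem_bot] at this
    obtain ⟨α, β, f2, hf2, hdec⟩ := exists_decomp f hf0
    obtain ⟨p, rfl⟩ := residue_surjective α
    obtain ⟨q, rfl⟩ := residue_surjective β
    have h1 : ι (p * x + q * y) ∈ maximalIdeal Â ^ 2 := by
      have e1 : ι (p * x + q * y) = ψ f - ((ψ (C (residue A p)) - ι p) * ι x +
          (ψ (C (residue A q)) - ι q) * ι y + ψ f2) := by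
        rw [hdec]
        simp only [map_add, map_mul, hψ0, hψ1]
        ring
      rw [e1, hf, zero_sub]
      refine (Ideal.neg_mem_iff _).mpr (Ideal.add_mem _ (Ideal.add_mem _ ?_ ?_) (hψpow 2 f2 hf2))
      · rw [pow_two]; exact Ideal.mul_mem_mul (hψC p) hxm
      · rw [pow_two]; exact Ideal.mul_mem_mul (hψC q) hym
    have h2 := (algebraMap_mem_pow_iff 2 _).mp h1
    obtain ⟨hp, hq'⟩ := mem_of_mul_add_mul_mem_sq hfr x y hx hy hspan p q h2
    have hp0 : residue A p = 0 := (residue_eq_zero_iff p).mpr hp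
    have hq0 : residue A q = 0 := (residue_eq_zero_iff q).mpr hq'
    rw [hdec, hp0, hq0, map_zero, zero_mul, zero_mul, zero_add, zero_add]
    exact hf2
  -- the quadratic relation
  have hD' : 4 * residue A a * residue A c - residue A b ^ 2 ≠ 0 := by
    intro h
    apply hD
    rw [map_sub, map_mul, map_mul, map_pow, map_ofNat]
    exact h
  have hQm : ψ (Qf (residue A a) (residue A b) (residue A c)) ∈ maximalIdeal Â ^ 3 := by
    have e1 : ψ (Qf (residue A a) (residue A b) (residue A c)) =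
        ι (a * x ^ 2 + b * x * y + c * y ^ 2) + (ψ (C (residue A a)) - ι a) * ι x ^ 2 +
        (ψ (C (residue A b)) - ι b) * (ι x * ι y) + (ψ (C (residue A c)) - ι c) * ι y ^ 2 := by
      unfold Qf
      simp only [map_add, map_mul, map_pow, hψ0, hψ1]
      ring
    have h3 : maximalIdeal Â ^ 3 = maximalIdeal Â * maximalIdeal Â ^ 2 := pow_succ' _ 2
    rw [e1]
    refine Ideal.add_mem _ (Ideal.add_mem _ (Ideal.add_mem _ ((algebraMap_mem_pow_iff 3 _).mpr hq) ?_) ?_) ?_
    · rw [h3]; exact Ideal.mul_mem_mul (hψC a) (Ideal.pow_mem_pow hxm 2)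
    · rw [h3]; exact Ideal.mul_mem_mul (hψC b) (by rw [pow_two]; exact Ideal.mul_mem_mul hxm hym)
    · rw [h3]; exact Ideal.mul_mem_mul (hψC c) (Ideal.pow_mem_pow hym 2)
  rw [← hmappow 3] at hQm
  obtain ⟨G, hG, hGψ⟩ := (Ideal.mem_map_iff_of_surjective ψ hsurj).mp hQm
  obtain ⟨a', ha'⟩ : ∃ a' : κ, a' = residue A a := ⟨_, rfl⟩
  obtain ⟨b', hb'⟩ : ∃ b' : κ, b' = residue A b := ⟨_, rfl⟩
  obtain ⟨c', hc'⟩ : ∃ c' : κ, c' = residue A c := ⟨_, rfl⟩
  rw [← ha', ← hb', ← hc'] at hD' hGψ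
  have hF : ψ (Qf a' b' c' - G) = 0 := by rw [map_sub, hGψ, sub_self]
  -- Morse
  have hqf : qf (!![a', b'; 0, c'] : Matrix (Fin 2) (Fin 2) κ) Xv = Qf a' b' c' := by
    unfold qf Xv Qf
    simp only [Fin.sum_univ_two, Matrix.of_apply, Matrix.cons_val', Matrix.cons_val_zero,
      Matrix.cons_val_one, Matrix.cons_val_fin_one, map_zero]
    ring
  have hH : IsUnit ((!![a', b'; 0, c'] : Matrix (Fin 2) (Fin 2) κ) +
      (!![a', b'; 0, c'] : Matrix (Fin 2) (Fin 2) κ).transpose).det := by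
    have hM : (!![a', b'; 0, c'] : Matrix (Fin 2) (Fin 2) κ) +
        (!![a', b'; 0, c'] : Matrix (Fin 2) (Fin 2) κ).transpose = !![2 * a', b'; b', 2 * c'] := by
      ext i j
      fin_cases i <;> fin_cases j <;> simp [Matrix.transpose_apply, two_mul]
    rw [hM, Matrix.det_fin_two_of]
    refine isUnit_iff_ne_zero.mpr ?_
    intro h
    apply hD'
    rw [← h]; ring
  have hFil : Fil (2 + 1) (Qf a' b' c' - G - (qf (!![a', b'; 0, c'] : Matrix (Fin 2) (Fin 2) κ) Xv + C 0)) := by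
    rw [hqf, map_zero, add_zero]
    have e1 : Qf a' b' c' - G - Qf a' b' c' = -G := by ring
    rw [e1]
    exact Fil.neg ((mem_pow_iff 3 G).mp hG)
  obtain ⟨χ, -, -, -, hχF⟩ := exists_algEquiv_eq (!![a', b'; 0, c'] : Matrix (Fin 2) (Fin 2) κ)
    hH 2 le_rfl 0 (Qf a' b' c' - G) hFil
  rw [hqf, map_zero, add_zero] at hχF
  obtain ⟨a'', b'', c'', ha'', hD'', θ, hθ⟩ := exists_change a' b' c' hD'
  -- the new presentation
  obtain ⟨Θ, hΘ⟩ : ∃ Θ : P ≃ₐ[κ] P, Θ = χ.trans θ := ⟨_, rfl⟩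
  have hΘF : Θ (Qf a' b' c' - G) = Qf a'' b'' c'' := by
    rw [hΘ]
    show θ (χ (Qf a' b' c' - G)) = _
    rw [hχF, hθ]
  obtain ⟨ψ2, hψ2⟩ : ∃ ψ2 : P →+* Â, ∀ z, ψ2 z = ψ (Θ.symm z) :=
    ⟨(ψ : P →+* Â).comp (Θ.symm : P →+* P), fun z => rfl⟩
  have hsurj2 : Function.Surjective ψ2 := by
    intro w
    obtain ⟨z, rfl⟩ := hsurj w
    exact ⟨Θ z, by rw [hψ2, AlgEquiv.symm_apply_apply]⟩
  have hQ2 : Qf a'' b'' c'' ∈ RingHom.ker ψ2 := by
    rw [RingHom.mem_ker, hψ2, ← hΘF, AlgEquiv.symm_apply_apply, hF]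
  have hI2 : RingHom.ker ψ2 ≤ maximalIdeal P ^ 2 := by
    intro z hz
    rw [RingHom.mem_ker, hψ2] at hz
    have h1 := hker _ hz
    have h2 := algEquiv_mem_pow Θ 2 _ h1
    rwa [AlgEquiv.apply_symm_apply] at h2
  -- a regular element
  have hne : maximalIdeal A ≠ ⊥ := by
    intro h0
    have h1 : Subsingleton (CotangentSpace A) := by
      refine ⟨fun u v => ?_⟩
      obtain ⟨⟨u', hu'⟩, rfl⟩ := Ideal.toCotangent_surjective _ u
      obtain ⟨⟨v', hv'⟩, rfl⟩ := Ideal.toCotangent_surjective _ v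
      rw [h0, Ideal.mem_bot] at hu' hv'
      congr 1
      exact Subtype.ext (hu'.trans hv'.symm)
    have := Module.finrank_zero_of_subsingleton (R := κ) (M := CotangentSpace A)
    omega
  obtain ⟨t, htm, htreg⟩ := exists_regular A hne
  have hreg0 : IsSMulRegular A t := by
    intro z1 z2 h12
    have h12' : t * z1 = t * z2 := h12
    have h3 : t * (z1 - z2) = 0 := by rw [mul_sub, h12', sub_self]
    exact sub_eq_zero.mp (htreg _ h3)
  have hreg1 : IsSMulRegular Â (ι t) := IsSMulRegular.of_flat hreg0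
  have hιt : ∀ w : Â, ι t * w = 0 → w = 0 := by
    intro w hw
    apply hreg1
    show ι t • w = ι t • 0
    rw [smul_eq_mul, smul_eq_mul, hw, mul_zero]
  obtain ⟨t', ht'⟩ := hsurj2 (ι t)
  have ht'm : t' ∈ maximalIdeal P := by
    by_contra hnm
    have hu : IsUnit t' := by rwa [mem_maximalIdeal, mem_nonunits_iff, not_not] at hnm
    have h1 := hu.map ψ2
    rw [ht'] at h1
    have h2 : IsUnit t := (isUnit_map_iff ι t).mp h1
    exact ((mem_maximalIdeal t).mp htm) h2
  have hreg : ∀ z, t' * z ∈ RingHom.ker ψ2 → z ∈ RingHom.ker ψ2 := by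
    intro z hz
    rw [RingHom.mem_ker, map_mul, ht'] at hz
    exact hιt _ hz
  have hIeq := node_ideal_eq ha'' (RingHom.ker ψ2) hQ2 hI2 t' ht'm hreg
  -- the isomorphism
  refine ⟨a'', b'', c'', hD'', ((Ideal.quotEquivOfEq hIeq.symm).trans
    (RingHom.quotientKerEquivOfSurjective hsurj2)).symm, ?_⟩
  intro s
  rw [RingEquiv.symm_apply_eq]
  show ι (algebraMap k A s) = ψ2 (C (algebraMap A κ (algebraMap k A s)))
  rw [hψ2, algEquiv_C]
  have e1 : (C (algebraMap A κ (algebraMap k A s)) : P) = algebraMap k P s := by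
    rw [MvPowerSeries.algebraMap_apply, ← IsScalarTower.algebraMap_apply k A κ]
  rw [e1, AlgHom.commutes]
  rfl

end dir1

end Groth.Agent.Lib.Helper21.RKr
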