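import Mathlib
import Groth.Agent.Lib.Helper21.RKs

/-!
# Node criterion: from the completion to the algebraic conditions
-/

set_option autoImplicit false
set_option linter.style.haveILetI false
set_option linter.unusedSectionVars false
set_option linter.unusedVariables false
set_option linter.unusedSimpArgs false

universe u

namespace Groth.Agent.Lib.Helper21.RKr

open IsLocalRing MvPowerSeries Groth.Agent.Lib.Helper21.RKo Groth.Agent.Lib.Helper21.RIa

section dir2

variable (A : Type u) [CommRing A] [IsLocalRing A] [IsNoetherianRing A]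

local notation "Â" => AdicCompletion (IsLocalRing.maximalIdeal A) A
local notation "κ" => IsLocalRing.ResidueField A
local notation "P" => MvPowerSeries (Fin 2) (IsLocalRing.ResidueField A)
local notation "ι" => algebraMap A (AdicCompletion (IsLocalRing.maximalIdeal A) A)

theorem dir2 (a' b' c' : κ) (hD : 4 * a' * c' - b' ^ 2 ≠ 0)
    (e : Â ≃+* (P ⧸ Ideal.span {Qf a' b' c'})) :
    IsReduced A ∧ Module.finrank κ (CotangentSpace A) = 2 ∧
      ∃ x y a b c : A, x ∈ maximalIdeal A ∧ y ∈ maximalIdeal A ∧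
        Ideal.span {x, y} ⊔ maximalIdeal A ^ 2 = maximalIdeal A ∧
        residue A (4 * a * c - b ^ 2) ≠ 0 ∧
        a * x ^ 2 + b * x * y + c * y ^ 2 ∈ maximalIdeal A ^ 3 := by
  classical
  obtain ⟨π, hπ⟩ : ∃ π : P →+* Â, ∀ z, π z = e.symm (Ideal.Quotient.mk _ z) :=
    ⟨(e.symm.toRingHom).comp (Ideal.Quotient.mk (Ideal.span {Qf a' b' c'})), fun z => rfl⟩
  have hπsurj : Function.Surjective π := by
    intro w
    obtain ⟨z, hz⟩ := Ideal.Quotient.mk_surjective (e w)
    exact ⟨z, by rw [hπ, hz, RingEquiv.symm_apply_apply]⟩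
  have hπker : ∀ z, π z = 0 ↔ z ∈ Ideal.span {Qf a' b' c'} := by
    intro z
    rw [hπ, ← Ideal.Quotient.eq_zero_iff_mem]
    constructor
    · intro h
      have := congrArg e h
      rwa [RingEquiv.apply_symm_apply, map_zero] at this
    · intro h
      rw [h, map_zero]
  have hQle : Ideal.span {Qf a' b' c'} ≤ maximalIdeal P ^ 2 :=
    Ideal.span_le.mpr (Set.singleton_subset_iff.mpr (Qf_mem_sq a' b' c'))
  have hred : IsReduced A := by
    haveI := isReduced_quot a' b' c' hD
    haveI : IsReduced Â := isReduced_of_injective e.toRingHom e.injective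
    exact isReduced_of_injective ι algebraMap_injective
  have hπm : ∀ z, z ∈ maximalIdeal P → π z ∈ maximalIdeal Â := by
    intro z hz
    rw [mem_maximalIdeal, mem_nonunits_iff]
    intro hu
    obtain ⟨w', hw'⟩ := hu.exists_right_inv
    obtain ⟨w, rfl⟩ := hπsurj w'
    have h1 : π (z * w - 1) = 0 := by rw [map_sub, map_mul, hw', map_one, sub_self]
    have h2 : z * w - 1 ∈ maximalIdeal P :=
      Ideal.pow_le_self two_ne_zero (hQle ((hπker _).mp h1))
    have h3 : z * w ∈ maximalIdeal P := Ideal.mul_mem_right _ _ hz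
    have h4 : (1 : P) ∈ maximalIdeal P := by
      have h34 := Ideal.sub_mem _ h3 h2
      rwa [sub_sub_cancel] at h34
    exact (Ideal.ne_top_iff_one _).mp (IsLocalRing.maximalIdeal.isMaximal P).ne_top h4
  have hπm' : ∀ w ∈ maximalIdeal Â, ∃ z ∈ maximalIdeal P, π z = w := by
    intro w hw
    obtain ⟨z, rfl⟩ := hπsurj w
    refine ⟨z, ?_, rfl⟩
    by_contra hnm
    have hu : IsUnit z := by rwa [mem_maximalIdeal, mem_nonunits_iff, not_not] at hnm
    exact ((mem_maximalIdeal _).mp hw) (hu.map π)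
  have hmapm : Ideal.map π (maximalIdeal P) = maximalIdeal Â := by
    apply le_antisymm
    · rw [Ideal.map_le_iff_le_comap]
      intro z hz
      exact hπm z hz
    · intro w hw
      obtain ⟨z, hz, rfl⟩ := hπm' w hw
      exact Ideal.mem_map_of_mem _ hz
  have hmappow : ∀ n : ℕ, Ideal.map π (maximalIdeal P ^ n) = maximalIdeal Â ^ n := fun n => by
    rw [Ideal.map_pow, hmapm]
  have hπpow : ∀ (n : ℕ) (z : P), z ∈ maximalIdeal P ^ n → π z ∈ maximalIdeal Â ^ n :=
    fun n z hz => by rw [← hmappow n]; exact Ideal.mem_map_of_mem _ hz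
  have hpre2 : ∀ z, π z ∈ maximalIdeal Â ^ 2 → z ∈ maximalIdeal P ^ 2 := by
    intro z hz
    rw [← hmappow 2] at hz
    obtain ⟨w, hw, hwz⟩ := (Ideal.mem_map_iff_of_surjective π hπsurj).mp hz
    have h1 : π (z - w) = 0 := by rw [map_sub, hwz, sub_self]
    have h2 := hQle ((hπker _).mp h1)
    have h3 : z = (z - w) + w := by ring
    rw [h3]
    exact Ideal.add_mem _ h2 hw
  -- the elements
  obtain ⟨uh, huh⟩ : ∃ uh : Â, uh = π (X 0) := ⟨_, rfl⟩
  obtain ⟨vh, hvh⟩ : ∃ vh : Â, vh = π (X 1) := ⟨_, rfl⟩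
  obtain ⟨ah, hah⟩ : ∃ ah : Â, ah = π (C a') := ⟨_, rfl⟩
  obtain ⟨bh, hbh⟩ : ∃ bh : Â, bh = π (C b') := ⟨_, rfl⟩
  obtain ⟨ch, hch⟩ : ∃ ch : Â, ch = π (C c') := ⟨_, rfl⟩
  have huhm : uh ∈ maximalIdeal Â := by rw [huh]; exact hπm _ (X_mem' 0)
  have hvhm : vh ∈ maximalIdeal Â := by rw [hvh]; exact hπm _ (X_mem' 1)
  obtain ⟨x, hxδ⟩ := exists_sub_algebraMap_mem_pow uh 2
  obtain ⟨y, hyδ⟩ := exists_sub_algebraMap_mem_pow vh 2
  obtain ⟨a, haδ⟩ := exists_sub_algebraMap_mem_pow ah 1
  obtain ⟨b, hbδ⟩ := exists_sub_algebraMap_mem_pow bh 1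
  obtain ⟨c, hcδ⟩ := exists_sub_algebraMap_mem_pow ch 1
  rw [pow_one] at haδ hbδ hcδ
  have hxm' : ι x ∈ maximalIdeal Â := by
    have h1 : ι x = uh - (uh - ι x) := by ring
    rw [h1]
    exact Ideal.sub_mem _ huhm (Ideal.pow_le_self two_ne_zero hxδ)
  have hym' : ι y ∈ maximalIdeal Â := by
    have h1 : ι y = vh - (vh - ι y) := by ring
    rw [h1]
    exact Ideal.sub_mem _ hvhm (Ideal.pow_le_self two_ne_zero hyδ)
  have hx : x ∈ maximalIdeal A := (algebraMap_mem_iff x).mp hxm'
  have hy : y ∈ maximalIdeal A := (algebraMap_mem_iff y).mp hym'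
  have hrel : ah * uh ^ 2 + bh * uh * vh + ch * vh ^ 2 = 0 := by
    have h := (hπker (Qf a' b' c')).mpr (Ideal.mem_span_singleton_self _)
    unfold Qf at h
    simp only [map_add, map_mul, map_pow] at h
    rw [huh, hvh, hah, hbh, hch]
    exact h
  have h3 : maximalIdeal Â ^ 3 = maximalIdeal Â * maximalIdeal Â ^ 2 := pow_succ' _ 2
  have h3' : maximalIdeal Â ^ 3 = maximalIdeal Â ^ 2 * maximalIdeal Â := pow_succ _ 2
  have h2 : maximalIdeal Â ^ 2 = maximalIdeal Â * maximalIdeal Â := pow_two _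
  -- the quadratic relation in A
  have hq : a * x ^ 2 + b * x * y + c * y ^ 2 ∈ maximalIdeal A ^ 3 := by
    rw [← algebraMap_mem_pow_iff]
    have e1 : ι (a * x ^ 2 + b * x * y + c * y ^ 2) = (ah * uh ^ 2 + bh * uh * vh + ch * vh ^ 2) -
        ((ah - ι a) * ι x ^ 2 + ah * ((uh - ι x) * (ι x + uh)) + (bh - ι b) * (ι x * ι y) +
          bh * (ι x * (vh - ι y) + (uh - ι x) * vh) + (ch - ι c) * ι y ^ 2 +
          ch * ((vh - ι y) * (ι y + vh))) := by
      simp only [map_add, map_mul, map_pow]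
      ring
    rw [e1, hrel, zero_sub]
    refine (Ideal.neg_mem_iff _).mpr (Ideal.add_mem _ (Ideal.add_mem _ (Ideal.add_mem _
      (Ideal.add_mem _ (Ideal.add_mem _ ?_ ?_) ?_) ?_) ?_) ?_)
    · rw [h3]; exact Ideal.mul_mem_mul haδ (Ideal.pow_mem_pow hxm' 2)
    · refine Ideal.mul_mem_left _ _ ?_
      rw [h3']; exact Ideal.mul_mem_mul hxδ (Ideal.add_mem _ hxm' huhm)
    · rw [h3, h2]; exact Ideal.mul_mem_mul hbδ (Ideal.mul_mem_mul hxm' hym')
    · refine Ideal.mul_mem_left _ _ (Ideal.add_mem _ ?_ ?_)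
      · rw [h3]; exact Ideal.mul_mem_mul hxm' hyδ
      · rw [h3']; exact Ideal.mul_mem_mul hxδ hvhm
    · rw [h3]; exact Ideal.mul_mem_mul hcδ (Ideal.pow_mem_pow hym' 2)
    · refine Ideal.mul_mem_left _ _ ?_
      rw [h3']; exact Ideal.mul_mem_mul hyδ (Ideal.add_mem _ hym' hvhm)
  -- the discriminant
  have hdisc : residue A (4 * a * c - b ^ 2) ≠ 0 := by
    have hu : IsUnit (π (C (4 * a' * c' - b' ^ 2))) :=
      ((isUnit_iff_ne_zero.mpr hD).map C).map π
    have hu' : π (C (4 * a' * c' - b' ^ 2)) = 4 * ah * ch - bh ^ 2 := by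
      rw [hah, hbh, hch]
      simp only [map_sub, map_mul, map_pow, map_ofNat]
    intro hres
    have h1 : 4 * a * c - b ^ 2 ∈ maximalIdeal A := (residue_eq_zero_iff _).mp hres
    have h1' : ι (4 * a * c - b ^ 2) ∈ maximalIdeal Â := (algebraMap_mem_iff _).mpr h1
    have e2 : 4 * ah * ch - bh ^ 2 = ι (4 * a * c - b ^ 2) +
        (4 * ((ah - ι a) * ch + ι a * (ch - ι c)) - (bh - ι b) * (bh + ι b)) := by
      simp only [map_sub, map_mul, map_pow, map_ofNat]
      ring
    have h4 : 4 * ah * ch - bh ^ 2 ∈ maximalIdeal Â := by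
      rw [e2]
      exact Ideal.add_mem _ h1' (Ideal.sub_mem _ (Ideal.mul_mem_left _ _
        (Ideal.add_mem _ (Ideal.mul_mem_right _ _ haδ) (Ideal.mul_mem_left _ _ hcδ)))
        (Ideal.mul_mem_right _ _ hbδ))
    rw [← hu'] at h4
    exact ((mem_maximalIdeal _).mp h4) hu
  -- generation
  have hS : Ideal.span {x, y} ⊔ maximalIdeal A ^ 2 = maximalIdeal A := by
    apply le_antisymm
    · refine sup_le ?_ (Ideal.pow_le_self two_ne_zero)
      rw [Ideal.span_le]
      intro z hz
      rcases hz with rfl | hz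
      · exact hx
      · rw [Set.mem_singleton_iff] at hz; rw [hz]; exact hy
    · intro z hz
      have hz' : ι z ∈ maximalIdeal Â := (algebraMap_mem_iff z).mpr hz
      obtain ⟨w, hw, hwz⟩ := hπm' _ hz'
      have hw0 : constantCoeff w = 0 := by
        have := (Groth.Agent.Lib.Helper7.PowSerCRing.mem_maximalIdeal_iff w).mp hw
        rwa [IsLocalRing.maximalIdeal_eq_bot, Ideal.mem_bot] at this
      obtain ⟨α, β, w2, hw2, hdec⟩ := exists_decomp w hw0
      obtain ⟨p, hpδ⟩ := exists_sub_algebraMap_mem_pow (π (C α)) 1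
      obtain ⟨q, hqδ⟩ := exists_sub_algebraMap_mem_pow (π (C β)) 1
      rw [pow_one] at hpδ hqδ
      have h1 : ι (z - (p * x + q * y)) ∈ maximalIdeal Â ^ 2 := by
        have e3 : ι (z - (p * x + q * y)) = (π (C α) - ι p) * uh + ι p * (uh - ι x) +
            ((π (C β) - ι q) * vh + ι q * (vh - ι y)) + π w2 := by
          rw [map_sub, ← hwz, hdec]
          simp only [map_add, map_mul, ← huh, ← hvh]
          ring
        rw [e3]
        refine Ideal.add_mem _ (Ideal.add_mem _ (Ideal.add_mem _ ?_ ?_) (Ideal.add_mem _ ?_ ?_))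
          (hπpow 2 w2 hw2)
        · rw [h2]; exact Ideal.mul_mem_mul hpδ huhm
        · exact Ideal.mul_mem_left _ _ hxδ
        · rw [h2]; exact Ideal.mul_mem_mul hqδ hvhm
        · exact Ideal.mul_mem_left _ _ hyδ
      have h1' := (algebraMap_mem_pow_iff 2 _).mp h1
      have h5 : z = (p * x + q * y) + (z - (p * x + q * y)) := by ring
      rw [h5]
      exact Submodule.add_mem_sup (Ideal.mem_span_pair.mpr ⟨p, q, rfl⟩) h1'
  have hspan := span_pair_eq x y hx hy hS
  -- independence
  have hind : ∀ p q : A, p * x + q * y ∈ maximalIdeal A ^ 2 →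
      p ∈ maximalIdeal A ∧ q ∈ maximalIdeal A := by
    intro p q hpq
    have h1 : ι (p * x + q * y) ∈ maximalIdeal Â ^ 2 := (algebraMap_mem_pow_iff 2 _).mpr hpq
    obtain ⟨p', hp'⟩ := hπsurj (ι p)
    obtain ⟨q', hq'⟩ := hπsurj (ι q)
    have h4 : π (p' * X 0 + q' * X 1) ∈ maximalIdeal Â ^ 2 := by
      have e4 : π (p' * X 0 + q' * X 1) = ι (p * x + q * y) +
          (ι p * (uh - ι x) + ι q * (vh - ι y)) := by
        simp only [map_add, map_mul, hp', hq', ← huh, ← hvh]
        ring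
      rw [e4]
      exact Ideal.add_mem _ h1 (Ideal.add_mem _ (Ideal.mul_mem_left _ _ hxδ)
        (Ideal.mul_mem_left _ _ hyδ))
    have h5 := hpre2 _ h4
    rw [mem_pow_iff] at h5
    have hn01 : ¬ (Finsupp.single (1 : Fin 2) 1 ≤ Finsupp.single (0 : Fin 2) 1) := by
      intro h
      have := h 1
      simp at this
    have hn10 : ¬ (Finsupp.single (0 : Fin 2) 1 ≤ Finsupp.single (1 : Fin 2) 1) := by
      intro h
      have := h 0
      simp at this
    have c0 := h5 (Finsupp.single 0 1) (by rw [Finsupp.degree_single]; norm_num)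
    have c1 := h5 (Finsupp.single 1 1) (by rw [Finsupp.degree_single]; norm_num)
    rw [map_add, X_def, X_def, coeff_mul_monomial, coeff_mul_monomial, if_pos le_rfl,
      if_neg hn01, tsub_self, mul_one, add_zero, coeff_zero_eq_constantCoeff_apply] at c0
    rw [map_add, X_def, X_def, coeff_mul_monomial, coeff_mul_monomial, if_neg hn10,
      if_pos le_rfl, tsub_self, mul_one, zero_add, coeff_zero_eq_constantCoeff_apply] at c1
    have hp'm : p' ∈ maximalIdeal P := by
      rw [Groth.Agent.Lib.Helper7.PowSerCRing.mem_maximalIdeal_iff, c0]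
      exact Ideal.zero_mem _
    have hq'm : q' ∈ maximalIdeal P := by
      rw [Groth.Agent.Lib.Helper7.PowSerCRing.mem_maximalIdeal_iff, c1]
      exact Ideal.zero_mem _
    constructor
    · rw [← algebraMap_mem_iff, ← hp']; exact hπm _ hp'm
    · rw [← algebraMap_mem_iff, ← hq']; exact hπm _ hq'm
  -- finrank
  have hfr : Module.finrank κ (CotangentSpace A) = 2 := by
    let bb : Fin 2 → CotangentSpace A :=
      ![(maximalIdeal A).toCotangent ⟨x, hx⟩, (maximalIdeal A).toCotangent ⟨y, hy⟩]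
    have hs : Submodule.span A ({⟨x, hx⟩, ⟨y, hy⟩} : Set (maximalIdeal A)) = ⊤ := by
      rw [eq_top_iff]
      rintro ⟨z, hz⟩ -
      have hz' : z ∈ Ideal.span {x, y} := by rw [hspan]; exact hz
      obtain ⟨p', q', hpq⟩ := Ideal.mem_span_pair.mp hz'
      have h1 : (⟨z, hz⟩ : maximalIdeal A) = p' • (⟨x, hx⟩ : maximalIdeal A) + q' • ⟨y, hy⟩ :=
        Subtype.ext (by simp [smul_eq_mul, hpq])
      rw [h1]
      exact add_mem (Submodule.smul_mem _ _ (Submodule.subset_span (by simp)))
        (Submodule.smul_mem _ _ (Submodule.subset_span (by simp)))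
    have hs' := CotangentSpace.span_image_eq_top_iff.mpr hs
    have spans : ⊤ ≤ Submodule.span κ (Set.range bb) := by
      rw [← hs']
      apply Submodule.span_mono
      rintro _ ⟨z, hz, rfl⟩
      rcases hz with rfl | hz
      · exact ⟨0, rfl⟩
      · rw [Set.mem_singleton_iff] at hz; rw [hz]; exact ⟨1, rfl⟩
    have hli : LinearIndependent κ bb := by
      rw [Fintype.linearIndependent_iff]
      intro g hg
      obtain ⟨p, hp⟩ := residue_surjective (g 0)
      obtain ⟨q, hq'⟩ := residue_surjective (g 1)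
      rw [Fin.sum_univ_two] at hg
      have hg' : residue A p • (maximalIdeal A).toCotangent ⟨x, hx⟩ +
          residue A q • (maximalIdeal A).toCotangent ⟨y, hy⟩ = 0 := by
        rw [hp, hq']; exact hg
      have e1 : residue A p • (maximalIdeal A).toCotangent ⟨x, hx⟩ =
          (maximalIdeal A).toCotangent (p • ⟨x, hx⟩) := by
        rw [map_smul]
        exact (algebraMap_smul κ p _)
      have e2 : residue A q • (maximalIdeal A).toCotangent ⟨y, hy⟩ =
          (maximalIdeal A).toCotangent (q • ⟨y, hy⟩) := by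
        rw [map_smul]
        exact (algebraMap_smul κ q _)
      rw [e1, e2, ← map_add, Ideal.toCotangent_eq_zero] at hg'
      have hg'' : p * x + q * y ∈ maximalIdeal A ^ 2 := by simpa [smul_eq_mul] using hg'
      obtain ⟨hpm, hqm⟩ := hind p q hg''
      intro i
      fin_cases i
      · show g 0 = 0
        rw [← hp]; exact (residue_eq_zero_iff p).mpr hpm
      · show g 1 = 0
        rw [← hq']; exact (residue_eq_zero_iff q).mpr hqm
    have hb := Module.finrank_eq_card_basis (Module.Basis.mk hli spans)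
    rw [hb, Fintype.card_fin]
  exact ⟨hred, hfr, x, y, a, b, c, hx, hy, hS, hdisc, hq⟩

end dir2

end Groth.Agent.Lib.Helper21.RKr
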