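import Mathlib
import Groth.Prelude.Def_Fitting
import Groth.Agent.Lib.Helper14.FormalIFT
import Groth.Agent.Lib.Helper18.FittLib3
import Groth.Agent.Lib.Helper21.RKf

/-!
# Jacobian matrices of presentations of quotients of power series rings (helper21)

* `chain_rule`: chain rule for algebra maps between power series rings in different variables;
* `exists_lift`: lifting between two presentations `k[[x]] → S ← k[[y]]`;
* `nonempty_equiv`: the cokernel of the Jacobian matrix does not depend on the presentation;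
* `minor_eq`: the ideals of minors (Fitting ideals) of the Jacobian matrices agree.
-/

set_option autoImplicit false
set_option linter.style.haveILetI false
set_option linter.unusedSectionVars false
set_option linter.unusedVariables false
set_option linter.unusedSimpArgs false

namespace Groth.Agent.Lib.Helper21.RKu

open MvPowerSeries IsLocalRing Finsupp Groth.Agent.Lib.Helper14.FormalIFT

universe u

section chain

variable {σ τ R : Type*} [CommRing R] [Fintype σ] [DecidableEq σ]

theorem fil_map' (φ : MvPowerSeries σ R →ₐ[R] MvPowerSeries τ R)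
    (h0 : ∀ i, constantCoeff (φ (X i)) = 0) :
    ∀ (k : ℕ) (f : MvPowerSeries σ R), Fil k f → Fil k (φ f) := by
  intro k
  induction k with
  | zero => intro f _; exact fil_zero_left _
  | succ k ih =>
    intro f hf
    obtain ⟨g, hg, hsum⟩ := exists_decomp (Finset.univ : Finset σ) k f hf (by
      intro m hm
      have : m = 0 := by
        ext i; simpa using hm i (Finset.mem_univ i)
      rw [this]
      exact hf 0 (by simp))
    rw [hsum, map_sum]
    apply Fil.sum
    intro i _
    rw [map_mul]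
    exact ((fil_one_of_constantCoeff (h0 i)).mul (ih _ (hg i))).cast (Nat.add_comm 1 k)

variable (Ψ : MvPowerSeries σ R →ₐ[R] MvPowerSeries τ R) (i : τ)

/-- the defect of the chain rule -/
noncomputable def chainErr (G : MvPowerSeries σ R) : MvPowerSeries τ R :=
  pderiv R i (Ψ G) - ∑ j, Ψ (pderiv R j G) * pderiv R i (Ψ (X j))

theorem chainErr_add (G H : MvPowerSeries σ R) :
    chainErr Ψ i (G + H) = chainErr Ψ i G + chainErr Ψ i H := by
  simp only [chainErr, map_add, add_mul, Finset.sum_add_distrib]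
  abel

theorem chainErr_C (a : R) : chainErr Ψ i (C a) = 0 := by
  have hC : (C a : MvPowerSeries σ R) = algebraMap R (MvPowerSeries σ R) a := by
    rw [MvPowerSeries.algebraMap_apply]; rfl
  have hC' : algebraMap R (MvPowerSeries τ R) a = (C a : MvPowerSeries τ R) := by
    rw [MvPowerSeries.algebraMap_apply]; rfl
  have hΨ : Ψ (C a) = C a := by rw [hC, Ψ.commutes, hC']
  simp only [chainErr, hΨ, pderiv_C, map_zero, zero_mul, Finset.sum_const_zero, sub_zero]

theorem chainErr_mul_X (P : MvPowerSeries σ R) (l : σ) :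
    chainErr Ψ i (P * X l) = Ψ (X l) * chainErr Ψ i P := by
  have h1 : ∀ j, Ψ (pderiv R j (P * X l)) * pderiv R i (Ψ (X j)) =
      (if j = l then Ψ P * pderiv R i (Ψ (X l)) else 0) +
        Ψ (X l) * (Ψ (pderiv R j P) * pderiv R i (Ψ (X j))) := by
    intro j
    rw [Derivation.leibniz, smul_eq_mul, smul_eq_mul, map_add, map_mul, map_mul]
    by_cases hjl : j = l
    · subst hjl
      rw [pderiv_X_self, map_one, mul_one, if_pos rfl]; ring
    · rw [pderiv_X_of_ne (Ne.symm hjl), map_zero, mul_zero, if_neg hjl]; ring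
  have key : ∑ j, Ψ (pderiv R j (P * X l)) * pderiv R i (Ψ (X j)) =
      Ψ P * pderiv R i (Ψ (X l)) +
        Ψ (X l) * ∑ j, Ψ (pderiv R j P) * pderiv R i (Ψ (X j)) := by
    rw [Finset.sum_congr rfl (fun j _ => h1 j), Finset.sum_add_distrib, Finset.sum_ite_eq',
      if_pos (Finset.mem_univ l), Finset.mul_sum]
  rw [chainErr, key, map_mul, Derivation.leibniz, smul_eq_mul, smul_eq_mul, chainErr]
  ring

theorem chainErr_coe (p : MvPolynomial σ R) : chainErr Ψ i (p : MvPowerSeries σ R) = 0 := by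
  induction p using MvPolynomial.induction_on with
  | C a => rw [MvPolynomial.coe_C]; exact chainErr_C Ψ i a
  | add p q hp hq => rw [MvPolynomial.coe_add, chainErr_add, hp, hq, add_zero]
  | mul_X p l hp => rw [MvPolynomial.coe_mul, MvPolynomial.coe_X, chainErr_mul_X, hp, mul_zero]

theorem fil_chainErr (h0 : ∀ j, constantCoeff (Ψ (X j)) = 0) {n : ℕ} {G : MvPowerSeries σ R}
    (hG : Fil (n + 1) G) : Fil n (chainErr Ψ i G) := by
  apply Fil.sub
  · exact Groth.Agent.Lib.Helper21.RKf.fil_pderiv (fil_map' Ψ h0 (n + 1) G hG) i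
  · apply Fil.sum
    intro j _
    have := (fil_map' Ψ h0 n _ (Groth.Agent.Lib.Helper21.RKf.fil_pderiv hG j)).mul
      (fil_zero_left (pderiv R i (Ψ (X j))))
    rwa [add_zero] at this

/-- the chain rule for algebra maps of power series rings -/
theorem chain_rule (h0 : ∀ j, constantCoeff (Ψ (X j)) = 0) (G : MvPowerSeries σ R) :
    pderiv R i (Ψ G) = ∑ j, Ψ (pderiv R j G) * pderiv R i (Ψ (X j)) := by
  have key : chainErr Ψ i G = 0 := by
    apply eq_zero_of_forall_fil
    intro n
    have e : chainErr Ψ i G =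
        chainErr Ψ i (G - ((truncTotal (n + 1) G : MvPolynomial σ R) : MvPowerSeries σ R)) := by
      have h2 := chainErr_add Ψ i ((truncTotal (n + 1) G : MvPolynomial σ R) : MvPowerSeries σ R)
        (G - ((truncTotal (n + 1) G : MvPolynomial σ R) : MvPowerSeries σ R))
      rw [add_sub_cancel, chainErr_coe, zero_add] at h2
      exact h2
    rw [e]
    exact fil_chainErr Ψ i h0 (fil_sub_truncTotal (n + 1) G)
  rw [chainErr, sub_eq_zero] at key
  exact key

end chain

section dmach

variable {k : Type u} [Field k] {S : Type u} [CommRing S] [Algebra k S]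

/-- the gradient of a power series pushed to `S` -/
noncomputable def dd {N : ℕ} (π : MvPowerSeries (Fin N) k →ₐ[k] S)
    (h : MvPowerSeries (Fin N) k) : Fin N → S := fun i => π (pderiv k i h)

theorem dd_add {N : ℕ} (π : MvPowerSeries (Fin N) k →ₐ[k] S) (h h' : MvPowerSeries (Fin N) k) :
    dd π (h + h') = dd π h + dd π h' := by
  funext i
  simp only [dd, map_add, Pi.add_apply]

theorem dd_sub {N : ℕ} (π : MvPowerSeries (Fin N) k →ₐ[k] S) (h h' : MvPowerSeries (Fin N) k) :
    dd π (h - h') = dd π h - dd π h' := by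
  funext i
  simp only [dd, map_sub, Pi.sub_apply]

theorem dd_zero {N : ℕ} (π : MvPowerSeries (Fin N) k →ₐ[k] S) :
    dd π (0 : MvPowerSeries (Fin N) k) = 0 := by
  funext i
  simp only [dd, map_zero, Pi.zero_apply]

theorem dd_mul {N : ℕ} (π : MvPowerSeries (Fin N) k →ₐ[k] S) (c h : MvPowerSeries (Fin N) k) :
    dd π (c * h) = π c • dd π h + π h • dd π c := by
  funext i
  simp only [dd, Pi.add_apply, Pi.smul_apply, smul_eq_mul]
  rw [Derivation.leibniz, smul_eq_mul, smul_eq_mul, map_add, map_mul, map_mul]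

theorem dd_X {N : ℕ} (π : MvPowerSeries (Fin N) k →ₐ[k] S) (i : Fin N) :
    dd π (X i) = Pi.single i 1 := by
  funext j
  simp only [dd]
  by_cases hij : j = i
  · subst hij
    rw [pderiv_X_self, map_one, Pi.single_eq_same]
  · rw [pderiv_X_of_ne (Ne.symm hij), map_zero, Pi.single_eq_of_ne hij]

/-- the module of relations spanned by the rows of the Jacobian matrix -/
def Rel {N : ℕ} {ι : Type*} (π : MvPowerSeries (Fin N) k →ₐ[k] S)
    (f : ι → MvPowerSeries (Fin N) k) : Submodule S (Fin N → S) :=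
  Submodule.span S (Set.range fun j => dd π (f j))

theorem dd_mem_Rel {N : ℕ} {ι : Type*} (π : MvPowerSeries (Fin N) k →ₐ[k] S)
    (f : ι → MvPowerSeries (Fin N) k)
    (hker : Ideal.span (Set.range f) ≤ RingHom.ker π) (h : MvPowerSeries (Fin N) k)
    (hh : h ∈ Ideal.span (Set.range f)) : dd π h ∈ Rel π f := by
  induction hh using Submodule.span_induction with
  | mem x hx =>
    obtain ⟨j, rfl⟩ := hx
    exact Submodule.subset_span ⟨j, rfl⟩
  | zero => rw [dd_zero]; exact Submodule.zero_mem _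
  | add x y hx hy ihx ihy => rw [dd_add]; exact Submodule.add_mem _ ihx ihy
  | smul c x hx ih =>
    rw [smul_eq_mul, dd_mul]
    have h0 : π x = 0 := RingHom.mem_ker.mp (hker hx)
    rw [h0, zero_smul, add_zero]
    exact Submodule.smul_mem _ _ ih

/-- the linear map induced on gradients by a map of power series rings -/
noncomputable def T {N N' : ℕ} (π' : MvPowerSeries (Fin N') k →ₐ[k] S)
    (φ : MvPowerSeries (Fin N) k →ₐ[k] MvPowerSeries (Fin N') k) :
    (Fin N → S) →ₗ[S] (Fin N' → S) :=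
  Fintype.linearCombination S (fun i => dd π' (φ (X i)))

theorem T_apply {N N' : ℕ} (π' : MvPowerSeries (Fin N') k →ₐ[k] S)
    (φ : MvPowerSeries (Fin N) k →ₐ[k] MvPowerSeries (Fin N') k) (v : Fin N → S) :
    T π' φ v = ∑ i, v i • dd π' (φ (X i)) := by
  rw [T, Fintype.linearCombination_apply]

theorem T_dd {N N' : ℕ} (π : MvPowerSeries (Fin N) k →ₐ[k] S)
    (π' : MvPowerSeries (Fin N') k →ₐ[k] S)
    (φ : MvPowerSeries (Fin N) k →ₐ[k] MvPowerSeries (Fin N') k)
    (hφ0 : ∀ i, constantCoeff (φ (X i)) = 0) (hc : ∀ z, π' (φ z) = π z)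
    (h : MvPowerSeries (Fin N) k) : T π' φ (dd π h) = dd π' (φ h) := by
  classical
  funext l
  rw [T_apply, Finset.sum_apply]
  simp only [Pi.smul_apply, smul_eq_mul, dd]
  rw [chain_rule φ l hφ0 h, map_sum]
  refine Finset.sum_congr rfl fun i _ => ?_
  rw [map_mul, hc]

theorem T_Rel_le {N N' : ℕ} {ι ι' : Type*} (π : MvPowerSeries (Fin N) k →ₐ[k] S)
    (π' : MvPowerSeries (Fin N') k →ₐ[k] S)
    (f : ι → MvPowerSeries (Fin N) k) (f' : ι' → MvPowerSeries (Fin N') k)
    (φ : MvPowerSeries (Fin N) k →ₐ[k] MvPowerSeries (Fin N') k)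
    (hφ0 : ∀ i, constantCoeff (φ (X i)) = 0) (hc : ∀ z, π' (φ z) = π z)
    (hkf : ∀ j, π (f j) = 0) (hker' : RingHom.ker π' = Ideal.span (Set.range f')) :
    Rel π f ≤ (Rel π' f').comap (T π' φ) := by
  rw [Rel, Submodule.span_le]
  rintro _ ⟨j, rfl⟩
  show T π' φ (dd π (f j)) ∈ Rel π' f'
  rw [T_dd π π' φ hφ0 hc]
  apply dd_mem_Rel π' f' hker'.ge
  rw [← hker', RingHom.mem_ker, hc, hkf j]

theorem T_T_sub_mem {N N' : ℕ} {ι : Type*} (π : MvPowerSeries (Fin N) k →ₐ[k] S)
    (π' : MvPowerSeries (Fin N') k →ₐ[k] S) (f : ι → MvPowerSeries (Fin N) k)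
    (hker : RingHom.ker π = Ideal.span (Set.range f))
    (φ : MvPowerSeries (Fin N) k →ₐ[k] MvPowerSeries (Fin N') k)
    (ψ : MvPowerSeries (Fin N') k →ₐ[k] MvPowerSeries (Fin N) k)
    (hψ0 : ∀ i, constantCoeff (ψ (X i)) = 0)
    (hc : ∀ z, π' (φ z) = π z) (hc' : ∀ z, π (ψ z) = π' z) (v : Fin N → S) :
    T π ψ (T π' φ v) - v ∈ Rel π f := by
  have hv : ∑ i, v i • dd π (X i) = v := by
    simp_rw [dd_X]
    exact Groth.Agent.Lib.Helper18.FittLib.sum_smul_single v
  have h1 : T π ψ (T π' φ v) = ∑ i, v i • dd π (ψ (φ (X i))) := by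
    rw [T_apply π' φ v, map_sum]
    refine Finset.sum_congr rfl fun i _ => ?_
    rw [map_smul, T_dd π' π ψ hψ0 hc' (φ (X i))]
  have h2 : T π ψ (T π' φ v) - v = ∑ i, v i • dd π (ψ (φ (X i)) - X i) := by
    have e : ∀ i, v i • dd π (ψ (φ (X i)) - X i) =
        v i • dd π (ψ (φ (X i))) - v i • dd π (X i) := by
      intro i; rw [dd_sub, smul_sub]
    rw [Finset.sum_congr rfl (fun i _ => e i), Finset.sum_sub_distrib, ← h1, hv]
  rw [h2]
  refine Submodule.sum_mem _ fun i _ => Submodule.smul_mem _ _ (dd_mem_Rel π f hker.ge _ ?_)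
  rw [← hker, RingHom.mem_ker, map_sub, hc', hc, sub_self]

theorem map_mem_maximalIdeal [IsLocalRing S] {N : ℕ} (π : MvPowerSeries (Fin N) k →ₐ[k] S)
    (hπ : Function.Surjective π) (z : MvPowerSeries (Fin N) k)
    (hz : z ∈ maximalIdeal (MvPowerSeries (Fin N) k)) : π z ∈ maximalIdeal S := by
  rw [mem_maximalIdeal, mem_nonunits_iff]
  intro hu
  obtain ⟨w', hw'⟩ := hu.exists_right_inv
  obtain ⟨w, rfl⟩ := hπ w'
  have h1 : π (1 - z * w) = 0 := by rw [map_sub, map_one, map_mul, hw', sub_self]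
  have h2 : IsUnit (1 - z * w) := by
    apply IsLocalRing.isUnit_one_sub_self_of_mem_nonunits
    exact (mem_maximalIdeal _).mp (Ideal.mul_mem_right _ _ hz)
  have h3 := h2.map π
  rw [h1] at h3
  exact not_isUnit_zero h3

theorem exists_lift [IsLocalRing S] [IsNoetherianRing S] {N N' : ℕ}
    (π : MvPowerSeries (Fin N) k →ₐ[k] S) (hπ : Function.Surjective π)
    (π' : MvPowerSeries (Fin N') k →ₐ[k] S) (hπ' : Function.Surjective π') :
    ∃ φ : MvPowerSeries (Fin N) k →ₐ[k] MvPowerSeries (Fin N') k,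
      (∀ i, constantCoeff (φ (X i)) = 0) ∧ ∀ z, π' (φ z) = π z := by
  classical
  choose g hg using fun i : Fin N => hπ' (π (X i))
  have hXm : ∀ i, π (X i) ∈ maximalIdeal S := fun i =>
    map_mem_maximalIdeal π hπ _ (Groth.Agent.Lib.Helper7.PowSerCRing.X_mem i)
  have hg0 : ∀ i, constantCoeff (g i) = 0 := by
    intro i
    by_contra hne
    have hu : IsUnit (g i) := by
      rw [MvPowerSeries.isUnit_iff_constantCoeff]
      exact isUnit_iff_ne_zero.mpr hne
    have h1 := hu.map π'
    rw [hg i] at h1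
    exact (mem_nonunits_iff.mp ((mem_maximalIdeal _).mp (hXm i))) h1
  obtain ⟨φ, hφ⟩ : ∃ φ : MvPowerSeries (Fin N) k →ₐ[k] MvPowerSeries (Fin N') k,
      ∀ i, φ (X i) = g i :=
    ⟨MvPowerSeries.substAlgHom (R := k) (MvPowerSeries.hasSubst_of_constantCoeff_zero hg0),
      fun i => MvPowerSeries.substAlgHom_X _ i⟩
  refine ⟨φ, fun i => by rw [hφ i]; exact hg0 i, ?_⟩
  have key : (π' : MvPowerSeries (Fin N') k →+* S).comp
      (φ : MvPowerSeries (Fin N) k →+* MvPowerSeries (Fin N') k) =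
      (π : MvPowerSeries (Fin N) k →+* S) := by
    apply Groth.Agent.Lib.Helper21.RKf.ringHom_ext_of_hausdorff
    · intro r
      have hC : (C r : MvPowerSeries (Fin N) k) = algebraMap k (MvPowerSeries (Fin N) k) r := by
        rw [MvPowerSeries.algebraMap_apply]; rfl
      show π' (φ (C r)) = π (C r)
      rw [hC, AlgHom.commutes, AlgHom.commutes, AlgHom.commutes]
    · intro i
      show π' (φ (X i)) = π (X i)
      rw [hφ i, hg i]
    · intro i
      show π' (φ (X i)) ∈ maximalIdeal S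
      rw [hφ i, hg i]; exact hXm i
  intro z
  exact RingHom.congr_fun key z

/-- the cokernel of the Jacobian matrix does not depend on the presentation -/
theorem nonempty_equiv [IsLocalRing S] [IsNoetherianRing S] {N N' : ℕ} {ι ι' : Type*}
    (π : MvPowerSeries (Fin N) k →ₐ[k] S) (hπ : Function.Surjective π)
    (f : ι → MvPowerSeries (Fin N) k) (hker : RingHom.ker π = Ideal.span (Set.range f))
    (π' : MvPowerSeries (Fin N') k →ₐ[k] S) (hπ' : Function.Surjective π')
    (f' : ι' → MvPowerSeries (Fin N') k) (hker' : RingHom.ker π' = Ideal.span (Set.range f')) :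
    Nonempty (((Fin N → S) ⧸ Rel π f) ≃ₗ[S] ((Fin N' → S) ⧸ Rel π' f')) := by
  obtain ⟨φ, hφ0, hc⟩ := exists_lift π hπ π' hπ'
  obtain ⟨ψ, hψ0, hc'⟩ := exists_lift π' hπ' π hπ
  have hkf : ∀ j, π (f j) = 0 := fun j => by
    rw [← RingHom.mem_ker, hker]; exact Ideal.subset_span ⟨j, rfl⟩
  have hkf' : ∀ j, π' (f' j) = 0 := fun j => by
    rw [← RingHom.mem_ker, hker']; exact Ideal.subset_span ⟨j, rfl⟩
  obtain ⟨L, hL⟩ : ∃ L : ((Fin N → S) ⧸ Rel π f) →ₗ[S] ((Fin N' → S) ⧸ Rel π' f'),
      ∀ v, L (Submodule.Quotient.mk v) = Submodule.Quotient.mk (T π' φ v) :=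
    ⟨Submodule.mapQ _ _ (T π' φ) (T_Rel_le π π' f f' φ hφ0 hc hkf hker'), fun v => rfl⟩
  obtain ⟨L', hL'⟩ : ∃ L' : ((Fin N' → S) ⧸ Rel π' f') →ₗ[S] ((Fin N → S) ⧸ Rel π f),
      ∀ v, L' (Submodule.Quotient.mk v) = Submodule.Quotient.mk (T π ψ v) :=
    ⟨Submodule.mapQ _ _ (T π ψ) (T_Rel_le π' π f' f ψ hψ0 hc' hkf' hker), fun v => rfl⟩
  refine ⟨LinearEquiv.ofLinear L L' ?_ ?_⟩
  · apply LinearMap.ext
    intro x
    obtain ⟨v, rfl⟩ := Submodule.Quotient.mk_surjective _ x
    rw [LinearMap.comp_apply, hL', hL, LinearMap.id_apply, Submodule.Quotient.eq]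
    exact T_T_sub_mem π' π f' hker' ψ φ hφ0 hc' hc v
  · apply LinearMap.ext
    intro x
    obtain ⟨v, rfl⟩ := Submodule.Quotient.mk_surjective _ x
    rw [LinearMap.comp_apply, hL, hL', LinearMap.id_apply, Submodule.Quotient.eq]
    exact T_T_sub_mem π π' f hker φ ψ hψ0 hc hc' v

open Groth.Agent.Lib.Helper18.FittLib in
theorem fitt_eq {N : ℕ} {ι : Type*} (π : MvPowerSeries (Fin N) k →ₐ[k] S)
    (f : ι → MvPowerSeries (Fin N) k) :
    Fitt.ideal S ((Fin N → S) ⧸ Rel π f) 1 =
      matMinorIdeal (Matrix.of fun (j : ι) (i : Fin N) => π (pderiv k i (f j))) (N - 1) := by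
  have hlc : Fintype.linearCombination S
      (fun i : Fin N => (Rel π f).mkQ (Pi.single i (1 : S))) = (Rel π f).mkQ := by
    apply LinearMap.ext
    intro v
    rw [Fintype.linearCombination_apply]
    conv_rhs => rw [← sum_smul_single v]
    rw [map_sum]
    refine Finset.sum_congr rfl fun i _ => ?_
    rw [map_smul]
  refine fitt_eq_matMinorIdeal (fun i : Fin N => (Rel π f).mkQ (Pi.single i (1 : S))) ?_ _ ?_ 1
  · rw [eq_top_iff]
    rintro y -
    obtain ⟨v, rfl⟩ := (Rel π f).mkQ_surjective y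
    rw [← LinearMap.congr_fun hlc v, Fintype.linearCombination_apply]
    exact Submodule.sum_mem _ fun i _ =>
      Submodule.smul_mem _ _ (Submodule.subset_span ⟨i, rfl⟩)
  · rw [hlc, Submodule.ker_mkQ]
    rfl

open Groth.Agent.Lib.Helper18.FittLib in
/-- the ideals of minors of the Jacobian matrices of two presentations agree -/
theorem minor_eq [IsLocalRing S] [IsNoetherianRing S] {N N' : ℕ} {ι ι' : Type*}
    (π : MvPowerSeries (Fin N) k →ₐ[k] S) (hπ : Function.Surjective π)
    (f : ι → MvPowerSeries (Fin N) k) (hker : RingHom.ker π = Ideal.span (Set.range f))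
    (π' : MvPowerSeries (Fin N') k →ₐ[k] S) (hπ' : Function.Surjective π')
    (f' : ι' → MvPowerSeries (Fin N') k) (hker' : RingHom.ker π' = Ideal.span (Set.range f')) :
    matMinorIdeal (Matrix.of fun (j : ι) (i : Fin N) => π (pderiv k i (f j))) (N - 1) =
      matMinorIdeal (Matrix.of fun (j : ι') (i : Fin N') => π' (pderiv k i (f' j))) (N' - 1) := by
  obtain ⟨e⟩ := nonempty_equiv π hπ f hker π' hπ' f' hker'
  rw [← fitt_eq π f, ← fitt_eq π' f', fitt_congr e 1]

end dmach

end Groth.Agent.Lib.Helper21.RKu
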