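import Mathlib
import Groth.Agent.Lib.Helper21.RKu
import Groth.Agent.Lib.Helper21.RKs
import Groth.Agent.Lib.Helper26.PowerSeriesRLR

/-!
# The Jacobian minors criterion: reduction to two variables (helper21)
-/

set_option autoImplicit false
set_option linter.style.haveILetI false
set_option linter.unusedSectionVars false
set_option linter.unusedVariables false
set_option linter.unusedSimpArgs false

namespace Groth.Agent.Lib.Helper21.RKv

open MvPowerSeries IsLocalRing Finsupp Groth.Agent.Lib.Helper14.FormalIFT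
  Groth.Agent.Lib.Helper14.FormalMorse Groth.Agent.Lib.Helper18.FittLib
  Groth.Agent.Lib.Helper21.RKu

universe u

variable {k : Type u} [Field k]

theorem mem_pow_iff' {d : ℕ} (j : ℕ) (f : MvPowerSeries (Fin d) k) :
    f ∈ maximalIdeal (MvPowerSeries (Fin d) k) ^ j ↔ Fil j f := by
  rw [Groth.Agent.Lib.Helper7.PowSerCRing.maximalIdeal_pow_eq_W,
    Groth.Agent.Lib.Helper7.PowSerCRing.mem_W]
  constructor
  · intro h e he
    have h1 := h e
    have hb : (maximalIdeal k) ^ (j - Finsupp.degree e) = ⊥ := by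
      rw [IsLocalRing.maximalIdeal_eq_bot, ← Ideal.zero_eq_bot]
      exact zero_pow (by omega)
    rw [hb] at h1
    exact (Ideal.mem_bot).mp h1
  · intro h e
    by_cases he : Finsupp.degree e < j
    · rw [h e he]; exact Ideal.zero_mem _
    · have h0 : j - Finsupp.degree e = 0 := by omega
      rw [h0, pow_zero, Ideal.one_eq_top]; trivial

theorem mem_maximalIdeal_iff_fil {d : ℕ} (f : MvPowerSeries (Fin d) k) :
    f ∈ maximalIdeal (MvPowerSeries (Fin d) k) ↔ Fil 1 f := by
  rw [← mem_pow_iff' 1 f, pow_one]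

section loc

variable {S : Type u} [CommRing S] [Algebra k S] [IsLocalRing S]

theorem comap_maximalIdeal {N : ℕ} (π : MvPowerSeries (Fin N) k →ₐ[k] S)
    (hπ : Function.Surjective π) :
    (maximalIdeal S).comap π = maximalIdeal (MvPowerSeries (Fin N) k) := by
  haveI := Ideal.comap_isMaximal_of_surjective π hπ (K := maximalIdeal S)
  exact IsLocalRing.eq_maximalIdeal this

theorem map_maximalIdeal {N : ℕ} (π : MvPowerSeries (Fin N) k →ₐ[k] S)
    (hπ : Function.Surjective π) :
    (maximalIdeal (MvPowerSeries (Fin N) k)).map π = maximalIdeal S := by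
  rw [← comap_maximalIdeal π hπ, Ideal.map_comap_of_surjective π hπ]

theorem residue_algebraMap_surjective {N : ℕ} (π : MvPowerSeries (Fin N) k →ₐ[k] S)
    (hπ : Function.Surjective π) :
    Function.Surjective ((residue S).comp (algebraMap k S)) := by
  intro w
  obtain ⟨s, rfl⟩ := residue_surjective w
  obtain ⟨z, rfl⟩ := hπ s
  refine ⟨constantCoeff z, ?_⟩
  rw [RingHom.comp_apply, ← sub_eq_zero, ← map_sub, residue_eq_zero_iff]
  have hC : (C (constantCoeff z) : MvPowerSeries (Fin N) k) =
      algebraMap k (MvPowerSeries (Fin N) k) (constantCoeff z) := by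
    rw [MvPowerSeries.algebraMap_apply]; rfl
  have h1 : algebraMap k S (constantCoeff z) - π z = π (C (constantCoeff z) - z) := by
    rw [map_sub, hC, AlgHom.commutes]
  rw [h1]
  apply map_mem_maximalIdeal π hπ
  rw [Groth.Agent.Lib.Helper7.PowSerCRing.mem_maximalIdeal_iff, map_sub, constantCoeff_C, sub_self]
  exact Ideal.zero_mem _

end loc

/-- the set of maximal minors appearing in the criterion -/
def minorSet {n m : ℕ} (f : Fin m → MvPowerSeries (Fin n) k) : Set (MvPowerSeries (Fin n) k) :=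
  {d | ∃ (ρ : Fin (n - 1) → Fin m) (γ : Fin (n - 1) → Fin n), Function.Injective ρ ∧
    Function.Injective γ ∧
    d = ((Matrix.of fun (j : Fin m) (i : Fin n) => pderiv k i (f j)).submatrix ρ γ).det}

section partD

variable {S : Type u} [CommRing S] [Algebra k S]

theorem map_span_minorSet {n m : ℕ} (f : Fin m → MvPowerSeries (Fin n) k)
    (π : MvPowerSeries (Fin n) k →ₐ[k] S) :
    (Ideal.span (minorSet f)).map π =
      matMinorIdeal (Matrix.of fun (j : Fin m) (i : Fin n) => π (pderiv k i (f j))) (n - 1) := by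
  classical
  have hdet : ∀ (ρ : Fin (n - 1) → Fin m) (γ : Fin (n - 1) → Fin n),
      π (((Matrix.of fun (j : Fin m) (i : Fin n) => pderiv k i (f j)).submatrix ρ γ).det) =
      ((Matrix.of fun (j : Fin m) (i : Fin n) => π (pderiv k i (f j))).submatrix ρ γ).det := by
    intro ρ γ
    rw [AlgHom.map_det]
    have : π.mapMatrix ((Matrix.of fun (j : Fin m) (i : Fin n) => pderiv k i (f j)).submatrix ρ γ)
        = (Matrix.of fun (j : Fin m) (i : Fin n) => π (pderiv k i (f j))).submatrix ρ γ := by
      ext a b; rfl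
    rw [this]
  rw [Ideal.map_span]
  apply le_antisymm
  · rw [Ideal.span_le]
    rintro _ ⟨d, ⟨ρ, γ, -, -, rfl⟩, rfl⟩
    show π _ ∈ _
    rw [hdet]
    exact det_submatrix_mem_matMinorIdeal _ ρ γ
  · rw [matMinorIdeal, Ideal.span_le]
    rintro _ ⟨ρ, γ, rfl⟩
    by_cases hρ : Function.Injective ρ
    · by_cases hγ : Function.Injective γ
      · rw [← hdet]
        exact Ideal.subset_span ⟨_, ⟨ρ, γ, hρ, hγ, rfl⟩, rfl⟩
      · obtain ⟨i, j, hij, hne⟩ : ∃ i j, γ i = γ j ∧ i ≠ j := by
          by_contra hcon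
          push Not at hcon
          exact hγ (fun a b hab => hcon a b hab)
        have h0 : ((Matrix.of fun (j : Fin m) (i : Fin n) => π (pderiv k i (f j))).submatrix
            ρ γ).det = 0 :=
          Matrix.det_zero_of_column_eq hne (fun l => by
            rw [Matrix.submatrix_apply, Matrix.submatrix_apply, hij])
        show _ ∈ (Ideal.span _ : Ideal S)
        rw [h0]
        exact Ideal.zero_mem _
    · obtain ⟨i, j, hij, hne⟩ : ∃ i j, ρ i = ρ j ∧ i ≠ j := by
        by_contra hcon
        push Not at hcon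
        exact hρ (fun a b hab => hcon a b hab)
      have h0 : ((Matrix.of fun (j : Fin m) (i : Fin n) => π (pderiv k i (f j))).submatrix
          ρ γ).det = 0 :=
        Matrix.det_zero_of_row_eq hne (by
          funext l
          rw [Matrix.submatrix_apply, Matrix.submatrix_apply, hij])
      show _ ∈ (Ideal.span _ : Ideal S)
      rw [h0]
      exact Ideal.zero_mem _

theorem min_iff [IsLocalRing S] {n m : ℕ} (f : Fin m → MvPowerSeries (Fin n) k)
    (π : MvPowerSeries (Fin n) k →ₐ[k] S) (hπ : Function.Surjective π)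
    (hker : RingHom.ker π = Ideal.span (Set.range f)) :
    Ideal.span (minorSet f) ⊔ Ideal.span (Set.range f) =
        maximalIdeal (MvPowerSeries (Fin n) k) ↔
      matMinorIdeal (Matrix.of fun (j : Fin m) (i : Fin n) => π (pderiv k i (f j))) (n - 1) =
        maximalIdeal S := by
  rw [← map_span_minorSet f π, ← hker]
  constructor
  · intro h
    rw [← map_maximalIdeal π hπ, ← h, Ideal.map_sup]
    have h0 : (RingHom.ker π).map π = ⊥ := by
      rw [Ideal.map_eq_bot_iff_le_ker]
    rw [h0, sup_bot_eq]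
  · intro h
    rw [← comap_maximalIdeal π hπ, ← h, Ideal.comap_map_of_surjective π hπ]
    rfl

theorem matMinorIdeal_le_pow {ι κ : Type*} (A : Matrix ι κ S) (I : Ideal S)
    (hA : ∀ i j, A i j ∈ I) (t : ℕ) : matMinorIdeal A t ≤ I ^ t := by
  classical
  rw [matMinorIdeal, Ideal.span_le]
  rintro _ ⟨ρ, γ, rfl⟩
  show (A.submatrix ρ γ).det ∈ I ^ t
  rw [Matrix.det_apply]
  refine Ideal.sum_mem _ fun σ _ => ?_
  have hprod : ∏ i, (A.submatrix ρ γ) (σ i) i ∈ I ^ t := by
    have h1 := Ideal.prod_mem_prod (s := (Finset.univ : Finset (Fin t))) (I := fun _ => I)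
      (x := fun i => (A.submatrix ρ γ) (σ i) i) (fun i _ => hA _ _)
    rwa [Finset.prod_const, Finset.card_univ, Fintype.card_fin] at h1
  rw [Units.smul_def, zsmul_eq_mul]
  exact Ideal.mul_mem_left _ _ hprod

end partD

section cohen

variable {S : Type u} [CommRing S] [Algebra k S] [IsLocalRing S] [IsNoetherianRing S]

theorem exists_min_pres {N : ℕ} (π : MvPowerSeries (Fin N) k →ₐ[k] S)
    (hπ : Function.Surjective π) :
    ∃ (d : ℕ) (π' : MvPowerSeries (Fin d) k →ₐ[k] S), Function.Surjective π' ∧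
      RingHom.ker π' ≤ maximalIdeal (MvPowerSeries (Fin d) k) ^ 2 := by
  classical
  obtain ⟨d, ⟨b⟩⟩ : ∃ d : ℕ, Nonempty (Module.Basis (Fin d) (ResidueField S) (CotangentSpace S)) :=
    ⟨_, ⟨Module.finBasis (ResidueField S) (CotangentSpace S)⟩⟩
  choose y hy using fun i => Ideal.toCotangent_surjective (maximalIdeal S) (b i)
  choose g hg using fun i => hπ (y i : S)
  have hg0 : ∀ i, constantCoeff (g i) = 0 := by
    intro i
    by_contra hne
    have hu : IsUnit (g i) := by
      rw [MvPowerSeries.isUnit_iff_constantCoeff]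
      exact isUnit_iff_ne_zero.mpr hne
    have h1 := hu.map π
    rw [hg i] at h1
    exact (mem_nonunits_iff.mp ((mem_maximalIdeal _).mp (y i).2)) h1
  obtain ⟨φ, hφ⟩ : ∃ φ : MvPowerSeries (Fin d) k →ₐ[k] MvPowerSeries (Fin N) k,
      ∀ i, φ (X i) = g i :=
    ⟨MvPowerSeries.substAlgHom (R := k) (MvPowerSeries.hasSubst_of_constantCoeff_zero hg0),
      fun i => MvPowerSeries.substAlgHom_X _ i⟩
  obtain ⟨π', hπ'⟩ : ∃ π' : MvPowerSeries (Fin d) k →ₐ[k] S, ∀ z, π' z = π (φ z) :=
    ⟨π.comp φ, fun z => rfl⟩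
  have hX : ∀ i, π' (X i) = (y i : S) := fun i => by rw [hπ', hφ, hg]
  have hXm : ∀ i, π' (X i) ∈ maximalIdeal S := fun i => by rw [hX]; exact (y i).2
  have hsurj : Function.Surjective π' := by
    apply Groth.Agent.Lib.Helper26.PowerSeriesRLR.surjective_of_span_cotangent
      (residue_algebraMap_surjective π hπ) π' hXm
    have e : (fun i : Fin d => (maximalIdeal S).toCotangent ⟨π' (X i), hXm i⟩) = fun i => b i := by
      funext i
      rw [← hy i]
      congr 1
      exact Subtype.ext (hX i)
    rw [e]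
    exact b.span_eq
  refine ⟨d, π', hsurj, ?_⟩
  intro g' hg'
  rw [RingHom.mem_ker] at hg'
  have hc0 : constantCoeff g' = 0 := by
    by_contra hne
    have hu : IsUnit g' := by
      rw [MvPowerSeries.isUnit_iff_constantCoeff]
      exact isUnit_iff_ne_zero.mpr hne
    have h1 := hu.map π'
    rw [hg'] at h1
    exact not_isUnit_zero h1
  obtain ⟨c, -, hsum⟩ := exists_decomp (Finset.univ : Finset (Fin d)) 0 g'
    (fil_one_of_constantCoeff hc0) (by
      intro m hm
      have : m = 0 := by
        ext i; simpa using hm i (Finset.mem_univ i)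
      rw [this, coeff_zero_eq_constantCoeff_apply]
      exact hc0)
  have e1 : π' g' = ∑ i, π' (c i) * (y i : S) := by
    rw [hsum, map_sum]
    refine Finset.sum_congr rfl fun i _ => ?_
    rw [map_mul, hX, mul_comm]
  have hz : ∑ i, π' (c i) • (y i) = (0 : maximalIdeal S) := by
    apply Subtype.ext
    rw [AddSubmonoidClass.coe_finset_sum, ZeroMemClass.coe_zero]
    simp only [Submodule.coe_smul, smul_eq_mul]
    rw [← e1, hg']
  have hz2 := congrArg (maximalIdeal S).toCotangent hz
  rw [map_sum, map_zero] at hz2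
  have hsc : ∀ (s : S) (x : CotangentSpace S), residue S s • x = s • x := fun s x =>
    IsScalarTower.algebraMap_smul (ResidueField S) s x
  have hz3 : ∑ i, residue S (π' (c i)) • b i = 0 := by
    rw [← hz2]
    refine Finset.sum_congr rfl fun i _ => ?_
    rw [map_smul, hy i, hsc]
  have hlin := Fintype.linearIndependent_iff.mp b.linearIndependent _ hz3
  have hcm : ∀ i, c i ∈ maximalIdeal (MvPowerSeries (Fin d) k) := by
    intro i
    by_contra hnm
    have hu : IsUnit (c i) := by rwa [mem_maximalIdeal, mem_nonunits_iff, not_not] at hnm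
    have h1 := hu.map π'
    have h2 : residue S (π' (c i)) = 0 := hlin i
    rw [residue_eq_zero_iff] at h2
    exact (mem_nonunits_iff.mp ((mem_maximalIdeal _).mp h2)) h1
  rw [hsum]
  refine Ideal.sum_mem _ fun i _ => ?_
  rw [pow_two]
  exact Ideal.mul_mem_mul (Groth.Agent.Lib.Helper7.PowSerCRing.X_mem i) (hcm i)

end cohen

section linalg

theorem det_pair_zero (p q r p' q' r' : k) (h : p * r - q ^ 2 = 0) (h' : p' * r' - q' ^ 2 = 0)
    (h'' : (p + p') * (r + r') - (q + q') ^ 2 = 0) :
    p * q' - q * p' = 0 ∧ p * r' - q * q' = 0 ∧ q * q' - r * p' = 0 ∧ q * r' - r * q' = 0 := by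
  refine ⟨?_, ?_, ?_, ?_⟩
  · have e : (p * q' - q * p') ^ 2 = 0 := by
      linear_combination (p * p') * h'' - (p * p' + p' ^ 2) * h - (p * p' + p ^ 2) * h'
    exact (pow_eq_zero_iff two_ne_zero).mp e
  · have e : (p * r' - q * q') ^ 2 = 0 := by
      linear_combination (p * r') * h'' + (-(p * r') - p' * r' + (p' * r' - q' ^ 2)) * h +
        (-(p * r') - p * r) * h'
    exact (pow_eq_zero_iff two_ne_zero).mp e
  · have e : (q * q' - r * p') ^ 2 = 0 := by
      linear_combination (p' * r) * h'' + (-(p' * r) - p' * r') * h +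
        (-(p' * r) - p * r + (p * r - q ^ 2)) * h'
    exact (pow_eq_zero_iff two_ne_zero).mp e
  · have e : (q * r' - r * q') ^ 2 = 0 := by
      linear_combination (r * r') * h'' - (r * r' + r' ^ 2) * h - (r * r' + r ^ 2) * h'
    exact (pow_eq_zero_iff two_ne_zero).mp e

/-- the polar matrix of the quadratic part -/
noncomputable def hess (g : MvPowerSeries (Fin 2) k) : Matrix (Fin 2) (Fin 2) k :=
  quadTable g + (quadTable g).transpose

theorem hess_apply (g : MvPowerSeries (Fin 2) k) (i j : Fin 2) :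
    hess g i j = coeff (Finsupp.single j 1) (pderiv k i g) := polar_quadTable g i j

theorem hess_symm (g : MvPowerSeries (Fin 2) k) (i j : Fin 2) : hess g i j = hess g j i := by
  rw [hess, Matrix.add_apply, Matrix.add_apply, Matrix.transpose_apply, Matrix.transpose_apply,
    add_comm]

theorem hess_add (g h : MvPowerSeries (Fin 2) k) (i j : Fin 2) :
    hess (g + h) i j = hess g i j + hess h i j := by
  rw [hess_apply, hess_apply, hess_apply, map_add, map_add]

theorem hess_det (g : MvPowerSeries (Fin 2) k) :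
    (hess g).det = hess g 0 0 * hess g 1 1 - hess g 0 1 ^ 2 := by
  rw [Matrix.det_fin_two, hess_symm g 1 0, pow_two]

theorem exists_nondeg (I : Ideal (MvPowerSeries (Fin 2) k))
    (hI : I ≤ maximalIdeal (MvPowerSeries (Fin 2) k) ^ 2)
    (hX : ∀ l : Fin 2, ∃ z ∈ Ideal.span {y | ∃ g ∈ I, ∃ i : Fin 2, y = pderiv k i g},
      (X l : MvPowerSeries (Fin 2) k) - z ∈ I) :
    ∃ g ∈ I, (quadTable g + (quadTable g).transpose).det ≠ 0 := by
  classical
  by_contra hcon
  push Not at hcon
  have hall : ∀ g ∈ I, (hess g).det = 0 := hcon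
  obtain ⟨lam, hlam⟩ : ∃ lam : MvPowerSeries (Fin 2) k → (Fin 2 → k),
      ∀ h j, lam h j = coeff (Finsupp.single j 1) h := ⟨fun h j => coeff (Finsupp.single j 1) h,
        fun h j => rfl⟩
  have hlam_add : ∀ x y, lam (x + y) = lam x + lam y := by
    intro x y; funext j; rw [Pi.add_apply, hlam, hlam, hlam, map_add]
  have hlam_sub : ∀ x y, lam (x - y) = lam x - lam y := by
    intro x y; funext j; rw [Pi.sub_apply, hlam, hlam, hlam, map_sub]
  have hlam_zero : lam 0 = 0 := by
    funext j; rw [hlam, map_zero, Pi.zero_apply]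
  have hlam_fil2 : ∀ x, Fil 2 x → lam x = 0 := by
    intro x hx; funext j
    rw [hlam, Pi.zero_apply]
    exact hx _ (by rw [Finsupp.degree_single]; omega)
  have hlam_hess : ∀ g i, lam (pderiv k i g) = hess g i := by
    intro g i; funext j; rw [hlam, hess_apply]
  -- all rows of all hessians vanish
  have hrows : ∀ g ∈ I, ∀ i, hess g i = 0 := by
    intro g1 hg1 i1
    -- the functional
    have hC : ∀ g2 ∈ I, ∀ i2, hess g1 i1 0 * hess g2 i2 1 - hess g1 i1 1 * hess g2 i2 0 = 0 := by
      intro g2 hg2 i2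
      have h1 := hall g1 hg1
      have h2 := hall g2 hg2
      have h3 := hall (g1 + g2) (I.add_mem hg1 hg2)
      rw [hess_det] at h1 h2 h3
      rw [hess_add, hess_add, hess_add] at h3
      obtain ⟨e00, e01, e10, e11⟩ := det_pair_zero _ _ _ _ _ _ h1 h2 h3
      fin_cases i1 <;> fin_cases i2
      · exact e00
      · show hess g1 0 0 * hess g2 1 1 - hess g1 0 1 * hess g2 1 0 = 0
        rw [hess_symm g2 1 0]; exact e01
      · show hess g1 1 0 * hess g2 0 1 - hess g1 1 1 * hess g2 0 0 = 0
        rw [hess_symm g1 1 0]; exact e10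
      · show hess g1 1 0 * hess g2 1 1 - hess g1 1 1 * hess g2 1 0 = 0
        rw [hess_symm g1 1 0, hess_symm g2 1 0]; exact e11
    obtain ⟨W, hW⟩ : ∃ W : Submodule k (Fin 2 → k),
        W = Submodule.span k {w | ∃ g ∈ I, ∃ i : Fin 2, w = hess g i} := ⟨_, rfl⟩
    obtain ⟨φ, hφ⟩ : ∃ φ : (Fin 2 → k) →ₗ[k] k,
        ∀ v, φ v = hess g1 i1 0 * v 1 - hess g1 i1 1 * v 0 :=
      ⟨(hess g1 i1 0) • LinearMap.proj 1 - (hess g1 i1 1) • LinearMap.proj 0, fun v => by
        rw [LinearMap.sub_apply, LinearMap.smul_apply, LinearMap.smul_apply, LinearMap.proj_apply,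
          LinearMap.proj_apply, smul_eq_mul, smul_eq_mul]⟩
    have hWker : W ≤ LinearMap.ker φ := by
      rw [hW, Submodule.span_le]
      rintro _ ⟨g2, hg2, i2, rfl⟩
      show φ (hess g2 i2) = 0
      rw [hφ]
      exact hC g2 hg2 i2
    -- D-part
    have hA : ∀ z ∈ Ideal.span {y | ∃ g ∈ I, ∃ i : Fin 2, y = pderiv k i g},
        constantCoeff z = 0 ∧ lam z ∈ W := by
      intro z hz
      induction hz using Submodule.span_induction with
      | mem x hx =>
        obtain ⟨g, hg, i, rfl⟩ := hx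
        have hg2 : Fil 2 g := (mem_pow_iff' 2 g).mp (hI hg)
        refine ⟨?_, ?_⟩
        · have := Groth.Agent.Lib.Helper21.RKf.fil_pderiv (n := 1) hg2 i
          rw [← coeff_zero_eq_constantCoeff_apply]
          exact this 0 (by simp)
        · rw [hlam_hess, hW]
          exact Submodule.subset_span ⟨g, hg, i, rfl⟩
      | zero => exact ⟨map_zero _, by rw [hlam_zero]; exact W.zero_mem⟩
      | add x y hx hy ihx ihy =>
        exact ⟨by rw [map_add, ihx.1, ihy.1, add_zero], by
          rw [hlam_add]; exact W.add_mem ihx.2 ihy.2⟩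
      | smul c x hx ih =>
        refine ⟨by rw [smul_eq_mul, map_mul, ih.1, mul_zero], ?_⟩
        have e : c • x = C (constantCoeff c) * x + (c - C (constantCoeff c)) * x := by
          rw [smul_eq_mul]; ring
        have hf1 : Fil 1 (c - C (constantCoeff c)) := by
          apply fil_one_of_constantCoeff
          rw [map_sub, constantCoeff_C, sub_self]
        have hf2 : Fil 2 ((c - C (constantCoeff c)) * x) :=
          hf1.mul (fil_one_of_constantCoeff ih.1)
        have e2 : lam (C (constantCoeff c) * x) = constantCoeff c • lam x := by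
          funext j
          rw [Pi.smul_apply, hlam, hlam, coeff_C_mul, smul_eq_mul]
        rw [e, hlam_add, hlam_fil2 _ hf2, add_zero, e2]
        exact W.smul_mem _ ih.2
    have hXW : ∀ l : Fin 2, lam (X l) ∈ W := by
      intro l
      obtain ⟨z, hz, hzI⟩ := hX l
      have h1 : lam (X l - z) = 0 := hlam_fil2 _ ((mem_pow_iff' 2 _).mp (hI hzI))
      rw [hlam_sub, sub_eq_zero] at h1
      rw [h1]
      exact (hA z hz).2
    have hlamX : ∀ l j : Fin 2, lam (X l) j = if j = l then 1 else 0 := by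
      intro l j
      rw [hlam, coeff_X]
      by_cases hjl : j = l
      · subst hjl; rw [if_pos rfl, if_pos rfl]
      · rw [if_neg hjl, if_neg]
        intro h
        exact hjl (Finsupp.single_left_injective one_ne_zero h)
    have h0 := hWker (hXW 0)
    have h1 := hWker (hXW 1)
    rw [LinearMap.mem_ker, hφ, hlamX, hlamX] at h0 h1
    simp at h0 h1
    funext j
    fin_cases j
    · exact h1
    · exact h0
  -- conclude
  obtain ⟨z, hz, hzI⟩ := hX 0
  have hA' : ∀ z ∈ Ideal.span {y | ∃ g ∈ I, ∃ i : Fin 2, y = pderiv k i g}, Fil 2 z → lam z = 0 :=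
    fun z _ hz2 => hlam_fil2 z hz2
  -- every generator of the span has vanishing `lam`
  have hD : ∀ z ∈ Ideal.span {y | ∃ g ∈ I, ∃ i : Fin 2, y = pderiv k i g},
      constantCoeff z = 0 ∧ lam z = 0 := by
    intro z hz
    induction hz using Submodule.span_induction with
    | mem x hx =>
      obtain ⟨g, hg, i, rfl⟩ := hx
      have hg2 : Fil 2 g := (mem_pow_iff' 2 g).mp (hI hg)
      refine ⟨?_, ?_⟩
      · have := Groth.Agent.Lib.Helper21.RKf.fil_pderiv (n := 1) hg2 i
        rw [← coeff_zero_eq_constantCoeff_apply]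
        exact this 0 (by simp)
      · rw [hlam_hess, hrows g hg i]
    | zero => exact ⟨map_zero _, hlam_zero⟩
    | add x y hx hy ihx ihy =>
      exact ⟨by rw [map_add, ihx.1, ihy.1, add_zero], by rw [hlam_add, ihx.2, ihy.2, add_zero]⟩
    | smul c x hx ih =>
      refine ⟨by rw [smul_eq_mul, map_mul, ih.1, mul_zero], ?_⟩
      have e : c • x = C (constantCoeff c) * x + (c - C (constantCoeff c)) * x := by
        rw [smul_eq_mul]; ring
      have hf1 : Fil 1 (c - C (constantCoeff c)) := by
        apply fil_one_of_constantCoeff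
        rw [map_sub, constantCoeff_C, sub_self]
      have hf2 : Fil 2 ((c - C (constantCoeff c)) * x) :=
        hf1.mul (fil_one_of_constantCoeff ih.1)
      have e2 : lam (C (constantCoeff c) * x) = constantCoeff c • lam x := by
        funext j
        rw [Pi.smul_apply, hlam, hlam, coeff_C_mul, smul_eq_mul]
      rw [e, hlam_add, hlam_fil2 _ hf2, add_zero, e2, ih.2, smul_zero]
  have h1 : lam (X 0 - z) = 0 := hlam_fil2 _ ((mem_pow_iff' 2 _).mp (hI hzI))
  rw [hlam_sub, (hD z hz).2, sub_zero] at h1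
  have h2 := congrFun h1 0
  rw [hlam, coeff_X, if_pos rfl, Pi.zero_apply] at h2
  exact one_ne_zero h2

end linalg

section main

theorem exists_two_pres {n m : ℕ} (f : Fin m → MvPowerSeries (Fin n) k)
    (hf : ∀ j, f j ∈ maximalIdeal (MvPowerSeries (Fin n) k))
    (hmin : Ideal.span (minorSet f) ⊔ Ideal.span (Set.range f) =
      maximalIdeal (MvPowerSeries (Fin n) k)) :
    ∃ π' : MvPowerSeries (Fin 2) k →ₐ[k]
        (MvPowerSeries (Fin n) k ⧸ Ideal.span (Set.range f)),
      Function.Surjective π' ∧ RingHom.ker π' ≤ maximalIdeal (MvPowerSeries (Fin 2) k) ^ 2 ∧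
      ∃ g ∈ RingHom.ker π', (quadTable g + (quadTable g).transpose).det ≠ 0 := by
  classical
  have hIm : Ideal.span (Set.range f) ≤ maximalIdeal (MvPowerSeries (Fin n) k) := by
    rw [Ideal.span_le]; rintro _ ⟨j, rfl⟩; exact hf j
  have hIne : Ideal.span (Set.range f) ≠ ⊤ := fun h =>
    (IsLocalRing.maximalIdeal.isMaximal (MvPowerSeries (Fin n) k)).ne_top
      (top_le_iff.mp (h ▸ hIm))
  haveI : Nontrivial (MvPowerSeries (Fin n) k ⧸ Ideal.span (Set.range f)) :=
    Ideal.Quotient.nontrivial_iff.mpr hIne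
  haveI : IsLocalRing (MvPowerSeries (Fin n) k ⧸ Ideal.span (Set.range f)) :=
    IsLocalRing.of_surjective' (Ideal.Quotient.mk _) Ideal.Quotient.mk_surjective
  obtain ⟨π, hπdef⟩ : ∃ π : MvPowerSeries (Fin n) k →ₐ[k]
      (MvPowerSeries (Fin n) k ⧸ Ideal.span (Set.range f)),
      π = Ideal.Quotient.mkₐ k (Ideal.span (Set.range f)) := ⟨_, rfl⟩
  have hπ : Function.Surjective π := by
    rw [hπdef]; exact Ideal.Quotient.mkₐ_surjective k _
  have hker : RingHom.ker π = Ideal.span (Set.range f) := by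
    rw [hπdef]; exact Ideal.Quotient.mkₐ_ker k _
  have hM := (min_iff f π hπ hker).mp hmin
  obtain ⟨d, π', hπ', hker2⟩ := exists_min_pres π hπ
  have hr : Set.range (fun g : RingHom.ker π' => (g : MvPowerSeries (Fin d) k)) =
      (RingHom.ker π' : Set (MvPowerSeries (Fin d) k)) := Subtype.range_coe
  have hker' : RingHom.ker π' =
      Ideal.span (Set.range fun g : RingHom.ker π' => (g : MvPowerSeries (Fin d) k)) := by
    rw [hr, Ideal.span_eq]
  have hKI := minor_eq π hπ f hker π' hπ'
    (fun g : RingHom.ker π' => (g : MvPowerSeries (Fin d) k)) hker'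
  have hentries : ∀ (j : RingHom.ker π') (i : Fin d),
      (Matrix.of fun (j : RingHom.ker π') (i : Fin d) =>
        π' (pderiv k i (j : MvPowerSeries (Fin d) k))) j i ∈
      maximalIdeal (MvPowerSeries (Fin n) k ⧸ Ideal.span (Set.range f)) := by
    intro j i
    show π' (pderiv k i (j : MvPowerSeries (Fin d) k)) ∈ _
    apply map_mem_maximalIdeal π' hπ'
    rw [mem_maximalIdeal_iff_fil]
    exact Groth.Agent.Lib.Helper21.RKf.fil_pderiv ((mem_pow_iff' 2 _).mp (hker2 j.2)) i
  rw [hKI] at hM
  have hd : d = 2 := by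
    by_contra hd2
    by_cases h0 : d - 1 = 0
    · rw [h0, matMinorIdeal_zero] at hM
      exact (IsLocalRing.maximalIdeal.isMaximal _).ne_top hM.symm
    · have h2 : 2 ≤ d - 1 := by omega
      have hle : maximalIdeal (MvPowerSeries (Fin n) k ⧸ Ideal.span (Set.range f)) ≤
          maximalIdeal (MvPowerSeries (Fin n) k ⧸ Ideal.span (Set.range f)) ^ 2 := by
        conv_lhs => rw [← hM]
        exact (matMinorIdeal_le_pow _ _ hentries (d - 1)).trans (Ideal.pow_le_pow_right h2)
      have hbot : maximalIdeal (MvPowerSeries (Fin n) k ⧸ Ideal.span (Set.range f)) = ⊥ := by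
        apply Submodule.eq_bot_of_le_smul_of_le_jacobson_bot
          (maximalIdeal (MvPowerSeries (Fin n) k ⧸ Ideal.span (Set.range f))) _
          (IsNoetherian.noetherian _)
        · rw [Ideal.smul_eq_mul, ← pow_two]; exact hle
        · rw [IsLocalRing.jacobson_eq_maximalIdeal ⊥ bot_ne_top]
      have hd3 : 0 < d := by omega
      have hx0 : π' (X ⟨0, hd3⟩) = 0 := by
        have := map_mem_maximalIdeal π' hπ' _
          (Groth.Agent.Lib.Helper7.PowSerCRing.X_mem (⟨0, hd3⟩ : Fin d))
        rw [hbot, Ideal.mem_bot] at this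
        exact this
      have hx1 : Fil 2 (X (⟨0, hd3⟩ : Fin d) : MvPowerSeries (Fin d) k) :=
        (mem_pow_iff' 2 _).mp (hker2 (RingHom.mem_ker.mpr hx0))
      have hx2 := hx1 (Finsupp.single ⟨0, hd3⟩ 1) (by rw [Finsupp.degree_single]; omega)
      rw [coeff_X, if_pos rfl] at hx2
      exact one_ne_zero hx2
  subst hd
  refine ⟨π', hπ', hker2, ?_⟩
  apply exists_nondeg (RingHom.ker π') hker2
  intro l
  have hle : matMinorIdeal (Matrix.of fun (j : RingHom.ker π') (i : Fin 2) =>
      π' (pderiv k i (j : MvPowerSeries (Fin 2) k))) (2 - 1) ≤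
      (Ideal.span {y | ∃ g ∈ RingHom.ker π', ∃ i : Fin 2, y = pderiv k i g}).map π' := by
    rw [matMinorIdeal, Ideal.span_le]
    rintro _ ⟨ρ, γ, rfl⟩
    have e : ((Matrix.of fun (j : RingHom.ker π') (i : Fin 2) =>
        π' (pderiv k i (j : MvPowerSeries (Fin 2) k))).submatrix ρ γ).det =
        π' (pderiv k (γ 0) ((ρ 0 : RingHom.ker π') : MvPowerSeries (Fin 2) k)) := by
      rw [Matrix.det_fin_one]; rfl
    show _ ∈ (Ideal.map π' _ : Ideal _)
    rw [e]
    exact Ideal.mem_map_of_mem π' (Ideal.subset_span ⟨_, (ρ 0).2, γ 0, rfl⟩)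
  have hXl : π' (X l) ∈ maximalIdeal (MvPowerSeries (Fin n) k ⧸ Ideal.span (Set.range f)) :=
    map_mem_maximalIdeal π' hπ' _ (Groth.Agent.Lib.Helper7.PowSerCRing.X_mem l)
  rw [← hM] at hXl
  obtain ⟨z, hz, hzeq⟩ := (Ideal.mem_map_iff_of_surjective π' hπ').mp (hle hXl)
  exact ⟨z, hz, by rw [RingHom.mem_ker, map_sub, hzeq, sub_self]⟩

end main

end Groth.Agent.Lib.Helper21.RKv
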