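import Mathlib
import Groth.Prelude.Def_CAlg
import Groth.Agent.Lib.Helper21.RKv
import Groth.Agent.Lib.Helper4.Depth

/-!
# The Jacobian minors criterion for nodes: main steps (helper21)
-/

set_option autoImplicit false
set_option linter.style.haveILetI false
set_option linter.unusedSectionVars false
set_option linter.unusedVariables false
set_option linter.unusedSimpArgs false

namespace Groth.Agent.Lib.Helper21.RKw

open MvPowerSeries IsLocalRing Finsupp Groth.Agent.Lib.Helper14.FormalIFT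
  Groth.Agent.Lib.Helper14.FormalMorse Groth.Agent.Lib.Helper18.FittLib
  Groth.Agent.Lib.Helper21.RKu Groth.Agent.Lib.Helper21.RKv Groth.Agent.Lib.Helper21.RKo
  Groth.Agent.Lib.Helper21.RKr

universe u

variable {k : Type u} [Field k]

/-- from a two variable presentation with a nondegenerate relation and a regular element to a node -/
theorem node_of_pres {S : Type u} [CommRing S] [Algebra k S]
    (π' : MvPowerSeries (Fin 2) k →ₐ[k] S) (hπ' : Function.Surjective π')
    (hker2 : RingHom.ker π' ≤ maximalIdeal (MvPowerSeries (Fin 2) k) ^ 2)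
    (g : MvPowerSeries (Fin 2) k) (hg : g ∈ RingHom.ker π')
    (hdet : (quadTable g + (quadTable g).transpose).det ≠ 0)
    (t : MvPowerSeries (Fin 2) k) (htm : t ∈ maximalIdeal (MvPowerSeries (Fin 2) k))
    (htreg : ∀ z : S, π' t * z = 0 → z = 0) :
    ∃ a b c : k, 4 * a * c - b ^ 2 ≠ 0 ∧
      Nonempty (S ≃ₐ[k] (MvPowerSeries (Fin 2) k ⧸ Ideal.span {Qf a b c})) := by
  classical
  have hg2 : Fil 2 g := (mem_pow_iff' 2 g).mp (hker2 hg)
  have h10 : quadTable g 1 0 = 0 := by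
    show (if (1 : Fin 2) = 0 then _ else if (1 : Fin 2) < 0 then _ else 0) = 0
    rw [if_neg (by decide), if_neg (by decide)]
  obtain ⟨a', ha'⟩ : ∃ a' : k, a' = quadTable g 0 0 := ⟨_, rfl⟩
  obtain ⟨b', hb'⟩ : ∃ b' : k, b' = quadTable g 0 1 := ⟨_, rfl⟩
  obtain ⟨c', hc'⟩ : ∃ c' : k, c' = quadTable g 1 1 := ⟨_, rfl⟩
  have hqf : qf (quadTable g) Xv = Qf a' b' c' := by
    unfold qf Xv Qf
    simp only [Fin.sum_univ_two]
    rw [h10, ← ha', ← hb', ← hc', map_zero]
    ring
  have hD' : 4 * a' * c' - b' ^ 2 ≠ 0 := by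
    intro h
    apply hdet
    rw [Matrix.det_fin_two]
    simp only [Matrix.add_apply, Matrix.transpose_apply]
    rw [h10, ← ha', ← hb', ← hc']
    linear_combination h
  have hH : IsUnit (quadTable g + (quadTable g).transpose).det := isUnit_iff_ne_zero.mpr hdet
  have hFil : Fil (2 + 1) (g - (qf (quadTable g) Xv + C 0)) := by
    rw [map_zero, add_zero]
    exact fil_three_sub_qf g hg2
  obtain ⟨χ, -, -, -, hχF⟩ := exists_algEquiv_eq (quadTable g) hH 2 le_rfl 0 g hFil
  rw [hqf, map_zero, add_zero] at hχF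
  obtain ⟨a'', b'', c'', ha'', hD'', θ, hθ⟩ := exists_change a' b' c' hD'
  obtain ⟨Θ, hΘ⟩ : ∃ Θ : MvPowerSeries (Fin 2) k ≃ₐ[k] MvPowerSeries (Fin 2) k, Θ = χ.trans θ :=
    ⟨_, rfl⟩
  have hΘg : Θ g = Qf a'' b'' c'' := by
    rw [hΘ]
    show θ (χ g) = _
    rw [hχF, hθ]
  obtain ⟨π2, hπ2⟩ : ∃ π2 : MvPowerSeries (Fin 2) k →ₐ[k] S, ∀ z, π2 z = π' (Θ.symm z) :=
    ⟨π'.comp (Θ.symm : MvPowerSeries (Fin 2) k →ₐ[k] MvPowerSeries (Fin 2) k), fun z => rfl⟩
  have hsurj2 : Function.Surjective π2 := by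
    intro w
    obtain ⟨z, rfl⟩ := hπ' w
    exact ⟨Θ z, by rw [hπ2, AlgEquiv.symm_apply_apply]⟩
  have hQ2 : Qf a'' b'' c'' ∈ RingHom.ker π2 := by
    rw [RingHom.mem_ker, hπ2, ← hΘg, AlgEquiv.symm_apply_apply]
    exact RingHom.mem_ker.mp hg
  have hI2 : RingHom.ker π2 ≤ maximalIdeal (MvPowerSeries (Fin 2) k) ^ 2 := by
    intro z hz
    rw [RingHom.mem_ker, hπ2] at hz
    have h1 := hker2 (RingHom.mem_ker.mpr hz)
    have h2 := algEquiv_mem_pow Θ 2 _ h1
    rwa [AlgEquiv.apply_symm_apply] at h2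
  have ht2m : Θ t ∈ maximalIdeal (MvPowerSeries (Fin 2) k) := by
    have := algEquiv_mem_pow Θ 1 t (by rwa [pow_one])
    rwa [pow_one] at this
  have hreg : ∀ z, Θ t * z ∈ RingHom.ker π2 → z ∈ RingHom.ker π2 := by
    intro z hz
    rw [RingHom.mem_ker, map_mul, hπ2 (Θ t), AlgEquiv.symm_apply_apply] at hz
    rw [RingHom.mem_ker]
    exact htreg _ hz
  have hIeq := node_ideal_eq ha'' (RingHom.ker π2) hQ2 hI2 (Θ t) ht2m hreg
  exact ⟨a'', b'', c'', hD'', ⟨((Ideal.quotientEquivAlgOfEq k hIeq.symm).trans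
    (Ideal.quotientKerAlgEquivOfSurjective hsurj2)).symm⟩⟩

section deriv

theorem pderiv_Qf0 (a b c : k) :
    pderiv k (0 : Fin 2) (Qf a b c) = C a * (2 * X 0) + C b * X 1 := by
  have h10 : pderiv k (0 : Fin 2) (X 1 : MvPowerSeries (Fin 2) k) = 0 :=
    pderiv_X_of_ne (by decide)
  have h00 : pderiv k (0 : Fin 2) (X 0 : MvPowerSeries (Fin 2) k) = 1 := pderiv_X_self
  unfold Qf
  simp only [map_add, Derivation.leibniz, Derivation.leibniz_pow, pderiv_C, h10, h00, smul_eq_mul,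
    smul_zero, nsmul_eq_mul, mul_zero, add_zero, zero_add, mul_one, Nat.cast_ofNat, pow_one,
    Nat.add_one_sub_one]
  ring

theorem pderiv_Qf1 (a b c : k) :
    pderiv k (1 : Fin 2) (Qf a b c) = C b * X 0 + C c * (2 * X 1) := by
  have h01 : pderiv k (1 : Fin 2) (X 0 : MvPowerSeries (Fin 2) k) = 0 :=
    pderiv_X_of_ne (by decide)
  have h11 : pderiv k (1 : Fin 2) (X 1 : MvPowerSeries (Fin 2) k) = 1 := pderiv_X_self
  unfold Qf
  simp only [map_add, Derivation.leibniz, Derivation.leibniz_pow, pderiv_C, h01, h11, smul_eq_mul,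
    smul_zero, nsmul_eq_mul, mul_zero, add_zero, zero_add, mul_one, Nat.cast_ofNat, pow_one,
    Nat.add_one_sub_one]

theorem X_mem_span_pderiv (a b c : k) (hD : 4 * a * c - b ^ 2 ≠ 0) (l : Fin 2) :
    (X l : MvPowerSeries (Fin 2) k) ∈
      Ideal.span {pderiv k (0 : Fin 2) (Qf a b c), pderiv k (1 : Fin 2) (Qf a b c)} := by
  have hCD : (C (4 * a * c - b ^ 2)⁻¹ : MvPowerSeries (Fin 2) k) * (4 * C a * C c - C b ^ 2) = 1 := by
    have e : (4 * C a * C c - C b ^ 2 : MvPowerSeries (Fin 2) k) = C (4 * a * c - b ^ 2) := by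
      rw [map_sub, map_mul, map_mul, map_pow, map_ofNat]
    rw [e, ← map_mul, inv_mul_cancel₀ hD, map_one]
  rw [Ideal.mem_span_pair, pderiv_Qf0, pderiv_Qf1]
  fin_cases l
  · refine ⟨C (4 * a * c - b ^ 2)⁻¹ * (2 * C c), -(C (4 * a * c - b ^ 2)⁻¹ * C b), ?_⟩
    show _ = (X 0 : MvPowerSeries (Fin 2) k)
    linear_combination (X 0 : MvPowerSeries (Fin 2) k) * hCD
  · refine ⟨-(C (4 * a * c - b ^ 2)⁻¹ * C b), C (4 * a * c - b ^ 2)⁻¹ * (2 * C a), ?_⟩
    show _ = (X 1 : MvPowerSeries (Fin 2) k)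
    linear_combination (X 1 : MvPowerSeries (Fin 2) k) * hCD

end deriv

section nodeside

variable (a b c : k)

theorem span_Qf_ne_top : Ideal.span {Qf a b c} ≠ ⊤ := by
  intro h
  have h1 : Ideal.span {Qf a b c} ≤ maximalIdeal (MvPowerSeries (Fin 2) k) := by
    rw [Ideal.span_le, Set.singleton_subset_iff]; exact Qf_mem a b c
  exact (IsLocalRing.maximalIdeal.isMaximal (MvPowerSeries (Fin 2) k)).ne_top
    (top_le_iff.mp (h ▸ h1))

instance : Nontrivial (MvPowerSeries (Fin 2) k ⧸ Ideal.span {Qf a b c}) :=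
  Ideal.Quotient.nontrivial_iff.mpr (span_Qf_ne_top a b c)

instance : IsLocalRing (MvPowerSeries (Fin 2) k ⧸ Ideal.span {Qf a b c}) :=
  IsLocalRing.of_surjective' (Ideal.Quotient.mk _) Ideal.Quotient.mk_surjective

theorem node_minor (hD : 4 * a * c - b ^ 2 ≠ 0) :
    matMinorIdeal (Matrix.of fun (_ : Unit) (i : Fin 2) =>
      (Ideal.Quotient.mkₐ k (Ideal.span {Qf a b c})) (pderiv k i (Qf a b c))) (2 - 1) =
      maximalIdeal (MvPowerSeries (Fin 2) k ⧸ Ideal.span {Qf a b c}) := by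
  have hsurj : Function.Surjective (Ideal.Quotient.mkₐ k (Ideal.span {Qf a b c})) :=
    Ideal.Quotient.mkₐ_surjective k _
  have hQ2 : Fil 2 (Qf a b c) := (mem_pow_iff' 2 _).mp (Qf_mem_sq a b c)
  have hmem : ∀ i : Fin 2, (Ideal.Quotient.mkₐ k (Ideal.span {Qf a b c})) (pderiv k i (Qf a b c)) ∈
      matMinorIdeal (Matrix.of fun (_ : Unit) (i : Fin 2) =>
        (Ideal.Quotient.mkₐ k (Ideal.span {Qf a b c})) (pderiv k i (Qf a b c))) (2 - 1) := by
    intro i
    have h1 := det_submatrix_mem_matMinorIdeal (Matrix.of fun (_ : Unit) (i : Fin 2) =>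
        (Ideal.Quotient.mkₐ k (Ideal.span {Qf a b c})) (pderiv k i (Qf a b c)))
        (t := 2 - 1) (fun _ => ()) (fun _ => i)
    rw [Matrix.det_fin_one] at h1
    exact h1
  apply le_antisymm
  · have h1 := matMinorIdeal_le_pow (Matrix.of fun (_ : Unit) (i : Fin 2) =>
        (Ideal.Quotient.mkₐ k (Ideal.span {Qf a b c})) (pderiv k i (Qf a b c)))
        (maximalIdeal (MvPowerSeries (Fin 2) k ⧸ Ideal.span {Qf a b c})) (fun _ i => by
          show (Ideal.Quotient.mkₐ k (Ideal.span {Qf a b c})) (pderiv k i (Qf a b c)) ∈ _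
          apply map_mem_maximalIdeal _ hsurj
          rw [mem_maximalIdeal_iff_fil]
          exact Groth.Agent.Lib.Helper21.RKf.fil_pderiv hQ2 i) (2 - 1)
    rwa [pow_one] at h1
  · rw [← map_maximalIdeal _ hsurj,
      Groth.Agent.Lib.Helper26.PowerSeriesRLR.maximalIdeal_mvPowerSeries k 2, Ideal.map_span,
      Ideal.span_le]
    rintro _ ⟨_, ⟨l, rfl⟩, rfl⟩
    obtain ⟨s, t, hst⟩ := Ideal.mem_span_pair.mp (X_mem_span_pderiv a b c hD l)
    show (Ideal.Quotient.mkₐ k (Ideal.span {Qf a b c})) (X l) ∈ _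
    rw [← hst, map_add, map_mul, map_mul]
    exact Ideal.add_mem _ (Ideal.mul_mem_left _ _ (hmem 0)) (Ideal.mul_mem_left _ _ (hmem 1))

end nodeside

section direct

variable {n m : ℕ} (f : Fin m → MvPowerSeries (Fin n) k)

theorem min_of_node (a b c : k) (hD : 4 * a * c - b ^ 2 ≠ 0)
    (σ : (MvPowerSeries (Fin n) k ⧸ Ideal.span (Set.range f)) ≃ₐ[k]
      (MvPowerSeries (Fin 2) k ⧸ Ideal.span {Qf a b c})) :
    Ideal.span (minorSet f) ⊔ Ideal.span (Set.range f) =
      maximalIdeal (MvPowerSeries (Fin n) k) := by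
  obtain ⟨π, hπdef⟩ : ∃ π : MvPowerSeries (Fin n) k →ₐ[k]
      (MvPowerSeries (Fin 2) k ⧸ Ideal.span {Qf a b c}),
      ∀ z, π z = σ (Ideal.Quotient.mk _ z) :=
    ⟨(σ : _ →ₐ[k] _).comp (Ideal.Quotient.mkₐ k (Ideal.span (Set.range f))), fun z => rfl⟩
  have hπ : Function.Surjective π := by
    intro w
    obtain ⟨z, rfl⟩ := σ.surjective w
    obtain ⟨z', rfl⟩ := Ideal.Quotient.mk_surjective z
    exact ⟨z', hπdef z'⟩
  have hker : RingHom.ker π = Ideal.span (Set.range f) := by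
    ext z
    rw [RingHom.mem_ker, hπdef, map_eq_zero_iff σ σ.injective, Ideal.Quotient.eq_zero_iff_mem]
  have hsurj' : Function.Surjective (Ideal.Quotient.mkₐ k (Ideal.span {Qf a b c})) :=
    Ideal.Quotient.mkₐ_surjective k _
  have hker' : RingHom.ker (Ideal.Quotient.mkₐ k (Ideal.span {Qf a b c})) =
      Ideal.span (Set.range fun _ : Unit => Qf a b c) := by
    refine (Ideal.Quotient.mkₐ_ker k _).trans ?_
    rw [Set.range_const]
  have hKI := minor_eq π hπ f hker (Ideal.Quotient.mkₐ k (Ideal.span {Qf a b c})) hsurj'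
    (fun _ : Unit => Qf a b c) hker'
  exact (min_iff f π hπ hker).mpr (hKI.trans (node_minor a b c hD))

theorem isReduced_of_node (a b c : k) (hD : 4 * a * c - b ^ 2 ≠ 0)
    (σ : (MvPowerSeries (Fin n) k ⧸ Ideal.span (Set.range f)) ≃ₐ[k]
      (MvPowerSeries (Fin 2) k ⧸ Ideal.span {Qf a b c})) :
    IsReduced (MvPowerSeries (Fin n) k ⧸ Ideal.span (Set.range f)) := by
  haveI := isReduced_quot a b c hD
  exact isReduced_of_injective σ.toRingEquiv.toRingHom σ.injective

theorem depth_of_node_aux (hf : ∀ j, f j ∈ maximalIdeal (MvPowerSeries (Fin n) k))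
    (a b c : k) (ha : a ≠ 0)
    (σ : (MvPowerSeries (Fin n) k ⧸ Ideal.span (Set.range f)) ≃ₐ[k]
      (MvPowerSeries (Fin 2) k ⧸ Ideal.span {Qf a b c})) :
    LocCoh.depth (MvPowerSeries (Fin n) k)
      (MvPowerSeries (Fin n) k ⧸ Ideal.span (Set.range f)) = 1 := by
  classical
  have hIm : Ideal.span (Set.range f) ≤ maximalIdeal (MvPowerSeries (Fin n) k) := by
    rw [Ideal.span_le]; rintro _ ⟨j, rfl⟩; exact hf j
  have hIne : Ideal.span (Set.range f) ≠ ⊤ := fun h =>
    (IsLocalRing.maximalIdeal.isMaximal (MvPowerSeries (Fin n) k)).ne_top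
      (top_le_iff.mp (h ▸ hIm))
  haveI : Nontrivial (MvPowerSeries (Fin n) k ⧸ Ideal.span (Set.range f)) :=
    Ideal.Quotient.nontrivial_iff.mpr hIne
  obtain ⟨x1, hx1⟩ : ∃ x1 : MvPowerSeries (Fin n) k ⧸ Ideal.span (Set.range f),
      σ x1 = Ideal.Quotient.mk _ (X 1) := ⟨σ.symm _, σ.apply_symm_apply _⟩
  obtain ⟨x0, hx0⟩ : ∃ x0 : MvPowerSeries (Fin n) k ⧸ Ideal.span (Set.range f),
      σ x0 = Ideal.Quotient.mk _ (X 0) := ⟨σ.symm _, σ.apply_symm_apply _⟩
  -- (F1)
  have F1 : ∀ z, x1 * z = 0 → z = 0 := by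
    intro z hz
    have h1 := congrArg σ hz
    rw [map_mul, hx1, map_zero] at h1
    obtain ⟨z', hz'⟩ := Ideal.Quotient.mk_surjective (σ z)
    rw [← hz', ← map_mul, Ideal.Quotient.eq_zero_iff_mem] at h1
    have h2 := mem_span_of_X_mul_mem ha z' h1
    rw [← Ideal.Quotient.eq_zero_iff_mem, hz'] at h2
    exact (map_eq_zero_iff σ σ.injective).mp h2
  -- (F2)
  have F2 : ∀ z, x0 ≠ x1 * z := by
    intro z hz
    have h1 := congrArg σ hz
    rw [map_mul, hx0, hx1] at h1
    obtain ⟨z', hz'⟩ := Ideal.Quotient.mk_surjective (σ z)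
    rw [← hz', ← map_mul, Ideal.Quotient.eq] at h1
    obtain ⟨s, hs⟩ := Ideal.mem_span_singleton'.mp h1
    have h2 := congrArg (coeff (Finsupp.single (0 : Fin 2) 1)) hs
    have h3 : coeff (Finsupp.single (0 : Fin 2) 1) (s * Qf a b c) = 0 := by
      have : Fil 2 (s * Qf a b c) := by
        have := (fil_zero_left s).mul ((mem_pow_iff' 2 _).mp (Qf_mem_sq a b c))
        rwa [zero_add] at this
      exact this _ (by rw [Finsupp.degree_single]; omega)
    have h4 : coeff (Finsupp.single (0 : Fin 2) 1) ((X 1 : MvPowerSeries (Fin 2) k) * z') = 0 :=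
      (MvPowerSeries.X_dvd_iff).mp (Dvd.intro z' rfl) _
        (Finsupp.single_eq_of_ne (by decide))
    rw [h3, map_sub, h4, sub_zero, coeff_X, if_pos rfl] at h2
    exact one_ne_zero h2.symm
  -- (F3)
  have F3 : ∀ y : MvPowerSeries (Fin n) k ⧸ Ideal.span (Set.range f), ¬ IsUnit y →
      ∃ z, y * x0 = x1 * z := by
    intro y hy
    obtain ⟨y', hy'⟩ := Ideal.Quotient.mk_surjective (σ y)
    have hy'm : y' ∈ maximalIdeal (MvPowerSeries (Fin 2) k) := by
      by_contra hnm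
      have hu : IsUnit y' := by rwa [mem_maximalIdeal, mem_nonunits_iff, not_not] at hnm
      have h1 := hu.map (Ideal.Quotient.mk (Ideal.span {Qf a b c}))
      rw [hy'] at h1
      have h2 := h1.map σ.symm
      rw [AlgEquiv.symm_apply_apply] at h2
      exact hy h2
    have hsq : y' * X 0 ∈ maximalIdeal (MvPowerSeries (Fin 2) k) ^ 2 := by
      rw [pow_two]; exact Ideal.mul_mem_mul hy'm (X_mem' 0)
    obtain ⟨g', -, hg'⟩ := exists_div (b := b) (c := c) ha _ hsq
    refine ⟨σ.symm (Ideal.Quotient.mk _ g'), ?_⟩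
    apply σ.injective
    rw [map_mul, map_mul, hx0, hx1, AlgEquiv.apply_symm_apply, ← hy', ← map_mul, ← map_mul,
      Ideal.Quotient.eq]
    exact hg'
  -- module side
  obtain ⟨t, ht⟩ := Ideal.Quotient.mk_surjective x1
  have hsm : ∀ (r : MvPowerSeries (Fin n) k)
      (z : MvPowerSeries (Fin n) k ⧸ Ideal.span (Set.range f)),
      r • z = Ideal.Quotient.mk _ r * z := by
    intro r z
    obtain ⟨z', rfl⟩ := Ideal.Quotient.mk_surjective z
    rfl
  have hnu : ∀ y ∈ maximalIdeal (MvPowerSeries (Fin n) k),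
      ¬ IsUnit (Ideal.Quotient.mk (Ideal.span (Set.range f)) y) := by
    intro y hy hu
    obtain ⟨w, hw⟩ := hu.exists_right_inv
    obtain ⟨w', rfl⟩ := Ideal.Quotient.mk_surjective w
    rw [← map_mul, ← map_one (Ideal.Quotient.mk (Ideal.span (Set.range f))),
      Ideal.Quotient.eq] at hw
    have h1 : y * w' - 1 ∈ maximalIdeal (MvPowerSeries (Fin n) k) := hIm hw
    have h2 : y * w' ∈ maximalIdeal (MvPowerSeries (Fin n) k) := Ideal.mul_mem_right _ _ hy
    have h3 : (1 : MvPowerSeries (Fin n) k) ∈ maximalIdeal (MvPowerSeries (Fin n) k) := by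
      have := Ideal.sub_mem _ h2 h1
      rwa [sub_sub_cancel] at this
    exact (Ideal.ne_top_iff_one _).mp
      (IsLocalRing.maximalIdeal.isMaximal (MvPowerSeries (Fin n) k)).ne_top h3
  have htm : t ∈ maximalIdeal (MvPowerSeries (Fin n) k) := by
    by_contra hnm
    have hu : IsUnit t := by rwa [mem_maximalIdeal, mem_nonunits_iff, not_not] at hnm
    have h1 := hu.map (Ideal.Quotient.mk (Ideal.span (Set.range f)))
    rw [ht] at h1
    obtain ⟨w, hw⟩ := h1.exists_right_inv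
    apply F2 (w * x0)
    rw [← mul_assoc, hw, one_mul]
  have hreg : IsSMulRegular (MvPowerSeries (Fin n) k ⧸ Ideal.span (Set.range f)) t := by
    intro z1 z2 h12
    have h12' : t • z1 = t • z2 := h12
    rw [hsm, hsm, ht] at h12'
    have h3 : x1 * (z1 - z2) = 0 := by rw [mul_sub, h12', sub_self]
    exact sub_eq_zero.mp (F1 _ h3)
  have hIM : maximalIdeal (MvPowerSeries (Fin n) k) •
      (⊤ : Submodule (MvPowerSeries (Fin n) k)
        (MvPowerSeries (Fin n) k ⧸ Ideal.span (Set.range f))) ≠ ⊤ :=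
    Groth.Agent.Lib.Helper4.maximalIdeal_smul_top_ne_top
  show LocCoh.idealDepth (maximalIdeal (MvPowerSeries (Fin n) k))
    (MvPowerSeries (Fin n) k ⧸ Ideal.span (Set.range f)) = 1
  rw [← Groth.Agent.Lib.Helper4.idealDepth_quotSMulTop_add_one
    (maximalIdeal (MvPowerSeries (Fin n) k)) t htm hreg]
  have hzero : LocCoh.idealDepth (maximalIdeal (MvPowerSeries (Fin n) k))
      (QuotSMulTop t (MvPowerSeries (Fin n) k ⧸ Ideal.span (Set.range f))) = 0 := by
    rw [Groth.Agent.Lib.Helper4.idealDepth_eq_zero_iff _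
      (Groth.Agent.Lib.Helper4.smul_top_quotSMulTop_ne_top _ htm hIM)]
    intro y hy hregy
    have hw0 : (Submodule.Quotient.mk x0 :
        QuotSMulTop t (MvPowerSeries (Fin n) k ⧸ Ideal.span (Set.range f))) ≠ 0 := by
      intro h
      rw [Submodule.Quotient.mk_eq_zero, Submodule.mem_smul_pointwise_iff_exists] at h
      obtain ⟨z, -, hz⟩ := h
      rw [hsm, ht] at hz
      exact F2 z hz.symm
    have hyw : y • (Submodule.Quotient.mk x0 :
        QuotSMulTop t (MvPowerSeries (Fin n) k ⧸ Ideal.span (Set.range f))) = 0 := by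
      rw [← Submodule.Quotient.mk_smul, Submodule.Quotient.mk_eq_zero, hsm]
      obtain ⟨z, hz⟩ := F3 _ (hnu y hy)
      rw [hz, ← ht, ← hsm]
      exact Submodule.smul_mem_pointwise_smul z t ⊤ Submodule.mem_top
    exact hw0 (hregy (hyw.trans (smul_zero y).symm))
  rw [hzero, zero_add]

theorem depth_of_node (hf : ∀ j, f j ∈ maximalIdeal (MvPowerSeries (Fin n) k))
    (a b c : k) (hD : 4 * a * c - b ^ 2 ≠ 0)
    (σ : (MvPowerSeries (Fin n) k ⧸ Ideal.span (Set.range f)) ≃ₐ[k]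
      (MvPowerSeries (Fin 2) k ⧸ Ideal.span {Qf a b c})) :
    LocCoh.depth (MvPowerSeries (Fin n) k)
      (MvPowerSeries (Fin n) k ⧸ Ideal.span (Set.range f)) = 1 := by
  obtain ⟨a', b', c', ha', hD', θ, hθ⟩ := exists_change a b c hD
  have hIJ : Ideal.span {Qf a' b' c'} =
      (Ideal.span {Qf a b c}).map (θ : MvPowerSeries (Fin 2) k →+* MvPowerSeries (Fin 2) k) := by
    rw [Ideal.map_span, Set.image_singleton]
    show Ideal.span {Qf a' b' c'} = Ideal.span {θ (Qf a b c)}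
    rw [hθ]
  exact depth_of_node_aux f hf a' b' c' ha'
    (σ.trans (Ideal.quotientEquivAlg _ _ θ hIJ))

end direct

section converse

variable {n m : ℕ} (f : Fin m → MvPowerSeries (Fin n) k)

/-- the criterion: minors condition and a regular element give a node -/
theorem node_of_min (hf : ∀ j, f j ∈ maximalIdeal (MvPowerSeries (Fin n) k))
    (hmin : Ideal.span (minorSet f) ⊔ Ideal.span (Set.range f) =
      maximalIdeal (MvPowerSeries (Fin n) k))
    (hreg : (∃ t ∈ maximalIdeal (MvPowerSeries (Fin n) k),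
        IsSMulRegular (MvPowerSeries (Fin n) k ⧸ Ideal.span (Set.range f)) t) ∨
      IsReduced (MvPowerSeries (Fin n) k ⧸ Ideal.span (Set.range f))) :
    ∃ a b c : k, 4 * a * c - b ^ 2 ≠ 0 ∧
      Nonempty ((MvPowerSeries (Fin n) k ⧸ Ideal.span (Set.range f)) ≃ₐ[k]
        (MvPowerSeries (Fin 2) k ⧸ Ideal.span {Qf a b c})) := by
  classical
  have hIm : Ideal.span (Set.range f) ≤ maximalIdeal (MvPowerSeries (Fin n) k) := by
    rw [Ideal.span_le]; rintro _ ⟨j, rfl⟩; exact hf j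
  have hIne : Ideal.span (Set.range f) ≠ ⊤ := fun h =>
    (IsLocalRing.maximalIdeal.isMaximal (MvPowerSeries (Fin n) k)).ne_top
      (top_le_iff.mp (h ▸ hIm))
  haveI : Nontrivial (MvPowerSeries (Fin n) k ⧸ Ideal.span (Set.range f)) :=
    Ideal.Quotient.nontrivial_iff.mpr hIne
  haveI : IsLocalRing (MvPowerSeries (Fin n) k ⧸ Ideal.span (Set.range f)) :=
    IsLocalRing.of_surjective' (Ideal.Quotient.mk _) Ideal.Quotient.mk_surjective
  obtain ⟨π', hπ', hker2, g, hg, hdet⟩ := exists_two_pres f hf hmin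
  -- a regular element of the quotient ring in its maximal ideal
  obtain ⟨s, hsm, hsreg⟩ : ∃ s ∈ maximalIdeal (MvPowerSeries (Fin n) k ⧸ Ideal.span (Set.range f)),
      ∀ z, s * z = 0 → z = 0 := by
    rcases hreg with ⟨t, htm, htreg⟩ | hred
    · refine ⟨Ideal.Quotient.mk _ t, ?_, ?_⟩
      · have := map_mem_maximalIdeal (Ideal.Quotient.mkₐ k (Ideal.span (Set.range f)))
          (Ideal.Quotient.mkₐ_surjective k _) t htm
        exact this
      · intro z hz
        obtain ⟨z', rfl⟩ := Ideal.Quotient.mk_surjective z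
        apply htreg
        show t • (Ideal.Quotient.mk (Ideal.span (Set.range f)) z') = t • 0
        rw [smul_zero]
        exact hz
    · haveI := hred
      apply exists_regular
      intro hbot
      have hx0 : π' (X 0) = 0 := by
        have := map_mem_maximalIdeal π' hπ' _
          (Groth.Agent.Lib.Helper7.PowSerCRing.X_mem (0 : Fin 2))
        rw [hbot, Ideal.mem_bot] at this
        exact this
      have hx1 : Fil 2 (X (0 : Fin 2) : MvPowerSeries (Fin 2) k) :=
        (mem_pow_iff' 2 _).mp (hker2 (RingHom.mem_ker.mpr hx0))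
      have hx2 := hx1 (Finsupp.single 0 1) (by rw [Finsupp.degree_single]; omega)
      rw [coeff_X, if_pos rfl] at hx2
      exact one_ne_zero hx2
  obtain ⟨t', ht'⟩ := hπ' s
  have ht'm : t' ∈ maximalIdeal (MvPowerSeries (Fin 2) k) := by
    by_contra hnm
    have hu : IsUnit t' := by rwa [mem_maximalIdeal, mem_nonunits_iff, not_not] at hnm
    have h1 := hu.map π'
    rw [ht'] at h1
    exact (mem_nonunits_iff.mp ((mem_maximalIdeal _).mp hsm)) h1
  exact node_of_pres π' hπ' hker2 g hg hdet t' ht'm (fun z hz => hsreg z (by rwa [ht'] at hz))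

end converse

end Groth.Agent.Lib.Helper21.RKw
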