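import Mathlib
import Groth.Agent.Lib.Helper26.PowerSeriesRLR
import Groth.Agent.Lib.Helper21.RKi
import Groth.Agent.Lib.Helper21.RKo
import Groth.Agent.Lib.Helper21.RKq
import Groth.Agent.Lib.Helper8.EssEtNoeth

/-!
# helper21: general lemmas for flat deformations of the node (S14084)
-/

set_option autoImplicit false
set_option linter.style.haveILetI false
set_option linter.unusedSectionVars false
set_option linter.unusedVariables false
set_option linter.unusedSimpArgs false

namespace Groth.Agent.Lib.Helper21.RKx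

open MvPowerSeries IsLocalRing

universe u

/-- base-ring version of `Helper26.PowerSeriesRLR.exists_algHom` -/
theorem exists_algHom' (k : Type u) [CommRing k] {d : ℕ} {R : Type u} [CommRing R] [IsLocalRing R]
    [Algebra k R]
    [IsAdicComplete (maximalIdeal R) R] (x : Fin d → R) (hx : ∀ i, x i ∈ maximalIdeal R) :
    ∃ ψ : MvPowerSeries (Fin d) k →ₐ[k] R, ∀ i, ψ (MvPowerSeries.X i) = x i := by
  classical
  let g : MvPolynomial (Fin d) k →ₐ[k] R := MvPolynomial.aeval x
  have hJ : (MvPolynomial.idealOfVars (Fin d) k).map g.toRingHom ≤ maximalIdeal R := by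
    rw [Ideal.map_span, Ideal.span_le]
    rintro _ ⟨_, ⟨i, rfl⟩, rfl⟩
    simpa [g] using hx i
  have hJn : ∀ n : ℕ, ∀ a ∈ MvPolynomial.idealOfVars (Fin d) k ^ n, g a ∈ maximalIdeal R ^ n := by
    intro n a ha
    have h1 : g a ∈ (MvPolynomial.idealOfVars (Fin d) k ^ n).map g.toRingHom :=
      Ideal.mem_map_of_mem _ ha
    rw [Ideal.map_pow] at h1
    exact Ideal.pow_right_mono hJ n h1
  let f : (n : ℕ) → MvPowerSeries (Fin d) k →ₐ[k] R ⧸ maximalIdeal R ^ n := fun n =>
    (Ideal.Quotient.liftₐ (MvPolynomial.idealOfVars (Fin d) k ^ n)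
      ((Ideal.Quotient.mkₐ k (maximalIdeal R ^ n)).comp g)
      (fun a ha => by
        rw [AlgHom.comp_apply, Ideal.Quotient.mkₐ_eq_mk, Ideal.Quotient.eq_zero_iff_mem]
        exact hJn n a ha)).comp
      ((MvPowerSeries.truncTotalAlgHom (Fin d) k n).restrictScalars k)
  have hfapp : ∀ n p, f n p = Ideal.Quotient.mk (maximalIdeal R ^ n)
      (g (MvPowerSeries.truncTotal n p)) := by
    intro n p
    rfl
  have hf : ∀ {m n : ℕ} (hle : m ≤ n),
      (Ideal.Quotient.factorₐ k (Ideal.pow_le_pow_right hle)).comp (f n) = f m := by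
    intro m n hle
    ext p
    rw [AlgHom.comp_apply, hfapp, hfapp, Ideal.Quotient.factorₐ_apply_mk, Ideal.Quotient.eq,
      ← map_sub]
    exact hJn m _ (MvPowerSeries.truncTotal_sub_truncTotal_mem_pow_idealOfVars hle le_rfl p)
  refine ⟨IsAdicComplete.liftAlgHom (maximalIdeal R) f hf, fun i => ?_⟩
  rw [← sub_eq_zero]
  apply IsHausdorff.haus (inferInstance : IsHausdorff (maximalIdeal R) R)
  intro n
  rw [SModEq.zero, smul_eq_mul, Ideal.mul_top, ← Ideal.Quotient.eq, IsAdicComplete.mk_liftAlgHom,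
    hfapp, Ideal.Quotient.eq]
  have h1 : MvPowerSeries.truncTotal n (MvPowerSeries.X i : MvPowerSeries (Fin d) k) -
      MvPolynomial.X i ∈ MvPolynomial.idealOfVars (Fin d) k ^ n := by
    rw [← Ideal.Quotient.eq]
    have := (MvPowerSeries.truncTotalAlgHom (Fin d) k n).commutes (MvPolynomial.X i)
    rw [MvPowerSeries.truncTotalAlgHom_apply] at this
    have h0 : (algebraMap (MvPolynomial (Fin d) k) (MvPowerSeries (Fin d) k)) (MvPolynomial.X i) =
        MvPowerSeries.X i := MvPolynomial.coe_X i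
    rw [h0] at this
    exact this
  have h2 := hJn n _ h1
  rw [map_sub] at h2
  simpa [g] using h2

/-- dependent choice along `ℕ` -/
theorem exists_seq {α : Type*} (P : ℕ → α → Prop) (Cl : ℕ → α → α → Prop) (x0 : α) (h0 : P 0 x0)
    (hstep : ∀ n x, P n x → ∃ y, P (n + 1) y ∧ Cl n x y) :
    ∃ f : ℕ → α, f 0 = x0 ∧ (∀ n, P n (f n)) ∧ ∀ n, Cl n (f n) (f (n + 1)) := by
  classical
  let g : (n : ℕ) → {x // P n x} := fun n => Nat.rec (motive := fun n => {x // P n x}) ⟨x0, h0⟩
    (fun n x => ⟨(hstep n x.1 x.2).choose, (hstep n x.1 x.2).choose_spec.1⟩) n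
  refine ⟨fun n => (g n).1, rfl, fun n => (g n).2, fun n => ?_⟩
  exact (hstep n (g n).1 (g n).2).choose_spec.2

/-- limits of sequences with small increments -/
theorem exists_limit {M : Type*} [CommRing M] (I : Ideal M) [IsPrecomplete I M] (f : ℕ → M)
    (h : ∀ n, f (n + 1) - f n ∈ I ^ n) : ∃ L, ∀ n, L - f n ∈ I ^ n := by
  have h1 : ∀ m n, m ≤ n → f n - f m ∈ I ^ m := by
    intro m n hmn
    induction n, hmn using Nat.le_induction with
    | base => simp
    | succ n hmn ih =>
      have h2 : f (n + 1) - f m = (f (n + 1) - f n) + (f n - f m) := by ring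
      rw [h2]
      exact Ideal.add_mem _ (Ideal.pow_le_pow_right hmn (h n)) ih
  obtain ⟨L, hL⟩ := IsPrecomplete.prec (inferInstance : IsPrecomplete I M) (f := f) (by
    intro m n hmn
    rw [SModEq.sub_mem, smul_eq_mul, Ideal.mul_top]
    have h3 := h1 m n hmn
    have h4 : f m - f n = -(f n - f m) := by ring
    rw [h4]
    exact (Ideal.neg_mem_iff _).mpr h3)
  refine ⟨L, fun n => ?_⟩
  have h5 := hL n
  rw [SModEq.sub_mem, smul_eq_mul, Ideal.mul_top] at h5
  have h6 : L - f n = -(f n - L) := by ring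
  rw [h6]
  exact (Ideal.neg_mem_iff _).mpr h5

/-- a power series with coefficients in a finitely generated ideal lies in `I • ⊤` -/
theorem mem_smul_top_of_coeff_mem {R : Type*} [CommRing R] {σ : Type*} (I : Ideal R) (hI : I.FG)
    (f : MvPowerSeries σ R) (hf : ∀ m, coeff m f ∈ I) :
    f ∈ I • (⊤ : Submodule R (MvPowerSeries σ R)) := by
  classical
  obtain ⟨s, hs⟩ := hI
  have h1 : ∀ m, ∃ c : s → R, ∑ a : s, c a • a.1 = coeff m f := by
    intro m
    have h2 := hf m
    rw [← hs] at h2
    exact Submodule.mem_span_finset'.mp h2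
  choose c hc using h1
  let gs : s → MvPowerSeries σ R := fun a m => c m a
  have h3 : f = ∑ a : s, (a.1 : R) • gs a := by
    ext m
    rw [map_sum, ← hc m]
    apply Finset.sum_congr rfl
    intro a _
    rw [MvPowerSeries.coeff_smul, smul_eq_mul, mul_comm]
    rfl
  rw [h3]
  apply Submodule.sum_mem
  intro a _
  apply Submodule.smul_mem_smul _ Submodule.mem_top
  rw [← hs]
  exact Submodule.subset_span a.2

theorem map_surjective {R T : Type*} [CommRing R] [CommRing T] {σ : Type*} (χ : R →+* T)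
    (hχ : Function.Surjective χ) : Function.Surjective (MvPowerSeries.map (σ := σ) χ) := by
  intro g
  choose c hc using hχ
  let g' : MvPowerSeries σ R := fun m => c (coeff m g)
  refine ⟨g', ?_⟩
  ext m
  rw [coeff_map]
  exact hc _

/-- closedness of ideals in a Noetherian local ring -/
theorem mem_of_forall_mem_sup_pow {S : Type*} [CommRing S] [IsLocalRing S] [IsNoetherianRing S]
    (I : Ideal S) (x : S) (h : ∀ n, x ∈ I ⊔ maximalIdeal S ^ n) : x ∈ I := by
  rw [← Ideal.Quotient.eq_zero_iff_mem]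
  apply IsHausdorff.haus (inferInstance : IsHausdorff (maximalIdeal S) (S ⧸ I))
  intro n
  rw [SModEq.zero]
  obtain ⟨i, hi, y, hy, hxy⟩ := Submodule.mem_sup.mp (h n)
  have h1 : Ideal.Quotient.mk I x = y • (Ideal.Quotient.mk I 1) := by
    rw [← hxy, map_add, Ideal.Quotient.eq_zero_iff_mem.mpr hi, zero_add]
    rw [Algebra.smul_def, Ideal.Quotient.algebraMap_eq, ← map_mul, mul_one]
  rw [h1]
  exact Submodule.smul_mem_smul hy Submodule.mem_top

section node

variable (k : Type u) [Field k]

/-- the split node `k[[X,Y]]/(XY)` -/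
noncomputable abbrev XY : MvPowerSeries (Fin 2) k := X 0 * X 1

abbrev Nd : Type u := MvPowerSeries (Fin 2) k ⧸ Ideal.span {XY k}

/-- constant coefficient on the node -/
noncomputable def cc : Nd k →+* k :=
  Ideal.Quotient.lift _ (constantCoeff (σ := Fin 2) (R := k)) (by
    intro a ha
    rw [Ideal.mem_span_singleton'] at ha
    obtain ⟨b, rfl⟩ := ha
    simp [XY])

theorem cc_mk (g : MvPowerSeries (Fin 2) k) :
    cc k (Ideal.Quotient.mk _ g) = constantCoeff g := rfl

instance : Nontrivial (Nd k) := RingHom.domain_nontrivial (cc k)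

instance : IsLocalRing (Nd k) :=
  IsLocalRing.of_surjective' (Ideal.Quotient.mk (Ideal.span {XY k})) Ideal.Quotient.mk_surjective

theorem X_mul_X_mem (i j : Fin 2) (hij : i ≠ j) :
    (X i * X j : MvPowerSeries (Fin 2) k) ∈ Ideal.span {XY k} := by
  fin_cases i <;> fin_cases j
  · exact absurd rfl hij
  · exact Ideal.subset_span rfl
  · rw [mul_comm]; exact Ideal.subset_span rfl
  · exact absurd rfl hij

theorem X_prime (i : Fin 2) : Prime (X i : MvPowerSeries (Fin 2) k) := by
  fin_cases i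
  · exact RKo.X_zero_prime
  · exact RKo.X_one_prime

theorem span_XY_le (i : Fin 2) :
    Ideal.span {XY k} ≤ Ideal.span {(X i : MvPowerSeries (Fin 2) k)} := by
  rw [Ideal.span_singleton_le_span_singleton]
  fin_cases i
  · exact ⟨X 1, rfl⟩
  · exact ⟨X 0, mul_comm _ _⟩

theorem X_notMem_span_X (i j : Fin 2) (hij : i ≠ j) :
    (X j : MvPowerSeries (Fin 2) k) ∉ Ideal.span {(X i : MvPowerSeries (Fin 2) k)} := by
  intro h
  rw [Ideal.mem_span_singleton, X_dvd_iff] at h
  have h1 := h (Finsupp.single j 1) (by rw [Finsupp.single_apply, if_neg (Ne.symm hij)])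
  rw [coeff_index_single_self_X] at h1
  exact one_ne_zero h1

theorem constantCoeff_eq_zero_of_X_zero_mul_mem (G : MvPowerSeries (Fin 2) k)
    (h : X 0 * G ∈ Ideal.span {XY k}) : constantCoeff G = 0 := by
  haveI : IsDomain (MvPowerSeries (Fin 2) k) := NoZeroDivisors.to_isDomain _
  rw [Ideal.mem_span_singleton'] at h
  obtain ⟨b, hb⟩ := h
  have h1 : (X 0 : MvPowerSeries (Fin 2) k) * G = X 0 * (b * X 1) := by
    rw [← hb]; simp only [XY]; ring
  have h2 := mul_left_cancel₀ (RKo.X_ne_zero' 0) h1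
  rw [h2]; simp

theorem constantCoeff_eq_zero_of_X_one_mul_mem (G : MvPowerSeries (Fin 2) k)
    (h : X 1 * G ∈ Ideal.span {XY k}) : constantCoeff G = 0 := by
  haveI : IsDomain (MvPowerSeries (Fin 2) k) := NoZeroDivisors.to_isDomain _
  rw [Ideal.mem_span_singleton'] at h
  obtain ⟨b, hb⟩ := h
  have h1 : (X 1 : MvPowerSeries (Fin 2) k) * G = X 1 * (b * X 0) := by
    rw [← hb]; simp only [XY]; ring
  have h2 := mul_left_cancel₀ (RKo.X_ne_zero' 1) h1
  rw [h2]; simp

/-- if `X i * G` vanishes on the node then `G` has no constant term -/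
theorem constantCoeff_eq_zero_of_X_mul_mem (i : Fin 2) (G : MvPowerSeries (Fin 2) k)
    (h : X i * G ∈ Ideal.span {XY k}) : constantCoeff G = 0 := by
  fin_cases i
  · exact constantCoeff_eq_zero_of_X_zero_mul_mem k G h
  · exact constantCoeff_eq_zero_of_X_one_mul_mem k G h

/-- series without constant term lie in `(X₀, X₁)` -/
theorem exists_eq_of_constantCoeff_eq_zero (G : MvPowerSeries (Fin 2) k)
    (h : constantCoeff G = 0) : ∃ g₀ g₁, G = X 0 * g₀ + X 1 * g₁ := by
  have h1 : G ∈ maximalIdeal (MvPowerSeries (Fin 2) k) := by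
    rw [mem_maximalIdeal, mem_nonunits_iff, MvPowerSeries.isUnit_iff_constantCoeff, h]
    exact not_isUnit_zero
  rw [Groth.Agent.Lib.Helper26.PowerSeriesRLR.maximalIdeal_mvPowerSeries,
    Ideal.mem_span_range_iff_exists_fun] at h1
  obtain ⟨c, hc⟩ := h1
  rw [Fin.sum_univ_two] at hc
  exact ⟨c 0, c 1, by rw [← hc]; ring⟩

end node

end Groth.Agent.Lib.Helper21.RKx
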