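import Mathlib
import Groth.Agent.Lib.Helper21.RKx
import Groth.Agent.Lib.Helper21.RIa

/-!
# helper21: equivariant coordinates on a flat deformation of the node (S14084)
-/

set_option autoImplicit false
set_option linter.style.haveILetI false
set_option linter.unusedSectionVars false
set_option linter.unusedVariables false
set_option linter.unusedSimpArgs false

namespace Groth.Agent.Lib.Helper21.RKy

open MvPowerSeries IsLocalRing Groth.Agent.Lib.Helper21.RKx

universe u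

/-- the ideal of the closed fibre -/
abbrev JJ (R S : Type u) [CommRing R] [IsLocalRing R] [CommRing S] [Algebra R S] : Ideal S :=
  Ideal.map (algebraMap R S) (maximalIdeal R)

/-- closed-fibre datum -/
structure Ctx (k R S : Type u) [Field k] [CommRing R] [IsLocalRing R] [CommRing S] [IsLocalRing S]
    [Algebra k R] [Algebra R S] [Algebra k S] where
  E : S →+* Nd k
  surj : Function.Surjective E
  ker : RingHom.ker E = Ideal.map (algebraMap R S) (maximalIdeal R)
  comm : ∀ c : k, E (algebraMap k S c) = Ideal.Quotient.mk _ (C c)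

variable {k R S : Type u} [Field k] [CommRing R] [IsLocalRing R] [CommRing S] [IsLocalRing S]
  [Algebra k R] [Algebra R S] [Algebra k S] [IsScalarTower k R S]

theorem algebraMap_mem_J_pow {n : ℕ} {τ : R} (h : τ ∈ maximalIdeal R ^ n) :
    algebraMap R S τ ∈ JJ R S ^ n := by
  show _ ∈ Ideal.map (algebraMap R S) (maximalIdeal R) ^ n
  rw [← Ideal.map_pow]
  exact Ideal.mem_map_of_mem _ h

section sigma

variable (σ : S ≃ₐ[R] S)

theorem σ_algebraMap_k (c : k) : σ (algebraMap k S c) = algebraMap k S c := by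
  rw [IsScalarTower.algebraMap_apply k R S, σ.commutes]

theorem σ_mem_maximalIdeal {x : S} (hx : x ∈ maximalIdeal S) : σ x ∈ maximalIdeal S := by
  rw [mem_maximalIdeal, mem_nonunits_iff] at hx ⊢
  intro h
  apply hx
  have h1 := h.map σ.symm
  rwa [AlgEquiv.symm_apply_apply] at h1

theorem σ_mem_maximalIdeal_pow (n : ℕ) {x : S} (hx : x ∈ maximalIdeal S ^ n) :
    σ x ∈ maximalIdeal S ^ n := by
  have h1 : Ideal.map (σ : S →+* S) (maximalIdeal S) ≤ maximalIdeal S := by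
    rw [Ideal.map_le_iff_le_comap]
    intro y hy
    exact σ_mem_maximalIdeal σ hy
  have h2 : σ x ∈ Ideal.map (σ : S →+* S) (maximalIdeal S ^ n) := Ideal.mem_map_of_mem _ hx
  rw [Ideal.map_pow] at h2
  exact Ideal.pow_right_mono h1 n h2

theorem σ_mem_J_pow (j : ℕ) {x : S} (hx : x ∈ JJ R S ^ j) : σ x ∈ JJ R S ^ j := by
  have h1 : Ideal.map (σ : S →+* S) (JJ R S ^ j) = JJ R S ^ j := by
    show Ideal.map (σ : S →+* S) (Ideal.map (algebraMap R S) (maximalIdeal R) ^ j) =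
      Ideal.map (algebraMap R S) (maximalIdeal R) ^ j
    rw [← Ideal.map_pow, Ideal.map_map]
    congr 1
    ext r
    exact σ.commutes r
  rw [← h1]
  exact Ideal.mem_map_of_mem _ hx

theorem σ_mem_J {x : S} (hx : x ∈ JJ R S) : σ x ∈ JJ R S := by
  have h := σ_mem_J_pow σ 1 (x := x) (by rwa [pow_one])
  rwa [pow_one] at h

/-- averaging operator -/
noncomputable def avg (η : k) (x : S) : S :=
  algebraMap k S (2 : k)⁻¹ * (x + algebraMap k S η * σ x)

theorem half_mul_two (h2 : (2 : k) ≠ 0) : algebraMap k S (2 : k)⁻¹ * 2 = 1 := by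
  have h : (2 : S) = algebraMap k S 2 := (map_ofNat (algebraMap k S) 2).symm
  rw [h, ← map_mul, inv_mul_cancel₀ h2, map_one]

theorem sq_one (η : k) (hη : η ^ 2 = 1) : algebraMap k S η * algebraMap k S η = 1 := by
  rw [← map_mul, ← pow_two, hη, map_one]

theorem σ_avg (hσ : ∀ s, σ (σ s) = s) (η : k) (hη : η ^ 2 = 1) (x : S) :
    σ (avg σ η x) = algebraMap k S η * avg σ η x := by
  unfold avg
  rw [map_mul, map_add, map_mul, σ_algebraMap_k, σ_algebraMap_k, hσ]
  have he := sq_one (S := S) η hη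
  linear_combination (-(algebraMap k S (2 : k)⁻¹ * σ x)) * he

theorem avg_of_eigen (h2 : (2 : k) ≠ 0) (η : k) (hη : η ^ 2 = 1) (x : S)
    (hx : σ x = algebraMap k S η * x) : avg σ η x = x := by
  unfold avg
  rw [hx]
  have he := sq_one (S := S) η hη
  have hh := half_mul_two (S := S) h2
  linear_combination (algebraMap k S (2 : k)⁻¹ * x) * he + x * hh

theorem avg_mul (η μ : k) (y x : S) (hy : σ y = algebraMap k S μ * y) :
    avg σ η (y * x) = y * avg σ (η * μ) x := by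
  unfold avg
  rw [map_mul σ, hy, map_mul (algebraMap k S)]
  ring

theorem avg_add (η : k) (x y : S) : avg σ η (x + y) = avg σ η x + avg σ η y := by
  unfold avg
  rw [map_add]
  ring

theorem avg_mem_J_pow (η : k) (n : ℕ) {x : S} (hx : x ∈ JJ R S ^ n) :
    avg σ η x ∈ JJ R S ^ n := by
  unfold avg
  exact Ideal.mul_mem_left _ _ (Ideal.add_mem _ hx (Ideal.mul_mem_left _ _ (σ_mem_J_pow σ n hx)))

theorem avg_algebraMap (η : k) (τ : R) :
    avg σ η (algebraMap R S τ) =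
      algebraMap R S (algebraMap k R ((2 : k)⁻¹ * (1 + η)) * τ) := by
  unfold avg
  rw [σ.commutes, map_mul (algebraMap R S), ← IsScalarTower.algebraMap_apply, map_mul, map_add,
    map_one]
  ring

end sigma

namespace Ctx

variable (D : Ctx k R S)

/-- residue map of `S` -/
noncomputable def res : S →+* k := (cc k).comp D.E

theorem res_algebraMap (c : k) : D.res (algebraMap k S c) = c := by
  show cc k (D.E (algebraMap k S c)) = c
  rw [D.comm, cc_mk]
  simp

theorem ker_res : RingHom.ker D.res = maximalIdeal S := by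
  have hs : Function.Surjective D.res := fun c => ⟨algebraMap k S c, D.res_algebraMap c⟩
  haveI := RingHom.ker_isMaximal_of_surjective D.res hs
  exact IsLocalRing.eq_maximalIdeal inferInstance

theorem res_eq_zero_iff (x : S) : D.res x = 0 ↔ x ∈ maximalIdeal S := by
  rw [← D.ker_res, RingHom.mem_ker]

theorem sub_res_mem (x : S) : x - algebraMap k S (D.res x) ∈ maximalIdeal S := by
  rw [← D.res_eq_zero_iff, map_sub, D.res_algebraMap, sub_self]

theorem mem_J_iff (x : S) : x ∈ JJ R S ↔ D.E x = 0 := by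
  show x ∈ Ideal.map (algebraMap R S) (maximalIdeal R) ↔ _
  rw [← D.ker, RingHom.mem_ker]

include D in
theorem J_le : JJ R S ≤ maximalIdeal S := by
  intro x hx
  rw [← D.res_eq_zero_iff]
  show cc k (D.E x) = 0
  rw [(D.mem_J_iff x).mp hx, map_zero]

theorem isUnit_of_res_ne_zero (x : S) (h : D.res x ≠ 0) : IsUnit x := by
  by_contra hx
  exact h ((D.res_eq_zero_iff x).mpr ((mem_maximalIdeal x).mpr hx))

/-- residue map of `R` -/
noncomputable def chi : R →+* k := D.res.comp (algebraMap R S)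

theorem chi_algebraMap (c : k) : D.chi (algebraMap k R c) = c := by
  show D.res (algebraMap R S (algebraMap k R c)) = c
  rw [← IsScalarTower.algebraMap_apply, D.res_algebraMap]

theorem ker_chi [IsLocalHom (algebraMap R S)] : RingHom.ker D.chi = maximalIdeal R := by
  ext r
  rw [RingHom.mem_ker]
  show D.res (algebraMap R S r) = 0 ↔ _
  rw [D.res_eq_zero_iff, mem_maximalIdeal, mem_maximalIdeal, mem_nonunits_iff, mem_nonunits_iff,
    isUnit_map_iff]

theorem sub_chi_mem [IsLocalHom (algebraMap R S)] (r : R) :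
    r - algebraMap k R (D.chi r) ∈ maximalIdeal R := by
  rw [← D.ker_chi, RingHom.mem_ker, map_sub, D.chi_algebraMap, sub_self]

theorem E_algebraMap [IsLocalHom (algebraMap R S)] (r : R) :
    D.E (algebraMap R S r) = Ideal.Quotient.mk _ (C (D.chi r)) := by
  have h1 : algebraMap R S (r - algebraMap k R (D.chi r)) ∈ JJ R S :=
    Ideal.mem_map_of_mem _ (D.sub_chi_mem r)
  have h2 := (D.mem_J_iff _).mp h1
  rw [map_sub, map_sub, sub_eq_zero, ← IsScalarTower.algebraMap_apply, D.comm] at h2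
  exact h2

theorem res_σ (σ : S ≃ₐ[R] S) (x : S) : D.res (σ x) = D.res x := by
  have h1 := σ_mem_maximalIdeal σ (D.sub_res_mem x)
  rw [map_sub, σ_algebraMap_k] at h1
  rw [← D.res_eq_zero_iff, map_sub, D.res_algebraMap] at h1
  exact sub_eq_zero.mp h1

/-- the branches of the closed fibre -/
theorem branch (i j : Fin 2) (hij : i ≠ j) (p q : S)
    (hp : D.E p = Ideal.Quotient.mk _ (X i)) (hq : D.E q = Ideal.Quotient.mk _ (X j)) :
    ∃ P : Ideal S, P ∈ (JJ R S).minimalPrimes ∧ p ∈ P ∧ P ≤ JJ R S ⊔ Ideal.span {p} := by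
  haveI hprime : (Ideal.span {(X i : MvPowerSeries (Fin 2) k)}).IsPrime :=
    (Ideal.span_singleton_prime (X_prime k i).ne_zero).mpr (X_prime k i)
  let ψ : S →+* (MvPowerSeries (Fin 2) k ⧸ Ideal.span {(X i : MvPowerSeries (Fin 2) k)}) :=
    (Ideal.Quotient.factor (span_XY_le k i)).comp D.E
  have hψ : ∀ s G, D.E s = Ideal.Quotient.mk _ G → ψ s = Ideal.Quotient.mk _ G := by
    intro s G h
    show Ideal.Quotient.factor (span_XY_le k i) (D.E s) = _
    rw [h]
    exact Ideal.Quotient.factor_mk (span_XY_le k i) G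
  have hker : ∀ s, ψ s = 0 → s ∈ JJ R S ⊔ Ideal.span {p} := by
    intro s hs
    obtain ⟨G, hG⟩ := Ideal.Quotient.mk_surjective (D.E s)
    rw [hψ s G hG.symm, Ideal.Quotient.eq_zero_iff_mem, Ideal.mem_span_singleton] at hs
    obtain ⟨g, rfl⟩ := hs
    obtain ⟨s', hs'⟩ := D.surj (Ideal.Quotient.mk _ g)
    have h1 : s - p * s' ∈ JJ R S := by
      rw [D.mem_J_iff, map_sub, map_mul, hp, hs', ← hG, ← map_mul, sub_self]
    have h2 : s = (s - p * s') + p * s' := by ring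
    rw [h2]
    exact Ideal.add_mem _ (Ideal.mem_sup_left h1)
      (Ideal.mem_sup_right (Ideal.mul_mem_right _ _ (Ideal.mem_span_singleton_self p)))
  have hJle : JJ R S ≤ RingHom.ker ψ := by
    intro x hx
    rw [RingHom.mem_ker]
    show Ideal.Quotient.factor (span_XY_le k i) (D.E x) = 0
    rw [(D.mem_J_iff x).mp hx, map_zero]
  have hpmem : p ∈ RingHom.ker ψ := by
    rw [RingHom.mem_ker, hψ p _ hp, Ideal.Quotient.eq_zero_iff_mem]
    exact Ideal.mem_span_singleton_self _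
  refine ⟨RingHom.ker ψ, ⟨⟨RingHom.ker_isPrime ψ, hJle⟩, ?_⟩, hpmem, fun s hs => hker s hs⟩
  rintro Q ⟨hQ, hJQ⟩ hQP
  have hpq : p * q ∈ Q := hJQ ((D.mem_J_iff _).mpr (by
    rw [map_mul, hp, hq, ← map_mul, Ideal.Quotient.eq_zero_iff_mem]
    exact X_mul_X_mem k i j hij))
  have hq' : q ∉ Q := by
    intro h
    have h3 := hQP h
    rw [RingHom.mem_ker, hψ q _ hq, Ideal.Quotient.eq_zero_iff_mem] at h3
    exact X_notMem_span_X k i j hij h3
  have hpQ : p ∈ Q := (hQ.mem_or_mem hpq).resolve_right hq'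
  intro s hs
  have h4 := hker s hs
  exact (sup_le hJQ ((Ideal.span_singleton_le_iff_mem Q).mpr hpQ)) h4

/-- eigen-coordinate lifting a branch coordinate -/
theorem eigen (h2 : (2 : k) ≠ 0) (σ : S ≃ₐ[R] S) (hσ : ∀ s, σ (σ s) = s) (i : Fin 2) (p : S)
    (hp : D.E p = Ideal.Quotient.mk _ (X i))
    (jj s : S) (hj : jj ∈ JJ R S) (hsp : σ p = jj + s * p) :
    ∃ (ξ : k) (pt w : S), ξ ^ 2 = 1 ∧ IsUnit w ∧ σ pt = algebraMap k S ξ * pt ∧
      pt - w * p ∈ JJ R S := by
  have h1 : p * (1 - σ s * s) ∈ JJ R S := by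
    have h3 : p = σ jj + σ s * (jj + s * p) := by
      have h := hσ p
      rw [hsp, map_add, map_mul, hsp] at h
      exact h.symm
    have h4 : p * (1 - σ s * s) = σ jj + σ s * jj := by linear_combination h3
    rw [h4]
    exact Ideal.add_mem _ (σ_mem_J σ hj) (Ideal.mul_mem_left _ _ hj)
  obtain ⟨G, hG⟩ := Ideal.Quotient.mk_surjective (D.E (1 - σ s * s))
  have h5 : X i * G ∈ Ideal.span {XY k} := by
    rw [← Ideal.Quotient.eq_zero_iff_mem, map_mul, hG, ← hp, ← map_mul, ← D.mem_J_iff]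
    exact h1
  have h6 := constantCoeff_eq_zero_of_X_mul_mem k i G h5
  have h7 : D.res (1 - σ s * s) = 0 := by
    show cc k (D.E _) = 0
    rw [← hG, cc_mk, h6]
  rw [map_sub, map_one, map_mul, D.res_σ σ] at h7
  obtain ⟨ξ, hξ⟩ : ∃ ξ, ξ = D.res s := ⟨_, rfl⟩
  rw [← hξ] at h7
  have hξ2 : ξ ^ 2 = 1 := by linear_combination -h7
  have he := sq_one (S := S) ξ hξ2
  have hh := half_mul_two (S := S) h2
  refine ⟨ξ, algebraMap k S (2 : k)⁻¹ * (p + algebraMap k S ξ * σ p),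
    algebraMap k S (2 : k)⁻¹ * (1 + algebraMap k S ξ * s), hξ2, ?_, ?_, ?_⟩
  · apply D.isUnit_of_res_ne_zero
    rw [map_mul, map_add, map_one, map_mul, D.res_algebraMap, D.res_algebraMap, ← hξ, ← pow_two,
      hξ2, one_add_one_eq_two, inv_mul_cancel₀ h2]
    exact one_ne_zero
  · rw [map_mul, map_add, map_mul, σ_algebraMap_k, σ_algebraMap_k, hσ]
    linear_combination (-(algebraMap k S (2 : k)⁻¹ * σ p)) * he
  · have h8 : algebraMap k S (2 : k)⁻¹ * (p + algebraMap k S ξ * σ p) -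
        algebraMap k S (2 : k)⁻¹ * (1 + algebraMap k S ξ * s) * p =
        algebraMap k S (2 : k)⁻¹ * algebraMap k S ξ * jj := by
      rw [hsp]; ring
    rw [h8]
    exact Ideal.mul_mem_left _ _ hj

theorem exists_decomp (u₀ v₀ : S) (hu₀ : D.E u₀ = Ideal.Quotient.mk _ (X 0))
    (hv₀ : D.E v₀ = Ideal.Quotient.mk _ (X 1)) (x : S) (hx : x ∈ maximalIdeal S) :
    ∃ j ∈ JJ R S, ∃ a b, x = j + u₀ * a + v₀ * b := by
  obtain ⟨G, hG⟩ := Ideal.Quotient.mk_surjective (D.E x)
  have h1 : constantCoeff G = 0 := by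
    have h := (D.res_eq_zero_iff x).mpr hx
    change cc k (D.E x) = 0 at h
    rwa [← hG, cc_mk] at h
  obtain ⟨g₀, g₁, hg⟩ := exists_eq_of_constantCoeff_eq_zero k G h1
  obtain ⟨s₀, hs₀⟩ := D.surj (Ideal.Quotient.mk _ g₀)
  obtain ⟨s₁, hs₁⟩ := D.surj (Ideal.Quotient.mk _ g₁)
  refine ⟨x - u₀ * s₀ - v₀ * s₁, ?_, s₀, s₁, by ring⟩
  rw [D.mem_J_iff, map_sub, map_sub, map_mul, map_mul, hu₀, hv₀, hs₀, hs₁, ← hG, hg, map_add,
    map_mul, map_mul]
  ring

theorem exists_decomp' (u₀ v₀ ut vt w₁ w₂ u v : S) (hu₀ : D.E u₀ = Ideal.Quotient.mk _ (X 0))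
    (hv₀ : D.E v₀ = Ideal.Quotient.mk _ (X 1)) (hw₁ : IsUnit w₁) (hw₂ : IsUnit w₂)
    (hut : ut - w₁ * u₀ ∈ JJ R S) (hvt : vt - w₂ * v₀ ∈ JJ R S)
    (hu : u - ut ∈ JJ R S) (hv : v - vt ∈ JJ R S) (x : S) :
    ∃ (c : k) (j a b : S), j ∈ JJ R S ∧ x = algebraMap k S c + j + u * a + v * b := by
  obtain ⟨j, hj, a, b, hx'⟩ := D.exists_decomp u₀ v₀ hu₀ hv₀ _ (D.sub_res_mem x)
  obtain ⟨w₁', hw₁'⟩ := hw₁.exists_right_inv
  obtain ⟨w₂', hw₂'⟩ := hw₂.exists_right_inv
  refine ⟨D.res x, j - w₁' * a * ((u - ut) + (ut - w₁ * u₀)) -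
    w₂' * b * ((v - vt) + (vt - w₂ * v₀)), w₁' * a, w₂' * b, ?_, ?_⟩
  · exact Ideal.sub_mem _ (Ideal.sub_mem _ hj (Ideal.mul_mem_left _ _ (Ideal.add_mem _ hu hut)))
      (Ideal.mul_mem_left _ _ (Ideal.add_mem _ hv hvt))
  · linear_combination hx' - (u₀ * a) * hw₁' - (v₀ * b) * hw₂'

/-- one approximation step -/
theorem step (u v : S)
    (hgen : ∀ x : S, ∃ (c : k) (j a b : S), j ∈ JJ R S ∧ x = algebraMap k S c + j + u * a + v * b)
    (n : ℕ) (s : S) (hs : s ∈ JJ R S ^ n) :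
    ∃ (τ : R) (a b s' : S), τ ∈ maximalIdeal R ^ n ∧ a ∈ JJ R S ^ n ∧ b ∈ JJ R S ^ n ∧
      s' ∈ JJ R S ^ (n + 1) ∧ s = algebraMap R S τ + u * a + v * b + s' := by
  have hJn : JJ R S ^ n = Ideal.span ((algebraMap R S) '' (maximalIdeal R ^ n : Ideal R)) := by
    show Ideal.map (algebraMap R S) (maximalIdeal R) ^ n = _
    rw [← Ideal.map_pow]
    rfl
  have hs' : s ∈ Submodule.span S ((algebraMap R S) '' (maximalIdeal R ^ n : Ideal R)) := by
    rw [hJn] at hs
    exact hs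
  induction hs' using Submodule.span_induction with
  | mem x hx =>
    obtain ⟨τ, hτ, rfl⟩ := hx
    exact ⟨τ, 0, 0, 0, hτ, zero_mem _, zero_mem _, zero_mem _, by ring⟩
  | zero => exact ⟨0, 0, 0, 0, zero_mem _, zero_mem _, zero_mem _, zero_mem _, by simp⟩
  | add x y _ _ hx hy =>
    obtain ⟨τ₁, a₁, b₁, s₁, h1, h2, h3, h4, rfl⟩ := hx (by
      rw [hJn]; assumption)
    obtain ⟨τ₂, a₂, b₂, s₂, g1, g2, g3, g4, rfl⟩ := hy (by
      rw [hJn]; assumption)
    exact ⟨τ₁ + τ₂, a₁ + a₂, b₁ + b₂, s₁ + s₂, add_mem h1 g1, add_mem h2 g2, add_mem h3 g3,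
      add_mem h4 g4, by rw [map_add]; ring⟩
  | smul a x _ hx =>
    obtain ⟨τ, a₁, b₁, s₁, hτ, ha₁, hb₁, hs₁, rfl⟩ := hx (by
      rw [hJn]; assumption)
    obtain ⟨c, j, a₀, b₀, hj, ha⟩ := hgen a
    have hτS : algebraMap R S τ ∈ JJ R S ^ n := algebraMap_mem_J_pow hτ
    refine ⟨algebraMap k R c * τ, a₀ * algebraMap R S τ + a * a₁,
      b₀ * algebraMap R S τ + a * b₁, j * algebraMap R S τ + a * s₁, ?_, ?_, ?_, ?_, ?_⟩
    · exact Ideal.mul_mem_left _ _ hτ
    · exact Ideal.add_mem _ (Ideal.mul_mem_left _ _ hτS) (Ideal.mul_mem_left _ _ ha₁)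
    · exact Ideal.add_mem _ (Ideal.mul_mem_left _ _ hτS) (Ideal.mul_mem_left _ _ hb₁)
    · refine Ideal.add_mem _ ?_ (Ideal.mul_mem_left _ _ hs₁)
      rw [pow_succ']
      exact Ideal.mul_mem_mul hj hτS
    · rw [smul_eq_mul, map_mul, ← IsScalarTower.algebraMap_apply]
      linear_combination (algebraMap R S τ) * ha

end Ctx

end Groth.Agent.Lib.Helper21.RKy
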