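import Mathlib
import Groth.Agent.Lib.Helper21.RKy

/-!
# helper21: equivariant iteration producing node coordinates `u v = t` (S14084)
-/

set_option autoImplicit false
set_option linter.style.haveILetI false
set_option linter.unusedSectionVars false
set_option linter.unusedVariables false
set_option linter.unusedSimpArgs false

namespace Groth.Agent.Lib.Helper21.RKz

open MvPowerSeries IsLocalRing Groth.Agent.Lib.Helper21.RKx Groth.Agent.Lib.Helper21.RKy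

universe u

variable {k R S : Type u} [Field k] [CommRing R] [IsLocalRing R] [CommRing S] [IsLocalRing S]
  [Algebra k R] [Algebra R S] [Algebra k S] [IsScalarTower k R S]

/-- equivariant approximation step -/
theorem step_eq (h2 : (2 : k) ≠ 0) (σ : S ≃ₐ[R] S) (hσ : ∀ s, σ (σ s) = s) (ξ₁ ξ₂ : k)
    (h1 : ξ₁ ^ 2 = 1) (h2' : ξ₂ ^ 2 = 1)
    (u v : S) (hu : σ u = algebraMap k S ξ₂ * u) (hv : σ v = algebraMap k S ξ₁ * v)
    (hgen : ∀ x : S, ∃ (c : k) (j a b : S), j ∈ JJ R S ∧ x = algebraMap k S c + j + u * a + v * b)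
    (n : ℕ) (s : S) (hs : s ∈ JJ R S ^ n) (hσs : σ s = algebraMap k S (ξ₁ * ξ₂) * s) :
    ∃ (τ : R) (a b s' : S), τ ∈ maximalIdeal R ^ n ∧ a ∈ JJ R S ^ n ∧ b ∈ JJ R S ^ n ∧
      s' ∈ JJ R S ^ (n + 1) ∧ s = algebraMap R S τ + u * a + v * b + s' ∧
      σ a = algebraMap k S ξ₁ * a ∧ σ b = algebraMap k S ξ₂ * b ∧ (ξ₁ * ξ₂ = -1 → τ = 0) := by
  obtain ⟨τ, a, b, s', hτ, ha, hb, hs', hdec⟩ := Ctx.step (k := k) u v hgen n s hs
  have hε : (ξ₁ * ξ₂) ^ 2 = 1 := by rw [mul_pow, h1, h2', one_mul]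
  have e1 : ξ₁ * ξ₂ * ξ₂ = ξ₁ := by linear_combination ξ₁ * h2'
  have e2 : ξ₁ * ξ₂ * ξ₁ = ξ₂ := by linear_combination ξ₂ * h1
  have hA : avg σ (ξ₁ * ξ₂) s = s := avg_of_eigen σ h2 _ hε s hσs
  have hB : avg σ (ξ₁ * ξ₂) s =
      avg σ (ξ₁ * ξ₂) (algebraMap R S τ + u * a + v * b + s') :=
    congrArg (avg σ (ξ₁ * ξ₂)) hdec
  rw [avg_add, avg_add, avg_add, avg_algebraMap, avg_mul σ _ ξ₂ u a hu, avg_mul σ _ ξ₁ v b hv,
    e1, e2] at hB
  refine ⟨algebraMap k R ((2 : k)⁻¹ * (1 + ξ₁ * ξ₂)) * τ, avg σ ξ₁ a, avg σ ξ₂ b,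
    avg σ (ξ₁ * ξ₂) s', Ideal.mul_mem_left _ _ hτ, avg_mem_J_pow σ _ n ha,
    avg_mem_J_pow σ _ n hb, avg_mem_J_pow σ _ (n + 1) hs', hA.symm.trans hB,
    σ_avg σ hσ ξ₁ h1 a, σ_avg σ hσ ξ₂ h2' b, ?_⟩
  intro h
  rw [h, add_neg_cancel, mul_zero, map_zero, zero_mul]

/-- the main iteration: equivariant coordinates with `u v = t` -/
theorem exists_coords [IsNoetherianRing S] [IsAdicComplete (maximalIdeal S) S]
    [IsAdicComplete (maximalIdeal R) R] [IsLocalHom (algebraMap R S)]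
    (D : Ctx k R S) (h2 : (2 : k) ≠ 0) (σ : S ≃ₐ[R] S) (hσ : ∀ s, σ (σ s) = s)
    (ξ₁ ξ₂ : k) (h1 : ξ₁ ^ 2 = 1) (h2' : ξ₂ ^ 2 = 1) (u₀ v₀ ut vt w₁ w₂ : S)
    (hu₀ : D.E u₀ = Ideal.Quotient.mk _ (X 0)) (hv₀ : D.E v₀ = Ideal.Quotient.mk _ (X 1))
    (hw₁ : IsUnit w₁) (hw₂ : IsUnit w₂) (hut : ut - w₁ * u₀ ∈ JJ R S)
    (hvt : vt - w₂ * v₀ ∈ JJ R S)
    (hσu : σ ut = algebraMap k S ξ₂ * ut) (hσv : σ vt = algebraMap k S ξ₁ * vt) :
    ∃ (u v : S) (t : R), u - ut ∈ JJ R S ∧ v - vt ∈ JJ R S ∧ σ u = algebraMap k S ξ₂ * u ∧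
      σ v = algebraMap k S ξ₁ * v ∧ t ∈ maximalIdeal R ∧ (ξ₁ * ξ₂ = -1 → t = 0) ∧
      u * v = algebraMap R S t := by
  classical
  let P : ℕ → S × S × R → Prop := fun n x =>
    x.1 - ut ∈ JJ R S ∧ x.2.1 - vt ∈ JJ R S ∧ σ x.1 = algebraMap k S ξ₂ * x.1 ∧
    σ x.2.1 = algebraMap k S ξ₁ * x.2.1 ∧ x.2.2 ∈ maximalIdeal R ∧
    (ξ₁ * ξ₂ = -1 → x.2.2 = 0) ∧ x.1 * x.2.1 - algebraMap R S x.2.2 ∈ JJ R S ^ (n + 1)
  let Cl : ℕ → S × S × R → S × S × R → Prop := fun n x y =>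
    y.1 - x.1 ∈ JJ R S ^ (n + 1) ∧ y.2.1 - x.2.1 ∈ JJ R S ^ (n + 1) ∧
    y.2.2 - x.2.2 ∈ maximalIdeal R ^ (n + 1)
  have hE1 : D.E ut = D.E w₁ * Ideal.Quotient.mk _ (X 0) := by
    have h := (D.mem_J_iff _).mp hut
    rw [map_sub, sub_eq_zero, map_mul, hu₀] at h
    exact h
  have hE2 : D.E vt = D.E w₂ * Ideal.Quotient.mk _ (X 1) := by
    have h := (D.mem_J_iff _).mp hvt
    rw [map_sub, sub_eq_zero, map_mul, hv₀] at h
    exact h
  have h0 : P 0 (ut, vt, 0) := by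
    refine ⟨by simp, by simp, hσu, hσv, zero_mem _, fun _ => rfl, ?_⟩
    show ut * vt - algebraMap R S 0 ∈ JJ R S ^ (0 + 1)
    rw [map_zero, sub_zero, zero_add, pow_one, D.mem_J_iff, map_mul, hE1, hE2]
    have hz : (Ideal.Quotient.mk (Ideal.span {XY k})) (X 0) *
        (Ideal.Quotient.mk (Ideal.span {XY k})) (X 1) = 0 := by
      rw [← map_mul, Ideal.Quotient.eq_zero_iff_mem]
      exact Ideal.subset_span rfl
    linear_combination (D.E w₁ * D.E w₂) * hz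
  have hstep : ∀ n x, P n x → ∃ y, P (n + 1) y ∧ Cl n x y := by
    rintro n ⟨u, v, t⟩ ⟨hu, hv, hσu', hσv', ht, htε, huv⟩
    simp only at hu hv hσu' hσv' ht htε huv
    have hgen := D.exists_decomp' u₀ v₀ ut vt w₁ w₂ u v hu₀ hv₀ hw₁ hw₂ hut hvt hu hv
    have hσe : σ (u * v - algebraMap R S t) =
        algebraMap k S (ξ₁ * ξ₂) * (u * v - algebraMap R S t) := by
      rw [map_sub, map_mul, hσu', hσv', σ.commutes, map_mul (algebraMap k S)]
      have hε : ξ₁ * ξ₂ = 1 ∨ ξ₁ * ξ₂ = -1 := by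
        have h3 : (ξ₁ * ξ₂ - 1) * (ξ₁ * ξ₂ + 1) = 0 := by
          linear_combination (ξ₂ ^ 2) * h1 + h2'
        rcases mul_eq_zero.mp h3 with h | h
        · left; linear_combination h
        · right; linear_combination h
      rcases hε with h | h
      · have h' : algebraMap k S ξ₁ * algebraMap k S ξ₂ = 1 := by
          rw [← map_mul, h, map_one]
        linear_combination (algebraMap R S t) * h'
      · rw [htε h, map_zero, sub_zero, sub_zero]
        ring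
    obtain ⟨τ, a, b, s', hτ, ha, hb, hs', hdec, hσa, hσb, hτε⟩ :=
      step_eq h2 σ hσ ξ₁ ξ₂ h1 h2' u v hσu' hσv' hgen (n + 1) _ huv hσe
    refine ⟨(u - b, v - a, t + τ), ⟨?_, ?_, ?_, ?_, ?_, ?_, ?_⟩, ⟨?_, ?_, ?_⟩⟩
    · show u - b - ut ∈ JJ R S
      have h3 : u - b - ut = (u - ut) - b := by ring
      rw [h3]
      exact Ideal.sub_mem _ hu (Ideal.pow_le_self (Nat.succ_ne_zero n) hb)
    · show v - a - vt ∈ JJ R S
      have h3 : v - a - vt = (v - vt) - a := by ring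
      rw [h3]
      exact Ideal.sub_mem _ hv (Ideal.pow_le_self (Nat.succ_ne_zero n) ha)
    · show σ (u - b) = algebraMap k S ξ₂ * (u - b)
      rw [map_sub, hσu', hσb]; ring
    · show σ (v - a) = algebraMap k S ξ₁ * (v - a)
      rw [map_sub, hσv', hσa]; ring
    · show t + τ ∈ maximalIdeal R
      exact Ideal.add_mem _ ht (Ideal.pow_le_self (Nat.succ_ne_zero n) hτ)
    · intro h
      show t + τ = 0
      rw [htε h, hτε h, add_zero]
    · show (u - b) * (v - a) - algebraMap R S (t + τ) ∈ JJ R S ^ (n + 1 + 1)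
      have h3 : (u - b) * (v - a) - algebraMap R S (t + τ) = s' + a * b := by
        rw [map_add]; linear_combination hdec
      rw [h3]
      refine Ideal.add_mem _ hs' ?_
      have hab : a * b ∈ JJ R S ^ (n + 1) * JJ R S ^ (n + 1) := Ideal.mul_mem_mul ha hb
      rw [← pow_add] at hab
      exact Ideal.pow_le_pow_right (by omega) hab
    · show u - b - u ∈ _
      have h3 : u - b - u = -b := by ring
      rw [h3]; exact (Ideal.neg_mem_iff _).mpr hb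
    · show v - a - v ∈ _
      have h3 : v - a - v = -a := by ring
      rw [h3]; exact (Ideal.neg_mem_iff _).mpr ha
    · show t + τ - t ∈ _
      rw [add_sub_cancel_left]; exact hτ
  obtain ⟨f, hf0, hP, hC⟩ := exists_seq P Cl (ut, vt, 0) h0 hstep
  have hJm : ∀ n, JJ R S ^ n ≤ maximalIdeal S ^ n := fun n => Ideal.pow_right_mono D.J_le n
  obtain ⟨u, hu⟩ := exists_limit (maximalIdeal S) (fun n => (f n).1)
    (fun n => Ideal.pow_le_pow_right (Nat.le_succ n) (hJm (n + 1) (hC n).1))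
  obtain ⟨v, hv⟩ := exists_limit (maximalIdeal S) (fun n => (f n).2.1)
    (fun n => Ideal.pow_le_pow_right (Nat.le_succ n) (hJm (n + 1) (hC n).2.1))
  obtain ⟨t, ht⟩ := exists_limit (maximalIdeal R) (fun n => (f n).2.2)
    (fun n => Ideal.pow_le_pow_right (Nat.le_succ n) (hC n).2.2)
  refine ⟨u, v, t, ?_, ?_, ?_, ?_, ?_, ?_, ?_⟩
  · apply mem_of_forall_mem_sup_pow
    intro n
    have h3 : u - ut = ((f n).1 - ut) + (u - (f n).1) := by ring
    rw [h3]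
    exact Ideal.add_mem _ (Ideal.mem_sup_left (hP n).1) (Ideal.mem_sup_right (hu n))
  · apply mem_of_forall_mem_sup_pow
    intro n
    have h3 : v - vt = ((f n).2.1 - vt) + (v - (f n).2.1) := by ring
    rw [h3]
    exact Ideal.add_mem _ (Ideal.mem_sup_left (hP n).2.1) (Ideal.mem_sup_right (hv n))
  · apply Groth.Agent.Lib.Helper21.RIa.eq_of_forall_sub_mem_pow
    intro n
    have h3 : σ u - algebraMap k S ξ₂ * u =
        σ (u - (f n).1) - algebraMap k S ξ₂ * (u - (f n).1) := by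
      rw [map_sub, (hP n).2.2.1]; ring
    rw [h3]
    exact Ideal.sub_mem _ (σ_mem_maximalIdeal_pow σ n (hu n)) (Ideal.mul_mem_left _ _ (hu n))
  · apply Groth.Agent.Lib.Helper21.RIa.eq_of_forall_sub_mem_pow
    intro n
    have h3 : σ v - algebraMap k S ξ₁ * v =
        σ (v - (f n).2.1) - algebraMap k S ξ₁ * (v - (f n).2.1) := by
      rw [map_sub, (hP n).2.2.2.1]; ring
    rw [h3]
    exact Ideal.sub_mem _ (σ_mem_maximalIdeal_pow σ n (hv n)) (Ideal.mul_mem_left _ _ (hv n))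
  · have h := ht 1
    rw [pow_one] at h
    have h3 : t = (t - (f 1).2.2) + (f 1).2.2 := by ring
    rw [h3]
    exact Ideal.add_mem _ h (hP 1).2.2.2.2.1
  · intro h
    apply Groth.Agent.Lib.Helper21.RIa.eq_of_forall_sub_mem_pow
    intro n
    have h4 := ht n
    rw [(hP n).2.2.2.2.2.1 h] at h4
    exact h4
  · apply Groth.Agent.Lib.Helper21.RIa.eq_of_forall_sub_mem_pow
    intro n
    have h3 : u * v - algebraMap R S t = (u - (f n).1) * v + (f n).1 * (v - (f n).2.1) +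
        ((f n).1 * (f n).2.1 - algebraMap R S (f n).2.2) - algebraMap R S (t - (f n).2.2) := by
      rw [map_sub]; ring
    rw [h3]
    refine Ideal.sub_mem _ (Ideal.add_mem _ (Ideal.add_mem _ (Ideal.mul_mem_right _ _ (hu n))
      (Ideal.mul_mem_left _ _ (hv n))) ?_) ?_
    · exact Ideal.pow_le_pow_right (Nat.le_succ n) (hJm (n + 1) (hP n).2.2.2.2.2.2)
    · exact hJm n (algebraMap_mem_J_pow (ht n))

end Groth.Agent.Lib.Helper21.RKz
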