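import Mathlib
import Groth.Agent.Lib.Helper21.RKz
import Groth.Agent.Lib.Helper21.RKf

/-!
# helper21: a flat deformation of the node is `R[[X,Y]]/(XY - t)` (S14084)
-/

set_option autoImplicit false
set_option linter.style.haveILetI false
set_option linter.unusedSectionVars false
set_option linter.unusedVariables false
set_option linter.unusedSimpArgs false

namespace Groth.Agent.Lib.Helper21.RLa

open MvPowerSeries IsLocalRing Groth.Agent.Lib.Helper21.RKx Groth.Agent.Lib.Helper21.RKy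
  Groth.Agent.Lib.Helper21.RKz Groth.Agent.Lib.Helper14.FormalIFT

universe u

variable {k R S : Type u} [Field k] [CommRing R] [IsLocalRing R] [CommRing S] [IsLocalRing S]
  [Algebra k R] [Algebra R S] [Algebra k S] [IsScalarTower k R S]

theorem C_mem {r : R} (hr : r ∈ maximalIdeal R) :
    (C r : MvPowerSeries (Fin 2) R) ∈ maximalIdeal (MvPowerSeries (Fin 2) R) := by
  rw [mem_maximalIdeal, mem_nonunits_iff, MvPowerSeries.isUnit_iff_constantCoeff,
    constantCoeff_C]
  exact hr

theorem X_mem (i : Fin 2) :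
    (X i : MvPowerSeries (Fin 2) R) ∈ maximalIdeal (MvPowerSeries (Fin 2) R) := by
  rw [mem_maximalIdeal, mem_nonunits_iff, MvPowerSeries.isUnit_iff_constantCoeff,
    constantCoeff_X]
  exact not_isUnit_zero

theorem E_eq (D : Ctx k R S) (i : Fin 2) (u₀ w u : S)
    (hu₀ : D.E u₀ = Ideal.Quotient.mk _ (X i)) (hu : u - w * u₀ ∈ JJ R S) :
    D.E u = D.E w * Ideal.Quotient.mk _ (X i) := by
  have h := (D.mem_J_iff _).mp hu
  rw [map_sub, sub_eq_zero, map_mul, hu₀] at h
  exact h

theorem res_eq_zero (D : Ctx k R S) (i : Fin 2) (u₀ w u : S)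
    (hu₀ : D.E u₀ = Ideal.Quotient.mk _ (X i)) (hu : u - w * u₀ ∈ JJ R S) :
    D.res u = 0 := by
  show cc k (D.E u) = 0
  rw [E_eq D i u₀ w u hu₀ hu, map_mul, cc_mk, constantCoeff_X, mul_zero]

theorem linForm_diagonal (c : Fin 2 → k) (i : Fin 2) :
    linForm (Matrix.diagonal c) i = C (c i) * X i := by
  unfold linForm
  rw [Finset.sum_eq_single i]
  · rw [Matrix.diagonal_apply_eq]
  · intro j _ hji
    rw [Matrix.diagonal_apply_ne _ (Ne.symm hji), map_zero, zero_mul]
  · intro h
    exact absurd (Finset.mem_univ i) h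

/-- the kernel of the presentation attached to node coordinates -/
theorem ker_eq [IsNoetherianRing R] [IsNoetherianRing S] [IsAdicComplete (maximalIdeal R) R]
    [IsAdicComplete (maximalIdeal S) S] [IsLocalHom (algebraMap R S)] [Module.Flat R S]
    (D : Ctx k R S) (u₀ v₀ w₁ w₂ u v : S) (t : R)
    (hu₀ : D.E u₀ = Ideal.Quotient.mk _ (X 0)) (hv₀ : D.E v₀ = Ideal.Quotient.mk _ (X 1))
    (hw₁ : IsUnit w₁) (hw₂ : IsUnit w₂)
    (hu : u - w₁ * u₀ ∈ JJ R S) (hv : v - w₂ * v₀ ∈ JJ R S) (ht : t ∈ maximalIdeal R)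
    (huv : u * v = algebraMap R S t)
    (φ : MvPowerSeries (Fin 2) R →ₐ[R] S) (hφ0 : φ (X 0) = u) (hφ1 : φ (X 1) = v) :
    Function.Surjective φ ∧
      RingHom.ker (φ : MvPowerSeries (Fin 2) R →+* S) = Ideal.span {X 0 * X 1 - C t} := by
  classical
  have hφC : ∀ r, φ (C r) = algebraMap R S r := fun r => by
    rw [c_eq_algebraMap]; exact φ.commutes r
  have hEu := E_eq D 0 u₀ w₁ u hu₀ hu
  have hEv := E_eq D 1 v₀ w₂ v hv₀ hv
  have hru := res_eq_zero D 0 u₀ w₁ u hu₀ hu
  have hrv := res_eq_zero D 1 v₀ w₂ v hv₀ hv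
  -- `φ` is local
  let ψ : MvPowerSeries (Fin 2) R →+* k := D.res.comp (φ : MvPowerSeries (Fin 2) R →+* S)
  have hψs : Function.Surjective ψ := fun c => ⟨C (algebraMap k R c), by
    show D.res (φ _) = c
    rw [hφC, ← IsScalarTower.algebraMap_apply, D.res_algebraMap]⟩
  have hψk : RingHom.ker ψ = maximalIdeal (MvPowerSeries (Fin 2) R) := by
    haveI := RingHom.ker_isMaximal_of_surjective ψ hψs
    exact IsLocalRing.eq_maximalIdeal inferInstance
  have hmap_le : (maximalIdeal (MvPowerSeries (Fin 2) R)).map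
      (φ : MvPowerSeries (Fin 2) R →+* S) ≤ maximalIdeal S := by
    rw [Ideal.map_le_iff_le_comap]
    intro a ha
    rw [← hψk, RingHom.mem_ker] at ha
    exact (D.res_eq_zero_iff _).mp ha
  have hJmap : JJ R S ≤ (maximalIdeal (MvPowerSeries (Fin 2) R)).map
      (φ : MvPowerSeries (Fin 2) R →+* S) := by
    show Ideal.map (algebraMap R S) (maximalIdeal R) ≤ _
    rw [Ideal.map_le_iff_le_comap]
    intro r hr
    rw [Ideal.mem_comap, ← hφC]
    exact Ideal.mem_map_of_mem _ (C_mem hr)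
  have hsurj : Function.Surjective φ := by
    haveI : IsHausdorff ((maximalIdeal (MvPowerSeries (Fin 2) R)).map
        (φ : MvPowerSeries (Fin 2) R →+* S)) S :=
      IsHausdorff.of_le_jacobson _ _ (hmap_le.trans (IsLocalRing.maximalIdeal_le_jacobson ⊥))
    haveI : IsPrecomplete (maximalIdeal (MvPowerSeries (Fin 2) R)) (MvPowerSeries (Fin 2) R) :=
      (Groth.Agent.Lib.Helper21.RKi.isAdicComplete_mvPowerSeries).toIsPrecomplete
    apply surjective_of_mk_map_comp_surjective (I := maximalIdeal (MvPowerSeries (Fin 2) R))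
      (φ : MvPowerSeries (Fin 2) R →+* S)
    intro y
    obtain ⟨x, rfl⟩ := Ideal.Quotient.mk_surjective y
    obtain ⟨c, j, a, b, hj, hx⟩ := D.exists_decomp' u₀ v₀ u v w₁ w₂ u v hu₀ hv₀ hw₁ hw₂ hu hv
      (by simp) (by simp) x
    refine ⟨C (algebraMap k R c), ?_⟩
    rw [RingHom.comp_apply, Ideal.Quotient.eq]
    have h3 : (φ : MvPowerSeries (Fin 2) R →+* S) (C (algebraMap k R c)) - x =
        -(j + φ (X 0) * a + φ (X 1) * b) := by
      show φ (C _) - x = _
      rw [hφC, ← IsScalarTower.algebraMap_apply, hφ0, hφ1, hx]; ring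
    rw [h3]
    exact (Ideal.neg_mem_iff _).mpr (Ideal.add_mem _ (Ideal.add_mem _ (hJmap hj)
      (Ideal.mul_mem_right _ _ (Ideal.mem_map_of_mem _ (X_mem 0))))
      (Ideal.mul_mem_right _ _ (Ideal.mem_map_of_mem _ (X_mem 1))))
  refine ⟨hsurj, ?_⟩
  have hFK : X 0 * X 1 - C t ∈ RingHom.ker (φ : MvPowerSeries (Fin 2) R →+* S) := by
    rw [RingHom.mem_ker]
    show φ _ = 0
    rw [map_sub, map_mul, hφ0, hφ1, hφC, huv, sub_self]
  -- representatives of the units
  obtain ⟨W₁, hW₁⟩ := Ideal.Quotient.mk_surjective (D.E w₁)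
  obtain ⟨W₂, hW₂⟩ := Ideal.Quotient.mk_surjective (D.E w₂)
  have hcW₁ : constantCoeff W₁ ≠ 0 := by
    intro h
    have h3 : D.res w₁ = 0 := by
      show cc k (D.E w₁) = 0
      rw [← hW₁, cc_mk, h]
    exact ((mem_maximalIdeal _).mp ((D.res_eq_zero_iff _).mp h3)) hw₁
  have hcW₂ : constantCoeff W₂ ≠ 0 := by
    intro h
    have h3 : D.res w₂ = 0 := by
      show cc k (D.E w₂) = 0
      rw [← hW₂, cc_mk, h]
    exact ((mem_maximalIdeal _).mp ((D.res_eq_zero_iff _).mp h3)) hw₂
  let W : Fin 2 → MvPowerSeries (Fin 2) k := ![W₁, W₂]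
  have hW0 : W 0 = W₁ := rfl
  have hW1 : W 1 = W₂ := rfl
  obtain ⟨θ, hθ⟩ := exists_algEquiv_of_isLinPart (fun i => W i * X i)
    (fun i => by rw [map_mul, constantCoeff_X, mul_zero])
    (Matrix.diagonal (fun i => constantCoeff (W i)))
    (fun i => by
      rw [linForm_diagonal]
      have h3 : W i * X i - C (constantCoeff (W i)) * X i =
          (W i - C (constantCoeff (W i))) * X i := by ring
      rw [h3]
      exact Fil.mul (k := 1) (l := 1)
        (fil_one_of_constantCoeff (by rw [map_sub, constantCoeff_C, sub_self]))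
        (fil_one_of_constantCoeff (constantCoeff_X i)))
    (by
      rw [Matrix.det_diagonal, Fin.prod_univ_two, hW0, hW1]
      exact (mul_ne_zero hcW₁ hcW₂).isUnit)
  have hθXY : θ (XY k) = (W₁ * W₂) * XY k := by
    show θ (X 0 * X 1) = _
    rw [map_mul, hθ 0, hθ 1, hW0, hW1]
    ring
  have hWunit : IsUnit (W₁ * W₂) := by
    rw [MvPowerSeries.isUnit_iff_constantCoeff, map_mul]
    exact (mul_ne_zero hcW₁ hcW₂).isUnit
  -- comparison of the two maps to the node
  let ρ : MvPowerSeries (Fin 2) R →+* MvPowerSeries (Fin 2) k := MvPowerSeries.map D.chi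
  let α : MvPowerSeries (Fin 2) R →+* Nd k := D.E.comp (φ : MvPowerSeries (Fin 2) R →+* S)
  let β : MvPowerSeries (Fin 2) R →+* Nd k :=
    (Ideal.Quotient.mk (Ideal.span {XY k})).comp
      ((θ : MvPowerSeries (Fin 2) k →+* MvPowerSeries (Fin 2) k).comp ρ)
  have hαβ : α = β := by
    apply Groth.Agent.Lib.Helper21.RKf.ringHom_ext_of_hausdorff
    · intro r
      show D.E (φ (C r)) = Ideal.Quotient.mk _ (θ (MvPowerSeries.map D.chi (C r)))
      rw [hφC, D.E_algebraMap, MvPowerSeries.map_C]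
      congr 1
      rw [c_eq_algebraMap]
      exact (θ.commutes _).symm
    · intro i
      show D.E (φ (X i)) = Ideal.Quotient.mk _ (θ (MvPowerSeries.map D.chi (X i)))
      rw [MvPowerSeries.map_X, hθ i, map_mul]
      fin_cases i
      · show D.E (φ (X 0)) = Ideal.Quotient.mk _ (W 0) * Ideal.Quotient.mk _ (X 0)
        rw [hφ0, hEu, hW0, hW₁]
      · show D.E (φ (X 1)) = Ideal.Quotient.mk _ (W 1) * Ideal.Quotient.mk _ (X 1)
        rw [hφ1, hEv, hW1, hW₂]
    · intro i
      show D.E (φ (X i)) ∈ maximalIdeal (Nd k)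
      rw [mem_maximalIdeal, mem_nonunits_iff]
      intro h
      have h3 := h.map (cc k)
      have h4 : cc k (D.E (φ (X i))) = 0 := by
        fin_cases i
        · show cc k (D.E (φ (X 0))) = 0
          rw [hφ0]; exact hru
        · show cc k (D.E (φ (X 1))) = 0
          rw [hφ1]; exact hrv
      rw [h4] at h3
      exact not_isUnit_zero h3
  have hρker : ∀ z, z ∈ RingHom.ker (φ : MvPowerSeries (Fin 2) R →+* S) →
      ρ z ∈ Ideal.span {XY k} := by
    intro z hz
    have h1 : β z = 0 := by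
      rw [← hαβ]
      show D.E (φ z) = 0
      rw [RingHom.mem_ker] at hz
      rw [show φ z = 0 from hz, map_zero]
    have h2 : θ (ρ z) ∈ Ideal.span {XY k} := Ideal.Quotient.eq_zero_iff_mem.mp h1
    rw [Ideal.mem_span_singleton'] at h2 ⊢
    obtain ⟨g, hg⟩ := h2
    obtain ⟨V, hV⟩ := hWunit.exists_right_inv
    refine ⟨θ.symm (g * V), ?_⟩
    apply θ.injective
    rw [map_mul, AlgEquiv.apply_symm_apply, hθXY, ← hg]
    linear_combination (g * XY k) * hV
  have hχs : Function.Surjective D.chi := fun c => ⟨algebraMap k R c, D.chi_algebraMap c⟩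
  have hχt : D.chi t = 0 := by
    have h3 := ht
    rw [← D.ker_chi] at h3
    exact h3
  have hK : RingHom.ker (φ : MvPowerSeries (Fin 2) R →+* S) ≤
      Ideal.span {X 0 * X 1 - C t} := by
    apply Submodule.le_of_le_smul_of_le_jacobson_bot
      (I := maximalIdeal (MvPowerSeries (Fin 2) R)) (IsNoetherian.noetherian _)
      (IsLocalRing.maximalIdeal_le_jacobson ⊥)
    intro z hz
    obtain ⟨g', hg'⟩ := Ideal.mem_span_singleton'.mp (hρker z hz)
    obtain ⟨hh, hhh⟩ := map_surjective (σ := Fin 2) D.chi hχs g'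
    obtain ⟨z', hz'⟩ : ∃ z', z' = z - hh * (X 0 * X 1 - C t) := ⟨_, rfl⟩
    have hz'K : z' ∈ RingHom.ker (φ : MvPowerSeries (Fin 2) R →+* S) := by
      rw [hz']
      exact Ideal.sub_mem _ hz (Ideal.mul_mem_left _ _ hFK)
    have hρz' : ρ z' = 0 := by
      rw [hz']
      show MvPowerSeries.map D.chi (z - hh * (X 0 * X 1 - C t)) = 0
      rw [map_sub, map_mul, map_sub, map_mul, MvPowerSeries.map_X, MvPowerSeries.map_X,
        MvPowerSeries.map_C, hχt, map_zero, sub_zero, hhh]
      show ρ z - g' * (X 0 * X 1) = 0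
      rw [← hg']
      ring
    have hcoef : ∀ m, coeff m z' ∈ maximalIdeal R := by
      intro m
      have h3 := congrArg (coeff m) hρz'
      rw [show ρ z' = MvPowerSeries.map D.chi z' from rfl, coeff_map, map_zero] at h3
      rw [← D.ker_chi]
      exact h3
    have h3 : z' ∈ maximalIdeal R • (⊤ : Submodule R (MvPowerSeries (Fin 2) R)) :=
      mem_smul_top_of_coeff_mem _ (IsNoetherian.noetherian _) z' hcoef
    have h4 : z' ∈ maximalIdeal R • LinearMap.ker φ.toLinearMap :=
      Groth.Agent.Lib.Helper8.EssEtNoeth.mem_smul_ker_of_flat (maximalIdeal R) φ.toLinearMap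
        hsurj z' (by exact hz'K) h3
    have h5 : z' ∈ maximalIdeal (MvPowerSeries (Fin 2) R) •
        RingHom.ker (φ : MvPowerSeries (Fin 2) R →+* S) := by
      refine Submodule.smul_induction_on h4 ?_ ?_
      · intro r hr x hx
        rw [smul_eq_C_mul]
        exact Submodule.smul_mem_smul (C_mem hr) (by exact hx)
      · intro x y hx hy
        exact Submodule.add_mem _ hx hy
    have h6 : z = z' + hh * (X 0 * X 1 - C t) := by rw [hz']; ring
    rw [h6]
    exact Submodule.add_mem _ (Submodule.mem_sup_right h5)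
      (Submodule.mem_sup_left (Ideal.mul_mem_left _ _ (Ideal.mem_span_singleton_self _)))
  exact le_antisymm hK ((Ideal.span_singleton_le_iff_mem _).mpr hFK)

end Groth.Agent.Lib.Helper21.RLa
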