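import Mathlib
import Groth.Agent.Lib.Helper21.RLa

/-!
# helper21: equivariant normal form of a flat deformation of the node (S14084)
-/

set_option autoImplicit false
set_option linter.style.haveILetI false
set_option linter.unusedSectionVars false
set_option linter.unusedVariables false
set_option linter.unusedSimpArgs false

namespace Groth.Agent.Lib.Helper21.RLb

open MvPowerSeries IsLocalRing Groth.Agent.Lib.Helper21.RKx Groth.Agent.Lib.Helper21.RKy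
  Groth.Agent.Lib.Helper21.RKz Groth.Agent.Lib.Helper21.RLa Groth.Agent.Lib.Helper14.FormalIFT

universe u

variable {k R S : Type u} [Field k] [CommRing R] [IsLocalRing R] [CommRing S] [IsLocalRing S]
  [Algebra k R] [Algebra R S] [Algebra k S] [IsScalarTower k R S]

/-- the closed-fibre datum attached to an identification with `k[[x,y]]/(y² - x²)` -/
theorem exists_ctx (h2 : (2 : k) ≠ 0)
    (e : (S ⧸ JJ R S) ≃ₐ[k] (MvPowerSeries (Fin 2) k ⧸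
      Ideal.span {(X 1 ^ 2 - X 0 ^ 2 : MvPowerSeries (Fin 2) k)})) :
    Nonempty (Ctx k R S) := by
  classical
  let J₁ : Matrix (Fin 2) (Fin 2) k := !![-1, 1; 1, 1]
  obtain ⟨θ, hθ⟩ := exists_algEquiv_of_isLinPart (fun i => linForm J₁ i)
    (fun i => by
      have h := (fil_one_linForm J₁ i) 0 (by simp)
      rwa [coeff_zero_eq_constantCoeff_apply] at h)
    J₁ (fun i => by rw [sub_self]; exact fil_zero_right 2)
    (by
      rw [Matrix.det_fin_two_of]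
      have h3 : (-1 : k) * 1 - 1 * 1 = -2 := by ring
      rw [h3]
      exact (neg_ne_zero.mpr h2).isUnit)
  have hθ0 : θ (X 0) = X 1 - X 0 := by
    rw [hθ 0]
    simp [linForm, Fin.sum_univ_two, J₁]
    ring
  have hθ1 : θ (X 1) = X 1 + X 0 := by
    rw [hθ 1]
    simp [linForm, Fin.sum_univ_two, J₁]
    ring
  have hθXY : θ (XY k) = (X 1 ^ 2 - X 0 ^ 2 : MvPowerSeries (Fin 2) k) := by
    show θ (X 0 * X 1) = _
    rw [map_mul, hθ0, hθ1]
    ring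
  let Q₁ := Groth.Agent.Lib.Helper21.RKo.quotEquivOfAlgEquiv θ (XY k) _ hθXY
  have hQ₁ : ∀ z, Q₁ (Ideal.Quotient.mk _ z) = Ideal.Quotient.mk _ (θ z) := fun z =>
    Groth.Agent.Lib.Helper21.RKo.quotEquivOfAlgEquiv_mk θ (XY k) _ hθXY z
  refine ⟨{ E := (Q₁.symm : _ →+* Nd k).comp
              (e.toRingEquiv.toRingHom.comp (Ideal.Quotient.mk (JJ R S)))
            surj := ?_
            ker := ?_
            comm := ?_ }⟩
  · exact Q₁.symm.surjective.comp (e.surjective.comp Ideal.Quotient.mk_surjective)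
  · ext x
    rw [RingHom.mem_ker]
    show Q₁.symm (e (Ideal.Quotient.mk (JJ R S) x)) = 0 ↔ x ∈ JJ R S
    rw [map_eq_zero_iff _ Q₁.symm.injective, map_eq_zero_iff _ e.injective,
      Ideal.Quotient.eq_zero_iff_mem]
  · intro c
    show Q₁.symm (e (Ideal.Quotient.mk (JJ R S) (algebraMap k S c))) = _
    have h3 : Ideal.Quotient.mk (JJ R S) (algebraMap k S c) =
        algebraMap k (S ⧸ JJ R S) c := rfl
    rw [h3, e.commutes, RingEquiv.symm_apply_eq, hQ₁]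
    have h4 : θ (C c) = C c := by
      rw [c_eq_algebraMap]; exact θ.commutes c
    rw [h4]
    rfl

/-- equivariant normal form -/
theorem main [IsNoetherianRing R] [IsNoetherianRing S] [IsAdicComplete (maximalIdeal R) R]
    [IsAdicComplete (maximalIdeal S) S] [IsLocalHom (algebraMap R S)] [Module.Flat R S]
    (h2 : (2 : k) ≠ 0)
    (e : (S ⧸ JJ R S) ≃ₐ[k] (MvPowerSeries (Fin 2) k ⧸
      Ideal.span {(X 1 ^ 2 - X 0 ^ 2 : MvPowerSeries (Fin 2) k)}))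
    (σ : S ≃ₐ[R] S) (hσ : ∀ s, σ (σ s) = s)
    (hbr : ∀ P ∈ (JJ R S).minimalPrimes, Ideal.map (σ : S →+* S) P = P) :
    ∃ (t : R) (ξ₁ ξ₂ : k), ξ₁ ^ 2 = 1 ∧ ξ₂ ^ 2 = 1 ∧ (ξ₁ = -ξ₂ → t = 0) ∧
      ∃ f : S ≃ₐ[R] (MvPowerSeries (Fin 2) R ⧸
          Ideal.span {(X 0 * X 1 - C t : MvPowerSeries (Fin 2) R)}),
        f (σ (f.symm (Ideal.Quotient.mk _ (X 0)))) =
          algebraMap k R ξ₂ • Ideal.Quotient.mk _ (X 0) ∧
        f (σ (f.symm (Ideal.Quotient.mk _ (X 1)))) =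
          algebraMap k R ξ₁ • Ideal.Quotient.mk _ (X 1) := by
  classical
  obtain ⟨D⟩ := exists_ctx (R := R) h2 e
  obtain ⟨u₀, hu₀⟩ := D.surj (Ideal.Quotient.mk _ (X 0))
  obtain ⟨v₀, hv₀⟩ := D.surj (Ideal.Quotient.mk _ (X 1))
  obtain ⟨P₁, hP₁, hu₀P, hP₁le⟩ := D.branch 0 1 (by decide) u₀ v₀ hu₀ hv₀
  obtain ⟨P₂, hP₂, hv₀P, hP₂le⟩ := D.branch 1 0 (by decide) v₀ u₀ hv₀ hu₀
  have h1 : σ u₀ ∈ JJ R S ⊔ Ideal.span {u₀} := by
    apply hP₁le
    have h3 := hbr P₁ hP₁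
    rw [← h3]
    exact Ideal.mem_map_of_mem _ hu₀P
  have h1' : σ v₀ ∈ JJ R S ⊔ Ideal.span {v₀} := by
    apply hP₂le
    have h3 := hbr P₂ hP₂
    rw [← h3]
    exact Ideal.mem_map_of_mem _ hv₀P
  obtain ⟨j₁, hj₁, y₁, hy₁, hsum₁⟩ := Submodule.mem_sup.mp h1
  obtain ⟨s₁, rfl⟩ := Ideal.mem_span_singleton'.mp hy₁
  obtain ⟨j₂, hj₂, y₂, hy₂, hsum₂⟩ := Submodule.mem_sup.mp h1'
  obtain ⟨s₂, rfl⟩ := Ideal.mem_span_singleton'.mp hy₂
  obtain ⟨ξ₂, ut, w₁, hξ₂, hw₁, hσut, hut⟩ :=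
    D.eigen h2 σ hσ 0 u₀ hu₀ j₁ s₁ hj₁ hsum₁.symm
  obtain ⟨ξ₁, vt, w₂, hξ₁, hw₂, hσvt, hvt⟩ :=
    D.eigen h2 σ hσ 1 v₀ hv₀ j₂ s₂ hj₂ hsum₂.symm
  obtain ⟨u, v, t, hu, hv, hσu, hσv, ht, htε, huv⟩ :=
    exists_coords D h2 σ hσ ξ₁ ξ₂ hξ₁ hξ₂ u₀ v₀ ut vt w₁ w₂ hu₀ hv₀ hw₁ hw₂ hut hvt hσut hσvt
  have hu' : u - w₁ * u₀ ∈ JJ R S := by
    have h3 : u - w₁ * u₀ = (u - ut) + (ut - w₁ * u₀) := by ring
    rw [h3]; exact Ideal.add_mem _ hu hut
  have hv' : v - w₂ * v₀ ∈ JJ R S := by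
    have h3 : v - w₂ * v₀ = (v - vt) + (vt - w₂ * v₀) := by ring
    rw [h3]; exact Ideal.add_mem _ hv hvt
  have hum : u ∈ maximalIdeal S := (D.res_eq_zero_iff u).mp (res_eq_zero D 0 u₀ w₁ u hu₀ hu')
  have hvm : v ∈ maximalIdeal S := (D.res_eq_zero_iff v).mp (res_eq_zero D 1 v₀ w₂ v hv₀ hv')
  obtain ⟨φ, hφ⟩ := exists_algHom' R (R := S) (![u, v]) (fun i => by
    fin_cases i
    · exact hum
    · exact hvm)
  have hφ0 : φ (X 0) = u := hφ 0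
  have hφ1 : φ (X 1) = v := hφ 1
  obtain ⟨hsurj, hker⟩ := ker_eq D u₀ v₀ w₁ w₂ u v t hu₀ hv₀ hw₁ hw₂ hu' hv' ht huv φ hφ0 hφ1
  refine ⟨t, ξ₁, ξ₂, hξ₁, hξ₂, ?_, ?_⟩
  · intro h
    apply htε
    rw [h]
    linear_combination -hξ₂
  · let f₀ := Ideal.quotientKerAlgEquivOfSurjective hsurj
    let f₁ := Ideal.quotientEquivAlgOfEq R hker
    have hsymm : ∀ a, (f₀.symm.trans f₁).symm (Ideal.Quotient.mk _ a) = φ a := by
      intro a
      show f₀ (f₁.symm (Ideal.Quotient.mk _ a)) = φ a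
      have h3 : f₁.symm (Ideal.Quotient.mk _ a) = Ideal.Quotient.mk _ a := by
        rw [AlgEquiv.symm_apply_eq]
        exact (Ideal.quotientEquivAlgOfEq_mk R hker a).symm
      rw [h3]
      exact Ideal.quotientKerAlgEquivOfSurjective_mk hsurj a
    have hkey : ∀ (a : MvPowerSeries (Fin 2) R) (ξ : k), σ (φ a) = algebraMap k S ξ * φ a →
        (f₀.symm.trans f₁) (σ ((f₀.symm.trans f₁).symm (Ideal.Quotient.mk _ a))) =
          algebraMap k R ξ • Ideal.Quotient.mk _ a := by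
      intro a ξ h
      rw [hsymm, h]
      have h3 : algebraMap k S ξ * φ a = algebraMap k R ξ • φ a := by
        rw [Algebra.smul_def, ← IsScalarTower.algebraMap_apply]
      rw [h3, map_smul, ← hsymm a, AlgEquiv.apply_symm_apply]
    refine ⟨f₀.symm.trans f₁, hkey (X 0) ξ₂ ?_, hkey (X 1) ξ₁ ?_⟩
    · rw [hφ0]; exact hσu
    · rw [hφ1]; exact hσv

end Groth.Agent.Lib.Helper21.RLb
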