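import Mathlib
import Groth.Agent.Lib.Helper21.RLa

/-!
# helper21: flat deformations of the split node over a base without coefficient field (S6573)

`R → S` flat local homomorphism of complete Noetherian local rings whose closed fibre
`S / 𝔪_R S` is the split node `κ[[X,Y]]/(XY)` over the residue field `κ` of `R`.
Then `S ≃ R[[X,Y]]/(XY - t)` as `R`-algebras for some `t ∈ 𝔪_R`.
-/

set_option autoImplicit false
set_option linter.style.haveILetI false
set_option linter.unusedSectionVars false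
set_option linter.unusedVariables false
set_option linter.unusedSimpArgs false

namespace Groth.Agent.Lib.Helper21.RLc

open MvPowerSeries IsLocalRing Groth.Agent.Lib.Helper21.RKx Groth.Agent.Lib.Helper21.RKy

universe u

/-- closed-fibre datum, no coefficient field -/
structure Ctx' (κ R S : Type u) [Field κ] [CommRing R] [IsLocalRing R] [CommRing S] [IsLocalRing S]
    [Algebra R S] where
  chi : R →+* κ
  chi_surj : Function.Surjective chi
  E : S →+* Nd κ
  surj : Function.Surjective E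
  ker : RingHom.ker E = Ideal.map (algebraMap R S) (maximalIdeal R)
  comm : ∀ r : R, E (algebraMap R S r) = Ideal.Quotient.mk _ (C (chi r))

variable {κ R S : Type u} [Field κ] [CommRing R] [IsLocalRing R] [CommRing S] [IsLocalRing S]
  [Algebra R S]

theorem algebraMap_mem_J_pow' {n : ℕ} {τ : R} (h : τ ∈ maximalIdeal R ^ n) :
    algebraMap R S τ ∈ JJ R S ^ n := by
  show _ ∈ Ideal.map (algebraMap R S) (maximalIdeal R) ^ n
  rw [← Ideal.map_pow]
  exact Ideal.mem_map_of_mem _ h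

namespace Ctx'

variable (D : Ctx' κ R S)

/-- residue map of `S` -/
noncomputable def res : S →+* κ := (cc κ).comp D.E

theorem res_algebraMap (r : R) : D.res (algebraMap R S r) = D.chi r := by
  show cc κ (D.E (algebraMap R S r)) = D.chi r
  rw [D.comm, cc_mk]
  simp

theorem res_surj : Function.Surjective D.res := fun c => by
  obtain ⟨r, hr⟩ := D.chi_surj c
  exact ⟨algebraMap R S r, by rw [D.res_algebraMap, hr]⟩

theorem ker_res : RingHom.ker D.res = maximalIdeal S := by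
  haveI := RingHom.ker_isMaximal_of_surjective D.res D.res_surj
  exact IsLocalRing.eq_maximalIdeal inferInstance

theorem res_eq_zero_iff (x : S) : D.res x = 0 ↔ x ∈ maximalIdeal S := by
  rw [← D.ker_res, RingHom.mem_ker]

theorem ker_chi : RingHom.ker D.chi = maximalIdeal R := by
  haveI := RingHom.ker_isMaximal_of_surjective D.chi D.chi_surj
  exact IsLocalRing.eq_maximalIdeal inferInstance

theorem mem_J_iff (x : S) : x ∈ JJ R S ↔ D.E x = 0 := by
  show x ∈ Ideal.map (algebraMap R S) (maximalIdeal R) ↔ _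
  rw [← D.ker, RingHom.mem_ker]

include D in
theorem J_le : JJ R S ≤ maximalIdeal S := by
  intro x hx
  rw [← D.res_eq_zero_iff]
  show cc κ (D.E x) = 0
  rw [(D.mem_J_iff x).mp hx, map_zero]

theorem E_eq_of_sub_mem {u u₀ : S} (h : u - u₀ ∈ JJ R S) : D.E u = D.E u₀ := by
  have h1 := (D.mem_J_iff _).mp h
  rw [map_sub, sub_eq_zero] at h1
  exact h1

theorem mem_maximalIdeal_of_E (i : Fin 2) (u : S) (hu : D.E u = Ideal.Quotient.mk _ (X i)) :
    u ∈ maximalIdeal S := by
  rw [← D.res_eq_zero_iff]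
  show cc κ (D.E u) = 0
  rw [hu, cc_mk, constantCoeff_X]

theorem exists_decomp (u v : S) (hu : D.E u = Ideal.Quotient.mk _ (X 0))
    (hv : D.E v = Ideal.Quotient.mk _ (X 1)) (x : S) :
    ∃ (r : R) (j a b : S), j ∈ JJ R S ∧ x = algebraMap R S r + j + u * a + v * b := by
  obtain ⟨r, hr⟩ := D.chi_surj (D.res x)
  have hx : x - algebraMap R S r ∈ maximalIdeal S := by
    rw [← D.res_eq_zero_iff, map_sub, D.res_algebraMap, hr, sub_self]
  obtain ⟨G, hG⟩ := Ideal.Quotient.mk_surjective (D.E (x - algebraMap R S r))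
  have h1 : constantCoeff G = 0 := by
    have h := (D.res_eq_zero_iff _).mpr hx
    change cc κ (D.E _) = 0 at h
    rwa [← hG, cc_mk] at h
  obtain ⟨g₀, g₁, hg⟩ := exists_eq_of_constantCoeff_eq_zero κ G h1
  obtain ⟨s₀, hs₀⟩ := D.surj (Ideal.Quotient.mk _ g₀)
  obtain ⟨s₁, hs₁⟩ := D.surj (Ideal.Quotient.mk _ g₁)
  refine ⟨r, x - algebraMap R S r - u * s₀ - v * s₁, s₀, s₁, ?_, by ring⟩
  rw [D.mem_J_iff, map_sub, map_sub, map_mul, map_mul, hu, hv, hs₀, hs₁, ← hG, hg, map_add,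
    map_mul, map_mul]
  ring

/-- one approximation step -/
theorem step (u v : S)
    (hgen : ∀ x : S, ∃ (r : R) (j a b : S), j ∈ JJ R S ∧ x = algebraMap R S r + j + u * a + v * b)
    (n : ℕ) (s : S) (hs : s ∈ JJ R S ^ n) :
    ∃ (τ : R) (a b s' : S), τ ∈ maximalIdeal R ^ n ∧ a ∈ JJ R S ^ n ∧ b ∈ JJ R S ^ n ∧
      s' ∈ JJ R S ^ (n + 1) ∧ s = algebraMap R S τ + u * a + v * b + s' := by
  have hJn : JJ R S ^ n = Ideal.span ((algebraMap R S) '' (maximalIdeal R ^ n : Ideal R)) := by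
    show Ideal.map (algebraMap R S) (maximalIdeal R) ^ n = _
    rw [← Ideal.map_pow]
    rfl
  have hs' : s ∈ Submodule.span S ((algebraMap R S) '' (maximalIdeal R ^ n : Ideal R)) := by
    rw [hJn] at hs
    exact hs
  induction hs' using Submodule.span_induction with
  | mem x hx =>
    obtain ⟨τ, hτ, rfl⟩ := hx
    exact ⟨τ, 0, 0, 0, hτ, zero_mem _, zero_mem _, zero_mem _, by ring⟩
  | zero => exact ⟨0, 0, 0, 0, zero_mem _, zero_mem _, zero_mem _, zero_mem _, by simp⟩
  | add x y _ _ hx hy =>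
    obtain ⟨τ₁, a₁, b₁, s₁, h1, h2, h3, h4, rfl⟩ := hx (by
      rw [hJn]; assumption)
    obtain ⟨τ₂, a₂, b₂, s₂, g1, g2, g3, g4, rfl⟩ := hy (by
      rw [hJn]; assumption)
    exact ⟨τ₁ + τ₂, a₁ + a₂, b₁ + b₂, s₁ + s₂, add_mem h1 g1, add_mem h2 g2, add_mem h3 g3,
      add_mem h4 g4, by rw [map_add]; ring⟩
  | smul a x _ hx =>
    obtain ⟨τ, a₁, b₁, s₁, hτ, ha₁, hb₁, hs₁, rfl⟩ := hx (by
      rw [hJn]; assumption)
    obtain ⟨c, j, a₀, b₀, hj, ha⟩ := hgen a
    have hτS : algebraMap R S τ ∈ JJ R S ^ n := algebraMap_mem_J_pow' hτ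
    refine ⟨c * τ, a₀ * algebraMap R S τ + a * a₁,
      b₀ * algebraMap R S τ + a * b₁, j * algebraMap R S τ + a * s₁, ?_, ?_, ?_, ?_, ?_⟩
    · exact Ideal.mul_mem_left _ _ hτ
    · exact Ideal.add_mem _ (Ideal.mul_mem_left _ _ hτS) (Ideal.mul_mem_left _ _ ha₁)
    · exact Ideal.add_mem _ (Ideal.mul_mem_left _ _ hτS) (Ideal.mul_mem_left _ _ hb₁)
    · refine Ideal.add_mem _ ?_ (Ideal.mul_mem_left _ _ hs₁)
      rw [pow_succ']
      exact Ideal.mul_mem_mul hj hτS
    · rw [smul_eq_mul, map_mul]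
      linear_combination (algebraMap R S τ) * ha

end Ctx'

/-- the main iteration: coordinates with `u v = t` -/
theorem exists_coords [IsNoetherianRing S] [IsAdicComplete (maximalIdeal S) S]
    [IsAdicComplete (maximalIdeal R) R]
    (D : Ctx' κ R S) (u₀ v₀ : S)
    (hu₀ : D.E u₀ = Ideal.Quotient.mk _ (X 0)) (hv₀ : D.E v₀ = Ideal.Quotient.mk _ (X 1)) :
    ∃ (u v : S) (t : R), u - u₀ ∈ JJ R S ∧ v - v₀ ∈ JJ R S ∧ t ∈ maximalIdeal R ∧
      u * v = algebraMap R S t := by
  classical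
  let P : ℕ → S × S × R → Prop := fun n x =>
    x.1 - u₀ ∈ JJ R S ∧ x.2.1 - v₀ ∈ JJ R S ∧ x.2.2 ∈ maximalIdeal R ∧
    x.1 * x.2.1 - algebraMap R S x.2.2 ∈ JJ R S ^ (n + 1)
  let Cl : ℕ → S × S × R → S × S × R → Prop := fun n x y =>
    y.1 - x.1 ∈ JJ R S ^ (n + 1) ∧ y.2.1 - x.2.1 ∈ JJ R S ^ (n + 1) ∧
    y.2.2 - x.2.2 ∈ maximalIdeal R ^ (n + 1)
  have h0 : P 0 (u₀, v₀, 0) := by
    refine ⟨by simp, by simp, zero_mem _, ?_⟩
    show u₀ * v₀ - algebraMap R S 0 ∈ JJ R S ^ (0 + 1)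
    rw [map_zero, sub_zero, zero_add, pow_one, D.mem_J_iff, map_mul, hu₀, hv₀, ← map_mul,
      Ideal.Quotient.eq_zero_iff_mem]
    exact Ideal.subset_span rfl
  have hstep : ∀ n x, P n x → ∃ y, P (n + 1) y ∧ Cl n x y := by
    rintro n ⟨u, v, t⟩ ⟨hu, hv, ht, huv⟩
    simp only at hu hv ht huv
    have hEu : D.E u = Ideal.Quotient.mk _ (X 0) := (D.E_eq_of_sub_mem hu).trans hu₀
    have hEv : D.E v = Ideal.Quotient.mk _ (X 1) := (D.E_eq_of_sub_mem hv).trans hv₀
    have hgen := D.exists_decomp u v hEu hEv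
    obtain ⟨τ, a, b, s', hτ, ha, hb, hs', hdec⟩ := Ctx'.step u v hgen (n + 1) _ huv
    refine ⟨(u - b, v - a, t + τ), ⟨?_, ?_, ?_, ?_⟩, ⟨?_, ?_, ?_⟩⟩
    · show u - b - u₀ ∈ JJ R S
      have h3 : u - b - u₀ = (u - u₀) - b := by ring
      rw [h3]
      exact Ideal.sub_mem _ hu (Ideal.pow_le_self (Nat.succ_ne_zero n) hb)
    · show v - a - v₀ ∈ JJ R S
      have h3 : v - a - v₀ = (v - v₀) - a := by ring
      rw [h3]
      exact Ideal.sub_mem _ hv (Ideal.pow_le_self (Nat.succ_ne_zero n) ha)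
    · show t + τ ∈ maximalIdeal R
      exact Ideal.add_mem _ ht (Ideal.pow_le_self (Nat.succ_ne_zero n) hτ)
    · show (u - b) * (v - a) - algebraMap R S (t + τ) ∈ JJ R S ^ (n + 1 + 1)
      have h3 : (u - b) * (v - a) - algebraMap R S (t + τ) = s' + a * b := by
        rw [map_add]; linear_combination hdec
      rw [h3]
      refine Ideal.add_mem _ hs' ?_
      have hab : a * b ∈ JJ R S ^ (n + 1) * JJ R S ^ (n + 1) := Ideal.mul_mem_mul ha hb
      rw [← pow_add] at hab
      exact Ideal.pow_le_pow_right (by omega) hab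
    · show u - b - u ∈ _
      have h3 : u - b - u = -b := by ring
      rw [h3]; exact (Ideal.neg_mem_iff _).mpr hb
    · show v - a - v ∈ _
      have h3 : v - a - v = -a := by ring
      rw [h3]; exact (Ideal.neg_mem_iff _).mpr ha
    · show t + τ - t ∈ _
      rw [add_sub_cancel_left]; exact hτ
  obtain ⟨f, hf0, hP, hC⟩ := exists_seq P Cl (u₀, v₀, 0) h0 hstep
  have hJm : ∀ n, JJ R S ^ n ≤ maximalIdeal S ^ n := fun n => Ideal.pow_right_mono D.J_le n
  obtain ⟨u, hu⟩ := exists_limit (maximalIdeal S) (fun n => (f n).1)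
    (fun n => Ideal.pow_le_pow_right (Nat.le_succ n) (hJm (n + 1) (hC n).1))
  obtain ⟨v, hv⟩ := exists_limit (maximalIdeal S) (fun n => (f n).2.1)
    (fun n => Ideal.pow_le_pow_right (Nat.le_succ n) (hJm (n + 1) (hC n).2.1))
  obtain ⟨t, ht⟩ := exists_limit (maximalIdeal R) (fun n => (f n).2.2)
    (fun n => Ideal.pow_le_pow_right (Nat.le_succ n) (hC n).2.2)
  refine ⟨u, v, t, ?_, ?_, ?_, ?_⟩
  · apply mem_of_forall_mem_sup_pow
    intro n
    have h3 : u - u₀ = ((f n).1 - u₀) + (u - (f n).1) := by ring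
    rw [h3]
    exact Ideal.add_mem _ (Ideal.mem_sup_left (hP n).1) (Ideal.mem_sup_right (hu n))
  · apply mem_of_forall_mem_sup_pow
    intro n
    have h3 : v - v₀ = ((f n).2.1 - v₀) + (v - (f n).2.1) := by ring
    rw [h3]
    exact Ideal.add_mem _ (Ideal.mem_sup_left (hP n).2.1) (Ideal.mem_sup_right (hv n))
  · have h := ht 1
    rw [pow_one] at h
    have h3 : t = (t - (f 1).2.2) + (f 1).2.2 := by ring
    rw [h3]
    exact Ideal.add_mem _ h (hP 1).2.2.1
  · apply Groth.Agent.Lib.Helper21.RIa.eq_of_forall_sub_mem_pow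
    intro n
    have h3 : u * v - algebraMap R S t = (u - (f n).1) * v + (f n).1 * (v - (f n).2.1) +
        ((f n).1 * (f n).2.1 - algebraMap R S (f n).2.2) - algebraMap R S (t - (f n).2.2) := by
      rw [map_sub]; ring
    rw [h3]
    refine Ideal.sub_mem _ (Ideal.add_mem _ (Ideal.add_mem _ (Ideal.mul_mem_right _ _ (hu n))
      (Ideal.mul_mem_left _ _ (hv n))) ?_) ?_
    · exact Ideal.pow_le_pow_right (Nat.le_succ n) (hJm (n + 1) (hP n).2.2.2)
    · exact hJm n (algebraMap_mem_J_pow' (ht n))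

theorem C_mem' {r : R} (hr : r ∈ maximalIdeal R) :
    (C r : MvPowerSeries (Fin 2) R) ∈ maximalIdeal (MvPowerSeries (Fin 2) R) := by
  rw [mem_maximalIdeal, mem_nonunits_iff, MvPowerSeries.isUnit_iff_constantCoeff,
    constantCoeff_C]
  exact hr

theorem X_mem' (i : Fin 2) :
    (X i : MvPowerSeries (Fin 2) R) ∈ maximalIdeal (MvPowerSeries (Fin 2) R) := by
  rw [mem_maximalIdeal, mem_nonunits_iff, MvPowerSeries.isUnit_iff_constantCoeff,
    constantCoeff_X]
  exact not_isUnit_zero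

/-- the kernel of the presentation attached to node coordinates -/
theorem ker_eq [IsNoetherianRing R] [IsNoetherianRing S] [IsAdicComplete (maximalIdeal R) R]
    [IsAdicComplete (maximalIdeal S) S] [Module.Flat R S]
    (D : Ctx' κ R S) (u v : S) (t : R)
    (hu : D.E u = Ideal.Quotient.mk _ (X 0)) (hv : D.E v = Ideal.Quotient.mk _ (X 1))
    (ht : t ∈ maximalIdeal R) (huv : u * v = algebraMap R S t)
    (φ : MvPowerSeries (Fin 2) R →ₐ[R] S) (hφ0 : φ (X 0) = u) (hφ1 : φ (X 1) = v) :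
    Function.Surjective φ ∧
      RingHom.ker (φ : MvPowerSeries (Fin 2) R →+* S) = Ideal.span {X 0 * X 1 - C t} := by
  classical
  have hφC : ∀ r, φ (C r) = algebraMap R S r := fun r => by
    rw [c_eq_algebraMap]; exact φ.commutes r
  -- `φ` is local
  let ψ : MvPowerSeries (Fin 2) R →+* κ := D.res.comp (φ : MvPowerSeries (Fin 2) R →+* S)
  have hψs : Function.Surjective ψ := fun c => by
    obtain ⟨r, hr⟩ := D.chi_surj c
    refine ⟨C r, ?_⟩
    show D.res (φ _) = c
    rw [hφC, D.res_algebraMap, hr]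
  have hψk : RingHom.ker ψ = maximalIdeal (MvPowerSeries (Fin 2) R) := by
    haveI := RingHom.ker_isMaximal_of_surjective ψ hψs
    exact IsLocalRing.eq_maximalIdeal inferInstance
  have hmap_le : (maximalIdeal (MvPowerSeries (Fin 2) R)).map
      (φ : MvPowerSeries (Fin 2) R →+* S) ≤ maximalIdeal S := by
    rw [Ideal.map_le_iff_le_comap]
    intro a ha
    rw [← hψk, RingHom.mem_ker] at ha
    exact (D.res_eq_zero_iff _).mp ha
  have hJmap : JJ R S ≤ (maximalIdeal (MvPowerSeries (Fin 2) R)).map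
      (φ : MvPowerSeries (Fin 2) R →+* S) := by
    show Ideal.map (algebraMap R S) (maximalIdeal R) ≤ _
    rw [Ideal.map_le_iff_le_comap]
    intro r hr
    rw [Ideal.mem_comap, ← hφC]
    exact Ideal.mem_map_of_mem _ (C_mem' hr)
  have hsurj : Function.Surjective φ := by
    haveI : IsHausdorff ((maximalIdeal (MvPowerSeries (Fin 2) R)).map
        (φ : MvPowerSeries (Fin 2) R →+* S)) S :=
      IsHausdorff.of_le_jacobson _ _ (hmap_le.trans (IsLocalRing.maximalIdeal_le_jacobson ⊥))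
    haveI : IsPrecomplete (maximalIdeal (MvPowerSeries (Fin 2) R)) (MvPowerSeries (Fin 2) R) :=
      (Groth.Agent.Lib.Helper21.RKi.isAdicComplete_mvPowerSeries).toIsPrecomplete
    apply surjective_of_mk_map_comp_surjective (I := maximalIdeal (MvPowerSeries (Fin 2) R))
      (φ : MvPowerSeries (Fin 2) R →+* S)
    intro y
    obtain ⟨x, rfl⟩ := Ideal.Quotient.mk_surjective y
    obtain ⟨c, j, a, b, hj, hx⟩ := D.exists_decomp u v hu hv x
    refine ⟨C c, ?_⟩
    rw [RingHom.comp_apply, Ideal.Quotient.eq]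
    have h3 : (φ : MvPowerSeries (Fin 2) R →+* S) (C c) - x =
        -(j + φ (X 0) * a + φ (X 1) * b) := by
      show φ (C _) - x = _
      rw [hφC, hφ0, hφ1, hx]; ring
    rw [h3]
    exact (Ideal.neg_mem_iff _).mpr (Ideal.add_mem _ (Ideal.add_mem _ (hJmap hj)
      (Ideal.mul_mem_right _ _ (Ideal.mem_map_of_mem _ (X_mem' 0))))
      (Ideal.mul_mem_right _ _ (Ideal.mem_map_of_mem _ (X_mem' 1))))
  refine ⟨hsurj, ?_⟩
  have hFK : X 0 * X 1 - C t ∈ RingHom.ker (φ : MvPowerSeries (Fin 2) R →+* S) := by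
    rw [RingHom.mem_ker]
    show φ _ = 0
    rw [map_sub, map_mul, hφ0, hφ1, hφC, huv, sub_self]
  -- comparison of the two maps to the node
  let ρ : MvPowerSeries (Fin 2) R →+* MvPowerSeries (Fin 2) κ := MvPowerSeries.map D.chi
  let α : MvPowerSeries (Fin 2) R →+* Nd κ := D.E.comp (φ : MvPowerSeries (Fin 2) R →+* S)
  let β : MvPowerSeries (Fin 2) R →+* Nd κ := (Ideal.Quotient.mk (Ideal.span {XY κ})).comp ρ
  have hE0 : D.E (φ (X 0)) = Ideal.Quotient.mk _ (X 0) := by rw [hφ0, hu]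
  have hE1 : D.E (φ (X 1)) = Ideal.Quotient.mk _ (X 1) := by rw [hφ1, hv]
  have hEX : ∀ i : Fin 2, D.E (φ (X i)) = Ideal.Quotient.mk _ (X i) := by
    intro i
    have h01 : i = 0 ∨ i = 1 := by omega
    rcases h01 with rfl | rfl
    · exact hE0
    · exact hE1
  have hαβ : α = β := by
    apply Groth.Agent.Lib.Helper21.RKf.ringHom_ext_of_hausdorff
    · intro r
      show D.E (φ (C r)) = Ideal.Quotient.mk _ (MvPowerSeries.map D.chi (C r))
      rw [hφC, D.comm, MvPowerSeries.map_C]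
    · intro i
      show D.E (φ (X i)) = Ideal.Quotient.mk _ (MvPowerSeries.map D.chi (X i))
      rw [MvPowerSeries.map_X]
      exact hEX i
    · intro i
      show D.E (φ (X i)) ∈ maximalIdeal (Nd κ)
      rw [mem_maximalIdeal, mem_nonunits_iff]
      intro h
      have h3 := h.map (cc κ)
      rw [hEX i, cc_mk, constantCoeff_X] at h3
      exact not_isUnit_zero h3
  have hρker : ∀ z, z ∈ RingHom.ker (φ : MvPowerSeries (Fin 2) R →+* S) →
      ρ z ∈ Ideal.span {XY κ} := by
    intro z hz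
    have h1 : β z = 0 := by
      rw [← hαβ]
      show D.E (φ z) = 0
      rw [RingHom.mem_ker] at hz
      rw [show φ z = 0 from hz, map_zero]
    exact Ideal.Quotient.eq_zero_iff_mem.mp h1
  have hχt : D.chi t = 0 := by
    have h3 := ht
    rw [← D.ker_chi] at h3
    exact h3
  have hK : RingHom.ker (φ : MvPowerSeries (Fin 2) R →+* S) ≤
      Ideal.span {X 0 * X 1 - C t} := by
    apply Submodule.le_of_le_smul_of_le_jacobson_bot
      (I := maximalIdeal (MvPowerSeries (Fin 2) R)) (IsNoetherian.noetherian _)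
      (IsLocalRing.maximalIdeal_le_jacobson ⊥)
    intro z hz
    obtain ⟨g', hg'⟩ := Ideal.mem_span_singleton'.mp (hρker z hz)
    obtain ⟨hh, hhh⟩ := map_surjective (σ := Fin 2) D.chi D.chi_surj g'
    obtain ⟨z', hz'⟩ : ∃ z', z' = z - hh * (X 0 * X 1 - C t) := ⟨_, rfl⟩
    have hz'K : z' ∈ RingHom.ker (φ : MvPowerSeries (Fin 2) R →+* S) := by
      rw [hz']
      exact Ideal.sub_mem _ hz (Ideal.mul_mem_left _ _ hFK)
    have hρz' : ρ z' = 0 := by
      rw [hz']
      show MvPowerSeries.map D.chi (z - hh * (X 0 * X 1 - C t)) = 0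
      rw [map_sub, map_mul, map_sub, map_mul, MvPowerSeries.map_X, MvPowerSeries.map_X,
        MvPowerSeries.map_C, hχt, map_zero, sub_zero, hhh]
      show ρ z - g' * (X 0 * X 1) = 0
      rw [← hg']
      ring
    have hcoef : ∀ m, coeff m z' ∈ maximalIdeal R := by
      intro m
      have h3 := congrArg (coeff m) hρz'
      rw [show ρ z' = MvPowerSeries.map D.chi z' from rfl, coeff_map, map_zero] at h3
      rw [← D.ker_chi]
      exact h3
    have h3 : z' ∈ maximalIdeal R • (⊤ : Submodule R (MvPowerSeries (Fin 2) R)) :=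
      mem_smul_top_of_coeff_mem _ (IsNoetherian.noetherian _) z' hcoef
    have h4 : z' ∈ maximalIdeal R • LinearMap.ker φ.toLinearMap :=
      Groth.Agent.Lib.Helper8.EssEtNoeth.mem_smul_ker_of_flat (maximalIdeal R) φ.toLinearMap
        hsurj z' (by exact hz'K) h3
    have h5 : z' ∈ maximalIdeal (MvPowerSeries (Fin 2) R) •
        RingHom.ker (φ : MvPowerSeries (Fin 2) R →+* S) := by
      refine Submodule.smul_induction_on h4 ?_ ?_
      · intro r hr x hx
        rw [smul_eq_C_mul]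
        exact Submodule.smul_mem_smul (C_mem' hr) (by exact hx)
      · intro x y hx hy
        exact Submodule.add_mem _ hx hy
    have h6 : z = z' + hh * (X 0 * X 1 - C t) := by rw [hz']; ring
    rw [h6]
    exact Submodule.add_mem _ (Submodule.mem_sup_right h5)
      (Submodule.mem_sup_left (Ideal.mul_mem_left _ _ (Ideal.mem_span_singleton_self _)))
  exact le_antisymm hK ((Ideal.span_singleton_le_iff_mem _).mpr hFK)

/-- normal form of a flat deformation of the split node -/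
theorem main [IsNoetherianRing R] [IsNoetherianRing S] [IsAdicComplete (maximalIdeal R) R]
    [IsAdicComplete (maximalIdeal S) S] [Module.Flat R S] (D : Ctx' κ R S) :
    ∃ t ∈ maximalIdeal R, Nonempty (S ≃ₐ[R] (MvPowerSeries (Fin 2) R ⧸
      Ideal.span {(X 0 * X 1 - C t : MvPowerSeries (Fin 2) R)})) := by
  classical
  obtain ⟨u₀, hu₀⟩ := D.surj (Ideal.Quotient.mk _ (X 0))
  obtain ⟨v₀, hv₀⟩ := D.surj (Ideal.Quotient.mk _ (X 1))
  obtain ⟨u, v, t, hu, hv, ht, huv⟩ := exists_coords D u₀ v₀ hu₀ hv₀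
  have hEu : D.E u = Ideal.Quotient.mk _ (X 0) := (D.E_eq_of_sub_mem hu).trans hu₀
  have hEv : D.E v = Ideal.Quotient.mk _ (X 1) := (D.E_eq_of_sub_mem hv).trans hv₀
  have hum : u ∈ maximalIdeal S := D.mem_maximalIdeal_of_E 0 u hEu
  have hvm : v ∈ maximalIdeal S := D.mem_maximalIdeal_of_E 1 v hEv
  obtain ⟨φ, hφ⟩ := exists_algHom' R (R := S) (![u, v]) (fun i => by
    fin_cases i
    · exact hum
    · exact hvm)
  have hφ0 : φ (X 0) = u := hφ 0
  have hφ1 : φ (X 1) = v := hφ 1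
  obtain ⟨hsurj, hker⟩ := ker_eq D u v t hEu hEv ht huv φ hφ0 hφ1
  exact ⟨t, ht, ⟨(Ideal.quotientKerAlgEquivOfSurjective hsurj).symm.trans
    (Ideal.quotientEquivAlgOfEq R hker)⟩⟩

end Groth.Agent.Lib.Helper21.RLc
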