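import Mathlib
import Groth.Agent.Lib.Helper21.RLc
import Groth.Agent.Lib.Helper14.ComplIadic

/-!
# helper21: completion of a flat local homomorphism whose closed fibre is a split node (S6573)
-/

set_option autoImplicit false
set_option linter.style.haveILetI false
set_option linter.unusedSectionVars false
set_option linter.unusedVariables false
set_option linter.unusedSimpArgs false

namespace Groth.Agent.Lib.Helper21.RLd

open IsLocalRing MvPowerSeries Groth.Agent.Lib.Helper14 Groth.Agent.Lib.Helper14.ComplFlat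
  Groth.Agent.Lib.Helper21.RKx Groth.Agent.Lib.Helper21.RKy Groth.Agent.Lib.Helper21.RLc

universe u

/-- completion of a local ring -/
abbrev Cp (A : Type u) [CommRing A] [IsLocalRing A] : Type u :=
  AdicCompletion (maximalIdeal A) A

section surj

variable (B C : Type u) [CommRing B] [CommRing C] [IsLocalRing B] [IsLocalRing C]
  [IsNoetherianRing B] [IsNoetherianRing C] [Algebra B C] [IsLocalHom (algebraMap B C)]
  (hs : Function.Surjective (algebraMap B C))

include hs in
theorem map_maximalIdeal_eq : (maximalIdeal B).map (algebraMap B C) = maximalIdeal C := by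
  apply le_antisymm
  · rw [Ideal.map_le_iff_le_comap]
    intro a ha
    rw [Ideal.mem_comap, mem_maximalIdeal, mem_nonunits_iff]
    intro hu
    exact ha (isUnit_of_map_unit _ _ hu)
  · intro x hx
    obtain ⟨a, rfl⟩ := hs x
    refine Ideal.mem_map_of_mem _ ?_
    rw [mem_maximalIdeal, mem_nonunits_iff]
    intro hu
    exact hx (hu.map (algebraMap B C))

include hs in
theorem cplMap_surj : Function.Surjective (cplMap B C) :=
  ComplIadic.cplMap_surjective_of B C (map_maximalIdeal_eq B C hs) (fun y => by
    obtain ⟨a, rfl⟩ := hs y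
    exact ⟨a, by rw [sub_self]; exact zero_mem _⟩)

include hs in
theorem ker_cplMap' : RingHom.ker (cplMap B C) =
    (RingHom.ker (algebraMap B C)).map (algebraMap B (Cp B)) := by
  apply le_antisymm
  · intro x hx
    rw [RingHom.mem_ker] at hx
    haveI : IsNoetherianRing (Cp B) := ComplEtale.isNoetherianRing_completion B
    haveI : IsHausdorff (maximalIdeal (Cp B))
        (Cp B ⧸ (RingHom.ker (algebraMap B C)).map (algebraMap B (Cp B))) :=
      IsHausdorff.of_le_jacobson _ _
        (by rw [IsLocalRing.jacobson_eq_maximalIdeal ⊥ bot_ne_top])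
    rw [← Ideal.Quotient.eq_zero_iff_mem]
    apply IsHausdorff.haus' (I := maximalIdeal (Cp B))
    intro n
    obtain ⟨a, ha⟩ := Ideal.Quotient.mk_surjective (AdicCompletion.evalₐ (maximalIdeal B) n x)
    have h1 : x - algebraMap B (Cp B) a ∈ (maximalIdeal (Cp B)) ^ n := by
      rw [AdicCompletion.maximalIdeal_eq_map (R := B), ← Ideal.map_pow]
      apply ComplQuot.mem_map_of_evalₐ_eq_zero _ (IsNoetherian.noetherian _)
      rw [map_sub, sub_eq_zero, ← ha]
      change _ = AdicCompletion.evalₐ _ n (AdicCompletion.of _ B a)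
      rw [AdicCompletion.evalₐ_of]
    have h2 : a ∈ (maximalIdeal B) ^ n ⊔ RingHom.ker (algebraMap B C) := by
      have h3 := evalₐ_cplMap B C n x
      rw [hx, map_zero, ← ha, Ideal.quotientMap_mk, eq_comm, Ideal.Quotient.eq_zero_iff_mem,
        ← map_maximalIdeal_eq B C hs, ← Ideal.map_pow] at h3
      obtain ⟨b, hb, hab⟩ := (Ideal.mem_map_iff_of_surjective _ hs).mp h3
      have h4 : a - b ∈ RingHom.ker (algebraMap B C) := by
        rw [RingHom.mem_ker, map_sub, sub_eq_zero]
        exact hab.symm
      have : a = b + (a - b) := by ring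
      rw [this]
      exact Ideal.add_mem _ (Ideal.mem_sup_left hb) (Ideal.mem_sup_right h4)
    obtain ⟨b, hb, c, hc, rfl⟩ := Submodule.mem_sup.mp h2
    rw [SModEq.zero]
    have h5 : x - algebraMap B (Cp B) c ∈ (maximalIdeal (Cp B)) ^ n := by
      have : x - algebraMap B (Cp B) c = (x - algebraMap B (Cp B) (b + c)) +
          algebraMap B (Cp B) b := by rw [map_add]; ring
      rw [this]
      refine Ideal.add_mem _ h1 ?_
      rw [AdicCompletion.maximalIdeal_eq_map (R := B), ← Ideal.map_pow]
      exact Ideal.mem_map_of_mem _ hb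
    have h6 : Ideal.Quotient.mk ((RingHom.ker (algebraMap B C)).map (algebraMap B (Cp B))) x =
        Ideal.Quotient.mk ((RingHom.ker (algebraMap B C)).map (algebraMap B (Cp B)))
          (x - algebraMap B (Cp B) c) := by
      rw [map_sub, (Ideal.Quotient.eq_zero_iff_mem).mpr (Ideal.mem_map_of_mem _ hc), sub_zero]
    rw [h6]
    have h8 : Ideal.Quotient.mk ((RingHom.ker (algebraMap B C)).map (algebraMap B (Cp B)))
        (x - algebraMap B (Cp B) c) =
        (x - algebraMap B (Cp B) c) •
          (1 : Cp B ⧸ (RingHom.ker (algebraMap B C)).map (algebraMap B (Cp B))) := by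
      rw [Algebra.smul_def, mul_one]; rfl
    rw [h8]
    exact Submodule.smul_mem_smul h5 Submodule.mem_top
  · rw [Ideal.map_le_iff_le_comap]
    intro a ha
    rw [Ideal.mem_comap, RingHom.mem_ker]
    have h3 := DFunLike.congr_fun (cplMap_comp B C) a
    simp only [RingHom.comp_apply] at h3
    rw [h3]
    have : algebraMap B C a = 0 := ha
    rw [this, map_zero]

end surj

section main

variable {A B C κ : Type u} [CommRing A] [CommRing B] [CommRing C] [Field κ]
  [IsLocalRing A] [IsLocalRing B] [IsLocalRing C]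
  [IsNoetherianRing A] [IsNoetherianRing B] [IsNoetherianRing C]
  [Algebra A B] [IsLocalHom (algebraMap A B)] [Module.Flat A B] [Algebra κ C]

theorem isAdicComplete_cp (A : Type u) [CommRing A] [IsLocalRing A] [IsNoetherianRing A] :
    IsAdicComplete (maximalIdeal (Cp A)) (Cp A) := by
  have := AdicCompletion.isAdicComplete_self (maximalIdeal A) (IsNoetherian.noetherian _)
  rw [← AdicCompletion.maximalIdeal_eq_map (R := A)] at this
  exact this

/-- completion of a flat family at a split node -/
theorem main (ρ : A →+* κ) (hρ : Function.Surjective ρ)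
    (π : B →+* C) (hπs : Function.Surjective π)
    (hπk : RingHom.ker π = (maximalIdeal A).map (algebraMap A B))
    (hπc : ∀ a : A, π (algebraMap A B a) = algebraMap κ C (ρ a))
    (e₀ : Cp C ≃+* Nd κ)
    (he₀ : ∀ c : κ, e₀ (algebraMap C (Cp C) (algebraMap κ C c)) =
      Ideal.Quotient.mk _ (MvPowerSeries.C c)) :
    ∃ h ∈ maximalIdeal (Cp A), ∃ e : Cp B ≃+* (MvPowerSeries (Fin 2) (Cp A) ⧸
        Ideal.span {(X 0 * X 1 - MvPowerSeries.C h : MvPowerSeries (Fin 2) (Cp A))}),
      ∀ a : A, e (algebraMap B (Cp B) (algebraMap A B a)) =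
        Ideal.Quotient.mk _ (MvPowerSeries.C (algebraMap A (Cp A) a)) := by
  classical
  letI : Algebra B C := π.toAlgebra
  have hs : Function.Surjective (algebraMap B C) := hπs
  haveI : IsLocalHom (algebraMap B C) := IsLocalHom.of_surjective π hπs
  haveI : IsNoetherianRing (Cp A) := ComplEtale.isNoetherianRing_completion A
  haveI : IsNoetherianRing (Cp B) := ComplEtale.isNoetherianRing_completion B
  haveI hcA : IsAdicComplete (maximalIdeal (Cp A)) (Cp A) := isAdicComplete_cp A
  haveI hcB : IsAdicComplete (maximalIdeal (Cp B)) (Cp B) := isAdicComplete_cp B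
  letI : Algebra (Cp A) (Cp B) := (cplMap A B).toAlgebra
  haveI : Module.Flat (Cp A) (Cp B) := cplMap_flat A B
  -- the residue map of the completion
  have hkρ : RingHom.ker ρ = maximalIdeal A := by
    haveI := RingHom.ker_isMaximal_of_surjective ρ hρ
    exact IsLocalRing.eq_maximalIdeal inferInstance
  have hρm : ∀ a ∈ maximalIdeal A, ρ a = 0 := by
    intro a ha
    rw [← hkρ] at ha
    exact ha
  let chi : Cp A →+* κ := (Ideal.Quotient.lift (maximalIdeal A) ρ hρm).comp
    (AdicCompletion.evalOneₐ (maximalIdeal A) : Cp A →+* A ⧸ maximalIdeal A)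
  have hchi : ∀ a : A, chi (algebraMap A (Cp A) a) = ρ a := by
    intro a
    show Ideal.Quotient.lift (maximalIdeal A) ρ hρm
      (AdicCompletion.evalOneₐ (maximalIdeal A) (algebraMap A (Cp A) a)) = ρ a
    have h1 := AdicCompletion.evalOneₐ_comp_algebraMap_eq_mk (maximalIdeal A)
    have h2 : AdicCompletion.evalOneₐ (maximalIdeal A) (algebraMap A (Cp A) a) =
        Ideal.Quotient.mk (maximalIdeal A) a := DFunLike.congr_fun h1 a
    rw [h2, Ideal.Quotient.lift_mk]
  have chi_surj : Function.Surjective chi := fun c => by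
    obtain ⟨a, ha⟩ := hρ c
    exact ⟨algebraMap A (Cp A) a, by rw [hchi, ha]⟩
  have hkchi : RingHom.ker chi = maximalIdeal (Cp A) := by
    haveI := RingHom.ker_isMaximal_of_surjective chi chi_surj
    exact IsLocalRing.eq_maximalIdeal inferInstance
  let E : Cp B →+* Nd κ := (e₀ : Cp C →+* Nd κ).comp (cplMap B C)
  have hEsurj : Function.Surjective E := e₀.surjective.comp (cplMap_surj B C hs)
  have hEker : RingHom.ker E = Ideal.map (algebraMap (Cp A) (Cp B)) (maximalIdeal (Cp A)) := by
    have h1 : RingHom.ker E = RingHom.ker (cplMap B C) := by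
      ext x
      rw [RingHom.mem_ker, RingHom.mem_ker]
      show e₀ (cplMap B C x) = 0 ↔ _
      exact map_eq_zero_iff e₀ e₀.injective
    have h2 : RingHom.ker (algebraMap B C) = (maximalIdeal A).map (algebraMap A B) := hπk
    rw [h1, ker_cplMap' B C hs, h2, Ideal.map_map, ← cplMap_comp A B, ← Ideal.map_map,
      ← AdicCompletion.maximalIdeal_eq_map (R := A)]
    rfl
  have hEcomm : ∀ r : Cp A, E (algebraMap (Cp A) (Cp B) r) =
      Ideal.Quotient.mk _ (MvPowerSeries.C (chi r)) := by
    intro r
    obtain ⟨a, ha⟩ := ComplQuot.exists_sub_mem_maximalIdeal A r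
    have h1 : E (algebraMap (Cp A) (Cp B) (r - algebraMap A (Cp A) a)) = 0 := by
      rw [← RingHom.mem_ker, hEker]
      exact Ideal.mem_map_of_mem _ ha
    have h2 : chi (r - algebraMap A (Cp A) a) = 0 := by
      rw [← RingHom.mem_ker, hkchi]
      exact ha
    have h3 : E (algebraMap (Cp A) (Cp B) (algebraMap A (Cp A) a)) =
        Ideal.Quotient.mk _ (MvPowerSeries.C (ρ a)) := by
      show e₀ (cplMap B C (cplMap A B (algebraMap A (Cp A) a))) = _
      have e1 := DFunLike.congr_fun (cplMap_comp A B) a
      simp only [RingHom.comp_apply] at e1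
      rw [e1]
      have e2 := DFunLike.congr_fun (cplMap_comp B C) (algebraMap A B a)
      simp only [RingHom.comp_apply] at e2
      rw [e2]
      have e3 : algebraMap B C (algebraMap A B a) = algebraMap κ C (ρ a) := hπc a
      rw [e3, he₀]
    rw [map_sub, map_sub, sub_eq_zero] at h1
    rw [map_sub, sub_eq_zero] at h2
    rw [h1, h3, h2, hchi]
  let D : Ctx' κ (Cp A) (Cp B) := ⟨chi, chi_surj, E, hEsurj, hEker, hEcomm⟩
  obtain ⟨t, ht, ⟨f⟩⟩ := RLc.main D
  refine ⟨t, ht, f.toRingEquiv, fun a => ?_⟩
  have e1 := DFunLike.congr_fun (cplMap_comp A B) a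
  simp only [RingHom.comp_apply] at e1
  show f (algebraMap B (Cp B) (algebraMap A B a)) = _
  rw [← e1]
  have e2 : f (algebraMap (Cp A) (Cp B) (algebraMap A (Cp A) a)) =
      algebraMap (Cp A) _ (algebraMap A (Cp A) a) := f.commutes _
  exact e2

end main

end Groth.Agent.Lib.Helper21.RLd
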