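import Mathlib
import Groth.Prelude.Def_CurvBase
import Groth.Prelude.Def_Curv2
import Groth.Agent.Lib.Helper21.RLd
import Groth.Agent.Lib.Helper6.FiberStalkIso

/-!
# helper21: completion of a flat family at a split node, scheme level (S6573)
-/

set_option autoImplicit false
set_option linter.style.haveILetI false
set_option linter.unusedSectionVars false
set_option linter.unusedVariables false
set_option linter.unusedSimpArgs false

namespace Groth.Agent.Lib.Helper21.RLe

open CategoryTheory CategoryTheory.Limits AlgebraicGeometry IsLocalRing MvPowerSeries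
  Groth.Agent.Lib.Helper6

universe u

theorem stalkClosedPointTo_germ_congr {Z : Scheme.{u}} {R' : CommRingCat.{u}} [IsLocalRing R']
    (p q : Spec R' ⟶ Z) (h : p = q) (U : Z.Opens) (hp : p (closedPoint R') ∈ U)
    (hq : q (closedPoint R') ∈ U) :
    Z.presheaf.germ U _ hp ≫ Scheme.stalkClosedPointTo p =
      Z.presheaf.germ U _ hq ≫ Scheme.stalkClosedPointTo q := by
  subst h
  rfl

variable {T S : Scheme.{u}} (f : T ⟶ S) (t : T)

/-- compatibility of the fibre stalk isomorphism with the residue field -/
theorem key_comm :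
    (Scheme.ΓSpecIso (S.residueField (f t))).inv ≫ (f.fiberToSpecResidueField (f t)).appTop ≫
      (f.fiber (f t)).presheaf.germ ⊤
        ((specToFiber f t) (closedPoint (fiberQuotRing f t))) trivial ≫
      fiberStalkToQuot' f t = residueToFiberQuot f t := by
  have hcomp : specToFiber f t ≫ f.fiberToSpecResidueField (f t) =
      Spec.map (residueToFiberQuot f t) := pullback.lift_snd _ _ _
  have h1 : (Spec (S.residueField (f t))).presheaf.germ ⊤ _ trivial ≫
      Scheme.stalkClosedPointTo (specToFiber f t ≫ f.fiberToSpecResidueField (f t)) =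
      (Scheme.ΓSpecIso _).hom ≫ residueToFiberQuot f t := by
    rw [stalkClosedPointTo_germ_congr _ (Spec.map (residueToFiberQuot f t)) hcomp ⊤ trivial trivial]
    exact Scheme.germ_stalkClosedPointTo_Spec (residueToFiberQuot f t)
  have h2 := Scheme.Hom.germ_stalkMap (f.fiberToSpecResidueField (f t)) ⊤
    ((specToFiber f t) (closedPoint (fiberQuotRing f t))) trivial
  have h3 : (Spec (S.residueField (f t))).presheaf.germ ⊤ _ trivial ≫
      Scheme.stalkClosedPointTo (specToFiber f t ≫ f.fiberToSpecResidueField (f t)) =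
      ((Spec (S.residueField (f t))).presheaf.germ ⊤ _ trivial ≫
        (f.fiberToSpecResidueField (f t)).stalkMap
          ((specToFiber f t) (closedPoint (fiberQuotRing f t)))) ≫
        Scheme.stalkClosedPointTo (specToFiber f t) := by
    rw [Scheme.stalkClosedPointTo_comp, Category.assoc]
    rfl
  rw [h3, h2] at h1
  rw [Iso.inv_comp_eq, ← h1, Category.assoc]
  rfl

theorem main_aux [LocallyOfFiniteType f] [IsNoetherianRing (S.presheaf.stalk (f t))]
    (hfl : (f.stalkMap t).hom.Flat) (y : f.fiber (f t))
    (hy : (specToFiber f t) (closedPoint (fiberQuotRing f t)) = y)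
    (ht : letI : (f.fiber (f t)).Over (Spec (S.residueField (f t))) :=
        ⟨f.fiberToSpecResidueField (f t)⟩
      letI := Curv2.stalkAlgebra (S.residueField (f t)) (f.fiber (f t)) y
      Curv2.IsOrdDoublePt (S.residueField (f t)) ((f.fiber (f t)).presheaf.stalk y)) :
    ∃ h ∈ IsLocalRing.maximalIdeal (Curv2.cpl (S.presheaf.stalk (f t))),
      ∃ e : Curv2.cpl (T.presheaf.stalk t) ≃+*
          (MvPowerSeries (Fin 2) (Curv2.cpl (S.presheaf.stalk (f t))) ⧸
            Ideal.span {(MvPowerSeries.X 0 * MvPowerSeries.X 1 - MvPowerSeries.C h :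
              MvPowerSeries (Fin 2) (Curv2.cpl (S.presheaf.stalk (f t))))}),
        ∀ a : S.presheaf.stalk (f t),
          e (algebraMap (T.presheaf.stalk t) (Curv2.cpl (T.presheaf.stalk t))
              ((f.stalkMap t).hom a)) =
            Ideal.Quotient.mk _ (MvPowerSeries.C
              (algebraMap (S.presheaf.stalk (f t)) (Curv2.cpl (S.presheaf.stalk (f t))) a)) := by
  classical
  subst hy
  letI iO : (f.fiber (f t)).Over (Spec (S.residueField (f t))) :=
    ⟨f.fiberToSpecResidueField (f t)⟩
  letI iA : Algebra (S.residueField (f t)) ((f.fiber (f t)).presheaf.stalk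
      ((specToFiber f t) (closedPoint (fiberQuotRing f t)))) :=
    Curv2.stalkAlgebra (S.residueField (f t)) (f.fiber (f t))
      ((specToFiber f t) (closedPoint (fiberQuotRing f t)))
  obtain ⟨e₀, he₀⟩ := ht
  letI : Algebra (S.presheaf.stalk (f t)) (T.presheaf.stalk t) := (f.stalkMap t).hom.toAlgebra
  haveI : IsLocalHom (algebraMap (S.presheaf.stalk (f t)) (T.presheaf.stalk t)) :=
    inferInstanceAs (IsLocalHom (f.stalkMap t).hom)
  haveI : Module.Flat (S.presheaf.stalk (f t)) (T.presheaf.stalk t) := hfl
  haveI : Algebra.EssFiniteType (S.presheaf.stalk (f t)) (T.presheaf.stalk t) :=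
    LocallyOfFiniteType.stalkMap f t
  haveI : IsNoetherianRing (T.presheaf.stalk t) :=
    Algebra.EssFiniteType.isNoetherianRing (S.presheaf.stalk (f t)) (T.presheaf.stalk t)
  have hβ := fiberStalkToQuot'_bijective f t
  let βe : (f.fiber (f t)).presheaf.stalk ((specToFiber f t) (closedPoint (fiberQuotRing f t))) ≃+*
      (T.presheaf.stalk t ⧸ fiberIdeal f t) := RingEquiv.ofBijective (fiberStalkToQuot' f t).hom hβ
  haveI : IsNoetherianRing ((f.fiber (f t)).presheaf.stalk
      ((specToFiber f t) (closedPoint (fiberQuotRing f t)))) :=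
    isNoetherianRing_of_ringEquiv (T.presheaf.stalk t ⧸ fiberIdeal f t) βe.symm
  let π : T.presheaf.stalk t →+* (f.fiber (f t)).presheaf.stalk
      ((specToFiber f t) (closedPoint (fiberQuotRing f t))) :=
    (βe.symm : (T.presheaf.stalk t ⧸ fiberIdeal f t) →+* _).comp
      (Ideal.Quotient.mk (fiberIdeal f t))
  have hπs : Function.Surjective π := βe.symm.surjective.comp Ideal.Quotient.mk_surjective
  have hπk : RingHom.ker π = (maximalIdeal (S.presheaf.stalk (f t))).map
      (algebraMap (S.presheaf.stalk (f t)) (T.presheaf.stalk t)) := by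
    ext b
    rw [RingHom.mem_ker]
    show βe.symm (Ideal.Quotient.mk (fiberIdeal f t) b) = 0 ↔ b ∈ fiberIdeal f t
    rw [map_eq_zero_iff _ βe.symm.injective, Ideal.Quotient.eq_zero_iff_mem]
  have hπc : ∀ a : S.presheaf.stalk (f t),
      π (algebraMap (S.presheaf.stalk (f t)) (T.presheaf.stalk t) a) =
        algebraMap (S.residueField (f t)) _ ((S.residue (f t)).hom a) := by
    intro a
    apply βe.injective
    show βe (βe.symm (Ideal.Quotient.mk (fiberIdeal f t) ((f.stalkMap t).hom a))) = _
    rw [RingEquiv.apply_symm_apply]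
    have h1 := congrArg (fun m => m.hom ((S.residue (f t)).hom a)) (key_comm f t)
    have h2 := congrArg (fun m => m.hom a) (residue_residueToFiberQuot f t)
    simp only [CommRingCat.hom_comp, RingHom.comp_apply] at h1 h2
    rw [h2] at h1
    exact h1.symm
  exact RLd.main (S.residue (f t)).hom (S.residue_surjective (f t)) π hπs hπk hπc e₀ he₀

end Groth.Agent.Lib.Helper21.RLe
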