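import Mathlib
import Groth.Agent.Lib.Helper21.RLc

/-!
# helper21: flat deformations of a (possibly non-split) node `κ[[X,Y]]/(aX²+bXY+cY²)` (S16290)
-/

set_option autoImplicit false
set_option linter.style.haveILetI false
set_option linter.unusedSectionVars false
set_option linter.unusedVariables false
set_option linter.unusedSimpArgs false

namespace Groth.Agent.Lib.Helper21.RLf

open MvPowerSeries IsLocalRing Groth.Agent.Lib.Helper21.RKx Groth.Agent.Lib.Helper21.RKy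
  Groth.Agent.Lib.Helper21.RLc

universe u

section nodeq

variable {κ : Type u} [Field κ] (a₀ b₀ c₀ : κ)

/-- binary quadratic form as a power series -/
noncomputable abbrev qf : MvPowerSeries (Fin 2) κ :=
  C a₀ * X 0 ^ 2 + C b₀ * X 0 * X 1 + C c₀ * X 1 ^ 2

abbrev Ndq : Type u := MvPowerSeries (Fin 2) κ ⧸ Ideal.span {qf a₀ b₀ c₀}

theorem constantCoeff_qf : constantCoeff (qf a₀ b₀ c₀) = 0 := by
  simp [qf]

/-- constant coefficient on the node -/
noncomputable def cc : Ndq a₀ b₀ c₀ →+* κ :=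
  Ideal.Quotient.lift _ (constantCoeff (σ := Fin 2) (R := κ)) (by
    intro x hx
    rw [Ideal.mem_span_singleton'] at hx
    obtain ⟨y, rfl⟩ := hx
    rw [map_mul, constantCoeff_qf, mul_zero])

theorem cc_mk (g : MvPowerSeries (Fin 2) κ) :
    cc a₀ b₀ c₀ (Ideal.Quotient.mk _ g) = constantCoeff g := rfl

instance : Nontrivial (Ndq a₀ b₀ c₀) := RingHom.domain_nontrivial (cc a₀ b₀ c₀)

instance : IsLocalRing (Ndq a₀ b₀ c₀) :=
  IsLocalRing.of_surjective' (Ideal.Quotient.mk (Ideal.span {qf a₀ b₀ c₀}))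
    Ideal.Quotient.mk_surjective

end nodeq

/-- closed-fibre datum -/
structure CtxQ (κ R S : Type u) [Field κ] [CommRing R] [IsLocalRing R] [CommRing S] [IsLocalRing S]
    [Algebra R S] (a₀ b₀ c₀ : κ) where
  chi : R →+* κ
  chi_surj : Function.Surjective chi
  E : S →+* Ndq a₀ b₀ c₀
  surj : Function.Surjective E
  ker : RingHom.ker E = Ideal.map (algebraMap R S) (maximalIdeal R)
  comm : ∀ r : R, E (algebraMap R S r) = Ideal.Quotient.mk _ (C (chi r))

variable {κ R S : Type u} [Field κ] [CommRing R] [IsLocalRing R] [CommRing S] [IsLocalRing S]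
  [Algebra R S] {a₀ b₀ c₀ : κ}

namespace CtxQ

variable (D : CtxQ κ R S a₀ b₀ c₀)

/-- residue map of `S` -/
noncomputable def res : S →+* κ := (cc a₀ b₀ c₀).comp D.E

theorem res_algebraMap (r : R) : D.res (algebraMap R S r) = D.chi r := by
  show cc a₀ b₀ c₀ (D.E (algebraMap R S r)) = D.chi r
  rw [D.comm, cc_mk]
  simp

theorem res_surj : Function.Surjective D.res := fun c => by
  obtain ⟨r, hr⟩ := D.chi_surj c
  exact ⟨algebraMap R S r, by rw [D.res_algebraMap, hr]⟩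

theorem ker_res : RingHom.ker D.res = maximalIdeal S := by
  haveI := RingHom.ker_isMaximal_of_surjective D.res D.res_surj
  exact IsLocalRing.eq_maximalIdeal inferInstance

theorem res_eq_zero_iff (x : S) : D.res x = 0 ↔ x ∈ maximalIdeal S := by
  rw [← D.ker_res, RingHom.mem_ker]

theorem ker_chi : RingHom.ker D.chi = maximalIdeal R := by
  haveI := RingHom.ker_isMaximal_of_surjective D.chi D.chi_surj
  exact IsLocalRing.eq_maximalIdeal inferInstance

theorem mem_J_iff (x : S) : x ∈ JJ R S ↔ D.E x = 0 := by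
  show x ∈ Ideal.map (algebraMap R S) (maximalIdeal R) ↔ _
  rw [← D.ker, RingHom.mem_ker]

include D in
theorem J_le : JJ R S ≤ maximalIdeal S := by
  intro x hx
  rw [← D.res_eq_zero_iff]
  show cc a₀ b₀ c₀ (D.E x) = 0
  rw [(D.mem_J_iff x).mp hx, map_zero]

theorem E_eq_of_sub_mem {u u₀ : S} (h : u - u₀ ∈ JJ R S) : D.E u = D.E u₀ := by
  have h1 := (D.mem_J_iff _).mp h
  rw [map_sub, sub_eq_zero] at h1
  exact h1

theorem mem_maximalIdeal_of_E (i : Fin 2) (u : S) (hu : D.E u = Ideal.Quotient.mk _ (X i)) :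
    u ∈ maximalIdeal S := by
  rw [← D.res_eq_zero_iff]
  show cc a₀ b₀ c₀ (D.E u) = 0
  rw [hu, cc_mk, constantCoeff_X]

theorem exists_decomp (u v : S) (hu : D.E u = Ideal.Quotient.mk _ (X 0))
    (hv : D.E v = Ideal.Quotient.mk _ (X 1)) (x : S) :
    ∃ (r : R) (j a b : S), j ∈ JJ R S ∧ x = algebraMap R S r + j + u * a + v * b := by
  obtain ⟨r, hr⟩ := D.chi_surj (D.res x)
  have hx : x - algebraMap R S r ∈ maximalIdeal S := by
    rw [← D.res_eq_zero_iff, map_sub, D.res_algebraMap, hr, sub_self]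
  obtain ⟨G, hG⟩ := Ideal.Quotient.mk_surjective (D.E (x - algebraMap R S r))
  have h1 : constantCoeff G = 0 := by
    have h := (D.res_eq_zero_iff _).mpr hx
    change cc a₀ b₀ c₀ (D.E _) = 0 at h
    rwa [← hG, cc_mk] at h
  obtain ⟨g₀, g₁, hg⟩ := exists_eq_of_constantCoeff_eq_zero κ G h1
  obtain ⟨s₀, hs₀⟩ := D.surj (Ideal.Quotient.mk _ g₀)
  obtain ⟨s₁, hs₁⟩ := D.surj (Ideal.Quotient.mk _ g₁)
  refine ⟨r, x - algebraMap R S r - u * s₀ - v * s₁, s₀, s₁, ?_, by ring⟩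
  rw [D.mem_J_iff, map_sub, map_sub, map_mul, map_mul, hu, hv, hs₀, hs₁, ← hG, hg, map_add,
    map_mul, map_mul]
  ring

theorem E_form (a b c : R) (ha : D.chi a = a₀) (hb : D.chi b = b₀) (hc : D.chi c = c₀)
    (u v : S) (hu : D.E u = Ideal.Quotient.mk _ (X 0)) (hv : D.E v = Ideal.Quotient.mk _ (X 1)) :
    D.E (algebraMap R S a * u ^ 2 + algebraMap R S b * u * v + algebraMap R S c * v ^ 2) = 0 := by
  have h1 : D.E (algebraMap R S a * u ^ 2 + algebraMap R S b * u * v + algebraMap R S c * v ^ 2) =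
      Ideal.Quotient.mk _ (qf a₀ b₀ c₀) := by
    simp only [qf, map_add, map_mul, map_pow, D.comm, hu, hv, ha, hb, hc]
  rw [h1, Ideal.Quotient.eq_zero_iff_mem]
  exact Ideal.subset_span rfl

end CtxQ

theorem mul_mem_succ {n : ℕ} {x y : S} (hx : x ∈ JJ R S ^ (n + 1)) (hy : y ∈ JJ R S ^ (n + 1)) :
    x * y ∈ JJ R S ^ (n + 1 + 1) := by
  have hab : x * y ∈ JJ R S ^ (n + 1) * JJ R S ^ (n + 1) := Ideal.mul_mem_mul hx hy
  rw [← pow_add] at hab
  exact Ideal.pow_le_pow_right (by omega) hab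

/-- the main iteration: coordinates with `Q(u,v) = t` -/
theorem exists_coordsQ [IsNoetherianRing S] [IsAdicComplete (maximalIdeal S) S]
    [IsAdicComplete (maximalIdeal R) R]
    (D : CtxQ κ R S a₀ b₀ c₀) (a b c : R) (ha : D.chi a = a₀) (hb : D.chi b = b₀)
    (hc : D.chi c = c₀) (δ : S)
    (hδ : δ * (4 * algebraMap R S a * algebraMap R S c - algebraMap R S b ^ 2) = 1)
    (u₀ v₀ : S)
    (hu₀ : D.E u₀ = Ideal.Quotient.mk _ (X 0)) (hv₀ : D.E v₀ = Ideal.Quotient.mk _ (X 1)) :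
    ∃ (u v : S) (t : R), u - u₀ ∈ JJ R S ∧ v - v₀ ∈ JJ R S ∧ t ∈ maximalIdeal R ∧
      algebraMap R S a * u ^ 2 + algebraMap R S b * u * v + algebraMap R S c * v ^ 2 =
        algebraMap R S t := by
  classical
  have hform := D.E_form a b c ha hb hc
  obtain ⟨a', ha'⟩ : ∃ a', a' = algebraMap R S a := ⟨_, rfl⟩
  obtain ⟨b', hb'⟩ : ∃ b', b' = algebraMap R S b := ⟨_, rfl⟩
  obtain ⟨c', hc'⟩ : ∃ c', c' = algebraMap R S c := ⟨_, rfl⟩
  rw [← ha', ← hb', ← hc'] at hδ hform ⊢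
  let P : ℕ → S × S × R → Prop := fun n x =>
    x.1 - u₀ ∈ JJ R S ∧ x.2.1 - v₀ ∈ JJ R S ∧ x.2.2 ∈ maximalIdeal R ∧
    a' * x.1 ^ 2 + b' * x.1 * x.2.1 + c' * x.2.1 ^ 2 - algebraMap R S x.2.2 ∈ JJ R S ^ (n + 1)
  let Cl : ℕ → S × S × R → S × S × R → Prop := fun n x y =>
    y.1 - x.1 ∈ JJ R S ^ (n + 1) ∧ y.2.1 - x.2.1 ∈ JJ R S ^ (n + 1) ∧
    y.2.2 - x.2.2 ∈ maximalIdeal R ^ (n + 1)
  have h0 : P 0 (u₀, v₀, 0) := by
    refine ⟨by simp, by simp, zero_mem _, ?_⟩
    show a' * u₀ ^ 2 + b' * u₀ * v₀ + c' * v₀ ^ 2 - algebraMap R S 0 ∈ JJ R S ^ (0 + 1)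
    rw [map_zero, sub_zero, zero_add, pow_one, D.mem_J_iff]
    exact hform u₀ v₀ hu₀ hv₀
  have hstep : ∀ n x, P n x → ∃ y, P (n + 1) y ∧ Cl n x y := by
    rintro n ⟨u, v, t⟩ ⟨hu, hv, ht, huv⟩
    simp only at hu hv ht huv
    have hEu : D.E u = Ideal.Quotient.mk _ (X 0) := (D.E_eq_of_sub_mem hu).trans hu₀
    have hEv : D.E v = Ideal.Quotient.mk _ (X 1) := (D.E_eq_of_sub_mem hv).trans hv₀
    have hgen := D.exists_decomp u v hEu hEv
    have hgenQ : ∀ x : S, ∃ (r : R) (j α β : S), j ∈ JJ R S ∧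
        x = algebraMap R S r + j + (2 * a' * u + b' * v) * α + (b' * u + 2 * c' * v) * β := by
      intro x
      obtain ⟨r, j, a₁, b₁, hj, hx⟩ := hgen x
      exact ⟨r, j, δ * (2 * c' * a₁ - b' * b₁), δ * (2 * a' * b₁ - b' * a₁), hj, by
        linear_combination hx - (u * a₁ + v * b₁) * hδ⟩
    obtain ⟨τ, α, β, s', hτ, hα, hβ, hs', hdec⟩ :=
      Ctx'.step (2 * a' * u + b' * v) (b' * u + 2 * c' * v) hgenQ (n + 1) _ huv
    refine ⟨(u - α, v - β, t + τ), ⟨?_, ?_, ?_, ?_⟩, ⟨?_, ?_, ?_⟩⟩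
    · show u - α - u₀ ∈ JJ R S
      have h3 : u - α - u₀ = (u - u₀) - α := by ring
      rw [h3]
      exact Ideal.sub_mem _ hu (Ideal.pow_le_self (Nat.succ_ne_zero n) hα)
    · show v - β - v₀ ∈ JJ R S
      have h3 : v - β - v₀ = (v - v₀) - β := by ring
      rw [h3]
      exact Ideal.sub_mem _ hv (Ideal.pow_le_self (Nat.succ_ne_zero n) hβ)
    · show t + τ ∈ maximalIdeal R
      exact Ideal.add_mem _ ht (Ideal.pow_le_self (Nat.succ_ne_zero n) hτ)
    · show a' * (u - α) ^ 2 + b' * (u - α) * (v - β) + c' * (v - β) ^ 2 -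
        algebraMap R S (t + τ) ∈ JJ R S ^ (n + 1 + 1)
      have h3 : a' * (u - α) ^ 2 + b' * (u - α) * (v - β) + c' * (v - β) ^ 2 -
          algebraMap R S (t + τ) = s' + (a' * (α * α) + b' * (α * β) + c' * (β * β)) := by
        rw [map_add]; linear_combination hdec
      rw [h3]
      exact Ideal.add_mem _ hs' (Ideal.add_mem _ (Ideal.add_mem _
        (Ideal.mul_mem_left _ _ (mul_mem_succ hα hα)) (Ideal.mul_mem_left _ _ (mul_mem_succ hα hβ)))
        (Ideal.mul_mem_left _ _ (mul_mem_succ hβ hβ)))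
    · show u - α - u ∈ _
      have h3 : u - α - u = -α := by ring
      rw [h3]; exact (Ideal.neg_mem_iff _).mpr hα
    · show v - β - v ∈ _
      have h3 : v - β - v = -β := by ring
      rw [h3]; exact (Ideal.neg_mem_iff _).mpr hβ
    · show t + τ - t ∈ _
      rw [add_sub_cancel_left]; exact hτ
  obtain ⟨f, hf0, hP, hC⟩ := exists_seq P Cl (u₀, v₀, 0) h0 hstep
  have hJm : ∀ n, JJ R S ^ n ≤ maximalIdeal S ^ n := fun n => Ideal.pow_right_mono D.J_le n
  obtain ⟨u, hu⟩ := exists_limit (maximalIdeal S) (fun n => (f n).1)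
    (fun n => Ideal.pow_le_pow_right (Nat.le_succ n) (hJm (n + 1) (hC n).1))
  obtain ⟨v, hv⟩ := exists_limit (maximalIdeal S) (fun n => (f n).2.1)
    (fun n => Ideal.pow_le_pow_right (Nat.le_succ n) (hJm (n + 1) (hC n).2.1))
  obtain ⟨t, ht⟩ := exists_limit (maximalIdeal R) (fun n => (f n).2.2)
    (fun n => Ideal.pow_le_pow_right (Nat.le_succ n) (hC n).2.2)
  refine ⟨u, v, t, ?_, ?_, ?_, ?_⟩
  · apply mem_of_forall_mem_sup_pow
    intro n
    have h3 : u - u₀ = ((f n).1 - u₀) + (u - (f n).1) := by ring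
    rw [h3]
    exact Ideal.add_mem _ (Ideal.mem_sup_left (hP n).1) (Ideal.mem_sup_right (hu n))
  · apply mem_of_forall_mem_sup_pow
    intro n
    have h3 : v - v₀ = ((f n).2.1 - v₀) + (v - (f n).2.1) := by ring
    rw [h3]
    exact Ideal.add_mem _ (Ideal.mem_sup_left (hP n).2.1) (Ideal.mem_sup_right (hv n))
  · have h := ht 1
    rw [pow_one] at h
    have h3 : t = (t - (f 1).2.2) + (f 1).2.2 := by ring
    rw [h3]
    exact Ideal.add_mem _ h (hP 1).2.2.1
  · apply Groth.Agent.Lib.Helper21.RIa.eq_of_forall_sub_mem_pow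
    intro n
    have h3 : a' * u ^ 2 + b' * u * v + c' * v ^ 2 - algebraMap R S t =
        (u - (f n).1) * (a' * (u + (f n).1) + b' * v) +
        (v - (f n).2.1) * (b' * (f n).1 + c' * (v + (f n).2.1)) +
        (a' * (f n).1 ^ 2 + b' * (f n).1 * (f n).2.1 + c' * (f n).2.1 ^ 2 -
          algebraMap R S (f n).2.2) - algebraMap R S (t - (f n).2.2) := by
      rw [map_sub]; ring
    rw [h3]
    refine Ideal.sub_mem _ (Ideal.add_mem _ (Ideal.add_mem _ (Ideal.mul_mem_right _ _ (hu n))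
      (Ideal.mul_mem_right _ _ (hv n))) ?_) ?_
    · exact Ideal.pow_le_pow_right (Nat.le_succ n) (hJm (n + 1) (hP n).2.2.2)
    · exact hJm n (algebraMap_mem_J_pow' (ht n))

/-- the kernel of the presentation attached to node coordinates -/
theorem ker_eqQ [IsNoetherianRing R] [IsNoetherianRing S] [IsAdicComplete (maximalIdeal R) R]
    [IsAdicComplete (maximalIdeal S) S] [Module.Flat R S]
    (D : CtxQ κ R S a₀ b₀ c₀) (a b c : R) (ha : D.chi a = a₀) (hb : D.chi b = b₀)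
    (hc : D.chi c = c₀) (u v : S) (t : R)
    (hu : D.E u = Ideal.Quotient.mk _ (X 0)) (hv : D.E v = Ideal.Quotient.mk _ (X 1))
    (ht : t ∈ maximalIdeal R)
    (huv : algebraMap R S a * u ^ 2 + algebraMap R S b * u * v + algebraMap R S c * v ^ 2 =
      algebraMap R S t)
    (φ : MvPowerSeries (Fin 2) R →ₐ[R] S) (hφ0 : φ (X 0) = u) (hφ1 : φ (X 1) = v) :
    Function.Surjective φ ∧
      RingHom.ker (φ : MvPowerSeries (Fin 2) R →+* S) =
        Ideal.span {C a * X 0 ^ 2 + C b * X 0 * X 1 + C c * X 1 ^ 2 - C t} := by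
  classical
  have hφC : ∀ r, φ (C r) = algebraMap R S r := fun r => by
    rw [c_eq_algebraMap]; exact φ.commutes r
  -- `φ` is local
  let ψ : MvPowerSeries (Fin 2) R →+* κ := D.res.comp (φ : MvPowerSeries (Fin 2) R →+* S)
  have hψs : Function.Surjective ψ := fun c => by
    obtain ⟨r, hr⟩ := D.chi_surj c
    refine ⟨C r, ?_⟩
    show D.res (φ _) = c
    rw [hφC, D.res_algebraMap, hr]
  have hψk : RingHom.ker ψ = maximalIdeal (MvPowerSeries (Fin 2) R) := by
    haveI := RingHom.ker_isMaximal_of_surjective ψ hψs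
    exact IsLocalRing.eq_maximalIdeal inferInstance
  have hmap_le : (maximalIdeal (MvPowerSeries (Fin 2) R)).map
      (φ : MvPowerSeries (Fin 2) R →+* S) ≤ maximalIdeal S := by
    rw [Ideal.map_le_iff_le_comap]
    intro a ha
    rw [← hψk, RingHom.mem_ker] at ha
    exact (D.res_eq_zero_iff _).mp ha
  have hJmap : JJ R S ≤ (maximalIdeal (MvPowerSeries (Fin 2) R)).map
      (φ : MvPowerSeries (Fin 2) R →+* S) := by
    show Ideal.map (algebraMap R S) (maximalIdeal R) ≤ _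
    rw [Ideal.map_le_iff_le_comap]
    intro r hr
    rw [Ideal.mem_comap, ← hφC]
    exact Ideal.mem_map_of_mem _ (C_mem' hr)
  have hsurj : Function.Surjective φ := by
    haveI : IsHausdorff ((maximalIdeal (MvPowerSeries (Fin 2) R)).map
        (φ : MvPowerSeries (Fin 2) R →+* S)) S :=
      IsHausdorff.of_le_jacobson _ _ (hmap_le.trans (IsLocalRing.maximalIdeal_le_jacobson ⊥))
    haveI : IsPrecomplete (maximalIdeal (MvPowerSeries (Fin 2) R)) (MvPowerSeries (Fin 2) R) :=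
      (Groth.Agent.Lib.Helper21.RKi.isAdicComplete_mvPowerSeries).toIsPrecomplete
    apply surjective_of_mk_map_comp_surjective (I := maximalIdeal (MvPowerSeries (Fin 2) R))
      (φ : MvPowerSeries (Fin 2) R →+* S)
    intro y
    obtain ⟨x, rfl⟩ := Ideal.Quotient.mk_surjective y
    obtain ⟨c, j, a, b, hj, hx⟩ := D.exists_decomp u v hu hv x
    refine ⟨C c, ?_⟩
    rw [RingHom.comp_apply, Ideal.Quotient.eq]
    have h3 : (φ : MvPowerSeries (Fin 2) R →+* S) (C c) - x =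
        -(j + φ (X 0) * a + φ (X 1) * b) := by
      show φ (C _) - x = _
      rw [hφC, hφ0, hφ1, hx]; ring
    rw [h3]
    exact (Ideal.neg_mem_iff _).mpr (Ideal.add_mem _ (Ideal.add_mem _ (hJmap hj)
      (Ideal.mul_mem_right _ _ (Ideal.mem_map_of_mem _ (X_mem' 0))))
      (Ideal.mul_mem_right _ _ (Ideal.mem_map_of_mem _ (X_mem' 1))))
  refine ⟨hsurj, ?_⟩
  have hFK : C a * X 0 ^ 2 + C b * X 0 * X 1 + C c * X 1 ^ 2 - C t ∈
      RingHom.ker (φ : MvPowerSeries (Fin 2) R →+* S) := by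
    rw [RingHom.mem_ker]
    show φ _ = 0
    rw [map_sub, map_add, map_add, map_mul, map_mul, map_mul, map_mul, map_pow, map_pow, hφ0,
      hφ1, hφC, hφC, hφC, hφC, huv, sub_self]
  -- comparison of the two maps to the node
  let ρ : MvPowerSeries (Fin 2) R →+* MvPowerSeries (Fin 2) κ := MvPowerSeries.map D.chi
  let α : MvPowerSeries (Fin 2) R →+* Ndq a₀ b₀ c₀ :=
    D.E.comp (φ : MvPowerSeries (Fin 2) R →+* S)
  let β : MvPowerSeries (Fin 2) R →+* Ndq a₀ b₀ c₀ :=
    (Ideal.Quotient.mk (Ideal.span {qf a₀ b₀ c₀})).comp ρ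
  have hE0 : D.E (φ (X 0)) = Ideal.Quotient.mk _ (X 0) := by rw [hφ0, hu]
  have hE1 : D.E (φ (X 1)) = Ideal.Quotient.mk _ (X 1) := by rw [hφ1, hv]
  have hEX : ∀ i : Fin 2, D.E (φ (X i)) = Ideal.Quotient.mk _ (X i) := by
    intro i
    have h01 : i = 0 ∨ i = 1 := by omega
    rcases h01 with rfl | rfl
    · exact hE0
    · exact hE1
  have hαβ : α = β := by
    apply Groth.Agent.Lib.Helper21.RKf.ringHom_ext_of_hausdorff
    · intro r
      show D.E (φ (C r)) = Ideal.Quotient.mk _ (MvPowerSeries.map D.chi (C r))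
      rw [hφC, D.comm, MvPowerSeries.map_C]
    · intro i
      show D.E (φ (X i)) = Ideal.Quotient.mk _ (MvPowerSeries.map D.chi (X i))
      rw [MvPowerSeries.map_X]
      exact hEX i
    · intro i
      show D.E (φ (X i)) ∈ maximalIdeal (Ndq a₀ b₀ c₀)
      rw [mem_maximalIdeal, mem_nonunits_iff]
      intro h
      have h3 := h.map (cc a₀ b₀ c₀)
      rw [hEX i, cc_mk, constantCoeff_X] at h3
      exact not_isUnit_zero h3
  have hρker : ∀ z, z ∈ RingHom.ker (φ : MvPowerSeries (Fin 2) R →+* S) →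
      ρ z ∈ Ideal.span {qf a₀ b₀ c₀} := by
    intro z hz
    have h1 : β z = 0 := by
      rw [← hαβ]
      show D.E (φ z) = 0
      rw [RingHom.mem_ker] at hz
      rw [show φ z = 0 from hz, map_zero]
    exact Ideal.Quotient.eq_zero_iff_mem.mp h1
  have hχt : D.chi t = 0 := by
    have h3 := ht
    rw [← D.ker_chi] at h3
    exact h3
  have hρF : ρ (C a * X 0 ^ 2 + C b * X 0 * X 1 + C c * X 1 ^ 2 - C t) = qf a₀ b₀ c₀ := by
    show MvPowerSeries.map D.chi _ = _
    simp only [qf, map_sub, map_add, map_mul, map_pow, MvPowerSeries.map_C, MvPowerSeries.map_X,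
      ha, hb, hc, hχt, map_zero, sub_zero]
  have hK : RingHom.ker (φ : MvPowerSeries (Fin 2) R →+* S) ≤
      Ideal.span {C a * X 0 ^ 2 + C b * X 0 * X 1 + C c * X 1 ^ 2 - C t} := by
    apply Submodule.le_of_le_smul_of_le_jacobson_bot
      (I := maximalIdeal (MvPowerSeries (Fin 2) R)) (IsNoetherian.noetherian _)
      (IsLocalRing.maximalIdeal_le_jacobson ⊥)
    intro z hz
    obtain ⟨g', hg'⟩ := Ideal.mem_span_singleton'.mp (hρker z hz)
    obtain ⟨hh, hhh⟩ := map_surjective (σ := Fin 2) D.chi D.chi_surj g'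
    obtain ⟨F, hF⟩ : ∃ F : MvPowerSeries (Fin 2) R, F = C a * X 0 ^ 2 + C b * X 0 * X 1 + C c * X 1 ^ 2 - C t := ⟨_, rfl⟩
    rw [← hF] at hFK hρF ⊢
    obtain ⟨z', hz'⟩ : ∃ z', z' = z - hh * F := ⟨_, rfl⟩
    have hz'K : z' ∈ RingHom.ker (φ : MvPowerSeries (Fin 2) R →+* S) := by
      rw [hz']
      exact Ideal.sub_mem _ hz (Ideal.mul_mem_left _ _ hFK)
    have hρz' : ρ z' = 0 := by
      rw [hz', map_sub, map_mul, hρF]
      show ρ z - MvPowerSeries.map D.chi hh * qf a₀ b₀ c₀ = 0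
      rw [hhh, ← hg']
      ring
    have hcoef : ∀ m, coeff m z' ∈ maximalIdeal R := by
      intro m
      have h3 := congrArg (coeff m) hρz'
      rw [show ρ z' = MvPowerSeries.map D.chi z' from rfl, coeff_map, map_zero] at h3
      rw [← D.ker_chi]
      exact h3
    have h3 : z' ∈ maximalIdeal R • (⊤ : Submodule R (MvPowerSeries (Fin 2) R)) :=
      mem_smul_top_of_coeff_mem _ (IsNoetherian.noetherian _) z' hcoef
    have h4 : z' ∈ maximalIdeal R • LinearMap.ker φ.toLinearMap :=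
      Groth.Agent.Lib.Helper8.EssEtNoeth.mem_smul_ker_of_flat (maximalIdeal R) φ.toLinearMap
        hsurj z' (by exact hz'K) h3
    have h5 : z' ∈ maximalIdeal (MvPowerSeries (Fin 2) R) •
        RingHom.ker (φ : MvPowerSeries (Fin 2) R →+* S) := by
      refine Submodule.smul_induction_on h4 ?_ ?_
      · intro r hr x hx
        rw [smul_eq_C_mul]
        exact Submodule.smul_mem_smul (C_mem' hr) (by exact hx)
      · intro x y hx hy
        exact Submodule.add_mem _ hx hy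
    have h6 : z = z' + hh * F := by rw [hz']; ring
    rw [h6]
    exact Submodule.add_mem _ (Submodule.mem_sup_right h5)
      (Submodule.mem_sup_left (Ideal.mul_mem_left _ _ (Ideal.mem_span_singleton_self _)))
  exact le_antisymm hK ((Ideal.span_singleton_le_iff_mem _).mpr hFK)

/-- normal form of a flat deformation of a node -/
theorem mainQ [IsNoetherianRing R] [IsNoetherianRing S] [IsAdicComplete (maximalIdeal R) R]
    [IsAdicComplete (maximalIdeal S) S] [Module.Flat R S] (D : CtxQ κ R S a₀ b₀ c₀)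
    (hdisc : b₀ ^ 2 - 4 * a₀ * c₀ ≠ 0)
    (a b c : R) (ha : D.chi a = a₀) (hb : D.chi b = b₀) (hc : D.chi c = c₀) :
    IsUnit (b ^ 2 - 4 * a * c) ∧
    ∃ t ∈ maximalIdeal R, Nonempty (S ≃ₐ[R] (MvPowerSeries (Fin 2) R ⧸
      Ideal.span {(C a * X 0 ^ 2 + C b * X 0 * X 1 + C c * X 1 ^ 2 - C t :
        MvPowerSeries (Fin 2) R)})) := by
  classical
  have hunit : IsUnit (b ^ 2 - 4 * a * c) := by
    by_contra h
    have h1 : b ^ 2 - 4 * a * c ∈ maximalIdeal R := h
    rw [← D.ker_chi, RingHom.mem_ker, map_sub, map_pow, map_mul, map_mul, hb, ha, hc] at h1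
    have h4 : D.chi (4 : R) = 4 := map_ofNat D.chi 4
    rw [h4] at h1
    exact hdisc h1
  refine ⟨hunit, ?_⟩
  obtain ⟨w, hw⟩ := hunit.exists_left_inv
  have hδ : algebraMap R S (-w) *
      (4 * algebraMap R S a * algebraMap R S c - algebraMap R S b ^ 2) = 1 := by
    have h1 := congrArg (algebraMap R S) hw
    rw [map_mul, map_sub, map_pow, map_mul, map_mul, map_one] at h1
    have h4 : algebraMap R S (4 : R) = 4 := map_ofNat (algebraMap R S) 4
    rw [h4] at h1
    rw [map_neg]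
    linear_combination h1
  obtain ⟨u₀, hu₀⟩ := D.surj (Ideal.Quotient.mk _ (X 0))
  obtain ⟨v₀, hv₀⟩ := D.surj (Ideal.Quotient.mk _ (X 1))
  obtain ⟨u, v, t, hu, hv, ht, huv⟩ :=
    exists_coordsQ D a b c ha hb hc _ hδ u₀ v₀ hu₀ hv₀
  have hEu : D.E u = Ideal.Quotient.mk _ (X 0) := (D.E_eq_of_sub_mem hu).trans hu₀
  have hEv : D.E v = Ideal.Quotient.mk _ (X 1) := (D.E_eq_of_sub_mem hv).trans hv₀
  have hum : u ∈ maximalIdeal S := D.mem_maximalIdeal_of_E 0 u hEu
  have hvm : v ∈ maximalIdeal S := D.mem_maximalIdeal_of_E 1 v hEv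
  obtain ⟨φ, hφ⟩ := exists_algHom' R (R := S) (![u, v]) (fun i => by
    fin_cases i
    · exact hum
    · exact hvm)
  have hφ0 : φ (X 0) = u := hφ 0
  have hφ1 : φ (X 1) = v := hφ 1
  obtain ⟨hsurj, hker⟩ := ker_eqQ D a b c ha hb hc u v t hEu hEv ht huv φ hφ0 hφ1
  exact ⟨t, ht, ⟨(Ideal.quotientKerAlgEquivOfSurjective hsurj).symm.trans
    (Ideal.quotientEquivAlgOfEq R hker)⟩⟩

end Groth.Agent.Lib.Helper21.RLf
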