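import Mathlib
import Groth.Agent.Lib.Helper21.RLd
import Groth.Agent.Lib.Helper21.RLf

/-!
# helper21: completion of a flat local homomorphism whose closed fibre is a node (S16290)
-/

set_option autoImplicit false
set_option linter.style.haveILetI false
set_option linter.unusedSectionVars false
set_option linter.unusedVariables false
set_option linter.unusedSimpArgs false

namespace Groth.Agent.Lib.Helper21.RLg

open IsLocalRing MvPowerSeries Groth.Agent.Lib.Helper14 Groth.Agent.Lib.Helper14.ComplFlat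
  Groth.Agent.Lib.Helper21.RKx Groth.Agent.Lib.Helper21.RKy Groth.Agent.Lib.Helper21.RLc
  Groth.Agent.Lib.Helper21.RLd Groth.Agent.Lib.Helper21.RLf

universe u

variable {A B C κ : Type u} [CommRing A] [CommRing B] [CommRing C] [Field κ]
  [IsLocalRing A] [IsLocalRing B] [IsLocalRing C]
  [IsNoetherianRing A] [IsNoetherianRing B] [IsNoetherianRing C]
  [Algebra A B] [IsLocalHom (algebraMap A B)] [Algebra κ C]

/-- the closed-fibre datum on completions -/
theorem exists_ctx {N : Type u} [CommRing N] (ι : κ →+* N)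
    (ρ : A →+* κ) (hρ : Function.Surjective ρ)
    (π : B →+* C) (hπs : Function.Surjective π)
    (hπk : RingHom.ker π = (maximalIdeal A).map (algebraMap A B))
    (hπc : ∀ a : A, π (algebraMap A B a) = algebraMap κ C (ρ a))
    (e₀ : Cp C ≃+* N)
    (he₀ : ∀ c : κ, e₀ (algebraMap C (Cp C) (algebraMap κ C c)) = ι c) :
    letI : Algebra (Cp A) (Cp B) := (cplMap A B).toAlgebra
    ∃ chi : Cp A →+* κ, Function.Surjective chi ∧
      ∃ E : Cp B →+* N, Function.Surjective E ∧
        RingHom.ker E = Ideal.map (algebraMap (Cp A) (Cp B)) (maximalIdeal (Cp A)) ∧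
        ∀ r : Cp A, E (algebraMap (Cp A) (Cp B) r) = ι (chi r) := by
  classical
  letI : Algebra B C := π.toAlgebra
  have hs : Function.Surjective (algebraMap B C) := hπs
  haveI : IsLocalHom (algebraMap B C) := IsLocalHom.of_surjective π hπs
  haveI : IsNoetherianRing (Cp A) := ComplEtale.isNoetherianRing_completion A
  haveI : IsNoetherianRing (Cp B) := ComplEtale.isNoetherianRing_completion B
  letI : Algebra (Cp A) (Cp B) := (cplMap A B).toAlgebra
  have hkρ : RingHom.ker ρ = maximalIdeal A := by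
    haveI := RingHom.ker_isMaximal_of_surjective ρ hρ
    exact IsLocalRing.eq_maximalIdeal inferInstance
  have hρm : ∀ a ∈ maximalIdeal A, ρ a = 0 := by
    intro a ha
    rw [← hkρ] at ha
    exact ha
  let chi : Cp A →+* κ := (Ideal.Quotient.lift (maximalIdeal A) ρ hρm).comp
    (AdicCompletion.evalOneₐ (maximalIdeal A) : Cp A →+* A ⧸ maximalIdeal A)
  have hchi : ∀ a : A, chi (algebraMap A (Cp A) a) = ρ a := by
    intro a
    show Ideal.Quotient.lift (maximalIdeal A) ρ hρm
      (AdicCompletion.evalOneₐ (maximalIdeal A) (algebraMap A (Cp A) a)) = ρ a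
    have h1 := AdicCompletion.evalOneₐ_comp_algebraMap_eq_mk (maximalIdeal A)
    have h2 : AdicCompletion.evalOneₐ (maximalIdeal A) (algebraMap A (Cp A) a) =
        Ideal.Quotient.mk (maximalIdeal A) a := DFunLike.congr_fun h1 a
    rw [h2, Ideal.Quotient.lift_mk]
  have chi_surj : Function.Surjective chi := fun c => by
    obtain ⟨a, ha⟩ := hρ c
    exact ⟨algebraMap A (Cp A) a, by rw [hchi, ha]⟩
  have hkchi : RingHom.ker chi = maximalIdeal (Cp A) := by
    haveI := RingHom.ker_isMaximal_of_surjective chi chi_surj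
    exact IsLocalRing.eq_maximalIdeal inferInstance
  let E : Cp B →+* N := (e₀ : Cp C →+* N).comp (cplMap B C)
  have hEsurj : Function.Surjective E := e₀.surjective.comp (cplMap_surj B C hs)
  have hEker : RingHom.ker E = Ideal.map (algebraMap (Cp A) (Cp B)) (maximalIdeal (Cp A)) := by
    have h1 : RingHom.ker E = RingHom.ker (cplMap B C) := by
      ext x
      rw [RingHom.mem_ker, RingHom.mem_ker]
      show e₀ (cplMap B C x) = 0 ↔ _
      exact map_eq_zero_iff e₀ e₀.injective
    have h2 : RingHom.ker (algebraMap B C) = (maximalIdeal A).map (algebraMap A B) := hπk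
    rw [h1, ker_cplMap' B C hs, h2, Ideal.map_map, ← cplMap_comp A B, ← Ideal.map_map,
      ← AdicCompletion.maximalIdeal_eq_map (R := A)]
    rfl
  refine ⟨chi, chi_surj, E, hEsurj, hEker, ?_⟩
  intro r
  obtain ⟨a, ha⟩ := ComplQuot.exists_sub_mem_maximalIdeal A r
  have h1 : E (algebraMap (Cp A) (Cp B) (r - algebraMap A (Cp A) a)) = 0 := by
    rw [← RingHom.mem_ker, hEker]
    exact Ideal.mem_map_of_mem _ ha
  have h2 : chi (r - algebraMap A (Cp A) a) = 0 := by
    rw [← RingHom.mem_ker, hkchi]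
    exact ha
  have h3 : E (algebraMap (Cp A) (Cp B) (algebraMap A (Cp A) a)) = ι (ρ a) := by
    show e₀ (cplMap B C (cplMap A B (algebraMap A (Cp A) a))) = _
    have e1 := DFunLike.congr_fun (cplMap_comp A B) a
    simp only [RingHom.comp_apply] at e1
    rw [e1]
    have e2 := DFunLike.congr_fun (cplMap_comp B C) (algebraMap A B a)
    simp only [RingHom.comp_apply] at e2
    rw [e2]
    have e3 : algebraMap B C (algebraMap A B a) = algebraMap κ C (ρ a) := hπc a
    rw [e3, he₀]
  rw [map_sub, map_sub, sub_eq_zero] at h1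
  rw [map_sub, sub_eq_zero] at h2
  rw [h1, h3, h2, hchi]

/-- completion of a flat family at a node -/
theorem mainQ' [Module.Flat A B] (a₀ b₀ c₀ : κ) (hdisc : b₀ ^ 2 - 4 * a₀ * c₀ ≠ 0)
    (ρ : A →+* κ) (hρ : Function.Surjective ρ)
    (π : B →+* C) (hπs : Function.Surjective π)
    (hπk : RingHom.ker π = (maximalIdeal A).map (algebraMap A B))
    (hπc : ∀ a : A, π (algebraMap A B a) = algebraMap κ C (ρ a))
    (e₀ : Cp C ≃+* Ndq a₀ b₀ c₀)
    (he₀ : ∀ c : κ, e₀ (algebraMap C (Cp C) (algebraMap κ C c)) =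
      Ideal.Quotient.mk _ (MvPowerSeries.C c)) :
    ∃ a b c : Cp A, IsUnit (b ^ 2 - 4 * a * c) ∧
      ∃ h ∈ maximalIdeal (Cp A), ∃ e : Cp B ≃+* (MvPowerSeries (Fin 2) (Cp A) ⧸
          Ideal.span {(MvPowerSeries.C a * X 0 ^ 2 + MvPowerSeries.C b * X 0 * X 1 +
            MvPowerSeries.C c * X 1 ^ 2 - MvPowerSeries.C h : MvPowerSeries (Fin 2) (Cp A))}),
        ∀ r : A, e (algebraMap B (Cp B) (algebraMap A B r)) =
          Ideal.Quotient.mk _ (MvPowerSeries.C (algebraMap A (Cp A) r)) := by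
  classical
  haveI : IsNoetherianRing (Cp A) := ComplEtale.isNoetherianRing_completion A
  haveI : IsNoetherianRing (Cp B) := ComplEtale.isNoetherianRing_completion B
  haveI hcA : IsAdicComplete (maximalIdeal (Cp A)) (Cp A) := isAdicComplete_cp A
  haveI hcB : IsAdicComplete (maximalIdeal (Cp B)) (Cp B) := isAdicComplete_cp B
  letI : Algebra (Cp A) (Cp B) := (cplMap A B).toAlgebra
  haveI : Module.Flat (Cp A) (Cp B) := cplMap_flat A B
  obtain ⟨chi, hchis, E, hEs, hEk, hEc⟩ := exists_ctx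
    ((Ideal.Quotient.mk (Ideal.span {qf a₀ b₀ c₀})).comp (MvPowerSeries.C (σ := Fin 2) (R := κ)))
    ρ hρ π hπs hπk hπc e₀ he₀
  let D : CtxQ κ (Cp A) (Cp B) a₀ b₀ c₀ := ⟨chi, hchis, E, hEs, hEk, hEc⟩
  obtain ⟨a, ha⟩ := hchis a₀
  obtain ⟨b, hb⟩ := hchis b₀
  obtain ⟨c, hc⟩ := hchis c₀
  obtain ⟨hunit, t, ht, ⟨f⟩⟩ := mainQ D hdisc a b c ha hb hc
  refine ⟨a, b, c, hunit, t, ht, f.toRingEquiv, fun r => ?_⟩
  have e1 := DFunLike.congr_fun (cplMap_comp A B) r
  simp only [RingHom.comp_apply] at e1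
  show f (algebraMap B (Cp B) (algebraMap A B r)) = _
  rw [← e1]
  have e2 : f (algebraMap (Cp A) (Cp B) (algebraMap A (Cp A) r)) =
      algebraMap (Cp A) _ (algebraMap A (Cp A) r) := f.commutes _
  exact e2

end Groth.Agent.Lib.Helper21.RLg
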