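import Mathlib
import Groth.Prelude.Def_CurvBase
import Groth.Prelude.Def_Curv2
import Groth.Agent.Lib.Helper21.RLe
import Groth.Agent.Lib.Helper21.RLg

/-!
# helper21: completion of a flat family at a (possibly non-split) node, scheme level (S16290)
-/

set_option autoImplicit false
set_option linter.style.haveILetI false
set_option linter.unusedSectionVars false
set_option linter.unusedVariables false
set_option linter.unusedSimpArgs false

namespace Groth.Agent.Lib.Helper21.RLh

open CategoryTheory CategoryTheory.Limits AlgebraicGeometry IsLocalRing MvPowerSeries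
  Groth.Agent.Lib.Helper6 Groth.Agent.Lib.Helper21.RLe

universe u

variable {T S : Scheme.{u}} (f : T ⟶ S) (t : T)

theorem main_auxQ [LocallyOfFiniteType f] [IsNoetherianRing (S.presheaf.stalk (f t))]
    (hfl : (f.stalkMap t).hom.Flat) (y : f.fiber (f t))
    (hy : (specToFiber f t) (closedPoint (fiberQuotRing f t)) = y)
    (ht : letI : (f.fiber (f t)).Over (Spec (CommRingCat.of (S.residueField (f t)))) :=
        ⟨f.fiberToSpecResidueField (f t)⟩
      letI := Curv2.stalkAlgebra (S.residueField (f t)) (f.fiber (f t)) y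
      ∃ a b c : S.residueField (f t), b ^ 2 - 4 * a * c ≠ 0 ∧
          ∃ e : Curv2.cpl ((f.fiber (f t)).presheaf.stalk y) ≃+*
              (MvPowerSeries (Fin 2) (S.residueField (f t)) ⧸ Ideal.span
                {(MvPowerSeries.C a * MvPowerSeries.X 0 ^ 2 +
                  MvPowerSeries.C b * MvPowerSeries.X 0 * MvPowerSeries.X 1 +
                  MvPowerSeries.C c * MvPowerSeries.X 1 ^ 2 :
                    MvPowerSeries (Fin 2) (S.residueField (f t)))}),
            ∀ r : S.residueField (f t),
              e (algebraMap ((f.fiber (f t)).presheaf.stalk y) _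
                  (algebraMap (S.residueField (f t)) ((f.fiber (f t)).presheaf.stalk y) r)) =
                Ideal.Quotient.mk _ (MvPowerSeries.C r)) :
    ∃ a b c : Curv2.cpl (S.presheaf.stalk (f t)), IsUnit (b ^ 2 - 4 * a * c) ∧
      ∃ h ∈ IsLocalRing.maximalIdeal (Curv2.cpl (S.presheaf.stalk (f t))),
        ∃ e : Curv2.cpl (T.presheaf.stalk t) ≃+*
            (MvPowerSeries (Fin 2) (Curv2.cpl (S.presheaf.stalk (f t))) ⧸ Ideal.span
              {(MvPowerSeries.C a * MvPowerSeries.X 0 ^ 2 +
                MvPowerSeries.C b * MvPowerSeries.X 0 * MvPowerSeries.X 1 +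
                MvPowerSeries.C c * MvPowerSeries.X 1 ^ 2 - MvPowerSeries.C h :
                  MvPowerSeries (Fin 2) (Curv2.cpl (S.presheaf.stalk (f t))))}),
          ∀ r : S.presheaf.stalk (f t),
            e (algebraMap (T.presheaf.stalk t) (Curv2.cpl (T.presheaf.stalk t))
                ((f.stalkMap t).hom r)) =
              Ideal.Quotient.mk _ (MvPowerSeries.C
                (algebraMap (S.presheaf.stalk (f t)) (Curv2.cpl (S.presheaf.stalk (f t))) r)) := by
  classical
  subst hy
  letI iO : (f.fiber (f t)).Over (Spec (CommRingCat.of (S.residueField (f t)))) :=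
    ⟨f.fiberToSpecResidueField (f t)⟩
  letI iA : Algebra (S.residueField (f t)) ((f.fiber (f t)).presheaf.stalk
      ((specToFiber f t) (closedPoint (fiberQuotRing f t)))) :=
    Curv2.stalkAlgebra (S.residueField (f t)) (f.fiber (f t))
      ((specToFiber f t) (closedPoint (fiberQuotRing f t)))
  obtain ⟨a₀, b₀, c₀, hdisc, e₀, he₀⟩ := ht
  letI : Algebra (S.presheaf.stalk (f t)) (T.presheaf.stalk t) := (f.stalkMap t).hom.toAlgebra
  haveI : IsLocalHom (algebraMap (S.presheaf.stalk (f t)) (T.presheaf.stalk t)) :=
    inferInstanceAs (IsLocalHom (f.stalkMap t).hom)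
  haveI : Module.Flat (S.presheaf.stalk (f t)) (T.presheaf.stalk t) := hfl
  haveI : Algebra.EssFiniteType (S.presheaf.stalk (f t)) (T.presheaf.stalk t) :=
    LocallyOfFiniteType.stalkMap f t
  haveI : IsNoetherianRing (T.presheaf.stalk t) :=
    Algebra.EssFiniteType.isNoetherianRing (S.presheaf.stalk (f t)) (T.presheaf.stalk t)
  have hβ := fiberStalkToQuot'_bijective f t
  let βe : (f.fiber (f t)).presheaf.stalk ((specToFiber f t) (closedPoint (fiberQuotRing f t))) ≃+*
      (T.presheaf.stalk t ⧸ fiberIdeal f t) := RingEquiv.ofBijective (fiberStalkToQuot' f t).hom hβ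
  haveI : IsNoetherianRing ((f.fiber (f t)).presheaf.stalk
      ((specToFiber f t) (closedPoint (fiberQuotRing f t)))) :=
    isNoetherianRing_of_ringEquiv (T.presheaf.stalk t ⧸ fiberIdeal f t) βe.symm
  let π : T.presheaf.stalk t →+* (f.fiber (f t)).presheaf.stalk
      ((specToFiber f t) (closedPoint (fiberQuotRing f t))) :=
    (βe.symm : (T.presheaf.stalk t ⧸ fiberIdeal f t) →+* _).comp
      (Ideal.Quotient.mk (fiberIdeal f t))
  have hπs : Function.Surjective π := βe.symm.surjective.comp Ideal.Quotient.mk_surjective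
  have hπk : RingHom.ker π = (maximalIdeal (S.presheaf.stalk (f t))).map
      (algebraMap (S.presheaf.stalk (f t)) (T.presheaf.stalk t)) := by
    ext b
    rw [RingHom.mem_ker]
    show βe.symm (Ideal.Quotient.mk (fiberIdeal f t) b) = 0 ↔ b ∈ fiberIdeal f t
    rw [map_eq_zero_iff _ βe.symm.injective, Ideal.Quotient.eq_zero_iff_mem]
  have hπc : ∀ a : S.presheaf.stalk (f t),
      π (algebraMap (S.presheaf.stalk (f t)) (T.presheaf.stalk t) a) =
        algebraMap (S.residueField (f t)) _ ((S.residue (f t)).hom a) := by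
    intro a
    apply βe.injective
    show βe (βe.symm (Ideal.Quotient.mk (fiberIdeal f t) ((f.stalkMap t).hom a))) = _
    rw [RingEquiv.apply_symm_apply]
    have h1 := congrArg (fun m => m.hom ((S.residue (f t)).hom a)) (key_comm f t)
    have h2 := congrArg (fun m => m.hom a) (residue_residueToFiberQuot f t)
    simp only [CommRingCat.hom_comp, RingHom.comp_apply] at h1 h2
    rw [h2] at h1
    exact h1.symm
  exact RLg.mainQ' a₀ b₀ c₀ hdisc (S.residue (f t)).hom (S.residue_surjective (f t)) π hπs hπk hπc
    e₀ he₀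

end Groth.Agent.Lib.Helper21.RLh
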