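import Mathlib
import Groth.Agent.Lib.Helper21.RLd
import Groth.Agent.Lib.Helper8.ComplDim
import Groth.Agent.Lib.Helper26.PowerSeriesRLR

/-!
# helper21: a one-dimensional regular local `k`-algebra with residue field `k` embeds in `k[[t]]`
-/

set_option autoImplicit false
set_option linter.style.haveILetI false
set_option linter.unusedSectionVars false
set_option linter.unusedVariables false
set_option linter.unusedSimpArgs false

namespace Groth.Agent.Lib.Helper21.RLi

open IsLocalRing Groth.Agent.Lib.Helper14 Groth.Agent.Lib.Helper21.RLd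

universe u

/-- two retractions of `k → O` to a field agree -/
theorem retraction_unique {k O : Type u} [Field k] [CommRing O] [IsLocalRing O] [Algebra k O]
    (θ χ : O →+* k) (hθ : ∀ c, θ (algebraMap k O c) = c) (hχ : ∀ c, χ (algebraMap k O c) = c) :
    χ = θ := by
  have hkθ : RingHom.ker θ = maximalIdeal O := by
    haveI := RingHom.ker_isMaximal_of_surjective θ (fun c => ⟨_, hθ c⟩)
    exact IsLocalRing.eq_maximalIdeal inferInstance
  have hkχ : RingHom.ker χ = maximalIdeal O := by
    haveI := RingHom.ker_isMaximal_of_surjective χ (fun c => ⟨_, hχ c⟩)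
    exact IsLocalRing.eq_maximalIdeal inferInstance
  ext o
  have h1 : o - algebraMap k O (θ o) ∈ RingHom.ker θ := by
    rw [RingHom.mem_ker, map_sub, hθ, sub_self]
  rw [hkθ, ← hkχ, RingHom.mem_ker, map_sub, hχ, sub_eq_zero] at h1
  exact h1

theorem exists_psi (k O : Type u) [Field k] [CommRing O] [IsLocalRing O] [IsNoetherianRing O]
    [Algebra k O] (θ : O →+* k) (hθ : ∀ c, θ (algebraMap k O c) = c) (π : O)
    (hπ : maximalIdeal O = Ideal.span {π}) (hdim : ringKrullDim O = 1) :
    ∃ ψ : O →+* PowerSeries k, Function.Injective ψ ∧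
      ∀ o, PowerSeries.constantCoeff (ψ o) = θ o := by
  classical
  haveI : IsNoetherianRing (Cp O) := ComplEtale.isNoetherianRing_completion O
  haveI hc : IsAdicComplete (maximalIdeal (Cp O)) (Cp O) := isAdicComplete_cp O
  have hkθ : RingHom.ker θ = maximalIdeal O := by
    haveI := RingHom.ker_isMaximal_of_surjective θ (fun c => ⟨_, hθ c⟩)
    exact IsLocalRing.eq_maximalIdeal inferInstance
  obtain ⟨πh, hπh⟩ : ∃ πh : Cp O, πh = algebraMap O (Cp O) π := ⟨_, rfl⟩
  have hmax : maximalIdeal (Cp O) = Ideal.span {πh} := by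
    rw [AdicCompletion.maximalIdeal_eq_map (R := O)]
    have h1 : Ideal.map (algebraMap O (Cp O)) (maximalIdeal O) =
        Ideal.map (algebraMap O (Cp O)) (Ideal.span {π}) :=
      congrArg (Ideal.map (algebraMap O (Cp O))) hπ
    rw [h1, Ideal.map_span, Set.image_singleton, hπh]
  have hπm : πh ∈ maximalIdeal (Cp O) := by
    rw [hmax]; exact Ideal.mem_span_singleton_self _
  obtain ⟨Φ, hΦ⟩ := Groth.Agent.Lib.Helper26.PowerSeriesRLR.exists_algHom k (d := 1) (R := Cp O)
    (fun _ => πh) (fun _ => hπm)
  have hres : ∀ r : Cp O, ∃ c : k, r - algebraMap k (Cp O) c ∈ maximalIdeal (Cp O) := by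
    intro r
    obtain ⟨a, ha⟩ := ComplQuot.exists_sub_mem_maximalIdeal O r
    refine ⟨θ a, ?_⟩
    have h1 : a - algebraMap k O (θ a) ∈ maximalIdeal O := by
      rw [← hkθ, RingHom.mem_ker, map_sub, hθ, sub_self]
    have h2 : algebraMap O (Cp O) (a - algebraMap k O (θ a)) ∈ maximalIdeal (Cp O) := by
      rw [AdicCompletion.maximalIdeal_eq_map (R := O)]
      exact Ideal.mem_map_of_mem _ h1
    have h3 : r - algebraMap k (Cp O) (θ a) = (r - algebraMap O (Cp O) a) +
        algebraMap O (Cp O) (a - algebraMap k O (θ a)) := by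
      rw [map_sub, ← IsScalarTower.algebraMap_apply k O (Cp O)]
      ring
    rw [h3]
    exact Ideal.add_mem _ ha h2
  have hsurj : Function.Surjective Φ := by
    have hmap : (Ideal.span (Set.range (MvPowerSeries.X : Fin 1 → MvPowerSeries (Fin 1) k))).map
        Φ.toRingHom = maximalIdeal (Cp O) := by
      rw [Ideal.map_span, ← Set.range_comp, hmax]
      congr 1
      ext y
      simp only [Set.mem_range, Function.comp_apply, Set.mem_singleton_iff]
      constructor
      · rintro ⟨i, rfl⟩
        exact hΦ i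
      · rintro rfl
        exact ⟨0, hΦ 0⟩
    haveI : IsHausdorff ((Ideal.span (Set.range (MvPowerSeries.X :
        Fin 1 → MvPowerSeries (Fin 1) k))).map Φ.toRingHom) (Cp O) := by
      rw [hmap]; exact hc.toIsHausdorff
    apply surjective_of_mk_map_comp_surjective
      (I := Ideal.span (Set.range (MvPowerSeries.X : Fin 1 → MvPowerSeries (Fin 1) k)))
      Φ.toRingHom
    intro y
    obtain ⟨r, rfl⟩ := Ideal.Quotient.mk_surjective y
    obtain ⟨c, hc'⟩ := hres r
    refine ⟨algebraMap k _ c, ?_⟩
    rw [RingHom.comp_apply, Ideal.Quotient.eq, hmap]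
    have : Φ.toRingHom (algebraMap k (MvPowerSeries (Fin 1) k) c) = algebraMap k (Cp O) c :=
      Φ.commutes c
    rw [this]
    have h4 : algebraMap k (Cp O) c - r = -(r - algebraMap k (Cp O) c) := by ring
    rw [h4]
    exact (Ideal.neg_mem_iff _).mpr hc'
  have hinj : Function.Injective Φ := by
    have h1 := Groth.Agent.Lib.Helper26.PowerSeriesRLR.injective_of_surjective_of_le_ringKrullDim
      k 1 (Φ : MvPowerSeries (Fin 1) k →+* Cp O) hsurj (by
        rw [Groth.Agent.Lib.Helper8.ringKrullDim_adicCompletion O, hdim]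
        rfl)
    exact h1
  let Φe : MvPowerSeries (Fin 1) k ≃ₐ[k] Cp O := AlgEquiv.ofBijective Φ ⟨hinj, hsurj⟩
  let ren : MvPowerSeries (Fin 1) k ≃ₐ[k] PowerSeries k :=
    MvPowerSeries.renameEquiv k (Equiv.ofUnique (Fin 1) Unit)
  let ψa : O →ₐ[k] PowerSeries k :=
    (ren : MvPowerSeries (Fin 1) k →ₐ[k] PowerSeries k).comp
      ((Φe.symm : Cp O →ₐ[k] MvPowerSeries (Fin 1) k).comp (IsScalarTower.toAlgHom k O (Cp O)))
  refine ⟨ψa.toRingHom, ?_, ?_⟩
  · intro a b hab
    have h1 : ren (Φe.symm (algebraMap O (Cp O) a)) = ren (Φe.symm (algebraMap O (Cp O) b)) := hab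
    have h2 := Φe.symm.injective (ren.injective h1)
    exact AdicCompletion.of_inj.mp h2
  · have hχ : ∀ c, ((PowerSeries.constantCoeff (R := k)).comp ψa.toRingHom)
        (algebraMap k O c) = c := by
      intro c
      show PowerSeries.constantCoeff (ψa (algebraMap k O c)) = c
      rw [ψa.commutes]
      simp
    have h := retraction_unique θ ((PowerSeries.constantCoeff (R := k)).comp ψa.toRingHom) hθ hχ
    intro o
    exact congrArg (fun f => f o) h

end Groth.Agent.Lib.Helper21.RLi
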