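import Mathlib
import Groth.Agent.Lib.Helper21.RLi
import Groth.Agent.Lib.Helper21.RLe
import Groth.Agent.Lib.Helper22.Sard2
import Groth.Agent.Lib.Helper26.RegularSch

/-!
# helper21: a geometric smoothing gives a smoothing over `k[[t]]` (S16190)
-/

set_option autoImplicit false
set_option linter.style.haveILetI false
set_option linter.unusedSectionVars false
set_option linter.unusedVariables false
set_option linter.unusedSimpArgs false

namespace Groth.Agent.Lib.Helper21.RLj

open CategoryTheory CategoryTheory.Limits AlgebraicGeometry IsLocalRing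
  Groth.Agent.Lib.Helper21.RLe

universe u

/-- general form of `RLe.key_comm` -/
theorem key_gen {Z : Scheme.{u}} {R K : CommRingCat.{u}} [IsLocalRing R] (sp : Spec R ⟶ Z)
    (g : Z ⟶ Spec K) (φ : K ⟶ R) (hcomp : sp ≫ g = Spec.map φ) :
    (Scheme.ΓSpecIso K).inv ≫ g.appTop ≫ Z.presheaf.germ ⊤ (sp (closedPoint R)) trivial ≫
      Scheme.stalkClosedPointTo sp = φ := by
  have h1 : (Spec K).presheaf.germ ⊤ _ trivial ≫ Scheme.stalkClosedPointTo (sp ≫ g) =
      (Scheme.ΓSpecIso _).hom ≫ φ := by
    rw [stalkClosedPointTo_germ_congr _ (Spec.map φ) hcomp ⊤ trivial trivial]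
    exact Scheme.germ_stalkClosedPointTo_Spec φ
  have h2 := Scheme.Hom.germ_stalkMap g ⊤ (sp (closedPoint R)) trivial
  have h3 : (Spec K).presheaf.germ ⊤ _ trivial ≫ Scheme.stalkClosedPointTo (sp ≫ g) =
      ((Spec K).presheaf.germ ⊤ _ trivial ≫ g.stalkMap (sp (closedPoint R))) ≫
        Scheme.stalkClosedPointTo sp := by
    rw [Scheme.stalkClosedPointTo_comp, Category.assoc]
    rfl
  rw [h3, h2] at h1
  rw [Iso.inv_comp_eq, ← h1, Category.assoc]
  rfl

/-- the prime `⊥` of the local ring of an integral scheme maps to the generic point -/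
theorem fromSpecStalk_bot {C : Scheme.{u}} [IsIntegral C] (x : C)
    (z : Spec (C.presheaf.stalk x)) (hz : ∀ w : Spec (C.presheaf.stalk x), z ⤳ w) :
    (C.fromSpecStalk x) z = genericPoint C := by
  have h1 : genericPoint C ∈ Set.range (C.fromSpecStalk x) := by
    rw [Scheme.range_fromSpecStalk]
    exact genericPoint_specializes x
  obtain ⟨w, hw⟩ := h1
  have h2 : (C.fromSpecStalk x) z ⤳ genericPoint C := by
    rw [← hw]
    exact (hz w).map (C.fromSpecStalk x).continuous
  exact (h2.antisymm (genericPoint_specializes _)).eq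

theorem exists_fac {C : Scheme.{u}} (K : Type u) [Field K] (γ : Spec (CommRingCat.of K) ⟶ C)
    (η : C) (hη : γ (closedPoint K) = η) :
    ∃ fK : C.residueField η ⟶ CommRingCat.of K, γ = Spec.map fK ≫ C.fromSpecResidueField η := by
  subst hη
  have h := (Scheme.SpecToEquivOfField K C).left_inv γ
  exact ⟨_, h.symm⟩

theorem main (k : Type u) [Field k] [IsAlgClosed k]
    (X : Scheme.{u}) (pX : X ⟶ Spec (CommRingCat.of k))
    (C : Scheme.{u}) (qC : C ⟶ Spec (CommRingCat.of k)) (c : Spec (CommRingCat.of k) ⟶ C)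
    (hc : c ≫ qC = 𝟙 (Spec (CommRingCat.of k))) [IsIntegral C] [Smooth qC]
    (hC : topologicalKrullDim C = 1)
    (Y : Scheme.{u}) (π : Y ⟶ C) [Flat π] [IsProper π] (j : X ⟶ Y) (hsq : IsPullback j pX π c)
    (hgen : Smooth (π.fiberToSpecResidueField (genericPoint C))) :
    ∃ (P : Scheme.{u}) (p : P ⟶ Spec (CommRingCat.of (PowerSeries k))) (_ : Flat p) (_ : IsProper p)
      (i : X ⟶ P),
      IsPullback i pX p (Spec.map (CommRingCat.ofHom (PowerSeries.constantCoeff (R := k)))) ∧
      Smooth (pullback.snd p
        (Spec.map (CommRingCat.ofHom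
          (algebraMap (PowerSeries k) (FractionRing (PowerSeries k)))))) := by
  classical
  haveI : Subsingleton ↥(Spec (CommRingCat.of k)) :=
    inferInstanceAs (Subsingleton (PrimeSpectrum k))
  -- the local ring at the rational point
  have hθs := key_gen c qC (𝟙 (CommRingCat.of k)) (by rw [hc, Spec.map_id])
  let s : k →+* C.presheaf.stalk (c (closedPoint k)) :=
    (C.presheaf.germ ⊤ (c (closedPoint k)) trivial).hom.comp
      (qC.appTop.hom.comp (Scheme.ΓSpecIso (CommRingCat.of k)).inv.hom)
  let θ : C.presheaf.stalk (c (closedPoint k)) →+* k := (Scheme.stalkClosedPointTo c).hom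
  have hθ : ∀ a : k, θ (s a) = a := by
    intro a
    have h1 := congrArg (fun m => m.hom a) hθs
    simp only [CommRingCat.hom_comp, RingHom.comp_apply, CommRingCat.hom_id, RingHom.id_apply]
      at h1
    exact h1
  letI : Algebra k (C.presheaf.stalk (c (closedPoint k))) := s.toAlgebra
  -- the point is closed
  haveI : IsClosedImmersion c := isClosedImmersion_of_comp_eq_id qC c hc
  have hclosed : IsClosed ({c (closedPoint k)} : Set C) := by
    have h2 := c.isClosedEmbedding.isClosed_range
    have h3 : Set.range c = {c (closedPoint k)} := by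
      ext y
      constructor
      · rintro ⟨x, rfl⟩
        have : x = closedPoint k := Subsingleton.elim (α := ↥(Spec (CommRingCat.of k))) x _
        rw [this]
        rfl
      · rintro rfl
        exact ⟨_, rfl⟩
    rwa [h3] at h2
  have hdimO : ringKrullDim (C.presheaf.stalk (c (closedPoint k))) = 1 :=
    (Groth.Agent.Lib.Helper22.Sard.ringKrullDim_stalk_eq_topologicalKrullDim k C qC
      (c (closedPoint k)) hclosed).trans hC
  haveI hreg : IsRegularLocalRing (C.presheaf.stalk (c (closedPoint k))) :=
    Groth.Agent.Lib.Helper26.RegularSch.isRegularLocalRing_stalk_of_smooth_field k qC _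
  have hsf : (maximalIdeal (C.presheaf.stalk (c (closedPoint k)))).spanFinrank = 1 := by
    have h1 := IsRegularLocalRing.spanFinrank_maximalIdeal
      (R := C.presheaf.stalk (c (closedPoint k)))
    rw [hdimO] at h1
    exact_mod_cast h1
  obtain ⟨hprin, -⟩ := (Submodule.spanFinrank_eq_one_iff _).mp hsf
  obtain ⟨π₀, hπ₀⟩ := hprin.principal
  obtain ⟨ψ, hψinj, hψc⟩ := Groth.Agent.Lib.Helper21.RLi.exists_psi k
    (C.presheaf.stalk (c (closedPoint k))) θ hθ π₀ hπ₀ hdimO
  -- the morphism `Spec k[[t]] ⟶ C`
  let g : Spec (CommRingCat.of (PowerSeries k)) ⟶ C :=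
    Spec.map (CommRingCat.ofHom ψ) ≫ C.fromSpecStalk (c (closedPoint k))
  have hG1 : Spec.map (CommRingCat.ofHom (PowerSeries.constantCoeff (R := k))) ≫ g = c := by
    have h1 : CommRingCat.ofHom ψ ≫ CommRingCat.ofHom (PowerSeries.constantCoeff (R := k)) =
        Scheme.stalkClosedPointTo c := by
      ext o
      exact hψc o
    show Spec.map _ ≫ Spec.map _ ≫ _ = c
    rw [← Category.assoc, ← Spec.map_comp, h1]
    exact Scheme.Spec_stalkClosedPointTo_fromSpecStalk c
  -- the generic point
  obtain ⟨aK, haK⟩ : ∃ aK : PowerSeries k →+* FractionRing (PowerSeries k),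
      aK = algebraMap (PowerSeries k) (FractionRing (PowerSeries k)) := ⟨_, rfl⟩
  have haKinj : Function.Injective aK := by
    rw [haK]; exact IsFractionRing.injective _ _
  have hpt : (Spec.map (CommRingCat.ofHom aK) ≫ g) (closedPoint (FractionRing (PowerSeries k))) =
      genericPoint C := by
    show (C.fromSpecStalk (c (closedPoint k))) ((Spec.map (CommRingCat.ofHom ψ))
      ((Spec.map (CommRingCat.ofHom aK)) (closedPoint (FractionRing (PowerSeries k))))) = _
    apply fromSpecStalk_bot
    intro w
    refine (PrimeSpectrum.le_iff_specializes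
      (R := C.presheaf.stalk (c (closedPoint k))) _ w).mp ?_
    show Ideal.comap ψ (Ideal.comap aK (maximalIdeal (FractionRing (PowerSeries k)))) ≤ w.asIdeal
    rw [IsLocalRing.maximalIdeal_eq_bot, ← RingHom.ker_eq_comap_bot,
      (RingHom.injective_iff_ker_eq_bot aK).mp haKinj, ← RingHom.ker_eq_comap_bot,
      (RingHom.injective_iff_ker_eq_bot ψ).mp hψinj]
    exact bot_le
  obtain ⟨fK, hG2⟩ := exists_fac (FractionRing (PowerSeries k))
    (Spec.map (CommRingCat.ofHom aK) ≫ g) (genericPoint C) hpt
  -- the family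
  have hP := IsPullback.of_hasPullback π g
  have hw : j ≫ π = (pX ≫ Spec.map (CommRingCat.ofHom (PowerSeries.constantCoeff (R := k)))) ≫
      g := by
    rw [Category.assoc, hG1]
    exact hsq.w
  refine ⟨pullback π g, pullback.snd π g, inferInstance, inferInstance,
    pullback.lift j (pX ≫ Spec.map (CommRingCat.ofHom (PowerSeries.constantCoeff (R := k)))) hw,
    ?_, ?_⟩
  · refine IsPullback.of_right ?_ (pullback.lift_snd _ _ _) hP
    rw [pullback.lift_fst, hG1]
    exact hsq
  · rw [← haK]
    have hW := IsPullback.of_hasPullback (pullback.snd π g) (Spec.map (CommRingCat.ofHom aK))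
    have hbig := hW.paste_horiz hP
    rw [hG2] at hbig
    have hF := IsPullback.of_hasPullback π (C.fromSpecResidueField (genericPoint C))
    obtain ⟨l, hl⟩ : ∃ l, l = hF.lift
        (pullback.fst (pullback.snd π g) (Spec.map (CommRingCat.ofHom aK)) ≫ pullback.fst π g)
        (pullback.snd (pullback.snd π g) (Spec.map (CommRingCat.ofHom aK)) ≫ Spec.map fK)
        hbig.w := ⟨_, rfl⟩
    have e1 : l ≫ pullback.fst π (C.fromSpecResidueField (genericPoint C)) =
        pullback.fst (pullback.snd π g) (Spec.map (CommRingCat.ofHom aK)) ≫ pullback.fst π g := by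
      rw [hl]; exact hF.lift_fst _ _ _
    have e2 : l ≫ pullback.snd π (C.fromSpecResidueField (genericPoint C)) =
        pullback.snd (pullback.snd π g) (Spec.map (CommRingCat.ofHom aK)) ≫ Spec.map fK := by
      rw [hl]; exact hF.lift_snd _ _ _
    have hsq2 : IsPullback l
        (pullback.snd (pullback.snd π g) (Spec.map (CommRingCat.ofHom aK)))
        (π.fiberToSpecResidueField (genericPoint C)) (Spec.map fK) :=
      IsPullback.of_right (by rw [e1]; exact hbig) e2 hF
    exact MorphismProperty.of_isPullback (P := @Smooth) hsq2 hgen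

end Groth.Agent.Lib.Helper21.RLj
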