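import Mathlib
import Groth.Agent.Lib.Helper14.ComplQuot

/-!
# helper21: `B / m^n ≃ (B ⊗_A Â)_Q / (Q)^n` (ring core of S7305)
-/

set_option autoImplicit false
set_option linter.style.haveILetI false
set_option linter.unusedSectionVars false
set_option linter.unusedVariables false
set_option linter.unusedSimpArgs false

namespace Groth.Agent.Lib.Helper21.RLk

open IsLocalRing TensorProduct

universe u

variable {A : Type u} [CommRing A] [IsLocalRing A]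

local notation "Ah" => AdicCompletion (maximalIdeal A) A

theorem dec (hm : (maximalIdeal A).FG) (n : ℕ) (z : Ah) :
    ∃ a : A, z - algebraMap A Ah a ∈ ((maximalIdeal A) ^ n).map (algebraMap A Ah) := by
  obtain ⟨a, ha⟩ := Ideal.Quotient.mk_surjective (AdicCompletion.evalₐ (maximalIdeal A) n z)
  refine ⟨a, ?_⟩
  apply Groth.Agent.Lib.Helper14.ComplQuot.mem_map_of_evalₐ_eq_zero (maximalIdeal A) hm n
  rw [map_sub, AlgHom.commutes, Ideal.Quotient.algebraMap_eq, ha, sub_self]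

variable {B : Type u} [CommRing B] [Algebra A B]

theorem includeRight_comp :
    ((Algebra.TensorProduct.includeRight : Ah →ₐ[A] B ⊗[A] Ah) : Ah →+* B ⊗[A] Ah).comp
      (algebraMap A Ah) = algebraMap A (B ⊗[A] Ah) :=
  RingHom.ext fun a => (Algebra.TensorProduct.includeRight : Ah →ₐ[A] B ⊗[A] Ah).commutes a

theorem decC (hm : (maximalIdeal A).FG) (n : ℕ) (c : B ⊗[A] Ah) :
    ∃ b : B, c - b ⊗ₜ[A] (1 : Ah) ∈
      ((maximalIdeal A) ^ n).map (algebraMap A (B ⊗[A] Ah)) := by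
  induction c using TensorProduct.induction_on with
  | zero => exact ⟨0, by simp⟩
  | tmul b z =>
    obtain ⟨a, ha⟩ := dec hm n z
    refine ⟨a • b, ?_⟩
    have e1 : (a • b) ⊗ₜ[A] (1 : Ah) = b ⊗ₜ[A] (algebraMap A Ah a) := by
      rw [TensorProduct.smul_tmul, Algebra.algebraMap_eq_smul_one]
    have h1 : b ⊗ₜ[A] z - (a • b) ⊗ₜ[A] (1 : Ah) =
        (b ⊗ₜ[A] (1 : Ah)) *
          ((Algebra.TensorProduct.includeRight : Ah →ₐ[A] B ⊗[A] Ah)
            (z - algebraMap A Ah a)) := by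
      rw [e1, ← TensorProduct.tmul_sub, Algebra.TensorProduct.includeRight_apply,
        Algebra.TensorProduct.tmul_mul_tmul, mul_one, one_mul]
    rw [h1]
    apply Ideal.mul_mem_left
    have h2 := Ideal.mem_map_of_mem
      ((Algebra.TensorProduct.includeRight : Ah →ₐ[A] B ⊗[A] Ah) : Ah →+* B ⊗[A] Ah) ha
    rw [Ideal.map_map, includeRight_comp] at h2
    exact h2
  | add x y hx hy =>
    obtain ⟨b1, h1⟩ := hx
    obtain ⟨b2, h2⟩ := hy
    refine ⟨b1 + b2, ?_⟩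
    have : x + y - (b1 + b2) ⊗ₜ[A] (1 : Ah) =
        (x - b1 ⊗ₜ[A] (1 : Ah)) + (y - b2 ⊗ₜ[A] (1 : Ah)) := by
      rw [TensorProduct.add_tmul]; ring
    rw [this]
    exact add_mem h1 h2

section main

variable [IsLocalRing B] [IsLocalHom (algebraMap A B)]
  (Q : Ideal (B ⊗[A] AdicCompletion (maximalIdeal A) A)) [Q.IsPrime]
  (hQ : Q.comap (Algebra.TensorProduct.includeLeftRingHom :
    B →+* B ⊗[A] AdicCompletion (maximalIdeal A) A) = maximalIdeal B)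

include hQ

theorem tmul_mem_iff (b : B) : b ⊗ₜ[A] (1 : Ah) ∈ Q ↔ b ∈ maximalIdeal B := by
  rw [← hQ, Ideal.mem_comap]
  rfl

theorem map_le_Q : (maximalIdeal A).map (algebraMap A (B ⊗[A] Ah)) ≤ Q := by
  rw [Ideal.map_le_iff_le_comap]
  intro a ha
  rw [Ideal.mem_comap]
  have h1 : algebraMap A (B ⊗[A] Ah) a = (algebraMap A B a) ⊗ₜ[A] (1 : Ah) := by
    rw [Algebra.TensorProduct.algebraMap_apply]
  rw [h1, tmul_mem_iff Q hQ]
  have h2 : (maximalIdeal A).map (algebraMap A B) ≤ maximalIdeal B :=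
    ((IsLocalRing.local_hom_TFAE (algebraMap A B)).out 0 2).mp (inferInstance : IsLocalHom (algebraMap A B))
  exact h2 (Ideal.mem_map_of_mem _ ha)

theorem mapn_le_Qn (n : ℕ) :
    ((maximalIdeal A) ^ n).map (algebraMap A (B ⊗[A] Ah)) ≤ Q ^ n := by
  rw [Ideal.map_pow]
  exact Ideal.pow_right_mono (map_le_Q Q hQ) n

theorem mapn_le_Q (n : ℕ) (hn : 1 ≤ n) :
    ((maximalIdeal A) ^ n).map (algebraMap A (B ⊗[A] Ah)) ≤ Q :=
  (mapn_le_Qn Q hQ n).trans (Ideal.pow_le_self (by omega))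

variable (L : Type u) [CommRing L] [Algebra (B ⊗[A] AdicCompletion (maximalIdeal A) A) L]
  [IsLocalization.AtPrime L Q] [IsLocalRing L]

theorem algebraMap_mem_pow (n : ℕ) (y : B ⊗[A] Ah)
    (hy : y ∈ ((maximalIdeal A) ^ n).map (algebraMap A (B ⊗[A] Ah))) :
    algebraMap (B ⊗[A] Ah) L y ∈ maximalIdeal L ^ n := by
  rw [← IsLocalization.AtPrime.map_eq_maximalIdeal Q L, ← Ideal.map_pow]
  exact Ideal.mem_map_of_mem _ (mapn_le_Qn Q hQ n hy)

theorem surj (hm : (maximalIdeal A).FG) (n : ℕ) (hn : 1 ≤ n) (l : L) :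
    ∃ b : B, l - algebraMap (B ⊗[A] Ah) L (b ⊗ₜ[A] (1 : Ah)) ∈ maximalIdeal L ^ n := by
  obtain ⟨⟨c, s⟩, hs⟩ := IsLocalization.surj Q.primeCompl l
  simp only at hs
  obtain ⟨b1, hb1⟩ := decC (B := B) hm n c
  obtain ⟨b2, hb2⟩ := decC (B := B) hm n (s : B ⊗[A] Ah)
  have hb2u : IsUnit b2 := by
    by_contra hnu
    have h1 : b2 ∈ maximalIdeal B := (IsLocalRing.mem_maximalIdeal b2).mpr hnu
    have h2 : b2 ⊗ₜ[A] (1 : Ah) ∈ Q := (tmul_mem_iff Q hQ b2).mpr h1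
    have h3 : (s : B ⊗[A] Ah) ∈ Q := by
      have := add_mem (mapn_le_Q Q hQ n hn hb2) h2
      rwa [sub_add_cancel] at this
    exact s.2 h3
  obtain ⟨u, hu⟩ := hb2u.exists_right_inv
  refine ⟨b1 * u, ?_⟩
  have hsu : IsUnit (algebraMap (B ⊗[A] Ah) L (s : B ⊗[A] Ah)) :=
    IsLocalization.map_units L s
  have key : (c : B ⊗[A] Ah) - ((b1 * u) ⊗ₜ[A] (1 : Ah)) * (s : B ⊗[A] Ah) =
      (c - b1 ⊗ₜ[A] (1 : Ah)) -
        ((b1 * u) ⊗ₜ[A] (1 : Ah)) * ((s : B ⊗[A] Ah) - b2 ⊗ₜ[A] (1 : Ah)) := by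
    have e1 : ((b1 * u) ⊗ₜ[A] (1 : Ah)) * (b2 ⊗ₜ[A] (1 : Ah)) = b1 ⊗ₜ[A] (1 : Ah) := by
      rw [Algebra.TensorProduct.tmul_mul_tmul, mul_one, mul_assoc, mul_comm u b2, hu, mul_one]
    rw [mul_sub, e1]
    ring
  have h4 : (l - algebraMap (B ⊗[A] Ah) L ((b1 * u) ⊗ₜ[A] (1 : Ah))) *
      algebraMap (B ⊗[A] Ah) L (s : B ⊗[A] Ah) ∈ maximalIdeal L ^ n := by
    rw [sub_mul, hs, ← map_mul, ← map_sub, key]
    apply algebraMap_mem_pow Q hQ L n
    exact sub_mem hb1 (Ideal.mul_mem_left _ _ hb2)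
  obtain ⟨v, hv⟩ := hsu.exists_right_inv
  have h5 := Ideal.mul_mem_right v _ h4
  rwa [mul_assoc, hv, mul_one] at h5

end main

section retr

variable [IsLocalRing B] [IsLocalHom (algebraMap A B)]

theorem algebraMap_quot_eq_zero (n : ℕ) (a : A) (ha : a ∈ (maximalIdeal A) ^ n) :
    algebraMap A (B ⧸ (maximalIdeal B) ^ n) a = 0 := by
  rw [← Ideal.Quotient.mk_algebraMap, Ideal.Quotient.eq_zero_iff_mem]
  have h2 : (maximalIdeal A).map (algebraMap A B) ≤ maximalIdeal B :=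
    ((IsLocalRing.local_hom_TFAE (algebraMap A B)).out 0 2).mp (inferInstance : IsLocalHom (algebraMap A B))
  have h3 : ((maximalIdeal A) ^ n).map (algebraMap A B) ≤ (maximalIdeal B) ^ n := by
    rw [Ideal.map_pow]
    exact Ideal.pow_right_mono h2 n
  exact h3 (Ideal.mem_map_of_mem _ ha)

/-- `Â → A / m^n → B / m_B^n`. -/
noncomputable def theta (n : ℕ) : Ah →ₐ[A] B ⧸ (maximalIdeal B) ^ n :=
  (Ideal.Quotient.liftₐ ((maximalIdeal A) ^ n) (Algebra.ofId A (B ⧸ (maximalIdeal B) ^ n))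
    (fun a ha => algebraMap_quot_eq_zero n a ha)).comp (AdicCompletion.evalₐ (maximalIdeal A) n)

/-- the retraction `B ⊗_A Â → B / m_B^n`. -/
noncomputable def retr (n : ℕ) : B ⊗[A] Ah →ₐ[A] B ⧸ (maximalIdeal B) ^ n :=
  Algebra.TensorProduct.lift (Ideal.Quotient.mkₐ A ((maximalIdeal B) ^ n)) (theta n)
    (fun _ _ => Commute.all _ _)

theorem retr_tmul_one (n : ℕ) (b : B) :
    retr (A := A) n (b ⊗ₜ[A] (1 : Ah)) = Ideal.Quotient.mk ((maximalIdeal B) ^ n) b := by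
  unfold retr
  rw [Algebra.TensorProduct.lift_tmul, map_one, mul_one, Ideal.Quotient.mkₐ_eq_mk]

theorem retr_eq_zero (n : ℕ) (y : B ⊗[A] Ah)
    (hy : y ∈ ((maximalIdeal A) ^ n).map (algebraMap A (B ⊗[A] Ah))) :
    retr (A := A) n y = 0 := by
  have h1 : ((maximalIdeal A) ^ n).map (algebraMap A (B ⊗[A] Ah)) ≤
      RingHom.ker ((retr (A := A) (B := B) n : B ⊗[A] Ah →ₐ[A] B ⧸ (maximalIdeal B) ^ n) :
        B ⊗[A] Ah →+* B ⧸ (maximalIdeal B) ^ n) := by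
    rw [Ideal.map_le_iff_le_comap]
    intro a ha
    rw [Ideal.mem_comap, RingHom.mem_ker]
    show retr (A := A) (B := B) n (algebraMap A (B ⊗[A] Ah) a) = 0
    rw [AlgHom.commutes]
    exact algebraMap_quot_eq_zero n a ha
  exact h1 hy

end retr

section inj

variable [IsLocalRing B] [IsLocalHom (algebraMap A B)]
  (Q : Ideal (B ⊗[A] AdicCompletion (maximalIdeal A) A)) [Q.IsPrime]
  (hQ : Q.comap (Algebra.TensorProduct.includeLeftRingHom :
    B →+* B ⊗[A] AdicCompletion (maximalIdeal A) A) = maximalIdeal B)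
  (L : Type u) [CommRing L] [Algebra (B ⊗[A] AdicCompletion (maximalIdeal A) A) L]
  [IsLocalization.AtPrime L Q] [IsLocalRing L]

include hQ

theorem retr_eq_mk (hm : (maximalIdeal A).FG) (n : ℕ) (hn : 1 ≤ n) (c : B ⊗[A] Ah) :
    ∃ b : B, retr (A := A) n c = Ideal.Quotient.mk ((maximalIdeal B) ^ n) b ∧
      (b ∈ maximalIdeal B ↔ c ∈ Q) := by
  obtain ⟨b, hb⟩ := decC (B := B) hm n c
  refine ⟨b, ?_, ?_⟩
  · have h1 := retr_eq_zero (A := A) (B := B) n _ hb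
    rw [map_sub, sub_eq_zero, retr_tmul_one] at h1
    exact h1
  · rw [← tmul_mem_iff Q hQ b]
    have h2 := mapn_le_Q Q hQ n hn hb
    constructor
    · intro h
      have := add_mem h2 h
      rwa [sub_add_cancel] at this
    · intro h
      have := sub_mem h h2
      rwa [sub_sub_cancel] at this

theorem inj (hm : (maximalIdeal A).FG) (n : ℕ) (hn : 1 ≤ n) (b : B)
    (hb : algebraMap (B ⊗[A] Ah) L (b ⊗ₜ[A] (1 : Ah)) ∈ maximalIdeal L ^ n) :
    b ∈ (maximalIdeal B) ^ n := by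
  have hunit : ∀ y : Q.primeCompl,
      IsUnit (((retr (A := A) (B := B) n : B ⊗[A] Ah →ₐ[A] B ⧸ (maximalIdeal B) ^ n) :
        B ⊗[A] Ah →+* B ⧸ (maximalIdeal B) ^ n) y) := by
    intro y
    obtain ⟨b', h1, h2⟩ := retr_eq_mk Q hQ hm n hn (y : B ⊗[A] Ah)
    have h3 : IsUnit b' := by
      by_contra hnu
      exact y.2 (h2.mp ((IsLocalRing.mem_maximalIdeal b').mpr hnu))
    show IsUnit (retr (A := A) (B := B) n (y : B ⊗[A] Ah))
    rw [h1]
    exact h3.map _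
  let χ : L →+* B ⧸ (maximalIdeal B) ^ n := IsLocalization.lift (M := Q.primeCompl) hunit
  have hχ : ∀ c : B ⊗[A] Ah, χ (algebraMap (B ⊗[A] Ah) L c) = retr (A := A) (B := B) n c :=
    fun c => IsLocalization.lift_eq hunit c
  have hmapQ : Q.map (((retr (A := A) (B := B) n : B ⊗[A] Ah →ₐ[A] B ⧸ (maximalIdeal B) ^ n) :
        B ⊗[A] Ah →+* B ⧸ (maximalIdeal B) ^ n)) ≤
      (maximalIdeal B).map (Ideal.Quotient.mk ((maximalIdeal B) ^ n)) := by
    rw [Ideal.map_le_iff_le_comap]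
    intro c hc
    rw [Ideal.mem_comap]
    obtain ⟨b', h1, h2⟩ := retr_eq_mk Q hQ hm n hn c
    show retr (A := A) (B := B) n c ∈ _
    rw [h1]
    exact Ideal.mem_map_of_mem _ (h2.mpr hc)
  have hcomp : χ.comp (algebraMap (B ⊗[A] Ah) L) =
      ((retr (A := A) (B := B) n : B ⊗[A] Ah →ₐ[A] B ⧸ (maximalIdeal B) ^ n) :
        B ⊗[A] Ah →+* B ⧸ (maximalIdeal B) ^ n) := RingHom.ext hχ
  have hkill : (maximalIdeal L ^ n).map χ = ⊥ := by
    rw [← IsLocalization.AtPrime.map_eq_maximalIdeal Q L, ← Ideal.map_pow, Ideal.map_map, hcomp,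
      Ideal.map_pow, eq_bot_iff]
    refine (Ideal.pow_right_mono hmapQ n).trans ?_
    rw [← Ideal.map_pow, Ideal.map_quotient_self]
  have h0 : χ (algebraMap (B ⊗[A] Ah) L (b ⊗ₜ[A] (1 : Ah))) = 0 := by
    have := Ideal.mem_map_of_mem χ hb
    rw [hkill] at this
    exact this
  rw [hχ, retr_tmul_one, Ideal.Quotient.eq_zero_iff_mem] at h0
  exact h0

end inj

end Groth.Agent.Lib.Helper21.RLk
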