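import Mathlib
import Groth.Prelude.Def_Curv2
import Groth.Agent.Lib.Helper14.StalkTensor
import Groth.Agent.Lib.Helper21.RLk

/-!
# helper21: local rings of the base change to the completion, modulo powers (S7305)
-/

set_option autoImplicit false
set_option linter.style.haveILetI false
set_option linter.unusedSectionVars false
set_option linter.unusedVariables false
set_option linter.unusedSimpArgs false

namespace Groth.Agent.Lib.Helper21.RLl

open CategoryTheory CategoryTheory.Limits AlgebraicGeometry IsLocalRing TensorProduct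
open Groth.Agent.Lib.Helper14.StalkTensor Groth.Agent.Lib.Helper14.GeomRedAt

universe u

theorem equiv_mem_pow {R S : Type u} [CommRing R] [CommRing S] [IsLocalRing R] [IsLocalRing S]
    (Θ : R ≃+* S) (n : ℕ) (x : R) : Θ x ∈ maximalIdeal S ^ n ↔ x ∈ maximalIdeal R ^ n := by
  have h1 : (maximalIdeal S).comap Θ = maximalIdeal R := by
    ext y
    rw [Ideal.mem_comap, IsLocalRing.mem_maximalIdeal, IsLocalRing.mem_maximalIdeal,
      mem_nonunits_iff, mem_nonunits_iff]
    exact not_congr (isUnit_map_iff Θ y)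
  have h2 : (maximalIdeal S ^ n).comap Θ = maximalIdeal R ^ n := by
    rw [← Ideal.map_symm, Ideal.map_pow, Ideal.map_symm, h1]
  rw [← h2, Ideal.mem_comap]

theorem bijective_sCPT_congr {Z : Scheme.{u}} {R : CommRingCat.{u}} [IsLocalRing R]
    (p p' : Spec R ⟶ Z) (h : p = p')
    (hb : Function.Bijective (Scheme.stalkClosedPointTo p').hom) :
    Function.Bijective (Scheme.stalkClosedPointTo p).hom := by
  subst h
  exact hb

theorem sCPT_toStalk {R S : CommRingCat.{u}} [IsLocalRing S] (φ : R ⟶ S) (c : R) :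
    (Scheme.stalkClosedPointTo (Spec.map φ)).hom
      ((StructureSheaf.toStalk R ((Spec.map φ) (closedPoint S))).hom c) = φ.hom c := by
  have h := congrArg (fun m => m.hom ((Scheme.ΓSpecIso R).inv.hom c))
    (Scheme.germ_stalkClosedPointTo_Spec φ)
  have hinv := congrArg (fun m => m.hom c) (Iso.inv_hom_id (Scheme.ΓSpecIso R))
  simp only [CommRingCat.hom_comp, RingHom.comp_apply, CommRingCat.hom_id, RingHom.id_apply] at h hinv
  rw [hinv] at h
  exact h

variable {A : Type u} [CommRing A] [IsLocalRing A] {X : Scheme.{u}}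
  (f : X ⟶ Spec (CommRingCat.of A))

local notation "Ah" => AdicCompletion (maximalIdeal A) A
local notation "qA" => Spec.map (CommRingCat.ofHom (algebraMap A (AdicCompletion (maximalIdeal A) A)))

set_option maxHeartbeats 1600000 in
theorem exists_equiv (q : ↥(pullback f qA)) :
    letI := stalkAlgA f ((pullback.fst f qA) q)
    ∃ (Q : Ideal ((X.presheaf.stalk ((pullback.fst f qA) q)) ⊗[A] Ah)) (_ : Q.IsPrime)
      (Θ : (pullback f qA).presheaf.stalk q ≃+* Localization.AtPrime Q),
      Q.comap (Algebra.TensorProduct.includeLeftRingHom :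
        (X.presheaf.stalk ((pullback.fst f qA) q)) →+*
          (X.presheaf.stalk ((pullback.fst f qA) q)) ⊗[A] Ah) =
        maximalIdeal (X.presheaf.stalk ((pullback.fst f qA) q)) ∧
      ∀ b : X.presheaf.stalk ((pullback.fst f qA) q),
        Θ (((pullback.fst f qA).stalkMap q).hom b) =
          algebraMap _ (Localization.AtPrime Q) (b ⊗ₜ[A] (1 : Ah)) := by
  letI := stalkAlgA f ((pullback.fst f qA) q)
  have hc := stalkAlgA_compat f ((pullback.fst f qA) q)
  have he := pullbackFromSpecStalkIsoA_hom_fst f Ah ((pullback.fst f qA) q) hc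
  obtain ⟨t₀, ht1, ht2⟩ : ∃ t₀ : Spec ((pullback f qA).presheaf.stalk q) ⟶
      pullback (pullback.fst f qA) (X.fromSpecStalk ((pullback.fst f qA) q)),
      t₀ ≫ pullback.fst _ _ = (pullback f qA).fromSpecStalk q ∧
      t₀ ≫ pullback.snd _ _ = Spec.map ((pullback.fst f qA).stalkMap q) :=
    ⟨pullback.lift ((pullback f qA).fromSpecStalk q) (Spec.map ((pullback.fst f qA).stalkMap q))
      (Scheme.SpecMap_stalkMap_fromSpecStalk (pullback.fst f qA)).symm,
      pullback.lift_fst _ _ _, pullback.lift_snd _ _ _⟩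
  obtain ⟨ρ, hρ⟩ : ∃ ρ : CommRingCat.of ((X.presheaf.stalk ((pullback.fst f qA) q)) ⊗[A] Ah) ⟶
      (pullback f qA).presheaf.stalk q,
      Spec.map ρ = t₀ ≫ (pullbackFromSpecStalkIsoA f Ah ((pullback.fst f qA) q) hc).hom :=
    ⟨Spec.preimage (t₀ ≫ (pullbackFromSpecStalkIsoA f Ah ((pullback.fst f qA) q) hc).hom),
      Spec.map_preimage _⟩
  have hρL : CommRingCat.ofHom (Algebra.TensorProduct.includeLeftRingHom :
      (X.presheaf.stalk ((pullback.fst f qA) q)) →+*
        (X.presheaf.stalk ((pullback.fst f qA) q)) ⊗[A] Ah) ≫ ρ =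
      (pullback.fst f qA).stalkMap q := by
    apply Spec.map_injective
    rw [Spec.map_comp, hρ, Category.assoc, he, ht2]
  -- bijectivity of `stalkClosedPointTo t₀`
  have hb_fst : Function.Bijective ((pullback.fst (pullback.fst f qA)
      (X.fromSpecStalk ((pullback.fst f qA) q))).stalkMap
        (t₀ (closedPoint ((pullback f qA).presheaf.stalk q)))).hom :=
    stalkMap_bijective_of_flat_of_surjectiveOnStalks _ _
  have h1 := Scheme.stalkClosedPointTo_comp t₀ (pullback.fst (pullback.fst f qA)
      (X.fromSpecStalk ((pullback.fst f qA) q)))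
  have hb1 : Function.Bijective (Scheme.stalkClosedPointTo (t₀ ≫ pullback.fst (pullback.fst f qA)
      (X.fromSpecStalk ((pullback.fst f qA) q)))).hom := by
    apply bijective_sCPT_congr _ _ ht1
    rw [Scheme.stalkClosedPointTo_fromSpecStalk]
    exact ConcreteCategory.bijective_of_isIso _
  have hb0 : Function.Bijective (Scheme.stalkClosedPointTo t₀).hom := by
    rw [h1] at hb1
    have hb1' : Function.Bijective ((Scheme.stalkClosedPointTo t₀).hom ∘
        ((pullback.fst (pullback.fst f qA)
          (X.fromSpecStalk ((pullback.fst f qA) q))).stalkMap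
            (t₀ (closedPoint ((pullback f qA).presheaf.stalk q)))).hom) := hb1
    exact (Function.Bijective.of_comp_iff _ hb_fst).mp hb1'
  have h2 := Scheme.stalkClosedPointTo_comp t₀
    (pullbackFromSpecStalkIsoA f Ah ((pullback.fst f qA) q) hc).hom
  have hb2 : Function.Bijective (Scheme.stalkClosedPointTo (t₀ ≫
      (pullbackFromSpecStalkIsoA f Ah ((pullback.fst f qA) q) hc).hom)).hom := by
    rw [h2]
    show Function.Bijective ((Scheme.stalkClosedPointTo t₀).hom ∘
      ((pullbackFromSpecStalkIsoA f Ah ((pullback.fst f qA) q) hc).hom.stalkMap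
        (t₀ (closedPoint ((pullback f qA).presheaf.stalk q)))).hom)
    have hbe : Function.Bijective ((pullbackFromSpecStalkIsoA f Ah ((pullback.fst f qA) q) hc).hom.stalkMap
        (t₀ (closedPoint ((pullback f qA).presheaf.stalk q)))).hom :=
      ConcreteCategory.bijective_of_isIso ((pullbackFromSpecStalkIsoA f Ah
        ((pullback.fst f qA) q) hc).hom.stalkMap
          (t₀ (closedPoint ((pullback f qA).presheaf.stalk q))))
    exact hb0.comp hbe
  have hΦ : Function.Bijective (Scheme.stalkClosedPointTo (Spec.map ρ)).hom :=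
    bijective_sCPT_congr _ _ hρ hb2
  obtain ⟨z, hz⟩ : ∃ z : AlgebraicGeometry.PrimeSpectrum.Top
      ((X.presheaf.stalk ((pullback.fst f qA) q)) ⊗[A] Ah),
      z = (Spec.map ρ) (closedPoint ((pullback f qA).presheaf.stalk q)) := ⟨_, rfl⟩
  have hzI : z.asIdeal = (maximalIdeal ((pullback f qA).presheaf.stalk q)).comap ρ.hom := by
    rw [hz]
    rfl
  haveI hzP : z.asIdeal.IsPrime := z.isPrime
  obtain ⟨e3, he3⟩ : ∃ e3 : (structurePresheafInCommRingCat
      ((X.presheaf.stalk ((pullback.fst f qA) q)) ⊗[A] Ah)).stalk z ≃+*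
        Localization.AtPrime z.asIdeal,
      ∀ c, e3 ((StructureSheaf.toStalk ((X.presheaf.stalk ((pullback.fst f qA) q)) ⊗[A] Ah)
        z).hom c) = algebraMap _ (Localization.AtPrime z.asIdeal) c :=
    ⟨(StructureSheaf.stalkIso ((X.presheaf.stalk ((pullback.fst f qA) q)) ⊗[A] Ah)
        z).symm.toRingEquiv,
      fun c => (StructureSheaf.stalkIso ((X.presheaf.stalk ((pullback.fst f qA) q)) ⊗[A] Ah)
        z).symm.commutes c⟩
  subst hz
  obtain ⟨Φe, hΦe⟩ : ∃ Φe : (structurePresheafInCommRingCat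
      ((X.presheaf.stalk ((pullback.fst f qA) q)) ⊗[A] Ah)).stalk
        ((Spec.map ρ) (closedPoint ((pullback f qA).presheaf.stalk q))) ≃+*
        (pullback f qA).presheaf.stalk q,
      ∀ s, Φe s = (Scheme.stalkClosedPointTo (Spec.map ρ)).hom s :=
    ⟨RingEquiv.ofBijective (Scheme.stalkClosedPointTo (Spec.map ρ)).hom hΦ, fun _ => rfl⟩
  refine ⟨_, PrimeSpectrum.isPrime _, Φe.symm.trans e3, ?_, ?_⟩
  · rw [hzI, Ideal.comap_comap]
    have h5 : ρ.hom.comp (Algebra.TensorProduct.includeLeftRingHom :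
        (X.presheaf.stalk ((pullback.fst f qA) q)) →+*
          (X.presheaf.stalk ((pullback.fst f qA) q)) ⊗[A] Ah) =
        ((pullback.fst f qA).stalkMap q).hom := congrArg CommRingCat.Hom.hom hρL
    rw [h5]
    exact ((IsLocalRing.local_hom_TFAE ((pullback.fst f qA).stalkMap q).hom).out 0 4).mp
      (inferInstance : IsLocalHom ((pullback.fst f qA).stalkMap q).hom)
  · intro b
    have h6 : ((pullback.fst f qA).stalkMap q).hom b = ρ.hom (b ⊗ₜ[A] (1 : Ah)) := by
      rw [← hρL]
      rfl
    have h7 : Φe.symm (ρ.hom (b ⊗ₜ[A] (1 : Ah))) =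
        (StructureSheaf.toStalk ((X.presheaf.stalk ((pullback.fst f qA) q)) ⊗[A] Ah)
          ((Spec.map ρ) (closedPoint ((pullback f qA).presheaf.stalk q)))).hom
            (b ⊗ₜ[A] (1 : Ah)) := by
      apply Φe.injective
      rw [RingEquiv.apply_symm_apply, hΦe]
      exact (sCPT_toStalk ρ _).symm
    show e3 (Φe.symm (((pullback.fst f qA).stalkMap q).hom b)) = _
    rw [h6, h7]
    exact he3 _

set_option maxHeartbeats 1600000 in
theorem main (hm : (maximalIdeal A).FG) (q : ↥(pullback f qA))
    (hq : f ((pullback.fst f qA) q) = closedPoint A) (n : ℕ) (hn : 1 ≤ n)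
    (h : maximalIdeal (X.presheaf.stalk ((pullback.fst f qA) q)) ^ n ≤
      (maximalIdeal ((pullback f qA).presheaf.stalk q) ^ n).comap
        ((pullback.fst f qA).stalkMap q).hom) :
    Function.Bijective (Ideal.quotientMap (maximalIdeal ((pullback f qA).presheaf.stalk q) ^ n)
      ((pullback.fst f qA).stalkMap q).hom h) := by
  letI := stalkAlgA f ((pullback.fst f qA) q)
  have hc := stalkAlgA_compat f ((pullback.fst f qA) q)
  haveI : IsLocalHom (algebraMap A (X.presheaf.stalk ((pullback.fst f qA) q))) := by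
    rw [IsLocalRing.isLocalHom_iff_comap_closedPoint]
    have h3 : (X.fromSpecStalk ((pullback.fst f qA) q) ≫ f)
        (IsLocalRing.closedPoint (X.presheaf.stalk ((pullback.fst f qA) q))) =
        f ((pullback.fst f qA) q) :=
      (Scheme.Hom.comp_apply _ _ _).trans (congrArg f Scheme.fromSpecStalk_closedPoint)
    rw [hc, hq] at h3
    exact h3
  obtain ⟨Q, hQp, Θ, hQ, hΘ⟩ := exists_equiv f q
  haveI := hQp
  constructor
  · rw [injective_iff_map_eq_zero]
    intro r hr
    obtain ⟨r, rfl⟩ := Ideal.Quotient.mk_surjective r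
    rw [Ideal.quotientMap_mk, Ideal.Quotient.eq_zero_iff_mem] at hr
    rw [Ideal.Quotient.eq_zero_iff_mem]
    have h1 := (equiv_mem_pow (S := Localization.AtPrime Q) Θ n _).mpr hr
    rw [hΘ] at h1
    exact Groth.Agent.Lib.Helper21.RLk.inj Q hQ (Localization.AtPrime Q) hm n hn r h1
  · intro d
    obtain ⟨d, rfl⟩ := Ideal.Quotient.mk_surjective d
    obtain ⟨b, hb⟩ := Groth.Agent.Lib.Helper21.RLk.surj Q hQ (Localization.AtPrime Q) hm n hn (Θ d)
    refine ⟨Ideal.Quotient.mk _ b, ?_⟩
    rw [Ideal.quotientMap_mk, Ideal.Quotient.eq]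
    have hb' : Θ (d - ((pullback.fst f qA).stalkMap q).hom b) ∈
        maximalIdeal (Localization.AtPrime Q) ^ n := by
      have e1 : Θ (d - ((pullback.fst f qA).stalkMap q).hom b) =
          Θ d - algebraMap _ (Localization.AtPrime Q) (b ⊗ₜ[A] (1 : Ah)) := by
        rw [← hΘ b]
        exact map_sub Θ d _
      rw [e1]
      exact hb
    have h2 := (equiv_mem_pow (S := Localization.AtPrime Q) Θ n _).mp hb'
    have h3 := neg_mem h2
    rw [neg_sub] at h3
    exact h3

end Groth.Agent.Lib.Helper21.RLl
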