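import Mathlib
import Groth.Prelude
import Groth.Agent.Lib.Helper17.BlowUpGlue
import Groth.Agent.Lib.Helper14.ComplQuot

set_option autoImplicit false
set_option linter.style.haveILetI false
set_option linter.unusedSectionVars false
set_option linter.unusedVariables false
set_option linter.unusedSimpArgs false

universe u

open AlgebraicGeometry CategoryTheory CategoryTheory.Limits IsLocalRing

namespace Groth.Agent.Lib.Helper21.RLm

open Groth.Agent.Lib.Helper17.ProjRees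

section Ring

variable (A : Type u) [CommRing A] [IsLocalRing A] [IsNoetherianRing A]

/-- an ideal of the completion whose only prime divisor is the maximal ideal is extended from `A`
and its contraction contains a power of the maximal ideal. -/
theorem ring_key (𝔍 : Ideal (AdicCompletion (maximalIdeal A) A))
    (h : ∀ P : Ideal (AdicCompletion (maximalIdeal A) A), P.IsPrime → 𝔍 ≤ P →
      P = maximalIdeal (AdicCompletion (maximalIdeal A) A)) :
    (𝔍.comap (algebraMap A (AdicCompletion (maximalIdeal A) A))).map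
        (algebraMap A (AdicCompletion (maximalIdeal A) A)) = 𝔍 ∧
      ∃ N : ℕ, (maximalIdeal A) ^ N ≤
        𝔍.comap (algebraMap A (AdicCompletion (maximalIdeal A) A)) := by
  obtain ⟨ι, hι⟩ : ∃ ι : A →+* AdicCompletion (maximalIdeal A) A, ι = algebraMap A _ := ⟨_, rfl⟩
  rw [← hι]
  have hfg : (maximalIdeal A).FG := (maximalIdeal A).fg_of_isNoetherianRing
  have hrad : (maximalIdeal A).map ι ≤ 𝔍.radical := by
    rw [Ideal.radical_eq_sInf]
    refine le_sInf ?_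
    rintro P ⟨hP1, hP2⟩
    rw [h P hP2 hP1, AdicCompletion.maximalIdeal_eq_map, hι]
  obtain ⟨N, hN⟩ := Ideal.exists_pow_le_of_le_radical_of_fg hrad (hfg.map ι)
  have hN' : ((maximalIdeal A) ^ N).map ι ≤ 𝔍 := by rw [Ideal.map_pow]; exact hN
  have hmN : (maximalIdeal A) ^ N ≤ 𝔍.comap ι := Ideal.map_le_iff_le_comap.mp hN'
  refine ⟨le_antisymm Ideal.map_comap_le ?_, N, hmN⟩
  intro x hx
  obtain ⟨a, ha⟩ := Ideal.Quotient.mk_surjective (AdicCompletion.evalₐ (maximalIdeal A) N x)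
  have h0 : AdicCompletion.evalₐ (maximalIdeal A) N (x - ι a) = 0 := by
    rw [map_sub, hι, AlgHom.commutes, ← ha]
    exact sub_self _
  have h1 : x - ι a ∈ ((maximalIdeal A) ^ N).map ι := by
    rw [hι]
    exact Groth.Agent.Lib.Helper14.ComplQuot.mem_map_of_evalₐ_eq_zero (maximalIdeal A) hfg N _
      (by rw [← hι]; exact h0)
  have h2 : x - ι a ∈ 𝔍 := hN' h1
  have h3 : ι a ∈ 𝔍 := by
    have h4 := 𝔍.sub_mem hx h2
    rwa [sub_sub_cancel] at h4
  have h4 : a ∈ 𝔍.comap ι := h3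
  have h5 : x = ι a + (x - ι a) := by ring
  rw [h5]
  exact Ideal.add_mem _ (Ideal.mem_map_of_mem ι h4) (Ideal.map_mono hmN h1)

end Ring

section Sch

/-- uniqueness of blow-ups. -/
theorem iso_of_isBlowUp {S Y₁ Y₂ : Scheme.{u}} (𝓘 : S.IdealSheafData) (c₁ : Y₁ ⟶ S)
    (c₂ : Y₂ ⟶ S) (h₁ : BlowUp.IsBlowUp c₁ 𝓘) (h₂ : BlowUp.IsBlowUp c₂ 𝓘) :
    ∃ e : Y₁ ≅ Y₂, e.hom ≫ c₂ = c₁ := by
  obtain ⟨k, hk, -⟩ := h₂.2 Y₁ c₁ h₁.1
  obtain ⟨l, hl, -⟩ := h₁.2 Y₂ c₂ h₂.1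
  have hk' : k ≫ c₂ = c₁ := hk
  have hl' : l ≫ c₁ = c₂ := hl
  refine ⟨⟨k, l, ?_, ?_⟩, hk'⟩
  · refine Groth.Agent.Lib.Helper17.BlowUpGlue.lift_unique h₁ (k ≫ l) (𝟙 _) ?_ ?_
    · rw [Category.assoc, hl', hk', Category.id_comp]
    · rw [Category.assoc, hl', hk']; exact h₁.1
  · refine Groth.Agent.Lib.Helper17.BlowUpGlue.lift_unique h₂ (l ≫ k) (𝟙 _) ?_ ?_
    · rw [Category.assoc, hk', hl', Category.id_comp]
    · rw [Category.assoc, hk', hl']; exact h₂.1

/-- support of an ideal sheaf on an affine spectrum, in terms of primes. -/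
theorem mem_support_Spec_iff (R : CommRingCat.{u}) (K : (Spec R).IdealSheafData) (x : Spec R) :
    x ∈ K.support ↔
      ∀ r : R, (Scheme.ΓSpecIso R).inv.hom r ∈ K.ideal ⟨⊤, isAffineOpen_top _⟩ →
        r ∈ PrimeSpectrum.asIdeal x := by
  rw [Scheme.IdealSheafData.mem_support_iff_of_mem (x := x) (U := ⟨⊤, isAffineOpen_top _⟩)
    trivial, Spec_zeroLocus]
  exact Iff.rfl

theorem main (A : Type u) [CommRing A] [IsLocalRing A] [IsNoetherianRing A]
    (Y : Scheme.{u}) (c : Y ⟶ Spec (CommRingCat.of (Curv2.cpl A)))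
    (J : (Spec (CommRingCat.of (Curv2.cpl A))).IdealSheafData)
    (hJ : BlowUp.IsAdmissibleFor (FEt.puncturedSpec (Curv2.cpl A)) J)
    (hc : BlowUp.IsBlowUp c J) :
    ∃ (I : (Spec (CommRingCat.of A)).IdealSheafData) (X : Scheme.{u})
      (b : X ⟶ Spec (CommRingCat.of A)),
      BlowUp.IsAdmissibleFor (FEt.puncturedSpec A) I ∧ BlowUp.IsBlowUp b I ∧
      ∃ e : Y ≅ Curv2.bcCpl A b, e.hom ≫ Curv2.bcCplSnd A b = c := by
  obtain ⟨𝔍₀, h𝔍₀⟩ : ∃ 𝔍₀ : Ideal Γ(Spec (CommRingCat.of (Curv2.cpl A)), ⊤),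
    𝔍₀ = J.ideal ⟨⊤, isAffineOpen_top _⟩ := ⟨_, rfl⟩
  obtain ⟨𝔍, h𝔍⟩ : ∃ 𝔍 : Ideal (Curv2.cpl A),
    𝔍 = 𝔍₀.comap (Scheme.ΓSpecIso (CommRingCat.of (Curv2.cpl A))).inv.hom := ⟨_, rfl⟩
  have hsurj : Function.Surjective (Scheme.ΓSpecIso (CommRingCat.of (Curv2.cpl A))).inv.hom :=
    ((ConcreteCategory.isIso_iff_bijective
      (Scheme.ΓSpecIso (CommRingCat.of (Curv2.cpl A))).inv).1 inferInstance).2
  have h𝔍map : 𝔍.map (Scheme.ΓSpecIso (CommRingCat.of (Curv2.cpl A))).inv.hom = 𝔍₀ := by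
    rw [h𝔍, Ideal.map_comap_of_surjective _ hsurj]
  -- primes containing 𝔍
  have hprime : ∀ P : Ideal (Curv2.cpl A), P.IsPrime → 𝔍 ≤ P →
      P = maximalIdeal (Curv2.cpl A) := by
    intro P hP hle
    obtain ⟨x, hx⟩ : ∃ x : Spec (CommRingCat.of (Curv2.cpl A)), PrimeSpectrum.asIdeal x = P :=
      ⟨(⟨P, hP⟩ : PrimeSpectrum (Curv2.cpl A)), rfl⟩
    have hxs : x ∈ (J.support : Set (Spec (CommRingCat.of (Curv2.cpl A)))) := by
      rw [SetLike.mem_coe, mem_support_Spec_iff]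
      intro r hr
      rw [hx]
      apply hle
      rw [h𝔍, h𝔍₀]
      exact hr
    have hx2 := Set.disjoint_left.mp hJ.2 hxs
    have hx3 : x = IsLocalRing.closedPoint (Curv2.cpl A) := by
      by_contra hne
      exact hx2 hne
    rw [← hx, hx3]
    rfl
  obtain ⟨hmapcomap, N, hN⟩ := ring_key A 𝔍 hprime
  obtain ⟨𝔦, h𝔦⟩ : ∃ 𝔦 : Ideal A, 𝔦 = 𝔍.comap (algebraMap A (Curv2.cpl A)) := ⟨_, rfl⟩
  rw [← h𝔦] at hmapcomap hN
  obtain ⟨X, b, hb⟩ := Groth.Agent.Lib.Helper17.BlowUpGlue.exists_isBlowUp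
    (Spec (CommRingCat.of A)) (idl A 𝔦)
  refine ⟨idl A 𝔦, X, b, ⟨?_, ?_⟩, hb, ?_⟩
  · -- finite type
    intro U
    rw [Scheme.IdealSheafData.ofIdealTop_ideal]
    exact ((𝔦.fg_of_isNoetherianRing).map _).map _
  · -- support
    rw [Set.disjoint_left]
    intro x hx hxU
    rw [SetLike.mem_coe, mem_support_Spec_iff] at hx
    have h𝔦x : 𝔦 ≤ PrimeSpectrum.asIdeal x := by
      intro r hr
      apply hx
      rw [ofIdealTop_ideal_top]
      exact Ideal.mem_map_of_mem _ hr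
    haveI hxp : (PrimeSpectrum.asIdeal x).IsPrime := PrimeSpectrum.isPrime x
    have hmx : maximalIdeal A ≤ PrimeSpectrum.asIdeal x :=
      Ideal.IsPrime.le_of_pow_le (hN.trans h𝔦x)
    have heq : maximalIdeal A = PrimeSpectrum.asIdeal x :=
      (IsLocalRing.maximalIdeal.isMaximal A).eq_of_le hxp.ne_top hmx
    have hxc : x = IsLocalRing.closedPoint A := PrimeSpectrum.ext heq.symm
    exact hxU hxc
  · haveI : Flat (Spec.map (CommRingCat.ofHom (algebraMap A (Curv2.cpl A)))) := by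
      rw [Flat.SpecMap_iff]
      exact RingHom.flat_algebraMap_iff.mpr inferInstance
    have hbc := Groth.Agent.Lib.Helper17.BlowUpUniv.isBlowUp_flat_baseChange
      (Spec.map (CommRingCat.ofHom (algebraMap A (Curv2.cpl A)))) (idl A 𝔦) b hb
    have hIJ : (idl A 𝔦).comap (Spec.map (CommRingCat.ofHom (algebraMap A (Curv2.cpl A)))) = J := by
      apply Scheme.IdealSheafData.ext_of_isAffine
      rw [ideal_comap_top, ← h𝔍₀, ← h𝔍map, ← hmapcomap, Ideal.map_map]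
      congr 1
      ext r
      exact rho_SpecMap A _ r
    rw [hIJ] at hbc
    obtain ⟨e, he⟩ := iso_of_isBlowUp J c _ hc hbc
    refine ⟨e ≪≫ pullbackSymmetry _ _, ?_⟩
    rw [Iso.trans_hom, Category.assoc, pullbackSymmetry_hom_comp_snd]
    exact he

end Sch

end Groth.Agent.Lib.Helper21.RLm
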