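import Mathlib
import Groth.Prelude
import Groth.Agent.Lib.Helper17.BlowUpUniv
import Groth.Agent.Lib.Helper28.IdealComap
import Groth.Agent.Lib.Helper14.ComplQuot

set_option autoImplicit false
set_option linter.style.haveILetI false
set_option linter.unusedSectionVars false
set_option linter.unusedVariables false
set_option linter.unusedSimpArgs false

universe u

open AlgebraicGeometry CategoryTheory CategoryTheory.Limits IsLocalRing

namespace Groth.Agent.Lib.Helper21.RLn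

section Ring

/-- if `Bh` is generated by the images of `B` and `R₁`, `R₀ → R₁/τ` is onto and `τ ∈ 𝔍`,
then the ideal `𝔍` of `Bh` is extended from `B`. -/
theorem ring_descend {R₀ R₁ B Bh : Type*} [CommRing R₀] [CommRing R₁] [CommRing B] [CommRing Bh]
    (α : R₀ →+* B) (β : R₀ →+* R₁) (φ : B →+* Bh) (ψ : R₁ →+* Bh)
    (hcomm : ∀ r, φ (α r) = ψ (β r))
    (hgen : Subring.closure (Set.range φ ∪ Set.range ψ) = ⊤) (τ : R₀)
    (hτ : ∀ r₁ : R₁, ∃ (r₀ : R₀) (s : R₁), r₁ = β r₀ + β τ * s) (𝔍 : Ideal Bh)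
    (hmem : φ (α τ) ∈ 𝔍) : (𝔍.comap φ).map φ = 𝔍 := by
  refine le_antisymm Ideal.map_comap_le ?_
  have hP : ∀ x : Bh, ∃ b : B, x - φ b ∈ Ideal.span {φ (α τ)} := by
    intro x
    have hx : x ∈ Subring.closure (Set.range φ ∪ Set.range ψ) := by rw [hgen]; trivial
    induction hx using Subring.closure_induction with
    | mem y hy =>
      rcases hy with ⟨b, rfl⟩ | ⟨r₁, rfl⟩
      · exact ⟨b, by rw [sub_self]; exact Ideal.zero_mem _⟩
      · obtain ⟨r₀, s, hs⟩ := hτ r₁
        refine ⟨α r₀, ?_⟩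
        rw [Ideal.mem_span_singleton']
        refine ⟨ψ s, ?_⟩
        rw [hs, map_add, map_mul, ← hcomm, ← hcomm]
        ring
    | zero => exact ⟨0, by rw [map_zero, sub_self]; exact Ideal.zero_mem _⟩
    | one => exact ⟨1, by rw [map_one, sub_self]; exact Ideal.zero_mem _⟩
    | add y z _ _ hy hz =>
      obtain ⟨b, hb⟩ := hy
      obtain ⟨b', hb'⟩ := hz
      refine ⟨b + b', ?_⟩
      have : y + z - φ (b + b') = (y - φ b) + (z - φ b') := by rw [map_add]; ring
      rw [this]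
      exact Ideal.add_mem _ hb hb'
    | neg y _ hy =>
      obtain ⟨b, hb⟩ := hy
      refine ⟨-b, ?_⟩
      have : -y - φ (-b) = -(y - φ b) := by rw [map_neg]; ring
      rw [this]
      exact Ideal.neg_mem_iff _ |>.mpr hb
    | mul y z _ _ hy hz =>
      obtain ⟨b, hb⟩ := hy
      obtain ⟨b', hb'⟩ := hz
      refine ⟨b * b', ?_⟩
      have : y * z - φ (b * b') = y * (z - φ b') + φ b' * (y - φ b) := by rw [map_mul]; ring
      rw [this]
      exact Ideal.add_mem _ (Ideal.mul_mem_left _ _ hb') (Ideal.mul_mem_left _ _ hb)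
  have hspan1 : Ideal.span {φ (α τ)} ≤ 𝔍 := by
    rw [Ideal.span_le, Set.singleton_subset_iff]; exact hmem
  have hspan2 : Ideal.span {φ (α τ)} ≤ (𝔍.comap φ).map φ := by
    rw [Ideal.span_le, Set.singleton_subset_iff]
    exact Ideal.mem_map_of_mem φ (show α τ ∈ 𝔍.comap φ from hmem)
  intro x hx
  obtain ⟨b, hb⟩ := hP x
  have h1 : φ b ∈ 𝔍 := by
    have h2 := 𝔍.sub_mem hx (hspan1 hb)
    rwa [sub_sub_cancel] at h2
  have h3 : x = φ b + (x - φ b) := by ring
  rw [h3]
  exact Ideal.add_mem _ (Ideal.mem_map_of_mem φ (show b ∈ 𝔍.comap φ from h1)) (hspan2 hb)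

/-- `R → R̂/t^N` is onto for the maximal-adic completion of a local ring with `m = (t)`. -/
theorem cpl_decomp (R : Type u) [CommRing R] [IsLocalRing R] (t : R)
    (ht : maximalIdeal R = Ideal.span {t}) (N : ℕ)
    (x : AdicCompletion (maximalIdeal R) R) :
    ∃ (a : R) (s : AdicCompletion (maximalIdeal R) R),
      x = algebraMap R (AdicCompletion (maximalIdeal R) R) a +
        algebraMap R (AdicCompletion (maximalIdeal R) R) (t ^ N) * s := by
  have hfg : (maximalIdeal R).FG := by rw [ht]; exact ⟨{t}, by simp⟩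
  obtain ⟨a, ha⟩ := Ideal.Quotient.mk_surjective (AdicCompletion.evalₐ (maximalIdeal R) N x)
  have h0 : AdicCompletion.evalₐ (maximalIdeal R) N
      (x - algebraMap R (AdicCompletion (maximalIdeal R) R) a) = 0 := by
    rw [map_sub, AlgHom.commutes, ← ha]
    exact sub_self _
  have h1 := Groth.Agent.Lib.Helper14.ComplQuot.mem_map_of_evalₐ_eq_zero (maximalIdeal R) hfg N _ h0
  have hpow : maximalIdeal R ^ N = Ideal.span {t ^ N} := by
    rw [ht, Ideal.span_singleton_pow]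
  rw [hpow, Ideal.map_span, Set.image_singleton, Ideal.mem_span_singleton'] at h1
  obtain ⟨s, hs⟩ := h1
  refine ⟨a, s, ?_⟩
  rw [mul_comm, hs]
  ring

end Ring

section Sch

/-- radical membership on an affine open from vanishing on the zero locus. -/
theorem mem_radical_of_forall_not_mem_basicOpen {X : Scheme.{u}} {W : X.Opens}
    (hW : IsAffineOpen W) (𝔍 : Ideal Γ(X, W)) (θ : Γ(X, W))
    (h : ∀ x ∈ W, x ∈ X.zeroLocus (U := W) (𝔍 : Set Γ(X, W)) → x ∉ X.basicOpen θ) :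
    θ ∈ 𝔍.radical := by
  rw [Ideal.radical_eq_sInf, Ideal.mem_sInf]
  rintro P ⟨hle, hP⟩
  by_contra hθ
  have hmem : (⟨P, hP⟩ : PrimeSpectrum Γ(X, W)) ∈ PrimeSpectrum.zeroLocus (𝔍 : Set Γ(X, W)) := hle
  have h1 : hW.fromSpec (⟨P, hP⟩ : PrimeSpectrum Γ(X, W)) ∈ X.zeroLocus (U := W) (𝔍 : Set Γ(X, W)) ∩ W := by
    rw [← hW.fromSpec_image_zeroLocus]
    exact ⟨_, hmem, rfl⟩
  have h2 := h _ h1.2 h1.1
  apply h2
  have h3 : (⟨P, hP⟩ : PrimeSpectrum Γ(X, W)) ∈ (hW.fromSpec ⁻¹ᵁ X.basicOpen θ : (Spec Γ(X, W)).Opens) := by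
    rw [hW.fromSpec_preimage_basicOpen]
    exact hθ
  exact h3

/-- mirrored flat base change of blow-ups. -/
theorem isBlowUp_snd_of_flat {X₁ X₂ X₂' : Scheme.{u}} (g : X₁ ⟶ X₂) [Flat g]
    (𝓘 : X₂.IdealSheafData) (b : X₂' ⟶ X₂) (hb : BlowUp.IsBlowUp b 𝓘) :
    BlowUp.IsBlowUp (pullback.snd b g) (𝓘.comap g) := by
  have h1 := Groth.Agent.Lib.Helper17.BlowUpUniv.isBlowUp_flat_baseChange g 𝓘 b hb
  have h2 : pullback.snd b g = (pullbackSymmetry b g).hom ≫ pullback.fst g b :=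
    (pullbackSymmetry_hom_comp_fst b g).symm
  rw [h2]
  refine ⟨?_, fun Y k hk => ?_⟩
  · rw [Scheme.IdealSheafData.comap_comp]
    exact Groth.Agent.Lib.Helper17.AmbProd.isEffCartierIdeal_comap_of_flat _ _ h1.1
  · obtain ⟨l, hl, hlu⟩ := h1.2 Y k hk
    have hl' : l ≫ pullback.fst g b = k := hl
    refine ⟨l ≫ (pullbackSymmetry b g).inv, ?_, fun m hm => ?_⟩
    · change (l ≫ (pullbackSymmetry b g).inv) ≫ (pullbackSymmetry b g).hom ≫ pullback.fst g b = k
      rw [Category.assoc, Iso.inv_hom_id_assoc, hl']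
    · have hm' : m ≫ (pullbackSymmetry b g).hom ≫ pullback.fst g b = k := hm
      have := hlu (m ≫ (pullbackSymmetry b g).hom) (by
        change (m ≫ (pullbackSymmetry b g).hom) ≫ pullback.fst g b = k
        rw [Category.assoc, hm'])
      rw [← this, Category.assoc, Iso.hom_inv_id, Category.comp_id]

end Sch

end Groth.Agent.Lib.Helper21.RLn
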