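import Mathlib
import Groth.Prelude
import Groth.Agent.Lib.Helper21.RLn

set_option autoImplicit false
set_option linter.style.haveILetI false
set_option linter.unusedSectionVars false
set_option linter.unusedVariables false
set_option linter.unusedSimpArgs false

universe u

open AlgebraicGeometry CategoryTheory CategoryTheory.Limits IsLocalRing

namespace Groth.Agent.Lib.Helper21.RLo

open Groth.Agent.Lib.Helper21.RLn

theorem appLE_top_top {X Y : Scheme.{u}} (f : X ⟶ Y) (h : (⊤ : X.Opens) ≤ f ⁻¹ᵁ ⊤) :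
    f.appLE ⊤ ⊤ h = f.appTop := by
  exact Scheme.Hom.appLE_eq_app f (U := ⊤)

section

variable (R : Type u) [CommRing R] [IsLocalRing R] (t : R) (ht : t ∈ maximalIdeal R)
  {Y T : Scheme.{u}} [IsAffine T] (q : Y ⟶ Spec (CommRingCat.of R))
  (ĝ : T ⟶ Spec (CommRingCat.of R))

instance instAffFst : IsAffineHom (pullback.fst q ĝ) :=
  MorphismProperty.IsStableUnderBaseChange.of_isPullback (P := @IsAffineHom)
    (IsPullback.of_hasPullback q ĝ).flip (inferInstance : IsAffineHom ĝ)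

include ht in
/-- the local statement: on the preimage of an affine open, the ideal is extended. -/
theorem local_eq
    (hsurj : ∀ (N : ℕ) (r₁ : Γ(T, ⊤)), ∃ (r₀ : Γ(Spec (CommRingCat.of R), ⊤)) (s : Γ(T, ⊤)),
      r₁ = ĝ.appTop.hom r₀ +
        ĝ.appTop.hom (((Scheme.ΓSpecIso (CommRingCat.of R)).inv.hom t) ^ N) * s)
    (I : (pullback q ĝ).IdealSheafData)
    (hI : (I.support : Set ↥(pullback q ĝ)) ⊆
      (pullback.fst q ĝ ≫ q).base ⁻¹' {closedPoint R})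
    (V : Y.affineOpens) :
    ((I.ideal ⟨pullback.fst q ĝ ⁻¹ᵁ V.1, V.2.preimage _⟩).comap
        ((pullback.fst q ĝ).appLE V.1 (pullback.fst q ĝ ⁻¹ᵁ V.1) le_rfl).hom).map
      ((pullback.fst q ĝ).appLE V.1 (pullback.fst q ĝ ⁻¹ᵁ V.1) le_rfl).hom =
      I.ideal ⟨pullback.fst q ĝ ⁻¹ᵁ V.1, V.2.preimage _⟩ := by
  have hW : IsAffineOpen (pullback.fst q ĝ ⁻¹ᵁ V.1) := V.2.preimage _
  have hpb : IsPullback (pullback.fst q ĝ) (pullback.snd q ĝ) q ĝ := IsPullback.of_hasPullback q ĝ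
  have hUST : (⊤ : T.Opens) ≤ ĝ ⁻¹ᵁ (⊤ : (Spec (CommRingCat.of R)).Opens) := fun _ _ => trivial
  have hUSX : V.1 ≤ q ⁻¹ᵁ (⊤ : (Spec (CommRingCat.of R)).Opens) := fun _ _ => trivial
  have hUY : pullback.fst q ĝ ⁻¹ᵁ V.1 =
      pullback.fst q ĝ ⁻¹ᵁ V.1 ⊓ pullback.snd q ĝ ⁻¹ᵁ (⊤ : T.Opens) := by
    ext x; simp
  have h2 : pullback.fst q ĝ ⁻¹ᵁ V.1 ≤ pullback.snd q ĝ ⁻¹ᵁ (⊤ : T.Opens) := fun _ _ => trivial
  have hpo : IsPushout (q.appLE ⊤ V.1 hUSX) (ĝ.appLE ⊤ ⊤ hUST)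
      ((pullback.fst q ĝ).appLE V.1 (pullback.fst q ĝ ⁻¹ᵁ V.1) le_rfl)
      ((pullback.snd q ĝ).appLE ⊤ (pullback.fst q ĝ ⁻¹ᵁ V.1) h2) :=
    (isIso_pushoutSection_iff hpb hUST hUSX hUY).mp
      (isIso_pushoutSection_of_isAffineOpen hpb hUST hUSX hUY (isAffineOpen_top _)
        (isAffineOpen_top T) V.2)
  have hgen := CommRingCat.closure_range_union_range_eq_top_of_isPushout hpo
  have hcomm : ∀ r, ((pullback.fst q ĝ).appLE V.1 (pullback.fst q ĝ ⁻¹ᵁ V.1) le_rfl).hom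
      ((q.appLE ⊤ V.1 hUSX).hom r) =
      ((pullback.snd q ĝ).appLE ⊤ (pullback.fst q ĝ ⁻¹ᵁ V.1) h2).hom
        ((ĝ.appLE ⊤ ⊤ hUST).hom r) := fun r => congr($(hpo.w) r)
  obtain ⟨τ₁, hτ₁⟩ : ∃ τ₁ : Γ(Spec (CommRingCat.of R), ⊤),
    τ₁ = (Scheme.ΓSpecIso (CommRingCat.of R)).inv.hom t := ⟨_, rfl⟩
  -- the image of `t` lies in the radical
  have hrad : ((pullback.fst q ĝ).appLE V.1 (pullback.fst q ĝ ⁻¹ᵁ V.1) le_rfl).hom
      ((q.appLE ⊤ V.1 hUSX).hom τ₁) ∈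
      (I.ideal ⟨pullback.fst q ĝ ⁻¹ᵁ V.1, hW⟩).radical := by
    apply mem_radical_of_forall_not_mem_basicOpen hW
    intro x hxW hxZ hxθ
    have hxs : x ∈ (I.support : Set ↥(pullback q ĝ)) :=
      ((I.coe_support_inter ⟨_, hW⟩).ge ⟨hxZ, hxW⟩).1
    have hc : (pullback.fst q ĝ ≫ q).base x = closedPoint R := hI hxs
    have h3 : x ∈ (pullback.fst q ĝ ⁻¹ᵁ V.1) ⊓
        pullback.fst q ĝ ⁻¹ᵁ (Y.basicOpen ((q.appLE ⊤ V.1 hUSX).hom τ₁)) := by
      rw [← Scheme.basicOpen_appLE]; exact hxθ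
    have h4 : (pullback.fst q ĝ) x ∈ Y.basicOpen ((q.appLE ⊤ V.1 hUSX).hom τ₁) := h3.2
    have h5 : (pullback.fst q ĝ) x ∈ V.1 ⊓
        q ⁻¹ᵁ ((Spec (CommRingCat.of R)).basicOpen τ₁) := by
      rw [← Scheme.basicOpen_appLE]; exact h4
    have h6 : q ((pullback.fst q ĝ) x) ∈ (Spec (CommRingCat.of R)).basicOpen τ₁ := h5.2
    have hb : (Spec (CommRingCat.of R)).basicOpen τ₁ = PrimeSpectrum.basicOpen t := by
      rw [hτ₁]; exact basicOpen_eq_of_affine (R := CommRingCat.of R) t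
    have h8 : q ((pullback.fst q ĝ) x) = closedPoint R := hc
    rw [hb, h8] at h6
    exact h6 ht
  obtain ⟨N, hN⟩ := hrad
  rw [← map_pow, ← map_pow] at hN
  refine ring_descend (q.appLE ⊤ V.1 hUSX).hom (ĝ.appLE ⊤ ⊤ hUST).hom
    ((pullback.fst q ĝ).appLE V.1 (pullback.fst q ĝ ⁻¹ᵁ V.1) le_rfl).hom
    ((pullback.snd q ĝ).appLE ⊤ (pullback.fst q ĝ ⁻¹ᵁ V.1) h2).hom hcomm hgen (τ₁ ^ N) ?_ _ hN
  intro r₁
  obtain ⟨r₀, s, hs⟩ := hsurj N r₁
  refine ⟨r₀, s, ?_⟩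
  rw [appLE_top_top, hτ₁]
  exact hs

include ht in
theorem main_gen
    (hsurj : ∀ (N : ℕ) (r₁ : Γ(T, ⊤)), ∃ (r₀ : Γ(Spec (CommRingCat.of R), ⊤)) (s : Γ(T, ⊤)),
      r₁ = ĝ.appTop.hom r₀ +
        ĝ.appTop.hom (((Scheme.ΓSpecIso (CommRingCat.of R)).inv.hom t) ^ N) * s)
    (hflat : Flat ĝ)
    (I : (pullback q ĝ).IdealSheafData)
    (hI : (I.support : Set ↥(pullback q ĝ)) ⊆
      (pullback.fst q ĝ ≫ q).base ⁻¹' {closedPoint R}) :
    ∃ I₀ : Y.IdealSheafData, (I₀.support : Set Y) ⊆ q.base ⁻¹' {closedPoint R} ∧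
      I₀.comap (pullback.fst q ĝ) = I ∧
      ∀ (X : Scheme.{u}) (g : X ⟶ Y), BlowUp.IsBlowUp g I₀ →
        BlowUp.IsBlowUp (pullback.snd g (pullback.fst q ĝ)) I := by
  have hcomap : (I.map (pullback.fst q ĝ)).comap (pullback.fst q ĝ) = I := by
    refine Scheme.IdealSheafData.ext_of_iSup_eq_top
      (fun V : Y.affineOpens => (⟨pullback.fst q ĝ ⁻¹ᵁ V.1, V.2.preimage _⟩ :
        (pullback q ĝ).affineOpens)) ?_ ?_
    · rw [eq_top_iff]
      intro x _
      have hx : (pullback.fst q ĝ) x ∈ (⊤ : Y.Opens) := trivial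
      rw [← iSup_affineOpens_eq_top Y] at hx
      obtain ⟨V, hV⟩ := TopologicalSpace.Opens.mem_iSup.mp hx
      exact TopologicalSpace.Opens.mem_iSup.mpr ⟨V, hV⟩
    · intro V
      show ((I.map (pullback.fst q ĝ)).comap (pullback.fst q ĝ)).ideal
        ⟨pullback.fst q ĝ ⁻¹ᵁ V.1, V.2.preimage _⟩ =
        I.ideal ⟨pullback.fst q ĝ ⁻¹ᵁ V.1, V.2.preimage _⟩
      rw [Groth.Agent.Lib.Helper28.ideal_comap_of_le (I.map (pullback.fst q ĝ))
        (pullback.fst q ĝ) V ⟨_, V.2.preimage _⟩ le_rfl,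
        Scheme.IdealSheafData.ideal_map_of_isAffineHom, Scheme.Hom.app_eq_appLE]
      exact local_eq R t ht q ĝ hsurj I hI V
  refine ⟨I.map (pullback.fst q ĝ), ?_, hcomap, ?_⟩
  · rw [Scheme.IdealSheafData.support_map, TopologicalSpace.Closeds.coe_closure]
    apply closure_minimal
    · rintro _ ⟨x, hx, rfl⟩
      exact hI hx
    · exact (isClosed_singleton_closedPoint (R := R)).preimage q.continuous
  · intro X g hg
    haveI : Flat (pullback.fst q ĝ) := MorphismProperty.IsStableUnderBaseChange.of_isPullback (P := @Flat)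
      (IsPullback.of_hasPullback q ĝ).flip hflat
    have h1 := isBlowUp_snd_of_flat (pullback.fst q ĝ) (I.map (pullback.fst q ĝ)) g hg
    rw [hcomap] at h1
    exact h1

end

theorem main_dvr (R : Type u) [CommRing R] [IsDomain R] [IsDiscreteValuationRing R]
    {Y : Scheme.{u}} (q : Y ⟶ Spec (CommRingCat.of R))
    (I : (pullback q (Spec.map (CommRingCat.ofHom (algebraMap R
        (AdicCompletion (IsLocalRing.maximalIdeal R) R))))).IdealSheafData)
    (hI : (I.support : Set ↥(pullback q (Spec.map (CommRingCat.ofHom (algebraMap R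
        (AdicCompletion (IsLocalRing.maximalIdeal R) R)))))) ⊆
      (pullback.fst q (Spec.map (CommRingCat.ofHom (algebraMap R
        (AdicCompletion (IsLocalRing.maximalIdeal R) R)))) ≫ q).base ⁻¹'
          {IsLocalRing.closedPoint R}) :
    ∃ I₀ : Y.IdealSheafData, (I₀.support : Set Y) ⊆ q.base ⁻¹' {IsLocalRing.closedPoint R} ∧
      I₀.comap (pullback.fst q (Spec.map (CommRingCat.ofHom (algebraMap R
        (AdicCompletion (IsLocalRing.maximalIdeal R) R))))) = I ∧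
      ∀ (X : Scheme.{u}) (g : X ⟶ Y), BlowUp.IsBlowUp g I₀ →
        BlowUp.IsBlowUp (pullback.snd g (pullback.fst q (Spec.map (CommRingCat.ofHom (algebraMap R
          (AdicCompletion (IsLocalRing.maximalIdeal R) R)))))) I := by
  obtain ⟨t, ht⟩ := IsDiscreteValuationRing.exists_irreducible R
  have htm : maximalIdeal R = Ideal.span {t} :=
    (IsDiscreteValuationRing.irreducible_iff_uniformizer t).mp ht
  have hflat : Flat (Spec.map (CommRingCat.ofHom (algebraMap R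
      (AdicCompletion (IsLocalRing.maximalIdeal R) R)))) := by
    rw [Flat.SpecMap_iff]
    exact RingHom.flat_algebraMap_iff.mpr inferInstance
  refine main_gen R t (by rw [htm]; exact Ideal.mem_span_singleton_self t) q _ ?_ hflat I hI
  intro N r₁
  obtain ⟨a, s, hs⟩ := cpl_decomp R t htm N
    ((Scheme.ΓSpecIso (CommRingCat.of (AdicCompletion (IsLocalRing.maximalIdeal R) R))).hom.hom r₁)
  refine ⟨(Scheme.ΓSpecIso (CommRingCat.of R)).inv.hom a,
    (Scheme.ΓSpecIso (CommRingCat.of (AdicCompletion (IsLocalRing.maximalIdeal R) R))).inv.hom s, ?_⟩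
  have hnat : ∀ r : R, (Spec.map (CommRingCat.ofHom (algebraMap R
      (AdicCompletion (IsLocalRing.maximalIdeal R) R)))).appTop.hom
      ((Scheme.ΓSpecIso (CommRingCat.of R)).inv.hom r) =
      (Scheme.ΓSpecIso (CommRingCat.of (AdicCompletion (IsLocalRing.maximalIdeal R) R))).inv.hom
        (algebraMap R (AdicCompletion (IsLocalRing.maximalIdeal R) R) r) := fun r => by
    have hn := Scheme.ΓSpecIso_inv_naturality (CommRingCat.ofHom (algebraMap R
      (AdicCompletion (IsLocalRing.maximalIdeal R) R)))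
    exact (congrArg (fun k => k.hom r) hn).symm
  have h0 : r₁ = (Scheme.ΓSpecIso (CommRingCat.of
      (AdicCompletion (IsLocalRing.maximalIdeal R) R))).inv.hom
      ((Scheme.ΓSpecIso (CommRingCat.of
        (AdicCompletion (IsLocalRing.maximalIdeal R) R))).hom.hom r₁) := by
    simp
  rw [h0, hs, map_add, map_mul, ← hnat, ← hnat, map_pow]

end Groth.Agent.Lib.Helper21.RLo
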