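import Mathlib
import Groth.Prelude
import Groth.Agent.S7931

set_option autoImplicit false
set_option linter.style.haveILetI false
set_option linter.unusedSectionVars false
set_option linter.unusedVariables false
set_option linter.unusedSimpArgs false

universe u

open AlgebraicGeometry CategoryTheory CategoryTheory.Limits IsLocalRing

namespace Groth.Agent.Lib.Helper21.RLp

/-- A normal Noetherian local domain of dimension one is a discrete valuation ring
(copied from Helper26.RefShI to avoid the heavy import). -/
theorem isDVR_of_normal_of_dim_one (B : Type u) [CommRing B] [IsDomain B]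
    [IsNoetherianRing B] [IsLocalRing B] [IsIntegrallyClosed B] (h : ringKrullDim B = 1) :
    IsDiscreteValuationRing B := by
  have hht : ((IsLocalRing.maximalIdeal B).height : WithBot ℕ∞) = 1 := by
    rw [IsLocalRing.maximalIdeal_height_eq_ringKrullDim, h]
  have h3 : (IsLocalRing.maximalIdeal B).height = 1 := by exact_mod_cast hht
  have hprimes : ∀ P : Ideal B, P ≠ ⊥ → P.IsPrime → P = IsLocalRing.maximalIdeal B := by
    intro P hP0 hPp
    by_contra hne
    have hlt : P < IsLocalRing.maximalIdeal B :=
      lt_of_le_of_ne (IsLocalRing.le_maximalIdeal hPp.ne_top) hne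
    have hbot : (⊥ : Ideal B) < P := bot_lt_iff_ne_bot.mpr hP0
    haveI : (⊥ : Ideal B).IsPrime := Ideal.isPrime_bot
    have h1 : (⊥ : Ideal B).height < P.height := Ideal.height_strict_mono_of_isPrime hbot
    have h2 : P.height < (IsLocalRing.maximalIdeal B).height :=
      Ideal.height_strict_mono_of_isPrime hlt
    rw [h3] at h2
    have h5 : P.height = 0 := Order.lt_one_iff.mp h2
    rw [h5] at h1
    exact not_lt_zero h1
  have h30 : (IsIntegrallyClosed B ∧
      ∀ P : Ideal B, P ≠ ⊥ → P.IsPrime → P = IsLocalRing.maximalIdeal B) →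
      IsPrincipalIdealRing B :=
    ((tfae_of_isNoetherianRing_of_isLocalRing_of_isDomain B).out 3 0).mp
  haveI : IsPrincipalIdealRing B := h30 ⟨inferInstance, hprimes⟩
  have hnf : IsLocalRing.maximalIdeal B ≠ ⊥ := by
    intro hbot
    rw [hbot, Ideal.height_bot] at h3
    exact zero_ne_one h3
  exact { (inferInstance : IsPrincipalIdealRing B) with not_a_field' := hnf }

section

variable {X : Scheme.{u}} [IsIntegral X]

theorem exists_hom_of_range_subset (x y : X)
    (h : Set.range (algebraMap (X.presheaf.stalk y) X.functionField) ⊆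
      Set.range (algebraMap (X.presheaf.stalk x) X.functionField)) :
    ∃ θ : X.presheaf.stalk y →+* X.presheaf.stalk x, ∀ b,
      algebraMap (X.presheaf.stalk x) X.functionField (θ b) =
        algebraMap (X.presheaf.stalk y) X.functionField b := by
  have hinj : Function.Injective (algebraMap (X.presheaf.stalk x) X.functionField) :=
    IsFractionRing.injective _ _
  obtain ⟨ex, hex⟩ : ∃ ex : X.presheaf.stalk x ≃+*
      (algebraMap (X.presheaf.stalk x) X.functionField).range,
      ∀ a, ((ex a : (algebraMap (X.presheaf.stalk x) X.functionField).range) : X.functionField) =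
        algebraMap (X.presheaf.stalk x) X.functionField a :=
    ⟨RingEquiv.ofBijective (algebraMap (X.presheaf.stalk x) X.functionField).rangeRestrict
      ⟨fun a b hab => hinj (congrArg Subtype.val hab), RingHom.rangeRestrict_surjective _⟩,
      fun a => rfl⟩
  have hle : (algebraMap (X.presheaf.stalk y) X.functionField).range ≤
      (algebraMap (X.presheaf.stalk x) X.functionField).range := fun z hz => h hz
  refine ⟨ex.symm.toRingHom.comp ((Subring.inclusion hle).comp
    (algebraMap (X.presheaf.stalk y) X.functionField).rangeRestrict), fun b => ?_⟩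
  have h1 : ∀ z : (algebraMap (X.presheaf.stalk x) X.functionField).range,
      algebraMap (X.presheaf.stalk x) X.functionField (ex.symm z) = (z : X.functionField) := by
    intro z
    rw [← hex, ex.apply_symm_apply]
  exact h1 _

theorem eq_of_hom [X.IsSeparated] (x y : X) [ValuationRing (X.presheaf.stalk x)]
    (θ : X.presheaf.stalk y →+* X.presheaf.stalk x) [IsLocalHom θ]
    (hθ : ∀ b, algebraMap (X.presheaf.stalk x) X.functionField (θ b) =
      algebraMap (X.presheaf.stalk y) X.functionField b) : x = y := by
  have hgx : genericPoint X ⤳ x := (genericPoint_spec X).specializes trivial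
  have hgy : genericPoint X ⤳ y := (genericPoint_spec X).specializes trivial
  have hax : CommRingCat.ofHom (algebraMap (X.presheaf.stalk x) X.functionField) =
      X.presheaf.stalkSpecializes hgx := rfl
  have hay : CommRingCat.ofHom (algebraMap (X.presheaf.stalk y) X.functionField) =
      X.presheaf.stalkSpecializes hgy := rfl
  let S : ValuativeCommSq (terminal.from X) :=
    { R := X.presheaf.stalk x
      K := X.functionField
      i₁ := X.fromSpecStalk (genericPoint X)
      i₂ := terminal.from _
      commSq := ⟨terminal.hom_ext _ _⟩ }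
  have huniq : Subsingleton S.commSq.LiftStruct :=
    IsSeparated.valuativeCriterion (f := terminal.from X) S
  let l₁ : S.commSq.LiftStruct :=
    { l := X.fromSpecStalk x
      fac_left := by
        show Spec.map (CommRingCat.ofHom (algebraMap (X.presheaf.stalk x) X.functionField)) ≫
          X.fromSpecStalk x = X.fromSpecStalk (genericPoint X)
        rw [hax]; exact Scheme.SpecMap_stalkSpecializes_fromSpecStalk hgx
      fac_right := terminal.hom_ext _ _ }
  let l₂ : S.commSq.LiftStruct :=
    { l := Spec.map (CommRingCat.ofHom θ) ≫ X.fromSpecStalk y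
      fac_left := by
        show Spec.map (CommRingCat.ofHom (algebraMap (X.presheaf.stalk x) X.functionField)) ≫
          Spec.map (CommRingCat.ofHom θ) ≫ X.fromSpecStalk y = X.fromSpecStalk (genericPoint X)
        rw [← Category.assoc, ← Spec.map_comp]
        have h3 : CommRingCat.ofHom θ ≫
            CommRingCat.ofHom (algebraMap (X.presheaf.stalk x) X.functionField) =
            X.presheaf.stalkSpecializes hgy := by
          rw [← hay]; ext b; exact hθ b
        rw [h3]; exact Scheme.SpecMap_stalkSpecializes_fromSpecStalk hgy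
      fac_right := terminal.hom_ext _ _ }
  have h12 : X.fromSpecStalk x = Spec.map (CommRingCat.ofHom θ) ≫ X.fromSpecStalk y :=
    congrArg CommSq.LiftStruct.l (Subsingleton.elim l₁ l₂)
  have h1 : (X.fromSpecStalk x) (closedPoint (X.presheaf.stalk x)) = x :=
    Scheme.fromSpecStalk_closedPoint
  haveI : IsLocalHom (CommRingCat.ofHom θ).hom := ‹IsLocalHom θ›
  have h4 : (X.fromSpecStalk y) ((Spec.map (CommRingCat.ofHom θ))
      (closedPoint (X.presheaf.stalk x))) = x := by
    rw [h12] at h1; exact h1
  have h5 : (Spec.map (CommRingCat.ofHom θ)) (closedPoint (X.presheaf.stalk x)) =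
      closedPoint (X.presheaf.stalk y) := Spec_closedPoint
  rw [h5, Scheme.fromSpecStalk_closedPoint] at h4
  exact h4.symm

theorem eq_of_range_eq [X.IsSeparated] (x y : X) [ValuationRing (X.presheaf.stalk x)]
    (h : Set.range (algebraMap (X.presheaf.stalk y) X.functionField) =
      Set.range (algebraMap (X.presheaf.stalk x) X.functionField)) : x = y := by
  obtain ⟨θ, hθ⟩ := exists_hom_of_range_subset x y h.le
  obtain ⟨θ', hθ'⟩ := exists_hom_of_range_subset y x h.ge
  have hinj : Function.Injective (algebraMap (X.presheaf.stalk y) X.functionField) :=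
    IsFractionRing.injective _ _
  haveI : IsLocalHom θ := ⟨fun b hb => by
    have h1 : θ' (θ b) = b := hinj (by rw [hθ', hθ])
    rw [← h1]
    exact hb.map θ'⟩
  exact eq_of_hom x y θ hθ

/-- transfer between the local ring at `x` and the valuation subring it defines. -/
theorem transfer (x : X) [IsDiscreteValuationRing (X.presheaf.stalk x)]
    (O : ValuationSubring X.functionField)
    (hO : (O : Set X.functionField) =
      Set.range (algebraMap (X.presheaf.stalk x) X.functionField)) :
    IsDiscreteValuationRing O ∧ ∀ (ϖ' : O) (_ : Irreducible ϖ') (w' : Oˣ),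
      ∃ (ϖ : X.presheaf.stalk x) (_ : Irreducible ϖ) (w : (X.presheaf.stalk x)ˣ),
        algebraMap (X.presheaf.stalk x) X.functionField (w : X.presheaf.stalk x) =
          ((w' : O) : X.functionField) ∧
        algebraMap (X.presheaf.stalk x) X.functionField ϖ = (ϖ' : X.functionField) := by
  have hinj : Function.Injective (algebraMap (X.presheaf.stalk x) X.functionField) :=
    IsFractionRing.injective _ _
  obtain ⟨e, he⟩ : ∃ e : X.presheaf.stalk x ≃+* O,
      ∀ a, ((e a : O) : X.functionField) = algebraMap (X.presheaf.stalk x) X.functionField a := by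
    have hmem : ∀ a, algebraMap (X.presheaf.stalk x) X.functionField a ∈ O := fun a => by
      rw [← SetLike.mem_coe, hO]; exact ⟨a, rfl⟩
    refine ⟨RingEquiv.ofBijective
      (RingHom.codRestrict (algebraMap (X.presheaf.stalk x) X.functionField) O hmem)
      ⟨fun a b hab => hinj (congrArg Subtype.val hab), fun z => ?_⟩, fun a => rfl⟩
    have hz : (z : X.functionField) ∈ (O : Set X.functionField) := z.2
    rw [hO] at hz
    obtain ⟨a, ha⟩ := hz
    exact ⟨a, Subtype.ext ha⟩
  have hsymm : ∀ z : O, algebraMap (X.presheaf.stalk x) X.functionField (e.symm z) =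
      (z : X.functionField) := fun z => by rw [← he, e.apply_symm_apply]
  refine ⟨IsDiscreteValuationRing.RingEquivClass.isDiscreteValuationRing e, fun ϖ' hϖ' w' => ?_⟩
  refine ⟨e.symm ϖ', (MulEquiv.irreducible_iff e.symm.toMulEquiv).mpr hϖ',
    Units.map e.symm.toMonoidHom w', ?_, hsymm ϖ'⟩
  exact hsymm (w' : O)

end

theorem main (X : Scheme.{u}) [IsIntegral X] [IsNoetherian X] [X.IsSeparated]
    (hnor : ∀ x : X, IsIntegrallyClosed (X.presheaf.stalk x))
    {r : ℕ} (ξ : Fin r → X) (hξ : Function.Injective ξ)
    (hcodim : ∀ i, ringKrullDim (X.presheaf.stalk (ξ i)) = 1) (n : Fin r → ℤ) :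
    ∃ f : X.functionField, f ≠ 0 ∧ ∀ i : Fin r,
      ∃ (ϖ : X.presheaf.stalk (ξ i)) (_ : Irreducible ϖ) (w : (X.presheaf.stalk (ξ i))ˣ),
        f = algebraMap (X.presheaf.stalk (ξ i)) X.functionField (w : X.presheaf.stalk (ξ i)) *
          algebraMap (X.presheaf.stalk (ξ i)) X.functionField ϖ ^ (n i) := by
  classical
  have hdvr : ∀ i, IsDiscreteValuationRing (X.presheaf.stalk (ξ i)) := fun i => by
    haveI := hnor (ξ i)
    exact isDVR_of_normal_of_dim_one _ (hcodim i)
  rcases isEmpty_or_nonempty (Fin r) with hemp | ⟨⟨i₀⟩⟩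
  · exact ⟨1, one_ne_zero, fun i => isEmptyElim i⟩
  obtain ⟨O, hO⟩ : ∃ O : Fin r → ValuationSubring X.functionField,
      ∀ i, ((O i : ValuationSubring X.functionField) : Set X.functionField) =
        Set.range (algebraMap (X.presheaf.stalk (ξ i)) X.functionField) := by
    refine ⟨fun i =>
      { toSubring := (algebraMap (X.presheaf.stalk (ξ i)) X.functionField).range
        mem_or_inv_mem' := fun z => by
          haveI := hdvr i
          exact ValuationRing.isInteger_or_isInteger (X.presheaf.stalk (ξ i)) z }, fun i => rfl⟩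
  have htr := fun i => by
    haveI := hdvr i
    exact transfer (ξ i) (O i) (hO i)
  have hOinj : Function.Injective O := by
    intro i j hij
    apply hξ
    haveI := hdvr i
    apply eq_of_range_eq (ξ i) (ξ j)
    rw [← hO i, ← hO j, hij]
  obtain ⟨f, hf⟩ := Groth.Agent.S7931.result X.functionField O (fun i => (htr i).1) hOinj
    (fun _ => 0) n
  have hall : ∀ i : Fin r,
      ∃ (ϖ : X.presheaf.stalk (ξ i)) (_ : Irreducible ϖ) (w : (X.presheaf.stalk (ξ i))ˣ),
        f = algebraMap (X.presheaf.stalk (ξ i)) X.functionField (w : X.presheaf.stalk (ξ i)) *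
          algebraMap (X.presheaf.stalk (ξ i)) X.functionField ϖ ^ (n i) := by
    intro i
    obtain ⟨ϖ', hϖ', w', hfw⟩ := hf i
    obtain ⟨ϖ, hϖ, w, hw1, hw2⟩ := (htr i).2 ϖ' hϖ' w'
    refine ⟨ϖ, hϖ, w, ?_⟩
    rw [hw1, hw2, ← hfw, sub_zero]
  refine ⟨f, ?_, hall⟩
  obtain ⟨ϖ, hϖ, w, hfw⟩ := hall i₀
  have hinj : Function.Injective (algebraMap (X.presheaf.stalk (ξ i₀)) X.functionField) :=
    IsFractionRing.injective _ _
  rw [hfw]
  refine mul_ne_zero ((map_ne_zero_iff _ hinj).mpr w.ne_zero)
    (zpow_ne_zero _ ((map_ne_zero_iff _ hinj).mpr hϖ.ne_zero))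

end Groth.Agent.Lib.Helper21.RLp
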