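import Mathlib
import Groth.Prelude
import Groth.Agent.Lib.Helper3.BlowUpBasic
import Groth.Agent.Lib.Helper28.IdealComap
import Groth.Agent.Lib.Helper17.BlowUpUniv

set_option autoImplicit false
set_option linter.style.haveILetI false
set_option linter.unusedSectionVars false
set_option linter.unusedVariables false
set_option linter.unusedSimpArgs false

universe u

open AlgebraicGeometry CategoryTheory CategoryTheory.Limits

namespace Groth.Agent.Lib.Helper21.RLq

theorem awayFrom_comap {X Y : Scheme.{u}} (I : Y.IdealSheafData) (f : X ⟶ Y) :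
    HTop.awayFrom (I.comap f) = f ⁻¹ᵁ HTop.awayFrom I := by
  unfold HTop.awayFrom
  rw [Scheme.IdealSheafData.support_comap]
  rfl

/-- an isomorphism followed by a blow-up is a blow-up. -/
theorem isBlowUp_iso_comp {Y' Y S : Scheme.{u}} (e : Y' ⟶ Y) [IsIso e] (𝓘 : S.IdealSheafData)
    (b : Y ⟶ S) (hb : BlowUp.IsBlowUp b 𝓘) : BlowUp.IsBlowUp (e ≫ b) 𝓘 := by
  refine ⟨?_, fun T k hk => ?_⟩
  · rw [Scheme.IdealSheafData.comap_comp]
    exact Groth.Agent.Lib.Helper17.AmbProd.isEffCartierIdeal_comap_of_flat _ _ hb.1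
  · obtain ⟨l, hl, hlu⟩ := hb.2 T k hk
    have hl' : l ≫ b = k := hl
    refine ⟨l ≫ inv e, ?_, fun m hm => ?_⟩
    · change (l ≫ inv e) ≫ e ≫ b = k
      rw [Category.assoc, IsIso.inv_hom_id_assoc, hl']
    · have hm' : m ≫ e ≫ b = k := hm
      have h1 := hlu (m ≫ e) (by
        change (m ≫ e) ≫ b = k
        rw [Category.assoc, hm'])
      rw [← h1, Category.assoc, IsIso.hom_inv_id, Category.comp_id]

/-- a closed immersion is an isomorphism over the open `U` iff its ideal vanishes on `U`. -/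
theorem isIso_morphismRestrict_iff {Z' X' : Scheme.{u}} (j : Z' ⟶ X') [IsClosedImmersion j]
    (U : X'.Opens) : IsIso (j ∣_ U) ↔ j.ker ≤ U.ι.ker := by
  haveI : IsClosedImmersion (j ∣_ U) := inferInstance
  rw [IsClosedImmersion.isIso_iff_ker_eq_bot]
  have hpb := isPullback_morphismRestrict j U
  have hker : (j ∣_ U).ker = j.ker.comap U.ι := by
    rw [← Scheme.IdealSheafData.ker_fst_of_isClosedImmersion j U.ι]
    have h1 : hpb.isoPullback.hom ≫ pullback.fst U.ι j = j ∣_ U :=
      hpb.isoPullback_hom_fst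
    rw [← h1, Scheme.Hom.ker_comp_of_isIso]
  rw [hker, ← le_bot_iff, ← Scheme.IdealSheafData.le_map_iff_comap_le,
    Scheme.IdealSheafData.map_bot]

theorem main {E Z X' X W EW : Scheme.{u}} {e : E ⟶ X'} {π : E ⟶ Z} {b : X' ⟶ X} {i : Z ⟶ X}
    (h : HTop.IsAlmostBlowUpSquare e π b i) (w : W ⟶ X') [IsClosedImmersion w]
    [LocallyOfFinitePresentation w] {eW : EW ⟶ W} {gE : EW ⟶ E} (hEW : IsPullback gE eW e w) :
    w.ker ≤ HTop.supportedOn (i.ker.comap b) ↔
      HTop.IsAlmostBlowUpSquare eW (gE ≫ π) (w ≫ b) i := by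
  have hU : HTop.awayFrom (i.ker.comap b) = b ⁻¹ᵁ HTop.awayFrom i.ker := awayFrom_comap _ _
  have hUW : HTop.awayFrom (i.ker.comap (w ≫ b)) = w ⁻¹ᵁ HTop.awayFrom (i.ker.comap b) := by
    rw [Scheme.IdealSheafData.comap_comp]; exact awayFrom_comap _ _
  have hUW' : HTop.awayFrom (i.ker.comap (w ≫ b)) = (w ≫ b) ⁻¹ᵁ HTop.awayFrom i.ker :=
    awayFrom_comap _ _
  have hL1 : w.ker ≤ HTop.supportedOn (i.ker.comap b) ↔
      IsIso (w ∣_ HTop.awayFrom (i.ker.comap b)) := (isIso_morphismRestrict_iff w _).symm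
  rw [hL1]
  constructor
  · intro hiso
    haveI := hiso
    haveI := h.isProper
    haveI := h.finitePresentation
    refine { isClosedImmersion := h.isClosedImmersion
             finitePresentation_base := h.finitePresentation_base
             isPullback := hEW.flip.paste_vert h.isPullback
             locPrincipal := ?_
             isProper := inferInstance
             finitePresentation := inferInstance
             isBlowUp := ?_ }
    · rw [Scheme.IdealSheafData.comap_comp]
      intro x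
      obtain ⟨V, hxV, f, hf⟩ := h.locPrincipal (w x)
      refine ⟨⟨w ⁻¹ᵁ V.1, V.2.preimage w⟩, hxV, (w.appLE V.1 (w ⁻¹ᵁ V.1) le_rfl).hom f, ?_⟩
      rw [Groth.Agent.Lib.Helper28.ideal_comap_of_le _ w V ⟨_, V.2.preimage w⟩ le_rfl, hf,
        Ideal.map_span, Set.image_singleton]
    · have hker : ((HTop.supportedOn (i.ker.comap (w ≫ b))).subschemeι ≫ w).ker =
          HTop.supportedOn (i.ker.comap b) := by
        rw [Scheme.Hom.ker_comp, Scheme.IdealSheafData.ker_subschemeι]
        show (HTop.awayFrom (i.ker.comap (w ≫ b))).ι.ker.map w =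
          (HTop.awayFrom (i.ker.comap b)).ι.ker
        rw [Scheme.IdealSheafData.map_ker, hUW, ← morphismRestrict_ι,
          Scheme.Hom.ker_comp_of_isIso]
      obtain ⟨θ, hθ⟩ : ∃ θ : (HTop.supportedOn (i.ker.comap (w ≫ b))).subscheme ⟶
          (HTop.supportedOn (i.ker.comap b)).subscheme,
          θ ≫ (HTop.supportedOn (i.ker.comap b)).subschemeι =
            (HTop.supportedOn (i.ker.comap (w ≫ b))).subschemeι ≫ w :=
        ⟨IsClosedImmersion.lift (HTop.supportedOn (i.ker.comap b)).subschemeι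
          ((HTop.supportedOn (i.ker.comap (w ≫ b))).subschemeι ≫ w)
          (by rw [Scheme.IdealSheafData.ker_subschemeι, hker]),
          IsClosedImmersion.lift_fac _ _ _⟩
      haveI : IsIso θ := IsClosedImmersion.isIso_of_ker_eq
        ((HTop.supportedOn (i.ker.comap (w ≫ b))).subschemeι ≫ w)
        (HTop.supportedOn (i.ker.comap b)).subschemeι θ hθ
        (by rw [hker, Scheme.IdealSheafData.ker_subschemeι])
      have hcomp : (HTop.supportedOn (i.ker.comap (w ≫ b))).subschemeι ≫ w ≫ b =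
          θ ≫ ((HTop.supportedOn (i.ker.comap b)).subschemeι ≫ b) := by
        rw [← Category.assoc, ← Category.assoc, hθ]
      rw [hcomp]
      exact isBlowUp_iso_comp θ _ _ h.isBlowUp
  · intro h'
    have hβ : IsIso (((HTop.supportedOn (i.ker.comap b)).subschemeι ≫ b) ∣_
        HTop.awayFrom i.ker) :=
      Groth.Agent.Lib.Helper3.isIso_morphismRestrict_of_isBlowUp i.ker _ h.isBlowUp
    rw [morphismRestrict_comp] at hβ
    have h1 : IsIso ((HTop.supportedOn (i.ker.comap b)).subschemeι ∣_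
        b ⁻¹ᵁ HTop.awayFrom i.ker) := by
      rw [← hU, isIso_morphismRestrict_iff, Scheme.IdealSheafData.ker_subschemeι]
      exact le_refl _
    haveI := h1
    haveI := hβ
    have hb : IsIso (b ∣_ HTop.awayFrom i.ker) :=
      @IsIso.of_isIso_comp_left _ _ _ _ _ _ _ h1 hβ
    have hβ' : IsIso (((HTop.supportedOn (i.ker.comap (w ≫ b))).subschemeι ≫ w ≫ b) ∣_
        HTop.awayFrom i.ker) :=
      Groth.Agent.Lib.Helper3.isIso_morphismRestrict_of_isBlowUp i.ker _ h'.isBlowUp
    rw [morphismRestrict_comp] at hβ'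
    have h2 : IsIso ((HTop.supportedOn (i.ker.comap (w ≫ b))).subschemeι ∣_
        (w ≫ b) ⁻¹ᵁ HTop.awayFrom i.ker) := by
      rw [← hUW', isIso_morphismRestrict_iff, Scheme.IdealSheafData.ker_subschemeι]
      exact le_refl _
    haveI := h2
    haveI := hβ'
    have hwb : IsIso ((w ≫ b) ∣_ HTop.awayFrom i.ker) :=
      @IsIso.of_isIso_comp_left _ _ _ _ _ _ _ h2 hβ'
    rw [morphismRestrict_comp] at hwb
    haveI := hb
    haveI := hwb
    have hw : IsIso (w ∣_ b ⁻¹ᵁ HTop.awayFrom i.ker) :=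
      @IsIso.of_isIso_comp_right _ _ _ _ _ _ _ hb hwb
    rw [hU]
    exact hw

end Groth.Agent.Lib.Helper21.RLq
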