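import Mathlib

set_option autoImplicit false
set_option linter.style.haveILetI false
set_option linter.unusedSectionVars false
set_option linter.unusedVariables false
set_option linter.unusedSimpArgs false

/-!
# Intermediate fields of a finitely generated field extension are finitely generated

`fg_of_fg_top`: if `K / k` is a finitely generated field extension then every intermediate field is finitely generated
over `k`.  Core: `linearIndependent_adjoin` (an `F`-linearly independent family of `L` stays linearly independent over
`F(s)` when `s` is algebraically independent over `L`) and `finite_of_isAlgebraic_of_essFiniteType` (an algebraic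
subextension of a finitely generated field extension is finite).
-/

universe u v w

namespace Groth.Agent.Lib.Helper21.RLr

open Algebra IntermediateField

section core

variable {F : Type u} {L : Type v} {K : Type w} [Field F] [Field L] [Field K]
  [Algebra F L] [Algebra L K] [Algebra F K] [IsScalarTower F L K]

theorem aeval_map_algebraMap' {ι : Type*} (s : ι → K) (p : MvPolynomial ι F) :
    MvPolynomial.aeval s (MvPolynomial.map (algebraMap F L) p) = MvPolynomial.aeval s p := by
  rw [MvPolynomial.aeval_def, MvPolynomial.aeval_def, MvPolynomial.eval₂_map,
    ← IsScalarTower.algebraMap_eq]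

open scoped IntermediateField.algebraAdjoinAdjoin in
/-- Linear disjointness of `L` and `F(s)` over `F` when `s` is algebraically independent over `L`. -/
theorem linearIndependent_adjoin {ι : Type*} (s : ι → K) (hs : AlgebraicIndependent L s)
    {J : Type*} (l : J → L) (hl : LinearIndependent F l) :
    LinearIndependent (IntermediateField.adjoin F (Set.range s)) (fun j => algebraMap L K (l j)) := by
  classical
  rw [← LinearIndependent.iff_fractionRing (Algebra.adjoin F (Set.range s))
    (IntermediateField.adjoin F (Set.range s))]
  rw [linearIndependent_iff']
  intro t g hg j hj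
  have hmem : ∀ j, ∃ p : MvPolynomial ι F, MvPolynomial.aeval s p = ((g j : Algebra.adjoin F (Set.range s)) : K) := by
    intro j
    have h : ((g j : Algebra.adjoin F (Set.range s)) : K) ∈
        (MvPolynomial.aeval s : MvPolynomial ι F →ₐ[F] K).range := by
      rw [← Algebra.adjoin_range_eq_range_aeval]
      exact (g j).2
    exact h
  choose p hp using hmem
  -- the polynomial over `L`
  have hQ : (∑ j ∈ t, MvPolynomial.C (l j) * MvPolynomial.map (algebraMap F L) (p j)) = 0 := by
    apply hs
    rw [map_sum, map_zero]
    rw [← hg]
    refine Finset.sum_congr rfl fun j _ => ?_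
    rw [map_mul, aeval_map_algebraMap', MvPolynomial.aeval_C, hp j, mul_comm]
    rfl
  have hcoef : ∀ m, ∀ j ∈ t, MvPolynomial.coeff m (p j) = 0 := by
    intro m
    have h1 := congrArg (MvPolynomial.coeff m) hQ
    rw [MvPolynomial.coeff_sum, MvPolynomial.coeff_zero] at h1
    have h2 : ∑ j ∈ t, (MvPolynomial.coeff m (p j)) • l j = 0 := by
      rw [← h1]
      refine Finset.sum_congr rfl fun j _ => ?_
      rw [MvPolynomial.coeff_C_mul, MvPolynomial.coeff_map, Algebra.smul_def, mul_comm]
    exact (linearIndependent_iff'.mp hl) t _ h2
  have hpj : p j = 0 := by
    ext m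
    rw [hcoef m j hj, MvPolynomial.coeff_zero]
  apply Subtype.ext
  rw [← hp j, hpj, map_zero]
  rfl

variable (F L K) in
/-- An algebraic subextension `L / F` of a finitely generated field extension `K / F` is finite. -/
theorem finite_of_isAlgebraic_of_essFiniteType [Algebra.IsAlgebraic F L] [Algebra.EssFiniteType F K] :
    Module.Finite F L := by
  classical
  obtain ⟨s', hs⟩ := exists_isTranscendenceBasis F K
  obtain ⟨s, hss⟩ : ∃ s : s' → K, s = ((↑) : s' → K) := ⟨_, rfl⟩
  rw [← hss] at hs
  have hsL : AlgebraicIndependent L s := hs.1.extendScalars L
  have h1 : Algebra.IsAlgebraic (IntermediateField.adjoin F (Set.range s)) K := hs.isAlgebraic_field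
  have h2 : Algebra.EssFiniteType (IntermediateField.adjoin F (Set.range s)) K :=
    Algebra.EssFiniteType.of_comp F (IntermediateField.adjoin F (Set.range s)) K
  have h3 : Module.Finite (IntermediateField.adjoin F (Set.range s)) K :=
    Algebra.finite_of_essFiniteType_of_isAlgebraic
  have key : ∀ t : Finset L, (LinearIndependent F fun i : t => (i : L)) →
      t.card ≤ Module.finrank (IntermediateField.adjoin F (Set.range s)) K := by
    intro t ht
    have h4 := linearIndependent_adjoin s hsL _ ht
    have h5 := h4.fintype_card_le_finrank
    simpa using h5
  have h6 : Module.rank F L ≤ (Module.finrank (IntermediateField.adjoin F (Set.range s)) K : Cardinal) :=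
    rank_le key
  exact Module.rank_lt_aleph0_iff.mp (lt_of_le_of_lt h6 (Cardinal.natCast_lt_aleph0))

end core

/-- Every intermediate field of a finitely generated field extension is finitely generated. -/
theorem fg_of_fg_top {k : Type u} {K : Type v} [Field k] [Field K] [Algebra k K]
    (h : (⊤ : IntermediateField k K).FG) (L : IntermediateField k K) : L.FG := by
  classical
  have hK : Algebra.EssFiniteType k K := IntermediateField.fg_top_iff.mp h
  rw [← IntermediateField.essFiniteType_iff]
  obtain ⟨t', ht⟩ := exists_isTranscendenceBasis k L
  obtain ⟨t, htt⟩ : ∃ t : t' → L, t = ((↑) : t' → L) := ⟨_, rfl⟩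
  rw [← htt] at ht
  have hfin : Finite t' := by
    have h1 : AlgebraicIndependent k (L.val ∘ t) := ht.1.map' (f := L.val) L.val.injective
    exact finite_of_algebraicIndependent h1
  have h2 : Algebra.IsAlgebraic (IntermediateField.adjoin k (Set.range t)) L := ht.isAlgebraic_field
  have h3 : Algebra.EssFiniteType (IntermediateField.adjoin k (Set.range t)) K :=
    Algebra.EssFiniteType.of_comp k (IntermediateField.adjoin k (Set.range t)) K
  have h4 : Module.Finite (IntermediateField.adjoin k (Set.range t)) L :=
    finite_of_isAlgebraic_of_essFiniteType (IntermediateField.adjoin k (Set.range t)) L K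
  have h5 : Algebra.EssFiniteType k (IntermediateField.adjoin k (Set.range t)) :=
    IntermediateField.essFiniteType_iff.mpr (IntermediateField.fg_adjoin_of_finite (Set.finite_range t))
  have h6 : Algebra.EssFiniteType (IntermediateField.adjoin k (Set.range t)) L := inferInstance
  exact Algebra.EssFiniteType.comp k (IntermediateField.adjoin k (Set.range t)) L

end Groth.Agent.Lib.Helper21.RLr
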