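import Mathlib
import Groth.Prelude
import Groth.Agent.Lib.Helper9.OrdVal
import Groth.Agent.Lib.Helper6.IdealComap
import Groth.Agent.Lib.Helper17.ProjRees
import Groth.Agent.Lib.Helper17.ColonIdeal
import Groth.Agent.Lib.Helper17.BlowUpIntegral
import Groth.Agent.Lib.Helper16.CartSum.Cartier
import Groth.Agent.Lib.Helper21.RLm

set_option autoImplicit false
set_option linter.style.haveILetI false
set_option linter.unusedSectionVars false
set_option linter.unusedVariables false
set_option linter.unusedSimpArgs false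

/-!
# Blow-up of a regular local ring of dimension two in its closed point: total transform of a divisor

`main`: for `f ∈ 𝔪^μ ∖ 𝔪^{μ+1}`, on the blow-up `b : X ⟶ Spec A` of `𝔪` the inverse image `f·O_X` is contained in
`E^μ`, not in `E^{μ+1}`, and equals `I' · E^μ` for an effective Cartier ideal `I'` whose support does not contain the
exceptional fibre.  The argument uses helper9's discrete valuation ring of the `𝔪`-adic order (`OrdVal.V`), lifted to
`X` by the universal property of the blow-up, and helper17's colon ideal sheaves.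
-/

universe u

open AlgebraicGeometry CategoryTheory TopologicalSpace IsLocalRing
open Groth.Agent.Lib.Helper9 Groth.Agent.Lib.Helper17

namespace Groth.Agent.Lib.Helper21.RLs

section Ring

variable {A : Type u} [CommRing A] [IsDomain A] [IsLocalRing A]
  (H : OrdVal.Hyp (maximalIdeal A)) {x0 : A} (hx : OrdVal.ExactOrd (maximalIdeal A) 1 x0)

include hx

theorem algebraMap_x0_ne_zero : algebraMap A (FractionRing A) x0 ≠ 0 :=
  (map_ne_zero_iff _ (IsFractionRing.injective A (FractionRing A))).mpr hx.ne_zero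

theorem pi_ne_zero : algebraMap A (OrdVal.V (maximalIdeal A) H) x0 ≠ 0 := by
  intro h
  have h1 : ((algebraMap A (OrdVal.V (maximalIdeal A) H) x0 : OrdVal.V (maximalIdeal A) H) :
      FractionRing A) = 0 := by rw [h]; rfl
  rw [Subalgebra.coe_algebraMap] at h1
  exact algebraMap_x0_ne_zero hx h1

theorem pi_mem [IsLocalRing (OrdVal.V (maximalIdeal A) H)] :
    algebraMap A (OrdVal.V (maximalIdeal A) H) x0 ∈
      maximalIdeal (OrdVal.V (maximalIdeal A) H) := by
  have h := OrdVal.comap_maximalIdeal H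
  have h1 : x0 ∈ (maximalIdeal (OrdVal.V (maximalIdeal A) H)).comap
      (algebraMap A (OrdVal.V (maximalIdeal A) H)) := by
    rw [h]
    have := hx.1
    rwa [pow_one] at this
  exact h1

theorem map_maximalIdeal :
    (maximalIdeal A).map (algebraMap A (OrdVal.V (maximalIdeal A) H)) =
      Ideal.span {algebraMap A (OrdVal.V (maximalIdeal A) H) x0} := by
  have hx0 := algebraMap_x0_ne_zero hx
  apply le_antisymm
  · rw [Ideal.map_le_iff_le_comap]
    intro a ha
    rw [Ideal.mem_comap, Ideal.mem_span_singleton']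
    have hb := OrdVal.big_div_pow H hx (m := 1) (a := a) (by rwa [pow_one])
    refine ⟨⟨_, (OrdVal.mem_V H).mpr hb⟩, ?_⟩
    apply Subtype.ext
    rw [Subalgebra.coe_mul, Subalgebra.coe_algebraMap, Subalgebra.coe_algebraMap]
    show algebraMap A (FractionRing A) a / algebraMap A (FractionRing A) x0 ^ 1 *
      algebraMap A (FractionRing A) x0 = algebraMap A (FractionRing A) a
    rw [pow_one, div_mul_cancel₀ _ hx0]
  · rw [Ideal.span_le, Set.singleton_subset_iff]
    apply Ideal.mem_map_of_mem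
    have := hx.1
    rwa [pow_one] at this

theorem exists_unit (μ : ℕ) (f : A) (hf : f ∈ maximalIdeal A ^ μ)
    (hf' : f ∉ maximalIdeal A ^ (μ + 1)) :
    ∃ u : OrdVal.V (maximalIdeal A) H, IsUnit u ∧
      algebraMap A (OrdVal.V (maximalIdeal A) H) f =
        u * (algebraMap A (OrdVal.V (maximalIdeal A) H) x0) ^ μ := by
  have hx0 := algebraMap_x0_ne_zero hx
  have hb := OrdVal.big_div_pow H hx (m := μ) (a := f) hf
  refine ⟨⟨_, (OrdVal.mem_V H).mpr hb⟩, ?_, ?_⟩
  · rw [OrdVal.isUnit_iff H]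
    intro hs
    refine hf' (OrdVal.wd H hs hf (OrdVal.exactOrd_pow H hx μ) ?_)
    show algebraMap A (FractionRing A) f / algebraMap A (FractionRing A) x0 ^ μ *
      algebraMap A (FractionRing A) (x0 ^ μ) = algebraMap A (FractionRing A) f
    rw [map_pow, div_mul_cancel₀ _ (pow_ne_zero μ hx0)]
  · apply Subtype.ext
    rw [Subalgebra.coe_mul, Subalgebra.coe_pow, Subalgebra.coe_algebraMap,
      Subalgebra.coe_algebraMap]
    show algebraMap A (FractionRing A) f = algebraMap A (FractionRing A) f /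
      algebraMap A (FractionRing A) x0 ^ μ * algebraMap A (FractionRing A) x0 ^ μ
    rw [div_mul_cancel₀ _ (pow_ne_zero μ hx0)]

end Ring

section Sch

variable (A : Type u) [CommRing A]

theorem idl_mono {I I' : Ideal A} (h : I ≤ I') : ProjRees.idl A I ≤ ProjRees.idl A I' := by
  apply Scheme.IdealSheafData.le_of_isAffine
  rw [ProjRees.ofIdealTop_ideal_top, ProjRees.ofIdealTop_ideal_top]
  exact Ideal.map_mono h

theorem idl_pow (I : Ideal A) (n : ℕ) : ProjRees.idl A (I ^ n) = ProjRees.idl A I ^ n := by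
  apply Scheme.IdealSheafData.ext_of_isAffine
  rw [Scheme.IdealSheafData.ideal_pow, Pi.pow_apply, ProjRees.ofIdealTop_ideal_top,
    ProjRees.ofIdealTop_ideal_top, Ideal.map_pow]

theorem ideal_comap_comap_top {X : Scheme.{u}} (b : X ⟶ Spec (CommRingCat.of A))
    {V : Type u} [CommRing V] (ψ : A →+* V) (g : Spec (CommRingCat.of V) ⟶ X)
    (hg : g ≫ b = Spec.map (CommRingCat.ofHom ψ)) (I : Ideal A) :
    (((ProjRees.idl A I).comap b).comap g).ideal ⟨⊤, isAffineOpen_top _⟩ =
      (I.map ψ).map (Scheme.ΓSpecIso (CommRingCat.of V)).inv.hom := by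
  rw [← Scheme.IdealSheafData.comap_comp, hg, ProjRees.ideal_comap_top]
  have e : ProjRees.rho A (Spec.map (CommRingCat.ofHom ψ)) =
      ((Scheme.ΓSpecIso (CommRingCat.of V)).inv.hom).comp ψ := by
    ext r; exact ProjRees.rho_SpecMap A ψ r
  rw [e, Ideal.map_map]

theorem ΓSpecIso_inv_injective :
    Function.Injective (Scheme.ΓSpecIso (CommRingCat.of A)).inv.hom :=
  ((ConcreteCategory.isIso_iff_bijective (Scheme.ΓSpecIso (CommRingCat.of A)).inv).1
    inferInstance).1

theorem exists_chart [IsDomain A] {X : Scheme.{u}} [IsIntegral X]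
    (b : X ⟶ Spec (CommRingCat.of A))
    (hgen : b.base (genericPoint X) = genericPoint (Spec (CommRingCat.of A)))
    (I : Ideal A) (hE : BlowUp.IsEffCartierIdeal ((ProjRees.idl A I).comap b)) (f : A)
    (hf0 : f ≠ 0) (μ : ℕ)
    (hle : (ProjRees.idl A (Ideal.span {f})).comap b ≤ ((ProjRees.idl A I).comap b) ^ μ)
    (x : X) :
    ∃ W : X.affineOpens, x ∈ W.1 ∧ ∃ c e : Γ(X, W.1), e ∈ nonZeroDivisors Γ(X, W.1) ∧
      c ∈ nonZeroDivisors Γ(X, W.1) ∧
      ((ProjRees.idl A I).comap b).ideal W = Ideal.span {e} ∧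
      ((ProjRees.idl A (Ideal.span {f})).comap b).ideal W = Ideal.span {c * e ^ μ} := by
  obtain ⟨V0, hxV0, HV⟩ := AdmBlowup.exists_forall_le_of_isEffCartierIdeal hE x
  obtain ⟨W, hW, hxW, hWle⟩ := exists_isAffineOpen_mem_and_subset (x := x) (U := V0) hxV0
  obtain ⟨e, he, hEW⟩ := HV ⟨W, hW⟩ hWle
  haveI : Nonempty W := ⟨⟨x, hxW⟩⟩
  haveI : IsDomain Γ(X, W) := inferInstance
  have hWtop : W ≤ b ⁻¹ᵁ (⊤ : (Spec (CommRingCat.of A)).Opens) := fun _ _ => trivial
  obtain ⟨φf, hφf⟩ : ∃ t : Γ(X, W), t = (b.appLE ⊤ W hWtop).hom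
    ((Scheme.ΓSpecIso (CommRingCat.of A)).inv.hom f) := ⟨_, rfl⟩
  have hJW : ((ProjRees.idl A (Ideal.span {f})).comap b).ideal ⟨W, hW⟩ = Ideal.span {φf} := by
    rw [Groth.Agent.Lib.Helper28.ideal_comap_of_le _ b ⟨⊤, isAffineOpen_top _⟩ ⟨W, hW⟩ hWtop,
      ProjRees.ofIdealTop_ideal_top, Ideal.map_span, Set.image_singleton, Ideal.map_span,
      Set.image_singleton, hφf]
  have hφ0 : φf ≠ 0 := by
    intro h0
    have hη : genericPoint X ∈ W :=
      ((genericPoint_spec X).mem_open_set_iff W.2).mpr ⟨x, trivial, hxW⟩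
    have hfne : (Scheme.ΓSpecIso (CommRingCat.of A)).inv.hom f ≠ 0 := by
      intro h
      exact hf0 (ΓSpecIso_inv_injective A (h.trans (map_zero _).symm))
    have hne : (Spec (CommRingCat.of A)).basicOpen
        ((Scheme.ΓSpecIso (CommRingCat.of A)).inv.hom f) ≠ ⊥ := by
      rw [ne_eq, basicOpen_eq_bot_iff]; exact hfne
    have hηS : genericPoint (Spec (CommRingCat.of A)) ∈ (Spec (CommRingCat.of A)).basicOpen
        ((Scheme.ΓSpecIso (CommRingCat.of A)).inv.hom f) := by
      obtain ⟨y, hy⟩ := (Opens.ne_bot_iff_nonempty _).mp hne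
      exact ((genericPoint_spec (Spec (CommRingCat.of A))).mem_open_set_iff
        (Opens.isOpen _)).mpr ⟨y, trivial, hy⟩
    have h1 : genericPoint X ∈ X.basicOpen φf := by
      rw [hφf, Scheme.basicOpen_appLE]
      refine ⟨hη, ?_⟩
      show b.base (genericPoint X) ∈ (Spec (CommRingCat.of A)).basicOpen
        ((Scheme.ΓSpecIso (CommRingCat.of A)).inv.hom f)
      rw [hgen]
      exact hηS
    rw [h0, Scheme.basicOpen_zero] at h1
    exact h1
  have hmem : φf ∈ Ideal.span {e ^ μ} := by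
    have h1 := hle ⟨W, hW⟩
    rw [hJW, Scheme.IdealSheafData.ideal_pow, Pi.pow_apply, hEW, Ideal.span_singleton_pow] at h1
    exact h1 (Ideal.subset_span (Set.mem_singleton _))
  obtain ⟨c, hc⟩ := Ideal.mem_span_singleton'.mp hmem
  have hc0 : c ≠ 0 := by
    rintro rfl
    rw [zero_mul] at hc
    exact hφ0 hc.symm
  refine ⟨⟨W, hW⟩, hxW, c, e, he, mem_nonZeroDivisors_of_ne_zero hc0, hEW, ?_⟩
  rw [hJW, hc]

end Sch

set_option maxHeartbeats 3200000 in
theorem main (A : Type u) [CommRing A] [IsRegularLocalRing A] (hA : ringKrullDim A = 2)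
    {X : Scheme.{u}} (b : X ⟶ Spec (CommRingCat.of A))
    (hb : BlowUp.IsBlowUp b (ProjRees.idl A (maximalIdeal A)))
    (f : A) (μ : ℕ) (hf : f ∈ maximalIdeal A ^ μ) (hf' : f ∉ maximalIdeal A ^ (μ + 1)) :
    (ProjRees.idl A (Ideal.span {f})).comap b ≤
        ((ProjRees.idl A (maximalIdeal A)).comap b) ^ μ ∧
      ¬ (ProjRees.idl A (Ideal.span {f})).comap b ≤
        ((ProjRees.idl A (maximalIdeal A)).comap b) ^ (μ + 1) ∧
      ∃ I' : X.IdealSheafData, BlowUp.IsEffCartierIdeal I' ∧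
        (ProjRees.idl A (Ideal.span {f})).comap b =
          I' * ((ProjRees.idl A (maximalIdeal A)).comap b) ^ μ ∧
        ¬ (((ProjRees.idl A (maximalIdeal A)).comap b).support : Set X) ⊆
          (I'.support : Set X) := by
  classical
  haveI : IsDomain A := RegLocal.isDomain_of_isRegularLocalRing A
  obtain ⟨d, y, hspan, hQR, hy2⟩ := OrdVal.exists_params A
  have H : OrdVal.Hyp (maximalIdeal A) := OrdVal.hyp_of_params y hspan hQR
  have hd : 0 < d := by
    rcases Nat.eq_zero_or_pos d with h0 | h0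
    · exfalso
      subst h0
      have hbot : maximalIdeal A = ⊥ := by
        rw [← hspan, Set.range_eq_empty, Ideal.span_empty]
      have hfield : IsField A := IsLocalRing.isField_iff_maximalIdeal_eq.mpr hbot
      have h0 := ringKrullDim_eq_zero_of_isField hfield
      rw [hA] at h0
      exact absurd h0 (by decide)
    · exact h0
  obtain ⟨x0, hx0def⟩ : ∃ x0 : A, x0 = y ⟨0, hd⟩ := ⟨_, rfl⟩
  have hx : OrdVal.ExactOrd (maximalIdeal A) 1 x0 := by
    refine ⟨?_, ?_⟩
    · rw [pow_one, ← hspan, hx0def]; exact Ideal.subset_span ⟨_, rfl⟩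
    · rw [hx0def]; exact hy2 _
  haveI : IsLocalRing (OrdVal.V (maximalIdeal A) H) := OrdVal.isLocalRing H
  obtain ⟨ψ, hψ⟩ : ∃ ψ : A →+* OrdVal.V (maximalIdeal A) H,
    ψ = algebraMap A (OrdVal.V (maximalIdeal A) H) := ⟨_, rfl⟩
  obtain ⟨π, hπ⟩ : ∃ π : OrdVal.V (maximalIdeal A) H, π = ψ x0 := ⟨_, rfl⟩
  have hπ0 : π ≠ 0 := by rw [hπ, hψ]; exact pi_ne_zero H hx
  have hπm : π ∈ maximalIdeal (OrdVal.V (maximalIdeal A) H) := by
    rw [hπ, hψ]; exact pi_mem H hx
  have hmap : (maximalIdeal A).map ψ = Ideal.span {π} := by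
    rw [hπ, hψ]; exact map_maximalIdeal H hx
  obtain ⟨u, hu, hfu⟩ : ∃ u : OrdVal.V (maximalIdeal A) H, IsUnit u ∧ ψ f = u * π ^ μ := by
    rw [hπ, hψ]; exact exists_unit H hx μ f hf hf'
  have hf0 : f ≠ 0 := by
    rintro rfl
    exact hf' (zero_mem _)
  have hx0m : x0 ∈ maximalIdeal A := by
    have := hx.1
    rwa [pow_one] at this
  -- the blow-up is integral and dominant
  have hIne : ProjRees.idl A (maximalIdeal A) ≠ ⊥ := by
    intro h
    have h3 := Ideal.mem_map_of_mem (Scheme.ΓSpecIso (CommRingCat.of A)).inv.hom hx0m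
    rw [← ProjRees.ofIdealTop_ideal_top
      ((maximalIdeal A).map (Scheme.ΓSpecIso (CommRingCat.of A)).inv.hom)
      (isAffineOpen_top _)] at h3
    have h4 : (Scheme.ΓSpecIso (CommRingCat.of A)).inv.hom x0 ∈
        (ProjRees.idl A (maximalIdeal A)).ideal ⟨⊤, isAffineOpen_top _⟩ := h3
    rw [h] at h4
    have h5 : (Scheme.ΓSpecIso (CommRingCat.of A)).inv.hom x0 = 0 := h4
    exact hx.ne_zero (ΓSpecIso_inv_injective A (h5.trans (map_zero _).symm))
  obtain ⟨hint, hgen, -⟩ := BlowUpIntegral.blowup_integral_birational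
    (ProjRees.idl A (maximalIdeal A)) hIne b hb
  haveI := hint
  obtain ⟨E, hEdef⟩ : ∃ E : X.IdealSheafData, E = (ProjRees.idl A (maximalIdeal A)).comap b :=
    ⟨_, rfl⟩
  obtain ⟨J, hJdef⟩ : ∃ J : X.IdealSheafData, J = (ProjRees.idl A (Ideal.span {f})).comap b :=
    ⟨_, rfl⟩
  rw [← hEdef, ← hJdef]
  have hEc : BlowUp.IsEffCartierIdeal E := by rw [hEdef]; exact hb.1
  -- (1)
  have h1 : J ≤ E ^ μ := by
    rw [hJdef, hEdef, ← Groth.Agent.Lib.Helper6.IdealComap.comap_pow, ← idl_pow]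
    exact Scheme.IdealSheafData.comap_mono b
      (idl_mono A (Ideal.span_le.mpr (Set.singleton_subset_iff.mpr hf)))
  -- the lift of `Spec V`
  have hEV : BlowUp.IsEffCartierIdeal
      ((ProjRees.idl A (maximalIdeal A)).comap (Spec.map (CommRingCat.ofHom ψ))) :=
    ProjRees.isEffCartierIdeal_comap_SpecMap A (maximalIdeal A) ψ π
      (mem_nonZeroDivisors_of_ne_zero hπ0) hmap
  obtain ⟨g, hg, -⟩ := hb.2 (Spec (CommRingCat.of (OrdVal.V (maximalIdeal A) H)))
    (Spec.map (CommRingCat.ofHom ψ)) hEV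
  have hg' : g ≫ b = Spec.map (CommRingCat.ofHom ψ) := hg
  obtain ⟨ι, hι⟩ : ∃ ι : OrdVal.V (maximalIdeal A) H →+*
      Γ(Spec (CommRingCat.of (OrdVal.V (maximalIdeal A) H)), ⊤),
      ι = (Scheme.ΓSpecIso (CommRingCat.of (OrdVal.V (maximalIdeal A) H))).inv.hom := ⟨_, rfl⟩
  obtain ⟨κ, hκ⟩ : ∃ κ : Γ(Spec (CommRingCat.of (OrdVal.V (maximalIdeal A) H)), ⊤) →+*
      OrdVal.V (maximalIdeal A) H,
      κ = (Scheme.ΓSpecIso (CommRingCat.of (OrdVal.V (maximalIdeal A) H))).hom.hom := ⟨_, rfl⟩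
  have hκι : ∀ v, κ (ι v) = v := by
    intro v
    rw [hκ, hι]
    exact CommRingCat.hom_inv_apply
      (Scheme.ΓSpecIso (CommRingCat.of (OrdVal.V (maximalIdeal A) H))) v
  have hικ : ∀ a, ι (κ a) = a := by
    intro a
    rw [hκ, hι]
    exact CommRingCat.inv_hom_apply
      (Scheme.ΓSpecIso (CommRingCat.of (OrdVal.V (maximalIdeal A) H))) a
  have hJg : (J.comap g).ideal ⟨⊤, isAffineOpen_top _⟩ = Ideal.span {ι (ψ f)} := by
    rw [hJdef, ideal_comap_comap_top A b ψ g hg', Ideal.map_span, Set.image_singleton,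
      Ideal.map_span, Set.image_singleton, hι]
  have hEg : (E.comap g).ideal ⟨⊤, isAffineOpen_top _⟩ = Ideal.span {ι π} := by
    rw [hEdef, ideal_comap_comap_top A b ψ g hg', hmap, Ideal.map_span, Set.image_singleton, hι]
  -- (2)
  have h2 : ¬ J ≤ E ^ (μ + 1) := by
    intro hle
    have h3 := Scheme.IdealSheafData.comap_mono g hle
    have h4 : (J.comap g).ideal ⟨⊤, isAffineOpen_top _⟩ ≤
        ((E ^ (μ + 1)).comap g).ideal ⟨⊤, isAffineOpen_top _⟩ := h3 _
    rw [Groth.Agent.Lib.Helper6.IdealComap.comap_pow, Scheme.IdealSheafData.ideal_pow,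
      Pi.pow_apply, hJg, hEg, Ideal.span_singleton_pow] at h4
    obtain ⟨c, hc⟩ := Ideal.mem_span_singleton'.mp (h4 (Ideal.subset_span (Set.mem_singleton _)))
    have h5 := congrArg κ hc
    rw [map_mul, map_pow, hκι, hκι, hfu] at h5
    have h6 : κ c * π = u := by
      apply mul_right_cancel₀ (pow_ne_zero μ hπ0)
      rw [← h5, pow_succ]
      ring
    have h7 : IsUnit π := isUnit_of_mul_isUnit_right (by rw [h6]; exact hu)
    exact (IsLocalRing.mem_maximalIdeal _).mp hπm h7
  -- (3)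
  have hEμc : BlowUp.IsEffCartierIdeal (E ^ μ) := H16CartSum.isEffCartierIdeal_pow E hEc μ
  have hfin : BlowUp.IsFiniteTypeIdeal (E ^ μ) :=
    ColonIdeal.isFiniteTypeIdeal_of_isEffCartierIdeal hEμc
  obtain ⟨I', hI'⟩ : ∃ I' : X.IdealSheafData, I' = ColonIdeal.colon J (E ^ μ) hfin := ⟨_, rfl⟩
  have hchart : ∀ x : X, ∃ W : X.affineOpens, x ∈ W.1 ∧ ∃ c e : Γ(X, W.1),
      e ∈ nonZeroDivisors Γ(X, W.1) ∧ c ∈ nonZeroDivisors Γ(X, W.1) ∧
      E.ideal W = Ideal.span {e} ∧ J.ideal W = Ideal.span {c * e ^ μ} := by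
    intro x
    rw [hEdef, hJdef]
    refine exists_chart A b hgen (maximalIdeal A) ?_ f hf0 μ ?_ x
    · rw [← hEdef]; exact hEc
    · rw [← hEdef, ← hJdef]; exact h1
  have hI'W : ∀ (W : X.affineOpens) (c e : Γ(X, W.1)), e ∈ nonZeroDivisors Γ(X, W.1) →
      E.ideal W = Ideal.span {e} → J.ideal W = Ideal.span {c * e ^ μ} →
      I'.ideal W = Ideal.span {c} := by
    intro W c e he hEW hJW
    rw [hI', ColonIdeal.colon_ideal, hJW, Scheme.IdealSheafData.ideal_pow, Pi.pow_apply, hEW,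
      Ideal.span_singleton_pow]
    exact ColonIdeal.col_span_mul (e ^ μ) c (pow_mem he μ)
  have hJeq : J = I' * E ^ μ := by
    choose W hxW c e he hc hEW hJW using hchart
    apply Scheme.IdealSheafData.ext_of_iSup_eq_top W
    · rw [eq_top_iff]
      intro x _
      exact Opens.mem_iSup.2 ⟨x, hxW x⟩
    · intro x
      rw [Scheme.IdealSheafData.ideal_mul, Pi.mul_apply, Scheme.IdealSheafData.ideal_pow,
        Pi.pow_apply, hI'W _ _ _ (he x) (hEW x) (hJW x), hEW x, hJW x, Ideal.span_singleton_pow,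
        Ideal.span_singleton_mul_span_singleton]
  refine ⟨h1, h2, I', ?_, hJeq, ?_⟩
  · intro x
    obtain ⟨W, hxW, c, e, he, hc, hEW, hJW⟩ := hchart x
    exact ⟨W, hxW, c, hc, hI'W W c e he hEW hJW⟩
  · intro hsub
    obtain ⟨cp, hcp⟩ : ∃ cp : Spec (CommRingCat.of (OrdVal.V (maximalIdeal A) H)),
      cp = IsLocalRing.closedPoint (OrdVal.V (maximalIdeal A) H) := ⟨_, rfl⟩
    have hcpE : cp ∈ (E.comap g).support := by
      rw [Groth.Agent.Lib.Helper21.RLm.mem_support_Spec_iff]
      intro r hr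
      rw [hEg] at hr
      obtain ⟨t, ht⟩ := Ideal.mem_span_singleton'.mp hr
      have h5 := congrArg κ ht
      have h6 : κ ((Scheme.ΓSpecIso (CommRingCat.of (OrdVal.V (maximalIdeal A) H))).inv.hom r) =
          r := by
        rw [← hι]; exact hκι r
      rw [map_mul, hκι, h6] at h5
      rw [hcp, ← h5]
      exact Ideal.mul_mem_left _ _ hπm
    have hξE : g.base cp ∈ (E.support : Set X) := by
      rw [Scheme.IdealSheafData.support_comap] at hcpE
      exact hcpE
    have hξI : g.base cp ∈ (I'.support : Set X) := hsub hξE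
    have hcpI : cp ∈ (I'.comap g).support := by
      rw [Scheme.IdealSheafData.support_comap]
      exact hξI
    rw [Groth.Agent.Lib.Helper21.RLm.mem_support_Spec_iff] at hcpI
    have htop : (I'.comap g).ideal ⟨⊤, isAffineOpen_top _⟩ = ⊤ := by
      have h8 : (J.comap g).ideal ⟨⊤, isAffineOpen_top _⟩ =
          (I'.comap g).ideal ⟨⊤, isAffineOpen_top _⟩ * Ideal.span {ι π} ^ μ := by
        rw [hJeq, Groth.Agent.Lib.Helper6.IdealComap.comap_mul,
          Groth.Agent.Lib.Helper6.IdealComap.comap_pow, Scheme.IdealSheafData.ideal_mul,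
          Pi.mul_apply, Scheme.IdealSheafData.ideal_pow, Pi.pow_apply, hEg]
      rw [hJg, Ideal.span_singleton_pow] at h8
      have h9 : ι (ψ f) ∈ (I'.comap g).ideal ⟨⊤, isAffineOpen_top _⟩ *
          Ideal.span {(ι π) ^ μ} := by
        rw [← h8]
        exact Ideal.subset_span (Set.mem_singleton _)
      obtain ⟨a, ha, hae⟩ := Ideal.mem_mul_span_singleton.mp h9
      have h10 := congrArg κ hae
      rw [map_mul, map_pow, hκι, hκι, hfu] at h10
      have h11 : κ a = u := mul_right_cancel₀ (pow_ne_zero μ hπ0) h10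
      have h12 : a = ι u := by
        rw [← h11]; exact (hικ a).symm
      have h13 : IsUnit a := by
        rw [h12]; exact hu.map ι
      exact Ideal.eq_top_of_isUnit_mem _ ha h13
    have h14 := hcpI 1 (by rw [htop]; trivial)
    rw [hcp] at h14
    exact (IsLocalRing.maximalIdeal.isMaximal (OrdVal.V (maximalIdeal A) H)).ne_top
      ((Ideal.eq_top_iff_one _).mpr h14)

end Groth.Agent.Lib.Helper21.RLs
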