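import Mathlib
import Groth.Prelude.Def_W4stkremschemesLRS
import Groth.Agent.Lib.Helper6.LRSClosed

/-!
# Factoring a morphism of locally ringed spaces through a closed immersion

Part A: factoring a morphism of presheaves of rings through a locally surjective one,
when the target is a sheaf (image presheaf + universal property of sheafification).
-/

set_option autoImplicit false
set_option linter.unusedVariables false
set_option linter.unusedSectionVars false
set_option linter.style.longLine false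

universe u

open CategoryTheory Opposite TopologicalSpace AlgebraicGeometry

namespace Groth.Agent.Lib.Helper21.RLt

section PartA

variable {T : TopCat.{u}} {A B C : TopCat.Presheaf CommRingCat.{u} T}

theorem ker_le_comap (α : A ⟶ B) {U V : (Opens T)ᵒᵖ} (h : U ⟶ V) :
    RingHom.ker (α.app U).hom ≤ (RingHom.ker (α.app V).hom).comap (A.map h).hom := by
  intro s hs
  rw [Ideal.mem_comap, RingHom.mem_ker]
  rw [RingHom.mem_ker] at hs
  have h1 : (α.app V).hom ((A.map h).hom s) = (B.map h).hom ((α.app U).hom s) :=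
    ConcreteCategory.congr_hom (α.naturality h) s
  rw [h1, hs, map_zero]

/-- the image presheaf `U ↦ A(U) / ker α_U`. -/
noncomputable def imgP (α : A ⟶ B) : TopCat.Presheaf CommRingCat.{u} T where
  obj U := CommRingCat.of (A.obj U ⧸ RingHom.ker (α.app U).hom)
  map {U V} h := CommRingCat.ofHom
    (Ideal.quotientMap (RingHom.ker (α.app V).hom) (A.map h).hom (ker_le_comap α h))
  map_id U := by
    apply CommRingCat.hom_ext
    apply Ideal.Quotient.ringHom_ext
    apply RingHom.ext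
    intro s
    show Ideal.quotientMap (RingHom.ker (α.app U).hom) (A.map (𝟙 U)).hom (ker_le_comap α (𝟙 U))
      (Ideal.Quotient.mk _ s) = Ideal.Quotient.mk _ s
    rw [Ideal.quotientMap_mk, A.map_id]
    rfl
  map_comp {U V W} h k := by
    apply CommRingCat.hom_ext
    apply Ideal.Quotient.ringHom_ext
    apply RingHom.ext
    intro s
    show Ideal.quotientMap (RingHom.ker (α.app W).hom) (A.map (h ≫ k)).hom
        (ker_le_comap α (h ≫ k)) (Ideal.Quotient.mk _ s) =
      Ideal.quotientMap (RingHom.ker (α.app W).hom) (A.map k).hom (ker_le_comap α k)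
        (Ideal.quotientMap (RingHom.ker (α.app V).hom) (A.map h).hom (ker_le_comap α h)
          (Ideal.Quotient.mk _ s))
    rw [Ideal.quotientMap_mk, Ideal.quotientMap_mk, Ideal.quotientMap_mk, A.map_comp]
    rfl

noncomputable def imgπ (α : A ⟶ B) : A ⟶ imgP α where
  app U := CommRingCat.ofHom (Ideal.Quotient.mk (RingHom.ker (α.app U).hom))
  naturality U V h := by
    apply CommRingCat.hom_ext
    apply RingHom.ext
    intro s
    show Ideal.Quotient.mk (RingHom.ker (α.app V).hom) ((A.map h).hom s) =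
      Ideal.quotientMap (RingHom.ker (α.app V).hom) (A.map h).hom (ker_le_comap α h)
        (Ideal.Quotient.mk _ s)
    rw [Ideal.quotientMap_mk]

noncomputable def imgι (α : A ⟶ B) : imgP α ⟶ B where
  app U := CommRingCat.ofHom (RingHom.kerLift (α.app U).hom)
  naturality U V h := by
    apply CommRingCat.hom_ext
    apply Ideal.Quotient.ringHom_ext
    apply RingHom.ext
    intro s
    show RingHom.kerLift (α.app V).hom
        (Ideal.quotientMap (RingHom.ker (α.app V).hom) (A.map h).hom (ker_le_comap α h)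
          (Ideal.Quotient.mk _ s)) =
      (B.map h).hom (RingHom.kerLift (α.app U).hom (Ideal.Quotient.mk _ s))
    rw [Ideal.quotientMap_mk, RingHom.kerLift_mk, RingHom.kerLift_mk]
    exact ConcreteCategory.congr_hom (α.naturality h) s

theorem imgπ_ι (α : A ⟶ B) : imgπ α ≫ imgι α = α := by
  apply NatTrans.ext
  funext U
  apply CommRingCat.hom_ext
  apply RingHom.ext
  intro s
  show RingHom.kerLift (α.app U).hom (Ideal.Quotient.mk _ s) = (α.app U).hom s
  rw [RingHom.kerLift_mk]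

noncomputable def imgψ (α : A ⟶ B) (β : A ⟶ C)
    (h : ∀ (U : (Opens T)ᵒᵖ) (s : A.obj U), (α.app U).hom s = 0 → (β.app U).hom s = 0) :
    imgP α ⟶ C where
  app U := CommRingCat.ofHom (Ideal.Quotient.lift (RingHom.ker (α.app U).hom) (β.app U).hom
    (fun s hs => h U s ((RingHom.mem_ker).mp hs)))
  naturality U V k := by
    apply CommRingCat.hom_ext
    apply Ideal.Quotient.ringHom_ext
    apply RingHom.ext
    intro s
    show Ideal.Quotient.lift (RingHom.ker (α.app V).hom) (β.app V).hom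
        (fun s hs => h V s ((RingHom.mem_ker).mp hs))
        (Ideal.quotientMap (RingHom.ker (α.app V).hom) (A.map k).hom (ker_le_comap α k)
          (Ideal.Quotient.mk _ s)) =
      (C.map k).hom (Ideal.Quotient.lift (RingHom.ker (α.app U).hom) (β.app U).hom
        (fun s hs => h U s ((RingHom.mem_ker).mp hs)) (Ideal.Quotient.mk _ s))
    rw [Ideal.quotientMap_mk, Ideal.Quotient.lift_mk, Ideal.Quotient.lift_mk]
    exact ConcreteCategory.congr_hom (β.naturality k) s

theorem imgπ_ψ (α : A ⟶ B) (β : A ⟶ C)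
    (h : ∀ (U : (Opens T)ᵒᵖ) (s : A.obj U), (α.app U).hom s = 0 → (β.app U).hom s = 0) :
    imgπ α ≫ imgψ α β h = β := by
  apply NatTrans.ext
  funext U
  apply CommRingCat.hom_ext
  apply RingHom.ext
  intro s
  show Ideal.Quotient.lift (RingHom.ker (α.app U).hom) (β.app U).hom
    (fun s hs => h U s ((RingHom.mem_ker).mp hs)) (Ideal.Quotient.mk _ s) = (β.app U).hom s
  rw [Ideal.Quotient.lift_mk]

theorem exists_fac (α : A ⟶ B) (hα : TopCat.Presheaf.IsLocallySurjective α)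
    (β : A ⟶ C) (hC : C.IsSheaf)
    (h : ∀ (U : (Opens T)ᵒᵖ) (s : A.obj U), (α.app U).hom s = 0 → (β.app U).hom s = 0) :
    ∃ φ : B ⟶ C, α ≫ φ = β := by
  have h1 : Presheaf.IsLocallyInjective (Opens.grothendieckTopology T) (imgι α) :=
    Presheaf.isLocallyInjective_of_injective _ _ (fun U => RingHom.kerLift_injective _)
  have h2 : Presheaf.IsLocallySurjective (Opens.grothendieckTopology T) α := hα
  have h3 : Presheaf.IsLocallySurjective (Opens.grothendieckTopology T) (imgι α) :=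
    Presheaf.isLocallySurjective_of_isLocallySurjective_fac _ (imgπ_ι α)
  have hW : (Opens.grothendieckTopology T).W (imgι α) :=
    GrothendieckTopology.W_of_isLocallyBijective _ (imgι α)
  obtain ⟨φ, hφ⟩ := (hW C hC).2 (imgψ α β h)
  refine ⟨φ, ?_⟩
  have hφ' : imgι α ≫ φ = imgψ α β h := hφ
  rw [← imgπ_ι α, Category.assoc, hφ', imgπ_ψ]

end PartA

section PartB

variable {Zt Xt Yt : TopCat.{u}} (i₀ : Zt ⟶ Xt) (hi : Topology.IsClosedEmbedding i₀)

/-- the largest open of `Xt` whose preimage is `V`. -/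
def bigOpen (V : Opens Zt) : Opens Xt :=
  ⟨(i₀ '' (V : Set Zt)ᶜ)ᶜ, (hi.isClosedMap _ V.isOpen.isClosed_compl).isOpen_compl⟩

theorem map_bigOpen_le (V : Opens Zt) : (Opens.map i₀).obj (bigOpen i₀ hi V) ≤ V := by
  intro z hz
  by_contra hzV
  have h1 : i₀ z ∈ i₀ '' (V : Set Zt)ᶜ := ⟨z, hzV, rfl⟩
  exact hz h1

theorem bigOpen_mono {V' V : Opens Zt} (h : V' ≤ V) : bigOpen i₀ hi V' ≤ bigOpen i₀ hi V := by
  intro x hx hx2
  obtain ⟨z, hz, rfl⟩ := hx2
  exact hx ⟨z, fun hzV' => hz (h hzV'), rfl⟩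

theorem le_bigOpen_map (U : Opens Xt) : U ≤ bigOpen i₀ hi ((Opens.map i₀).obj U) := by
  intro x hx hx2
  obtain ⟨z, hz, rfl⟩ := hx2
  exact hz hx

theorem map_le_map_bigOpen (g₀ : Yt ⟶ Zt) (V : Opens Zt) :
    (Opens.map g₀).obj V ≤ (Opens.map (g₀ ≫ i₀)).obj (bigOpen i₀ hi V) := by
  intro y hy hy2
  obtain ⟨z, hz, hzy⟩ := hy2
  have hzy' : i₀ z = i₀ (g₀ y) := hzy
  have h1 : z = g₀ y := hi.injective hzy'
  rw [h1] at hz
  exact hz hy

theorem comp_aux {D : Type*} [Category D] {a0 a1 a2 a3 b0 b1 b2 b3 : D}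
    (x : a0 ⟶ a1) (y' : a1 ⟶ a3) (y : a0 ⟶ a2) (k1 : a2 ⟶ a3) (φ' : a3 ⟶ b3) (φ : a2 ⟶ b2)
    (k2 : b2 ⟶ b3) (d' : b3 ⟶ b1) (d : b2 ⟶ b0) (e : b0 ⟶ b1)
    (e1 : x ≫ y' = y ≫ k1) (hnat : k1 ≫ φ' = φ ≫ k2) (e2 : k2 ≫ d' = d ≫ e) :
    x ≫ (y' ≫ φ' ≫ d') = (y ≫ φ ≫ d) ≫ e := by
  rw [← Category.assoc x, e1, Category.assoc, ← Category.assoc k1, hnat, Category.assoc, e2]
  simp only [Category.assoc]

theorem comp_aux2 {D : Type*} [Category D] {a0 a2 b2 b0 : D} (b : a0 ⟶ a2) (φL : a2 ⟶ b2)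
    (d : b2 ⟶ b0) (k1 : a2 ⟶ a0) (φU : a0 ⟶ b0) (hnat : k1 ≫ φU = φL ≫ d)
    (hid : b ≫ k1 = 𝟙 a0) : b ≫ φL ≫ d = φU := by
  rw [← hnat, ← Category.assoc, hid, Category.id_comp]

variable (g₀ : Yt ⟶ Zt) (OZ : TopCat.Presheaf CommRingCat.{u} Zt)
  (OY : TopCat.Presheaf CommRingCat.{u} Yt) (φ : i₀ _* OZ ⟶ (g₀ ≫ i₀) _* OY)

/-- component of the transported morphism. -/
noncomputable def transApp (V : Opens Zt) :
    OZ.obj (op V) ⟶ OY.obj (op ((Opens.map g₀).obj V)) :=
  OZ.map (homOfLE (map_bigOpen_le i₀ hi V)).op ≫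
    (φ.app (op (bigOpen i₀ hi V)) :
      OZ.obj (op ((Opens.map i₀).obj (bigOpen i₀ hi V))) ⟶
        OY.obj (op ((Opens.map (g₀ ≫ i₀)).obj (bigOpen i₀ hi V)))) ≫
    OY.map (homOfLE (map_le_map_bigOpen i₀ hi g₀ V)).op

theorem transApp_naturality {V V' : Opens Zt} (hVV : V' ≤ V) :
    OZ.map (homOfLE hVV).op ≫ transApp i₀ hi g₀ OZ OY φ V' =
      transApp i₀ hi g₀ OZ OY φ V ≫ OY.map ((Opens.map g₀).map (homOfLE hVV)).op := by
  have hmono := bigOpen_mono i₀ hi hVV
  have hnat : OZ.map ((Opens.map i₀).map (homOfLE hmono)).op ≫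
      (φ.app (op (bigOpen i₀ hi V')) :
        OZ.obj (op ((Opens.map i₀).obj (bigOpen i₀ hi V'))) ⟶
          OY.obj (op ((Opens.map (g₀ ≫ i₀)).obj (bigOpen i₀ hi V')))) =
      (φ.app (op (bigOpen i₀ hi V)) :
        OZ.obj (op ((Opens.map i₀).obj (bigOpen i₀ hi V))) ⟶
          OY.obj (op ((Opens.map (g₀ ≫ i₀)).obj (bigOpen i₀ hi V)))) ≫
        OY.map ((Opens.map (g₀ ≫ i₀)).map (homOfLE hmono)).op :=
    φ.naturality (homOfLE hmono).op
  have e1 : OZ.map (homOfLE hVV).op ≫ OZ.map (homOfLE (map_bigOpen_le i₀ hi V')).op =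
      OZ.map (homOfLE (map_bigOpen_le i₀ hi V)).op ≫
        OZ.map ((Opens.map i₀).map (homOfLE hmono)).op := by
    rw [← OZ.map_comp, ← OZ.map_comp]
    exact congrArg OZ.map (Subsingleton.elim _ _)
  have e2 : OY.map ((Opens.map (g₀ ≫ i₀)).map (homOfLE hmono)).op ≫
        OY.map (homOfLE (map_le_map_bigOpen i₀ hi g₀ V')).op =
      OY.map (homOfLE (map_le_map_bigOpen i₀ hi g₀ V)).op ≫
        OY.map ((Opens.map g₀).map (homOfLE hVV)).op := by
    rw [← OY.map_comp, ← OY.map_comp]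
    exact congrArg OY.map (Subsingleton.elim _ _)
  exact comp_aux _ _ _ _ _ _ _ _ _ _ e1 hnat e2

theorem transApp_map (U : Opens Xt) :
    transApp i₀ hi g₀ OZ OY φ ((Opens.map i₀).obj U) = φ.app (op U) := by
  have hle := le_bigOpen_map i₀ hi U
  have hnat : OZ.map ((Opens.map i₀).map (homOfLE hle)).op ≫
      (φ.app (op U) : OZ.obj (op ((Opens.map i₀).obj U)) ⟶
        OY.obj (op ((Opens.map (g₀ ≫ i₀)).obj U))) =
      (φ.app (op (bigOpen i₀ hi ((Opens.map i₀).obj U))) :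
        OZ.obj (op ((Opens.map i₀).obj (bigOpen i₀ hi ((Opens.map i₀).obj U)))) ⟶
          OY.obj (op ((Opens.map (g₀ ≫ i₀)).obj (bigOpen i₀ hi ((Opens.map i₀).obj U))))) ≫
        OY.map ((Opens.map (g₀ ≫ i₀)).map (homOfLE hle)).op :=
    φ.naturality (homOfLE hle).op
  have hd : OY.map ((Opens.map (g₀ ≫ i₀)).map (homOfLE hle)).op =
      OY.map (homOfLE (map_le_map_bigOpen i₀ hi g₀ ((Opens.map i₀).obj U))).op :=
    congrArg OY.map (Subsingleton.elim _ _)
  rw [hd] at hnat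
  have hid : OZ.map (homOfLE (map_bigOpen_le i₀ hi ((Opens.map i₀).obj U))).op ≫
      OZ.map ((Opens.map i₀).map (homOfLE hle)).op = 𝟙 _ := by
    rw [← OZ.map_comp]
    have h1 : (homOfLE (map_bigOpen_le i₀ hi ((Opens.map i₀).obj U))).op ≫
        ((Opens.map i₀).map (homOfLE hle)).op = 𝟙 _ := Subsingleton.elim _ _
    rw [h1, OZ.map_id]
  exact comp_aux2 _ _ _ _ _ hnat hid

include hi in
theorem exists_transport :
    ∃ c : OZ ⟶ g₀ _* OY, ∀ U : Opens Xt,
      c.app (op ((Opens.map i₀).obj U)) = φ.app (op U) := by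
  refine ⟨{ app := fun V => transApp i₀ hi g₀ OZ OY φ V.unop
            naturality := ?_ }, ?_⟩
  · intro V V' h
    have h1 : h = (homOfLE (leOfHom h.unop)).op := Subsingleton.elim _ _
    rw [h1]
    exact transApp_naturality i₀ hi g₀ OZ OY φ (leOfHom h.unop)
  · intro U
    exact transApp_map i₀ hi g₀ OZ OY φ U

end PartB

section PartC

variable {Z X Y : LocallyRingedSpace.{u}} (i : Z ⟶ X)

/-- key lemma: the base map is definitionally `g₀ ≫ i.base`. -/
theorem key (hi : LRSImm.IsClosedImmersion i) (g₀ : Y.toTopCat ⟶ Z.toTopCat)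
    (fc : X.presheaf ⟶ (g₀ ≫ i.base) _* Y.presheaf)
    (hyp : ∀ (U : Opens X.toTopCat) (s : X.presheaf.obj (op U)),
      i.c.app (op U) s = 0 → fc.app (op U) s = 0) :
    ∃ gh : Y.toPresheafedSpace ⟶ Z.toPresheafedSpace,
      gh ≫ i.toHom =
        ({ base := g₀ ≫ i.base, c := fc } : Y.toPresheafedSpace ⟶ X.toPresheafedSpace) := by
  have hC : ((g₀ ≫ i.base) _* Y.presheaf).IsSheaf :=
    TopCat.Sheaf.pushforward_sheaf_of_sheaf _ Y.toSheafedSpace.IsSheaf
  obtain ⟨φ, hφ⟩ := exists_fac (A := X.presheaf) (B := i.base _* Z.presheaf)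
    (C := (g₀ ≫ i.base) _* Y.presheaf) i.c hi.2.1 fc hC (fun U s hs => hyp U.unop s hs)
  obtain ⟨c, hc⟩ := exists_transport i.base hi.1 g₀ Z.presheaf Y.presheaf φ
  refine ⟨{ base := g₀, c := c }, ?_⟩
  refine PresheafedSpace.hext _ _ rfl (heq_of_eq ?_)
  apply NatTrans.ext
  funext U
  show i.c.app U ≫ c.app (op ((Opens.map i.base).obj U.unop)) = fc.app U
  rw [hc]
  exact NatTrans.congr_app hφ U

theorem key' (hi : LRSImm.IsClosedImmersion i) (g₀ : Y.toTopCat ⟶ Z.toTopCat)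
    (fb : Y.toTopCat ⟶ X.toTopCat) (hb : g₀ ≫ i.base = fb)
    (fc : X.presheaf ⟶ fb _* Y.presheaf)
    (hyp : ∀ (U : Opens X.toTopCat) (s : X.presheaf.obj (op U)),
      i.c.app (op U) s = 0 → fc.app (op U) s = 0) :
    ∃ gh : Y.toPresheafedSpace ⟶ Z.toPresheafedSpace,
      gh ≫ i.toHom =
        ({ base := fb, c := fc } : Y.toPresheafedSpace ⟶ X.toPresheafedSpace) := by
  subst hb
  exact key i hi g₀ fc hyp

theorem exists_base_preimage (hi : LRSImm.IsClosedImmersion i) (f : Y ⟶ X)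
    (hyp : ∀ (U : Opens X.toTopCat) (s : X.presheaf.obj (op U)),
      i.c.app (op U) s = 0 → f.c.app (op U) s = 0) (y : Y) :
    ∃ z : Z, i.base z = f.base y := by
  by_contra hne
  obtain ⟨U, hU⟩ : ∃ U : Opens X.toTopCat, (U : Set X.toTopCat) = (Set.range i.base)ᶜ :=
    ⟨⟨(Set.range i.base)ᶜ, hi.1.isClosed_range.isOpen_compl⟩, rfl⟩
  have hyU : f.base y ∈ U := by
    show f.base y ∈ (U : Set X.toTopCat)
    rw [hU]
    rintro ⟨z, hz⟩
    exact hne ⟨z, hz⟩
  have hbot : (Opens.map i.base).obj U = ⊥ := by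
    apply le_bot_iff.mp
    intro z hz
    exfalso
    have h1 : i.base z ∈ (U : Set X.toTopCat) := hz
    rw [hU] at h1
    exact h1 ⟨z, rfl⟩
  have hsub := CommRingCat.subsingleton_of_isTerminal (Z.sheaf.isTerminalOfEqEmpty hbot)
  have h1 : i.c.app (op U) 1 = 0 := @Subsingleton.elim _ hsub _ _
  have h2 := hyp U 1 h1
  rw [map_one] at h2
  have h3 : Y.presheaf.germ ((Opens.map f.base).obj U) y hyU
      (1 : Y.presheaf.obj (op ((Opens.map f.base).obj U))) =
      Y.presheaf.germ ((Opens.map f.base).obj U) y hyU 0 := by rw [h2]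
  rw [map_one, map_zero] at h3
  exact one_ne_zero h3

theorem exists_lift (hi : LRSImm.IsClosedImmersion i) (f : Y ⟶ X)
    (hyp : ∀ (U : Opens X.toTopCat) (s : X.presheaf.obj (op U)),
      i.c.app (op U) s = 0 → f.c.app (op U) s = 0) :
    ∃ g : Y ⟶ Z, g ≫ i = f := by
  choose g₁ hg₁ using exists_base_preimage i hi f hyp
  have hind : Topology.IsInducing i.base := hi.1.toIsEmbedding.toIsInducing
  have hcont : Continuous g₁ := by
    refine (Topology.IsInducing.continuous_iff hind).mpr ?_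
    have h : ((i.base : Z.toTopCat → X.toTopCat) ∘ g₁) = (f.base : Y.toTopCat → X.toTopCat) :=
      funext hg₁
    rw [h]
    exact f.base.hom.continuous
  obtain ⟨g₀, hg₀⟩ : ∃ g₀ : Y.toTopCat ⟶ Z.toTopCat, ∀ y, g₀ y = g₁ y :=
    ⟨TopCat.ofHom ⟨g₁, hcont⟩, fun y => rfl⟩
  have hb : g₀ ≫ i.base = f.base := by
    apply ConcreteCategory.hom_ext
    intro y
    show i.base (g₀ y) = f.base y
    rw [hg₀, hg₁]
  obtain ⟨gh, hgh⟩ := key' i hi g₀ f.base hb f.c hyp
  have hc' : gh ≫ i.toHom = f.toHom := hgh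
  have hloc : ∀ y : Y, IsLocalHom (gh.stalkMap y).hom := by
    intro y
    have h1 : IsLocalHom ((gh ≫ i.toHom).stalkMap y).hom := by
      rw [hc']
      exact f.prop y
    rw [PresheafedSpace.stalkMap.comp] at h1
    have hs := Groth.Agent.Lib.Helper6.LRSClosed.stalkMap_surjective_of i hind hi.2.1 (gh.base y)
    constructor
    intro a ha
    obtain ⟨b, rfl⟩ := hs a
    have hb' : IsUnit b := h1.map_nonunit b ha
    exact hb'.map (i.stalkMap (gh.base y)).hom
  exact ⟨⟨gh, hloc⟩, LocallyRingedSpace.Hom.ext' hc'⟩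

theorem eq_zero_of_fac (g : Y ⟶ Z) (U : Opens X.toTopCat) (s : X.presheaf.obj (op U))
    (hs : i.c.app (op U) s = 0) : (g ≫ i).c.app (op U) s = 0 := by
  show g.c.app (op ((Opens.map i.base).obj U)) (i.c.app (op U) s) = 0
  rw [hs, map_zero]

theorem mono_of (hi : LRSImm.IsClosedImmersion i) (g g' : Y ⟶ Z) (h : g ≫ i = g' ≫ i) :
    g = g' := by
  have hind : Topology.IsInducing i.base := hi.1.toIsEmbedding.toIsInducing
  have : Mono i.toShHom := by
    apply SheafedSpace.mono_of_base_injective_of_stalk_epi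
    · exact hi.1.injective
    · intro z
      apply ConcreteCategory.epi_of_surjective
      exact Groth.Agent.Lib.Helper6.LRSClosed.stalkMap_surjective_of i hind hi.2.1 z
  have h2 : g.toShHom ≫ i.toShHom = g'.toShHom ≫ i.toShHom :=
    congrArg LocallyRingedSpace.Hom.toShHom h
  have h3 := (cancel_mono i.toShHom).mp h2
  apply LocallyRingedSpace.Hom.ext'
  exact congrArg InducedCategory.Hom.hom h3

theorem main (hi : LRSImm.IsClosedImmersion i) (f : Y ⟶ X) :
    ((∃ g : Y ⟶ Z, g ≫ i = f) ↔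
      ∀ (U : Opens X.toTopCat) (s : X.presheaf.obj (op U)),
        i.c.app (op U) s = 0 → f.c.app (op U) s = 0) ∧
    ∀ g g' : Y ⟶ Z, g ≫ i = f → g' ≫ i = f → g = g' := by
  refine ⟨⟨?_, ?_⟩, ?_⟩
  · rintro ⟨g, rfl⟩ U s hs
    exact eq_zero_of_fac i g U s hs
  · intro hyp
    exact exists_lift i hi f hyp
  · intro g g' h1 h2
    exact mono_of i hi g g' (h1.trans h2.symm)

end PartC

end Groth.Agent.Lib.Helper21.RLt
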