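import Mathlib
import Groth.Prelude.Def_Frob
import Groth.Agent.Lib.Helper28.IdealComap

/-!
# Frobenius-twisted correspondences are contracting near invariant closed subschemes

The geometric Frobenius `Fr` of `C = C₀ ×_{k₀} Spec K` factors as `σ ≫ F^m`, with `F` the absolute
Frobenius of `C` and `σ` induced by the inverse of the `p^m`-Frobenius of `K`.  Hence every local
generator of the inverse image ideal along `Fr ≫ c₁` is a `p^m`-th power.
-/

set_option autoImplicit false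
set_option linter.unusedVariables false
set_option linter.unusedSectionVars false
set_option linter.style.longLine false
set_option linter.style.haveILetI false

universe u

open CategoryTheory CategoryTheory.Limits Opposite TopologicalSpace AlgebraicGeometry

namespace Groth.Agent.Lib.Helper21.RLu

/-- `F` is the identity on points and raises sections to the `q`-th power. -/
structure IsPowMap (q : ℕ) {C : Scheme.{u}} (F : C ⟶ C) : Prop where
  base : ∀ x : C, F.base x = x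
  appLE : ∀ (V W : C.Opens) (e : W ≤ F ⁻¹ᵁ V) (e' : W ≤ V) (a : Γ(C, V)),
    (F.appLE V W e).hom a = ((C.presheaf.map (homOfLE e').op).hom a) ^ q
  appTop : ∀ a : Γ(C, ⊤), F.appTop.hom a = a ^ q

theorem isPowMap_id (C : Scheme.{u}) : IsPowMap 1 (𝟙 C) where
  base x := rfl
  appLE V W e e' a := by
    rw [pow_one]
    rfl
  appTop a := by
    rw [pow_one]
    rfl

theorem isPowMap_frob (C : Scheme.{u}) (p : ℕ) [Fact p.Prime] [FrobSch.IsCharP C p] :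
    IsPowMap p (FrobSch.frob C p) where
  base x := rfl
  appLE V W e e' a := by
    show (C.presheaf.map (homOfLE e').op).hom (a ^ p) = _
    rw [map_pow]
  appTop a := rfl

theorem isPowMap_comp {C : Scheme.{u}} {F G : C ⟶ C} {q q' : ℕ} (hG : IsPowMap q G)
    (hF : IsPowMap q' F) : IsPowMap (q * q') (F ≫ G) where
  base x := by
    show G.base (F.base x) = x
    rw [hF.base, hG.base]
  appLE V W e e' a := by
    have e₁ : W ≤ G ⁻¹ᵁ V := fun y hy => by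
      show G.base y ∈ V
      rw [hG.base]; exact e' hy
    have e₂ : W ≤ F ⁻¹ᵁ W := fun y hy => by
      show F.base y ∈ W
      rw [hF.base]; exact hy
    have h2 : (F ≫ G).appLE V W e = G.appLE V W e₁ ≫ F.appLE W W e₂ :=
      (Scheme.Hom.appLE_comp_appLE F G V W W e₁ e₂).symm
    rw [h2]
    show (F.appLE W W e₂).hom ((G.appLE V W e₁).hom a) = _
    have h4 : ∀ b : Γ(C, W), (C.presheaf.map (homOfLE (le_refl W)).op).hom b = b := by
      intro b
      have h5 : (homOfLE (le_refl W)).op = 𝟙 (op W) := Subsingleton.elim _ _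
      rw [h5, C.presheaf.map_id]
      rfl
    rw [hG.appLE V W e₁ e' a, map_pow, hF.appLE W W e₂ le_rfl, h4, ← pow_mul, Nat.mul_comm]
  appTop a := by
    show F.appTop.hom (G.appTop.hom a) = _
    rw [hG.appTop, map_pow, hF.appTop, ← pow_mul, Nat.mul_comm]

theorem asHom_pow_succ {C : Scheme.{u}} (F : C ⟶ C) (m : ℕ) :
    End.asHom (End.of F ^ (m + 1)) = F ≫ End.asHom (End.of F ^ m) := by
  rw [pow_succ]
  rfl

theorem isPowMap_iter (C : Scheme.{u}) (p : ℕ) [Fact p.Prime] [FrobSch.IsCharP C p] (m : ℕ) :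
    IsPowMap (p ^ m) (End.asHom (End.of (FrobSch.frob C p) ^ m)) := by
  induction m with
  | zero =>
    rw [pow_zero, pow_zero]
    exact isPowMap_id C
  | succ m ih =>
    rw [asHom_pow_succ, pow_succ]
    exact isPowMap_comp ih (isPowMap_frob C p)

theorem iter_comp {X Y : Scheme.{u}} (p : ℕ) [Fact p.Prime] [FrobSch.IsCharP X p]
    [FrobSch.IsCharP Y p] (f : X ⟶ Y) (m : ℕ) :
    End.asHom (End.of (FrobSch.frob X p) ^ m) ≫ f =
      f ≫ End.asHom (End.of (FrobSch.frob Y p) ^ m) := by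
  induction m with
  | zero =>
    rw [pow_zero, pow_zero]
    exact (Category.id_comp f).trans (Category.comp_id f).symm
  | succ m ih =>
    rw [asHom_pow_succ, asHom_pow_succ, Category.assoc, ih, ← Category.assoc, FrobSch.frob_comp,
      Category.assoc]

theorem ΓSpecIso_hom_injective (R : CommRingCat.{u}) :
    Function.Injective (Scheme.ΓSpecIso R).hom.hom :=
  (ConcreteCategory.bijective_of_isIso (Scheme.ΓSpecIso R).hom).1

theorem exists_sigma (p : ℕ) [Fact p.Prime]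
    (k₀ : Type u) [Field k₀] [Fintype k₀] [CharP k₀ p] (e : ℕ) (hq : Fintype.card k₀ = p ^ e)
    (K : Type u) [Field K] [Algebra k₀ K] [IsAlgClosure k₀ K]
    {C C₀ : Scheme.{u}} (f₀ : C₀ ⟶ Spec (CommRingCat.of k₀)) [FrobSch.IsCharP C₀ p]
    [FrobSch.IsCharP C p]
    (πC₀ : C ⟶ C₀) (πK : C ⟶ Spec (CommRingCat.of K))
    (hC : IsPullback πC₀ πK f₀ (Spec.map (CommRingCat.ofHom (algebraMap k₀ K))))
    (n : ℕ) (Fr : C ⟶ C)
    (hFr₀ : Fr ≫ πC₀ = πC₀ ≫ End.asHom (End.of (FrobSch.frob C₀ p) ^ (e * n)))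
    (hFrK : Fr ≫ πK = πK) :
    ∃ σ : C ⟶ C, Fr = σ ≫ End.asHom (End.of (FrobSch.frob C p) ^ (e * n)) := by
  haveI : CharP K p := charP_of_injective_algebraMap (algebraMap k₀ K).injective p
  haveI : IsAlgClosed K := IsAlgClosure.isAlgClosed k₀
  haveI : ExpChar K p := ExpChar.prime Fact.out
  haveI : PerfectRing K p := PerfectField.toPerfectRing p
  obtain ⟨ψ, hψ1, hψ2⟩ : ∃ ψ : K →+* K, (∀ x, (ψ x) ^ (p ^ (e * n)) = x) ∧
      (∀ a : k₀, ψ (algebraMap k₀ K a) = algebraMap k₀ K a) := by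
    refine ⟨((iterateFrobeniusEquiv K p (e * n)).symm : K ≃+* K).toRingHom, ?_, ?_⟩
    · intro x
      have h1 := (iterateFrobeniusEquiv K p (e * n)).apply_symm_apply x
      rw [iterateFrobeniusEquiv_def] at h1
      exact h1
    · intro a
      have h1 : algebraMap k₀ K a = iterateFrobeniusEquiv K p (e * n) (algebraMap k₀ K a) := by
        rw [iterateFrobeniusEquiv_def, ← map_pow, pow_mul, ← hq, FiniteField.pow_card_pow]
      show (iterateFrobeniusEquiv K p (e * n)).symm (algebraMap k₀ K a) = algebraMap k₀ K a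
      conv_lhs => rw [h1]
      exact (iterateFrobeniusEquiv K p (e * n)).symm_apply_apply _
  have hψalg : ψ.comp (algebraMap k₀ K) = algebraMap k₀ K := RingHom.ext hψ2
  obtain ⟨σ, hσ0, hσK⟩ : ∃ σ : C ⟶ C, σ ≫ πC₀ = πC₀ ∧
      σ ≫ πK = πK ≫ Spec.map (CommRingCat.ofHom ψ) := by
    have hw : πC₀ ≫ f₀ = (πK ≫ Spec.map (CommRingCat.ofHom ψ)) ≫
        Spec.map (CommRingCat.ofHom (algebraMap k₀ K)) := by
      rw [Category.assoc, ← Spec.map_comp, ← CommRingCat.ofHom_comp, hψalg]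
      exact hC.w
    exact ⟨hC.lift _ _ hw, hC.lift_fst _ _ hw, hC.lift_snd _ _ hw⟩
  refine ⟨σ, ?_⟩
  apply hC.hom_ext
  · rw [hFr₀, Category.assoc, iter_comp p πC₀ (e * n), ← Category.assoc, hσ0]
  · rw [hFrK]
    symm
    apply ext_of_isAffine
    apply CommRingCat.hom_ext
    apply RingHom.ext
    intro r
    show σ.appTop.hom ((End.asHom (End.of (FrobSch.frob C p) ^ (e * n))).appTop.hom
      (πK.appTop.hom r)) = πK.appTop.hom r
    rw [(isPowMap_iter C p (e * n)).appTop, map_pow]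
    have h1 : σ.appTop.hom (πK.appTop.hom r) =
        πK.appTop.hom ((Spec.map (CommRingCat.ofHom ψ)).appTop.hom r) :=
      congrArg (fun g : C ⟶ Spec (CommRingCat.of K) => g.appTop.hom r) hσK
    rw [h1, ← map_pow]
    refine congrArg _ ?_
    apply ΓSpecIso_hom_injective
    rw [map_pow]
    have h2 : (Scheme.ΓSpecIso (CommRingCat.of K)).hom.hom
        ((Spec.map (CommRingCat.ofHom ψ)).appTop.hom r) =
        ψ ((Scheme.ΓSpecIso (CommRingCat.of K)).hom.hom r) :=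
      ConcreteCategory.congr_hom (Scheme.ΓSpecIso_naturality (CommRingCat.ofHom ψ)) r
    rw [h2, hψ1]

theorem coreA {C X : Scheme.{u}} (σ F : C ⟶ C) (q : ℕ) (hF : IsPowMap q F)
    (c₁ c₂ : C ⟶ X) (G : C ⟶ X) (hG : G = (σ ≫ F) ≫ c₁) (I : X.IdealSheafData) (d : ℕ)
    (hd : (I.comap c₂).radical ^ d ≤ I.comap c₂) (hn : d < q)
    (hinv : G.base '' (c₂.base ⁻¹' (I.support : Set X)) ⊆ (I.support : Set X)) :
    I.comap G ≤ I.comap c₂ ∧ I.comap G ^ d ≤ I.comap c₂ ^ (d + 1) := by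
  obtain ⟨L, hL⟩ : ∃ L : C.IdealSheafData, L = I.comap G := ⟨_, rfl⟩
  obtain ⟨J, hJ⟩ : ∃ J : C.IdealSheafData, J = I.comap c₂ := ⟨_, rfl⟩
  rw [← hL, ← hJ]
  rw [← hJ] at hd
  have hLR : L ≤ J.radical := by
    rw [← Scheme.IdealSheafData.vanishingIdeal_support,
      ← Scheme.IdealSheafData.le_support_iff_le_vanishingIdeal]
    intro x hx
    have hx' : x ∈ (J.support : Set C) := hx
    rw [hJ, Scheme.IdealSheafData.support_comap] at hx'
    show x ∈ (L.support : Set C)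
    rw [hL, Scheme.IdealSheafData.support_comap]
    exact hinv ⟨x, hx', rfl⟩
  have hloc : ∀ x : C, ∃ W : C.affineOpens, x ∈ W.1 ∧
      L.ideal W ≤ (J.radical.ideal W) ^ q := by
    intro x
    obtain ⟨_, ⟨U, hU, rfl⟩, hxU, -⟩ := X.isBasis_affineOpens.exists_subset_of_mem_open
      (Set.mem_univ (G.base x)) isOpen_univ
    obtain ⟨_, ⟨W, hW, rfl⟩, hxW, hWU⟩ := C.isBasis_affineOpens.exists_subset_of_mem_open
      (show x ∈ ((G ⁻¹ᵁ U : C.Opens) : Set C) from hxU) (G ⁻¹ᵁ U).isOpen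
    refine ⟨⟨W, hW⟩, hxW, ?_⟩
    have hWU' : W ≤ G ⁻¹ᵁ U := hWU
    have hLW : L.ideal ⟨W, hW⟩ = (I.ideal ⟨U, hU⟩).map (G.appLE U W hWU').hom := by
      rw [hL]
      exact Groth.Agent.Lib.Helper28.ideal_comap_of_le I G ⟨U, hU⟩ ⟨W, hW⟩ hWU'
    rw [hLW, Ideal.map_le_iff_le_comap]
    intro s hs
    rw [Ideal.mem_comap]
    have hgL : (G.appLE U W hWU').hom s ∈ L.ideal ⟨W, hW⟩ := by
      rw [hLW]
      exact Ideal.mem_map_of_mem _ hs
    subst hG
    obtain ⟨V₁, hV₁⟩ : ∃ V₁ : C.Opens, V₁ = c₁ ⁻¹ᵁ U := ⟨_, rfl⟩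
    obtain ⟨V₂, hV₂⟩ : ∃ V₂ : C.Opens, V₂ = F ⁻¹ᵁ V₁ := ⟨_, rfl⟩
    have e₁ : V₁ ≤ c₁ ⁻¹ᵁ U := hV₁.le
    have e₂ : V₂ ≤ F ⁻¹ᵁ V₁ := hV₂.le
    have e₃ : W ≤ σ ⁻¹ᵁ V₂ := by
      rw [hV₂, hV₁]
      exact hWU'
    have eV : V₂ ≤ V₁ := by
      intro y hy
      have h2 : F.base y ∈ V₁ := e₂ hy
      rw [hF.base y] at h2
      exact h2
    have hdecomp : ((σ ≫ F) ≫ c₁).appLE U W hWU' =
        c₁.appLE U V₁ e₁ ≫ F.appLE V₁ V₂ e₂ ≫ σ.appLE V₂ W e₃ := by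
      rw [Scheme.Hom.appLE_comp_appLE, Scheme.Hom.appLE_comp_appLE]
    obtain ⟨a, ha⟩ : ∃ a : Γ(C, V₁), a = (c₁.appLE U V₁ e₁).hom s := ⟨_, rfl⟩
    have hb : (F.appLE V₁ V₂ e₂).hom a = ((C.presheaf.map (homOfLE eV).op).hom a) ^ q :=
      hF.appLE V₁ V₂ e₂ eV a
    obtain ⟨t, ht⟩ : ∃ t : Γ(C, W),
        t = (σ.appLE V₂ W e₃).hom ((C.presheaf.map (homOfLE eV).op).hom a) := ⟨_, rfl⟩
    have hgt : (((σ ≫ F) ≫ c₁).appLE U W hWU').hom s = t ^ q := by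
      rw [hdecomp]
      show (σ.appLE V₂ W e₃).hom ((F.appLE V₁ V₂ e₂).hom ((c₁.appLE U V₁ e₁).hom s)) = t ^ q
      rw [← ha, hb, map_pow, ← ht]
    have htR : t ∈ J.radical.ideal ⟨W, hW⟩ := by
      have h1 : t ^ q ∈ J.radical.ideal ⟨W, hW⟩ := by
        rw [← hgt]
        exact (Scheme.IdealSheafData.le_def.mp hLR ⟨W, hW⟩) hgL
      rw [Scheme.IdealSheafData.radical_ideal] at h1 ⊢
      exact Ideal.mem_radical_of_pow_mem h1
    rw [hgt]
    exact Ideal.pow_mem_pow htR q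
  choose W hxW hW using hloc
  have hcov : ⨆ x, (W x).1 = ⊤ := by
    rw [eq_top_iff]
    intro x _
    exact Opens.mem_iSup.2 ⟨x, hxW x⟩
  have hRd : ∀ x, (J.radical.ideal (W x)) ^ d ≤ J.ideal (W x) := by
    intro x
    have h1 := Scheme.IdealSheafData.le_def.mp hd (W x)
    rw [Scheme.IdealSheafData.ideal_pow, Pi.pow_apply] at h1
    exact h1
  constructor
  · apply Scheme.IdealSheafData.le_of_iSup_eq_top W hcov
    intro x
    calc L.ideal (W x) ≤ (J.radical.ideal (W x)) ^ q := hW x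
      _ ≤ (J.radical.ideal (W x)) ^ d := Ideal.pow_le_pow_right hn.le
      _ ≤ J.ideal (W x) := hRd x
  · apply Scheme.IdealSheafData.le_of_iSup_eq_top W hcov
    intro x
    rw [Scheme.IdealSheafData.ideal_pow, Pi.pow_apply, Scheme.IdealSheafData.ideal_pow,
      Pi.pow_apply]
    have hexp : d * (d + 1) ≤ q * d := by
      have h1 := Nat.mul_le_mul_right d (Nat.succ_le_of_lt hn)
      have h2 : d * (d + 1) = (d + 1) * d := Nat.mul_comm _ _
      rw [h2]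
      exact h1
    calc (L.ideal (W x)) ^ d ≤ ((J.radical.ideal (W x)) ^ q) ^ d :=
          Ideal.pow_right_mono (hW x) d
      _ = (J.radical.ideal (W x)) ^ (q * d) := (pow_mul _ _ _).symm
      _ ≤ (J.radical.ideal (W x)) ^ (d * (d + 1)) := Ideal.pow_le_pow_right hexp
      _ = ((J.radical.ideal (W x)) ^ d) ^ (d + 1) := pow_mul _ _ _
      _ ≤ (J.ideal (W x)) ^ (d + 1) := Ideal.pow_right_mono (hRd x) (d + 1)

theorem main18396 {C C₀ X : Scheme.{u}} (p : ℕ) [Fact p.Prime]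
    (k₀ : Type u) [Field k₀] [Fintype k₀] [CharP k₀ p] (e : ℕ) (hq : Fintype.card k₀ = p ^ e)
    (K : Type u) [Field K] [Algebra k₀ K] [IsAlgClosure k₀ K]
    (f₀ : C₀ ⟶ Spec (CommRingCat.of k₀)) [FrobSch.IsCharP C₀ p]
    (πC₀ : C ⟶ C₀) (πK : C ⟶ Spec (CommRingCat.of K))
    (hC : IsPullback πC₀ πK f₀ (Spec.map (CommRingCat.ofHom (algebraMap k₀ K))))
    (n : ℕ) (Fr : C ⟶ C)
    (hFr₀ : Fr ≫ πC₀ = πC₀ ≫ End.asHom (End.of (FrobSch.frob C₀ p) ^ (e * n)))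
    (hFrK : Fr ≫ πK = πK)
    (c₁ c₂ : C ⟶ X) (I : X.IdealSheafData) (d : ℕ)
    (hd : (I.comap c₂).radical ^ d ≤ I.comap c₂) (hn : d < p ^ (e * n))
    (hinv : (Fr ≫ c₁).base '' (c₂.base ⁻¹' (I.support : Set X)) ⊆ (I.support : Set X)) :
    I.comap (Fr ≫ c₁) ≤ I.comap c₂ ∧ I.comap (Fr ≫ c₁) ^ d ≤ I.comap c₂ ^ (d + 1) := by
  haveI : FrobSch.IsCharP C p := FrobSch.IsCharP.of_hom πC₀ p
  obtain ⟨σ, hσ⟩ := exists_sigma p k₀ e hq K f₀ πC₀ πK hC n Fr hFr₀ hFrK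
  exact coreA σ (End.asHom (End.of (FrobSch.frob C p) ^ (e * n))) (p ^ (e * n))
    (isPowMap_iter C p (e * n)) c₁ c₂ (Fr ≫ c₁) (by rw [hσ]) I d hd hn hinv

theorem main18398 {C C₀ X X₀ : Scheme.{u}} (p : ℕ)
    [Fact p.Prime] (k₀ : Type u) [Field k₀] [Fintype k₀] [CharP k₀ p] (e : ℕ)
    (hq : Fintype.card k₀ = p ^ e) (K : Type u) [Field K] [Algebra k₀ K] [IsAlgClosure k₀ K]
    (f₀ : C₀ ⟶ Spec (CommRingCat.of k₀)) [FrobSch.IsCharP C₀ p]
    (πC₀ : C ⟶ C₀) (πK : C ⟶ Spec (CommRingCat.of K))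
    (hC : IsPullback πC₀ πK f₀ (Spec.map (CommRingCat.ofHom (algebraMap k₀ K))))
    (n : ℕ) (Fr : C ⟶ C)
    (hFr₀ : Fr ≫ πC₀ = πC₀ ≫ End.asHom (End.of (FrobSch.frob C₀ p) ^ (e * n)))
    (hFrK : Fr ≫ πK = πK)
    (πX₀ : X ⟶ X₀) (c₁ c₂ : C ⟶ X) (c₁₀ : C₀ ⟶ X₀) (hc₁₀ : c₁ ≫ πX₀ = πC₀ ≫ c₁₀)
    (I₀ : X₀.IdealSheafData) (d : ℕ)
    (hd : ((I₀.comap πX₀).comap c₂).radical ^ d ≤ (I₀.comap πX₀).comap c₂) (hn : d < p ^ (e * n))
    (hinv : c₁.base '' (c₂.base ⁻¹' ((I₀.comap πX₀).support : Set X)) ⊆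
      ((I₀.comap πX₀).support : Set X)) :
    (I₀.comap πX₀).comap (Fr ≫ c₁) ≤ (I₀.comap πX₀).comap c₂ ∧
      (I₀.comap πX₀).comap (Fr ≫ c₁) ^ d ≤ (I₀.comap πX₀).comap c₂ ^ (d + 1) := by
  refine main18396 p k₀ e hq K f₀ πC₀ πK hC n Fr hFr₀ hFrK c₁ c₂ (I₀.comap πX₀) d hd hn ?_
  rintro _ ⟨x, hx, rfl⟩
  have h1 : c₁.base x ∈ ((I₀.comap πX₀).support : Set X) := hinv ⟨x, hx, rfl⟩
  have h2 : πX₀.base ((Fr ≫ c₁).base x) = πX₀.base (c₁.base x) := by
    have e1 : πX₀.base (c₁.base (Fr.base x)) = c₁₀.base (πC₀.base (Fr.base x)) :=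
      congrArg (fun g : C ⟶ X₀ => g.base (Fr.base x)) hc₁₀
    have e2 : πC₀.base (Fr.base x) =
        (End.asHom (End.of (FrobSch.frob C₀ p) ^ (e * n))).base (πC₀.base x) :=
      congrArg (fun g : C ⟶ C₀ => g.base x) hFr₀
    have e3 := (isPowMap_iter C₀ p (e * n)).base (πC₀.base x)
    have e4 : πX₀.base (c₁.base x) = c₁₀.base (πC₀.base x) :=
      congrArg (fun g : C ⟶ X₀ => g.base x) hc₁₀
    show πX₀.base (c₁.base (Fr.base x)) = _
    rw [e1, e2, e3, e4]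
  rw [Scheme.IdealSheafData.support_comap] at h1 ⊢
  show πX₀.base ((Fr ≫ c₁).base x) ∈ (I₀.support : Set X₀)
  rw [h2]
  exact h1

end Groth.Agent.Lib.Helper21.RLu
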