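import Mathlib
import Groth.Prelude.Def_Frob
import Groth.Agent.Lib.Helper28.IdealComap
import Groth.Agent.Lib.Helper6.IdealComap
import Groth.Agent.Lib.Helper21.RLu

/-!
# Frobenius-twisted correspondences are contracting near closed points, in a neighbourhood of the
fixed points
-/

set_option autoImplicit false
set_option linter.unusedVariables false
set_option linter.unusedSectionVars false
set_option linter.style.longLine false
set_option linter.style.haveILetI false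

universe u

open CategoryTheory CategoryTheory.Limits Opposite TopologicalSpace AlgebraicGeometry

namespace Groth.Agent.Lib.Helper21.RLv

open Groth.Agent.Lib.Helper21.RLu

theorem radical_comap_of_isOpenImmersion {X Y : Scheme.{u}} (J : Y.IdealSheafData) (f : X ⟶ Y)
    [IsOpenImmersion f] : J.radical.comap f = (J.comap f).radical := by
  apply Scheme.IdealSheafData.ext
  funext U
  rw [Scheme.IdealSheafData.ideal_comap_of_isOpenImmersion, Scheme.IdealSheafData.radical_ideal,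
    Scheme.IdealSheafData.radical_ideal, Scheme.IdealSheafData.ideal_comap_of_isOpenImmersion,
    Ideal.comap_radical]

/-- generalisation of `RLu.coreA`: the first map `σ` may start from another scheme. -/
theorem coreB {C' C X : Scheme.{u}} (σ : C' ⟶ C) (F : C ⟶ C) (q : ℕ) (hF : IsPowMap q F)
    (c₁ : C ⟶ X) (c₂ : C' ⟶ X) (G : C' ⟶ X) (hG : G = (σ ≫ F) ≫ c₁) (I : X.IdealSheafData)
    (d : ℕ) (hd : (I.comap c₂).radical ^ d ≤ I.comap c₂) (hn : d < q)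
    (hinv : G.base '' (c₂.base ⁻¹' (I.support : Set X)) ⊆ (I.support : Set X)) :
    I.comap G ≤ I.comap c₂ ∧ I.comap G ^ d ≤ I.comap c₂ ^ (d + 1) := by
  obtain ⟨L, hL⟩ : ∃ L : C'.IdealSheafData, L = I.comap G := ⟨_, rfl⟩
  obtain ⟨J, hJ⟩ : ∃ J : C'.IdealSheafData, J = I.comap c₂ := ⟨_, rfl⟩
  rw [← hL, ← hJ]
  rw [← hJ] at hd
  have hLR : L ≤ J.radical := by
    rw [← Scheme.IdealSheafData.vanishingIdeal_support,
      ← Scheme.IdealSheafData.le_support_iff_le_vanishingIdeal]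
    intro x hx
    have hx' : x ∈ (J.support : Set C') := hx
    rw [hJ, Scheme.IdealSheafData.support_comap] at hx'
    show x ∈ (L.support : Set C')
    rw [hL, Scheme.IdealSheafData.support_comap]
    exact hinv ⟨x, hx', rfl⟩
  have hloc : ∀ x : C', ∃ W : C'.affineOpens, x ∈ W.1 ∧
      L.ideal W ≤ (J.radical.ideal W) ^ q := by
    intro x
    obtain ⟨_, ⟨U, hU, rfl⟩, hxU, -⟩ := X.isBasis_affineOpens.exists_subset_of_mem_open
      (Set.mem_univ (G.base x)) isOpen_univ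
    obtain ⟨_, ⟨W, hW, rfl⟩, hxW, hWU⟩ := C'.isBasis_affineOpens.exists_subset_of_mem_open
      (show x ∈ ((G ⁻¹ᵁ U : C'.Opens) : Set C') from hxU) (G ⁻¹ᵁ U).isOpen
    refine ⟨⟨W, hW⟩, hxW, ?_⟩
    have hWU' : W ≤ G ⁻¹ᵁ U := hWU
    have hLW : L.ideal ⟨W, hW⟩ = (I.ideal ⟨U, hU⟩).map (G.appLE U W hWU').hom := by
      rw [hL]
      exact Groth.Agent.Lib.Helper28.ideal_comap_of_le I G ⟨U, hU⟩ ⟨W, hW⟩ hWU'
    rw [hLW, Ideal.map_le_iff_le_comap]
    intro s hs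
    rw [Ideal.mem_comap]
    have hgL : (G.appLE U W hWU').hom s ∈ L.ideal ⟨W, hW⟩ := by
      rw [hLW]
      exact Ideal.mem_map_of_mem _ hs
    subst hG
    obtain ⟨V₁, hV₁⟩ : ∃ V₁ : C.Opens, V₁ = c₁ ⁻¹ᵁ U := ⟨_, rfl⟩
    obtain ⟨V₂, hV₂⟩ : ∃ V₂ : C.Opens, V₂ = F ⁻¹ᵁ V₁ := ⟨_, rfl⟩
    have e₁ : V₁ ≤ c₁ ⁻¹ᵁ U := hV₁.le
    have e₂ : V₂ ≤ F ⁻¹ᵁ V₁ := hV₂.le
    have e₃ : W ≤ σ ⁻¹ᵁ V₂ := by
      rw [hV₂, hV₁]
      exact hWU'
    have eV : V₂ ≤ V₁ := by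
      intro y hy
      have h2 : F.base y ∈ V₁ := e₂ hy
      rw [hF.base y] at h2
      exact h2
    have hdecomp : ((σ ≫ F) ≫ c₁).appLE U W hWU' =
        c₁.appLE U V₁ e₁ ≫ F.appLE V₁ V₂ e₂ ≫ σ.appLE V₂ W e₃ := by
      rw [Scheme.Hom.appLE_comp_appLE, Scheme.Hom.appLE_comp_appLE]
    obtain ⟨a, ha⟩ : ∃ a : Γ(C, V₁), a = (c₁.appLE U V₁ e₁).hom s := ⟨_, rfl⟩
    have hb : (F.appLE V₁ V₂ e₂).hom a = ((C.presheaf.map (homOfLE eV).op).hom a) ^ q :=
      hF.appLE V₁ V₂ e₂ eV a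
    obtain ⟨t, ht⟩ : ∃ t : Γ(C', W),
        t = (σ.appLE V₂ W e₃).hom ((C.presheaf.map (homOfLE eV).op).hom a) := ⟨_, rfl⟩
    have hgt : (((σ ≫ F) ≫ c₁).appLE U W hWU').hom s = t ^ q := by
      rw [hdecomp]
      show (σ.appLE V₂ W e₃).hom ((F.appLE V₁ V₂ e₂).hom ((c₁.appLE U V₁ e₁).hom s)) = t ^ q
      rw [← ha, hb, map_pow, ← ht]
    have htR : t ∈ J.radical.ideal ⟨W, hW⟩ := by
      have h1 : t ^ q ∈ J.radical.ideal ⟨W, hW⟩ := by
        rw [← hgt]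
        exact (Scheme.IdealSheafData.le_def.mp hLR ⟨W, hW⟩) hgL
      rw [Scheme.IdealSheafData.radical_ideal] at h1 ⊢
      exact Ideal.mem_radical_of_pow_mem h1
    rw [hgt]
    exact Ideal.pow_mem_pow htR q
  choose W hxW hW using hloc
  have hcov : ⨆ x, (W x).1 = ⊤ := by
    rw [eq_top_iff]
    intro x _
    exact Opens.mem_iSup.2 ⟨x, hxW x⟩
  have hRd : ∀ x, (J.radical.ideal (W x)) ^ d ≤ J.ideal (W x) := by
    intro x
    have h1 := Scheme.IdealSheafData.le_def.mp hd (W x)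
    rw [Scheme.IdealSheafData.ideal_pow, Pi.pow_apply] at h1
    exact h1
  constructor
  · apply Scheme.IdealSheafData.le_of_iSup_eq_top W hcov
    intro x
    calc L.ideal (W x) ≤ (J.radical.ideal (W x)) ^ q := hW x
      _ ≤ (J.radical.ideal (W x)) ^ d := Ideal.pow_le_pow_right hn.le
      _ ≤ J.ideal (W x) := hRd x
  · apply Scheme.IdealSheafData.le_of_iSup_eq_top W hcov
    intro x
    rw [Scheme.IdealSheafData.ideal_pow, Pi.pow_apply, Scheme.IdealSheafData.ideal_pow,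
      Pi.pow_apply]
    have hexp : d * (d + 1) ≤ q * d := by
      have h1 := Nat.mul_le_mul_right d (Nat.succ_le_of_lt hn)
      have h2 : d * (d + 1) = (d + 1) * d := Nat.mul_comm _ _
      rw [h2]
      exact h1
    calc (L.ideal (W x)) ^ d ≤ ((J.radical.ideal (W x)) ^ q) ^ d :=
          Ideal.pow_right_mono (hW x) d
      _ = (J.radical.ideal (W x)) ^ (q * d) := (pow_mul _ _ _).symm
      _ ≤ (J.radical.ideal (W x)) ^ (d * (d + 1)) := Ideal.pow_le_pow_right hexp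
      _ = ((J.radical.ideal (W x)) ^ d) ^ (d + 1) := pow_mul _ _ _
      _ ≤ (J.ideal (W x)) ^ (d + 1) := Ideal.pow_right_mono (hRd x) (d + 1)

theorem main18397 {C C₀ X : Scheme.{u}}
    (p : ℕ) [Fact p.Prime] (k₀ : Type u) [Field k₀] [Fintype k₀] [CharP k₀ p] (e : ℕ)
    (hq : Fintype.card k₀ = p ^ e) (K : Type u) [Field K] [Algebra k₀ K] [IsAlgClosure k₀ K]
    (f₀ : C₀ ⟶ Spec (CommRingCat.of k₀)) [FrobSch.IsCharP C₀ p]
    (πC₀ : C ⟶ C₀) (πK : C ⟶ Spec (CommRingCat.of K))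
    (hC : IsPullback πC₀ πK f₀ (Spec.map (CommRingCat.ofHom (algebraMap k₀ K))))
    (n : ℕ) (Fr : C ⟶ C)
    (hFr₀ : Fr ≫ πC₀ = πC₀ ≫ End.asHom (End.of (FrobSch.frob C₀ p) ^ (e * n)))
    (hFrK : Fr ≫ πK = πK)
    (pX : X ⟶ Spec (CommRingCat.of K))
    (c₁ c₂ : C ⟶ X) [LocallyQuasiFinite c₂]
    (hcomm : (Fr ≫ c₁) ≫ pX = c₂ ≫ pX) (d : ℕ) (hn : d < p ^ (e * n))
    (x : X) (hx : IsClosed ({x} : Set X))
    (hd : ((Scheme.IdealSheafData.vanishingIdeal ⟨{x}, hx⟩).comap c₂).radical ^ d ≤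
        (Scheme.IdealSheafData.vanishingIdeal ⟨{x}, hx⟩).comap c₂) :
    ∃ W : C.Opens,
      (pullback.lift (Fr ≫ c₁) c₂ hcomm).base ⁻¹' Set.range (pullback.diagonal pX).base ⊆ (W : Set C) ∧
      (Scheme.IdealSheafData.vanishingIdeal ⟨{x}, hx⟩).comap (W.ι ≫ Fr ≫ c₁) ≤
        (Scheme.IdealSheafData.vanishingIdeal ⟨{x}, hx⟩).comap (W.ι ≫ c₂) ∧
      ∃ k : ℕ, (Scheme.IdealSheafData.vanishingIdeal ⟨{x}, hx⟩).comap (W.ι ≫ Fr ≫ c₁) ^ k ≤
        (Scheme.IdealSheafData.vanishingIdeal ⟨{x}, hx⟩).comap (W.ι ≫ c₂) ^ (k + 1) := by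
  haveI : FrobSch.IsCharP C p := FrobSch.IsCharP.of_hom πC₀ p
  obtain ⟨σ, hσ⟩ := exists_sigma p k₀ e hq K f₀ πC₀ πK hC n Fr hFr₀ hFrK
  obtain ⟨I, hI⟩ : ∃ I : X.IdealSheafData,
    I = Scheme.IdealSheafData.vanishingIdeal ⟨{x}, hx⟩ := ⟨_, rfl⟩
  rw [← hI] at hd ⊢
  have hsupp : (I.support : Set X) = {x} := by
    rw [hI]
    exact Scheme.IdealSheafData.coe_support_vanishingIdeal _
  obtain ⟨S, hS⟩ : ∃ S : Set C, S = {y | c₂.base y = x ∧ (Fr ≫ c₁).base y ≠ x} := ⟨_, rfl⟩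
  have hSsub : S ⊆ c₂ ⁻¹' {x} := by
    rw [hS]
    intro y hy
    exact hy.1
  have hfib_closed : IsClosed (c₂ ⁻¹' {x} : Set C) := hx.preimage c₂.continuous
  have hSclosed : IsClosed S :=
    isClosed_of_subset_discrete_closed hSsub (c₂.isDiscrete_preimage_singleton x) hfib_closed
  obtain ⟨W, hW⟩ : ∃ W : C.Opens, (W : Set C) = Sᶜ := ⟨⟨Sᶜ, hSclosed.isOpen_compl⟩, rfl⟩
  refine ⟨W, ?_, ?_⟩
  · intro y hy
    obtain ⟨z, hz⟩ := hy
    rw [hW]
    intro hyS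
    rw [hS] at hyS
    have e1 : (pullback.fst pX pX).base ((pullback.diagonal pX).base z) = z :=
      congrArg (fun g : X ⟶ X => g.base z) (pullback.diagonal_fst pX)
    have e2 : (pullback.fst pX pX).base ((pullback.lift (Fr ≫ c₁) c₂ hcomm).base y) =
        (Fr ≫ c₁).base y :=
      congrArg (fun g : C ⟶ X => g.base y) (pullback.lift_fst (Fr ≫ c₁) c₂ hcomm)
    have e3 : (pullback.snd pX pX).base ((pullback.diagonal pX).base z) = z :=
      congrArg (fun g : X ⟶ X => g.base z) (pullback.diagonal_snd pX)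
    have e4 : (pullback.snd pX pX).base ((pullback.lift (Fr ≫ c₁) c₂ hcomm).base y) =
        c₂.base y :=
      congrArg (fun g : C ⟶ X => g.base y) (pullback.lift_snd (Fr ≫ c₁) c₂ hcomm)
    have h1 : (Fr ≫ c₁).base y = z := by rw [← e2, ← hz, e1]
    have h2 : c₂.base y = z := by rw [← e4, ← hz, e3]
    exact hyS.2 (h1.trans (h2.symm.trans hyS.1))
  · have hd' : (I.comap (W.ι ≫ c₂)).radical ^ d ≤ I.comap (W.ι ≫ c₂) := by
      rw [Scheme.IdealSheafData.comap_comp, ← radical_comap_of_isOpenImmersion,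
        ← Groth.Agent.Lib.Helper6.IdealComap.comap_pow]
      exact Scheme.IdealSheafData.comap_mono W.ι hd
    have hinv' : (W.ι ≫ Fr ≫ c₁).base '' ((W.ι ≫ c₂).base ⁻¹' (I.support : Set X)) ⊆
        (I.support : Set X) := by
      rintro _ ⟨w, hw, rfl⟩
      rw [hsupp] at hw ⊢
      have hw1 : c₂.base (W.ι.base w) = x := hw
      have hwW : W.ι.base w ∈ (W : Set C) := w.2
      rw [hW, hS] at hwW
      show (Fr ≫ c₁).base (W.ι.base w) = x
      by_contra hne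
      exact hwW ⟨hw1, hne⟩
    have key := coreB (W.ι ≫ σ) (End.asHom (End.of (FrobSch.frob C p) ^ (e * n))) (p ^ (e * n))
      (isPowMap_iter C p (e * n)) c₁ (W.ι ≫ c₂) (W.ι ≫ Fr ≫ c₁)
      (by rw [hσ]; simp only [Category.assoc]) I d hd' hn hinv'
    exact ⟨key.1, d, key.2⟩

end Groth.Agent.Lib.Helper21.RLv
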