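import Mathlib
import Groth.Prelude.Def_Frob
import Groth.Agent.Lib.Helper21.RLv
import Groth.Agent.S19878

/-!
# Finiteness of the fixed points of a sufficiently Frobenius-twisted correspondence
-/

set_option autoImplicit false
set_option linter.unusedVariables false
set_option linter.unusedSectionVars false
set_option linter.style.longLine false
set_option linter.style.haveILetI false

universe u

open CategoryTheory CategoryTheory.Limits Opposite TopologicalSpace AlgebraicGeometry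

namespace Groth.Agent.Lib.Helper21.RLw

/-- every point of a Noetherian space has an open connected neighbourhood. -/
theorem exists_open_connected_nhd {F : Type*} [TopologicalSpace F] [NoetherianSpace F] (y : F) :
    ∃ β : Set F, IsOpen β ∧ y ∈ β ∧ IsConnected β := by
  have hfin : (irreducibleComponents F).Finite := NoetherianSpace.finite_irreducibleComponents
  obtain ⟨T, hT⟩ : ∃ T : Set F, T = ⋃ Z ∈ {Z ∈ irreducibleComponents F | y ∉ Z}, Z := ⟨_, rfl⟩
  have hTclosed : IsClosed T := by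
    rw [hT]
    refine Set.Finite.isClosed_biUnion (hfin.subset (fun Z hZ => hZ.1)) ?_
    intro Z hZ
    exact isClosed_of_mem_irreducibleComponents Z hZ.1
  have hyT : y ∉ T := by
    rw [hT]
    intro hy
    obtain ⟨Z, hZ, hyZ⟩ := Set.mem_iUnion₂.mp hy
    exact hZ.2 hyZ
  refine ⟨Tᶜ, hTclosed.isOpen_compl, hyT, ⟨⟨y, hyT⟩, ?_⟩⟩
  have hEq : Tᶜ = ⋃₀ {s | ∃ Z ∈ irreducibleComponents F, y ∈ Z ∧ s = Z ∩ Tᶜ} := by
    ext w
    constructor
    · intro hw
      refine ⟨irreducibleComponent w ∩ Tᶜ, ⟨irreducibleComponent w,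
        irreducibleComponent_mem_irreducibleComponents w, ?_, rfl⟩, mem_irreducibleComponent, hw⟩
      by_contra hy
      apply hw
      rw [hT]
      exact Set.mem_iUnion₂.mpr ⟨irreducibleComponent w,
        ⟨irreducibleComponent_mem_irreducibleComponents w, hy⟩, mem_irreducibleComponent⟩
    · rintro ⟨s, ⟨Z, hZ, hyZ, rfl⟩, hw⟩
      exact hw.2
  rw [hEq]
  apply isPreconnected_sUnion y
  · rintro s ⟨Z, hZ, hyZ, rfl⟩
    exact ⟨hyZ, hyT⟩
  · rintro s ⟨Z, hZ, hyZ, rfl⟩
    apply IsPreirreducible.isPreconnected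
    rintro u v hu hv ⟨a, ha, hau⟩ ⟨b, hb, hbv⟩
    obtain ⟨c, hcZ, hc⟩ := hZ.1.2 (u ∩ Tᶜ) (v ∩ Tᶜ) (hu.inter hTclosed.isOpen_compl)
      (hv.inter hTclosed.isOpen_compl) ⟨a, ha.1, hau, ha.2⟩ ⟨b, hb.1, hbv, hb.2⟩
    exact ⟨c, ⟨hcZ, hc.1.2⟩, hc.1.1, hc.2.1⟩

theorem main19879 {C C₀ X Fx : Scheme.{u}}
    (p : ℕ) [Fact p.Prime] (k₀ : Type u) [Field k₀] [Fintype k₀] [CharP k₀ p] (e : ℕ)
    (hq : Fintype.card k₀ = p ^ e) (K : Type u) [Field K] [Algebra k₀ K] [IsAlgClosure k₀ K]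
    (f₀ : C₀ ⟶ Spec (CommRingCat.of k₀)) [LocallyOfFiniteType f₀] [QuasiCompact f₀] [FrobSch.IsCharP C₀ p]
    (πC₀ : C ⟶ C₀) (πK : C ⟶ Spec (CommRingCat.of K))
    (hC : IsPullback πC₀ πK f₀ (Spec.map (CommRingCat.ofHom (algebraMap k₀ K))))
    (n : ℕ) (Fr : C ⟶ C)
    (hFr₀ : Fr ≫ πC₀ = πC₀ ≫ End.asHom (End.of (FrobSch.frob C₀ p) ^ (e * n)))
    (hFrK : Fr ≫ πK = πK)
    (pX : X ⟶ Spec (CommRingCat.of K)) [LocallyOfFiniteType pX]
    (c₁ c₂ : C ⟶ X)
    [LocallyQuasiFinite c₂] [LocallyOfFiniteType c₂]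
    (hcomm : (Fr ≫ c₁) ≫ pX = c₂ ≫ pX) (d : ℕ) (hn : d < p ^ (e * n))
    (hd : ∀ (x : X) (hx : IsClosed ({x} : Set X)),
      ((Scheme.IdealSheafData.vanishingIdeal ⟨{x}, hx⟩).comap c₂).radical ^ d ≤
        (Scheme.IdealSheafData.vanishingIdeal ⟨{x}, hx⟩).comap c₂)
    (i : Fx ⟶ C) (δ : Fx ⟶ X) (hF : IsPullback i δ (pullback.lift (Fr ≫ c₁) c₂ hcomm) (pullback.diagonal pX)) :
    Finite Fx ∧ DiscreteTopology Fx := by
  haveI hLK : LocallyOfFiniteType πK :=
    MorphismProperty.of_isPullback (P := @LocallyOfFiniteType) hC inferInstance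
  haveI hQK : QuasiCompact πK :=
    MorphismProperty.of_isPullback (P := @QuasiCompact) hC inferInstance
  haveI : IsImmersion i :=
    MorphismProperty.of_isPullback (P := @IsImmersion) hF.flip inferInstance
  haveI : CompactSpace C := QuasiCompact.compactSpace_of_compactSpace πK
  haveI : IsLocallyNoetherian C := LocallyOfFiniteType.isLocallyNoetherian πK
  haveI : IsNoetherian C := {}
  haveI : NoetherianSpace C := inferInstance
  haveI : NoetherianSpace Fx := i.isEmbedding.toIsInducing.noetherianSpace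
  have hδ : δ = i ≫ c₂ := by
    have h1 := hF.w
    have h2 := congrArg (fun g => g ≫ pullback.snd pX pX) h1
    simp only [Category.assoc, pullback.lift_snd, pullback.diagonal_snd, Category.comp_id] at h2
    exact h2.symm
  haveI : LocallyOfFiniteType δ := by rw [hδ]; infer_instance
  haveI : LocallyQuasiFinite δ := by rw [hδ]; infer_instance
  haveI : JacobsonSpace X := LocallyOfFiniteType.jacobsonSpace pX
  have hrange : ∀ w : Fx, i.base w ∈ (pullback.lift (Fr ≫ c₁) c₂ hcomm).base ⁻¹'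
      Set.range (pullback.diagonal pX).base := by
    intro w
    refine ⟨δ.base w, ?_⟩
    exact (congrArg (fun g : Fx ⟶ pullback pX pX => g.base w) hF.w).symm
  have hopen : ∀ y : Fx, IsClosed ({y} : Set Fx) → IsOpen ({y} : Set Fx) := by
    intro y hy
    have hx : IsClosed ({δ.base y} : Set X) := by
      have h1 := δ.closePoints_subset_preimage_closedPoints (mem_closedPoints_iff.mpr hy)
      exact mem_closedPoints_iff.mp h1
    obtain ⟨W, hW1, hle, k, hpow⟩ := Groth.Agent.Lib.Helper21.RLv.main18397 p k₀ e hq K f₀ πC₀ πK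
      hC n Fr hFr₀ hFrK pX c₁ c₂ hcomm d hn (δ.base y) hx (hd _ hx)
    obtain ⟨β, hβo, hyβ, hβc⟩ := exists_open_connected_nhd y
    have hsub := Groth.Agent.S19878.result K πK pX (Fr ≫ c₁) c₂ hcomm i δ hF
      (Scheme.IdealSheafData.vanishingIdeal ⟨{δ.base y}, hx⟩) W
      (by rintro _ ⟨w, rfl⟩; exact hW1 (hrange w)) hle k hpow ⟨β, hβo⟩ hβc
      ⟨δ.base y, ⟨y, hyβ, rfl⟩, by
        rw [Scheme.IdealSheafData.coe_support_vanishingIdeal]; rfl⟩
    rw [Scheme.IdealSheafData.coe_support_vanishingIdeal] at hsub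
    have hdisc := δ.isDiscrete_preimage_singleton (δ.base y)
    obtain ⟨u, huo, hu⟩ := isDiscrete_iff_forall_mem_exists_isOpen.mp hdisc y rfl
    have hyu : y ∈ u := by
      have h1 : y ∈ u ∩ δ ⁻¹' {δ.base y} := by rw [hu]; rfl
      exact h1.1
    have heq : ({y} : Set Fx) = β ∩ u := by
      ext w
      constructor
      · intro hw
        rw [Set.mem_singleton_iff.mp hw]
        exact ⟨hyβ, hyu⟩
      · rintro ⟨hwβ, hwu⟩
        have h1 : w ∈ u ∩ δ ⁻¹' {δ.base y} := ⟨hwu, hsub hwβ⟩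
        rw [hu] at h1
        exact h1
    rw [heq]
    exact hβo.inter huo
  have hclosed : ∀ z : Fx, IsClosed ({z} : Set Fx) := by
    intro z
    obtain ⟨y, hyz, hy⟩ := (isClosed_closure (s := ({z} : Set Fx))).exists_closed_singleton
      ⟨z, subset_closure rfl⟩
    have hyo := hopen y hy
    obtain ⟨w, hw1, hw2⟩ := mem_closure_iff.mp hyz {y} hyo rfl
    have h1 : w = y := hw1
    have h2 : w = z := hw2
    rw [← h2, h1]
    exact hy
  haveI : DiscreteTopology Fx :=
    discreteTopology_iff_isOpen_singleton.mpr (fun z => hopen z (hclosed z))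
  exact ⟨finite_of_compact_of_discrete, inferInstance⟩

end Groth.Agent.Lib.Helper21.RLw
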