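import Mathlib
import Groth.Prelude
import Groth.Agent.Lib.Helper3.GlobGen
import Groth.Agent.Lib.Helper3.IdealMod
import Groth.Agent.Lib.Helper7.TwFun

/-!
# RLx: Nakayama-type lifting of generating sections from a closed subscheme

`exists_mem_genLocus_of_surjective`: let `N` be invertible on `X`, `D` a quasi-coherent ideal with
quotient `Q = O_X / D`.  If `Q ⊗ N` is spanned by global sections and
`Γ(X, O ⊗ N) → Γ(X, Q ⊗ N)` is surjective, then every point of the support of `D` lies in `X_s`
for some global section `s` of `N`.  (Sub-lemma ZB3 for helper1's S17288.)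
-/

set_option autoImplicit false
set_option linter.style.haveILetI false
set_option linter.unusedVariables false
set_option linter.style.longLine false
universe u
open CategoryTheory CategoryTheory.Limits AlgebraicGeometry TopologicalSpace Opposite
open Scheme.Modules

noncomputable section

namespace Groth.Agent.Lib.Helper21.RLx

open Groth.Agent.Lib.Helper3 Groth.Agent.Lib.Helper3.QCSec Groth.Agent.Lib.Helper3.InvGen
  Groth.Agent.Lib.Helper3.InvTensor Groth.Agent.Lib.Helper3.InvMonoidal
  Groth.Agent.Lib.Helper3.InvAmple Groth.Agent.Lib.Helper3.InvCoh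
  Groth.Agent.Lib.Helper3.QCExtend
open Groth.Agent.Lib.Helper7.TwFun

variable {X : Scheme.{u}}

/-- `(- ⊗ L)` on pure tensors (copy of helper23's `Twist.tw_app_tm`). -/
lemma tw_app_tm' {L F G : X.Modules} (j : F ⟶ G) (U : X.Opens) (t : Γ(F, U)) (l : Γ(L, U)) :
    ((twR L).map j).app U (tm F L U t l) = tm G L U (j.app U t) l :=
  tensorMap_tm j (𝟙 L) U t l

/-- local coordinates of a global section of `O ⊗ N` (copy of helper7's `AmpleH1.local_coord`). -/
lemma local_coord {N : X.Modules} (t : Γ(CohB1.tensorMod (Coh.structureModule X) N, ⊤))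
    {V : X.Opens} {ℓ : Γ(N, V)} (hg : IsGen N V ℓ) :
    ∃ f : Γ(X, V), res _ le_top t = tm (Coh.structureModule X) N V (ofFun V f) ℓ ∧
      sec (globalHom N ((unitorL N).hom.app ⊤ t)) V = f • ℓ := by
  obtain ⟨f', hf'⟩ := tm_gen_surjective_self (Coh.structureModule X) N hg (res _ le_top t)
  have hf'' : tm (Coh.structureModule X) N V (ofFun V (toFun V f')) ℓ = res _ le_top t := hf'
  refine ⟨toFun V f', hf''.symm, ?_⟩
  rw [sec_globalHom, ← QCExact.app_res', ← hf'']
  exact unitorL_hom_tm N V ℓ _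

/-- **ZB3**: lifting of generating sections from a closed subscheme. -/
theorem exists_mem_genLocus_of_surjective (D : X.IdealSheafData)
    (N : X.Modules) (hN : PicF.IsInvertible N)
    (hsp : GlobGen.IsSpanned (CohB1.tensorMod (ClSub.quotMod D) N))
    (hsurj : Function.Surjective (((twR N).map (ClSub.toSubscheme D)).app ⊤))
    (y : X) (hy : y ∈ D.support) :
    ∃ s : Coh.structureModule X ⟶ N, y ∈ CohB1.genLocus N s := by
  have hyr : y ∈ Set.range D.subschemeι := by
    rw [D.range_subschemeι]; exact hy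
  obtain ⟨z, rfl⟩ := hyr
  obtain ⟨I, σ, hσ⟩ := hsp
  obtain ⟨U, hU, hyU, hspan⟩ := hσ (D.subschemeι z)
  haveI : (CohB1.tensorMod (ClSub.quotMod D) N).IsQuasicoherent :=
    isQuasicoherent_tensorMod (ClSub.quotMod D) N hN
  obtain ⟨V, e₀, hyV, hg₀⟩ := exists_isGen hN (D.subschemeι z)
  obtain ⟨g, hgle, hyg⟩ := hU.exists_basicOpen_le (V := U ⊓ V)
    ⟨D.subschemeι z, ⟨hyU, hyV⟩⟩ hyU
  obtain ⟨W, hW⟩ : ∃ W : X.Opens, W = X.basicOpen g := ⟨_, rfl⟩
  have hWU : W ≤ U := by rw [hW]; exact X.basicOpen_le g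
  have hWV : W ≤ V := by rw [hW]; exact hgle.trans inf_le_right
  have hyW : D.subschemeι z ∈ W := by rw [hW]; exact hyg
  obtain ⟨ℓ, hℓ⟩ : ∃ ℓ : Γ(N, W), ℓ = res N hWV e₀ := ⟨_, rfl⟩
  have hg : IsGen N W ℓ := by rw [hℓ]; exact hg₀.mono hWV
  have hspan' := span_res_eq_top (CohB1.tensorMod (ClSub.quotMod D) N) hU g hW hWU _ hspan
  -- lifts of the spanning sections and their coordinates
  choose t ht using fun j => hsurj (σ j)
  choose f hf1 hf2 using fun j => local_coord (t j) hg
  have hres : ∀ j, res (CohB1.tensorMod (ClSub.quotMod D) N) (le_top : W ≤ ⊤) (σ j) =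
      tm (ClSub.quotMod D) N W ((ClSub.toSubscheme D).app W (ofFun W (f j))) ℓ := by
    intro j
    have e1 : ((twR N).map (ClSub.toSubscheme D)).app W
        (res (CohB1.tensorMod (Coh.structureModule X) N) le_top (t j)) =
        res (CohB1.tensorMod (ClSub.quotMod D) N) le_top
          (((twR N).map (ClSub.toSubscheme D)).app ⊤ (t j)) :=
      QCExact.app_res' ((twR N).map (ClSub.toSubscheme D)) (le_top : W ≤ ⊤) (t j)
    rw [ht j, hf1 j, tw_app_tm'] at e1
    exact e1.symm
  by_contra hcon
  push Not at hcon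
  -- each coordinate is a non-unit at the point
  have hnonunit : ∀ j, X.presheaf.germ W (D.subschemeι z) hyW (f j) ∈
      IsLocalRing.maximalIdeal (X.presheaf.stalk (D.subschemeι z)) := by
    intro j
    rw [IsLocalRing.mem_maximalIdeal, mem_nonunits_iff]
    intro hu
    apply hcon (globalHom N ((unitorL N).hom.app ⊤ (t j)))
    have h1 : CohB1.genLocus N (globalHom N ((unitorL N).hom.app ⊤ (t j))) ⊓ W =
        X.basicOpen (f j) :=
      genLocus_inf_eq_basicOpen _ hg (f j) (hf2 j)
    have h2 : D.subschemeι z ∈ X.basicOpen (f j) := (Scheme.mem_basicOpen _ _ _ hyW).mpr hu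
    rw [← h1] at h2
    exact h2.1
  -- the submodule of sections admitting a coordinate which is a non-unit at the point
  let P : Submodule Γ(X, W) Γ(CohB1.tensorMod (ClSub.quotMod D) N, W) :=
    { carrier := {m | ∃ a : Γ(X, W),
        tm (ClSub.quotMod D) N W ((ClSub.toSubscheme D).app W (ofFun W a)) ℓ = m ∧
        X.presheaf.germ W (D.subschemeι z) hyW a ∈
          IsLocalRing.maximalIdeal (X.presheaf.stalk (D.subschemeι z))}
      add_mem' := by
        rintro _ _ ⟨a₁, rfl, h₁⟩ ⟨a₂, rfl, h₂⟩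
        refine ⟨a₁ + a₂, ?_, ?_⟩
        · have h0 : (ClSub.toSubscheme D).app W (ofFun W (a₁ + a₂)) =
              (ClSub.toSubscheme D).app W (ofFun W a₁) +
                (ClSub.toSubscheme D).app W (ofFun W a₂) :=
            QCExact.app_add (ClSub.toSubscheme D) W (ofFun W a₁) (ofFun W a₂)
          rw [h0, tm_add_left]
        · rw [map_add]
          exact Ideal.add_mem _ h₁ h₂
      zero_mem' := by
        refine ⟨0, ?_, ?_⟩
        · have h0 : (ClSub.toSubscheme D).app W (ofFun W 0) = 0 :=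
            QCExact.app_zero (ClSub.toSubscheme D) W
          rw [h0, tm_zero_left]
        · rw [map_zero]
          exact Ideal.zero_mem _
      smul_mem' := by
        rintro r _ ⟨a, rfl, ha⟩
        refine ⟨r * a, ?_, ?_⟩
        · have h0 : (ClSub.toSubscheme D).app W (ofFun W (r * a)) =
              r • (ClSub.toSubscheme D).app W (ofFun W a) :=
            Scheme.Modules.Hom.app_smul (ClSub.toSubscheme D) r (ofFun W a)
          rw [h0, tm_smul_left]
        · rw [map_mul]
          exact Ideal.mul_mem_left _ _ ha }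
  have hmemP : ∀ m : Γ(CohB1.tensorMod (ClSub.quotMod D) N, W), m ∈ P ↔
      ∃ a : Γ(X, W),
        tm (ClSub.quotMod D) N W ((ClSub.toSubscheme D).app W (ofFun W a)) ℓ = m ∧
        X.presheaf.germ W (D.subschemeι z) hyW a ∈
          IsLocalRing.maximalIdeal (X.presheaf.stalk (D.subschemeι z)) := fun m => Iff.rfl
  have hle : Submodule.span Γ(X, W)
      (res (CohB1.tensorMod (ClSub.quotMod D) N) hWU ''
        Set.range (fun j => res (CohB1.tensorMod (ClSub.quotMod D) N) (le_top : U ≤ ⊤) (σ j))) ≤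
      P := by
    rw [Submodule.span_le]
    rintro _ ⟨_, ⟨j, rfl⟩, rfl⟩
    refine (hmemP _).mpr ⟨f j, ?_, hnonunit j⟩
    rw [res_res]
    exact (hres j).symm
  have h1 : tm (ClSub.quotMod D) N W ((ClSub.toSubscheme D).app W (ofFun W 1)) ℓ ∈ P :=
    hle (by rw [hspan']; exact Submodule.mem_top)
  obtain ⟨a, ha, hmax⟩ := (hmemP _).mp h1
  have h2 : (ClSub.toSubscheme D).app W (ofFun W a) = (ClSub.toSubscheme D).app W (ofFun W 1) :=
    tm_gen_injective_self (ClSub.quotMod D) N hg ha
  have h3 : D.subschemeι.app W a = 1 := h2.trans (map_one (D.subschemeι.app W).hom)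
  have h4 : D.subschemeι ⁻¹ᵁ X.basicOpen a = D.subschemeι ⁻¹ᵁ W := by
    rw [Scheme.preimage_basicOpen, h3, Scheme.basicOpen_one]
  have h5 : z ∈ D.subschemeι ⁻¹ᵁ X.basicOpen a := by rw [h4]; exact hyW
  have h6 : D.subschemeι z ∈ X.basicOpen a := h5
  have h7 : IsUnit (X.presheaf.germ W (D.subschemeι z) hyW a) :=
    (Scheme.mem_basicOpen _ _ _ hyW).mp h6
  exact (IsLocalRing.mem_maximalIdeal _).mp hmax h7

end Groth.Agent.Lib.Helper21.RLx
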