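import Mathlib
import Groth.Prelude
import Groth.Agent.Lib.Helper26.SchDominant

/-!
# Helper library (helper21): lifting a residue-field point to the scheme-theoretic image of
`(π, s) : Y ⟶ 𝔸¹_X` (lemma H8 for helper9's S13113)
-/

set_option autoImplicit false
universe u
open CategoryTheory CategoryTheory.Limits AlgebraicGeometry TopologicalSpace
open scoped TensorProduct

namespace Groth.Agent.Lib.Helper21.RLz

theorem fromSpecResidueField_appTop {Y : Scheme.{u}} (y : Y) :
    (Y.fromSpecResidueField y).appTop ≫ (Scheme.ΓSpecIso (Y.residueField y)).hom =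
      Y.Γevaluation y := by
  unfold Scheme.fromSpecResidueField
  rw [Scheme.Hom.comp_appTop, Scheme.fromSpecStalk_appTop]
  simp only [Category.assoc]
  rw [Scheme.ΓSpecIso_naturality]
  simp
  rfl

theorem exists_lift_image {X Y : Scheme.{u}} (π : Y ⟶ X) (s : Γ(Y, ⊤)) (y : Y)
    (c : X.residueField (π y))
    (hc : (π.residueFieldMap y).hom c = (Y.Γevaluation y).hom s) :
    ∃ l : Spec (X.residueField (π y)) ⟶
        (AffineSpace.homOfVector π (fun _ : PUnit.{u+1} => s)).image,
      l ≫ (AffineSpace.homOfVector π (fun _ : PUnit.{u+1} => s)).imageι ≫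
        (𝔸(PUnit.{u+1}; X) ↘ X) = X.fromSpecResidueField (π y) := by
  obtain ⟨a, ha⟩ : ∃ a, a = AffineSpace.homOfVector π (fun _ : PUnit.{u+1} => s) := ⟨_, rfl⟩
  rw [← ha]
  obtain ⟨l₀, hl₀⟩ : ∃ l₀ : Spec (X.residueField (π y)) ⟶ 𝔸(PUnit.{u+1}; X),
      l₀ = AffineSpace.homOfVector (X.fromSpecResidueField (π y))
        (fun _ => (Scheme.ΓSpecIso (X.residueField (π y))).inv.hom c) := ⟨_, rfl⟩
  have hl₀X : l₀ ≫ 𝔸(PUnit.{u+1}; X) ↘ X = X.fromSpecResidueField (π y) := by
    rw [hl₀]; exact AffineSpace.homOfVector_over _ _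
  have hl₀c : ∀ i, l₀.appTop (AffineSpace.coord X i) =
      (Scheme.ΓSpecIso (X.residueField (π y))).inv.hom c := by
    intro i; rw [hl₀]; exact AffineSpace.homOfVector_appTop_coord _ _ i
  have haX : a ≫ 𝔸(PUnit.{u+1}; X) ↘ X = π := by
    rw [ha]; exact AffineSpace.homOfVector_over _ _
  have hac : ∀ i, a.appTop (AffineSpace.coord X i) = s := by
    intro i; rw [ha]; exact AffineSpace.homOfVector_appTop_coord _ _ i
  let j : Spec (Y.residueField y) ⟶ Spec (X.residueField (π y)) :=
    Spec.map (π.residueFieldMap y)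
  have hjl : j ≫ l₀ = Y.fromSpecResidueField y ≫ a := by
    apply AffineSpace.hom_ext
    · rw [Category.assoc, Category.assoc, hl₀X, haX]
      exact Scheme.Hom.SpecMap_residueFieldMap_fromSpecResidueField π y
    · intro i
      rw [Scheme.Hom.comp_appTop, Scheme.Hom.comp_appTop, CommRingCat.comp_apply,
        CommRingCat.comp_apply, hl₀c, hac]
      apply (ConcreteCategory.bijective_of_isIso (Scheme.ΓSpecIso (Y.residueField y)).hom).1
      have h1 : (Scheme.ΓSpecIso (Y.residueField y)).hom.hom
          (j.appTop.hom ((Scheme.ΓSpecIso (X.residueField (π y))).inv.hom c)) =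
          (π.residueFieldMap y).hom c := by
        have hn := Scheme.ΓSpecIso_naturality (π.residueFieldMap y)
        have hn' : ∀ x, (Scheme.ΓSpecIso (Y.residueField y)).hom.hom (j.appTop.hom x) =
            (π.residueFieldMap y).hom ((Scheme.ΓSpecIso (X.residueField (π y))).hom.hom x) :=
          fun x => congrArg (fun φ => φ.hom x) hn
        rw [hn']
        congr 1
        exact CommRingCat.inv_hom_apply _ c
      have h2 : (Scheme.ΓSpecIso (Y.residueField y)).hom.hom
          ((Y.fromSpecResidueField y).appTop.hom s) = (Y.Γevaluation y).hom s := by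
        have h := fromSpecResidueField_appTop y
        exact congrArg (fun φ => φ.hom s) h
      exact (h1.trans hc).trans h2.symm
  -- kernels
  have : IsSchemeTheoreticallyDominant j :=
    Groth.Agent.Lib.Helper26.SchDominant.isSchemeTheoreticallyDominant_SpecMap
      (π.residueFieldMap y) (π.residueFieldMap y).hom.injective
  have hker : a.ker ≤ l₀.ker := by
    have h1 : (j ≫ l₀).ker = l₀.ker := by
      rw [Scheme.Hom.ker_comp, j.ker_eq_bot, Scheme.IdealSheafData.map_bot]
    have h2 : a.ker ≤ (Y.fromSpecResidueField y ≫ a).ker := by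
      rw [Scheme.Hom.ker_comp, ← Scheme.IdealSheafData.map_bot a]
      exact Scheme.IdealSheafData.map_mono a bot_le
    rw [← h1, hjl]
    exact h2
  have hker' : a.imageι.ker ≤ l₀.ker := by
    rw [Scheme.IdealSheafData.ker_subschemeι]
    exact hker
  refine ⟨IsClosedImmersion.lift a.imageι l₀ hker', ?_⟩
  rw [IsClosedImmersion.lift_fac_assoc, hl₀X]

end Groth.Agent.Lib.Helper21.RLz
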