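import Mathlib
import Groth.Agent.Lib.Helper27.KosH1

/-!
# Helper library (helper21): first Koszul homology `H l` of a linear form commutes with flat base change
(lemma T2 for helper10's S5179)
-/

set_option autoImplicit false
universe u
open Groth.Agent.Lib.Helper27.KosH1
open scoped TensorProduct

namespace Groth.Agent.Lib.Helper21.RMa

section General

variable {A C : Type u} [CommRing A] [CommRing C] [Algebra A C]
variable {F : Type u} [AddCommGroup F] [Module A F]

/-- the base change of a linear form `l : F → A` to `C ⊗ F → C`. -/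
noncomputable def formBC (l : F →ₗ[A] A) : C ⊗[A] F →ₗ[C] C :=
  (TensorProduct.AlgebraTensorModule.rid A C C).toLinearMap ∘ₗ l.baseChange C

lemma formBC_tmul (l : F →ₗ[A] A) (c : C) (f : F) :
    formBC (C := C) l (c ⊗ₜ[A] f) = algebraMap A C (l f) * c := by
  simp [formBC, Algebra.smul_def]

lemma ker_formBC (l : F →ₗ[A] A) :
    LinearMap.ker (formBC (C := C) l) =
      LinearMap.ker (TensorProduct.AlgebraTensorModule.lTensor C C l) := by
  ext t
  simp only [LinearMap.mem_ker, formBC, LinearMap.coe_comp, LinearEquiv.coe_coe, Function.comp_apply,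
    LinearEquiv.map_eq_zero_iff]
  rfl

lemma gen_tmul (l : F →ₗ[A] A) (c c' : C) (f f' : F) :
    formBC (C := C) l (c ⊗ₜ[A] f) • (c' ⊗ₜ[A] f') -
        formBC (C := C) l (c' ⊗ₜ[A] f') • (c ⊗ₜ[A] f) =
      (c * c') ⊗ₜ[A] (l f • f' - l f' • f) := by
  rw [formBC_tmul, formBC_tmul, TensorProduct.tmul_sub, TensorProduct.tmul_smul,
    TensorProduct.tmul_smul, TensorProduct.smul_tmul', TensorProduct.smul_tmul',
    TensorProduct.smul_tmul', TensorProduct.smul_tmul', smul_eq_mul, smul_eq_mul,
    Algebra.smul_def, Algebra.smul_def]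
  congr 2 <;> ring

/-- `Bd` of the base-changed form lies in the image of `C ⊗ Bd l`. -/
lemma Bd_formBC_le (l : F →ₗ[A] A) :
    Bd (formBC (C := C) l) ≤
      LinearMap.range (TensorProduct.AlgebraTensorModule.lTensor C C (Bd l).subtype) := by
  rw [Bd, Submodule.span_le]
  rintro z ⟨u, v, rfl⟩
  rw [SetLike.mem_coe]
  induction u using TensorProduct.induction_on with
  | zero => simp
  | tmul c f =>
    induction v using TensorProduct.induction_on with
    | zero => simp
    | tmul c' f' =>
      rw [gen_tmul]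
      exact ⟨(c * c') ⊗ₜ[A] ⟨_, gen_mem_Bd l f f'⟩, by simp⟩
    | add v₁ v₂ h₁ h₂ =>
      have h : formBC (C := C) l (c ⊗ₜ[A] f) • (v₁ + v₂) -
          formBC (C := C) l (v₁ + v₂) • (c ⊗ₜ[A] f) =
          (formBC (C := C) l (c ⊗ₜ[A] f) • v₁ - formBC (C := C) l v₁ • (c ⊗ₜ[A] f)) +
          (formBC (C := C) l (c ⊗ₜ[A] f) • v₂ - formBC (C := C) l v₂ • (c ⊗ₜ[A] f)) := by
        rw [map_add, smul_add, add_smul]; abel
      rw [h]
      exact Submodule.add_mem _ h₁ h₂
  | add u₁ u₂ h₁ h₂ =>
    have h : formBC (C := C) l (u₁ + u₂) • v - formBC (C := C) l v • (u₁ + u₂) =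
        (formBC (C := C) l u₁ • v - formBC (C := C) l v • u₁) +
        (formBC (C := C) l u₂ • v - formBC (C := C) l v • u₂) := by
      rw [map_add, smul_add, add_smul]; abel
    rw [h]
    exact Submodule.add_mem _ h₁ h₂

/-- the image of `C ⊗ Bd l` lies in `Bd` of the base-changed form. -/
lemma range_le_Bd_formBC (l : F →ₗ[A] A) :
    LinearMap.range (TensorProduct.AlgebraTensorModule.lTensor C C (Bd l).subtype) ≤
      Bd (formBC (C := C) l) := by
  rintro _ ⟨t, rfl⟩
  induction t using TensorProduct.induction_on with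
  | zero => simp
  | tmul c b =>
    rw [TensorProduct.AlgebraTensorModule.lTensor_tmul]
    obtain ⟨b, hb⟩ := b
    change c ⊗ₜ[A] b ∈ Bd (formBC (C := C) l)
    have hc : c ⊗ₜ[A] b = c • ((1 : C) ⊗ₜ[A] b) := by
      rw [TensorProduct.smul_tmul', smul_eq_mul, mul_one]
    rw [hc]
    refine Submodule.smul_mem _ c ?_
    -- `1 ⊗ b ∈ Bd` by span induction
    have hmap : (Bd l).map ((TensorProduct.mk A C F) 1) ≤
        (Bd (formBC (C := C) l)).restrictScalars A := by
      rw [Bd, Submodule.map_span, Submodule.span_le]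
      rintro _ ⟨z, ⟨u, v, rfl⟩, rfl⟩
      have hg := gen_tmul (C := C) l 1 1 u v
      rw [one_mul] at hg
      change (1 : C) ⊗ₜ[A] (l u • v - l v • u) ∈ Bd (formBC (C := C) l)
      rw [← hg]
      exact gen_mem_Bd _ _ _
    exact hmap (Submodule.mem_map_of_mem hb)
  | add t₁ t₂ h₁ h₂ =>
    rw [map_add]
    exact Submodule.add_mem _ h₁ h₂

lemma lTensor_subtype_injective [Module.Flat A C] (l : F →ₗ[A] A) :
    Function.Injective
      (TensorProduct.AlgebraTensorModule.lTensor C C (LinearMap.ker l).subtype) := by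
  change Function.Injective ((LinearMap.ker l).subtype.lTensor C)
  exact Module.Flat.lTensor_preserves_injective_linearMap (M := C) (LinearMap.ker l).subtype
    (LinearMap.ker l).injective_subtype

lemma range_lTensor_subtype [Module.Flat A C] (l : F →ₗ[A] A) :
    LinearMap.range (TensorProduct.AlgebraTensorModule.lTensor C C (LinearMap.ker l).subtype) =
      LinearMap.ker (formBC (C := C) l) := by
  rw [ker_formBC]
  exact (Module.Flat.ker_lTensor_eq C C l).symm

/-- `C ⊗ ker l → ker (l_C)`. -/
noncomputable def alpha [Module.Flat A C] (l : F →ₗ[A] A) :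
    C ⊗[A] (LinearMap.ker l) →ₗ[C] LinearMap.ker (formBC (C := C) l) :=
  (TensorProduct.AlgebraTensorModule.lTensor C C (LinearMap.ker l).subtype).codRestrict
    (LinearMap.ker (formBC (C := C) l)) (fun t => by
      rw [← range_lTensor_subtype]; exact ⟨t, rfl⟩)

lemma alpha_coe [Module.Flat A C] (l : F →ₗ[A] A) (t : C ⊗[A] (LinearMap.ker l)) :
    ((alpha (C := C) l t : LinearMap.ker (formBC (C := C) l)) : C ⊗[A] F) =
      TensorProduct.AlgebraTensorModule.lTensor C C (LinearMap.ker l).subtype t := rfl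

lemma alpha_surjective [Module.Flat A C] (l : F →ₗ[A] A) :
    Function.Surjective (alpha (C := C) l) := by
  rintro ⟨z, hz⟩
  rw [← range_lTensor_subtype] at hz
  obtain ⟨t, rfl⟩ := hz
  exact ⟨t, rfl⟩

/-- the quotient map `ker (l_C) → H (l_C)`. -/
noncomputable def psi0 (l : F →ₗ[A] A) :
    ↥(LinearMap.ker (formBC (C := C) l)) →ₗ[C] H (formBC (C := C) l) :=
  Submodule.mkQ _

lemma psi0_surjective (l : F →ₗ[A] A) : Function.Surjective (psi0 (C := C) l) :=
  Submodule.mkQ_surjective _

lemma psi0_eq_zero_iff (l : F →ₗ[A] A) (z : ↥(LinearMap.ker (formBC (C := C) l))) :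
    psi0 (C := C) l z = 0 ↔ (z : C ⊗[A] F) ∈ Bd (formBC (C := C) l) := by
  change Submodule.Quotient.mk z = 0 ↔ _
  rw [Submodule.Quotient.mk_eq_zero]
  rfl

/-- `C ⊗ ker l → H (l_C)`. -/
noncomputable def psi [Module.Flat A C] (l : F →ₗ[A] A) :
    C ⊗[A] (LinearMap.ker l) →ₗ[C] H (formBC (C := C) l) :=
  (psi0 (C := C) l) ∘ₗ (alpha (C := C) l)

lemma psi_surjective [Module.Flat A C] (l : F →ₗ[A] A) :
    Function.Surjective (psi (C := C) l) := by
  intro z
  obtain ⟨w, rfl⟩ := psi0_surjective (C := C) l z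
  obtain ⟨t, rfl⟩ := alpha_surjective (C := C) l w
  exact ⟨t, rfl⟩

lemma psi_eq_zero_iff [Module.Flat A C] (l : F →ₗ[A] A) (t : C ⊗[A] (LinearMap.ker l)) :
    psi (C := C) l t = 0 ↔
      TensorProduct.AlgebraTensorModule.lTensor C C (LinearMap.ker l).subtype t ∈
        Bd (formBC (C := C) l) := by
  change psi0 (C := C) l (alpha (C := C) l t) = 0 ↔ _
  rw [psi0_eq_zero_iff, alpha_coe]

/-- `C ⊗ ker l → C ⊗ H l`. -/
noncomputable def qmap (l : F →ₗ[A] A) :
    C ⊗[A] (LinearMap.ker l) →ₗ[C] C ⊗[A] H l :=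
  TensorProduct.AlgebraTensorModule.lTensor C C
    ((Bd l).submoduleOf (LinearMap.ker l)).mkQ

lemma qmap_surjective (l : F →ₗ[A] A) : Function.Surjective (qmap (C := C) l) := by
  change Function.Surjective (((Bd l).submoduleOf (LinearMap.ker l)).mkQ.lTensor C)
  exact LinearMap.lTensor_surjective C (Submodule.mkQ_surjective _)

lemma qmap_eq_zero_iff (l : F →ₗ[A] A) (t : C ⊗[A] (LinearMap.ker l)) :
    qmap (C := C) l t = 0 ↔
      ∃ t' : C ⊗[A] ((Bd l).submoduleOf (LinearMap.ker l)),
        (((Bd l).submoduleOf (LinearMap.ker l)).subtype.lTensor C) t' = t := by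
  have h := lTensor_mkQ C ((Bd l).submoduleOf (LinearMap.ker l))
  change (((Bd l).submoduleOf (LinearMap.ker l)).mkQ.lTensor C) t = 0 ↔ _
  rw [← LinearMap.mem_ker, h, LinearMap.mem_range]

lemma ker_qmap_eq_ker_psi [Module.Flat A C] (l : F →ₗ[A] A) :
    LinearMap.ker (qmap (C := C) l) = LinearMap.ker (psi (C := C) l) := by
  ext t
  rw [LinearMap.mem_ker, LinearMap.mem_ker, qmap_eq_zero_iff, psi_eq_zero_iff]
  constructor
  · rintro ⟨t', rfl⟩
    apply range_le_Bd_formBC (C := C) l
    refine ⟨(((Submodule.submoduleOfEquivOfLe (Bd_le_ker l)).toLinearMap).lTensor C) t', ?_⟩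
    change ((Bd l).subtype.lTensor C)
        ((((Submodule.submoduleOfEquivOfLe (Bd_le_ker l)).toLinearMap).lTensor C) t') =
      ((LinearMap.ker l).subtype.lTensor C)
        ((((Bd l).submoduleOf (LinearMap.ker l)).subtype.lTensor C) t')
    rw [← LinearMap.lTensor_comp_apply, ← LinearMap.lTensor_comp_apply]
    rfl
  · intro ht
    obtain ⟨s, hs⟩ := Bd_formBC_le (C := C) l ht
    refine ⟨(((Submodule.submoduleOfEquivOfLe (Bd_le_ker l)).symm.toLinearMap).lTensor C) s, ?_⟩
    apply lTensor_subtype_injective (C := C) l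
    change ((LinearMap.ker l).subtype.lTensor C)
        ((((Bd l).submoduleOf (LinearMap.ker l)).subtype.lTensor C)
          ((((Submodule.submoduleOfEquivOfLe (Bd_le_ker l)).symm.toLinearMap).lTensor C) s)) = _
    rw [← hs, ← LinearMap.lTensor_comp_apply, ← LinearMap.lTensor_comp_apply]
    rfl

/-- **flat base change of the first Koszul homology of a linear form** (general module `F`). -/
theorem nonempty_tensor_H_equiv [Module.Flat A C] (l : F →ₗ[A] A) :
    Nonempty (C ⊗[A] H l ≃ₗ[C] H (formBC (C := C) l)) :=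
  ⟨(LinearMap.quotKerEquivOfSurjective (qmap (C := C) l) (qmap_surjective l)).symm.trans
    ((Submodule.quotEquivOfEq _ _ (ker_qmap_eq_ker_psi l)).trans
      (LinearMap.quotKerEquivOfSurjective (psi (C := C) l) (psi_surjective l)))⟩

end General

/-- **T2**: `H` of the linear combination form commutes with flat base change. -/
theorem nonempty_baseChange_H_equiv {A C : Type u} [CommRing A] [CommRing C] [Algebra A C]
    [Module.Flat A C] {ι : Type u} [Fintype ι] (y : ι → A) :
    Nonempty (TensorProduct A C (H (Fintype.linearCombination A y)) ≃ₗ[C]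
      H (Fintype.linearCombination C (fun i => algebraMap A C (y i)))) := by
  classical
  obtain ⟨e1⟩ := nonempty_tensor_H_equiv (C := C) (Fintype.linearCombination A y)
  let θ : C ⊗[A] (ι → A) ≃ₗ[C] (ι → C) := TensorProduct.piScalarRight A C C ι
  have hθ : (Fintype.linearCombination C (fun i => algebraMap A C (y i))) ∘ₗ
      (θ : C ⊗[A] (ι → A) →ₗ[C] (ι → C)) = formBC (C := C) (Fintype.linearCombination A y) := by
    apply TensorProduct.AlgebraTensorModule.ext
    intro c v
    simp only [LinearMap.coe_comp, LinearEquiv.coe_coe, Function.comp_apply, formBC_tmul]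
    change Fintype.linearCombination C (fun i => algebraMap A C (y i))
      (TensorProduct.piScalarRight A C C ι (c ⊗ₜ[A] v)) = _
    rw [TensorProduct.piScalarRight_apply, TensorProduct.piScalarRightHom_tmul,
      Fintype.linearCombination_apply, Fintype.linearCombination_apply, map_sum, Finset.sum_mul]
    refine Finset.sum_congr rfl fun i _ => ?_
    simp only [smul_eq_mul, Algebra.smul_def, map_mul]
    ring
  obtain ⟨e2⟩ := H_congr θ (formBC (C := C) (Fintype.linearCombination A y))
    (Fintype.linearCombination C (fun i => algebraMap A C (y i))) hθ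
  exact ⟨e1.trans e2⟩

end Groth.Agent.Lib.Helper21.RMa
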