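import Mathlib
import Groth.Prelude

/-!
# Helper library (helper21): `O_L ∩ K'` is a discrete valuation ring
(lemma A for lead's S7943)
-/

set_option autoImplicit false
universe u
open CategoryTheory CategoryTheory.Limits AlgebraicGeometry

namespace Groth.Agent.Lib.Helper21.RMb

theorem isDVR_range_inf (OK OL K L : Type u) [CommRing OK] [IsDomain OK] [IsDiscreteValuationRing OK]
    [CommRing OL] [IsDomain OL] [IsDiscreteValuationRing OL] [Field K] [Field L]
    [Algebra OK K] [IsFractionRing OK K] [Algebra OL L] [IsFractionRing OL L]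
    [Algebra OK OL] [Algebra K L] [Algebra OK L] [IsScalarTower OK OL L] [IsScalarTower OK K L]
    (hinj : Function.Injective (algebraMap OK OL)) (hloc : IsLocalHom (algebraMap OK OL))
    (K' : IntermediateField K L) :
    IsDiscreteValuationRing ↥((algebraMap OL L).range ⊓ K'.toSubring) := by
  classical
  have hι : Function.Injective (algebraMap OL L) := IsFractionRing.injective OL L
  -- elements of `R'`
  let mk : ∀ a : OL, algebraMap OL L a ∈ K' → ↥((algebraMap OL L).range ⊓ K'.toSubring) :=
    fun a h => ⟨algebraMap OL L a, Subring.mem_inf.mpr ⟨RingHom.mem_range.mpr ⟨a, rfl⟩, h⟩⟩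
  have hmk_val : ∀ a h, ((mk a h : ↥((algebraMap OL L).range ⊓ K'.toSubring)) : L) =
      algebraMap OL L a := fun _ _ => rfl
  have hex : ∀ x : ↥((algebraMap OL L).range ⊓ K'.toSubring),
      ∃ (a : OL) (h : algebraMap OL L a ∈ K'), mk a h = x := by
    rintro ⟨x, hx⟩
    obtain ⟨h1, h2⟩ := Subring.mem_inf.mp hx
    obtain ⟨a, rfl⟩ := RingHom.mem_range.mp h1
    exact ⟨a, h2, rfl⟩
  -- units
  have hunit : ∀ (a : OL) (h : algebraMap OL L a ∈ K'), IsUnit a → IsUnit (mk a h) := by
    intro a h hu
    obtain ⟨u, rfl⟩ := hu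
    have h' : algebraMap OL L (↑u⁻¹ : OL) ∈ K' := by
      have e : algebraMap OL L (↑u⁻¹ : OL) = (algebraMap OL L (u : OL))⁻¹ := by
        apply eq_inv_of_mul_eq_one_left
        rw [← map_mul, Units.inv_mul, map_one]
      rw [e]
      exact inv_mem h
    refine IsUnit.of_mul_eq_one (mk (↑u⁻¹ : OL) h') ?_
    apply Subtype.ext
    change algebraMap OL L (u : OL) * algebraMap OL L (↑u⁻¹ : OL) = 1
    rw [← map_mul, Units.mul_inv, map_one]
  -- the set `T`
  let T : Set OL := {a | a ≠ 0 ∧ ¬ IsUnit a ∧ algebraMap OL L a ∈ K'}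
  have hT : T.Nonempty := by
    obtain ⟨ϖ, hϖ⟩ := IsDiscreteValuationRing.exists_irreducible OK
    refine ⟨algebraMap OK OL ϖ, (map_ne_zero_iff _ hinj).mpr hϖ.ne_zero,
      fun h => hϖ.not_isUnit (hloc.map_nonunit ϖ h), ?_⟩
    rw [← IsScalarTower.algebraMap_apply OK OL L ϖ, IsScalarTower.algebraMap_apply OK K L ϖ]
    exact K'.algebraMap_mem _
  obtain ⟨p, ⟨hp0, hpu, hpK⟩, hpmin⟩ :=
    WellFounded.has_min (wellFounded_dvdNotUnit (α := OL)) T hT
  have hpdvd : ∀ a ∈ T, p ∣ a := by
    intro a ha
    by_contra hna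
    rcases ValuationRing.dvd_total a p with ⟨c, hc⟩ | h
    · apply hpmin a ha
      refine ⟨ha.1, c, ?_, hc⟩
      intro hcu
      apply hna
      obtain ⟨v, rfl⟩ := hcu
      exact ⟨(↑v⁻¹ : OL), by rw [hc, mul_assoc, Units.mul_inv, mul_one]⟩
    · exact hna h
  -- factorisation
  have hfac : ∀ a : OL, a ≠ 0 → ∀ h : algebraMap OL L a ∈ K',
      ∃ m : ℕ, Associated ((mk p hpK) ^ m) (mk a h) := by
    intro a
    induction a using (wellFounded_dvdNotUnit (α := OL)).induction with
    | _ a ih =>
      intro ha h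
      by_cases hu : IsUnit a
      · refine ⟨0, ?_⟩
        rw [pow_zero]
        exact (associated_one_iff_isUnit.mpr (hunit a h hu)).symm
      · obtain ⟨b, rfl⟩ := hpdvd a ⟨ha, hu, h⟩
        have hb0 : b ≠ 0 := right_ne_zero_of_mul ha
        have hbK : algebraMap OL L b ∈ K' := by
          have e : algebraMap OL L b = algebraMap OL L (p * b) * (algebraMap OL L p)⁻¹ := by
            rw [map_mul, mul_comm (algebraMap OL L p), mul_assoc,
              mul_inv_cancel₀ ((map_ne_zero_iff _ hι).mpr hp0), mul_one]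
          rw [e]
          exact mul_mem h (inv_mem hpK)
        obtain ⟨m, hm⟩ := ih b ⟨hb0, p, hpu, mul_comm p b⟩ hb0 hbK
        refine ⟨m + 1, ?_⟩
        have e : mk (p * b) h = mk p hpK * mk b hbK := by
          apply Subtype.ext
          change algebraMap OL L (p * b) = algebraMap OL L p * algebraMap OL L b
          rw [map_mul]
        rw [e, pow_succ']
        exact hm.mul_left _
  -- irreducibility
  have hirr : Irreducible (mk p hpK) := by
    rw [irreducible_iff]
    constructor
    · intro hu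
      obtain ⟨y, hy⟩ := hu.exists_right_inv
      obtain ⟨c, hc, rfl⟩ := hex y
      apply hpu
      refine IsUnit.of_mul_eq_one c ?_
      apply hι
      have := congrArg (fun z : ↥((algebraMap OL L).range ⊓ K'.toSubring) => (z : L)) hy
      simpa using this
    · intro x y hxy
      obtain ⟨a, ha, rfl⟩ := hex x
      obtain ⟨b, hb, rfl⟩ := hex y
      have hpab : p = a * b := by
        apply hι
        have := congrArg (fun z : ↥((algebraMap OL L).range ⊓ K'.toSubring) => (z : L)) hxy
        simpa using this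
      have ha0 : a ≠ 0 := by
        rintro rfl
        exact hp0 (by rw [hpab, zero_mul])
      by_cases hau : IsUnit a
      · exact Or.inl (hunit a ha hau)
      · right
        apply hunit b hb
        obtain ⟨c, hc⟩ := hpdvd a ⟨ha0, hau, ha⟩
        -- a = p * c, p = a * b = p * c * b
        have h1 : p * 1 = p * (c * b) := by
          rw [mul_one, ← mul_assoc, ← hc, ← hpab]
        have h2 : (1 : OL) = c * b := mul_left_cancel₀ hp0 h1
        exact IsUnit.of_mul_eq_one c (by rw [mul_comm]; exact h2.symm)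
  refine IsDiscreteValuationRing.ofHasUnitMulPowIrreducibleFactorization
    ⟨mk p hpK, hirr, ?_⟩
  intro x hx
  obtain ⟨a, ha, rfl⟩ := hex x
  have ha0 : a ≠ 0 := by
    rintro rfl
    apply hx
    apply Subtype.ext
    change algebraMap OL L 0 = 0
    rw [map_zero]
  exact hfac a ha0 ha

end Groth.Agent.Lib.Helper21.RMb
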