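import Mathlib
import Groth.Agent.Lib.Helper18.EmbK
import Groth.Agent.Lib.Helper18.EmbI

/-!
# R1 for helper18 (S12274 / S12272): the ideals `J W` of the first-order embedded deformation
attached to `φ : I₀ ⟶ O/I₀` are compatible with passing to basic opens (helper21)
-/

set_option autoImplicit false
set_option linter.style.haveILetI false
set_option linter.unusedSectionVars false
universe u

open CategoryTheory CategoryTheory.Limits AlgebraicGeometry
open ArtFun ArtFun.Art Groth.Agent.Lib.Helper18 Groth.Agent.Lib.Helper18.EmbK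
open Groth.Agent.Lib.Helper20.DualSect
open Groth.Agent.Lib.Helper18.EmbA Groth.Agent.Lib.Helper18.EmbB Groth.Agent.Lib.Helper18.EmbC
open Groth.Agent.Lib.Helper3 Groth.Agent.Lib.Helper3.QCSec

namespace Groth.Agent.Lib.Helper21.RMc

variable {k : Type u} [Field k] {X : Scheme.{u}} {x : X ⟶ specPt k} (I₀ : X.IdealSheafData)
  (φ : ClSub.idealMod I₀ ⟶ ClSub.quotMod I₀)

lemma PW_res {W W' : (XA x (dual k k)).Opens} (h : W' ≤ W) (f : Γ(X, trU W)) :
    ((XA x (dual k k)).presheaf.map (homOfLE h).op).hom ((PW W).hom f) =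
      (PW W').hom (rres X ((XAincl x (dual k k)).preimage_mono h) f) := by
  have e : PW W ≫ (XA x (dual k k)).presheaf.map (homOfLE h).op =
      X.presheaf.map (homOfLE ((XAincl x (dual k k)).preimage_mono h)).op ≫ PW W' := by
    unfold PW
    rw [Scheme.Hom.appLE_map, Scheme.Hom.map_appLE]
  exact congr($e f)

lemma epsW_res {W W' : (XA x (dual k k)).Opens} (h : W' ≤ W) :
    ((XA x (dual k k)).presheaf.map (homOfLE h).op).hom (epsW W) = epsW W' := by
  have e : aW W ≫ (XA x (dual k k)).presheaf.map (homOfLE h).op = aW W' := by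
    unfold aW
    rw [Category.assoc]
    exact congrArg (fun t => (Scheme.ΓSpecIso (CommRingCat.of (dual k k))).inv ≫ t)
      (Scheme.Hom.appLE_map _ _ _)
  exact congrArg (fun ψ => ψ.hom (epsD (k := k))) e

/-- functions on `Y₀` as sections of `O/I₀` -/
def tq (U : X.Opens) (c : Γ(I₀.subscheme, VV (I₀ := I₀) U)) : Γ(ClSub.quotMod I₀, U) := c

lemma res_tq {U U' : X.Opens} (h : U' ≤ U) (c : Γ(I₀.subscheme, VV (I₀ := I₀) U)) :
    res (ClSub.quotMod I₀) h (tq I₀ U c) =
      tq I₀ U' ((I₀.subscheme.presheaf.map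
        (homOfLE (I₀.subschemeι.preimage_mono h)).op).hom c) := rfl

/-- the defect `ι₀ g + φ s` as a section of `O/I₀` -/
noncomputable def Dq (U : X.Opens) (g : Γ(X, U)) (s : Γ(ClSub.idealMod I₀, U)) :
    Γ(ClSub.quotMod I₀, U) :=
  tq I₀ U ((I₀.subschemeι.app U).hom g) + φ.app U s

lemma Dq_eq_zero_iff (U : X.Opens) (g : Γ(X, U)) (s : Γ(ClSub.idealMod I₀, U)) :
    Dq I₀ φ U g s = 0 ↔ (I₀.subschemeι.app U).hom g + fromQ U (φ.app U s) = 0 := Iff.rfl

lemma app_rres {U U' : X.Opens} (h : U' ≤ U) (g : Γ(X, U)) :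
    (I₀.subschemeι.app U').hom (rres X h g) =
      (I₀.subscheme.presheaf.map (homOfLE (I₀.subschemeι.preimage_mono h)).op).hom
        ((I₀.subschemeι.app U).hom g) := by
  have := I₀.subschemeι.naturality (homOfLE h).op
  exact congr($this g)

lemma res_Dq {U U' : X.Opens} (h : U' ≤ U) (g : Γ(X, U)) (s : Γ(ClSub.idealMod I₀, U)) :
    res (ClSub.quotMod I₀) h (Dq I₀ φ U g s) =
      Dq I₀ φ U' (rres X h g) (res (ClSub.idealMod I₀) h s) := by
  unfold Dq
  rw [QCExact.res_add, QCExact.app_res', res_tq, app_rres]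

lemma smul_Dq (U : X.Opens) (b g : Γ(X, U)) (s : Γ(ClSub.idealMod I₀, U)) :
    b • Dq I₀ φ U g s = Dq I₀ φ U (b * g) (b • s) := by
  unfold Dq
  rw [smul_add, Scheme.Modules.Hom.app_smul, map_mul]
  rfl

lemma exists_rres {U U' : X.Opens} (hU : IsAffineOpen U) (a : Γ(X, U)) (e : U' = X.basicOpen a)
    (h : U' ≤ U) (g' : Γ(X, U')) :
    ∃ (n : ℕ) (g : Γ(X, U)), rres X h g = (rres X h a) ^ n * g' := by
  subst e
  obtain ⟨n, y, hy⟩ := exists_eq_pow_mul_of_isAffineOpen X U hU a g'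
  exact ⟨n, y, hy⟩

lemma isUnit_rres {U U' : X.Opens} (a : Γ(X, U)) (e : U' = X.basicOpen a) (h : U' ≤ U) :
    IsUnit (rres X h a) := by
  subst e
  exact X.toRingedSpace.isUnit_res_basicOpen a

lemma core {U U' : X.Opens} (hU : IsAffineOpen U) (a : Γ(X, U)) (e : U' = X.basicOpen a)
    (h : U' ≤ U) (s' : Γ(ClSub.idealMod I₀, U')) (g' : Γ(X, U'))
    (hc : Dq I₀ φ U' g' s' = 0) :
    ∃ (N : ℕ) (s : Γ(ClSub.idealMod I₀, U)) (g : Γ(X, U)),
      Dq I₀ φ U g s = 0 ∧
      res (ClSub.idealMod I₀) h s = (rres X h a) ^ N • s' ∧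
      rres X h g = (rres X h a) ^ N * g' := by
  have L1 := isLocSec_of_isQuasicoherent (ClSub.idealMod I₀) hU a U' e h
  have L2 := isLocSec_of_isQuasicoherent (ClSub.quotMod I₀) hU a U' e h
  obtain ⟨n₁, s₁, hs₁⟩ := L1.surj s'
  obtain ⟨n₂, g₁, hg₁⟩ := exists_rres hU a e h g'
  have hs₂ : res (ClSub.idealMod I₀) h (a ^ n₂ • s₁) = (rres X h a) ^ (n₂ + n₁) • s' := by
    rw [res_pow_smul, hs₁, ← mul_smul, ← pow_add]
  have hg₂ : rres X h (a ^ n₁ * g₁) = (rres X h a) ^ (n₂ + n₁) * g' := by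
    have : rres X h (a ^ n₁ * g₁) = rres X h (a ^ n₁) * rres X h g₁ := map_mul _ _ _
    rw [this, rres_pow, hg₁, ← mul_assoc, ← pow_add, add_comm]
  have hd : res (ClSub.quotMod I₀) h (Dq I₀ φ U (a ^ n₁ * g₁) (a ^ n₂ • s₁)) = 0 := by
    rw [res_Dq, hs₂, hg₂, ← smul_Dq, hc, smul_zero]
  obtain ⟨m, hm⟩ := L2.inj _ hd
  refine ⟨m + (n₂ + n₁), a ^ m • (a ^ n₂ • s₁), a ^ m * (a ^ n₁ * g₁), ?_, ?_, ?_⟩
  · rw [← smul_Dq]; exact hm
  · rw [res_pow_smul, hs₂, ← mul_smul, ← pow_add]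
  · have : rres X h (a ^ m * (a ^ n₁ * g₁)) = rres X h (a ^ m) * rres X h (a ^ n₁ * g₁) :=
      map_mul _ _ _
    rw [this, rres_pow, hg₂, ← mul_assoc, ← pow_add]

lemma mem_J_res {W W' : (XA x (dual k k)).Opens} (hW : IsAffineOpen W) (hW' : IsAffineOpen W')
    (h : W' ≤ W) (z : Γ(XA x (dual k k), W)) (hz : z ∈ J I₀ φ hW) :
    ((XA x (dual k k)).presheaf.map (homOfLE h).op).hom z ∈ J I₀ φ hW' := by
  obtain ⟨s, g, rfl, hc⟩ : z ∈ Jset I₀ φ W := hz
  have hU : trU W' ≤ trU W := (XAincl x (dual k k)).preimage_mono h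
  refine (show _ ∈ Jset I₀ φ W' from ⟨res (ClSub.idealMod I₀) hU s, rres X hU g, ?_, ?_⟩)
  · rw [map_add, map_mul, PW_res h, PW_res h, epsW_res h, IdealMod.val_res]
  · have h0 : Dq I₀ φ (trU W) g s = 0 := hc
    have h1 := congrArg (res (ClSub.quotMod I₀) hU) h0
    rw [res_Dq, res_zero] at h1
    exact h1

/-- R1: the ideals `J W` are compatible with passing to basic opens. -/
theorem J_map_basicOpen (W : (XA x (dual k k)).affineOpens) (w : Γ(XA x (dual k k), W.1)) :
    (J I₀ φ W.2).map ((XA x (dual k k)).presheaf.map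
        (homOfLE ((XA x (dual k k)).basicOpen_le w)).op).hom =
      J I₀ φ ((XA x (dual k k)).affineBasicOpen w).2 := by
  apply le_antisymm
  · refine Ideal.map_le_iff_le_comap.mpr ?_
    intro z hz
    exact mem_J_res I₀ φ W.2 ((XA x (dual k k)).affineBasicOpen w).2 _ z hz
  · intro w' hw'
    obtain ⟨s', g', rfl, hc⟩ : w' ∈ Jset I₀ φ ((XA x (dual k k)).basicOpen w) := hw'
    have hle : (XA x (dual k k)).basicOpen w ≤ W.1 := (XA x (dual k k)).basicOpen_le w
    have hU'U : trU ((XA x (dual k k)).basicOpen w) ≤ trU W.1 :=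
      (XAincl x (dual k k)).preimage_mono hle
    have e : trU ((XA x (dual k k)).basicOpen w) =
        X.basicOpen (((XAincl x (dual k k)).app W.1).hom w) :=
      Scheme.preimage_basicOpen (XAincl x (dual k k)) w
    obtain ⟨N, s, g, hcond, hs, hg⟩ := core I₀ φ (isAffineOpen_trU W.2)
      (((XAincl x (dual k k)).app W.1).hom w) e hU'U s' g' hc
    have hunit := isUnit_rres (((XAincl x (dual k k)).app W.1).hom w) e hU'U
    have hz : (PW W.1).hom (IdealMod.val I₀ s) + epsW W.1 * (PW W.1).hom g ∈ J I₀ φ W.2 :=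
      (show _ ∈ Jset I₀ φ W.1 from ⟨s, g, rfl, hcond⟩)
    have hres : ((XA x (dual k k)).presheaf.map (homOfLE hle).op).hom
        ((PW W.1).hom (IdealMod.val I₀ s) + epsW W.1 * (PW W.1).hom g) =
        (PW ((XA x (dual k k)).basicOpen w)).hom
          (rres X hU'U (((XAincl x (dual k k)).app W.1).hom w)) ^ N *
        ((PW ((XA x (dual k k)).basicOpen w)).hom (IdealMod.val I₀ s') +
          epsW ((XA x (dual k k)).basicOpen w) *
            (PW ((XA x (dual k k)).basicOpen w)).hom g') := by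
      rw [map_add, map_mul, PW_res hle, PW_res hle, epsW_res hle, ← IdealMod.val_res, hs,
        IdealMod.val_smul, hg, map_mul, map_mul, map_pow]
      ring
    have hu2 : IsUnit ((PW ((XA x (dual k k)).basicOpen w)).hom
        (rres X hU'U (((XAincl x (dual k k)).app W.1).hom w)) ^ N) :=
      (hunit.map _).pow N
    have hmem := Ideal.mem_map_of_mem ((XA x (dual k k)).presheaf.map (homOfLE hle).op).hom hz
    rw [hres] at hmem
    exact (Ideal.unit_mul_mem_iff_mem _ hu2).mp hmem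

end Groth.Agent.Lib.Helper21.RMc
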