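import Mathlib
import Groth.Prelude
import Groth.Agent.S4989

/-!
# G1 for helper3 (S19377): local rings of a smooth scheme over a field are domains (helper21)
-/

set_option autoImplicit false
set_option linter.style.haveILetI false
universe u

open CategoryTheory CategoryTheory.Limits AlgebraicGeometry

namespace Groth.Agent.Lib.Helper21.RMd

/-- the stalks of `Spec k`, `k` a field, are integrally closed -/
theorem isIntegrallyClosed_stalk_spec_field (k : Type u) [Field k] (y : Spec (.of k)) :
    IsIntegrallyClosed ((Spec (.of k)).presheaf.stalk y) := by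
  letI alg : Algebra ↑(CommRingCat.of k) ↑((Spec (.of k)).presheaf.stalk y) :=
    StructureSheaf.stalkAlgebra (↑(CommRingCat.of k)) y
  haveI : y.asIdeal.IsPrime := y.isPrime
  haveI : IsLocalization.AtPrime (↑((Spec (.of k)).presheaf.stalk y)) y.asIdeal :=
    StructureSheaf.IsLocalization.to_stalk (CommRingCat.of k) y
  haveI : IsDomain ↑(CommRingCat.of k) := inferInstanceAs (IsDomain k)
  haveI : IsIntegrallyClosed ↑(CommRingCat.of k) := inferInstanceAs (IsIntegrallyClosed k)
  exact isIntegrallyClosed_of_isLocalization _ y.asIdeal.primeCompl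
    (fun a ha => mem_nonZeroDivisors_of_ne_zero (fun h0 => ha (h0 ▸ y.asIdeal.zero_mem)))

/-- G1: the local rings of a smooth scheme over a field are domains. -/
theorem isDomain_stalk_of_smooth_over_field {k : Type u} [Field k] {S : Scheme.{u}}
    (g : S ⟶ Spec (.of k)) [Smooth g] (s : S) : IsDomain (S.presheaf.stalk s) := by
  have hs : s ∈ g.smoothLocus := by rw [g.smoothLocus_eq_top]; trivial
  have h := (Groth.Agent.S4989.result g s hs).2
  exact (h.mpr ⟨inferInstance, isIntegrallyClosed_stalk_spec_field k _⟩).1

/-- also: they are integrally closed -/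
theorem isIntegrallyClosed_stalk_of_smooth_over_field {k : Type u} [Field k] {S : Scheme.{u}}
    (g : S ⟶ Spec (.of k)) [Smooth g] (s : S) : IsIntegrallyClosed (S.presheaf.stalk s) := by
  have hs : s ∈ g.smoothLocus := by rw [g.smoothLocus_eq_top]; trivial
  have h := (Groth.Agent.S4989.result g s hs).2
  exact (h.mpr ⟨inferInstance, isIntegrallyClosed_stalk_spec_field k _⟩).2

end Groth.Agent.Lib.Helper21.RMd
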