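import Mathlib
import Groth.Prelude.Def_ArtFun2
import Groth.Agent.Lib.Helper19.ArtFunTangent

/-!
# X2 for helper18 (S12276): under `H0` and `Heps`, `F(k[kʳ]) ≃ F(k[ε])ʳ` (helper21)
-/

set_option autoImplicit false
set_option linter.unusedSectionVars false
set_option linter.style.haveILetI false
universe v u

open CategoryTheory
open ArtFun ArtFun.Art Groth.Agent.Lib.Helper19.ArtFunTangent

namespace Groth.Agent.Lib.Helper21.RMe

variable {Λ : Type u} {k : Type u} [CommRing Λ] [Field k] [Algebra Λ k]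

section Generic

variable {M N : Type u} [AddCommGroup M] [Module k M] [Module kᵐᵒᵖ M] [SMulCommClass k kᵐᵒᵖ M]
  [IsCentralScalar k M] [Module Λ M] [IsScalarTower Λ k M] [IsScalarTower Λ kᵐᵒᵖ M]
  [Module.Finite k M]
  [AddCommGroup N] [Module k N] [Module kᵐᵒᵖ N] [SMulCommClass k kᵐᵒᵖ N]
  [IsCentralScalar k N] [Module Λ N] [IsScalarTower Λ k N] [IsScalarTower Λ kᵐᵒᵖ N]
  [Module.Finite k N]

/-- functoriality of `F(k ⊕ M)` in linear equivalences -/
def equivOfLinearEquiv (F : Art Λ k ⥤ Type v) (e : M ≃ₗ[k] N) :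
    F.obj (tsz Λ k M) ≃ F.obj (tsz Λ k N) where
  toFun := F.map (tszHom (e : M →ₗ[k] N))
  invFun := F.map (tszHom (e.symm : N →ₗ[k] M))
  left_inv w := by
    have h : (tszHom (e : M →ₗ[k] N) : tsz Λ k M ⟶ tsz Λ k N) ≫ tszHom (e.symm : N →ₗ[k] M) =
        𝟙 _ := by
      rw [tszHom_comp, ← tszHom_id]
      exact tszHom_congr (fun m => e.symm_apply_apply m)
    rw [map_map, h, map_id']
  right_inv w := by
    have h : (tszHom (e.symm : N →ₗ[k] M) : tsz Λ k N ⟶ tsz Λ k M) ≫ tszHom (e : M →ₗ[k] N) =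
        𝟙 _ := by
      rw [tszHom_comp, ← tszHom_id]
      exact tszHom_congr (fun m => e.apply_symm_apply m)
    rw [map_map, h, map_id']

/-- `F(k ⊕ (M × k)) ≃ F(k ⊕ M) × F(k[ε])` -/
noncomputable def pairEquiv {F : Art Λ k ⥤ Type v} (h0 : H0 F) (h2 : Heps F) :
    F.obj (tsz Λ k (M × k)) ≃ F.obj (tsz Λ k M) × F.obj (dual Λ k) :=
  Equiv.ofBijective
    (fun z => (F.map (tszHom (LinearMap.fst k M k)) z,
      F.map (tszHom (LinearMap.snd k M k) : tsz Λ k (M × k) ⟶ tsz Λ k k) z))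
    ⟨fun z z' h => inj_pair h2 z z' (congrArg Prod.fst h) (congrArg Prod.snd h),
     fun p => by
      obtain ⟨z, h1, h2'⟩ := surj_pair h0 h2 p.1 p.2
      exact ⟨z, Prod.ext h1 h2'⟩⟩

/-- the section `k → k ⊕ M` -/
def baseToTsz : base Λ k ⟶ tsz Λ k M :=
  ⟨TrivSqZeroExt.inlAlgHom Λ k M, AlgHom.ext fun _ => rfl⟩

theorem toBase_baseToTsz [Subsingleton M] :
    toBase (tsz Λ k M) ≫ baseToTsz = 𝟙 (tsz Λ k M) := by
  apply hom_ext
  apply AlgHom.ext
  intro x
  exact TrivSqZeroExt.ext rfl (Subsingleton.elim _ _)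

theorem nonempty_unique_of_subsingleton [Subsingleton M] {F : Art Λ k ⥤ Type v} (h0 : H0 F) :
    Nonempty (Unique (F.obj (tsz Λ k M))) := by
  haveI := h0.2
  refine ⟨{ default := F.map baseToTsz h0.1.some, uniq := fun w => ?_ }⟩
  have h : w = F.map baseToTsz (F.map (toBase (tsz Λ k M)) w) := by
    rw [map_map, toBase_baseToTsz, map_id']
  rw [h]
  exact congrArg _ (Subsingleton.elim _ _)

end Generic

/-- `k^{r+1} ≃ k^r × k` -/
def finSuccLE (k : Type u) [Field k] (r : ℕ) : (Fin (r + 1) → k) ≃ₗ[k] (Fin r → k) × k where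
  toFun f := (fun i => f i.castSucc, f (Fin.last r))
  invFun p := Fin.snoc (α := fun _ => k) p.1 p.2
  map_add' f g := rfl
  map_smul' c f := rfl
  left_inv f := by
    funext i
    refine Fin.lastCases ?_ (fun j => ?_) i <;> simp
  right_inv p := by
    ext <;> simp

/-- `Xʳ × X ≃ X^{r+1}` -/
def finSuccE (X : Type v) (r : ℕ) : (Fin r → X) × X ≃ (Fin (r + 1) → X) where
  toFun p := Fin.snoc (α := fun _ => X) p.1 p.2
  invFun f := (fun i => f i.castSucc, f (Fin.last r))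
  left_inv p := by
    ext <;> simp
  right_inv f := by
    funext i
    refine Fin.lastCases ?_ (fun j => ?_) i <;> simp

/-- X2: under `H0` and `Heps`, `F(k[kʳ]) ≃ F(k[ε])ʳ`. -/
theorem nonempty_equiv_tsz_pi {k : Type u} [Field k] (F : Art k k ⥤ Type u) (h0 : H0 F)
    (h2 : Heps F) (r : ℕ) :
    Nonempty (F.obj (tsz k k (Fin r → k)) ≃ (Fin r → F.obj (dual k k))) := by
  induction r with
  | zero =>
    obtain ⟨hu⟩ := nonempty_unique_of_subsingleton (Λ := k) (M := Fin 0 → k) h0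
    exact ⟨Equiv.ofUnique _ _⟩
  | succ r ih =>
    obtain ⟨e⟩ := ih
    exact ⟨(equivOfLinearEquiv F (finSuccLE k r)).trans
      ((pairEquiv h0 h2).trans
        ((Equiv.prodCongr e (Equiv.refl _)).trans (finSuccE _ r)))⟩

end Groth.Agent.Lib.Helper21.RMe
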