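import Mathlib
import Groth.Prelude.Def_ArtFun2
import Groth.Agent.Lib.Helper19.ArtFunBasic

/-!
# D4 for helper18 (S12265): `h_O` satisfies `H0` and `Heps` (helper21)
-/

set_option autoImplicit false
universe u

open CategoryTheory
open ArtFun ArtFun.Art Groth.Agent.Lib.Helper19.ArtFunBasic

namespace Groth.Agent.Lib.Helper21.RMf

/-- D4: `h_O` satisfies `H0` and `Heps`. -/
theorem h0_heps_hR {k : Type u} [Field k] (O : Type u) [CommRing O] [Algebra k O]
    (resO : O →ₐ[k] k) :
    ArtFun.H0 (ArtFun.hR O resO) ∧ ArtFun.Heps (ArtFun.hR O resO) := by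
  refine ⟨⟨⟨(⟨resO, AlgHom.id_comp _⟩ : HomSet O resO (base k k))⟩,
    ⟨fun φ ψ => Subtype.ext ?_⟩⟩, ?_⟩
  · have key : ∀ χ : HomSet O resO (base k k), χ.1 = resO := fun χ =>
      (AlgHom.id_comp χ.1).symm.trans χ.2
    exact (key φ).trans (key ψ).symm
  · intro B A' p' p'' h
    constructor
    · intro φ ψ hφψ
      have h1 : HomSet.map p' φ = HomSet.map p' ψ := congrArg (fun t => t.1.1) hφψ
      have h2 : HomSet.map p'' φ = HomSet.map p'' ψ := congrArg (fun t => t.1.2) hφψ
      apply Subtype.ext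
      apply AlgHom.ext
      intro o
      apply h.inj
      · exact AlgHom.congr_fun (congrArg Subtype.val h1) o
      · exact AlgHom.congr_fun (congrArg Subtype.val h2) o
    · rintro ⟨⟨φ', φ''⟩, hcompat⟩
      obtain ⟨ψ, hψ1, hψ2⟩ := exists_lift_of_isFibreProd h φ'.1 φ''.1
        (φ'.2.trans φ''.2.symm)
      have hres : B.res.comp ψ = resO := by
        rw [← p'.res_comp, AlgHom.comp_assoc, hψ1, φ'.2]
      refine ⟨(⟨ψ, hres⟩ : HomSet O resO B), ?_⟩
      apply FibProd.ext
      · exact Subtype.ext hψ1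
      · exact Subtype.ext hψ2

end Groth.Agent.Lib.Helper21.RMf
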