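import Mathlib
import Groth.Agent.Lib.Helper21.KDiffSmoothB
import Groth.Agent.Lib.Helper21.PthRootS
import Groth.Agent.Lib.Helper21.GeomRegA
import Groth.Agent.Lib.Helper26.RegularRing

set_option autoImplicit false
set_option linter.style.haveILetI false

namespace Groth.Agent.Lib.Helper21.RatPtReg

open IsLocalRing TensorProduct

universe u

section flat

variable (k K A : Type u) [Field k] [Field K] [Algebra k K] [CommRing A] [Algebra k A]

attribute [local instance] Algebra.TensorProduct.rightAlgebra in
theorem flat_right : Module.Flat A (K ⊗[k] A) := by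
  let g : A ⊗[k] K ≃ₗ[A] K ⊗[k] A :=
    { (TensorProduct.comm k A K) with
      map_smul' := fun a x => by
        induction x using TensorProduct.induction_on with
        | zero => simp
        | tmul a' c =>
          simp only [AddHom.toFun_eq_coe, LinearMap.coe_toAddHom, LinearEquiv.coe_coe,
            RingHom.id_apply, TensorProduct.smul_tmul', TensorProduct.comm_tmul, smul_eq_mul]
          rw [Algebra.smul_def]
          show c ⊗ₜ[k] (a * a') = (1 ⊗ₜ[k] a) * (c ⊗ₜ[k] a')
          rw [Algebra.TensorProduct.tmul_mul_tmul, one_mul]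
        | add x y hx hy =>
          simp only [AddHom.toFun_eq_coe, LinearMap.coe_toAddHom, LinearEquiv.coe_coe,
            RingHom.id_apply, smul_add, map_add] at hx hy ⊢
          rw [hx, hy] }
  exact Module.Flat.of_linearEquiv g.symm

end flat

section rational

variable (k A : Type u) [Field k] [CommRing A] [Algebra k A] [IsLocalRing A] [IsNoetherianRing A]

/-- a regular local algebra with a rational residue field is adically formally smooth -/
theorem isAdicFormallySmooth_of_regular_of_rational (π : A →ₐ[k] k)
    (hπ : RingHom.ker π = maximalIdeal A) (hreg : IsRegularLocalRing A) :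
    CAlgX.IsAdicFormallySmooth k A (maximalIdeal A) := by
  refine Groth.Agent.Lib.Helper21.KDiffSmooth.S2471_aux.mpr ⟨hreg, ?_⟩
  apply Groth.Agent.Lib.Helper21.PthRoot.injective_of_forall_exists_derivation k A
  intro δ
  have hres : ∀ a : A, residue A a = algebraMap k (ResidueField A) (π a) := by
    intro a
    rw [IsScalarTower.algebraMap_apply k A (ResidueField A)]
    show residue A a = residue A (algebraMap k A (π a))
    rw [← sub_eq_zero, ← map_sub, residue_eq_zero_iff, ← hπ, RingHom.mem_ker, map_sub,
      AlgHom.commutes, sub_eq_zero]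
    rfl
  let D : Derivation ℤ A (ResidueField A) := Derivation.mk'
    (AddMonoidHom.toIntLinearMap
      { toFun := fun a => δ (π a)
        map_zero' := by rw [map_zero, map_zero]
        map_add' := fun a b => by rw [map_add, map_add] })
    (fun a b => by
      show δ (π (a * b)) = a • δ (π b) + b • δ (π a)
      rw [map_mul, Derivation.leibniz, Algebra.smul_def a, Algebra.smul_def b,
        Algebra.smul_def (π a), Algebra.smul_def (π b)]
      show _ = residue A a * _ + residue A b * _
      rw [hres a, hres b])
  refine ⟨D, fun x => ?_⟩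
  show δ (π (algebraMap k A x)) = δ x
  rw [AlgHom.commutes]
  rfl

theorem regular_iff (K : Type u) [Field K] [Algebra k K] (π : A →ₐ[k] k)
    (hπ : RingHom.ker π = maximalIdeal A) (𝔮 : Ideal (K ⊗[k] A)) [𝔮.IsPrime]
    (h𝔮 : 𝔮.comap (Algebra.TensorProduct.includeRight : A →ₐ[k] K ⊗[k] A) = maximalIdeal A)
    [IsNoetherianRing (Localization.AtPrime 𝔮)] :
    IsRegularLocalRing A ↔ IsRegularLocalRing (Localization.AtPrime 𝔮) := by
  constructor
  · intro hreg
    have h1 := isAdicFormallySmooth_of_regular_of_rational k A π hπ hreg
    have h2 := Groth.Agent.Lib.Helper21.GeomReg.isAdicFormallySmooth_localization_baseChange'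
      k A h1 K 𝔮 h𝔮
    exact (Groth.Agent.Lib.Helper21.CohenStruct.regular_of_isAdicFormallySmooth K _ h2).1
  · intro hreg
    letI : Algebra A (K ⊗[k] A) := Algebra.TensorProduct.rightAlgebra
    haveI : Module.Flat A (K ⊗[k] A) := flat_right k K A
    haveI : Module.Flat (K ⊗[k] A) (Localization.AtPrime 𝔮) :=
      IsLocalization.flat _ 𝔮.primeCompl
    haveI : Module.Flat A (Localization.AtPrime 𝔮) := Module.Flat.trans A (K ⊗[k] A) _
    haveI : IsLocalHom (algebraMap A (Localization.AtPrime 𝔮)) := ⟨fun a ha => by
      rw [IsScalarTower.algebraMap_apply A (K ⊗[k] A) (Localization.AtPrime 𝔮),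
        IsLocalization.AtPrime.isUnit_to_map_iff (Localization.AtPrime 𝔮) 𝔮] at ha
      have h1 : a ∉ maximalIdeal A := by
        rw [← h𝔮]
        exact ha
      exact IsLocalRing.notMem_maximalIdeal.mp h1⟩
    exact Groth.Agent.Lib.Helper26.RegularRing.isRegularLocalRing_of_flat A
      (Localization.AtPrime 𝔮)

end rational

end Groth.Agent.Lib.Helper21.RatPtReg
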