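import Mathlib

/-!
# Helper library (helper21): the closed fibre of a localization
`C = B_P → D = (B/I₀)_{P/I₀}` is surjective with kernel `I₀ C`.
-/

set_option autoImplicit false

namespace Groth.Agent.Lib.Helper21.RegSec

universe u

open RingTheory.Sequence

section fibre

variable {B : Type u} [CommRing B] (I₀ : Ideal B) (Pbar : Ideal (B ⧸ I₀)) [Pbar.IsPrime]

/-- the map to the localization of the quotient -/
noncomputable def phi : Localization.AtPrime (Pbar.comap (Ideal.Quotient.mk I₀)) →+*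
    Localization.AtPrime Pbar :=
  Localization.localRingHom (Pbar.comap (Ideal.Quotient.mk I₀)) Pbar (Ideal.Quotient.mk I₀) rfl

theorem phi_surjective : Function.Surjective (phi I₀ Pbar) :=
  RingHom.surjective_localRingHom_of_surjective (Ideal.Quotient.mk I₀)
    Ideal.Quotient.mk_surjective Pbar

theorem phi_algebraMap (b : B) :
    phi I₀ Pbar (algebraMap B _ b) = algebraMap (B ⧸ I₀) _ (Ideal.Quotient.mk I₀ b) :=
  Localization.localRingHom_to_map _ _ _ _ b

theorem mem_map_of_phi_eq_zero (c : Localization.AtPrime (Pbar.comap (Ideal.Quotient.mk I₀)))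
    (hc : phi I₀ Pbar c = 0) :
    c ∈ I₀.map (algebraMap B (Localization.AtPrime (Pbar.comap (Ideal.Quotient.mk I₀)))) := by
  obtain ⟨b, s, rfl⟩ := IsLocalization.exists_mk'_eq (Pbar.comap (Ideal.Quotient.mk I₀)).primeCompl c
  rw [phi, Localization.localRingHom_mk', IsLocalization.mk'_eq_zero_iff] at hc
  obtain ⟨t, ht⟩ := hc
  obtain ⟨t', ht'⟩ := Ideal.Quotient.mk_surjective (t : B ⧸ I₀)
  rw [IsLocalization.mk'_mem_map_algebraMap_iff]
  refine ⟨t', ?_, ?_⟩
  · show t' ∉ Pbar.comap (Ideal.Quotient.mk I₀)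
    rw [Ideal.mem_comap, ht']
    exact t.2
  · rw [← Ideal.Quotient.eq_zero_iff_mem, map_mul, ht']
    exact ht

theorem phi_eq_zero_of_mem_map (c : Localization.AtPrime (Pbar.comap (Ideal.Quotient.mk I₀)))
    (hc : c ∈ I₀.map (algebraMap B (Localization.AtPrime (Pbar.comap (Ideal.Quotient.mk I₀))))) :
    phi I₀ Pbar c = 0 := by
  have h : I₀.map (algebraMap B (Localization.AtPrime (Pbar.comap (Ideal.Quotient.mk I₀)))) ≤
      RingHom.ker (phi I₀ Pbar) := by
    rw [Ideal.map_le_iff_le_comap]
    intro b hb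
    rw [Ideal.mem_comap, RingHom.mem_ker, phi_algebraMap, Ideal.Quotient.eq_zero_iff_mem.mpr hb,
      map_zero]
  exact h hc

/-- regular sequences on the fibre -/
theorem isWeaklyRegular_quotient {r : ℕ}
    (x : Fin r → Localization.AtPrime (Pbar.comap (Ideal.Quotient.mk I₀)))
    (h : IsWeaklyRegular (Localization.AtPrime Pbar) (List.ofFn fun i => phi I₀ Pbar (x i))) :
    IsWeaklyRegular
      (Localization.AtPrime (Pbar.comap (Ideal.Quotient.mk I₀)) ⧸
        (I₀.map (algebraMap B (Localization.AtPrime (Pbar.comap (Ideal.Quotient.mk I₀)))) •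
          (⊤ : Submodule (Localization.AtPrime (Pbar.comap (Ideal.Quotient.mk I₀)))
            (Localization.AtPrime (Pbar.comap (Ideal.Quotient.mk I₀))))))
      (List.ofFn x) := by
  letI : Algebra (Localization.AtPrime (Pbar.comap (Ideal.Quotient.mk I₀)))
      (Localization.AtPrime Pbar) := (phi I₀ Pbar).toAlgebra
  have h' : IsWeaklyRegular (Localization.AtPrime Pbar)
      ((List.ofFn x).map (algebraMap (Localization.AtPrime (Pbar.comap (Ideal.Quotient.mk I₀)))
        (Localization.AtPrime Pbar))) := by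
    rw [List.map_ofFn]
    exact h
  rw [isWeaklyRegular_map_algebraMap_iff] at h'
  let ℓ : Localization.AtPrime (Pbar.comap (Ideal.Quotient.mk I₀)) →ₗ[
      Localization.AtPrime (Pbar.comap (Ideal.Quotient.mk I₀))] Localization.AtPrime Pbar :=
    Algebra.linearMap _ _
  have hsurj : Function.Surjective ℓ := phi_surjective I₀ Pbar
  have hker : I₀.map (algebraMap B (Localization.AtPrime (Pbar.comap (Ideal.Quotient.mk I₀)))) •
      (⊤ : Submodule (Localization.AtPrime (Pbar.comap (Ideal.Quotient.mk I₀)))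
        (Localization.AtPrime (Pbar.comap (Ideal.Quotient.mk I₀)))) = LinearMap.ker ℓ := by
    ext c
    rw [smul_eq_mul, Ideal.mul_top, LinearMap.mem_ker]
    exact ⟨phi_eq_zero_of_mem_map I₀ Pbar c, mem_map_of_phi_eq_zero I₀ Pbar c⟩
  exact (((Submodule.quotEquivOfEq _ _ hker).trans
    (ℓ.quotKerEquivOfSurjective hsurj)).isWeaklyRegular_congr _).mpr h'

/-- the maximal ideal of the fibre -/
theorem maximalIdeal_eq_map (H : Ideal B) (hP : Pbar.comap (Ideal.Quotient.mk I₀) = H ⊔ I₀) :
    IsLocalRing.maximalIdeal (Localization.AtPrime Pbar) =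
      (H.map (algebraMap B (Localization.AtPrime (Pbar.comap (Ideal.Quotient.mk I₀))))).map
        (phi I₀ Pbar) := by
  have h1 : Pbar = H.map (Ideal.Quotient.mk I₀) := by
    rw [← Ideal.map_comap_of_surjective _ Ideal.Quotient.mk_surjective Pbar, hP, Ideal.map_sup,
      Ideal.map_quotient_self, sup_bot_eq]
  have h2 : (phi I₀ Pbar).comp
      (algebraMap B (Localization.AtPrime (Pbar.comap (Ideal.Quotient.mk I₀)))) =
      (algebraMap (B ⧸ I₀) (Localization.AtPrime Pbar)).comp (Ideal.Quotient.mk I₀) :=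
    RingHom.ext fun b => phi_algebraMap I₀ Pbar b
  rw [← Localization.AtPrime.map_eq_maximalIdeal, Ideal.map_map, h2, ← Ideal.map_map, ← h1]

end fibre

end Groth.Agent.Lib.Helper21.RegSec
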