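import Mathlib
import Groth.Prelude.Def_EGA4b
import Groth.Agent.Lib.Helper9.RegLocal
import Groth.Agent.Lib.Helper4.RegCM
import Groth.Agent.Lib.Helper21.RegSecC

/-!
# Helper library (helper21): the Nagata criterion for openness of the regular locus
Local part: if `A_p` is regular, `p = (x_1, …, x_d)` near `p` with `d = ht p`, and
`(A/p)_{q/p}` is regular for a prime `q ⊇ p` near `p`, then `A_q` is regular.
-/

set_option autoImplicit false

namespace Groth.Agent.Lib.Helper21.RegLoc

universe u

open IsLocalRing

/-- `ht p + dim R/p ≤ dim R` -/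
theorem height_add_ringKrullDim_quotient_le {R : Type*} [CommRing R] (p : Ideal R)
    [hp : p.IsPrime] :
    ((p.height : ℕ∞) : WithBot ℕ∞) + ringKrullDim (R ⧸ p) ≤ ringKrullDim R := by
  let P : PrimeSpectrum R := ⟨p, hp⟩
  have h1 : ringKrullDim (R ⧸ p) = ((Order.coheight P : ℕ∞) : WithBot ℕ∞) := by
    rw [ringKrullDim_quotient, Order.coheight_eq_krullDim_Ici]
    have : PrimeSpectrum.zeroLocus (p : Set R) = Set.Ici P := by
      ext q
      rw [PrimeSpectrum.mem_zeroLocus, Set.mem_Ici]
      exact Iff.rfl
    rw [this]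
  have h2 : p.height = Order.height P := P.height_eq_orderHeight
  rw [h1, h2]
  have : Nonempty (PrimeSpectrum R) := ⟨P⟩
  rw [ringKrullDim, Order.krullDim_eq_iSup_height_add_coheight_of_nonempty, ← WithBot.coe_add]
  exact WithBot.coe_le_coe.mpr
    (le_iSup (fun a : PrimeSpectrum R => Order.height a + Order.coheight a) P)

/-- regularity lifts along a surjection whose kernel is generated by `r` elements of the maximal
ideal when the dimension drops by exactly `r` -/
theorem isRegularLocalRing_of_surjective {R C : Type u} [CommRing R] [IsLocalRing R]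
    [IsNoetherianRing R] [CommRing C] [IsRegularLocalRing C] (φ : R →+* C)
    (hφ : Function.Surjective φ) (r : ℕ) (x : Fin r → R) (hx : ∀ i, x i ∈ maximalIdeal R)
    (hker : RingHom.ker φ = Ideal.span (Set.range x))
    (hdim : ringKrullDim C + r = ringKrullDim R) : IsRegularLocalRing R := by
  let x' : Fin r → maximalIdeal R := fun i => ⟨x i, hx i⟩
  have hJ : Ideal.span (Set.range fun i => (x' i : R)) = RingHom.ker φ := hker.symm
  let e : (R ⧸ Ideal.span (Set.range fun i => (x' i : R))) ≃+* C :=
    (Ideal.quotEquivOfEq hJ).trans (RingHom.quotientKerEquivOfSurjective hφ)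
  haveI : IsRegularLocalRing (R ⧸ Ideal.span (Set.range fun i => (x' i : R))) :=
    IsRegularLocalRing.of_ringEquiv e.symm
  refine (Groth.Agent.Lib.Helper9.RegLocal.regular_of_quotient_regular R r x' ?_).1
  rw [ringKrullDim_eq_of_ringEquiv e]
  exact hdim

section main

variable {A : Type u} [CommRing A] [IsNoetherianRing A] (p : Ideal A) [p.IsPrime]

/-- generators of `p` near `p` when `A_p` is regular -/
theorem exists_gens_away (hreg : IsRegularLocalRing (Localization.AtPrime p)) :
    ∃ (d : ℕ) (x : Fin d → A) (f : A), p.height = d ∧ (∀ i, x i ∈ p) ∧ f ∉ p ∧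
      ∀ a ∈ p, f * a ∈ Ideal.span (Set.range x) := by
  classical
  obtain ⟨d, hd⟩ := Groth.Agent.Lib.Helper4.RegCM.exists_nat_ringKrullDim (Localization.AtPrime p)
  have hht : p.height = d := by
    have := IsLocalization.AtPrime.ringKrullDim_eq_height p (Localization.AtPrime p)
    rw [hd] at this
    exact_mod_cast this.symm
  obtain ⟨y, hy, -⟩ :=
    Groth.Agent.Lib.Helper4.RegCM.exists_regular_system (Localization.AtPrime p) d hd
  have hmax : maximalIdeal (Localization.AtPrime p) =
      p.map (algebraMap A (Localization.AtPrime p)) :=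
    (Localization.AtPrime.map_eq_maximalIdeal).symm
  have hy' : ∀ i, ∃ (a : A) (s : A), a ∈ p ∧ s ∉ p ∧
      y i * algebraMap A (Localization.AtPrime p) s = algebraMap A (Localization.AtPrime p) a := by
    intro i
    have hmem : y i ∈ p.map (algebraMap A (Localization.AtPrime p)) := by
      rw [← hmax, ← hy]
      exact Ideal.subset_span ⟨i, rfl⟩
    rw [IsLocalization.mem_map_algebraMap_iff p.primeCompl] at hmem
    obtain ⟨⟨a, s⟩, h⟩ := hmem
    exact ⟨a.1, s.1, a.2, s.2, h⟩
  choose x s hxp hsp hxs using hy'
  have hspan : (Ideal.span (Set.range x)).map (algebraMap A (Localization.AtPrime p)) =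
      p.map (algebraMap A (Localization.AtPrime p)) := by
    apply le_antisymm
    · apply Ideal.map_mono
      rw [Ideal.span_le]
      rintro _ ⟨i, rfl⟩
      exact hxp i
    · rw [← hmax, ← hy, Ideal.span_le]
      rintro _ ⟨i, rfl⟩
      have hu : IsUnit (algebraMap A (Localization.AtPrime p) (s i)) :=
        IsLocalization.map_units (Localization.AtPrime p) (⟨s i, hsp i⟩ : p.primeCompl)
      have h1 : algebraMap A (Localization.AtPrime p) (x i) ∈
          (Ideal.span (Set.range x)).map (algebraMap A (Localization.AtPrime p)) :=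
        Ideal.mem_map_of_mem _ (Ideal.subset_span ⟨i, rfl⟩)
      rw [← hxs i] at h1
      exact (Ideal.mul_unit_mem_iff_mem _ hu).mp h1
  have key : ∀ a ∈ p, ∃ u : A, u ∉ p ∧ u * a ∈ Ideal.span (Set.range x) := by
    intro a ha
    have h1 : algebraMap A (Localization.AtPrime p) a ∈
        (Ideal.span (Set.range x)).map (algebraMap A (Localization.AtPrime p)) := by
      rw [hspan]
      exact Ideal.mem_map_of_mem _ ha
    rw [IsLocalization.mem_map_algebraMap_iff p.primeCompl] at h1
    obtain ⟨⟨b, t⟩, h⟩ := h1
    rw [← map_mul, IsLocalization.eq_iff_exists p.primeCompl] at h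
    obtain ⟨c, hc⟩ := h
    refine ⟨c.1 * t.1, ?_, ?_⟩
    · intro hmem
      rcases (‹p.IsPrime›.mem_or_mem hmem) with h' | h'
      · exact c.2 h'
      · exact t.2 h'
    · have : c.1 * t.1 * a = c.1 * (a * t.1) := by ring
      rw [this, hc]
      exact Ideal.mul_mem_left _ _ b.2
  choose! u hu1 hu2 using key
  obtain ⟨G, hG⟩ := (isNoetherianRing_iff_ideal_fg A).mp inferInstance p
  refine ⟨d, x, ∏ g ∈ G, u g, hht, hxp, ?_, ?_⟩
  · intro h
    obtain ⟨g, hg, hmem⟩ := (Ideal.IsPrime.prod_mem_iff (hp := ‹p.IsPrime›)).mp h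
    exact hu1 g (hG ▸ Ideal.subset_span hg) hmem
  · intro a ha
    have hle : p ≤ Submodule.comap (LinearMap.mulLeft A (∏ g ∈ G, u g))
        (Ideal.span (Set.range x)) := by
      rw [← hG]
      apply Submodule.span_le.mpr
      intro g hg
      have hgp : g ∈ p := hG ▸ Ideal.subset_span hg
      show (∏ g ∈ G, u g) * g ∈ Ideal.span (Set.range x)
      rw [← Finset.prod_erase_mul G u hg, mul_assoc]
      exact Ideal.mul_mem_left _ _ (hu2 g hgp)
    exact hle ha

/-- the key local step of the Nagata criterion -/
theorem isRegularLocalRing_comap_of_quotient (d : ℕ) (x : Fin d → A) (f : A)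
    (hht : p.height = d) (hx : ∀ i, x i ∈ p)
    (hf : ∀ a ∈ p, f * a ∈ Ideal.span (Set.range x))
    (Pbar : Ideal (A ⧸ p)) [Pbar.IsPrime] (hfP : f ∉ Pbar.comap (Ideal.Quotient.mk p))
    (hreg : IsRegularLocalRing (Localization.AtPrime Pbar)) :
    IsRegularLocalRing (Localization.AtPrime (Pbar.comap (Ideal.Quotient.mk p))) := by
  have hpQ : p ≤ Pbar.comap (Ideal.Quotient.mk p) := fun a ha => by
    rw [Ideal.mem_comap, Ideal.Quotient.eq_zero_iff_mem.mpr ha]
    exact zero_mem _
  have hdisj : Disjoint ((Pbar.comap (Ideal.Quotient.mk p)).primeCompl : Set A) (p : Set A) := by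
    rw [Set.disjoint_left]
    intro a ha hap
    exact ha (hpQ hap)
  haveI hPprime : (p.map (algebraMap A
      (Localization.AtPrime (Pbar.comap (Ideal.Quotient.mk p))))).IsPrime :=
    IsLocalization.isPrime_of_isPrime_disjoint (Pbar.comap (Ideal.Quotient.mk p)).primeCompl _ p
      ‹_› hdisj
  have hPht : (p.map (algebraMap A
      (Localization.AtPrime (Pbar.comap (Ideal.Quotient.mk p))))).height = d := by
    rw [IsLocalization.height_map_of_disjoint (Pbar.comap (Ideal.Quotient.mk p)).primeCompl p
      hdisj, hht]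
  have hx'm : ∀ i, algebraMap A (Localization.AtPrime (Pbar.comap (Ideal.Quotient.mk p))) (x i) ∈
      maximalIdeal (Localization.AtPrime (Pbar.comap (Ideal.Quotient.mk p))) := fun i =>
    (IsLocalization.AtPrime.to_map_mem_maximal_iff _ (Pbar.comap (Ideal.Quotient.mk p)) (x i)).mpr
      (hpQ (hx i))
  have hspan : Ideal.span (Set.range fun i =>
      algebraMap A (Localization.AtPrime (Pbar.comap (Ideal.Quotient.mk p))) (x i)) =
      p.map (algebraMap A (Localization.AtPrime (Pbar.comap (Ideal.Quotient.mk p)))) := by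
    apply le_antisymm
    · rw [Ideal.span_le]
      rintro _ ⟨i, rfl⟩
      exact Ideal.mem_map_of_mem _ (hx i)
    · rw [Ideal.map_le_iff_le_comap]
      intro a ha
      have h1 := hf a ha
      have h2 : algebraMap A (Localization.AtPrime (Pbar.comap (Ideal.Quotient.mk p))) (f * a) ∈
          Ideal.span (Set.range fun i =>
            algebraMap A (Localization.AtPrime (Pbar.comap (Ideal.Quotient.mk p))) (x i)) := by
        have : Ideal.span (Set.range fun i =>
            algebraMap A (Localization.AtPrime (Pbar.comap (Ideal.Quotient.mk p))) (x i)) =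
            (Ideal.span (Set.range x)).map
              (algebraMap A (Localization.AtPrime (Pbar.comap (Ideal.Quotient.mk p)))) := by
          rw [Ideal.map_span, ← Set.range_comp]
          rfl
        rw [this]
        exact Ideal.mem_map_of_mem _ h1
      rw [map_mul] at h2
      have hu : IsUnit (algebraMap A
          (Localization.AtPrime (Pbar.comap (Ideal.Quotient.mk p))) f) :=
        IsLocalization.map_units _ (⟨f, hfP⟩ : (Pbar.comap (Ideal.Quotient.mk p)).primeCompl)
      rw [Ideal.mem_comap]
      exact (Ideal.unit_mul_mem_iff_mem _ hu).mp h2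
  have hker : RingHom.ker (RegSec.phi p Pbar) = Ideal.span (Set.range fun i =>
      algebraMap A (Localization.AtPrime (Pbar.comap (Ideal.Quotient.mk p))) (x i)) := by
    rw [hspan]
    ext c
    rw [RingHom.mem_ker]
    exact ⟨RegSec.mem_map_of_phi_eq_zero p Pbar c, RegSec.phi_eq_zero_of_mem_map p Pbar c⟩
  have hdimC : ringKrullDim (Localization.AtPrime Pbar) =
      ringKrullDim (Localization.AtPrime (Pbar.comap (Ideal.Quotient.mk p)) ⧸
        p.map (algebraMap A (Localization.AtPrime (Pbar.comap (Ideal.Quotient.mk p))))) := by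
    have e : (Localization.AtPrime (Pbar.comap (Ideal.Quotient.mk p)) ⧸
        RingHom.ker (RegSec.phi p Pbar)) ≃+* Localization.AtPrime Pbar :=
      RingHom.quotientKerEquivOfSurjective (RegSec.phi_surjective p Pbar)
    have e2 : (Localization.AtPrime (Pbar.comap (Ideal.Quotient.mk p)) ⧸
        RingHom.ker (RegSec.phi p Pbar)) ≃+*
        (Localization.AtPrime (Pbar.comap (Ideal.Quotient.mk p)) ⧸
          p.map (algebraMap A (Localization.AtPrime (Pbar.comap (Ideal.Quotient.mk p))))) :=
      Ideal.quotEquivOfEq (hker.trans hspan)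
    rw [← ringKrullDim_eq_of_ringEquiv e, ringKrullDim_eq_of_ringEquiv e2]
  have h1 := height_add_ringKrullDim_quotient_le
    (p.map (algebraMap A (Localization.AtPrime (Pbar.comap (Ideal.Quotient.mk p)))))
  have h2 := ringKrullDim_le_ringKrullDim_quotient_add_spanFinrank
    (p.map (algebraMap A (Localization.AtPrime (Pbar.comap (Ideal.Quotient.mk p)))))
    (by
      rw [IsLocalRing.ringJacobson_eq_maximalIdeal]
      exact le_maximalIdeal hPprime.ne_top)
  have h3 : (p.map (algebraMap A
      (Localization.AtPrime (Pbar.comap (Ideal.Quotient.mk p))))).spanFinrank ≤ d := by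
    rw [← hspan]
    exact Groth.Agent.Lib.Helper9.RegLocal.spanFinrank_span_range_le _
  refine isRegularLocalRing_of_surjective (RegSec.phi p Pbar) (RegSec.phi_surjective p Pbar) d
    (fun i => algebraMap A (Localization.AtPrime (Pbar.comap (Ideal.Quotient.mk p))) (x i))
    hx'm hker ?_
  rw [hdimC]
  rw [hPht] at h1
  apply le_antisymm
  · rw [add_comm]
    exact_mod_cast h1
  · refine h2.trans ?_
    gcongr

end main

end Groth.Agent.Lib.Helper21.RegLoc
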