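import Mathlib
import Groth.Prelude.Def_EGA4b
import Groth.Agent.S9296
import Groth.Agent.Lib.Helper21.RegLocA

/-!
# Helper library (helper21): the Nagata criterion for openness of the regular locus
-/

set_option autoImplicit false

namespace Groth.Agent.Lib.Helper21.RegLoc

universe u

open IsLocalRing

/-- the generic point of a domain lies in every nonempty open set -/
theorem bot_mem_of_isOpen {D : Type*} [CommRing D] [IsDomain D] {U : Set (PrimeSpectrum D)}
    (hU : IsOpen U) (hne : U.Nonempty) : (⟨⊥, Ideal.isPrime_bot⟩ : PrimeSpectrum D) ∈ U := by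
  obtain ⟨y₀, hy₀⟩ := hne
  have hspec : (⟨⊥, Ideal.isPrime_bot⟩ : PrimeSpectrum D) ⤳ y₀ :=
    (PrimeSpectrum.le_iff_specializes _ y₀).mp bot_le
  exact hspec.mem_open hU hy₀

/-- **Nagata criterion** -/
theorem isOpen_regLocus_of_quotients (A : Type u) [CommRing A] [IsNoetherianRing A]
    (h : ∀ p : PrimeSpectrum A, p ∈ EGA4.regLocus A →
      ∃ U : Set (PrimeSpectrum (A ⧸ p.asIdeal)), IsOpen U ∧ U.Nonempty ∧
        U ⊆ EGA4.regLocus (A ⧸ p.asIdeal)) :
    IsOpen (EGA4.regLocus A) := by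
  rw [Groth.Agent.S9296.result]
  intro p hp
  obtain ⟨U', hU'o, hU'ne, hU'sub⟩ := h p hp
  obtain ⟨d, x, f, hht, hx, hfp, hf⟩ := exists_gens_away p.asIdeal hp
  have hemb := PrimeSpectrum.isClosedEmbedding_comap_of_surjective (A ⧸ p.asIdeal)
    (Ideal.Quotient.mk p.asIdeal) Ideal.Quotient.mk_surjective
  obtain ⟨W, hWo, hWU⟩ := hemb.isInducing.isOpen_iff.mp hU'o
  refine ⟨W ∩ (PrimeSpectrum.basicOpen f : Set _),
    hWo.inter (PrimeSpectrum.basicOpen f).isOpen, ?_, ?_⟩
  · refine ⟨p, ⟨?_, hfp⟩, ?_⟩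
    · have hη := bot_mem_of_isOpen hU'o hU'ne
      have hc : PrimeSpectrum.comap (Ideal.Quotient.mk p.asIdeal)
          (⟨⊥, Ideal.isPrime_bot⟩ : PrimeSpectrum (A ⧸ p.asIdeal)) = p := by
        apply PrimeSpectrum.ext
        show Ideal.comap _ ⊥ = p.asIdeal
        rw [← RingHom.ker_eq_comap_bot, Ideal.mk_ker]
      rw [← hWU] at hη
      rw [← hc]
      exact hη
    · rw [PrimeSpectrum.mem_zeroLocus]
  · rintro q ⟨⟨hqW, hqf⟩, hqV⟩
    rw [PrimeSpectrum.mem_zeroLocus, SetLike.coe_subset_coe] at hqV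
    have hcomap : (q.asIdeal.map (Ideal.Quotient.mk p.asIdeal)).comap
        (Ideal.Quotient.mk p.asIdeal) = q.asIdeal := by
      rw [Ideal.comap_map_of_surjective _ Ideal.Quotient.mk_surjective,
        ← RingHom.ker_eq_comap_bot, Ideal.mk_ker]
      exact sup_eq_left.mpr hqV
    haveI hPb : (q.asIdeal.map (Ideal.Quotient.mk p.asIdeal)).IsPrime :=
      Ideal.map_isPrime_of_surjective Ideal.Quotient.mk_surjective
        (by rw [Ideal.mk_ker]; exact hqV)
    have hyq : PrimeSpectrum.comap (Ideal.Quotient.mk p.asIdeal)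
        (⟨q.asIdeal.map (Ideal.Quotient.mk p.asIdeal), hPb⟩ : PrimeSpectrum (A ⧸ p.asIdeal)) = q :=
      PrimeSpectrum.ext hcomap
    have hyU : (⟨q.asIdeal.map (Ideal.Quotient.mk p.asIdeal), hPb⟩ :
        PrimeSpectrum (A ⧸ p.asIdeal)) ∈ U' := by
      rw [← hWU]
      show PrimeSpectrum.comap _ _ ∈ W
      rw [hyq]
      exact hqW
    have hyreg : IsRegularLocalRing
        (Localization.AtPrime (q.asIdeal.map (Ideal.Quotient.mk p.asIdeal))) := hU'sub hyU
    have hfin := isRegularLocalRing_comap_of_quotient p.asIdeal d x f hht hx hf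
      (q.asIdeal.map (Ideal.Quotient.mk p.asIdeal)) (by rw [hcomap]; exact hqf) hyreg
    exact Groth.Agent.Lib.Helper4.RkLift.isRegularLocalRing_atPrime_congr q.asIdeal _ hcomap hfin

end Groth.Agent.Lib.Helper21.RegLoc
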