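import Mathlib
import Groth.Prelude.Def_EGA4b
import Groth.Agent.Lib.Helper14.NorLocus
import Groth.Agent.Lib.Helper21.RegLocB

/-!
# Helper library (helper21): transport of "the regular locus contains a nonempty open set"
-/

set_option autoImplicit false

namespace Groth.Agent.Lib.Helper21.RegLoc

universe u

open IsLocalRing

/-- the regular locus is compatible with ring isomorphisms -/
theorem mem_regLocus_comap_ringEquiv {R₁ R₂ : Type u} [CommRing R₁] [CommRing R₂] (e : R₁ ≃+* R₂)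
    (q : PrimeSpectrum R₂) :
    PrimeSpectrum.comap (e : R₁ →+* R₂) q ∈ EGA4.regLocus R₁ ↔ q ∈ EGA4.regLocus R₂ := by
  have H : Submonoid.map e.toMonoidHom
      (Ideal.primeCompl (PrimeSpectrum.comap (e : R₁ →+* R₂) q).asIdeal) =
      q.asIdeal.primeCompl := by
    ext x
    constructor
    · rintro ⟨y, hy, rfl⟩
      exact hy
    · intro hx
      refine ⟨e.symm x, ?_, e.apply_symm_apply x⟩
      show e.symm x ∉ Ideal.comap (e : R₁ →+* R₂) q.asIdeal
      rw [Ideal.mem_comap]
      show e (e.symm x) ∉ q.asIdeal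
      rw [e.apply_symm_apply]
      exact hx
  let E : Localization.AtPrime (PrimeSpectrum.comap (e : R₁ →+* R₂) q).asIdeal ≃+*
      Localization.AtPrime q.asIdeal :=
    IsLocalization.ringEquivOfRingEquiv _ _ e H
  constructor
  · intro h
    haveI : IsRegularLocalRing
        (Localization.AtPrime (PrimeSpectrum.comap (e : R₁ →+* R₂) q).asIdeal) := h
    exact IsRegularLocalRing.of_ringEquiv E
  · intro h
    haveI : IsRegularLocalRing (Localization.AtPrime q.asIdeal) := h
    exact IsRegularLocalRing.of_ringEquiv E.symm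

/-- "contains a nonempty open subset of the regular locus" is invariant under isomorphism -/
theorem exists_open_of_ringEquiv {R₁ R₂ : Type u} [CommRing R₁] [CommRing R₂] (e : R₁ ≃+* R₂)
    (h : ∃ U : Set (PrimeSpectrum R₁), IsOpen U ∧ U.Nonempty ∧ U ⊆ EGA4.regLocus R₁) :
    ∃ U : Set (PrimeSpectrum R₂), IsOpen U ∧ U.Nonempty ∧ U ⊆ EGA4.regLocus R₂ := by
  obtain ⟨U, hUo, ⟨y, hy⟩, hUsub⟩ := h
  refine ⟨PrimeSpectrum.comap (e : R₁ →+* R₂) ⁻¹' U,
    hUo.preimage (PrimeSpectrum.continuous_comap _), ?_, ?_⟩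
  · refine ⟨PrimeSpectrum.comap (e.symm : R₂ →+* R₁) y, ?_⟩
    show PrimeSpectrum.comap (e : R₁ →+* R₂) (PrimeSpectrum.comap (e.symm : R₂ →+* R₁) y) ∈ U
    have : PrimeSpectrum.comap (e : R₁ →+* R₂) (PrimeSpectrum.comap (e.symm : R₂ →+* R₁) y) = y := by
      apply PrimeSpectrum.ext
      ext x
      show e.symm (e x) ∈ y.asIdeal ↔ x ∈ y.asIdeal
      rw [e.symm_apply_apply]
    rw [this]
    exact hy
  · intro q hq
    exact (mem_regLocus_comap_ringEquiv e q).mp (hUsub hq)

/-- for a domain with open regular locus, the regular locus is a nonempty open set -/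
theorem exists_open_of_isOpen_regLocus (D : Type u) [CommRing D] [IsDomain D]
    (h : IsOpen (EGA4.regLocus D)) :
    ∃ U : Set (PrimeSpectrum D), IsOpen U ∧ U.Nonempty ∧ U ⊆ EGA4.regLocus D :=
  ⟨_, h, ⟨_, Groth.Agent.Lib.Helper14.NorLocus.bot_mem_regLocus D⟩, subset_rfl⟩

/-- S4701 -/
theorem S4701_aux (A : Type u) [CommRing A] [IsNoetherianRing A] :
    (∀ I : Ideal A, IsOpen (EGA4.regLocus (A ⧸ I))) ↔
      ∀ (p : Ideal A) [p.IsPrime],
        ∃ U : Set (PrimeSpectrum (A ⧸ p)), IsOpen U ∧ U.Nonempty ∧ U ⊆ EGA4.regLocus (A ⧸ p) := by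
  constructor
  · intro h p _
    exact exists_open_of_isOpen_regLocus _ (h p)
  · intro H I
    apply isOpen_regLocus_of_quotients
    intro Pb _
    have hP : (Pb.asIdeal.comap (Ideal.Quotient.mk I)).IsPrime := Ideal.comap_isPrime _ _
    have hle : I ≤ Pb.asIdeal.comap (Ideal.Quotient.mk I) := by
      intro a ha
      rw [Ideal.mem_comap, Ideal.Quotient.eq_zero_iff_mem.mpr ha]
      exact zero_mem _
    have hmap : (Pb.asIdeal.comap (Ideal.Quotient.mk I)).map (Ideal.Quotient.mk I) = Pb.asIdeal :=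
      Ideal.map_comap_of_surjective _ Ideal.Quotient.mk_surjective _
    let e : ((A ⧸ I) ⧸ Pb.asIdeal) ≃+* (A ⧸ Pb.asIdeal.comap (Ideal.Quotient.mk I)) :=
      (Ideal.quotEquivOfEq hmap.symm).trans (DoubleQuot.quotQuotEquivQuotOfLE hle)
    exact exists_open_of_ringEquiv e.symm (H (Pb.asIdeal.comap (Ideal.Quotient.mk I)))

end Groth.Agent.Lib.Helper21.RegLoc
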