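import Mathlib
import Groth.Prelude.Def_EGA4b
import Groth.Agent.Lib.Helper14.NorLocus
import Groth.Agent.Lib.Helper26.RegularSmooth
import Groth.Agent.Lib.Helper21.SepSmoothB
import Groth.Agent.Lib.Helper21.RegLocC

/-!
# Helper library (helper21): generic smoothness and the regular locus (S2688)
-/

set_option autoImplicit false

namespace Groth.Agent.Lib.Helper21.RegLoc

universe u

open IsLocalRing

/-- pointwise: smooth over a ring which is regular at the contraction is regular -/
theorem isRegularLocalRing_atPrime_of_smooth (A B : Type u) [CommRing A] [CommRing B]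
    [Algebra A B] [IsNoetherianRing A] [Algebra.Smooth A B] (q : Ideal B) [hq : q.IsPrime]
    (h : IsRegularLocalRing (Localization.AtPrime (q.comap (algebraMap A B)))) :
    IsRegularLocalRing (Localization.AtPrime q) := by
  have hsm : (algebraMap A B).Smooth := RingHom.smooth_algebraMap.mpr inferInstance
  obtain ⟨s, hs, hP⟩ := RingHom.smooth_iff_locally_isStandardSmooth.mp hsm
  obtain ⟨t, hts, htq⟩ : ∃ t ∈ s, t ∉ q := by
    by_contra hcon
    push Not at hcon
    have : Ideal.span s ≤ q := Ideal.span_le.mpr hcon
    rw [hs] at this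
    exact hq.ne_top (top_le_iff.mp this)
  have hdisj : Disjoint ((Submonoid.powers t : Submonoid B) : Set B) (q : Set B) := by
    rw [Set.disjoint_left]
    rintro _ ⟨n, rfl⟩ hmem
    exact htq (hq.mem_of_pow_mem n hmem)
  haveI hQ : (q.map (algebraMap B (Localization.Away t))).IsPrime :=
    IsLocalization.isPrime_of_isPrime_disjoint (Submonoid.powers t) _ q hq hdisj
  have hcomap : (q.map (algebraMap B (Localization.Away t))).comap
      (algebraMap B (Localization.Away t)) = q :=
    IsLocalization.comap_map_of_isPrime_disjoint (Submonoid.powers t) _ hq hdisj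
  have h1 : IsRegularLocalRing
      (Localization.AtPrime (q.map (algebraMap B (Localization.Away t)))) := by
    refine (Groth.Agent.Lib.Helper26.RegularSch.isRegularLocalRing_atPrime_iff_of_isStandardSmooth
      _ (hP t hts) (q.map (algebraMap B (Localization.Away t))) (q.comap (algebraMap A B)) ?_).mpr h
    rw [← Ideal.comap_comap, hcomap]
  haveI i1 : IsLocalization.AtPrime
      (Localization.AtPrime (q.map (algebraMap B (Localization.Away t))))
      ((q.map (algebraMap B (Localization.Away t))).comap (algebraMap B (Localization.Away t))) :=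
    IsLocalization.isLocalization_isLocalization_atPrime_isLocalization (Submonoid.powers t) _
      (q.map (algebraMap B (Localization.Away t)))
  haveI i2 : IsLocalization.AtPrime
      (Localization.AtPrime (q.map (algebraMap B (Localization.Away t)))) q :=
    Groth.Agent.Lib.Helper26.RegularSch.isLocalization_atPrime_congr _ q hcomap
  exact IsRegularLocalRing.of_ringEquiv
    (R := Localization.AtPrime (q.map (algebraMap B (Localization.Away t))))
    (IsLocalization.algEquiv q.primeCompl
      (Localization.AtPrime (q.map (algebraMap B (Localization.Away t))))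
      (Localization.AtPrime q)).toRingEquiv

/-- a nonempty open subset of the spectrum of a domain contains a nonempty basic open -/
theorem exists_ne_zero_of_open {D : Type u} [CommRing D] [IsDomain D]
    {U : Set (PrimeSpectrum D)} (hU : IsOpen U) (hne : U.Nonempty) :
    ∃ a : D, a ≠ 0 ∧ ∀ y : PrimeSpectrum D, a ∉ y.asIdeal → y ∈ U :=
  Groth.Agent.Lib.Helper14.NorLocus.exists_basicOpen_of_bot_mem D U hU (bot_mem_of_isOpen hU hne)

/-- a nonempty basic open of a domain -/
theorem exists_open_of_basicOpen {D : Type u} [CommRing D] [IsDomain D] (a : D) (ha : a ≠ 0)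
    (h : ∀ y : PrimeSpectrum D, a ∉ y.asIdeal → y ∈ EGA4.regLocus D) :
    ∃ U : Set (PrimeSpectrum D), IsOpen U ∧ U.Nonempty ∧ U ⊆ EGA4.regLocus D := by
  refine ⟨(PrimeSpectrum.basicOpen a : Set _), (PrimeSpectrum.basicOpen a).isOpen,
    ⟨⟨⊥, Ideal.isPrime_bot⟩, ?_⟩, fun y hy => h y hy⟩
  show a ∉ (⊥ : Ideal D)
  rwa [Ideal.mem_bot]

/-- **Generic smoothness and the regular locus** (general fraction fields) -/
theorem exists_open_of_separable (A A' : Type u) [CommRing A] [CommRing A'] [IsDomain A]
    [IsDomain A'] [IsNoetherianRing A] [Algebra A A'] [Algebra.FiniteType A A']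
    (hinj : Function.Injective (algebraMap A A'))
    (K L : Type u) [Field K] [Field L] [Algebra A K] [IsFractionRing A K] [Algebra A' L]
    [IsFractionRing A' L] [Algebra K L] [Algebra A L] [IsScalarTower A K L] [IsScalarTower A A' L]
    [Algebra.IsGeometricallyReduced K L]
    (h : ∃ U : Set (PrimeSpectrum A), IsOpen U ∧ U.Nonempty ∧ U ⊆ EGA4.regLocus A) :
    ∃ U' : Set (PrimeSpectrum A'), IsOpen U' ∧ U'.Nonempty ∧ U' ⊆ EGA4.regLocus A' := by
  obtain ⟨U, hUo, hUne, hUsub⟩ := h
  obtain ⟨a, ha0, ha⟩ := exists_ne_zero_of_open hUo hUne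
  -- formal smoothness of `L` over `A`
  haveI : Algebra.FormallySmooth K L := SepSmooth.formallySmooth_of_geomReduced
  haveI : Algebra.FormallySmooth A K := Algebra.FormallySmooth.of_isLocalization (nonZeroDivisors A)
  haveI : Algebra.FormallySmooth A L := Algebra.FormallySmooth.comp A K L
  haveI : Algebra.FinitePresentation A A' := Algebra.FinitePresentation.of_finiteType.mp inferInstance
  -- the generic point is in the smooth locus
  have hη : (⟨⊥, Ideal.isPrime_bot⟩ : PrimeSpectrum A') ∈ Algebra.smoothLocus A A' := by
    show Algebra.FormallySmooth A (Localization.AtPrime (⊥ : Ideal A'))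
    haveI : IsFractionRing A' (Localization.AtPrime (⊥ : Ideal A')) := by
      have : (⊥ : Ideal A').primeCompl = nonZeroDivisors A' := by
        ext x
        rw [mem_nonZeroDivisors_iff_ne_zero]
        exact Iff.rfl
      show IsLocalization (nonZeroDivisors A') _
      rw [← this]
      infer_instance
    let e : L ≃ₐ[A'] Localization.AtPrime (⊥ : Ideal A') :=
      IsLocalization.algEquiv (nonZeroDivisors A') L (Localization.AtPrime (⊥ : Ideal A'))
    exact Algebra.FormallySmooth.of_equiv (e.restrictScalars A)
  obtain ⟨g, hg0, hg⟩ := Groth.Agent.Lib.Helper14.NorLocus.exists_basicOpen_of_bot_mem A' _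
    Algebra.isOpen_smoothLocus hη
  haveI : Algebra.Smooth A (Localization.Away g) :=
    Algebra.basicOpen_subset_smoothLocus_iff_smooth.mp (fun y hy => hg y hy)
  refine exists_open_of_basicOpen (algebraMap A A' a * g)
    (mul_ne_zero ((map_ne_zero_iff _ hinj).mpr ha0) hg0) ?_
  intro y hy
  have hya : algebraMap A A' a ∉ y.asIdeal := fun h' => hy (Ideal.mul_mem_right _ _ h')
  have hyg : g ∉ y.asIdeal := fun h' => hy (Ideal.mul_mem_left _ _ h')
  have hyr : y ∈ Set.range (PrimeSpectrum.comap (algebraMap A' (Localization.Away g))) := by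
    rw [PrimeSpectrum.localization_away_comap_range (Localization.Away g) g]
    exact hyg
  obtain ⟨y', rfl⟩ := hyr
  rw [← Groth.Agent.Lib.Helper14.NorLocus.mem_regLocus_away_iff A' g y']
  refine isRegularLocalRing_atPrime_of_smooth A (Localization.Away g) y'.asIdeal ?_
  have hmem : (⟨y'.asIdeal.comap (algebraMap A (Localization.Away g)), Ideal.comap_isPrime _ _⟩ :
      PrimeSpectrum A) ∈ EGA4.regLocus A := by
    apply hUsub
    apply ha
    intro hmem
    apply hya
    show algebraMap A A' a ∈ y'.asIdeal.comap (algebraMap A' (Localization.Away g))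
    rw [Ideal.mem_comap, ← IsScalarTower.algebraMap_apply]
    exact hmem
  exact hmem

/-- S2688 -/
theorem S2688_aux (A A' : Type u) [CommRing A] [CommRing A'] [IsDomain A] [IsDomain A']
    [IsNoetherianRing A] [Algebra A A']
    [FaithfulSMul A A'] [Algebra.FiniteType A A'] [Algebra (FractionRing A) (FractionRing A')]
    [IsScalarTower A (FractionRing A) (FractionRing A')]
    [Algebra.IsGeometricallyReduced (FractionRing A) (FractionRing A')]
    (h : ∃ U : Set (PrimeSpectrum A), IsOpen U ∧ U.Nonempty ∧ U ⊆ EGA4.regLocus A) :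
    ∃ U' : Set (PrimeSpectrum A'), IsOpen U' ∧ U'.Nonempty ∧ U' ⊆ EGA4.regLocus A' :=
  exists_open_of_separable A A' (FaithfulSMul.algebraMap_injective A A')
    (FractionRing A) (FractionRing A') h

end Groth.Agent.Lib.Helper21.RegLoc
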