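import Mathlib
import Groth.Prelude.Def_EGA4b
import Groth.Agent.Lib.Helper21.RegLocI

/-!
# Helper library (helper21): Nagata rings of dimension one are J-2 (S9280)
-/

set_option autoImplicit false

namespace Groth.Agent.Lib.Helper21.RegLoc

universe u

open TensorProduct

/-- a finite domain over an N-2 domain of dimension at most one has a dense open of regular
points (its normalisation is a Dedekind domain, finite over it) -/
theorem exists_open_of_N2_dim_one (D : Type u) [CommRing D] [IsDomain D] [IsNoetherianRing D]
    [Ring.KrullDimLE 1 D] (hN2 : CAlg.IsN2 D)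
    (A' : Type u) [CommRing A'] [IsDomain A'] [Algebra D A'] [Module.Finite D A']
    (hinj : Function.Injective (algebraMap D A')) :
    ∃ U : Set (PrimeSpectrum A'), IsOpen U ∧ U.Nonempty ∧ U ⊆ EGA4.regLocus A' := by
  haveI : FaithfulSMul D A' := (faithfulSMul_iff_algebraMap_injective D A').mpr hinj
  haveI : FaithfulSMul D (FractionRing A') :=
    (faithfulSMul_iff_algebraMap_injective D (FractionRing A')).mpr (by
      rw [IsScalarTower.algebraMap_eq D A' (FractionRing A')]
      exact (IsFractionRing.injective A' (FractionRing A')).comp hinj)
  letI : Algebra (FractionRing D) (FractionRing A') :=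
    FractionRing.liftAlgebra D (FractionRing A')
  haveI : IsScalarTower D (FractionRing D) (FractionRing A') :=
    FractionRing.isScalarTower_liftAlgebra D (FractionRing A')
  haveI : FiniteDimensional (FractionRing D) (FractionRing A') := inferInstance
  haveI hfin : Module.Finite D (integralClosure D (FractionRing A')) :=
    hN2 (FractionRing A') inferInstance
  haveI : IsNoetherianRing (integralClosure D (FractionRing A')) :=
    IsNoetherianRing.of_finite D _
  haveI : IsIntegrallyClosed (integralClosure D (FractionRing A')) :=
    integralClosure.isIntegrallyClosedOfFiniteExtension (FractionRing D)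
  haveI : Ring.DimensionLEOne D :=
    ⟨fun hp hpp => Ring.krullDimLE_one_iff_of_noZeroDivisors.mp inferInstance _ hp hpp⟩
  haveI : Ring.DimensionLEOne (integralClosure D (FractionRing A')) := inferInstance
  haveI : IsDedekindDomain (integralClosure D (FractionRing A')) := {}
  have hint : ∀ a : A', algebraMap A' (FractionRing A') a ∈
      (integralClosure D (FractionRing A')).toSubring := fun a => by
    have h1 : IsIntegral D a := Algebra.IsIntegral.isIntegral a
    exact h1.map (IsScalarTower.toAlgHom D A' (FractionRing A'))
  letI : Algebra A' (integralClosure D (FractionRing A')) :=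
    ((algebraMap A' (FractionRing A')).codRestrict
      (integralClosure D (FractionRing A')).toSubring hint).toAlgebra
  haveI : IsScalarTower D A' (integralClosure D (FractionRing A')) :=
    IsScalarTower.of_algebraMap_eq (fun d => Subtype.ext
      (IsScalarTower.algebraMap_apply D A' (FractionRing A') d))
  haveI : Algebra.FiniteType D (integralClosure D (FractionRing A')) := inferInstance
  haveI : Algebra.FiniteType A' (integralClosure D (FractionRing A')) :=
    Algebra.FiniteType.of_restrictScalars_finiteType D A' _
  have hinjφ : Function.Injective (algebraMap A' (integralClosure D (FractionRing A'))) := by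
    intro a b hab
    apply IsFractionRing.injective A' (FractionRing A')
    exact congrArg Subtype.val hab
  haveI : IsNoetherianRing A' := IsNoetherianRing.of_finite D A'
  exact S9255_aux A' (integralClosure D (FractionRing A')) hinjφ
    ⟨Set.univ, isOpen_univ, ⟨⟨⊥, Ideal.isPrime_bot⟩, trivial⟩, fun y _ =>
      IsRegularRing.isRegularLocalRing_localization y.asIdeal⟩

/-- S9280 -/
theorem isJ2_of_isNagata_of_dim_one (R : Type u) [CommRing R] (hR : CAlg.IsNagata R)
    (hdim : ringKrullDim R = 1) : EGA4.IsJ2 R := by
  obtain ⟨hnoeth, hN2⟩ := hR
  haveI := hnoeth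
  rw [S2617_aux]
  intro A' _ _ _ hfin
  haveI := hfin
  haveI hpp : (RingHom.ker (algebraMap R A')).IsPrime := RingHom.ker_isPrime _
  letI : Algebra (R ⧸ RingHom.ker (algebraMap R A')) A' :=
    (Ideal.Quotient.lift (RingHom.ker (algebraMap R A')) (algebraMap R A')
      (fun a ha => ha)).toAlgebra
  haveI : IsScalarTower R (R ⧸ RingHom.ker (algebraMap R A')) A' :=
    IsScalarTower.of_algebraMap_eq (fun a => rfl)
  haveI : Module.Finite (R ⧸ RingHom.ker (algebraMap R A')) A' :=
    Module.Finite.of_restrictScalars_finite R _ A'
  haveI : Ring.KrullDimLE 1 (R ⧸ RingHom.ker (algebraMap R A')) :=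
    Ring.krullDimLE_iff.mpr ((ringKrullDim_quotient_le _).trans (by rw [hdim]; rfl))
  exact exists_open_of_N2_dim_one (R ⧸ RingHom.ker (algebraMap R A'))
    (hN2 (RingHom.ker (algebraMap R A'))) A' (RingHom.kerLift_injective (algebraMap R A'))

end Groth.Agent.Lib.Helper21.RegLoc
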