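import Mathlib
import Groth.Prelude.Def_CAlgX
import Groth.Agent.Lib.Helper21.RegSecA

/-!
# Helper library (helper21): truncated quasi-regularity; quotients by powers of an ideal
generated by a quasi-regular sequence
-/

set_option autoImplicit false

namespace Groth.Agent.Lib.Helper21.RegSec

open MvPolynomial
open Groth.Agent.Lib.Helper21.TruncIso

universe u

section inj1

variable {R S : Type u} [CommRing R] [CommRing S] [Algebra R S] {r : ℕ} (g : Fin r → S)

/-- truncated version of `mem_pow_of_ev_mem_pow` -/
theorem mem_pow_of_ev_mem_pow' (N : ℕ)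
    (hq : ∀ n < N, ∀ P : MvPolynomial (Fin r) S, P.IsHomogeneous n →
      MvPolynomial.eval g P ∈ Ideal.span (Set.range g) ^ (n + 1) →
        ∀ d : Fin r →₀ ℕ, P.coeff d ∈ Ideal.span (Set.range g))
    (hinj : ∀ a : R, algebraMap R S a ∈ Ideal.span (Set.range g) → a = 0)
    (n : ℕ) (hn : n ≤ N) (p : MvPolynomial (Fin r) R)
    (hp : ev R g p ∈ Ideal.span (Set.range g) ^ n) :
    p ∈ idealOfVars (Fin r) R ^ n := by
  have hg : ∀ i, g i ∈ Ideal.span (Set.range g) := fun i => Ideal.subset_span ⟨i, rfl⟩
  have key : ∀ d : ℕ, d ≤ n → p ∈ idealOfVars (Fin r) R ^ d := by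
    intro d
    induction d with
    | zero =>
      intro _
      rw [pow_zero, Ideal.one_eq_top]
      trivial
    | succ d ih =>
      intro hd
      have hpd : p ∈ idealOfVars (Fin r) R ^ d := ih (Nat.le_of_succ_le hd)
      have hpd' := (mem_pow_idealOfVars_iff' d p).mp hpd
      set P := homogeneousComponent d p with hP
      have hsub : p - P ∈ idealOfVars (Fin r) R ^ (d + 1) := by
        rw [mem_pow_idealOfVars_iff']
        intro x hx
        rw [coeff_sub, hP, coeff_homogeneousComponent]
        split_ifs with hxd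
        · exact sub_self _
        · rw [sub_zero]
          exact hpd' x (by omega)
      have h1 : ev R g (p - P) ∈ Ideal.span (Set.range g) ^ (d + 1) :=
        ev_mem_pow _ g hg (d + 1) _ hsub
      have h2 : ev R g p ∈ Ideal.span (Set.range g) ^ (d + 1) :=
        Ideal.pow_le_pow_right hd hp
      have h3 : ev R g P ∈ Ideal.span (Set.range g) ^ (d + 1) := by
        have e : ev R g P = ev R g p - ev R g (p - P) := by
          rw [map_sub]; ring
        rw [e]
        exact Ideal.sub_mem _ h2 h1
      rw [ev_eq_eval_map] at h3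
      have hhom : (MvPolynomial.map (algebraMap R S) P).IsHomogeneous d :=
        (homogeneousComponent_isHomogeneous d p).map _
      have hc := hq d (by omega) _ hhom h3
      rw [mem_pow_idealOfVars_iff']
      intro x hx
      by_cases hxd : Finsupp.degree x = d
      · have h4 := hc x
        rw [coeff_map] at h4
        have h5 := hinj _ h4
        rw [hP, coeff_homogeneousComponent, if_pos hxd] at h5
        exact h5
      · exact hpd' x (by omega)
  exact key n le_rfl

end inj1

section quot

variable {A : Type u} [CommRing A] {r : ℕ} (x : Fin r → A)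

/-- quasi-regularity survives, in low degrees, in the quotient by a power of the ideal -/
theorem quasiRegular_quotient_pow (hq : CAlgX.IsQuasiRegular x) (J : Ideal A)
    (hJ : J = Ideal.span (Set.range x)) (N : ℕ) :
    ∀ n < N, ∀ P : MvPolynomial (Fin r) (A ⧸ J ^ N), P.IsHomogeneous n →
      MvPolynomial.eval (fun i => Ideal.Quotient.mk (J ^ N) (x i)) P ∈
        Ideal.span (Set.range fun i => Ideal.Quotient.mk (J ^ N) (x i)) ^ (n + 1) →
        ∀ d : Fin r →₀ ℕ, P.coeff d ∈ Ideal.span (Set.range fun i =>
          Ideal.Quotient.mk (J ^ N) (x i)) := by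
  classical
  intro n hn P hP hev d
  have hI : Ideal.span (Set.range fun i => Ideal.Quotient.mk (J ^ N) (x i)) =
      J.map (Ideal.Quotient.mk (J ^ N)) := by
    rw [congrArg (Ideal.map (Ideal.Quotient.mk (J ^ N))) hJ, Ideal.map_span, ← Set.range_comp]
    rfl
  rw [hI] at hev ⊢
  -- lift `P`
  choose lift hlift using fun c : A ⧸ J ^ N => Ideal.Quotient.mk_surjective c
  set Pt : MvPolynomial (Fin r) A := ∑ e ∈ P.support, monomial e (lift (P.coeff e)) with hPt
  have hmap : MvPolynomial.map (Ideal.Quotient.mk (J ^ N)) Pt = P := by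
    rw [hPt, map_sum]
    have : ∀ e ∈ P.support, MvPolynomial.map (Ideal.Quotient.mk (J ^ N))
        (monomial e (lift (P.coeff e))) = monomial e (P.coeff e) := by
      intro e _
      rw [map_monomial, hlift]
    rw [Finset.sum_congr rfl this]
    exact P.support_sum_monomial_coeff
  have hhom : Pt.IsHomogeneous n := by
    rw [hPt]
    apply IsHomogeneous.sum
    intro e he
    apply isHomogeneous_monomial
    have hne : P.coeff e ≠ 0 := mem_support_iff.mp he
    have := hP hne
    rwa [Finsupp.degree_eq_weight_one]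
  have hevt : MvPolynomial.eval x Pt ∈ J ^ (n + 1) := by
    have h1 : Ideal.Quotient.mk (J ^ N) (MvPolynomial.eval x Pt) ∈
        (J ^ (n + 1)).map (Ideal.Quotient.mk (J ^ N)) := by
      rw [eval₂_comp, ← eval_map, hmap, Ideal.map_pow]
      exact hev
    have h2 := Ideal.mem_comap.mpr h1
    rw [Ideal.comap_map_of_surjective _ Ideal.Quotient.mk_surjective, ← RingHom.ker_eq_comap_bot,
      Ideal.mk_ker] at h2
    have h3 : J ^ (n + 1) ⊔ J ^ N = J ^ (n + 1) :=
      sup_eq_left.mpr (Ideal.pow_le_pow_right (by omega))
    rwa [h3] at h2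
  have hc := hq n Pt hhom (hJ ▸ hevt) d
  have : P.coeff d = Ideal.Quotient.mk (J ^ N) (Pt.coeff d) := by
    rw [← hmap, coeff_map]
  rw [this]
  exact Ideal.mem_map_of_mem _ (hJ ▸ hc)

end quot

end Groth.Agent.Lib.Helper21.RegSec
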