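import Mathlib
import Groth.Prelude.Def_CAlgX
import Groth.Agent.Lib.Helper9.QuasiReg
import Groth.Agent.Lib.Helper21.RegSecF

/-!
# Helper library (helper21): `A/J^N ≃ (A/J)[T]/(T)^N` for `J` generated by a regular sequence
with `A/J` formally smooth over the base
-/

set_option autoImplicit false

namespace Groth.Agent.Lib.Helper21.RegSec

open MvPolynomial
open Groth.Agent.Lib.Helper21.TruncIso

universe u v

theorem truncEquiv_aux (R : Type u) (A : Type v) [CommRing R] [CommRing A] [Algebra R A] (d : ℕ)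
    (x : Fin d → A) (hreg : RingTheory.Sequence.IsWeaklyRegular A (List.ofFn x))
    (J : Ideal A) (hJ : J = Ideal.span (Set.range x))
    [Algebra.FormallySmooth R (A ⧸ J)] (N : ℕ) (hN : 1 ≤ N) :
    ∃ e : (A ⧸ J ^ N) ≃ₐ[R] (MvPolynomial (Fin d) (A ⧸ J) ⧸ idealOfVars (Fin d) (A ⧸ J) ^ N),
      (∀ i : Fin d, e (Ideal.Quotient.mk _ (x i)) = Ideal.Quotient.mk _ (MvPolynomial.X i)) ∧
      ∀ a : A, e (Ideal.Quotient.mk _ a) -
          Ideal.Quotient.mk _ (MvPolynomial.C (Ideal.Quotient.mk _ a)) ∈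
        (idealOfVars (Fin d) (A ⧸ J)).map (Ideal.Quotient.mk _) := by
  classical
  have hxJ : ∀ i, x i ∈ J := fun i => hJ ▸ Ideal.subset_span ⟨i, rfl⟩
  have hle : J ^ N ≤ J := Ideal.pow_le_self (by omega)
  -- the projection
  let π : (A ⧸ J ^ N) →ₐ[R] (A ⧸ J) := Ideal.Quotient.factorₐ R hle
  have hπmk : ∀ a : A, π (Ideal.Quotient.mk _ a) = Ideal.Quotient.mk _ a := fun a => rfl
  have hπsurj : Function.Surjective π := Ideal.Quotient.factor_surjective hle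
  set I : Ideal (A ⧸ J ^ N) := J.map (Ideal.Quotient.mk (J ^ N)) with hI
  have hIN : I ^ N = ⊥ := by
    rw [hI, ← Ideal.map_pow, Ideal.map_quotient_self]
  have hkerπ : ∀ s : A ⧸ J ^ N, π s = 0 → s ∈ I := by
    intro s hs
    obtain ⟨a, rfl⟩ := Ideal.Quotient.mk_surjective s
    rw [hπmk, Ideal.Quotient.eq_zero_iff_mem] at hs
    exact Ideal.mem_map_of_mem _ hs
  have hπI : ∀ s ∈ I, π s = 0 := by
    intro s hs
    have h : I ≤ RingHom.ker (π : (A ⧸ J ^ N) →+* (A ⧸ J)) := by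
      rw [hI, Ideal.map_le_iff_le_comap]
      intro a ha
      rw [Ideal.mem_comap, RingHom.mem_ker]
      show π (Ideal.Quotient.mk _ a) = 0
      rw [hπmk, Ideal.Quotient.eq_zero_iff_mem]
      exact ha
    exact h hs
  have hnil : IsNilpotent (RingHom.ker (π : (A ⧸ J ^ N) →+* (A ⧸ J))) := by
    refine ⟨N, ?_⟩
    rw [Ideal.zero_eq_bot, ← le_bot_iff, ← hIN]
    exact Ideal.pow_right_mono (fun s hs => hkerπ s hs) N
  -- the section
  let σ : (A ⧸ J) →ₐ[R] (A ⧸ J ^ N) :=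
    Algebra.FormallySmooth.liftOfSurjective (AlgHom.id R (A ⧸ J)) π hπsurj hnil
  have hπσ : ∀ b, π (σ b) = b := fun b =>
    Algebra.FormallySmooth.liftOfSurjective_apply (AlgHom.id R (A ⧸ J)) π hπsurj hnil b
  letI algBS : Algebra (A ⧸ J) (A ⧸ J ^ N) := σ.toRingHom.toAlgebra
  have halg : ∀ b : A ⧸ J, algebraMap (A ⧸ J) (A ⧸ J ^ N) b = σ b := fun b => rfl
  haveI tower : IsScalarTower R (A ⧸ J) (A ⧸ J ^ N) :=
    IsScalarTower.of_algebraMap_eq (fun r => by rw [halg, AlgHom.commutes])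
  have hsub : ∀ s : A ⧸ J ^ N, s - σ (π s) ∈ I := by
    intro s
    apply hkerπ
    rw [map_sub, hπσ, sub_self]
  -- the generators
  let g : Fin d → A ⧸ J ^ N := fun i => Ideal.Quotient.mk (J ^ N) (x i)
  have hg : ∀ i, g i ∈ I := fun i => Ideal.mem_map_of_mem _ (hxJ i)
  have hspan : Ideal.span (Set.range g) = I := by
    rw [hI, congrArg (Ideal.map (Ideal.Quotient.mk (J ^ N))) hJ, Ideal.map_span, ← Set.range_comp]
    rfl
  have hqx : CAlgX.IsQuasiRegular x :=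
    Groth.Agent.Lib.Helper9.QuasiReg.quasiRegular_of_isWeaklyRegular x hreg
  have hq' := quasiRegular_quotient_pow x hqx J hJ N
  have hinj : ∀ b : A ⧸ J, algebraMap (A ⧸ J) (A ⧸ J ^ N) b ∈ Ideal.span (Set.range g) →
      b = 0 := by
    intro b hb
    rw [hspan, halg] at hb
    have := hπI _ hb
    rwa [hπσ] at this
  have h0 : ∀ s : A ⧸ J ^ N, ∃ b : A ⧸ J, s - algebraMap (A ⧸ J) (A ⧸ J ^ N) b ∈ I :=
    fun s => ⟨π s, hsub s⟩
  have h1 : ∀ y ∈ I, ∃ c : Fin d → A ⧸ J,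
      y - ∑ i, algebraMap (A ⧸ J) (A ⧸ J ^ N) (c i) * g i ∈ I ^ 2 := by
    intro y hy
    obtain ⟨a, haJ, rfl⟩ := (Ideal.mem_map_iff_of_surjective _ Ideal.Quotient.mk_surjective).mp hy
    rw [hJ] at haJ
    obtain ⟨c', hc'⟩ := Ideal.mem_span_range_iff_exists_fun.mp haJ
    refine ⟨fun i => Ideal.Quotient.mk J (c' i), ?_⟩
    have e : Ideal.Quotient.mk (J ^ N) a -
        ∑ i, algebraMap (A ⧸ J) (A ⧸ J ^ N) (Ideal.Quotient.mk J (c' i)) * g i =
        ∑ i, (Ideal.Quotient.mk (J ^ N) (c' i) - σ (π (Ideal.Quotient.mk (J ^ N) (c' i)))) * g i := by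
      rw [← hc', map_sum, ← Finset.sum_sub_distrib]
      refine Finset.sum_congr rfl fun i _ => ?_
      rw [map_mul, halg, hπmk]
      ring
    rw [e, pow_two]
    exact Ideal.sum_mem _ fun i _ => Ideal.mul_mem_mul (hsub _) (hg i)
  -- the map
  have hker : ∀ p ∈ idealOfVars (Fin d) (A ⧸ J) ^ N, ev (A ⧸ J) g p = 0 := by
    intro p hp
    have := ev_mem_pow I g hg N p hp
    rwa [hIN, Ideal.mem_bot] at this
  let Φ : (MvPolynomial (Fin d) (A ⧸ J) ⧸ idealOfVars (Fin d) (A ⧸ J) ^ N) →ₐ[A ⧸ J]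
      (A ⧸ J ^ N) := Ideal.Quotient.liftₐ _ (ev (A ⧸ J) g) hker
  have hΦmk : ∀ p, Φ (Ideal.Quotient.mk _ p) = ev (A ⧸ J) g p := fun p => rfl
  have hΦinj : Function.Injective Φ := by
    rw [injective_iff_map_eq_zero]
    intro t ht
    obtain ⟨p, rfl⟩ := Ideal.Quotient.mk_surjective t
    rw [hΦmk] at ht
    rw [Ideal.Quotient.eq_zero_iff_mem]
    apply mem_pow_of_ev_mem_pow' g N hq' hinj N le_rfl p
    rw [ht]
    exact Ideal.zero_mem _
  have hΦsurj : Function.Surjective Φ := by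
    intro s
    obtain ⟨p, hp⟩ := exists_sub_ev_mem_pow I g hg h0 h1 N s
    rw [hIN, Ideal.mem_bot, sub_eq_zero] at hp
    exact ⟨Ideal.Quotient.mk _ p, by rw [hΦmk, ← hp]⟩
  let E₀ : (MvPolynomial (Fin d) (A ⧸ J) ⧸ idealOfVars (Fin d) (A ⧸ J) ^ N) ≃ₐ[A ⧸ J]
      (A ⧸ J ^ N) := AlgEquiv.ofBijective Φ ⟨hΦinj, hΦsurj⟩
  have hE₀ : ∀ t, E₀ t = Φ t := fun t => rfl
  let e : (A ⧸ J ^ N) ≃ₐ[R]
      (MvPolynomial (Fin d) (A ⧸ J) ⧸ idealOfVars (Fin d) (A ⧸ J) ^ N) :=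
    (E₀.restrictScalars R).symm
  have he : ∀ s, e s = E₀.symm s := fun s => rfl
  have hegi : ∀ i, e (g i) = Ideal.Quotient.mk _ (MvPolynomial.X i) := by
    intro i
    rw [he, AlgEquiv.symm_apply_eq, hE₀, hΦmk, ev_X]
  have heI : ∀ u ∈ I, e u ∈ (idealOfVars (Fin d) (A ⧸ J)).map
      (Ideal.Quotient.mk (idealOfVars (Fin d) (A ⧸ J) ^ N)) := by
    intro u hu
    have h : I ≤ ((idealOfVars (Fin d) (A ⧸ J)).map
        (Ideal.Quotient.mk (idealOfVars (Fin d) (A ⧸ J) ^ N))).comap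
        (e : (A ⧸ J ^ N) →+* _) := by
      rw [← hspan, Ideal.span_le]
      rintro _ ⟨i, rfl⟩
      rw [SetLike.mem_coe, Ideal.mem_comap]
      have e1 : (e : (A ⧸ J ^ N) →+* _) (g i) = e (g i) := rfl
      rw [e1, hegi]
      exact Ideal.mem_map_of_mem _ (Ideal.subset_span ⟨i, rfl⟩)
    exact h hu
  refine ⟨e, hegi, ?_⟩
  intro a
  have h2 : e (σ (Ideal.Quotient.mk J a)) =
      Ideal.Quotient.mk _ (MvPolynomial.C (Ideal.Quotient.mk J a)) := by
    rw [he, ← halg, AlgEquiv.commutes]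
    rfl
  have h3 : e (Ideal.Quotient.mk (J ^ N) a) -
      Ideal.Quotient.mk _ (MvPolynomial.C (Ideal.Quotient.mk J a)) =
      e (Ideal.Quotient.mk (J ^ N) a - σ (π (Ideal.Quotient.mk (J ^ N) a))) := by
    rw [map_sub, hπmk, h2]
  rw [h3]
  exact heI _ (hsub _)

end Groth.Agent.Lib.Helper21.RegSec
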