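import Mathlib
import Groth.Prelude

/-!
# Helper library (helper21): restricting a base-change square to open subschemes
(lemma Q5 for helper7's S1152)
-/

set_option autoImplicit false
universe u
open CategoryTheory CategoryTheory.Limits AlgebraicGeometry

namespace Groth.Agent.Lib.Helper21.RelFpqcQ5

theorem exists_isPullback_restrict {X S S' : Scheme.{u}} (f : X ⟶ S) (g : S' ⟶ S) (V : S.Opens)
    (V' : S'.Opens) (hle : V' ≤ g ⁻¹ᵁ V) :
    ∃ (a : ((pullback.snd f g) ⁻¹ᵁ V' : Scheme.{u}) ⟶ (f ⁻¹ᵁ V : Scheme.{u}))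
      (t : (V' : Scheme.{u}) ⟶ (V : Scheme.{u})),
      a ≫ (f ⁻¹ᵁ V).ι = ((pullback.snd f g) ⁻¹ᵁ V').ι ≫ pullback.fst f g ∧
      t ≫ V.ι = V'.ι ≫ g ∧ (Flat g → Flat t) ∧
      IsPullback a ((pullback.snd f g) ∣_ V') (f ∣_ V) t := by
  have hle' : (pullback.snd f g) ⁻¹ᵁ V' ≤ (pullback.fst f g) ⁻¹ᵁ (f ⁻¹ᵁ V) := by
    intro z hz
    have h1 : (pullback.snd f g) z ∈ g ⁻¹ᵁ V := hle hz
    have h2 : f (pullback.fst f g z) = g (pullback.snd f g z) := by
      have h := congrArg (fun φ : pullback f g ⟶ S => φ z) (pullback.condition (f := f) (g := g))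
      simpa using h
    show f (pullback.fst f g z) ∈ V
    rw [h2]
    exact h1
  refine ⟨(pullback.fst f g).resLE (f ⁻¹ᵁ V) _ hle', g.resLE V V' hle, ?_, ?_, ?_, ?_⟩
  · exact Scheme.Hom.resLE_comp_ι _ _
  · exact Scheme.Hom.resLE_comp_ι _ _
  · intro hg
    infer_instance
  · have hbig : IsPullback (pullback.fst f g) (pullback.snd f g) f g :=
      IsPullback.of_hasPullback f g
    have h2 : IsPullback ((pullback.snd f g) ⁻¹ᵁ V').ι ((pullback.snd f g) ∣_ V')
        (pullback.snd f g) V'.ι := (isPullback_morphismRestrict (pullback.snd f g) V').flip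
    have h1 : IsPullback (f ⁻¹ᵁ V).ι (f ∣_ V) f V.ι := (isPullback_morphismRestrict f V).flip
    have houter := h2.paste_horiz hbig
    refine IsPullback.of_right ?_ ?_ h1
    · rw [Scheme.Hom.resLE_comp_ι, Scheme.Hom.resLE_comp_ι]
      exact houter
    · rw [← cancel_mono V.ι]
      simp [pullback.condition]

end Groth.Agent.Lib.Helper21.RelFpqcQ5
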