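import Mathlib
import Groth.Prelude

/-!
# (B) for helper23 (S19496): the scheme-theoretic fibre over a closed point of `Spec A` has the
dimension of the fibre (helper21)
-/

set_option autoImplicit false
set_option linter.style.haveILetI false
universe u

open CategoryTheory CategoryTheory.Limits AlgebraicGeometry

noncomputable section

namespace Groth.Agent.Lib.Helper21.RelNefB

/-- (B) the fibre over a closed point has dimension `≤ 1`; `fibIdeal f m` is written unfolded:
`(Spec.map (CommRingCat.ofHom (Ideal.Quotient.mk m))).ker.comap f`. -/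
theorem B_dim_le {A : Type u} [CommRing A] {X : Scheme.{u}}
    (f : X ⟶ Spec (CommRingCat.of A)) (m : Ideal A) [m.IsMaximal]
    (hfib : ∀ y : ↥(Spec (CommRingCat.of A)), topologicalKrullDim ↥(f.fiber y) ≤ 1) :
    topologicalKrullDim
      ↥((Spec.map (CommRingCat.ofHom (Ideal.Quotient.mk m))).ker.comap f).subscheme ≤ 1 := by
  letI := Ideal.Quotient.field m
  haveI : IsClosedImmersion (Spec.map (CommRingCat.ofHom (Ideal.Quotient.mk m))) :=
    IsClosedImmersion.spec_of_surjective _ Ideal.Quotient.mk_surjective
  haveI : Unique ↥(Spec (CommRingCat.of (A ⧸ m))) :=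
    inferInstanceAs (Unique (PrimeSpectrum (A ⧸ m)))
  generalize hg : Spec.map (CommRingCat.ofHom (Ideal.Quotient.mk m)) = g at *
  have hsupp : (g.ker.support : Set ↥(Spec (CommRingCat.of A))) = {g.base default} := by
    rw [Scheme.Hom.support_ker, g.isClosedEmbedding.isClosed_range.closure_eq, Set.range_unique]
  have hJ : ((g.ker.comap f).support : Set X) = f.base ⁻¹' {g.base default} := by
    rw [Scheme.IdealSheafData.support_comap, TopologicalSpace.Closeds.coe_preimage, hsupp]
  have hemb := (g.ker.comap f).subschemeι.isEmbedding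
  have hrange : Set.range (g.ker.comap f).subschemeι.base = f.base ⁻¹' {g.base default} := by
    rw [Scheme.IdealSheafData.range_subschemeι, hJ]
  let e : (g.ker.comap f).subscheme ≃ₜ ↥(f.base ⁻¹' {g.base default}) :=
    hemb.toHomeomorph.trans (Homeomorph.setCongr hrange)
  let e2 : ↥(f.fiber (g.base default)) ≃ₜ ↥(f.base ⁻¹' {g.base default}) :=
    f.fiberHomeo (g.base default)
  rw [IsHomeomorph.topologicalKrullDim_eq e e.isHomeomorph,
    ← IsHomeomorph.topologicalKrullDim_eq e2 e2.isHomeomorph]
  exact hfib _

end Groth.Agent.Lib.Helper21.RelNefB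

end
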