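import Mathlib
import Groth.Prelude

/-!
# A topological sub-lemma for (H) of helper23's S19496: a nonempty closed subset of a scheme proper
over `Spec A` meets the fibre over some closed point (helper21)
-/

set_option autoImplicit false
set_option linter.style.haveILetI false
universe u

open CategoryTheory CategoryTheory.Limits AlgebraicGeometry

namespace Groth.Agent.Lib.Helper21.RelNefHtop

/-- a nonempty closed subset of `X`, `f : X ⟶ Spec A` a closed map, contains a point over a
maximal ideal of `A` -/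
theorem exists_mem_over_maximal {A : Type u} [CommRing A] {X : Scheme.{u}}
    (f : X ⟶ Spec (CommRingCat.of A)) (hf : IsClosedMap f.base) (Z : Set X) (hZ : IsClosed Z)
    (hne : Z.Nonempty) :
    ∃ (m : Ideal A) (hm : m.IsMaximal) (z : X), z ∈ Z ∧
      f.base z = (⟨m, hm.isPrime⟩ : PrimeSpectrum A) := by
  have hcl : IsClosed (f.base '' Z) := hf Z hZ
  obtain ⟨I, hI⟩ := (PrimeSpectrum.isClosed_iff_zeroLocus_ideal (f.base '' Z)).mp hcl
  have hIne : I ≠ ⊤ := by
    rintro rfl
    obtain ⟨z, hz⟩ := hne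
    have h1 : f.base z ∈ PrimeSpectrum.zeroLocus ((⊤ : Ideal A) : Set A) := hI ▸ ⟨z, hz, rfl⟩
    have h2 : (1 : A) ∈ (f.base z).asIdeal := h1 (Set.mem_univ (1 : A))
    exact (f.base z).isPrime.ne_top ((Ideal.eq_top_iff_one _).mpr h2)
  obtain ⟨m, hm, hIm⟩ := Ideal.exists_le_maximal I hIne
  have hmem : (⟨m, hm.isPrime⟩ : PrimeSpectrum A) ∈ PrimeSpectrum.zeroLocus (I : Set A) :=
    (PrimeSpectrum.mem_zeroLocus _ _).mpr hIm
  rw [← hI] at hmem
  obtain ⟨z, hz, hfz⟩ := hmem
  exact ⟨m, hm, z, hz, hfz⟩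

/-- the same for a proper morphism -/
theorem exists_mem_over_maximal_of_isProper {A : Type u} [CommRing A] {X : Scheme.{u}}
    (f : X ⟶ Spec (CommRingCat.of A)) [IsProper f] (Z : Set X) (hZ : IsClosed Z)
    (hne : Z.Nonempty) :
    ∃ (m : Ideal A) (hm : m.IsMaximal) (z : X), z ∈ Z ∧
      f.base z = (⟨m, hm.isPrime⟩ : PrimeSpectrum A) :=
  exists_mem_over_maximal f f.isClosedMap Z hZ hne

end Groth.Agent.Lib.Helper21.RelNefHtop
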