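import Mathlib
import Groth.Prelude.Def_RootCh

namespace Groth.Agent.Lib.Helper21.RootChLib

open RootCh Module IsAddIndecomposable

universe u v w x

theorem exists_small_eps {ι : Type*} {R : Type*} [Field R] [LinearOrder R] [IsStrictOrderedRing R]
    (a b : ι → R) (s : Finset ι) :
    ∃ ε : R, 0 < ε ∧ ∀ i ∈ s, a i ≠ 0 → ε * |b i| < |a i| := by
  classical
  induction s using Finset.induction_on with
  | empty => exact ⟨1, one_pos, by simp⟩
  | insert i s hi ih =>
    obtain ⟨ε₀, hε₀, h₀⟩ := ih
    by_cases hai : a i = 0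
    · refine ⟨ε₀, hε₀, ?_⟩
      intro j hj haj
      rcases Finset.mem_insert.1 hj with rfl | hj
      · exact absurd hai haj
      · exact h₀ j hj haj
    · have hpos : 0 < |b i| + 1 := by positivity
      have hai' : 0 < |a i| := abs_pos.2 hai
      refine ⟨min ε₀ (|a i| / (|b i| + 1)), lt_min hε₀ (div_pos hai' hpos), ?_⟩
      intro j hj haj
      rcases Finset.mem_insert.1 hj with rfl | hj
      · calc min ε₀ (|a j| / (|b j| + 1)) * |b j| ≤ |a j| / (|b j| + 1) * |b j| :=
              mul_le_mul_of_nonneg_right (min_le_right _ _) (abs_nonneg _)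
          _ < |a j| / (|b j| + 1) * (|b j| + 1) :=
              mul_lt_mul_of_pos_left (lt_add_one _) (div_pos hai' hpos)
          _ = |a j| := div_mul_cancel₀ _ hpos.ne'
      · calc min ε₀ (|a i| / (|b i| + 1)) * |b j| ≤ ε₀ * |b j| :=
              mul_le_mul_of_nonneg_right (min_le_left _ _) (abs_nonneg _)
          _ < |a j| := h₀ j hj haj

section basisPart
variable {ι : Type u} {R : Type v} {M : Type w} {N : Type x}
  [Field R]
  [AddCommGroup M] [Module R M] [AddCommGroup N] [Module R N]
  (P : RootPairing ι R M N) [P.IsRootSystem]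

open Classical in
/-- the fundamental weights of a base form a basis -/
noncomputable def fundBasis (b : P.Base) : Basis b.support R M :=
  (b.toCoweightBasis.dualBasis).map P.toPerfPair.symm

theorem fundBasis_apply (b : P.Base) (i : b.support) : fundBasis P b i = fundWeight b i := by
  classical
  rw [fundBasis, Basis.map_apply, Basis.coe_dualBasis]
  rfl

theorem fundBasis_repr (b : P.Base) (ξ : M) (i : b.support) :
    (fundBasis P b).repr ξ i = P.coroot' i ξ := by
  classical
  rw [fundBasis, Basis.map_repr, LinearEquiv.trans_apply, Basis.dualBasis_repr,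
    LinearEquiv.symm_symm, b.toCoweightBasis_apply]
  rfl

theorem eq_sum_fundWeight (b : P.Base) (ξ : M) :
    ξ = ∑ i : b.support, P.coroot' i ξ • fundWeight b i := by
  conv_lhs => rw [← (fundBasis P b).sum_repr ξ]
  apply Finset.sum_congr rfl
  intro i _
  rw [fundBasis_repr, fundBasis_apply]

theorem linearIndependent_fundWeight (b : P.Base) :
    LinearIndependent R (fundWeight b : b.support → M) := by
  have := (fundBasis P b).linearIndependent
  convert this using 1
  ext i
  rw [fundBasis_apply]

theorem fundWeight_injective (b : P.Base) : Function.Injective (fundWeight b : b.support → M) :=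
  (linearIndependent_fundWeight P b).injective

open Classical in
theorem coroot'_fundWeight (b : P.Base) (i j : b.support) :
    P.coroot' j (fundWeight b i) = if j = i then 1 else 0 := by
  split_ifs with h
  · subst h; exact coroot'_fundWeight_self b j
  · exact coroot'_fundWeight_of_ne b i j h

/-- a vector is determined by its pairings with the simple coroots -/
theorem ext_of_coroot' (b : P.Base) (ξ η : M)
    (h : ∀ i ∈ b.support, P.coroot' i ξ = P.coroot' i η) : ξ = η := by
  apply (fundBasis P b).repr.injective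
  ext i
  rw [fundBasis_repr, fundBasis_repr]
  exact h i i.2

end basisPart

section signs
variable {ι : Type u} {R : Type v} {M : Type w} {N : Type x}
  [Field R] [LinearOrder R] [IsStrictOrderedRing R]
  [AddCommGroup M] [Module R M] [AddCommGroup N] [Module R N]
  (P : RootPairing ι R M N)

/-- every coroot is plus or minus a natural combination of simple coroots; evaluate on `ξ` -/
theorem exists_coroot'_decomp (b : P.Base) (i : ι) :
    ∃ (f : ι → ℕ) (s : R), (s = 1 ∨ s = -1) ∧
      ∀ ξ : M, P.coroot' i ξ = s * ∑ j ∈ b.support, (f j : R) * P.coroot' j ξ := by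
  obtain ⟨f, -, h | h⟩ := b.flip.exists_root_eq_sum_nat_or_neg i
  · refine ⟨f, 1, Or.inl rfl, fun ξ => ?_⟩
    have h' : P.coroot i = ∑ j ∈ b.support, f j • P.coroot j := h
    show P.toLinearMap ξ (P.coroot i) = _
    rw [h', map_sum, one_mul]
    apply Finset.sum_congr rfl
    intro j _
    rw [map_nsmul, nsmul_eq_mul]; rfl
  · refine ⟨f, -1, Or.inr rfl, fun ξ => ?_⟩
    have h' : P.coroot i = - ∑ j ∈ b.support, f j • P.coroot j := h
    show P.toLinearMap ξ (P.coroot i) = _
    rw [h', map_neg, map_sum, neg_one_mul]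
    congr 1
    apply Finset.sum_congr rfl
    intro j _
    rw [map_nsmul, nsmul_eq_mul]; rfl

theorem sum_pos_imp {κ : Type*} (s : Finset κ) (f : κ → ℕ) (c d : κ → R)
    (hc : ∀ j ∈ s, 0 ≤ c j) (hd : ∀ j ∈ s, 0 ≤ d j)
    (h : ∀ j ∈ s, 0 < c j → 0 < d j) (hpos : 0 < ∑ j ∈ s, (f j : R) * c j) :
    0 < ∑ j ∈ s, (f j : R) * d j := by
  rw [Finset.sum_pos_iff_of_nonneg (fun j hj => mul_nonneg (Nat.cast_nonneg _) (hc j hj))] at hpos
  rw [Finset.sum_pos_iff_of_nonneg (fun j hj => mul_nonneg (Nat.cast_nonneg _) (hd j hj))]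
  obtain ⟨j, hj, hjpos⟩ := hpos
  refine ⟨j, hj, ?_⟩
  have hf : (0 : R) < f j := by
    rcases (Nat.cast_nonneg (α := R) (f j)).lt_or_eq with h1 | h1
    · exact h1
    · rw [← h1, zero_mul] at hjpos; exact absurd hjpos (lt_irrefl _)
  have hcj : 0 < c j := by
    rcases (hc j hj).lt_or_eq with h1 | h1
    · exact h1
    · rw [← h1, mul_zero] at hjpos; exact absurd hjpos (lt_irrefl _)
  exact mul_pos hf (h j hj hcj)

/-- general sign comparison on a closed chamber -/
theorem sgnVec_eq_zero_or_eq (b : P.Base) (ξ η : M)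
    (hξ : ξ ∈ closedChamber b) (hη : η ∈ closedChamber b)
    (h : ∀ j ∈ b.support, 0 < P.coroot' j η → 0 < P.coroot' j ξ) (i : ι) :
    sgnVec P η i = 0 ∨ sgnVec P η i = sgnVec P ξ i := by
  obtain ⟨f, s, hs, hdec⟩ := exists_coroot'_decomp P b i
  have hXη : 0 ≤ ∑ j ∈ b.support, (f j : R) * P.coroot' j η :=
    Finset.sum_nonneg fun j hj => mul_nonneg (Nat.cast_nonneg _) (hη j hj)
  rcases hXη.lt_or_eq with hpos | hzero
  · right
    have hpos' := sum_pos_imp b.support f _ _ hη hξ h hpos
    show SignType.sign (P.coroot' i η) = SignType.sign (P.coroot' i ξ)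
    rw [hdec η, hdec ξ, sign_mul, sign_mul, sign_pos hpos, sign_pos hpos']
  · left
    show SignType.sign (P.coroot' i η) = 0
    rw [hdec η, ← hzero, mul_zero, sign_zero]

theorem sgnVec_eq_of_closedChamber (b : P.Base) (ξ η : M)
    (hξ : ξ ∈ closedChamber b) (hη : η ∈ closedChamber b)
    (h : ∀ j ∈ b.support, 0 < P.coroot' j ξ ↔ 0 < P.coroot' j η) :
    sgnVec P ξ = sgnVec P η := by
  funext i
  rcases sgnVec_eq_zero_or_eq P b ξ η hξ hη (fun j hj => (h j hj).2) i with h1 | h1
  · rcases sgnVec_eq_zero_or_eq P b η ξ hη hξ (fun j hj => (h j hj).1) i with h2 | h2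
    · rw [h1, h2]
    · exact h2
  · exact h1.symm

/-- membership in the closure of the facet of `ξ`, in terms of a base adapted to `ξ` -/
theorem mem_closure_ofVec_iff (b : P.Base) (ξ η : M) (hξ : ξ ∈ closedChamber b) :
    η ∈ (Facet.ofVec P ξ).closure ↔
      ∀ j ∈ b.support, 0 ≤ P.coroot' j η ∧ (P.coroot' j ξ = 0 → P.coroot' j η = 0) := by
  constructor
  · intro h j hj
    have hj' := h j
    have hξj : 0 ≤ P.coroot' j ξ := hξ j hj
    rcases hj' with h0 | h1
    · have : P.coroot' j η = 0 := sign_eq_zero_iff.1 h0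
      exact ⟨this.ge, fun _ => this⟩
    · have h1' : SignType.sign (P.coroot' j η) = SignType.sign (P.coroot' j ξ) := h1
      constructor
      · rw [← sign_nonneg_iff, h1', sign_nonneg_iff]; exact hξj
      · intro h0
        rw [h0, sign_zero] at h1'
        exact sign_eq_zero_iff.1 h1'
  · intro h i
    have hη : η ∈ closedChamber b := fun j hj => (h j hj).1
    apply sgnVec_eq_zero_or_eq P b ξ η hξ hη
    intro j hj hpos
    rcases (hξ j hj).lt_or_eq with h1 | h1
    · exact h1
    · rw [(h j hj).2 h1.symm] at hpos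
      exact absurd hpos (lt_irrefl _)

theorem closure_subset_closedChamber (b : P.Base) (F : Facet P) (ξ : M) (hξF : sgnVec P ξ = F.sgn)
    (hξ : ξ ∈ closedChamber b) : F.closure ⊆ closedChamber b := by
  intro η hη j hj
  have hF : F = Facet.ofVec P ξ := Facet.ext hξF.symm
  rw [hF] at hη
  exact ((mem_closure_ofVec_iff P b ξ η hξ).1 hη j hj).1

end signs

section chambers
variable {ι : Type u} {R : Type v} {M : Type w} {N : Type x}
  [Field R] [LinearOrder R] [IsStrictOrderedRing R]
  [AddCommGroup M] [Module R M] [AddCommGroup N] [Module R N] [Finite ι]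
  (P : RootPairing ι R M N) [P.IsRootSystem] [P.IsCrystallographic] [P.IsReduced]

/-- a base all of whose simple coroots are positive on a regular vector -/
theorem exists_base_of_regular (ξ : M) (hξ : ∀ i, P.coroot' i ξ ≠ 0) :
    ∃ b : P.Base, ∀ i ∈ b.support, 0 < P.coroot' i ξ := by
  let g : Dual R N := P.toLinearMap ξ
  have hg : ∀ i, g (P.flip.root i) ≠ 0 := fun i => hξ i
  let _i := P.flip.indexNeg
  have hli := P.flip.linearIndepOn_root_baseOf' (S := R) g hg
  have hsp : ∀ i, P.flip.root i ∈ AddSubmonoid.closure (P.flip.root '' baseOf P.flip.root (g : N →+ R)) ∨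
      -P.flip.root i ∈ AddSubmonoid.closure (P.flip.root '' baseOf P.flip.root (g : N →+ R)) :=
    fun i => mem_or_neg_mem_closure_baseOf P.flip.root (g : N →+ R) i (hg i) (by simp)
  let b' : P.flip.Base := RootPairing.Base.mk' P.flip _ hli hsp
  refine ⟨b'.flip, ?_⟩
  intro i hi
  have hi' : i ∈ baseOf P.flip.root (g : N →+ R) := by
    simpa [b', RootPairing.Base.mk'] using hi
  exact baseOf_subset_pos _ _ hi'

omit [P.IsCrystallographic] [P.IsReduced] [Finite ι] [P.IsRootSystem] in
theorem coroot'_ne_zero (i : ι) : ∃ x : M, P.coroot' i x ≠ 0 :=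
  ⟨P.root i, by
    have : P.coroot' i (P.root i) = 2 := by simp
    rw [this]; exact two_ne_zero⟩

theorem exists_regular : ∃ η : M, ∀ i, P.coroot' i η ≠ 0 :=
  Module.Dual.exists_forall_ne_zero_of_forall_exists (fun i => P.coroot' i)
    (fun i => coroot'_ne_zero P i)

/-- every vector lies in the closed chamber of some base; moreover the base can be chosen
so that it is the base of a regular perturbation. -/
theorem exists_base_closedChamber (ξ : M) : ∃ b : P.Base, ξ ∈ closedChamber b := by
  haveI : Fintype ι := Fintype.ofFinite ι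
  obtain ⟨η, hη⟩ := exists_regular P
  obtain ⟨ε, hε, h⟩ := exists_small_eps (fun i => P.coroot' i ξ) (fun i => P.coroot' i η)
    Finset.univ
  have key : ∀ i, (P.coroot' i ξ < 0 → P.coroot' i (ξ + ε • η) < 0) ∧
      P.coroot' i (ξ + ε • η) ≠ 0 := by
    intro i
    have e : P.coroot' i (ξ + ε • η) = P.coroot' i ξ + ε * P.coroot' i η := by
      rw [map_add, map_smul, smul_eq_mul]
    rw [e]
    by_cases ha : P.coroot' i ξ = 0
    · rw [ha, zero_add]
      exact ⟨fun h => absurd h (lt_irrefl _), mul_ne_zero hε.ne' (hη i)⟩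
    · have h1 := h i (Finset.mem_univ i) ha
      have h2 : |ε * P.coroot' i η| < |P.coroot' i ξ| := by
        rwa [abs_mul, abs_of_pos hε]
      constructor
      · intro hneg
        rw [abs_of_neg hneg] at h2
        have := le_abs_self (ε * P.coroot' i η)
        linarith
      · intro h0
        have : ε * P.coroot' i η = - P.coroot' i ξ := by linarith
        rw [this, abs_neg] at h2
        exact lt_irrefl _ h2
  obtain ⟨b, hb⟩ := exists_base_of_regular P (ξ + ε • η) (fun i => (key i).2)
  refine ⟨b, fun i hi => ?_⟩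
  by_contra hneg
  rw [not_le] at hneg
  have := (key i).1 hneg
  exact lt_asymm this (hb i hi)

end chambers

end Groth.Agent.Lib.Helper21.RootChLib
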