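import Mathlib
import Groth.Prelude.Def_RootCh
import Groth.Agent.Lib.Helper21.RootChLib

namespace Groth.Agent.Lib.Helper21.RootChLib

open RootCh Module

universe u v w x

section corners
variable {ι : Type u} {R : Type v} {M : Type w} {N : Type x}
  [Field R] [LinearOrder R] [IsStrictOrderedRing R]
  [AddCommGroup M] [Module R M] [AddCommGroup N] [Module R N]
  (P : RootPairing ι R M N) [P.IsRootSystem]

theorem fundWeight_mem_closedChamber (b : P.Base) (i : b.support) :
    fundWeight b i ∈ closedChamber b := by
  classical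
  intro j hj
  have := coroot'_fundWeight P b i ⟨j, hj⟩
  simp only at this
  rw [this]
  split_ifs
  · exact zero_le_one
  · exact le_rfl

/-- collapse of a sum against a fundamental weight -/
theorem sum_mul_coroot'_fundWeight (b : P.Base) (i : b.support) (f : ι → R) :
    ∑ l ∈ b.support, f l * P.coroot' l (fundWeight b i) = f i := by
  classical
  rw [Finset.sum_eq_single_of_mem (i : ι) i.2]
  · rw [coroot'_fundWeight_self, mul_one]
  · intro l hl hne
    have := coroot'_fundWeight_of_ne b i ⟨l, hl⟩ (fun h => hne (congrArg Subtype.val h))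
    simp only at this
    rw [this, mul_zero]

/-- integrality: a positive pairing of a fundamental weight with a simple coroot of another base
is at least one -/
theorem one_le_coroot'_fundWeight (b b' : P.Base) (k : ι) (i' : b'.support)
    (hpos : 0 < P.coroot' k (fundWeight b' i')) : 1 ≤ P.coroot' k (fundWeight b' i') := by
  obtain ⟨f, s, hs, hdec⟩ := exists_coroot'_decomp P b' k
  have h1 := hdec (fundWeight b' i')
  rw [sum_mul_coroot'_fundWeight P b' i' (fun l => (f l : R))] at h1
  rw [h1] at hpos ⊢
  rcases hs with rfl | rfl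
  · rw [one_mul] at hpos ⊢
    have : 0 < f i' := by exact_mod_cast hpos
    exact_mod_cast this
  · exfalso
    have : (0 : R) ≤ f i' := Nat.cast_nonneg _
    linarith

theorem exists_fundWeight_eq_of_mem_closedChamber (b b' : P.Base) (i' : b'.support)
    (h : fundWeight b' i' ∈ closedChamber b) :
    ∃ j : b.support, fundWeight b j = fundWeight b' i' := by
  classical
  set w := fundWeight b' i' with hw
  -- step 1
  have h1 : ∃ j₁ ∈ b.support, 0 < P.coroot' j₁ w := by
    by_contra hcon
    push Not at hcon
    have hzero : w = 0 := by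
      apply ext_of_coroot' P b
      intro j hj
      rw [map_zero]
      exact le_antisymm (hcon j hj) (h j hj)
    have : P.coroot' i' w = 1 := coroot'_fundWeight_self b' i'
    rw [hzero, map_zero] at this
    exact zero_ne_one this
  obtain ⟨j₁, hj₁, hc⟩ := h1
  set ω := fundWeight b ⟨j₁, hj₁⟩ with hω
  set c := P.coroot' j₁ w with hcdef
  -- step 2
  have hη : w + ω ∈ closedChamber b := by
    intro j hj
    rw [map_add]
    exact add_nonneg (h j hj) (fundWeight_mem_closedChamber P b ⟨j₁, hj₁⟩ j hj)
  have hpat : ∀ j ∈ b.support, 0 < P.coroot' j w ↔ 0 < P.coroot' j (w + ω) := by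
    intro j hj
    rw [map_add]
    have hωj := coroot'_fundWeight P b ⟨j₁, hj₁⟩ ⟨j, hj⟩
    simp only at hωj
    constructor
    · intro hp
      exact add_pos_of_pos_of_nonneg hp (fundWeight_mem_closedChamber P b ⟨j₁, hj₁⟩ j hj)
    · intro hp
      by_cases hjj : j = j₁
      · subst hjj; exact hc
      · rw [hω, hωj, if_neg (fun h => hjj (congrArg Subtype.val h)), add_zero] at hp
        exact hp
  have hsgn := sgnVec_eq_of_closedChamber P b w (w + ω) h hη hpat
  -- step 3
  set t := P.coroot' i' (w + ω) with ht
  have hηt : w + ω = t • w := by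
    apply ext_of_coroot' P b'
    intro j hj
    rw [map_smul, smul_eq_mul]
    by_cases hji : j = i'
    · rw [hji, ← ht, show P.coroot' i' w = 1 from coroot'_fundWeight_self b' i', mul_one]
    · have hwj : P.coroot' j w = 0 :=
        coroot'_fundWeight_of_ne b' i' ⟨j, hj⟩ (fun h => hji (congrArg Subtype.val h))
      have : sgnVec P (w + ω) j = 0 := by
        rw [← hsgn]
        show SignType.sign (P.coroot' j w) = 0
        rw [hwj, sign_zero]
      have h0 : P.coroot' j (w + ω) = 0 := sign_eq_zero_iff.1 this
      rw [h0, hwj, mul_zero]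
  -- step 4
  have hω1 : P.coroot' j₁ ω = 1 := coroot'_fundWeight_self b ⟨j₁, hj₁⟩
  have hωeq : ω = (t - 1) • w := by
    rw [sub_smul, one_smul, ← hηt, add_sub_cancel_left]
  have htc : (t - 1) * c = 1 := by
    have := congrArg (P.coroot' j₁) hωeq
    rw [map_smul, smul_eq_mul, hω1] at this
    exact this.symm
  have hwc : w = c • ω := by
    rw [hωeq, smul_smul, mul_comm, htc, one_smul]
  -- step 5
  have hc1 : 1 ≤ c := one_le_coroot'_fundWeight P b b' j₁ i' hc
  set n := P.coroot' i' ω with hn
  have hcn : c * n = 1 := by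
    have := congrArg (P.coroot' i') hwc
    rw [map_smul, smul_eq_mul, show P.coroot' i' w = 1 from coroot'_fundWeight_self b' i'] at this
    exact this.symm
  have hnpos : 0 < n := by
    by_contra hneg
    rw [not_lt] at hneg
    have : c * n ≤ 0 := mul_nonpos_of_nonneg_of_nonpos hc.le hneg
    rw [hcn] at this
    exact absurd this (not_le.2 one_pos)
  have hn1 : 1 ≤ n := one_le_coroot'_fundWeight P b' b i' ⟨j₁, hj₁⟩ hnpos
  have hceq : c = 1 := by
    apply le_antisymm _ hc1
    calc c = c * 1 := (mul_one c).symm
      _ ≤ c * n := mul_le_mul_of_nonneg_left hn1 hc.le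
      _ = 1 := hcn
  refine ⟨⟨j₁, hj₁⟩, ?_⟩
  rw [hwc, hceq, one_smul]

theorem baseCorners_eq (b : P.Base) : baseCorners b = Set.range (fundWeight b) := by
  ext w
  constructor
  · rintro ⟨⟨b', i', rfl⟩, hcl⟩
    exact exists_fundWeight_eq_of_mem_closedChamber P b b' i' hcl
  · rintro ⟨j, rfl⟩
    exact ⟨⟨b, j, rfl⟩, fundWeight_mem_closedChamber P b j⟩

end corners

end Groth.Agent.Lib.Helper21.RootChLib
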