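import Mathlib
import Groth.Prelude.Def_RootCh
import Groth.Agent.Lib.Helper21.RootChLib2

namespace Groth.Agent.Lib.Helper21.RootChLib

open RootCh Module

universe u v w x

section facets
variable {ι : Type u} {R : Type v} {M : Type w} {N : Type x}
  [Field R] [LinearOrder R] [IsStrictOrderedRing R]
  [AddCommGroup M] [Module R M] [AddCommGroup N] [Module R N]
  (P : RootPairing ι R M N) [P.IsRootSystem]

/-- description of the corners of a facet through an adapted base -/
theorem corners_eq (F : Facet P) (ξ : M) (hξF : sgnVec P ξ = F.sgn) (b : P.Base)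
    (hξ : ξ ∈ closedChamber b) :
    F.corners = {m | ∃ j : b.support, 0 < P.coroot' j ξ ∧ fundWeight b j = m} := by
  have hF : F = Facet.ofVec P ξ := Facet.ext hξF.symm
  ext m
  constructor
  · rintro ⟨hm1, hm2⟩
    have hmb : m ∈ baseCorners b := ⟨hm1, closure_subset_closedChamber P b F ξ hξF hξ hm2⟩
    rw [baseCorners_eq] at hmb
    obtain ⟨j, rfl⟩ := hmb
    refine ⟨j, ?_, rfl⟩
    rw [hF] at hm2
    have := ((mem_closure_ofVec_iff P b ξ _ hξ).1 hm2 j j.2).2
    rcases (hξ j j.2).lt_or_eq with h1 | h1
    · exact h1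
    · have h2 := this h1.symm
      rw [coroot'_fundWeight_self] at h2
      exact absurd h2 one_ne_zero
  · rintro ⟨j, hj, rfl⟩
    refine ⟨⟨b, j, rfl⟩, ?_⟩
    rw [hF, mem_closure_ofVec_iff P b ξ _ hξ]
    intro k hk
    refine ⟨fundWeight_mem_closedChamber P b j k hk, fun h0 => ?_⟩
    by_cases hkj : k = j
    · rw [hkj] at h0
      rw [h0] at hj
      exact absurd hj (lt_irrefl _)
    · exact coroot'_fundWeight_of_ne b j ⟨k, hk⟩ (fun h => hkj (congrArg Subtype.val h))

/-- description of the vectors of a facet through an adapted base -/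
theorem carrier_eq (F : Facet P) (ξ : M) (hξF : sgnVec P ξ = F.sgn) (b : P.Base)
    (hξ : ξ ∈ closedChamber b) :
    F.carrier = {η | ∀ j ∈ b.support, (0 < P.coroot' j ξ → 0 < P.coroot' j η) ∧
      (P.coroot' j ξ = 0 → P.coroot' j η = 0)} := by
  ext η
  constructor
  · intro hη j hj
    have hη' : sgnVec P η = F.sgn := hη
    have hs : SignType.sign (P.coroot' j η) = SignType.sign (P.coroot' j ξ) := by
      have := congrFun (hη'.trans hξF.symm) j
      exact this
    constructor
    · intro hp
      rw [← sign_eq_one_iff] at hp ⊢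
      rw [hs, hp]
    · intro h0
      rw [← sign_eq_zero_iff] at h0 ⊢
      rw [hs, h0]
  · intro hη
    have hηc : η ∈ closedChamber b := by
      intro j hj
      rcases (hξ j hj).lt_or_eq with h1 | h1
      · exact ((hη j hj).1 h1).le
      · exact ((hη j hj).2 h1.symm).ge
    show sgnVec P η = F.sgn
    rw [← hξF]
    symm
    apply sgnVec_eq_of_closedChamber P b ξ η hξ hηc
    intro j hj
    constructor
    · exact (hη j hj).1
    · intro hp
      rcases (hξ j hj).lt_or_eq with h1 | h1
      · exact h1
      · rw [(hη j hj).2 h1.symm] at hp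
        exact absurd hp (lt_irrefl _)

end facets

section facets2
variable {ι : Type u} {R : Type v} {M : Type w} {N : Type x}
  [Field R] [LinearOrder R] [IsStrictOrderedRing R]
  [AddCommGroup M] [Module R M] [AddCommGroup N] [Module R N]
  (P : RootPairing ι R M N) [P.IsRootSystem]

theorem corners_subset_range (F : Facet P) (ξ : M) (hξF : sgnVec P ξ = F.sgn) (b : P.Base)
    (hξ : ξ ∈ closedChamber b) : F.corners ⊆ Set.range (fundWeight b) := by
  rw [corners_eq P F ξ hξF b hξ]
  rintro m ⟨j, -, rfl⟩
  exact ⟨j, rfl⟩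

theorem linearIndepOn_corners_aux (F : Facet P) (ξ : M) (hξF : sgnVec P ξ = F.sgn) (b : P.Base)
    (hξ : ξ ∈ closedChamber b) : LinearIndepOn R (fun m : M => m) F.corners :=
  (linearIndependent_fundWeight P b).linearIndepOn_id.mono (corners_subset_range P F ξ hξF b hξ)

theorem add_fundWeight_mem_carrier (F : Facet P) (ξ : M) (hξF : sgnVec P ξ = F.sgn) (b : P.Base)
    (hξ : ξ ∈ closedChamber b) (j : b.support) (hj : 0 < P.coroot' j ξ) :
    ξ + fundWeight b j ∈ F.carrier := by
  rw [carrier_eq P F ξ hξF b hξ]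
  intro k hk
  rw [map_add]
  constructor
  · intro hp
    exact add_pos_of_pos_of_nonneg hp (fundWeight_mem_closedChamber P b j k hk)
  · intro h0
    have hkj : (⟨k, hk⟩ : b.support) ≠ j := by
      rintro rfl
      rw [h0] at hj
      exact lt_irrefl _ hj
    rw [h0, zero_add]
    exact coroot'_fundWeight_of_ne b j ⟨k, hk⟩ hkj

theorem span_carrier_eq_aux (F : Facet P) (ξ : M) (hξF : sgnVec P ξ = F.sgn) (b : P.Base)
    (hξ : ξ ∈ closedChamber b) :
    Submodule.span R F.carrier = Submodule.span R F.corners := by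
  apply le_antisymm
  · rw [Submodule.span_le]
    intro η hη
    rw [carrier_eq P F ξ hξF b hξ] at hη
    rw [SetLike.mem_coe, eq_sum_fundWeight P b η]
    apply Submodule.sum_mem
    intro j _
    rcases (hξ j j.2).lt_or_eq with h1 | h1
    · apply Submodule.smul_mem
      apply Submodule.subset_span
      rw [corners_eq P F ξ hξF b hξ]
      exact ⟨j, h1, rfl⟩
    · rw [(hη j j.2).2 h1.symm, zero_smul]
      exact Submodule.zero_mem _
  · rw [Submodule.span_le]
    intro m hm
    rw [corners_eq P F ξ hξF b hξ] at hm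
    obtain ⟨j, hj, rfl⟩ := hm
    have h1 : ξ + fundWeight b j ∈ Submodule.span R F.carrier :=
      Submodule.subset_span (add_fundWeight_mem_carrier P F ξ hξF b hξ j hj)
    have h2 : ξ ∈ Submodule.span R F.carrier := Submodule.subset_span hξF
    have := Submodule.sub_mem _ h1 h2
    rwa [add_sub_cancel_left] at this

end facets2

section facets3
variable {ι : Type u} {R : Type v} {M : Type w} {N : Type x}
  [Field R] [LinearOrder R] [IsStrictOrderedRing R]
  [AddCommGroup M] [Module R M] [AddCommGroup N] [Module R N]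
  (P : RootPairing ι R M N) [P.IsRootSystem]

theorem carrier_eq_pos_comb_aux (F : Facet P) (ξ : M) (hξF : sgnVec P ξ = F.sgn) (b : P.Base)
    (hξ : ξ ∈ closedChamber b) :
    F.carrier = {η : M | ∃ c : M →₀ R, (c.support : Set M) ⊆ F.corners ∧
      (∀ m ∈ F.corners, 0 < c m) ∧ c.sum (fun m r => r • m) = η} := by
  classical
  have hcor := corners_eq P F ξ hξF b hξ
  have hinj := fundWeight_injective P b
  ext η
  constructor
  · intro hη
    rw [carrier_eq P F ξ hξF b hξ] at hη
    set e : b.support →₀ R := (fundBasis P b).repr η with he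
    have hej : ∀ j : b.support, e j = P.coroot' j η := fun j => fundBasis_repr P b η j
    refine ⟨Finsupp.mapDomain (fundWeight b) e, ?_, ?_, ?_⟩
    · intro m hm
      have hm' := Finsupp.mapDomain_support hm
      rw [Finset.mem_image] at hm'
      obtain ⟨j, hj, rfl⟩ := hm'
      rw [hcor]
      refine ⟨j, ?_, rfl⟩
      rcases (hξ j j.2).lt_or_eq with h1 | h1
      · exact h1
      · exfalso
        rw [Finsupp.mem_support_iff, hej] at hj
        exact hj ((hη j j.2).2 h1.symm)
    · intro m hm
      rw [hcor] at hm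
      obtain ⟨j, hj, rfl⟩ := hm
      rw [Finsupp.mapDomain_apply hinj, hej]
      exact (hη j j.2).1 hj
    · rw [Finsupp.sum_mapDomain_index (h := fun (m : M) (r : R) => r • m)
          (fun m => zero_smul R m) (fun m r₁ r₂ => add_smul r₁ r₂ m),
        Finsupp.sum_fintype _ _ (fun j => zero_smul R (fundWeight b j))]
      conv_rhs => rw [eq_sum_fundWeight P b η]
      apply Finset.sum_congr rfl
      intro j _
      rw [hej]
  · rintro ⟨c, hsupp, hpos, rfl⟩
    rw [carrier_eq P F ξ hξF b hξ]
    intro k hk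
    have hval : P.coroot' k (c.sum fun m r => r • m) =
        ∑ m ∈ c.support, c m * P.coroot' k m := by
      rw [Finsupp.sum, map_sum]
      apply Finset.sum_congr rfl
      intro m _
      rw [map_smul, smul_eq_mul]
    rw [hval]
    constructor
    · intro hp
      have hω : fundWeight b ⟨k, hk⟩ ∈ F.corners := by
        rw [hcor]; exact ⟨⟨k, hk⟩, hp, rfl⟩
      have hcω := hpos _ hω
      have hmem : fundWeight b ⟨k, hk⟩ ∈ c.support := by
        rw [Finsupp.mem_support_iff]; exact hcω.ne'
      rw [Finset.sum_eq_single_of_mem _ hmem]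
      · rw [show P.coroot' k (fundWeight b ⟨k, hk⟩) = 1 from coroot'_fundWeight_self b ⟨k, hk⟩,
          mul_one]
        exact hcω
      · intro m hm hne
        have hm' := hsupp hm
        rw [hcor] at hm'
        obtain ⟨j, -, rfl⟩ := hm'
        have hjk : (⟨k, hk⟩ : b.support) ≠ j := by
          rintro rfl; exact hne rfl
        rw [show P.coroot' k (fundWeight b j) = 0 from coroot'_fundWeight_of_ne b j ⟨k, hk⟩ hjk,
          mul_zero]
    · intro h0
      apply Finset.sum_eq_zero
      intro m hm
      have hm' := hsupp hm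
      rw [hcor] at hm'
      obtain ⟨j, hj, rfl⟩ := hm'
      have hjk : (⟨k, hk⟩ : b.support) ≠ j := by
        rintro rfl
        rw [h0] at hj
        exact lt_irrefl _ hj
      rw [show P.coroot' k (fundWeight b j) = 0 from coroot'_fundWeight_of_ne b j ⟨k, hk⟩ hjk,
        mul_zero]

end facets3

section facets4
variable {ι : Type u} {R : Type v} {M : Type w} {N : Type x}
  [Field R] [LinearOrder R] [IsStrictOrderedRing R]
  [AddCommGroup M] [Module R M] [AddCommGroup N] [Module R N]
  (P : RootPairing ι R M N) [P.IsRootSystem]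

theorem exists_corners_insert_aux (F : Facet P) (ξ : M) (hξF : sgnVec P ξ = F.sgn) (b : P.Base)
    (hξ : ξ ∈ closedChamber b) (i : b.support) :
    ∃ G : Facet P, G.corners = insert (fundWeight b i) F.corners := by
  classical
  have hξ' : ξ + fundWeight b i ∈ closedChamber b := by
    intro j hj
    rw [map_add]
    exact add_nonneg (hξ j hj) (fundWeight_mem_closedChamber P b i j hj)
  refine ⟨Facet.ofVec P (ξ + fundWeight b i), ?_⟩
  rw [corners_eq P (Facet.ofVec P (ξ + fundWeight b i)) (ξ + fundWeight b i) rfl b hξ',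
    corners_eq P F ξ hξF b hξ]
  ext m
  simp only [Set.mem_ofPred_eq, Set.mem_insert_iff]
  constructor
  · rintro ⟨j, hj, rfl⟩
    by_cases hji : j = i
    · left; rw [hji]
    · right
      refine ⟨j, ?_, rfl⟩
      rwa [map_add, coroot'_fundWeight_of_ne b i j hji, add_zero] at hj
  · rintro (rfl | ⟨j, hj, rfl⟩)
    · refine ⟨i, ?_, rfl⟩
      rw [map_add, coroot'_fundWeight_self]
      exact add_pos_of_nonneg_of_pos (hξ i i.2) one_pos
    · refine ⟨j, ?_, rfl⟩
      rw [map_add]
      exact add_pos_of_pos_of_nonneg hj (fundWeight_mem_closedChamber P b i j j.2)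

theorem exists_corners_diff_aux (F : Facet P) (ξ : M) (hξF : sgnVec P ξ = F.sgn) (b : P.Base)
    (hξ : ξ ∈ closedChamber b) (i : b.support) :
    ∃ G : Facet P, G.corners = F.corners \ {fundWeight b i} := by
  classical
  have hinj := fundWeight_injective P b
  set c := P.coroot' i ξ with hc
  have hval : ∀ j : b.support, P.coroot' j (ξ - c • fundWeight b i) =
      if j = i then 0 else P.coroot' j ξ := by
    intro j
    rw [map_sub, map_smul, smul_eq_mul, coroot'_fundWeight P b i j]
    split_ifs with h
    · rw [h, mul_one, sub_self]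
    · rw [mul_zero, sub_zero]
  have hξ' : ξ - c • fundWeight b i ∈ closedChamber b := by
    intro j hj
    rw [hval ⟨j, hj⟩]
    split_ifs
    · exact le_rfl
    · exact hξ j hj
  refine ⟨Facet.ofVec P (ξ - c • fundWeight b i), ?_⟩
  rw [corners_eq P (Facet.ofVec P (ξ - c • fundWeight b i)) _ rfl b hξ',
    corners_eq P F ξ hξF b hξ]
  ext m
  simp only [Set.mem_ofPred_eq, Set.mem_sdiff, Set.mem_singleton_iff]
  constructor
  · rintro ⟨j, hj, rfl⟩
    rw [hval j] at hj
    split_ifs at hj with h
    · exact absurd hj (lt_irrefl _)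
    · exact ⟨⟨j, hj, rfl⟩, fun h' => h (hinj h')⟩
  · rintro ⟨⟨j, hj, rfl⟩, hne⟩
    refine ⟨j, ?_, rfl⟩
    rw [hval j, if_neg (fun h => hne (by rw [h]))]
    exact hj

end facets4

section final
variable {ι : Type u} {R : Type v} {M : Type w} {N : Type x}
  [Field R] [LinearOrder R] [IsStrictOrderedRing R]
  [AddCommGroup M] [Module R M] [AddCommGroup N] [Module R N] [Finite ι]
  (P : RootPairing ι R M N) [P.IsRootSystem] [P.IsCrystallographic] [P.IsReduced]

/-- every facet has a realising vector and an adapted base -/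
theorem exists_adapted (F : Facet P) :
    ∃ (ξ : M) (b : P.Base), sgnVec P ξ = F.sgn ∧ ξ ∈ closedChamber b := by
  obtain ⟨ξ, hξ⟩ := F.exists_sgnVec_eq
  obtain ⟨b, hb⟩ := exists_base_closedChamber P ξ
  exact ⟨ξ, b, hξ, hb⟩

theorem linearIndepOn_corners (F : Facet P) : LinearIndepOn R (fun m : M => m) F.corners := by
  obtain ⟨ξ, b, hξF, hξ⟩ := exists_adapted P F
  exact linearIndepOn_corners_aux P F ξ hξF b hξ

theorem span_carrier_eq (F : Facet P) :
    Submodule.span R F.carrier = Submodule.span R F.corners := by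
  obtain ⟨ξ, b, hξF, hξ⟩ := exists_adapted P F
  exact span_carrier_eq_aux P F ξ hξF b hξ

theorem carrier_eq_pos_comb (F : Facet P) :
    F.carrier = {ξ : M | ∃ c : M →₀ R, (c.support : Set M) ⊆ F.corners ∧
      (∀ m ∈ F.corners, 0 < c m) ∧ c.sum (fun m r => r • m) = ξ} := by
  obtain ⟨ξ, b, hξF, hξ⟩ := exists_adapted P F
  exact carrier_eq_pos_comb_aux P F ξ hξF b hξ

theorem exists_corners_eq_insert (F : Facet P) (m : M) (hm : m ∈ F.corners') :
    ∃ G : Facet P, G.corners = insert m F.corners := by
  obtain ⟨ξ, hξF⟩ := F.exists_sgnVec_eq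
  simp only [Facet.corners', Set.mem_iUnion] at hm
  obtain ⟨b, hb, hmb⟩ := hm
  have hξ : ξ ∈ closedChamber b := hb hξF
  rw [baseCorners_eq] at hmb
  obtain ⟨i, rfl⟩ := hmb
  exact exists_corners_insert_aux P F ξ hξF b hξ i

theorem exists_corners_eq_diff (F : Facet P) (m : M) (hm : m ∈ F.corners) :
    ∃ G : Facet P, G.corners = F.corners \ {m} := by
  obtain ⟨ξ, b, hξF, hξ⟩ := exists_adapted P F
  rw [corners_eq P F ξ hξF b hξ] at hm
  obtain ⟨i, -, rfl⟩ := hm
  exact exists_corners_diff_aux P F ξ hξF b hξ i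

end final

end Groth.Agent.Lib.Helper21.RootChLib
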