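import Mathlib
import Groth.Prelude.Def_RootCh
import Groth.Agent.Lib.Helper21.RootChLib3

namespace Groth.Agent.Lib.Helper21.RootChLib

open RootCh Module

universe u v w x

section duality
variable {ι : Type u} {R : Type v} {M : Type w} {N : Type x}
  [Field R] [LinearOrder R] [IsStrictOrderedRing R]
  [AddCommGroup M] [Module R M] [AddCommGroup N] [Module R N] [Finite ι]
  (P : RootPairing ι R M N) [P.IsRootSystem]

/-- the polarisation identifies the pairing against coroots with a positive multiple of the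
pairing against roots -/
theorem exists_polarization : ∃ (E : M ≃ₗ[R] N) (κ : ι → R), (∀ i, 0 < κ i) ∧
    ∀ i m, P.coroot' i m = κ i * P.root' i (E m) := by
  haveI : Fintype ι := Fintype.ofFinite ι
  refine ⟨P.PolarizationEquiv, fun i => 2 / P.RootForm (P.root i) (P.root i), ?_, ?_⟩
  · intro i
    apply div_pos two_pos
    exact P.rootForm_pos_of_ne_zero (Submodule.subset_span (Set.mem_range_self i)) (P.ne_zero i)
  · intro i m
    have h1 : P.coroot' i m = P.toLinearMap m (P.coroot i) := rfl
    have h2 : P.root' i (P.PolarizationEquiv m) = P.toLinearMap (P.root i) (P.Polarization m) := by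
      rw [P.polarizationEquiv_apply]
    rw [h1, h2, P.coroot_eq_polarizationEquiv_apply_root, map_smul, smul_eq_mul,
      P.polarizationEquiv_apply, P.toLinearMap_apply_apply_Polarization,
      P.toLinearMap_apply_apply_Polarization]
    have hs : P.RootForm m (P.root i) = P.RootForm (P.root i) m := by
      rw [P.rootForm_apply_apply, P.rootForm_apply_apply]
      exact Finset.sum_congr rfl fun j _ => mul_comm _ _
    rw [hs]

end duality

section duality2
variable {ι : Type u} {R : Type v} {M : Type w} {N : Type x}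
  [Field R] [LinearOrder R] [IsStrictOrderedRing R]
  [AddCommGroup M] [Module R M] [AddCommGroup N] [Module R N]
  (P : RootPairing ι R M N) [P.IsRootSystem]

theorem fundCoweights_eq :
    fundCoweights P = {y | ∃ (b : P.Base) (i : b.support), fundCoweight b i = y} := by
  ext y
  constructor
  · rintro ⟨b₀, i₀, rfl⟩
    exact ⟨b₀.flip, i₀, rfl⟩
  · rintro ⟨b, i, rfl⟩
    exact ⟨b.flip, i, rfl⟩

variable (E : M ≃ₗ[R] N) (κ : ι → R) (hκ : ∀ i, 0 < κ i)
  (hE : ∀ i m, P.coroot' i m = κ i * P.root' i (E m))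

include hκ hE

theorem sgnVec_eq_cosgnVec (m : M) : sgnVec P m = cosgnVec P (E m) := by
  funext i
  show SignType.sign (P.coroot' i m) = SignType.sign (P.root' i (E m))
  rw [hE, sign_mul, sign_pos (hκ i), one_mul]

theorem cosgnVec_smul_of_pos (t : R) (ht : 0 < t) (y : N) :
    cosgnVec P (t • y) = cosgnVec P y := by
  funext i
  show SignType.sign (P.root' i (t • y)) = SignType.sign (P.root' i y)
  rw [map_smul, smul_eq_mul, sign_mul, sign_pos ht, one_mul]

theorem fundCoweight_eq (b : P.Base) (j : b.support) :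
    fundCoweight b j = κ j • E (fundWeight b j) := by
  classical
  apply ext_of_coroot' P.flip b.flip
  intro k hk
  show P.root' k (fundCoweight b j) = P.root' k (κ j • E (fundWeight b j))
  have hk' : k ∈ b.support := hk
  have h1 : P.root' k (E (fundWeight b j)) = (κ k)⁻¹ * P.coroot' k (fundWeight b j) := by
    rw [hE, ← mul_assoc, inv_mul_cancel₀ (hκ k).ne', one_mul]
  rw [map_smul, smul_eq_mul, h1]
  by_cases hkj : (⟨k, hk'⟩ : b.support) = j
  · subst hkj
    have e1 : P.root' k (fundCoweight b ⟨k, hk'⟩) = 1 := root'_fundCoweight_self b ⟨k, hk'⟩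
    have e2 : P.coroot' k (fundWeight b ⟨k, hk'⟩) = 1 := coroot'_fundWeight_self b ⟨k, hk'⟩
    rw [e1, e2, mul_one]
    exact (mul_inv_cancel₀ (hκ k).ne').symm
  · have e1 : P.root' k (fundCoweight b j) = 0 := root'_fundCoweight_of_ne b j ⟨k, hk'⟩ hkj
    have e2 : P.coroot' k (fundWeight b j) = 0 := coroot'_fundWeight_of_ne b j ⟨k, hk'⟩ hkj
    rw [e1, e2, mul_zero, mul_zero]

theorem cosgnVec_fundCoweight (b : P.Base) (j : b.support) :
    cosgnVec P (fundCoweight b j) = sgnVec P (fundWeight b j) := by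
  rw [fundCoweight_eq P E κ hκ hE b j, cosgnVec_smul_of_pos P E κ hκ hE _ (hκ j),
    sgnVec_eq_cosgnVec P E κ hκ hE]

theorem dualCorners_eq_aux (F : Facet P) :
    F.dualCorners = {y : N | ∃ m ∈ F.corners, Corr P m y} := by
  ext y
  constructor
  · rintro ⟨hy1, hy2⟩
    rw [fundCoweights_eq] at hy1
    obtain ⟨b, i, rfl⟩ := hy1
    refine ⟨fundWeight b i, ⟨⟨b, i, rfl⟩, ?_⟩, b, i, rfl, rfl⟩
    intro k
    rw [← cosgnVec_fundCoweight P E κ hκ hE b i]
    exact hy2 k
  · rintro ⟨m, ⟨_, hm2⟩, b, i, rfl, rfl⟩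
    refine ⟨?_, ?_⟩
    · rw [fundCoweights_eq]; exact ⟨b, i, rfl⟩
    · intro k
      rw [cosgnVec_fundCoweight P E κ hκ hE b i]
      exact hm2 k

end duality2

section duality3
variable {ι : Type u} {R : Type v} {M : Type w} {N : Type x}
  [Field R] [LinearOrder R] [IsStrictOrderedRing R]
  [AddCommGroup M] [Module R M] [AddCommGroup N] [Module R N]
  (P : RootPairing ι R M N) [P.IsRootSystem]



omit [P.IsRootSystem] in
theorem root'_reflectionPerm_self (i : ι) (y : N) :
    P.root' (P.reflectionPerm i i) y = - P.root' i y := by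
  show P.toLinearMap (P.root (P.reflectionPerm i i)) y = - P.toLinearMap (P.root i) y
  rw [P.root_reflectionPerm, P.reflection_apply_self, map_neg, LinearMap.neg_apply]

omit [P.IsRootSystem] in
theorem coroot'_reflectionPerm_self (i : ι) (ξ : M) :
    P.coroot' (P.reflectionPerm i i) ξ = - P.coroot' i ξ := by
  show P.toLinearMap ξ (P.coroot (P.reflectionPerm i i)) = - P.toLinearMap ξ (P.coroot i)
  rw [P.coroot_reflectionPerm, P.coreflection_apply_self, map_neg]

omit [P.IsRootSystem] in
theorem sgn_reflectionPerm_self (F : Facet P) (i : ι) :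
    F.sgn (P.reflectionPerm i i) = - F.sgn i := by
  obtain ⟨ξ, hξ⟩ := F.exists_sgnVec_eq
  rw [← hξ]
  show SignType.sign (P.coroot' (P.reflectionPerm i i) ξ) = - SignType.sign (P.coroot' i ξ)
  rw [coroot'_reflectionPerm_self, Left.sign_neg]

variable (E : M ≃ₗ[R] N) (κ : ι → R) (hκ : ∀ i, 0 < κ i)
  (hE : ∀ i m, P.coroot' i m = κ i * P.root' i (E m))

include hκ hE

theorem corners_eq_parab_aux (F : Facet P) :
    F.corners = {m : M | m ∈ fundWeights P ∧
      ∀ y : N, Corr P m y → ∀ i ∈ F.parab, 0 ≤ P.root' i y} := by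
  ext m
  constructor
  · rintro ⟨hm1, hm2⟩
    refine ⟨hm1, ?_⟩
    rintro y ⟨b, j, rfl, rfl⟩ i hi
    have hs := cosgnVec_fundCoweight P E κ hκ hE b j
    have hi' : F.sgn i ≠ -1 := hi
    have h2 := hm2 i
    rw [← hs] at h2
    by_contra hneg
    rw [not_le, ← sign_eq_neg_one_iff] at hneg
    have hneg' : cosgnVec P (fundCoweight b j) i = -1 := hneg
    rcases h2 with h0 | h1
    · rw [hneg'] at h0; exact absurd h0 (by decide)
    · rw [hneg'] at h1; exact hi' h1.symm
  · rintro ⟨⟨b, j, rfl⟩, h⟩
    refine ⟨⟨b, j, rfl⟩, ?_⟩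
    have hy := h (fundCoweight b j) ⟨b, j, rfl, rfl⟩
    have hs := cosgnVec_fundCoweight P E κ hκ hE b j
    intro i
    rw [← hs]
    show SignType.sign (P.root' i (fundCoweight b j)) = 0 ∨
      SignType.sign (P.root' i (fundCoweight b j)) = F.sgn i
    rcases lt_trichotomy (P.root' i (fundCoweight b j)) 0 with hlt | heq | hgt
    · right
      have hnot : i ∉ F.parab := fun hi => absurd (hy i hi) (not_le.2 hlt)
      have hF : F.sgn i = -1 := by
        by_contra hne; exact hnot hne
      rw [sign_neg hlt, hF]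
    · left
      rw [heq, sign_zero]
    · right
      have hlt' : P.root' (P.reflectionPerm i i) (fundCoweight b j) < 0 := by
        rw [root'_reflectionPerm_self]; exact neg_neg_of_pos hgt
      have hnot : P.reflectionPerm i i ∉ F.parab := fun hi => absurd (hy _ hi) (not_le.2 hlt')
      have hF : F.sgn (P.reflectionPerm i i) = -1 := by
        by_contra hne; exact hnot hne
      rw [sgn_reflectionPerm_self, neg_eq_iff_eq_neg, neg_neg] at hF
      rw [sign_pos hgt, hF]

end duality3


section final2
variable {ι : Type u} {R : Type v} {M : Type w} {N : Type x}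
  [Field R] [LinearOrder R] [IsStrictOrderedRing R]
  [AddCommGroup M] [Module R M] [AddCommGroup N] [Module R N] [Finite ι]
  (P : RootPairing ι R M N) [P.IsRootSystem]

theorem dualCorners_eq (F : Facet P) :
    F.dualCorners = {y : N | ∃ m ∈ F.corners, Corr P m y} := by
  obtain ⟨E, κ, hκ, hE⟩ := exists_polarization P
  exact dualCorners_eq_aux P E κ hκ hE F

theorem corners_eq_parab (F : Facet P) :
    F.corners = {m : M | m ∈ fundWeights P ∧
      ∀ y : N, Corr P m y → ∀ i ∈ F.parab, 0 ≤ P.root' i y} := by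
  obtain ⟨E, κ, hκ, hE⟩ := exists_polarization P
  exact corners_eq_parab_aux P E κ hκ hE F

end final2

end Groth.Agent.Lib.Helper21.RootChLib
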