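import Mathlib
import Groth.Prelude.Def_RootCh
import Groth.Agent.Lib.Helper21.RootChLib4

namespace Groth.Agent.Lib.Helper21.RootChLib

open RootCh Module

universe u v w x

section parab
variable {ι : Type u} {R : Type v} {M : Type w} {N : Type x}
  [Field R] [LinearOrder R] [IsStrictOrderedRing R]
  [AddCommGroup M] [Module R M] [AddCommGroup N] [Module R N]
  (P : RootPairing ι R M N) [P.IsRootSystem]

omit [LinearOrder R] [IsStrictOrderedRing R] [P.IsRootSystem] in
theorem root'_add {i j k : ι} (hk : P.root k = P.root i + P.root j) (y : N) :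
    P.root' k y = P.root' i y + P.root' j y := by
  show P.toLinearMap (P.root k) y = P.toLinearMap (P.root i) y + P.toLinearMap (P.root j) y
  rw [hk, map_add, LinearMap.add_apply]

/-- evaluation of a root on `y`, through the decomposition in simple roots -/
theorem exists_root'_decomp (b : P.Base) (i : ι) :
    ∃ (f : ι → ℕ), (P.root i = ∑ j ∈ b.support, f j • P.root j ∧
        ∀ y : N, P.root' i y = ∑ j ∈ b.support, (f j : R) * P.root' j y) ∨
      (P.root i = - ∑ j ∈ b.support, f j • P.root j ∧
        ∀ y : N, P.root' i y = - ∑ j ∈ b.support, (f j : R) * P.root' j y) := by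
  obtain ⟨f, -, h | h⟩ := b.exists_root_eq_sum_nat_or_neg i
  · refine ⟨f, Or.inl ⟨h, fun y => ?_⟩⟩
    show P.toLinearMap (P.root i) y = _
    rw [h, map_sum, LinearMap.sum_apply]
    apply Finset.sum_congr rfl
    intro j _
    rw [map_nsmul, LinearMap.smul_apply, nsmul_eq_mul]
  · refine ⟨f, Or.inr ⟨h, fun y => ?_⟩⟩
    show P.toLinearMap (P.root i) y = _
    rw [h, map_neg, LinearMap.neg_apply, map_sum, LinearMap.sum_apply]
    congr 1
    apply Finset.sum_congr rfl
    intro j _
    rw [map_nsmul, LinearMap.smul_apply, nsmul_eq_mul]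

/-- positivity for a base = positivity of the pairing with a vector in the open dual chamber -/
theorem isPos_iff_root'_pos (b : P.Base) (y : N) (hy : ∀ j ∈ b.support, 0 < P.root' j y)
    (i : ι) : b.IsPos i ↔ 0 < P.root' i y := by
  obtain ⟨f, ⟨h1, h2⟩ | ⟨h1, h2⟩⟩ := exists_root'_decomp P b i
  · have hsum : P.root i = ∑ j ∈ b.support, ((f j : ℕ) : ℤ) • P.root j := by
      rw [h1]; exact Finset.sum_congr rfl fun j _ => (natCast_zsmul _ _).symm
    have hh := RootPairing.Base.height_eq_sum hsum
    have hpos : b.IsPos i := by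
      rw [RootPairing.Base.isPos_iff', hh]
      exact Finset.sum_nonneg fun j _ => Int.natCast_nonneg _
    refine ⟨fun _ => ?_, fun _ => hpos⟩
    rw [h2 y]
    have hnn : ∀ j ∈ b.support, 0 ≤ (f j : R) * P.root' j y :=
      fun j hj => mul_nonneg (Nat.cast_nonneg _) (hy j hj).le
    rw [Finset.sum_pos_iff_of_nonneg hnn]
    by_contra hcon
    push Not at hcon
    have hf0 : ∀ j ∈ b.support, f j = 0 := by
      intro j hj
      have h3 := le_antisymm (hcon j hj) (hnn j hj)
      rcases mul_eq_zero.1 h3 with h4 | h4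
      · exact_mod_cast h4
      · exact absurd h4 (hy j hj).ne'
    have : P.root i = 0 := by
      rw [h1]
      apply Finset.sum_eq_zero
      intro j hj
      rw [hf0 j hj, zero_smul]
    exact P.ne_zero i this
  · have hsum : P.root i = ∑ j ∈ b.support, (-((f j : ℕ) : ℤ)) • P.root j := by
      rw [h1, ← Finset.sum_neg_distrib]
      exact Finset.sum_congr rfl fun j _ => by rw [neg_smul, natCast_zsmul]
    have hh := RootPairing.Base.height_eq_sum hsum
    have hnpos : ¬ b.IsPos i := by
      rw [RootPairing.Base.isPos_iff, hh, not_lt]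
      exact Finset.sum_nonpos fun j _ => neg_nonpos.2 (Int.natCast_nonneg _)
    refine ⟨fun h => absurd h hnpos, fun h => ?_⟩
    exfalso
    rw [h2 y] at h
    have : 0 ≤ ∑ j ∈ b.support, (f j : R) * P.root' j y :=
      Finset.sum_nonneg fun j hj => mul_nonneg (Nat.cast_nonneg _) (hy j hj).le
    linarith

end parab

section parab2
variable {ι : Type u} {R : Type v} {M : Type w} {N : Type x}
  [Field R] [LinearOrder R] [IsStrictOrderedRing R]
  [AddCommGroup M] [Module R M] [AddCommGroup N] [Module R N] [Finite ι]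
  (P : RootPairing ι R M N) [P.IsRootSystem] [P.IsCrystallographic] [P.IsReduced]



/-- base adapted to a vector of `N` regular with respect to the roots -/
theorem exists_base_of_coregular (y : N) (hy : ∀ i, P.root' i y ≠ 0) :
    ∃ b : P.Base, ∀ j ∈ b.support, 0 < P.root' j y := by
  obtain ⟨b', hb'⟩ := exists_base_of_regular P.flip y hy
  exact ⟨b'.flip, hb'⟩

omit [Finite ι] [P.IsRootSystem] [P.IsCrystallographic] [P.IsReduced] in
theorem root'_coreflection (i j : ι) (y : N) :
    P.root' i (P.coreflection j y) = P.root' (P.reflectionPerm j i) y :=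
  P.flip.coroot'_reflection y

theorem exists_coregular : ∃ y : N, ∀ i, P.root' i y ≠ 0 := exists_regular P.flip

/-- improving step: if a simple root of the base of `y` is not in `S`, reflect -/
theorem exists_better (S : Set ι) (hS2 : ∀ i : ι, i ∈ S ∨ P.reflectionPerm i i ∈ S)
    (y : N) (hy : ∀ i, P.root' i y ≠ 0) (b : P.Base) (hb : ∀ j ∈ b.support, 0 < P.root' j y)
    (j : ι) (hj : j ∈ b.support) (hjS : j ∉ S) :
    ∃ y' : N, (∀ i, P.root' i y' ≠ 0) ∧
      (S ∩ {i | 0 < P.root' i y}).ncard < (S ∩ {i | 0 < P.root' i y'}).ncard := by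
  refine ⟨P.coreflection j y, fun i => ?_, ?_⟩
  · rw [root'_coreflection]; exact hy _
  · have hneg : P.reflectionPerm j j ∈ S := (hS2 j).resolve_left hjS
    have hsub : insert (P.reflectionPerm j j) (S ∩ {i | 0 < P.root' i y}) ⊆
        S ∩ {i | 0 < P.root' i (P.coreflection j y)} := by
      intro i hi
      rcases Set.mem_insert_iff.1 hi with rfl | ⟨hiS, hipos⟩
      · refine ⟨hneg, ?_⟩
        show 0 < P.root' (P.reflectionPerm j j) (P.coreflection j y)
        rw [root'_coreflection, P.reflectionPerm_self]
        exact hb j hj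
      · refine ⟨hiS, ?_⟩
        show 0 < P.root' i (P.coreflection j y)
        rw [root'_coreflection]
        have hij : i ≠ j := fun h => hjS (h ▸ hiS)
        have hipos' : b.IsPos i := (isPos_iff_root'_pos P b y hb i).2 hipos
        exact (isPos_iff_root'_pos P b y hb _).1 (hipos'.reflectionPerm hj hij)
    have hnot : P.reflectionPerm j j ∉ S ∩ {i | 0 < P.root' i y} := by
      rintro ⟨-, h⟩
      have h' : 0 < P.root' (P.reflectionPerm j j) y := h
      rw [root'_reflectionPerm_self] at h'
      have := hb j hj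
      linarith
    calc (S ∩ {i | 0 < P.root' i y}).ncard
        < (S ∩ {i | 0 < P.root' i y}).ncard + 1 := Nat.lt_succ_self _
      _ = (insert (P.reflectionPerm j j) (S ∩ {i | 0 < P.root' i y})).ncard :=
          (Set.ncard_insert_of_notMem hnot (Set.toFinite _)).symm
      _ ≤ _ := Set.ncard_le_ncard hsub (Set.toFinite _)

/-- a parabolic-covering set contains all simple roots of some base adapted to a regular vector -/
theorem exists_base_support_subset (S : Set ι) (hS2 : ∀ i : ι, i ∈ S ∨ P.reflectionPerm i i ∈ S) :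
    ∃ b : P.Base, ∀ j ∈ b.support, j ∈ S := by
  suffices H : ∀ (n : ℕ) (y : N), (∀ i, P.root' i y ≠ 0) →
      Nat.card ι - (S ∩ {i | 0 < P.root' i y}).ncard = n →
      ∃ b : P.Base, ∀ j ∈ b.support, j ∈ S by
    obtain ⟨y, hy⟩ := exists_coregular P
    exact H _ y hy rfl
  intro n
  induction n using Nat.strong_induction_on with
  | _ n ih =>
    intro y hy hn
    obtain ⟨b, hb⟩ := exists_base_of_coregular P y hy
    by_cases hall : ∀ j ∈ b.support, j ∈ S
    · exact ⟨b, hall⟩
    · push Not at hall
      obtain ⟨j, hj, hjS⟩ := hall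
      obtain ⟨y', hy', hlt⟩ := exists_better P S hS2 y hy b hb j hj hjS
      have hle : (S ∩ {i | 0 < P.root' i y'}).ncard ≤ Nat.card ι := Set.ncard_le_card _
      refine ih (Nat.card ι - (S ∩ {i | 0 < P.root' i y'}).ncard) ?_ y' hy' rfl
      rw [← hn]
      omega

end parab2

section parab3
variable {ι : Type u} {R : Type v} {M : Type w} {N : Type x}
  [Field R] [LinearOrder R] [IsStrictOrderedRing R]
  [AddCommGroup M] [Module R M] [AddCommGroup N] [Module R N] [Finite ι]
  (P : RootPairing ι R M N) [P.IsRootSystem] [P.IsCrystallographic]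

omit [Finite ι] [P.IsRootSystem] [P.IsCrystallographic] [LinearOrder R] [IsStrictOrderedRing R] in
theorem root_neg_idx (i : ι) : P.root (P.reflectionPerm i i) = - P.root i := by
  rw [P.root_reflectionPerm, P.reflection_apply_self]

variable (S : Set ι)
  (hS1 : ∀ i j k : ι, i ∈ S → j ∈ S → P.root k = P.root i + P.root j → k ∈ S)
  (b : P.Base) (hb : ∀ j ∈ b.support, j ∈ S)

include hS1 hb in
theorem isPos_mem (i : ι) (hi : b.IsPos i) : i ∈ S :=
  hi.induction_on_add (p := (· ∈ S)) hb (fun i j k hk hi hj => hS1 i j k hi (hb j hj) hk)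

open Classical in
omit [P.IsCrystallographic] [Finite ι] in
theorem coef_simple (j' : ι) (hj' : j' ∈ b.support) (j : b.support) :
    P.root' j' (fundCoweight b j) = if (⟨j', hj'⟩ : b.support) = j then 1 else 0 := by
  split_ifs with h
  · subst h; exact root'_fundCoweight_self b ⟨j', hj'⟩
  · exact root'_fundCoweight_of_ne b j ⟨j', hj'⟩ h

theorem coef_nonneg (i : ι) (hi : b.IsPos i) (j : b.support) :
    0 ≤ P.root' i (fundCoweight b j) := by
  refine hi.induction_on_add (p := fun i => 0 ≤ P.root' i (fundCoweight b j)) ?_ ?_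
  · intro i hi
    rw [coef_simple P b i hi j]
    split_ifs
    · exact zero_le_one
    · exact le_rfl
  · intro i j' k hk hi hj'
    rw [root'_add P hk]
    refine add_nonneg hi ?_
    rw [coef_simple P b j' hj' j]
    split_ifs
    · exact zero_le_one
    · exact le_rfl

include hS1 hb in
theorem neg_simple_mem_of_neg_mem (i : ι) (hi : b.IsPos i) (hiS : P.reflectionPerm i i ∈ S)
    (j : b.support) (hj : P.root' i (fundCoweight b j) ≠ 0) :
    P.reflectionPerm j j ∈ S := by
  have key : b.IsPos i ∧ (P.reflectionPerm i i ∈ S → ∀ j : b.support,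
      P.root' i (fundCoweight b j) ≠ 0 → P.reflectionPerm j j ∈ S) := by
    refine hi.induction_on_add (p := fun i => b.IsPos i ∧ (P.reflectionPerm i i ∈ S →
      ∀ j : b.support, P.root' i (fundCoweight b j) ≠ 0 → P.reflectionPerm j j ∈ S)) ?_ ?_
    · intro i hi
      refine ⟨RootPairing.Base.isPos_of_mem_support hi, fun hiS j hj => ?_⟩
      rw [coef_simple P b i hi j] at hj
      split_ifs at hj with h
      · rw [← h]; exact hiS
      · exact absurd rfl hj
    · intro i j' k hk ⟨hipos, hi⟩ hj'
      have hkpos : b.IsPos k := hipos.add (RootPairing.Base.isPos_of_mem_support hj') hk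
      refine ⟨hkpos, fun hkS j hj => ?_⟩
      have hiS : P.reflectionPerm i i ∈ S := by
        apply hS1 (P.reflectionPerm k k) j' _ hkS (hb j' hj')
        rw [root_neg_idx, root_neg_idx, hk]; abel
      have hj'S : P.reflectionPerm j' j' ∈ S := by
        apply hS1 (P.reflectionPerm k k) i _ hkS (isPos_mem P S hS1 b hb i hipos)
        rw [root_neg_idx, root_neg_idx, hk]; abel
      rw [root'_add P hk] at hj
      by_cases h0 : P.root' i (fundCoweight b j) = 0
      · rw [h0, zero_add, coef_simple P b j' hj' j] at hj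
        split_ifs at hj with h
        · rw [← h]; exact hj'S
        · exact absurd rfl hj
      · exact hi hiS j h0
  exact key.2 hiS j hj

include hS1 in
theorem neg_mem_of_neg_simple_mem (i : ι) (hi : b.IsPos i)
    (H : ∀ j : b.support, P.root' i (fundCoweight b j) ≠ 0 → P.reflectionPerm j j ∈ S) :
    P.reflectionPerm i i ∈ S := by
  have key : b.IsPos i ∧ ((∀ j : b.support, P.root' i (fundCoweight b j) ≠ 0 →
      P.reflectionPerm j j ∈ S) → P.reflectionPerm i i ∈ S) := by
    refine hi.induction_on_add (p := fun i => b.IsPos i ∧ ((∀ j : b.support,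
      P.root' i (fundCoweight b j) ≠ 0 → P.reflectionPerm j j ∈ S) →
      P.reflectionPerm i i ∈ S)) ?_ ?_
    · intro i hi
      refine ⟨RootPairing.Base.isPos_of_mem_support hi, fun H => ?_⟩
      have := H ⟨i, hi⟩ (by rw [coef_simple P b i hi ⟨i, hi⟩, if_pos rfl]; exact one_ne_zero)
      exact this
    · intro i j' k hk ⟨hipos, hi⟩ hj'
      have hkpos : b.IsPos k := hipos.add (RootPairing.Base.isPos_of_mem_support hj') hk
      refine ⟨hkpos, fun H => ?_⟩
      have hiS : P.reflectionPerm i i ∈ S := by
        apply hi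
        intro j hj
        apply H j
        rw [root'_add P hk]
        have h1 := coef_nonneg P b i hipos j
        have h2 := coef_nonneg P b j' (RootPairing.Base.isPos_of_mem_support hj') j
        have h3 : 0 < P.root' i (fundCoweight b j) := lt_of_le_of_ne h1 (Ne.symm hj)
        exact (add_pos_of_pos_of_nonneg h3 h2).ne'
      have hj'S : P.reflectionPerm j' j' ∈ S := by
        have := H ⟨j', hj'⟩ (by
          rw [root'_add P hk, coef_simple P b j' hj' ⟨j', hj'⟩, if_pos rfl]
          have h1 := coef_nonneg P b i hipos ⟨j', hj'⟩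
          exact (add_pos_of_nonneg_of_pos h1 one_pos).ne')
        exact this
      apply hS1 (P.reflectionPerm i i) (P.reflectionPerm j' j') _ hiS hj'S
      rw [root_neg_idx, root_neg_idx, root_neg_idx, hk]; abel
  exact key.2 H

end parab3

section parab4
variable {ι : Type u} {R : Type v} {M : Type w} {N : Type x}
  [Field R] [LinearOrder R] [IsStrictOrderedRing R]
  [AddCommGroup M] [Module R M] [AddCommGroup N] [Module R N] [Finite ι]
  (P : RootPairing ι R M N) [P.IsRootSystem] [P.IsCrystallographic] [P.IsReduced]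

omit [Finite ι] [P.IsRootSystem] [P.IsCrystallographic] [P.IsReduced] [LinearOrder R]
  [IsStrictOrderedRing R] in
theorem reflectionPerm_neg_idx (i : ι) :
    P.reflectionPerm (P.reflectionPerm i i) (P.reflectionPerm i i) = i := by
  apply P.root.injective
  rw [root_neg_idx, root_neg_idx, neg_neg]

theorem exists_facet_parab_eq (S : Set ι) (hS : IsParabolicSubset P S) :
    ∃ F : Facet P, F.parab = S := by
  classical
  obtain ⟨hS1, hS2⟩ := hS
  obtain ⟨b, hb⟩ := exists_base_support_subset P S hS2
  obtain ⟨E, κ, hκ, hE⟩ := exists_polarization P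
  set T : Finset b.support :=
    Finset.univ.filter (fun j : b.support => P.reflectionPerm j j ∉ S) with hT
  set x : N := ∑ j ∈ T, fundCoweight b j with hx
  refine ⟨Facet.ofVec P (E.symm x), ?_⟩
  have hsgn : sgnVec P (E.symm x) = cosgnVec P x := by
    rw [sgnVec_eq_cosgnVec P E κ hκ hE, LinearEquiv.apply_symm_apply]
  have hval : ∀ i, P.root' i x = ∑ j ∈ T, P.root' i (fundCoweight b j) := by
    intro i; rw [hx, map_sum]
  ext i
  have hmem : i ∈ (Facet.ofVec P (E.symm x)).parab ↔ 0 ≤ P.root' i x := by
    show sgnVec P (E.symm x) i ≠ -1 ↔ _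
    rw [hsgn]
    show SignType.sign (P.root' i x) ≠ -1 ↔ _
    rw [Ne, sign_eq_neg_one_iff, not_lt]
  rw [hmem]
  by_cases hipos : b.IsPos i
  · refine ⟨fun _ => isPos_mem P S hS1 b hb i hipos, fun _ => ?_⟩
    rw [hval]
    exact Finset.sum_nonneg fun j _ => coef_nonneg P b i hipos j
  · have hi'pos : b.IsPos (P.reflectionPerm i i) := by
      have := RootPairing.Base.IsPos.or_neg b i
      exact this.resolve_left hipos
    have hneg : P.root' (P.reflectionPerm i i) x = - P.root' i x :=
      root'_reflectionPerm_self P i x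
    have hnn : ∀ j ∈ T, 0 ≤ P.root' (P.reflectionPerm i i) (fundCoweight b j) :=
      fun j _ => coef_nonneg P b _ hi'pos j
    constructor
    · intro h0
      have hzero : P.root' (P.reflectionPerm i i) x = 0 := by
        apply le_antisymm
        · rw [hneg]; exact neg_nonpos.2 h0
        · rw [hval]; exact Finset.sum_nonneg hnn
      rw [hval, Finset.sum_eq_zero_iff_of_nonneg hnn] at hzero
      have H : ∀ j : b.support, P.root' (P.reflectionPerm i i) (fundCoweight b j) ≠ 0 →
          P.reflectionPerm j j ∈ S := by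
        intro j hj
        by_contra hjS
        exact hj (hzero j (by rw [hT, Finset.mem_filter]; exact ⟨Finset.mem_univ _, hjS⟩))
      have := neg_mem_of_neg_simple_mem P S hS1 b _ hi'pos H
      rwa [reflectionPerm_neg_idx] at this
    · intro hiS
      have hiS' : P.reflectionPerm (P.reflectionPerm i i) (P.reflectionPerm i i) ∈ S := by
        rw [reflectionPerm_neg_idx]; exact hiS
      have hzero : P.root' (P.reflectionPerm i i) x = 0 := by
        rw [hval]
        apply Finset.sum_eq_zero
        intro j hj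
        rw [hT, Finset.mem_filter] at hj
        by_contra hne
        exact hj.2 (neg_simple_mem_of_neg_mem P S hS1 b hb _ hi'pos hiS' j hne)
      rw [hneg, neg_eq_zero] at hzero
      rw [hzero]

theorem facet_eq_of_corners_eq (F G : Facet P) (h : G.corners = F.corners) : G = F := by
  have hc : G.carrier = F.carrier := by
    rw [carrier_eq_pos_comb P G, carrier_eq_pos_comb P F, h]
  obtain ⟨ξ, hξ⟩ := G.exists_sgnVec_eq
  have h1 : ξ ∈ G.carrier := hξ
  rw [hc] at h1
  have h2 : sgnVec P ξ = F.sgn := h1
  exact Facet.ext (hξ.symm.trans h2)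

theorem parabolic_result (S : Set ι) (hS : IsParabolicSubset P S) :
    ∃ F : Facet P,
      (F.corners = {m : M | m ∈ fundWeights P ∧
          ∀ y : N, Corr P m y → ∀ i ∈ S, 0 ≤ P.root' i y} ∧ F.parab = S) ∧
      ∀ G : Facet P,
        G.corners = {m : M | m ∈ fundWeights P ∧
          ∀ y : N, Corr P m y → ∀ i ∈ S, 0 ≤ P.root' i y} → G = F := by
  obtain ⟨F, hF⟩ := exists_facet_parab_eq P S hS
  have hcor : F.corners = {m : M | m ∈ fundWeights P ∧
      ∀ y : N, Corr P m y → ∀ i ∈ S, 0 ≤ P.root' i y} := by
    rw [corners_eq_parab P F, hF]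
  refine ⟨F, ⟨hcor, hF⟩, fun G hG => ?_⟩
  exact facet_eq_of_corners_eq P F G (hG.trans hcor.symm)

end parab4

end Groth.Agent.Lib.Helper21.RootChLib
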