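import Mathlib
import Groth.Prelude.Def_RootCh
import Groth.Agent.Lib.Helper21.RootChLib5

namespace Groth.Agent.Lib.Helper21.RootChLib

open RootCh Module

universe u v w x

section parabOrder
variable {ι : Type u} {R : Type v} {M : Type w} {N : Type x}
  [Field R] [LinearOrder R] [IsStrictOrderedRing R]
  [AddCommGroup M] [Module R M] [AddCommGroup N] [Module R N] [Finite ι]
  (P : RootPairing ι R M N) [P.IsRootSystem] [P.IsCrystallographic] [P.IsReduced]

omit [Finite ι] [P.IsRootSystem] [P.IsCrystallographic] [P.IsReduced] in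
theorem facet_eq_of_parab_eq (F G : Facet P) (h : F.parab = G.parab) : F = G := by
  apply Facet.ext
  funext i
  have h1 : F.sgn i = -1 ↔ G.sgn i = -1 := by
    have : i ∈ F.parab ↔ i ∈ G.parab := by rw [h]
    exact not_iff_not.1 this
  have h2 : F.sgn (P.reflectionPerm i i) = -1 ↔ G.sgn (P.reflectionPerm i i) = -1 := by
    have : P.reflectionPerm i i ∈ F.parab ↔ P.reflectionPerm i i ∈ G.parab := by rw [h]
    exact not_iff_not.1 this
  rw [sgn_reflectionPerm_self, sgn_reflectionPerm_self] at h2
  revert h1 h2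
  cases F.sgn i <;> cases G.sgn i <;> decide

omit [P.IsCrystallographic] [P.IsReduced] in
theorem isParabolicSubset_parab (F : Facet P) : IsParabolicSubset P F.parab := by
  obtain ⟨E, κ, hκ, hE⟩ := exists_polarization P
  obtain ⟨ξ, hξ⟩ := F.exists_sgnVec_eq
  have hmem : ∀ i, i ∈ F.parab ↔ 0 ≤ P.root' i (E ξ) := by
    intro i
    show F.sgn i ≠ -1 ↔ _
    rw [← hξ, sgnVec_eq_cosgnVec P E κ hκ hE]
    show SignType.sign (P.root' i (E ξ)) ≠ -1 ↔ _
    rw [Ne, sign_eq_neg_one_iff, not_lt]
  constructor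
  · intro i j k hi hj hk
    rw [hmem] at hi hj ⊢
    rw [root'_add P hk]
    exact add_nonneg hi hj
  · intro i
    rw [hmem, hmem, root'_reflectionPerm_self]
    rcases le_total 0 (P.root' i (E ξ)) with h | h
    · exact Or.inl h
    · exact Or.inr (neg_nonneg.2 h)

omit [Finite ι] [P.IsRootSystem] [P.IsCrystallographic] [P.IsReduced] in
theorem le_iff_parab_subset (F G : Facet P) : F ≤ G ↔ F.parab ⊆ G.parab := by
  rw [Facet.le_def]
  constructor
  · intro h i hi
    have hi' : F.sgn i ≠ -1 := hi
    show G.sgn i ≠ -1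
    rcases h i with h0 | h1
    · rw [h0]; decide
    · rw [h1]; exact hi'
  · intro h i
    have h1 : G.sgn i = -1 → F.sgn i = -1 := by
      intro hG
      by_contra hF
      exact (h hF) hG
    have h2 : G.sgn (P.reflectionPerm i i) = -1 → F.sgn (P.reflectionPerm i i) = -1 := by
      intro hG
      by_contra hF
      exact (h hF) hG
    rw [sgn_reflectionPerm_self, sgn_reflectionPerm_self] at h2
    revert h1 h2
    cases F.sgn i <;> cases G.sgn i <;> decide

theorem parab_bijection :
    (∀ S : Set ι, IsParabolicSubset P S ↔ ∃! F : Facet P, F.parab = S) ∧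
      ∀ F G : Facet P, F ≤ G ↔ F.parab ⊆ G.parab := by
  refine ⟨fun S => ⟨fun hS => ?_, ?_⟩, le_iff_parab_subset P⟩
  · obtain ⟨F, hF⟩ := exists_facet_parab_eq P S hS
    exact ⟨F, hF, fun G hG => facet_eq_of_parab_eq P G F (hG.trans hF.symm)⟩
  · rintro ⟨F, rfl, -⟩
    exact isParabolicSubset_parab P F

end parabOrder

end Groth.Agent.Lib.Helper21.RootChLib
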