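import Mathlib
import Groth.Prelude.Def_RootCh2
import Groth.Agent.Lib.Helper21.RootChLib6

namespace Groth.Agent.Lib.Helper21.RootChLib

open RootCh Module

universe u v w x

section psi
variable {ι : Type u} {R : Type v} {M : Type w} {N : Type x}
  [Field R] [LinearOrder R] [IsStrictOrderedRing R]
  [AddCommGroup M] [Module R M] [AddCommGroup N] [Module R N] [Finite ι]
  (P : RootPairing ι R M N) [P.IsRootSystem]

omit [P.IsRootSystem] in
/-- a set of roots stable under a reflection has sum orthogonal to the coroot -/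
theorem coroot'_sum_eq_zero_of_invariant (T : Set ι) (k : ι)
    (hT : ∀ i ∈ T, P.reflectionPerm k i ∈ T) :
    P.coroot' k (∑ i ∈ (Set.toFinite T).toFinset, P.root i) = 0 := by
  set A := ∑ i ∈ (Set.toFinite T).toFinset, P.root i with hA
  have h1 : P.reflection k A = A := by
    rw [hA, map_sum]
    apply Finset.sum_nbij' (fun i => P.reflectionPerm k i) (fun i => P.reflectionPerm k i)
    · intro i hi
      rw [Set.Finite.mem_toFinset] at hi ⊢
      exact hT i hi
    · intro i hi
      rw [Set.Finite.mem_toFinset] at hi ⊢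
      exact hT i hi
    · intro i _; exact P.reflectionPerm_self k i
    · intro i _; exact P.reflectionPerm_self k i
    · intro i _
      rw [P.root_reflectionPerm]
  rw [P.reflection_apply, sub_eq_self, smul_eq_zero] at h1
  exact h1.resolve_right (P.ne_zero k)

variable (E : M ≃ₗ[R] N) (κ : ι → R) (hκ : ∀ i, 0 < κ i)
  (hE : ∀ i m, P.coroot' i m = κ i * P.root' i (E m))

include hκ hE in
omit [Finite ι] in
/-- a root pairs to zero with the coweight corresponding to `w` when its coroot does with `w` -/
theorem root'_corr_eq_zero (k : ι) (w : M) (x : N) (hx : Corr P w x) (hk : P.coroot' k w = 0) :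
    P.root' k x = 0 := by
  obtain ⟨b', i', rfl, rfl⟩ := hx
  rw [fundCoweight_eq P E κ hκ hE b' i', map_smul, smul_eq_mul]
  have : P.root' k (E (fundWeight b' i')) = 0 := by
    have h := hE k (fundWeight b' i')
    rw [hk] at h
    exact (mul_eq_zero.1 h.symm).resolve_left (hκ k).ne'
  rw [this, mul_zero]

omit [P.IsRootSystem] [Finite ι] in
theorem root'_reflectionPerm_of_root'_eq_zero (k i : ι) (x : N) (hk : P.root' k x = 0) :
    P.root' (P.reflectionPerm k i) x = P.root' i x := by
  rw [← root'_coreflection, P.coreflection_apply, hk, zero_smul, sub_zero]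

include hκ hE in
theorem psi_invariant (F : Facet P) (m : M) (hm : m ∈ F.corners) (k : ι)
    (hk : ∀ w ∈ F.corners, P.coroot' k w = 0) (i : ι) (hi : i ∈ F.Psi m) :
    P.reflectionPerm k i ∈ F.Psi m := by
  obtain ⟨h1, h2⟩ := hi
  refine ⟨fun x hx => ?_, fun w' hw' hne x hx => ?_⟩
  · rw [root'_reflectionPerm_of_root'_eq_zero P k i x
      (root'_corr_eq_zero P E κ hκ hE k m x hx (hk m hm))]
    exact h1 x hx
  · rw [root'_reflectionPerm_of_root'_eq_zero P k i x
      (root'_corr_eq_zero P E κ hκ hE k w' x hx (hk w' hw'))]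
    exact h2 w' hw' hne x hx

end psi

section psi2
variable {ι : Type u} {R : Type v} {M : Type w} {N : Type x}
  [Field R] [LinearOrder R] [IsStrictOrderedRing R]
  [AddCommGroup M] [Module R M] [AddCommGroup N] [Module R N] [Finite ι]
  (P : RootPairing ι R M N) [P.IsRootSystem] [P.IsCrystallographic] [P.IsReduced]

theorem sum_root_psi_mem_span (F : Facet P) (m : M) (hm : m ∈ F.corners) :
    (∑ i ∈ (Set.toFinite (F.Psi m)).toFinset, P.root i) ∈ Submodule.span R F.corners := by
  obtain ⟨E, κ, hκ, hE⟩ := exists_polarization P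
  obtain ⟨ξ, b, hξF, hξ⟩ := exists_adapted P F
  have hcor := corners_eq P F ξ hξF b hξ
  rw [eq_sum_fundWeight P b (∑ i ∈ (Set.toFinite (F.Psi m)).toFinset, P.root i)]
  apply Submodule.sum_mem
  intro j _
  rcases (hξ j j.2).lt_or_eq with h1 | h1
  · apply Submodule.smul_mem
    apply Submodule.subset_span
    rw [hcor]
    exact ⟨j, h1, rfl⟩
  · have hk : ∀ w ∈ F.corners, P.coroot' j w = 0 := by
      intro w hw
      rw [hcor] at hw
      obtain ⟨j', hj', rfl⟩ := hw
      apply coroot'_fundWeight_of_ne
      rintro rfl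
      rw [← h1] at hj'
      exact lt_irrefl _ hj'
    rw [coroot'_sum_eq_zero_of_invariant P (F.Psi m) j
      (fun i hi => psi_invariant P E κ hκ hE F m hm j hk i hi), zero_smul]
    exact Submodule.zero_mem _

end psi2

section ccs
variable {ι : Type u} {R : Type v} {M : Type w} {N : Type x}
  [Field R] [LinearOrder R] [IsStrictOrderedRing R]
  [AddCommGroup M] [Module R M] [AddCommGroup N] [Module R N] [Finite ι]
  (P : RootPairing ι R M N) [P.IsRootSystem] [P.IsCrystallographic] [P.IsReduced]

omit [Finite ι] [P.IsCrystallographic] [P.IsReduced] in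
theorem corners_subset_baseCorners (F : Facet P) (b : P.Base) (hb : b ∈ F.cham) :
    F.corners ⊆ baseCorners b := by
  obtain ⟨ξ, hξF⟩ := F.exists_sgnVec_eq
  have hξ : ξ ∈ closedChamber b := hb hξF
  intro w hw
  exact ⟨hw.1, closure_subset_closedChamber P b F ξ hξF hξ hw.2⟩

omit [Finite ι] [P.IsCrystallographic] [P.IsReduced] in
theorem pairing_eq_of_mem_span_corners (d : P.Base → N) (hd : IsCCS d) (F : Facet P)
    (b b' : P.Base) (hb : b ∈ F.cham) (hb' : b' ∈ F.cham) (a : M)
    (ha : a ∈ Submodule.span R F.corners) :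
    P.toLinearMap a (d b) = P.toLinearMap a (d b') := by
  induction ha using Submodule.span_induction with
  | mem w hw =>
    exact hd.corner_eq b b' w (corners_subset_baseCorners P F b hb hw)
      (corners_subset_baseCorners P F b' hb' hw)
  | zero => simp
  | add x y _ _ hx hy => rw [map_add, LinearMap.add_apply, LinearMap.add_apply, hx, hy]
  | smul r x _ hx => rw [map_smul, LinearMap.smul_apply, LinearMap.smul_apply, hx]

omit [P.IsRootSystem] [P.IsCrystallographic] [P.IsReduced] in
theorem sum_root'_eq (T : Finset ι) (y : N) :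
    ∑ i ∈ T, P.root' i y = P.toLinearMap (∑ i ∈ T, P.root i) y := by
  rw [map_sum, LinearMap.sum_apply]

theorem numInv_eq_numInv (d : P.Base → N) (hd : IsCCS d) (F : Facet P) (m : M)
    (hm : m ∈ F.corners) (b b' : P.Base) (hb : b ∈ F.cham) (hb' : b' ∈ F.cham) :
    F.numInv d m b = F.numInv d m b' := by
  unfold Facet.numInv
  rw [sum_root'_eq, sum_root'_eq]
  exact pairing_eq_of_mem_span_corners P d hd F b b' hb hb' _ (sum_root_psi_mem_span P F m hm)

end ccs

end Groth.Agent.Lib.Helper21.RootChLib
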