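import Mathlib
import Groth.Prelude.Def_RootCh2
import Groth.Agent.Lib.Helper21.RootChLib7

namespace Groth.Agent.Lib.Helper21.RootChLib

open RootCh Module

universe u v w x

section rho
variable {ι : Type u} {R : Type v} {M : Type w} {N : Type x}
  [Field R] [LinearOrder R] [IsStrictOrderedRing R]
  [AddCommGroup M] [Module R M] [AddCommGroup N] [Module R N] [Finite ι]
  (P : RootPairing ι R M N) [P.IsRootSystem] [P.IsCrystallographic] [P.IsReduced]

omit [Finite ι] [P.IsCrystallographic] [P.IsReduced] in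
/-- a positive root is a natural combination of simple roots -/
theorem exists_decomp_of_isPos (b : P.Base) (i : ι) (hi : b.IsPos i) :
    ∃ f : ι → ℕ, P.root i = ∑ j ∈ b.support, f j • P.root j := by
  obtain ⟨f, -, h | h⟩ := b.exists_root_eq_sum_nat_or_neg i
  · exact ⟨f, h⟩
  · exfalso
    have hsum : P.root i = ∑ j ∈ b.support, (-((f j : ℕ) : ℤ)) • P.root j := by
      rw [h, ← Finset.sum_neg_distrib]
      exact Finset.sum_congr rfl fun j _ => by rw [neg_smul, natCast_zsmul]
    have hh := RootPairing.Base.height_eq_sum hsum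
    rw [RootPairing.Base.isPos_iff, hh] at hi
    have : ∑ j ∈ b.support, (-((f j : ℕ) : ℤ)) ≤ 0 :=
      Finset.sum_nonpos fun j _ => neg_nonpos.2 (Int.natCast_nonneg _)
    omega

omit [P.IsReduced] in
/-- distinct simple roots pair non-positively -/
theorem coroot'_root_nonpos (b : P.Base) (k j : ι) (hk : k ∈ b.support) (hj : j ∈ b.support)
    (hkj : k ≠ j) : P.coroot' j (P.root k) ≤ 0 := by
  have h1 := b.pairingIn_le_zero_of_ne hkj hk hj
  have h2 : P.coroot' j (P.root k) = algebraMap ℤ R (P.pairingIn ℤ k j) := by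
    rw [P.algebraMap_pairingIn]; rfl
  rw [h2]
  have : ((P.pairingIn ℤ k j : ℤ) : R) ≤ 0 := by exact_mod_cast h1
  simpa using this

omit [Finite ι] [P.IsCrystallographic] [P.IsReduced] [P.IsRootSystem] in
theorem root'_of_decomp (b : P.Base) (i : ι) (f : ι → ℕ)
    (h : P.root i = ∑ j ∈ b.support, f j • P.root j) (y : N) :
    P.root' i y = ∑ j ∈ b.support, (f j : R) * P.root' j y := by
  show P.toLinearMap (P.root i) y = _
  rw [h, map_sum, LinearMap.sum_apply]
  apply Finset.sum_congr rfl
  intro j _
  rw [map_nsmul, LinearMap.smul_apply, nsmul_eq_mul]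

omit [Finite ι] [P.IsCrystallographic] [P.IsReduced] [P.IsRootSystem] in
theorem coroot'_of_decomp (b : P.Base) (i : ι) (f : ι → ℕ)
    (h : P.root i = ∑ j ∈ b.support, f j • P.root j) (k : ι) :
    P.coroot' k (P.root i) = ∑ j ∈ b.support, (f j : R) * P.coroot' k (P.root j) := by
  rw [h, map_sum]
  apply Finset.sum_congr rfl
  intro j _
  rw [map_nsmul, nsmul_eq_mul]

variable (E : M ≃ₗ[R] N) (κ : ι → R) (hκ : ∀ i, 0 < κ i)
  (hE : ∀ i m, P.coroot' i m = κ i * P.root' i (E m))

include hκ hE in
omit [Finite ι] [P.IsCrystallographic] [P.IsReduced] in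
theorem root'_E_nonneg (b : P.Base) (ξ : M) (hξ : ξ ∈ closedChamber b) (k : ι)
    (hk : k ∈ b.support) : 0 ≤ P.root' k (E ξ) := by
  have h := hE k ξ
  have h0 := hξ k hk
  rw [h] at h0
  exact nonneg_of_mul_nonneg_right h0 (hκ k)

include hκ hE in
omit [Finite ι] [P.IsCrystallographic] [P.IsReduced] in
/-- a positive coroot is nonnegative on the closed chamber -/
theorem coroot'_nonneg_of_isPos (b : P.Base) (ξ : M) (hξ : ξ ∈ closedChamber b) (i : ι)
    (hi : b.IsPos i) : 0 ≤ P.coroot' i ξ := by
  obtain ⟨f, hf⟩ := exists_decomp_of_isPos P b i hi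
  rw [hE, root'_of_decomp P b i f hf]
  apply mul_nonneg (hκ i).le
  exact Finset.sum_nonneg fun j hj =>
    mul_nonneg (Nat.cast_nonneg _) (root'_E_nonneg P E κ hκ hE b ξ hξ j hj)

include hκ hE in
omit [Finite ι] [P.IsCrystallographic] [P.IsReduced] in
/-- a positive root vanishing on `ξ` has no component along simple roots positive on `ξ` -/
theorem decomp_eq_zero_of_coroot'_eq_zero (b : P.Base) (ξ : M) (hξ : ξ ∈ closedChamber b) (i : ι)
    (f : ι → ℕ) (hf : P.root i = ∑ j ∈ b.support, f j • P.root j)
    (h0 : P.coroot' i ξ = 0) (j : ι) (hj : j ∈ b.support) (hjpos : 0 < P.coroot' j ξ) :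
    f j = 0 := by
  rw [hE, root'_of_decomp P b i f hf] at h0
  have h1 : ∑ k ∈ b.support, (f k : R) * P.root' k (E ξ) = 0 :=
    (mul_eq_zero.1 h0).resolve_left (hκ i).ne'
  rw [Finset.sum_eq_zero_iff_of_nonneg (fun k hk =>
    mul_nonneg (Nat.cast_nonneg _) (root'_E_nonneg P E κ hκ hE b ξ hξ k hk))] at h1
  have h2 := h1 j hj
  have h3 : 0 < P.root' j (E ξ) := by
    have := hE j ξ
    rw [this] at hjpos
    exact (pos_iff_pos_of_mul_pos hjpos).1 (hκ j)
  rcases mul_eq_zero.1 h2 with h4 | h4
  · exact_mod_cast h4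
  · exact absurd h4 h3.ne'


include hκ hE in
theorem sum_root_parab_mem_carrier_aux (F : Facet P) (ξ : M) (hξF : sgnVec P ξ = F.sgn)
    (b : P.Base) (hξ : ξ ∈ closedChamber b) :
    (∑ i ∈ (Set.toFinite F.parab).toFinset, P.root i) ∈ F.carrier := by
  classical
  rw [carrier_eq P F ξ hξF b hξ]
  intro j hj
  have hsgn : ∀ i, F.sgn i = SignType.sign (P.coroot' i ξ) := fun i => by rw [← hξF]; rfl
  have hparab : ∀ i, i ∈ F.parab ↔ 0 ≤ P.coroot' i ξ := by
    intro i
    show F.sgn i ≠ -1 ↔ _
    rw [hsgn, Ne, sign_eq_neg_one_iff, not_lt]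
  constructor
  · intro hjpos
    set g : ι → R := fun i => P.coroot' j (P.root i) with hg
    have hval : P.coroot' j (∑ i ∈ (Set.toFinite F.parab).toFinset, P.root i) =
        ∑ i ∈ (Set.toFinite F.parab).toFinset, g i := by rw [map_sum]
    rw [hval, ← Finset.sum_filter_add_sum_filter_not _ (fun i => b.IsPos i)]
    -- the positive part
    have hpospart : ∑ i ∈ (Set.toFinite F.parab).toFinset with b.IsPos i, g i = 2 := by
      set T₀ : Set ι := {i | b.IsPos i ∧ i ≠ j} with hT₀
      have hset : ((Set.toFinite F.parab).toFinset.filter fun i => b.IsPos i) =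
          insert j (Set.toFinite T₀).toFinset := by
        ext i
        rw [Finset.mem_filter, Set.Finite.mem_toFinset, Finset.mem_insert, Set.Finite.mem_toFinset]
        constructor
        · rintro ⟨-, hi⟩
          by_cases hij : i = j
          · exact Or.inl hij
          · exact Or.inr ⟨hi, hij⟩
        · rintro (rfl | ⟨hi, -⟩)
          · exact ⟨(hparab i).2 (hξ i hj), RootPairing.Base.isPos_of_mem_support hj⟩
          · exact ⟨(hparab i).2 (coroot'_nonneg_of_isPos P E κ hκ hE b ξ hξ i hi), hi⟩
      have hjT : j ∉ (Set.toFinite T₀).toFinset := by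
        rw [Set.Finite.mem_toFinset]; exact fun h => h.2 rfl
      rw [hset, Finset.sum_insert hjT]
      have h0 : ∑ i ∈ (Set.toFinite T₀).toFinset, g i = 0 := by
        have := coroot'_sum_eq_zero_of_invariant P T₀ j (by
          rintro i ⟨hi, hij⟩
          refine ⟨hi.reflectionPerm hj hij, fun h => ?_⟩
          have h1 : i = P.reflectionPerm j j := by
            have h' := congrArg (P.reflectionPerm j) h
            rw [P.reflectionPerm_self] at h'
            exact h'
          have h2 : b.IsPos (P.reflectionPerm j j) := h1 ▸ hi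
          have h3 := (RootPairing.Base.IsPos.neg_iff_not b j).1 h2
          exact h3 (RootPairing.Base.isPos_of_mem_support hj))
        rw [map_sum] at this
        exact this
      rw [h0, add_zero]
      show P.coroot' j (P.root j) = 2
      simp
    rw [hpospart]
    have hnegpart : 0 ≤ ∑ i ∈ (Set.toFinite F.parab).toFinset with ¬ b.IsPos i, g i := by
      apply Finset.sum_nonneg
      intro i hi
      rw [Finset.mem_filter, Set.Finite.mem_toFinset] at hi
      obtain ⟨hip, hineg⟩ := hi
      have hi'pos : b.IsPos (P.reflectionPerm i i) :=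
        (RootPairing.Base.IsPos.or_neg b i).resolve_left hineg
      have h1 : 0 ≤ P.coroot' (P.reflectionPerm i i) ξ :=
        coroot'_nonneg_of_isPos P E κ hκ hE b ξ hξ _ hi'pos
      rw [coroot'_reflectionPerm_self] at h1
      have h2 : P.coroot' i ξ = 0 := le_antisymm (neg_nonneg.1 h1) ((hparab i).1 hip)
      have h3 : P.coroot' (P.reflectionPerm i i) ξ = 0 := by
        rw [coroot'_reflectionPerm_self, h2, neg_zero]
      obtain ⟨f, hf⟩ := exists_decomp_of_isPos P b _ hi'pos
      have hfj := decomp_eq_zero_of_coroot'_eq_zero P E κ hκ hE b ξ hξ _ f hf h3 j hj hjpos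
      have h4 : P.coroot' j (P.root (P.reflectionPerm i i)) ≤ 0 := by
        rw [coroot'_of_decomp P b _ f hf j]
        apply Finset.sum_nonpos
        intro k hk
        by_cases hkj : k = j
        · rw [hkj, hfj, Nat.cast_zero, zero_mul]
        · exact mul_nonpos_of_nonneg_of_nonpos (Nat.cast_nonneg _)
            (coroot'_root_nonpos P b k j hk hj hkj)
      rw [root_neg_idx, map_neg] at h4
      exact neg_nonpos.1 h4
    linarith
  · intro hj0
    apply coroot'_sum_eq_zero_of_invariant P F.parab j
    intro i hi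
    rw [hparab] at hi ⊢
    rw [← P.coroot'_reflection, P.reflection_apply, hj0, zero_smul, sub_zero]
    exact hi


end rho

section rho2
variable {ι : Type u} {R : Type v} {M : Type w} {N : Type x}
  [Field R] [LinearOrder R] [IsStrictOrderedRing R]
  [AddCommGroup M] [Module R M] [AddCommGroup N] [Module R N] [Finite ι]
  (P : RootPairing ι R M N) [P.IsRootSystem] [P.IsCrystallographic] [P.IsReduced]

theorem sum_root_parab_mem_carrier (F : Facet P) :
    (∑ i ∈ (Set.toFinite F.parab).toFinset, P.root i) ∈ F.carrier := by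
  obtain ⟨E, κ, hκ, hE⟩ := exists_polarization P
  obtain ⟨ξ, b, hξF, hξ⟩ := exists_adapted P F
  exact sum_root_parab_mem_carrier_aux P E κ hκ hE F ξ hξF b hξ

theorem deg_eq_deg (d : P.Base → N) (hd : IsCCS d) (F : Facet P)
    (b b' : P.Base) (hb : b ∈ F.cham) (hb' : b' ∈ F.cham) :
    F.deg d b = F.deg d b' := by
  unfold Facet.deg
  rw [sum_root'_eq, sum_root'_eq]
  apply pairing_eq_of_mem_span_corners P d hd F b b' hb hb'
  rw [← span_carrier_eq P F]
  exact Submodule.subset_span (sum_root_parab_mem_carrier P F)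

end rho2

end Groth.Agent.Lib.Helper21.RootChLib
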