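import Mathlib
import Groth.Prelude.Def_RootCh2
import Groth.Agent.Lib.Helper21.RootChLib8
import Groth.Agent.Lib.Helper21.Farkas

namespace Groth.Agent.Lib.Helper21.RootChLib

open RootCh Module

universe u v w x

section reflBase
variable {ι : Type u} {R : Type v} {M : Type w} {N : Type x}
  [Field R] [LinearOrder R] [IsStrictOrderedRing R]
  [AddCommGroup M] [Module R M] [AddCommGroup N] [Module R N] [Finite ι]
  (P : RootPairing ι R M N) [P.IsRootSystem] [P.IsCrystallographic] [P.IsReduced]

omit [Finite ι] [P.IsCrystallographic] [P.IsReduced] in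
theorem root'_sum_fundCoweight (b : P.Base) (k : ι) (hk : k ∈ b.support) :
    P.root' k (∑ j : b.support, fundCoweight b j) = 1 := by
  classical
  rw [map_sum, Finset.sum_eq_single_of_mem (⟨k, hk⟩ : b.support) (Finset.mem_univ _)]
  · exact root'_fundCoweight_self b ⟨k, hk⟩
  · intro j _ hj
    exact root'_fundCoweight_of_ne b j ⟨k, hk⟩ (Ne.symm hj)

omit [P.IsCrystallographic] [P.IsReduced] in
/-- a vector in the open dual chamber of a base is regular -/
theorem root'_ne_zero_of_openDual (b : P.Base) (y : N) (hy : ∀ j ∈ b.support, 0 < P.root' j y)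
    (i : ι) : P.root' i y ≠ 0 := by
  rcases RootPairing.Base.IsPos.or_neg b i with h | h
  · exact ((isPos_iff_root'_pos P b y hy i).1 h).ne'
  · have h' : b.IsPos (P.reflectionPerm i i) := h
    have := (isPos_iff_root'_pos P b y hy _).1 h'
    rw [root'_reflectionPerm_self] at this
    intro h0
    rw [h0, neg_zero] at this
    exact lt_irrefl _ this

/-- the reflection of a base in one of its simple roots, through its positive system -/
theorem exists_reflected_base (b : P.Base) (i : ι) (hi : i ∈ b.support) :
    ∃ b' : P.Base, ∀ j, b'.IsPos j ↔ b.IsPos (P.reflectionPerm i j) := by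
  set y : N := ∑ j : b.support, fundCoweight b j with hy
  have hypos : ∀ j ∈ b.support, 0 < P.root' j y := by
    intro j hj; rw [hy, root'_sum_fundCoweight P b j hj]; exact one_pos
  have hreg : ∀ j, P.root' j (P.coreflection i y) ≠ 0 := by
    intro j
    rw [root'_coreflection]
    exact root'_ne_zero_of_openDual P b y hypos _
  obtain ⟨b', hb'⟩ := exists_base_of_coregular P (P.coreflection i y) hreg
  refine ⟨b', fun j => ?_⟩
  rw [isPos_iff_root'_pos P b' _ hb' j, root'_coreflection, isPos_iff_root'_pos P b y hypos]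

/-- positive system of the reflected base -/
theorem reflected_isPos_iff (b b' : P.Base) (i : ι) (hi : i ∈ b.support)
    (hb' : ∀ j, b'.IsPos j ↔ b.IsPos (P.reflectionPerm i j)) (j : ι) :
    b'.IsPos j ↔ (b.IsPos j ∧ j ≠ i) ∨ j = P.reflectionPerm i i := by
  rw [hb']
  have hipos : b.IsPos i := RootPairing.Base.isPos_of_mem_support hi
  have hneg : ¬ b.IsPos (P.reflectionPerm i i) := by
    intro h
    exact ((RootPairing.Base.IsPos.neg_iff_not b i).1 h) hipos
  constructor
  · intro h
    by_cases hk : P.reflectionPerm i j = i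
    · right
      have := congrArg (P.reflectionPerm i) hk
      rw [P.reflectionPerm_self] at this
      exact this
    · left
      have h2 := h.reflectionPerm hi hk
      rw [P.reflectionPerm_self] at h2
      refine ⟨h2, fun hji => ?_⟩
      rw [hji] at h
      exact hneg h
  · rintro (⟨hj, hji⟩ | rfl)
    · exact hj.reflectionPerm hi hji
    · rw [P.reflectionPerm_self]; exact hipos

end reflBase

section reflBase2
variable {ι : Type u} {R : Type v} {M : Type w} {N : Type x}
  [Field R] [LinearOrder R] [IsStrictOrderedRing R]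
  [AddCommGroup M] [Module R M] [AddCommGroup N] [Module R N] [Finite ι]
  (P : RootPairing ι R M N) [P.IsRootSystem] [P.IsCrystallographic] [P.IsReduced]

omit [Finite ι] [P.IsCrystallographic] [P.IsReduced] [LinearOrder R] [IsStrictOrderedRing R] in
/-- expansion of a vector of `N` in simple coroots, with coefficients its pairings against the
fundamental weights -/
theorem eq_sum_coroot (b : P.Base) (y : N) :
    y = ∑ j : b.support, P.toLinearMap (fundWeight b j) y • P.coroot j := by
  conv_lhs => rw [← b.toCoweightBasis.sum_repr y]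
  apply Finset.sum_congr rfl
  intro j _
  rw [b.toCoweightBasis_apply]
  congr 1
  have h : P.toLinearMap (P.toPerfPair.symm (b.toCoweightBasis.coord j)) =
      b.toCoweightBasis.coord j := P.toLinearMap.apply_symm_toPerfPair_self _
  show _ = P.toLinearMap (P.toPerfPair.symm (b.toCoweightBasis.coord j)) y
  rw [h]; rfl

variable (b b' : P.Base) (i : ι) (hi : i ∈ b.support)
  (hb' : ∀ j, b'.IsPos j ↔ (b.IsPos j ∧ j ≠ i) ∨ j = P.reflectionPerm i i)

include hi hb' in
omit [P.IsCrystallographic] [P.IsReduced] [Finite ι] [P.IsRootSystem] in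
theorem reflected_wall (j : ι) : (b.IsPos j ∧ ¬ b'.IsPos j) ↔ j = i := by
  have hipos : b.IsPos i := RootPairing.Base.isPos_of_mem_support hi
  have hneg : ¬ b.IsPos (P.reflectionPerm i i) := by
    intro h
    exact ((RootPairing.Base.IsPos.neg_iff_not b i).1 h) hipos
  constructor
  · rintro ⟨h1, h2⟩
    by_contra hji
    exact h2 ((hb' j).2 (Or.inl ⟨h1, hji⟩))
  · rintro rfl
    refine ⟨hipos, fun h => ?_⟩
    rcases (hb' j).1 h with ⟨-, h2⟩ | h2
    · exact h2 rfl
    · rw [← h2] at hneg
      exact hneg hipos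

variable (E : M ≃ₗ[R] N) (κ : ι → R) (hκ : ∀ i, 0 < κ i)
  (hE : ∀ i m, P.coroot' i m = κ i * P.root' i (E m))

include hi hb' hκ hE in
omit [P.IsCrystallographic] [P.IsReduced] [Finite ι] in
theorem reflected_corners :
    baseCorners b ∩ baseCorners b' = fundWeight b '' {j : b.support | j ≠ ⟨i, hi⟩} := by
  ext w
  constructor
  · rintro ⟨hw1, hw2⟩
    rw [baseCorners_eq] at hw1
    obtain ⟨j, rfl⟩ := hw1
    refine ⟨j, ?_, rfl⟩
    rintro rfl
    have hpos : b'.IsPos (P.reflectionPerm i i) := (hb' _).2 (Or.inr rfl)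
    have := coroot'_nonneg_of_isPos P E κ hκ hE b' _ hw2.2 _ hpos
    rw [coroot'_reflectionPerm_self,
      show P.coroot' i (fundWeight b ⟨i, hi⟩) = 1 from coroot'_fundWeight_self b ⟨i, hi⟩] at this
    linarith
  · rintro ⟨j, hj, rfl⟩
    refine ⟨⟨⟨b, j, rfl⟩, fundWeight_mem_closedChamber P b j⟩, ⟨b, j, rfl⟩, ?_⟩
    intro k hk
    have hkpos : b'.IsPos k := RootPairing.Base.isPos_of_mem_support hk
    rcases (hb' k).1 hkpos with ⟨h1, -⟩ | rfl
    · exact coroot'_nonneg_of_isPos P E κ hκ hE b _ (fundWeight_mem_closedChamber P b j) k h1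
    · rw [coroot'_reflectionPerm_self,
        show P.coroot' i (fundWeight b j) = 0 from coroot'_fundWeight_of_ne b j ⟨i, hi⟩
          (fun h => hj h.symm), neg_zero]

include hi hb' hκ hE in
omit [P.IsCrystallographic] [P.IsReduced] [Finite ι] in
theorem reflected_ncard :
    (baseCorners b ∩ baseCorners b').ncard + 1 = b.support.card := by
  classical
  rw [reflected_corners P b b' i hi hb' E κ hκ hE,
    Set.ncard_image_of_injective _ (fundWeight_injective P b)]
  have h1 : {j : b.support | j ≠ ⟨i, hi⟩} = Set.univ \ {⟨i, hi⟩} := by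
    ext j; simp
  rw [h1, Set.ncard_diff_singleton_of_mem (Set.mem_univ _), Set.ncard_univ,
    Nat.card_eq_fintype_card, Fintype.card_coe]
  have : 0 < b.support.card := Finset.card_pos.2 ⟨i, hi⟩
  omega

include hi hb' hκ hE in
omit [P.IsCrystallographic] [P.IsReduced] [Finite ι] in
/-- across a wall the value of a complementary convex solid moves along the coroot, in the
nonnegative direction -/
theorem reflected_diff (d : P.Base → N) (hd : IsCCS d) :
    ∃ t : R, 0 ≤ t ∧ d b' - d b = t • P.coroot i := by
  classical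
  have hB2 := hd.wall_le b b' i (reflected_ncard P b b' i hi hb' E κ hκ hE)
    (reflected_wall P b b' i hi hb')
  have hB1 : ∀ j : b.support, j ≠ ⟨i, hi⟩ →
      P.toLinearMap (fundWeight b j) (d b' - d b) = 0 := by
    intro j hj
    have hmem : fundWeight b j ∈ baseCorners b ∩ baseCorners b' := by
      rw [reflected_corners P b b' i hi hb' E κ hκ hE]; exact ⟨j, hj, rfl⟩
    rw [map_sub, sub_eq_zero]
    exact (hd.corner_eq b b' _ hmem.1 hmem.2).symm
  set t := P.toLinearMap (fundWeight b ⟨i, hi⟩) (d b' - d b) with ht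
  have hexp : d b' - d b = t • P.coroot i := by
    conv_lhs => rw [eq_sum_coroot P b (d b' - d b)]
    rw [Finset.sum_eq_single_of_mem (⟨i, hi⟩ : b.support) (Finset.mem_univ _)]
    intro j _ hj
    rw [hB1 j hj, zero_smul]
  refine ⟨t, ?_, hexp⟩
  have h2 : P.root' i (d b' - d b) = t * 2 := by
    rw [hexp, map_smul, smul_eq_mul]
    congr 1
    show P.toLinearMap (P.root i) (P.coroot i) = 2
    simp
  have h3 : 0 ≤ P.root' i (d b' - d b) := by
    rw [map_sub]; linarith
  rw [h2] at h3
  linarith

end reflBase2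

section gallery
variable {ι : Type u} {R : Type v} {M : Type w} {N : Type x}
  [Field R] [LinearOrder R] [IsStrictOrderedRing R]
  [AddCommGroup M] [Module R M] [AddCommGroup N] [Module R N] [Finite ι]
  (P : RootPairing ι R M N) [P.IsRootSystem] [P.IsCrystallographic] [P.IsReduced]

/-- if every simple root of `c` is positive for `c'`, then every positive root of `c` is -/
theorem isPos_of_forall_support (c c' : P.Base) (h : ∀ i ∈ c.support, c'.IsPos i) (j : ι)
    (hj : c.IsPos j) : c'.IsPos j :=
  hj.induction_on_add (p := fun j => c'.IsPos j) h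
    (fun i j k hk hi hj => hi.add (h j hj) hk)

variable (E : M ≃ₗ[R] N) (κ : ι → R) (hκ : ∀ i, 0 < κ i)
  (hE : ∀ i m, P.coroot' i m = κ i * P.root' i (E m))

include hκ hE in
theorem pairing_le_of_mem_cham_aux (d : P.Base → N) (hd : IsCCS d) (F : Facet P) (c' : P.Base)
    (hc' : c' ∈ F.cham) (m : M) (hm : m ∈ baseCorners c') :
    ∀ (n : ℕ) (c : P.Base), c ∈ F.cham → {j | c'.IsPos j ∧ ¬ c.IsPos j}.ncard = n →
      P.toLinearMap m (d c') ≤ P.toLinearMap m (d c) := by
  intro n
  induction n with
  | zero =>
    intro c hc hn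
    have hempty : {j | c'.IsPos j ∧ ¬ c.IsPos j} = ∅ := by
      rwa [Set.ncard_eq_zero (Set.toFinite _)] at hn
    have hsub : ∀ j, c'.IsPos j → c.IsPos j := by
      intro j hj
      by_contra hcon
      have : j ∈ ({j | c'.IsPos j ∧ ¬ c.IsPos j} : Set ι) := ⟨hj, hcon⟩
      rw [hempty] at this
      exact this
    have hmc : m ∈ baseCorners c := by
      refine ⟨hm.1, fun k hk => ?_⟩
      have hkc : c.IsPos k := RootPairing.Base.isPos_of_mem_support hk
      have hkc' : c'.IsPos k := by
        by_contra hcon
        have h1 : c'.IsPos (P.reflectionPerm k k) :=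
          (RootPairing.Base.IsPos.or_neg c' k).resolve_left hcon
        have h2 := hsub _ h1
        exact ((RootPairing.Base.IsPos.neg_iff_not c k).1 h2) hkc
      exact coroot'_nonneg_of_isPos P E κ hκ hE c' m hm.2 k hkc'
    exact (hd.corner_eq c' c m hm hmc).le
  | succ n ih =>
    intro c hc hn
    have hne : ({j | c'.IsPos j ∧ ¬ c.IsPos j} : Set ι).Nonempty := by
      rw [← Set.ncard_pos (Set.toFinite _), hn]; exact Nat.succ_pos n
    obtain ⟨j₀, hj₀1, hj₀2⟩ := hne
    -- a simple root of c negative for c'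
    have hex : ∃ i ∈ c.support, ¬ c'.IsPos i := by
      by_contra hcon
      push Not at hcon
      have h1 : c.IsPos (P.reflectionPerm j₀ j₀) :=
        (RootPairing.Base.IsPos.or_neg c j₀).resolve_left hj₀2
      have h2 := isPos_of_forall_support P c c' hcon _ h1
      exact ((RootPairing.Base.IsPos.neg_iff_not c' j₀).1 h2) hj₀1
    obtain ⟨i, hi, hic'⟩ := hex
    have hinegc' : c'.IsPos (P.reflectionPerm i i) :=
      (RootPairing.Base.IsPos.or_neg c' i).resolve_left hic'
    obtain ⟨c'', hc''0⟩ := exists_reflected_base P c i hi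
    have hc'' := reflected_isPos_iff P c c'' i hi hc''0
    -- c'' is adjacent to F
    have hc''F : c'' ∈ F.cham := by
      intro η hη k hk
      have hkpos : c''.IsPos k := RootPairing.Base.isPos_of_mem_support hk
      rcases (hc'' k).1 hkpos with ⟨h1, -⟩ | rfl
      · exact coroot'_nonneg_of_isPos P E κ hκ hE c η (hc hη) k h1
      · exact coroot'_nonneg_of_isPos P E κ hκ hE c' η (hc' hη) _ hinegc'
    -- the distance decreases
    have hset : {j | c'.IsPos j ∧ ¬ c''.IsPos j} =
        {j | c'.IsPos j ∧ ¬ c.IsPos j} \ {P.reflectionPerm i i} := by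
      ext j
      simp only [Set.mem_ofPred_eq, Set.mem_sdiff, Set.mem_singleton_iff]
      rw [hc'' j]
      constructor
      · rintro ⟨h1, h2⟩
        push Not at h2
        refine ⟨⟨h1, fun h3 => ?_⟩, h2.2⟩
        have := h2.1 h3
        rw [this] at h1
        exact hic' h1
      · rintro ⟨⟨h1, h2⟩, h3⟩
        refine ⟨h1, ?_⟩
        rintro (⟨h4, -⟩ | h4)
        · exact h2 h4
        · exact h3 h4
    have hmem : P.reflectionPerm i i ∈ {j | c'.IsPos j ∧ ¬ c.IsPos j} := by
      refine ⟨hinegc', fun h => ?_⟩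
      exact ((RootPairing.Base.IsPos.neg_iff_not c i).1 h)
        (RootPairing.Base.isPos_of_mem_support hi)
    have hn'' : {j | c'.IsPos j ∧ ¬ c''.IsPos j}.ncard = n := by
      rw [hset, Set.ncard_diff_singleton_of_mem hmem, hn]
      rfl
    have hIH := ih c'' hc''F hn''
    obtain ⟨t, ht, hdiff⟩ := reflected_diff P c c'' i hi hc'' E κ hκ hE d hd
    have hmi : P.coroot' i m ≤ 0 := by
      have := coroot'_nonneg_of_isPos P E κ hκ hE c' m hm.2 _ hinegc'
      rw [coroot'_reflectionPerm_self] at this
      linarith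
    have hdc : d c = d c'' - t • P.coroot i := by rw [← hdiff]; abel
    have : P.toLinearMap m (d c) = P.toLinearMap m (d c'') - t * P.coroot' i m := by
      rw [hdc, map_sub, map_smul, smul_eq_mul]; rfl
    rw [this]
    have : t * P.coroot' i m ≤ 0 := mul_nonpos_of_nonneg_of_nonpos ht hmi
    linarith

end gallery

section solid
variable {ι : Type u} {R : Type v} {M : Type w} {N : Type x}
  [Field R] [LinearOrder R] [IsStrictOrderedRing R]
  [AddCommGroup M] [Module R M] [AddCommGroup N] [Module R N] [Finite ι]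
  (P : RootPairing ι R M N) [P.IsRootSystem] [P.IsCrystallographic] [P.IsReduced]

theorem base_ext (b b' : P.Base) (h : b.support = b'.support) : b = b' := by
  cases b; cases b'; simp only at h; subst h; rfl

theorem finite_base : Finite P.Base :=
  Finite.of_injective (fun b : P.Base => b.support) (fun b b' h => base_ext P b b' h)

theorem pairing_le_of_mem_cham (d : P.Base → N) (hd : IsCCS d) (F : Facet P) (c c' : P.Base)
    (hc : c ∈ F.cham) (hc' : c' ∈ F.cham) (m : M) (hm : m ∈ baseCorners c') :
    P.toLinearMap m (d c') ≤ P.toLinearMap m (d c) := by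
  obtain ⟨E, κ, hκ, hE⟩ := exists_polarization P
  exact pairing_le_of_mem_cham_aux P E κ hκ hE d hd F c' hc' m hm _ c hc rfl

omit [Finite ι] [P.IsCrystallographic] [P.IsReduced] in
theorem convex_hyper (d : P.Base → N) (m : M) : Convex R (hyper d m) := by
  have : hyper d m = ⋂ (b : P.Base), ⋂ (_ : m ∈ baseCorners b),
      {x | P.toLinearMap m x = P.toLinearMap m (d b)} := by
    ext x; simp [hyper]
  rw [this]
  exact convex_iInter fun b => convex_iInter fun _ =>
    convex_hyperplane (P.toLinearMap m).isLinear _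

omit [Finite ι] [P.IsCrystallographic] [P.IsReduced] in
theorem convex_halfClosed (d : P.Base → N) (m : M) : Convex R (halfClosed d m) := by
  have : halfClosed d m = ⋂ (b : P.Base), ⋂ (_ : m ∈ baseCorners b),
      {x | P.toLinearMap m (d b) ≤ P.toLinearMap m x} := by
    ext x; simp [halfClosed]
  rw [this]
  exact convex_iInter fun b => convex_iInter fun _ =>
    convex_halfSpace_ge (P.toLinearMap m).isLinear _

theorem dualSolid_subset (d : P.Base → N) (hd : IsCCS d) (F : Facet P) :
    dualSolid d F ⊆ (⋂ m ∈ F.corners, hyper d m) ∩ ⋂ m ∈ F.corners', halfClosed d m := by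
  apply convexHull_min
  · rintro _ ⟨c, hc, rfl⟩
    refine ⟨?_, ?_⟩
    · simp only [Set.mem_iInter]
      intro m hm b hmb
      exact hd.corner_eq c b m (corners_subset_baseCorners P F c hc hm) hmb
    · simp only [Set.mem_iInter]
      intro m hm b hmb
      simp only [Facet.corners', Set.mem_iUnion] at hm
      obtain ⟨c', hc', hmc'⟩ := hm
      rw [hd.corner_eq b c' m hmb hmc']
      exact pairing_le_of_mem_cham P d hd F c c' hc hc' m hmc'
  · exact (convex_iInter₂ fun m _ => convex_hyper P d m).inter
      (convex_iInter₂ fun m _ => convex_halfClosed P d m)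

end solid

section solid2
variable {ι : Type u} {R : Type v} {M : Type w} {N : Type x}
  [Field R] [LinearOrder R] [IsStrictOrderedRing R]
  [AddCommGroup M] [Module R M] [AddCommGroup N] [Module R N] [Finite ι]
  (P : RootPairing ι R M N) [P.IsRootSystem] [P.IsCrystallographic] [P.IsReduced]

/-- for every linear functional (vector `ξ` of `M`) there is a chamber adjacent to `F` in whose
"Levi-closed chamber" `ξ` lies -/
theorem exists_cham_adapted (F : Facet P) (η : M) (hη : sgnVec P η = F.sgn) (ξ : M) :
    ∃ c : P.Base, c ∈ F.cham ∧ η ∈ closedChamber c ∧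
      ∀ k ∈ c.support, P.coroot' k η = 0 → 0 ≤ P.coroot' k ξ := by
  haveI : Fintype ι := Fintype.ofFinite ι
  obtain ⟨ε, hε, h⟩ := exists_small_eps (fun i => P.coroot' i η) (fun i => P.coroot' i ξ)
    Finset.univ
  obtain ⟨c, hc⟩ := exists_base_closedChamber P (η + ε • ξ)
  have hval : ∀ k, P.coroot' k (η + ε • ξ) = P.coroot' k η + ε * P.coroot' k ξ := by
    intro k; rw [map_add, map_smul, smul_eq_mul]
  have hηc : η ∈ closedChamber c := by
    intro k hk
    by_contra hneg
    rw [not_le] at hneg
    have h1 := h k (Finset.mem_univ k) hneg.ne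
    have h2 := hc k hk
    rw [hval] at h2
    rw [abs_of_neg hneg] at h1
    have h3 : ε * P.coroot' k ξ ≤ ε * |P.coroot' k ξ| :=
      mul_le_mul_of_nonneg_left (le_abs_self _) hε.le
    linarith
  refine ⟨c, ?_, hηc, ?_⟩
  · intro η' hη' k hk
    have hs : SignType.sign (P.coroot' k η') = SignType.sign (P.coroot' k η) := by
      have h1 : sgnVec P η' = F.sgn := hη'
      exact congrFun (h1.trans hη.symm) k
    rw [← sign_nonneg_iff, hs, sign_nonneg_iff]
    exact hηc k hk
  · intro k hk h0
    have h2 := hc k hk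
    rw [hval, h0, zero_add] at h2
    exact nonneg_of_mul_nonneg_right h2 hε

theorem subset_dualSolid (d : P.Base → N) (F : Facet P) :
    ((⋂ m ∈ F.corners, hyper d m) ∩ ⋂ m ∈ F.corners', halfClosed d m) ⊆ dualSolid d F := by
  classical
  haveI := finite_base P
  rintro x ⟨hx1, hx2⟩
  simp only [Set.mem_iInter] at hx1 hx2
  obtain ⟨η, hη⟩ := F.exists_sgnVec_eq
  have key := Farkas.mem_convexHull_of_forall_dual (R := R)
    (Set.toFinite F.cham).toFinset d x (by
    intro f
    set ξ : M := P.toPerfPair.symm f with hξ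
    have hf : ∀ y, f y = P.toLinearMap ξ y := by
      intro y
      have : P.toLinearMap (P.toPerfPair.symm f) = f := P.toLinearMap.apply_symm_toPerfPair_self f
      rw [hξ, this]
    obtain ⟨c, hcF, hηc, hc⟩ := exists_cham_adapted P F η hη ξ
    refine ⟨c, by rw [Set.Finite.mem_toFinset]; exact hcF, ?_⟩
    rw [hf, hf]
    have hexp : ∀ y : N, P.toLinearMap ξ y =
        ∑ k : c.support, P.coroot' k ξ * P.toLinearMap (fundWeight c k) y := by
      intro y
      conv_lhs => rw [eq_sum_fundWeight P c ξ]
      rw [map_sum, LinearMap.sum_apply]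
      apply Finset.sum_congr rfl
      intro k _
      rw [map_smul, LinearMap.smul_apply, smul_eq_mul]
    rw [hexp, hexp]
    apply Finset.sum_le_sum
    intro k _
    have hkb : fundWeight c k ∈ baseCorners c :=
      ⟨⟨c, k, rfl⟩, fundWeight_mem_closedChamber P c k⟩
    rcases (hηc k k.2).lt_or_eq with hpos | hzero
    · have hcor : fundWeight c k ∈ F.corners := by
        rw [corners_eq P F η hη c hηc]; exact ⟨k, hpos, rfl⟩
      have := hx1 _ hcor c hkb
      rw [this]
    · have hcor' : fundWeight c k ∈ F.corners' := by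
        simp only [Facet.corners', Set.mem_iUnion]
        exact ⟨c, hcF, hkb⟩
      have h1 := hx2 _ hcor' c hkb
      exact mul_le_mul_of_nonneg_left h1 (hc k k.2 hzero.symm))
  rw [Set.Finite.coe_toFinset] at key
  exact key


theorem dualSolid_eq (d : P.Base → N) (hd : IsCCS d) (F : Facet P) :
    dualSolid d F =
      (⋂ m ∈ F.corners, hyper d m) ∩ ⋂ m ∈ F.corners', halfClosed d m :=
  Set.Subset.antisymm (dualSolid_subset P d hd F) (subset_dualSolid P d F)

omit [Finite ι] [P.IsCrystallographic] [P.IsReduced] in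
theorem origin_cham : (Facet.origin P).cham = Set.univ := by
  ext b
  simp only [Set.mem_univ, iff_true]
  intro ξ hξ k _
  have h1 : sgnVec P ξ = sgnVec P 0 := hξ
  have h2 : SignType.sign (P.coroot' k ξ) = SignType.sign (P.coroot' k (0 : M)) := congrFun h1 k
  rw [map_zero, sign_zero, sign_eq_zero_iff] at h2
  rw [h2]

omit [Finite ι] [P.IsCrystallographic] [P.IsReduced] in
theorem origin_corners : (Facet.origin P).corners = ∅ := by
  ext m
  simp only [Set.mem_empty_iff_false, iff_false]
  rintro ⟨⟨b, j, rfl⟩, h2⟩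
  have h3 := h2 j
  have h4 : sgnVec P (fundWeight b j) j = 1 := by
    show SignType.sign (P.coroot' j (fundWeight b j)) = 1
    rw [coroot'_fundWeight_self, sign_one]
  have h5 : (Facet.origin P).sgn j = 0 := by
    show SignType.sign (P.coroot' j (0 : M)) = 0
    rw [map_zero, sign_zero]
  rw [h4, h5] at h3
  rcases h3 with h | h <;> exact absurd h (by decide)

theorem solid_eq (d : P.Base → N) (hd : IsCCS d) :
    solid d = ⋂ m ∈ (⋃ b : P.Base, baseCorners b), halfClosed d m := by
  have h1 : solid d = dualSolid d (Facet.origin P) := by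
    unfold solid dualSolid
    rw [origin_cham, Set.image_univ]
  rw [h1, dualSolid_eq P d hd, origin_corners]
  have h2 : (Facet.origin P).corners' = ⋃ b : P.Base, baseCorners b := by
    unfold Facet.corners'
    rw [origin_cham]
    simp
  rw [h2]
  simp

theorem corner_pairing_nonpos_iff (d : P.Base → N) (hd : IsCCS d) :
    (∀ (b : P.Base), ∀ m ∈ baseCorners b, P.toLinearMap m (d b) ≤ 0) ↔ IsSemistable d := by
  unfold IsSemistable
  rw [solid_eq P d hd]
  simp only [Set.mem_iInter, Set.mem_iUnion]
  constructor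
  · rintro h m ⟨b, hb⟩ b' hb'
    rw [map_zero]
    exact h b' m hb'
  · intro h b m hm
    have := h m ⟨b, hm⟩ b hm
    rwa [map_zero] at this

end solid2

end Groth.Agent.Lib.Helper21.RootChLib
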