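import Mathlib
import Groth.Prelude.Def_RootCh2
import Groth.Agent.Lib.Helper21.RootChLib9

namespace Groth.Agent.Lib.Helper21.RootChLib

open RootCh Module

universe u v w x

section sst
variable {ι : Type u} {R : Type v} {M : Type w} {N : Type x}
  [Field R] [LinearOrder R] [IsStrictOrderedRing R]
  [AddCommGroup M] [Module R M] [AddCommGroup N] [Module R N] [Finite ι]
  (P : RootPairing ι R M N) [P.IsRootSystem] [P.IsCrystallographic] [P.IsReduced]

/-- (iii) ⇒ (i) -/
theorem deg_nonpos_of_corner_nonpos (d : P.Base → N)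
    (h : ∀ (b : P.Base), ∀ m ∈ baseCorners b, P.toLinearMap m (d b) ≤ 0)
    (F : Facet P) (b : P.Base) (hb : b ∈ F.cham) : F.deg d b ≤ 0 := by
  unfold Facet.deg
  rw [sum_root'_eq]
  have hA := sum_root_parab_mem_carrier P F
  rw [carrier_eq_pos_comb P F] at hA
  obtain ⟨c, hsupp, hpos, hsum⟩ := hA
  rw [← hsum, Finsupp.sum, map_sum, LinearMap.sum_apply]
  apply Finset.sum_nonpos
  intro m hm
  rw [map_smul, LinearMap.smul_apply, smul_eq_mul]
  have hmF : m ∈ F.corners := hsupp hm
  exact mul_nonpos_of_nonneg_of_nonpos (hpos m hmF).le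
    (h b m (corners_subset_baseCorners P F b hb hmF))

omit [Finite ι] [P.IsCrystallographic] [P.IsReduced] in
theorem mem_cham_ofVec (b : P.Base) (ξ : M) (hξ : ξ ∈ closedChamber b) :
    b ∈ (Facet.ofVec P ξ).cham := by
  intro η hη k hk
  have h1 : sgnVec P η = sgnVec P ξ := hη
  have hs : SignType.sign (P.coroot' k η) = SignType.sign (P.coroot' k ξ) := congrFun h1 k
  rw [← sign_nonneg_iff, hs, sign_nonneg_iff]
  exact hξ k hk

/-- (ii) ⇒ (iii) -/
theorem corner_nonpos_of_deg_nonpos (d : P.Base → N)
    (h : ∀ (F : Facet P) (b : P.Base), F.dim = 1 → b ∈ F.cham → F.deg d b ≤ 0)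
    (b : P.Base) (m : M) (hm : m ∈ baseCorners b) : P.toLinearMap m (d b) ≤ 0 := by
  classical
  have hm' := hm
  rw [baseCorners_eq] at hm'
  obtain ⟨j, rfl⟩ := hm'
  set F := Facet.ofVec P (fundWeight b j) with hF
  have hξ : fundWeight b j ∈ closedChamber b := fundWeight_mem_closedChamber P b j
  have hbF : b ∈ F.cham := mem_cham_ofVec P b _ hξ
  have hcor : F.corners = {fundWeight b j} := by
    rw [corners_eq P F (fundWeight b j) rfl b hξ]
    ext w
    simp only [Set.mem_ofPred_eq, Set.mem_singleton_iff]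
    constructor
    · rintro ⟨k, hk, rfl⟩
      by_cases hkj : k = j
      · rw [hkj]
      · rw [coroot'_fundWeight_of_ne b j k hkj] at hk
        exact absurd hk (lt_irrefl _)
    · rintro rfl
      refine ⟨j, ?_, rfl⟩
      rw [coroot'_fundWeight_self]; exact one_pos
  have hne : fundWeight b j ≠ 0 := by
    intro h0
    have := coroot'_fundWeight_self b j
    rw [h0, map_zero] at this
    exact zero_ne_one this
  have hdim : F.dim = 1 := by
    unfold Facet.dim
    rw [span_carrier_eq P F, hcor]
    exact finrank_span_singleton hne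
  have hdeg := h F b hdim hbF
  unfold Facet.deg at hdeg
  rw [sum_root'_eq] at hdeg
  have hA := sum_root_parab_mem_carrier P F
  rw [carrier_eq P F (fundWeight b j) rfl b hξ] at hA
  set A := ∑ i ∈ (Set.toFinite F.parab).toFinset, P.root i with hAdef
  have hAj : 0 < P.coroot' j A := (hA j j.2).1 (by rw [coroot'_fundWeight_self]; exact one_pos)
  have hAeq : A = P.coroot' j A • fundWeight b j := by
    apply ext_of_coroot' P b
    intro k hk
    rw [map_smul, smul_eq_mul]
    by_cases hkj : (⟨k, hk⟩ : b.support) = j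
    · subst hkj
      rw [show P.coroot' k (fundWeight b ⟨k, hk⟩) = 1 from coroot'_fundWeight_self b ⟨k, hk⟩,
        mul_one]
    · have h0 : P.coroot' k (fundWeight b j) = 0 := coroot'_fundWeight_of_ne b j ⟨k, hk⟩ hkj
      rw [h0, mul_zero]
      exact (hA k hk).2 h0
  rw [hAeq, map_smul, LinearMap.smul_apply, smul_eq_mul] at hdeg
  by_contra hcon
  rw [not_le] at hcon
  have := mul_pos hAj hcon
  linarith

theorem deg_nonpos_iff_isSemistable (d : P.Base → N) (hd : IsCCS d) :
    (∀ (F : Facet P) (b : P.Base), b ∈ F.cham → F.deg d b ≤ 0) ↔ IsSemistable d := by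
  rw [← corner_pairing_nonpos_iff P d hd]
  constructor
  · intro h b m hm
    exact corner_nonpos_of_deg_nonpos P d (fun F b _ hb => h F b hb) b m hm
  · intro h F b hb
    exact deg_nonpos_of_corner_nonpos P d h F b hb

theorem deg_nonpos_of_dim_one_iff_isSemistable (d : P.Base → N) (hd : IsCCS d) :
    (∀ (F : Facet P) (b : P.Base), F.dim = 1 → b ∈ F.cham → F.deg d b ≤ 0) ↔
      IsSemistable d := by
  rw [← corner_pairing_nonpos_iff P d hd]
  constructor
  · intro h b m hm
    exact corner_nonpos_of_deg_nonpos P d h b m hm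
  · intro h F b _ hb
    exact deg_nonpos_of_corner_nonpos P d h F b hb

end sst

end Groth.Agent.Lib.Helper21.RootChLib
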