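import Mathlib
import Groth.Prelude.Def_RootCh2
import Groth.Agent.Lib.Helper21.RootChLib10

namespace Groth.Agent.Lib.Helper21.RootChLib

open RootCh Module

universe u v w x


section specialA
variable {ι : Type u} {R : Type v} {M : Type w} {N : Type x}
  [Field R] [LinearOrder R] [IsStrictOrderedRing R]
  [AddCommGroup M] [Module R M] [AddCommGroup N] [Module R N] [Finite ι]
  (P : RootPairing ι R M N) [P.IsRootSystem] [P.IsCrystallographic] [P.IsReduced]

omit [P.IsCrystallographic] [P.IsReduced] in
/-- polarization with symmetry and positivity -/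
theorem exists_polarization' : ∃ (E : M ≃ₗ[R] N) (κ : ι → R), (∀ i, 0 < κ i) ∧
    (∀ i m, P.coroot' i m = κ i * P.root' i (E m)) ∧
    (∀ m m' : M, P.toLinearMap m (E m') = P.toLinearMap m' (E m)) ∧
    (∀ m : M, m ≠ 0 → 0 < P.toLinearMap m (E m)) := by
  haveI : Fintype ι := Fintype.ofFinite ι
  have hs : ∀ m m' : M, P.RootForm m m' = P.RootForm m' m := by
    intro m m'
    rw [P.rootForm_apply_apply, P.rootForm_apply_apply]
    exact Finset.sum_congr rfl fun j _ => mul_comm _ _
  refine ⟨P.PolarizationEquiv, fun i => 2 / P.RootForm (P.root i) (P.root i), ?_, ?_, ?_, ?_⟩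
  · intro i
    apply div_pos two_pos
    exact P.rootForm_pos_of_ne_zero (Submodule.subset_span (Set.mem_range_self i)) (P.ne_zero i)
  · intro i m
    have h1 : P.coroot' i m = P.toLinearMap m (P.coroot i) := rfl
    have h2 : P.root' i (P.PolarizationEquiv m) = P.toLinearMap (P.root i) (P.Polarization m) := by
      rw [P.polarizationEquiv_apply]
    rw [h1, h2, P.coroot_eq_polarizationEquiv_apply_root, map_smul, smul_eq_mul,
      P.polarizationEquiv_apply, P.toLinearMap_apply_apply_Polarization,
      P.toLinearMap_apply_apply_Polarization]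
    show _ = 2 / P.RootForm (P.root i) (P.root i) * _
    rw [hs m]
  · intro m m'
    rw [P.polarizationEquiv_apply, P.polarizationEquiv_apply,
      P.toLinearMap_apply_apply_Polarization, P.toLinearMap_apply_apply_Polarization, hs]
  · intro m hm
    rw [P.polarizationEquiv_apply, P.toLinearMap_apply_apply_Polarization]
    apply P.rootForm_pos_of_ne_zero _ hm
    have : P.rootSpan R = ⊤ := RootPairing.IsRootSystem.span_root_eq_top
    rw [this]; trivial

end specialA



section specialB
variable {ι : Type u} {R : Type v} {M : Type w} {N : Type x}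
  [Field R] [LinearOrder R] [IsStrictOrderedRing R]
  [AddCommGroup M] [Module R M] [AddCommGroup N] [Module R N] [Finite ι]
  (P : RootPairing ι R M N) [P.IsRootSystem] [P.IsCrystallographic] [P.IsReduced]

omit [P.IsReduced] in
/-- the pairing of a root with a fundamental coweight is an integer -/
theorem root'_fundCoweight_int (b : P.Base) (i : ι) (j : b.support) :
    ∃ n : ℤ, P.root' i (fundCoweight b j) = (n : R) := by
  classical
  obtain ⟨f, hf | hf⟩ := exists_root'_decomp P b i
  · refine ⟨(f j : ℤ), ?_⟩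
    rw [hf.2]
    rw [Finset.sum_eq_single_of_mem (j : ι) j.2]
    · rw [coef_simple P b j j.2 j]; simp
    · intro k hk hkj
      rw [coef_simple P b k hk j, if_neg, mul_zero]
      intro h; apply hkj; rw [← h]
  · refine ⟨-(f j : ℤ), ?_⟩
    rw [hf.2]
    rw [Finset.sum_eq_single_of_mem (j : ι) j.2]
    · rw [coef_simple P b j j.2 j]; simp
    · intro k hk hkj
      rw [coef_simple P b k hk j, if_neg, mul_zero]
      intro h; apply hkj; rw [← h]

omit [P.IsReduced] in
theorem kappa_le (E : M ≃ₗ[R] N) (κ : ι → R) (hκ : ∀ i, 0 < κ i)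
    (hE : ∀ i m, P.coroot' i m = κ i * P.root' i (E m))
    (b b' : P.Base) (j : b.support) (j' : b'.support)
    (h : fundWeight b j = fundWeight b' j') : κ j' ≤ κ j := by
  have h1 : P.root' j' (fundCoweight b' j') = 1 := root'_fundCoweight_self b' j'
  rw [fundCoweight_eq P E κ hκ hE b' j', map_smul, smul_eq_mul] at h1
  obtain ⟨n, hn⟩ := root'_fundCoweight_int P b j' j
  rw [fundCoweight_eq P E κ hκ hE b j, map_smul, smul_eq_mul, h] at hn
  -- κ j * r = n, κ j' * r = 1
  set r := P.root' j' (E (fundWeight b' j')) with hr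
  have hrpos : 0 < r := by
    by_contra hneg
    push Not at hneg
    have : κ j' * r ≤ 0 := mul_nonpos_of_nonneg_of_nonpos (hκ j').le hneg
    linarith
  have hnpos : (0 : R) < n := by rw [← hn]; exact mul_pos (hκ j) hrpos
  have hn1 : (1 : R) ≤ n := by
    have : (0 : ℤ) < n := by exact_mod_cast hnpos
    have : (1 : ℤ) ≤ n := this
    exact_mod_cast this
  -- κ j' * r = 1 ≤ n = κ j * r
  have : κ j' * r ≤ κ j * r := by rw [h1, hn]; exact hn1
  exact le_of_mul_le_mul_right this hrpos

omit [P.IsReduced] in
/-- the fundamental coweight corresponding to a fundamental weight is well defined -/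
theorem corr_unique (w : M) (x x' : N) (h : Corr P w x) (h' : Corr P w x') : x = x' := by
  obtain ⟨E, κ, hκ, hE⟩ := exists_polarization P
  obtain ⟨b, j, rfl, rfl⟩ := h
  obtain ⟨b', j', hw, rfl⟩ := h'
  rw [fundCoweight_eq P E κ hκ hE b j, fundCoweight_eq P E κ hκ hE b' j', hw]
  congr 1
  exact le_antisymm (kappa_le P E κ hκ hE b' b j' j hw) (kappa_le P E κ hκ hE b b' j j' hw.symm)

end specialB



section riesz
variable {R : Type v} {M : Type w} [Field R] [AddCommGroup M] [Module R M]

theorem exists_riesz (Bf : M →ₗ[R] M →ₗ[R] R) (hB : ∀ m, m ≠ 0 → Bf m m ≠ 0)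
    (V : Submodule R M) [FiniteDimensional R V] (φ : M →ₗ[R] R) :
    ∃ v ∈ V, ∀ w ∈ V, Bf w v = φ w := by
  let T : V →ₗ[R] Module.Dual R V := Bf.flip.domRestrict₁₂ V V
  have hT : ∀ v w : V, T v w = Bf w v := fun v w => rfl
  have hinj : Function.Injective T := by
    rw [← LinearMap.ker_eq_bot, LinearMap.ker_eq_bot']
    intro v hv
    have h1 : Bf v v = 0 := by rw [← hT, hv]; rfl
    by_contra hne
    exact hB v (fun h => hne (Subtype.ext h)) h1
  have hsurj : Function.Surjective T :=
    (LinearMap.injective_iff_surjective_of_finrank_eq_finrank Subspace.dual_finrank_eq.symm).1 hinj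
  obtain ⟨v, hv⟩ := hsurj (φ.domRestrict V)
  refine ⟨v, v.2, fun w hw => ?_⟩
  have := congrArg (fun f => f ⟨w, hw⟩) hv
  simpa [hT] using this

end riesz

section specialC
variable {ι : Type u} {R : Type v} {M : Type w} {N : Type x}
  [Field R] [LinearOrder R] [IsStrictOrderedRing R]
  [AddCommGroup M] [Module R M] [AddCommGroup N] [Module R N] [Finite ι]
  (P : RootPairing ι R M N) [P.IsRootSystem] [P.IsCrystallographic] [P.IsReduced]

theorem pairing_eq_of_mem_span (S : Set M) (y y' : N)
    (h : ∀ w ∈ S, P.toLinearMap w y = P.toLinearMap w y') (a : M)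
    (ha : a ∈ Submodule.span R S) : P.toLinearMap a y = P.toLinearMap a y' := by
  have := LinearMap.eqOn_span (f := P.toLinearMap.flip y) (g := P.toLinearMap.flip y')
    (s := S) (fun w hw => h w hw) ha
  exact this

variable (E : M ≃ₗ[R] N) (κ : ι → R) (hκ : ∀ i, 0 < κ i)
  (hE : ∀ i m, P.coroot' i m = κ i * P.root' i (E m))

include hκ hE in
theorem mem_dualCarrier_iff (F : Facet P) (y : N) :
    y ∈ F.dualCarrier ↔ E.symm y ∈ F.carrier := by
  show cosgnVec P y = F.sgn ↔ sgnVec P (E.symm y) = F.sgn
  rw [sgnVec_eq_cosgnVec P E κ hκ hE, LinearEquiv.apply_symm_apply]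

include hκ hE in
theorem mem_span_dualCarrier_iff (F : Facet P) (y : N) :
    y ∈ Submodule.span R F.dualCarrier ↔ E.symm y ∈ Submodule.span R F.corners := by
  have h1 : F.dualCarrier = E '' F.carrier := by
    ext z
    rw [mem_dualCarrier_iff P E κ hκ hE]
    constructor
    · intro hz; exact ⟨_, hz, LinearEquiv.apply_symm_apply _ _⟩
    · rintro ⟨m, hm, rfl⟩; rwa [LinearEquiv.symm_apply_apply]
  rw [h1, ← span_carrier_eq P F]
  have h2 : Submodule.span R (E '' F.carrier) = (Submodule.span R F.carrier).map E.toLinearMap := by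
    rw [Submodule.map_span]; rfl
  rw [h2]
  constructor
  · rintro ⟨m, hm, rfl⟩
    simpa using hm
  · intro hy
    exact ⟨_, hy, by simp⟩

end specialC


end Groth.Agent.Lib.Helper21.RootChLib
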