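import Mathlib
import Groth.Prelude.Def_RootCh2
import Groth.Agent.Lib.Helper21.RootChLib11

namespace Groth.Agent.Lib.Helper21.RootChLib

open RootCh Module

universe u v w x

section special2
variable {ι : Type u} {R : Type v} {M : Type w} {N : Type x}
  [Field R] [LinearOrder R] [IsStrictOrderedRing R]
  [AddCommGroup M] [Module R M] [AddCommGroup N] [Module R N] [Finite ι]
  (P : RootPairing ι R M N) [P.IsRootSystem] [P.IsCrystallographic] [P.IsReduced]

variable (E : M ≃ₗ[R] N) (κ : ι → R) (hκ : ∀ i, 0 < κ i)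
  (hE : ∀ i m, P.coroot' i m = κ i * P.root' i (E m))
  (hEs : ∀ m m' : M, P.toLinearMap m (E m') = P.toLinearMap m' (E m))
  (hEp : ∀ m : M, m ≠ 0 → 0 < P.toLinearMap m (E m))

theorem finite_corners (F : Facet P) : F.corners.Finite := by
  obtain ⟨ξ, b, hξF, hξ⟩ := exists_adapted P F
  exact (Set.finite_range (fundWeight b)).subset (corners_subset_range P F ξ hξF b hξ)

include hκ hE in
theorem mem_yLocus_iff (d : P.Base → N) (hd : IsCCS d) (F : Facet P) (b : P.Base)
    (hb : b ∈ F.cham) (y : N) :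
    y ∈ yLocus d F ↔ E.symm y ∈ Submodule.span R F.corners ∧
      ∀ w ∈ F.corners, P.toLinearMap w y = P.toLinearMap w (d b) := by
  have hsub := corners_subset_baseCorners P F b hb
  constructor
  · rintro ⟨h1, h2⟩
    refine ⟨(mem_span_dualCarrier_iff P E κ hκ hE F y).1 h2, fun w hw => ?_⟩
    simp only [Set.mem_iInter] at h1
    exact h1 w hw b (hsub hw)
  · rintro ⟨h1, h2⟩
    refine ⟨?_, (mem_span_dualCarrier_iff P E κ hκ hE F y).2 h1⟩
    simp only [Set.mem_iInter]
    intro w hw b' hb'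
    rw [h2 w hw]
    exact hd.corner_eq b b' w (hsub hw) hb'

include hκ hE hEs hEp in
theorem exists_yPoint (d : P.Base → N) (hd : IsCCS d) (F : Facet P) (b : P.Base)
    (hb : b ∈ F.cham) :
    ∃ η₀ ∈ Submodule.span R F.corners,
      (∀ w ∈ F.corners, P.toLinearMap w (E η₀) = P.toLinearMap w (d b)) ∧
      yLocus d F = {E η₀} := by
  haveI : FiniteDimensional R (Submodule.span R F.corners) :=
    FiniteDimensional.span_of_finite R (finite_corners P F)
  let Bf : M →ₗ[R] M →ₗ[R] R := P.toLinearMap.compl₂ E.toLinearMap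
  have hBf : ∀ m m', Bf m m' = P.toLinearMap m (E m') := fun m m' => rfl
  obtain ⟨η₀, hη₀, hη₀'⟩ := exists_riesz Bf (fun m hm => (hEp m hm).ne')
    (Submodule.span R F.corners) (P.toLinearMap.flip (d b))
  have h1 : ∀ w ∈ F.corners, P.toLinearMap w (E η₀) = P.toLinearMap w (d b) := by
    intro w hw
    have := hη₀' w (Submodule.subset_span hw)
    rwa [hBf] at this
  refine ⟨η₀, hη₀, h1, ?_⟩
  ext y
  rw [mem_yLocus_iff P E κ hκ hE d hd F b hb, Set.mem_singleton_iff]
  constructor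
  · rintro ⟨hy1, hy2⟩
    have h2 : ∀ a ∈ Submodule.span R F.corners,
        P.toLinearMap a y = P.toLinearMap a (E η₀) := by
      intro a ha
      apply pairing_eq_of_mem_span P F.corners y (E η₀) _ a ha
      intro w hw
      rw [hy2 w hw, h1 w hw]
    set δ := E.symm y - η₀ with hδ
    have hδV : δ ∈ Submodule.span R F.corners := Submodule.sub_mem _ hy1 hη₀
    have h3 : P.toLinearMap δ (E δ) = 0 := by
      have : E δ = y - E η₀ := by rw [hδ, map_sub, LinearEquiv.apply_symm_apply]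
      rw [this, map_sub, h2 δ hδV, sub_self]
    have h4 : δ = 0 := by
      by_contra hne
      exact (hEp δ hne).ne' h3
    have : E.symm y = η₀ := sub_eq_zero.1 h4
    rw [← this, LinearEquiv.apply_symm_apply]
  · rintro rfl
    refine ⟨by rwa [LinearEquiv.symm_apply_apply], h1⟩


theorem exists_mem_cham (F : Facet P) : ∃ b : P.Base, b ∈ F.cham := by
  obtain ⟨ξ, b, hξF, hξ⟩ := exists_adapted P F
  have hF : F = Facet.ofVec P ξ := Facet.ext hξF.symm
  exact ⟨b, hF ▸ mem_cham_ofVec P b ξ hξ⟩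

theorem mem_cham_of_adapted (F : Facet P) (ξ : M) (hξF : sgnVec P ξ = F.sgn) (b : P.Base)
    (hξ : ξ ∈ closedChamber b) : b ∈ F.cham := by
  have hF : F = Facet.ofVec P ξ := Facet.ext hξF.symm
  exact hF ▸ mem_cham_ofVec P b ξ hξ

theorem dualSolid_pairing (d : P.Base → N) (hd : IsCCS d) (F : Facet P) (y : N)
    (hy : y ∈ dualSolid d F) (c : P.Base) (hc : c ∈ F.cham) (a : M)
    (ha : a ∈ Submodule.span R F.corners) :
    P.toLinearMap a y = P.toLinearMap a (d c) := by
  apply pairing_eq_of_mem_span P F.corners y (d c) _ a ha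
  intro w hw
  have h1 := (dualSolid_subset P d hd F hy).1
  simp only [Set.mem_iInter] at h1
  exact h1 w hw c (corners_subset_baseCorners P F c hc hw)

include hκ hE hEs hEp in
theorem special_point (d : P.Base → N) (hd : IsCCS d) (F : Facet P) (hF : IsSpecial d F) :
    ∃ y₀ : N, yLocus d F = {y₀} ∧ F.dualCarrier ∩ dualSolid d F = {y₀} := by
  obtain ⟨b, hb⟩ := exists_mem_cham P F
  obtain ⟨η₀, hη₀, h1, hy⟩ := exists_yPoint P E κ hκ hE hEs hEp d hd F b hb
  refine ⟨E η₀, hy, ?_⟩
  rw [← hF.subset_singleton_iff, ← hy]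
  rintro y ⟨hy1, hy2⟩
  exact ⟨(dualSolid_subset P d hd F hy2).1, Submodule.subset_span hy1⟩

theorem coroot'_eq_zero_of_mem_span_corners (F : Facet P) (ξ : M) (hξF : sgnVec P ξ = F.sgn)
    (b : P.Base) (hξ : ξ ∈ closedChamber b) (j : ι) (hj : j ∈ b.support)
    (hj0 : P.coroot' j ξ = 0) (η : M) (hη : η ∈ Submodule.span R F.corners) :
    P.coroot' j η = 0 := by
  classical
  have hle : Submodule.span R F.corners ≤ LinearMap.ker (P.coroot' j) := by
    rw [Submodule.span_le, corners_eq P F ξ hξF b hξ]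
    rintro m ⟨k, hk, rfl⟩
    show P.coroot' j (fundWeight b k) = 0
    have := coroot'_fundWeight P b k ⟨j, hj⟩
    rw [if_neg] at this
    · exact this
    · intro h; rw [← h] at hk; simp only at hk; rw [hj0] at hk; exact lt_irrefl _ hk
  exact hle hη

include hκ hE in
theorem root'_E_eq (b : P.Base) (η : M) (i : ι) :
    P.root' i (E η) = ∑ j : b.support, (P.coroot' j η / κ j) * P.root' i (fundCoweight b j) := by
  conv_lhs => rw [eq_sum_fundWeight P b η]
  rw [map_sum, map_sum]
  apply Finset.sum_congr rfl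
  intro j _
  rw [map_smul, map_smul, smul_eq_mul, fundCoweight_eq P E κ hκ hE b j, map_smul, smul_eq_mul]
  field_simp [(hκ j).ne']

include hκ hE in
theorem root'_psi (F : Facet P) (ξ : M) (hξF : sgnVec P ξ = F.sgn)
    (b : P.Base) (hξ : ξ ∈ closedChamber b) (j0 : b.support) (hj0 : 0 < P.coroot' j0 ξ)
    (i : ι) (hi : i ∈ F.Psi (fundWeight b j0)) (η : M) (hη : η ∈ Submodule.span R F.corners) :
    P.root' i (E η) = P.coroot' j0 η / κ j0 := by
  classical
  rw [root'_E_eq P E κ hκ hE b η i, Finset.sum_eq_single_of_mem j0 (Finset.mem_univ _)]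
  · rw [hi.1 _ ⟨b, j0, rfl, rfl⟩, mul_one]
  · intro k _ hk
    rcases (hξ k k.2).lt_or_eq with h1 | h1
    · have hkc : fundWeight b k ∈ F.corners := by
        rw [corners_eq P F ξ hξF b hξ]; exact ⟨k, h1, rfl⟩
      have hne : fundWeight b k ≠ fundWeight b j0 := fun h => hk (fundWeight_injective P b h)
      rw [hi.2 _ hkc hne _ ⟨b, k, rfl, rfl⟩, mul_zero]
    · rw [coroot'_eq_zero_of_mem_span_corners P F ξ hξF b hξ k k.2 h1.symm η hη, zero_div,
        zero_mul]

include hκ hE in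
theorem numInv_eq_card_mul (d : P.Base → N) (hd : IsCCS d) (F : Facet P) (ξ : M)
    (hξF : sgnVec P ξ = F.sgn) (b : P.Base) (hξ : ξ ∈ closedChamber b) (j0 : b.support)
    (hj0 : 0 < P.coroot' j0 ξ) (y : N) (hy : y ∈ dualSolid d F)
    (hyV : E.symm y ∈ Submodule.span R F.corners) (c : P.Base) (hc : c ∈ F.cham) :
    F.numInv d (fundWeight b j0) c =
      ((Set.toFinite (F.Psi (fundWeight b j0))).toFinset.card : R) *
        (P.coroot' j0 (E.symm y) / κ j0) := by
  have hm : fundWeight b j0 ∈ F.corners := by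
    rw [corners_eq P F ξ hξF b hξ]; exact ⟨j0, hj0, rfl⟩
  have h1 : F.numInv d (fundWeight b j0) c =
      ∑ i ∈ (Set.toFinite (F.Psi (fundWeight b j0))).toFinset, P.root' i y := by
    show ∑ i ∈ (Set.toFinite (F.Psi (fundWeight b j0))).toFinset, P.root' i (d c) = _
    rw [sum_root'_eq, sum_root'_eq]
    exact (dualSolid_pairing P d hd F y hy c hc _ (sum_root_psi_mem_span P F _ hm)).symm
  rw [h1, Finset.sum_congr rfl (g := fun _ => P.coroot' j0 (E.symm y) / κ j0)]
  · rw [Finset.sum_const, nsmul_eq_mul]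
  · intro i hi
    have hi' : i ∈ F.Psi (fundWeight b j0) := by simpa using hi
    have := root'_psi P E κ hκ hE F ξ hξF b hξ j0 hj0 i hi' (E.symm y) hyV
    rwa [LinearEquiv.apply_symm_apply] at this

theorem mem_psi_self (F : Facet P) (ξ : M) (hξF : sgnVec P ξ = F.sgn)
    (b : P.Base) (hξ : ξ ∈ closedChamber b) (j0 : b.support) :
    (j0 : ι) ∈ F.Psi (fundWeight b j0) := by
  constructor
  · intro x hx
    rw [corr_unique P _ x _ hx ⟨b, j0, rfl, rfl⟩]
    exact root'_fundCoweight_self b j0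
  · intro w' hw' hne x hx
    rw [corners_eq P F ξ hξF b hξ] at hw'
    obtain ⟨k, hk, rfl⟩ := hw'
    rw [corr_unique P _ x _ hx ⟨b, k, rfl, rfl⟩]
    apply root'_fundCoweight_of_ne b k j0
    intro h; apply hne; rw [h]

include hκ hE in
theorem special_iff (d : P.Base → N) (hd : IsCCS d) (F : Facet P) :
    ((∀ m ∈ F.corners, ∀ b ∈ F.cham, 0 < F.numInv d m b) ∧
        (dualSolid d F ∩ (Submodule.span R F.dualCarrier : Set N)).Nonempty) ↔
      IsSpecial d F := by
  obtain ⟨ξ, b, hξF, hξ⟩ := exists_adapted P F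
  have hb : b ∈ F.cham := mem_cham_of_adapted P F ξ hξF b hξ
  constructor
  · rintro ⟨hS1, y, hy1, hy2⟩
    refine ⟨y, ?_, hy1⟩
    have hyV := (mem_span_dualCarrier_iff P E κ hκ hE F y).1 hy2
    rw [mem_dualCarrier_iff P E κ hκ hE, carrier_eq P F ξ hξF b hξ]
    intro j hj
    refine ⟨fun hjpos => ?_, fun hj0 =>
      coroot'_eq_zero_of_mem_span_corners P F ξ hξF b hξ j hj hj0 _ hyV⟩
    have hm : fundWeight b ⟨j, hj⟩ ∈ F.corners := by
      rw [corners_eq P F ξ hξF b hξ]; exact ⟨⟨j, hj⟩, hjpos, rfl⟩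
    have h1 := hS1 _ hm b hb
    rw [numInv_eq_card_mul P E κ hκ hE d hd F ξ hξF b hξ ⟨j, hj⟩ hjpos y hy1 hyV b hb] at h1
    have hcard : (0 : R) ≤ ((Set.toFinite (F.Psi (fundWeight b ⟨j, hj⟩))).toFinset.card : R) :=
      Nat.cast_nonneg _
    have h2 : 0 < P.coroot' j (E.symm y) / κ j := by
      by_contra hneg
      push Not at hneg
      have := mul_nonpos_of_nonneg_of_nonpos hcard hneg
      exact absurd h1 (not_lt.2 this)
    have := mul_pos h2 (hκ j)
    rwa [div_mul_cancel₀ _ (hκ j).ne'] at this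
  · rintro ⟨y, hy1, hy2⟩
    refine ⟨?_, y, hy2, Submodule.subset_span hy1⟩
    intro m hm c hc
    have hm' := hm
    rw [corners_eq P F ξ hξF b hξ] at hm'
    obtain ⟨j0, hj0, rfl⟩ := hm'
    have hyV := (mem_span_dualCarrier_iff P E κ hκ hE F y).1 (Submodule.subset_span hy1)
    rw [numInv_eq_card_mul P E κ hκ hE d hd F ξ hξF b hξ j0 hj0 y hy2 hyV c hc]
    have hη := (mem_dualCarrier_iff P E κ hκ hE F y).1 hy1
    rw [carrier_eq P F ξ hξF b hξ] at hη
    have h2 := (hη j0 j0.2).1 hj0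
    apply mul_pos
    · have : 0 < (Set.toFinite (F.Psi (fundWeight b j0))).toFinset.card := by
        rw [Finset.card_pos]
        exact ⟨j0, by simpa using mem_psi_self P F ξ hξF b hξ j0⟩
      exact_mod_cast this
    · exact div_pos h2 (hκ j0)

end special2

end Groth.Agent.Lib.Helper21.RootChLib
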