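import Mathlib
import Groth.Prelude.Def_RootCh2
import Groth.Agent.Lib.Helper21.RootChLib12

namespace Groth.Agent.Lib.Helper21.RootChLib

open RootCh Module

universe u v w x

section special3
variable {ι : Type u} {R : Type v} {M : Type w} {N : Type x}
  [Field R] [LinearOrder R] [IsStrictOrderedRing R]
  [AddCommGroup M] [Module R M] [AddCommGroup N] [Module R N] [Finite ι]
  (P : RootPairing ι R M N) [P.IsRootSystem] [P.IsCrystallographic] [P.IsReduced]

/-- the value of the solid at a chamber is minimal for pairings with dominant vectors -/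
theorem pairing_le_of_mem_closedChamber (d : P.Base → N) (hd : IsCCS d) (c : P.Base) (a : M)
    (ha : a ∈ closedChamber c) (y : N) (hy : y ∈ solid d) :
    P.toLinearMap a (d c) ≤ P.toLinearMap a y := by
  rw [eq_sum_fundWeight P c a]
  simp only [map_sum, map_smul, LinearMap.sum_apply, LinearMap.smul_apply, smul_eq_mul]
  apply Finset.sum_le_sum
  intro j _
  apply mul_le_mul_of_nonneg_left _ (ha j j.2)
  rw [solid_eq P d hd] at hy
  simp only [Set.mem_iInter] at hy
  have hm : fundWeight c j ∈ baseCorners c := by rw [baseCorners_eq]; exact ⟨j, rfl⟩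
  exact hy (fundWeight c j) (Set.mem_iUnion.2 ⟨c, hm⟩) c hm

theorem dualSolid_subset_solid (d : P.Base → N) (F : Facet P) : dualSolid d F ⊆ solid d :=
  convexHull_mono (Set.image_subset_range _ _)

/-- the degree at a chamber is at most the degree evaluated at any point of the solid -/
theorem deg_le_sum (d : P.Base → N) (hd : IsCCS d) (G : Facet P) (c : P.Base) (hc : c ∈ G.cham)
    (y : N) (hy : y ∈ solid d) :
    G.deg d c ≤ ∑ i ∈ (Set.toFinite G.parab).toFinset, P.root' i y := by
  show ∑ i ∈ (Set.toFinite G.parab).toFinset, P.root' i (d c) ≤ _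
  rw [sum_root'_eq, sum_root'_eq]
  exact pairing_le_of_mem_closedChamber P d hd c _ (hc (sum_root_parab_mem_carrier P G)) y hy

/-- twice the sum over the parabolic set is the signed sum over all roots -/
theorem two_mul_sum_parab [Fintype ι] (G : Facet P) (y : N) :
    2 * ∑ i ∈ (Set.toFinite G.parab).toFinset, P.root' i y =
      ∑ i, ((G.sgn i : SignType) : R) * P.root' i y := by
  classical
  let σ : Equiv.Perm ι := Function.Involutive.toPerm (fun i => P.reflectionPerm i i)
    (reflectionPerm_neg_idx P)
  have hσ : ∀ i, σ i = P.reflectionPerm i i := fun i => rfl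
  have h1 : ∑ i ∈ (Set.toFinite G.parab).toFinset, P.root' i y =
      ∑ i, if G.sgn i ≠ -1 then P.root' i y else 0 := by
    rw [← Finset.sum_filter]
    apply Finset.sum_congr _ (fun _ _ => rfl)
    ext i
    simp [Facet.parab]
  have h2 : ∑ i, (if G.sgn i ≠ -1 then P.root' i y else 0) =
      ∑ i, if G.sgn i ≠ 1 then - P.root' i y else 0 := by
    rw [← Equiv.sum_comp σ]
    apply Finset.sum_congr rfl
    intro i _
    rw [hσ, sgn_reflectionPerm_self, root'_reflectionPerm_self]
    have : (- G.sgn i ≠ -1) ↔ (G.sgn i ≠ 1) := by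
      rw [ne_eq, ne_eq, neg_inj]
    simp only [this]
  rw [two_mul]
  conv_lhs => rw [h1]
  conv_lhs => enter [2]; rw [h2]
  rw [← Finset.sum_add_distrib]
  apply Finset.sum_congr rfl
  intro i _
  rcases h : G.sgn i with _ | _ | _
  · simp
  · simp
  · simp

end special3

section special4
variable {ι : Type u} {R : Type v} {M : Type w} {N : Type x}
  [Field R] [LinearOrder R] [IsStrictOrderedRing R]
  [AddCommGroup M] [Module R M] [AddCommGroup N] [Module R N] [Finite ι]
  (P : RootPairing ι R M N) [P.IsRootSystem] [P.IsCrystallographic] [P.IsReduced]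

theorem sgn_mul_le_abs (s : SignType) (x : R) : ((s : SignType) : R) * x ≤ |x| := by
  rcases s with _ | _ | _
  · simp
  · simp [neg_le_abs]
  · simp [le_abs_self]

theorem sign_mul_eq_abs (x : R) : ((SignType.sign x : SignType) : R) * x = |x| := by
  rcases lt_trichotomy x 0 with h | h | h
  · rw [sign_neg h, abs_of_neg h]; simp
  · rw [h]; simp
  · rw [sign_pos h, abs_of_pos h]; simp

/-- the degree of a special facet, evaluated at its point -/
theorem deg_eq_sum_of_mem_dualSolid (d : P.Base → N) (hd : IsCCS d) (F : Facet P) (b : P.Base)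
    (hb : b ∈ F.cham) (y : N) (hy : y ∈ dualSolid d F) :
    F.deg d b = ∑ i ∈ (Set.toFinite F.parab).toFinset, P.root' i y := by
  show ∑ i ∈ (Set.toFinite F.parab).toFinset, P.root' i (d b) = _
  rw [sum_root'_eq, sum_root'_eq]
  refine (dualSolid_pairing P d hd F y hy b hb _ ?_).symm
  rw [← span_carrier_eq P F]
  exact Submodule.subset_span (sum_root_parab_mem_carrier P F)

theorem special_greatest (d : P.Base → N) (hd : IsCCS d) (F : Facet P) (b : P.Base)
    (hb : b ∈ F.cham) (hF : IsSpecial d F) :
    (∀ (G : Facet P) (c : P.Base), c ∈ G.cham → G.deg d c ≤ F.deg d b) ∧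
      ∀ (G : Facet P) (c : P.Base), c ∈ G.cham → G.deg d c = F.deg d b → G ≤ F := by
  haveI : Fintype ι := Fintype.ofFinite ι
  obtain ⟨y, hy1, hy2⟩ := hF
  have hys : y ∈ solid d := dualSolid_subset_solid P d F hy2
  have hFdeg := deg_eq_sum_of_mem_dualSolid P d hd F b hb y hy2
  have hFsgn : ∀ i, F.sgn i = SignType.sign (P.root' i y) := fun i => (congrFun hy1 i).symm
  have hF2 : 2 * F.deg d b = ∑ i, |P.root' i y| := by
    rw [hFdeg, two_mul_sum_parab]
    apply Finset.sum_congr rfl
    intro i _
    rw [hFsgn, sign_mul_eq_abs]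
  have hG2 : ∀ (G : Facet P) (c : P.Base), c ∈ G.cham →
      2 * G.deg d c ≤ ∑ i, ((G.sgn i : SignType) : R) * P.root' i y := by
    intro G c hc
    rw [← two_mul_sum_parab]
    exact mul_le_mul_of_nonneg_left (deg_le_sum P d hd G c hc y hys) zero_le_two
  constructor
  · intro G c hc
    have h1 := hG2 G c hc
    have h2 : ∑ i, ((G.sgn i : SignType) : R) * P.root' i y ≤ ∑ i, |P.root' i y| :=
      Finset.sum_le_sum fun i _ => sgn_mul_le_abs _ _
    linarith
  · intro G c hc hdeg
    have h1 := hG2 G c hc
    have h2 : ∑ i, ((G.sgn i : SignType) : R) * P.root' i y ≤ ∑ i, |P.root' i y| :=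
      Finset.sum_le_sum fun i _ => sgn_mul_le_abs _ _
    have h3 : ∑ i, ((G.sgn i : SignType) : R) * P.root' i y = ∑ i, |P.root' i y| := by
      apply le_antisymm h2
      rw [← hF2, ← hdeg]; exact h1
    have h4 := (Finset.sum_eq_sum_iff_of_le (fun i _ => sgn_mul_le_abs (G.sgn i) (P.root' i y))).1 h3
    intro i
    rw [hFsgn]
    have h5 := h4 i (Finset.mem_univ _)
    rcases lt_trichotomy (P.root' i y) 0 with h | h | h
    · right
      rw [sign_neg h]
      rw [abs_of_neg h] at h5
      rcases hG : G.sgn i with _ | _ | _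
      · rw [hG] at h5; simp at h5; exact absurd h5 h.ne
      · rfl
      · rw [hG] at h5; simp at h5; linarith
    · left; rw [h]; simp
    · right
      rw [sign_pos h]
      rw [abs_of_pos h] at h5
      rcases hG : G.sgn i with _ | _ | _
      · rw [hG] at h5; simp at h5; exact absurd h5 h.ne
      · rw [hG] at h5; simp at h5; linarith
      · rfl

end special4

end Groth.Agent.Lib.Helper21.RootChLib
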