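import Mathlib
import Groth.Prelude.Def_RootCh2
import Groth.Agent.Lib.Helper21.RootChLib13

namespace Groth.Agent.Lib.Helper21.RootChLib

open RootCh Module

universe u v w x


section special5
variable {ι : Type u} {R : Type v} {M : Type w} {N : Type x}
  [Field R] [LinearOrder R] [IsStrictOrderedRing R]
  [AddCommGroup M] [Module R M] [AddCommGroup N] [Module R N] [Finite ι]
  (P : RootPairing ι R M N) [P.IsRootSystem] [P.IsCrystallographic] [P.IsReduced]

theorem mem_span_corners_iff (F : Facet P) (ξ : M) (hξF : sgnVec P ξ = F.sgn)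
    (b : P.Base) (hξ : ξ ∈ closedChamber b) (η : M) :
    η ∈ Submodule.span R F.corners ↔
      ∀ k ∈ b.support, P.coroot' k ξ = 0 → P.coroot' k η = 0 := by
  constructor
  · intro hη k hk hk0
    exact coroot'_eq_zero_of_mem_span_corners P F ξ hξF b hξ k hk hk0 η hη
  · intro h
    rw [eq_sum_fundWeight P b η]
    apply Submodule.sum_mem
    intro k _
    rcases (hξ k k.2).lt_or_eq with h1 | h1
    · apply Submodule.smul_mem
      apply Submodule.subset_span
      rw [corners_eq P F ξ hξF b hξ]
      exact ⟨k, h1, rfl⟩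
    · rw [h k k.2 h1.symm, zero_smul]
      exact Submodule.zero_mem _

theorem coroot'_eq_zero_of_sgn_eq_zero (G : Facet P) (i : ι) (hi : G.sgn i = 0) (η : M)
    (hη : η ∈ Submodule.span R G.carrier) : P.coroot' i η = 0 := by
  have hle : Submodule.span R G.carrier ≤ LinearMap.ker (P.coroot' i) := by
    rw [Submodule.span_le]
    intro m hm
    have : sgnVec P m i = 0 := by rw [hm, hi]
    exact sign_eq_zero_iff.1 this
  exact hle hη

variable (E : M ≃ₗ[R] N) (κ : ι → R) (hκ : ∀ i, 0 < κ i)
  (hE : ∀ i m, P.coroot' i m = κ i * P.root' i (E m))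

include hκ hE in
theorem root'_E (i : ι) (η : M) : P.root' i (E η) = (κ i)⁻¹ * P.coroot' i η := by
  rw [hE, ← mul_assoc, inv_mul_cancel₀ (hκ i).ne', one_mul]

theorem deg_eq_sum_of_mem_span (d : P.Base → N) (V : Submodule R M) (G : Facet P) (c : P.Base)
    (y : N) (hV : (∑ i ∈ (Set.toFinite G.parab).toFinset, P.root i) ∈ V)
    (hy : ∀ a ∈ V, P.toLinearMap a y = P.toLinearMap a (d c)) :
    G.deg d c = ∑ i ∈ (Set.toFinite G.parab).toFinset, P.root' i y := by
  show ∑ i ∈ (Set.toFinite G.parab).toFinset, P.root' i (d c) = _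
  rw [sum_root'_eq, sum_root'_eq, hy _ hV]

end special5



section special6
variable {ι : Type u} {R : Type v} {M : Type w} {N : Type x}
  [Field R] [LinearOrder R] [IsStrictOrderedRing R]
  [AddCommGroup M] [Module R M] [AddCommGroup N] [Module R N] [Finite ι]
  (P : RootPairing ι R M N) [P.IsRootSystem] [P.IsCrystallographic] [P.IsReduced]

variable (E : M ≃ₗ[R] N) (κ : ι → R) (hκ : ∀ i, 0 < κ i)
  (hE : ∀ i m, P.coroot' i m = κ i * P.root' i (E m))

include hκ hE in
theorem yPoint_mem_carrier (d : P.Base → N) (F : Facet P) (b : P.Base)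
    (hb : b ∈ F.cham)
    (hmax : ∀ (G : Facet P) (c : P.Base), c ∈ G.cham → G.deg d c ≤ F.deg d b)
    (hmaxl : ∀ (G : Facet P) (c : P.Base), c ∈ G.cham → G.deg d c = F.deg d b → F ≤ G → G = F)
    (η₀ : M) (hη₀ : η₀ ∈ Submodule.span R F.corners)
    (hpair : ∀ a ∈ Submodule.span R F.corners,
      P.toLinearMap a (E η₀) = P.toLinearMap a (d b)) :
    η₀ ∈ F.carrier := by
  classical
  haveI : Fintype ι := Fintype.ofFinite ι
  obtain ⟨ξ, hξF⟩ := F.exists_sgnVec_eq
  have hξ : ξ ∈ closedChamber b := hb hξF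
  rw [carrier_eq P F ξ hξF b hξ]
  intro j hj
  refine ⟨fun hjpos => ?_, fun hj0 =>
    coroot'_eq_zero_of_mem_span_corners P F ξ hξF b hξ j hj hj0 η₀ hη₀⟩
  set ω := fundWeight b ⟨j, hj⟩ with hω
  set cj := P.coroot' j ξ with hcj
  set ξj := ξ - cj • ω with hξj
  have hωval : ∀ k (hk : k ∈ b.support), P.coroot' k ω = if k = j then 1 else 0 := by
    intro k hk
    rw [hω, coroot'_fundWeight P b ⟨j, hj⟩ ⟨k, hk⟩]
    by_cases hkj : k = j
    · subst hkj; simp
    · rw [if_neg (fun h => hkj (congrArg Subtype.val h)), if_neg hkj]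
  have hval : ∀ k (hk : k ∈ b.support),
      P.coroot' k ξj = if k = j then 0 else P.coroot' k ξ := by
    intro k hk
    rw [hξj, map_sub, map_smul, smul_eq_mul, hωval k hk]
    by_cases hkj : k = j
    · subst hkj; simp [hcj]
    · rw [if_neg hkj, if_neg hkj]; simp
  have hξjc : ξj ∈ closedChamber b := by
    intro k hk
    rw [hval k hk]; split_ifs
    · exact le_rfl
    · exact hξ k hk
  set G := Facet.ofVec P ξj with hG
  have hGsgn : sgnVec P ξj = G.sgn := rfl
  have hGc : b ∈ G.cham := mem_cham_ofVec P b ξj hξjc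
  have hFG : F ≤ G := by
    intro i
    have := sgnVec_eq_zero_or_eq P b ξ ξj hξ hξjc (fun k hk hpos => by
      rw [hval k hk] at hpos; split_ifs at hpos with h
      · exact absurd hpos (lt_irrefl _)
      · exact hpos) i
    rw [hξF] at this
    exact this
  have hGj : G.sgn j = 0 := by
    show SignType.sign (P.coroot' j ξj) = 0
    rw [hval j hj, if_pos rfl, sign_zero]
  have hFj : F.sgn j = 1 := by
    rw [← hξF]; show SignType.sign (P.coroot' j ξ) = 1
    exact sign_pos hjpos
  have hne : G ≠ F := by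
    intro h; rw [h, hFj] at hGj; exact absurd hGj (by decide)
  have hlt : G.deg d b < F.deg d b := by
    apply lt_of_le_of_ne (hmax G b hGc)
    intro h; exact hne (hmaxl G b hGc h hFG)
  -- carrier of G inside the span of the corners of F
  have hGV : G.carrier ⊆ Submodule.span R F.corners := by
    intro η hη
    rw [SetLike.mem_coe, mem_span_corners_iff P F ξ hξF b hξ]
    intro k hk hk0
    rw [carrier_eq P G ξj hGsgn b hξjc] at hη
    apply (hη k hk).2
    rw [hval k hk]; split_ifs
    · rfl
    · exact hk0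
  have hdG := deg_eq_sum_of_mem_span P d (Submodule.span R F.corners) G b (E η₀)
    (hGV (sum_root_parab_mem_carrier P G)) hpair
  have hdF := deg_eq_sum_of_mem_span P d (Submodule.span R F.corners) F b (E η₀)
    (by rw [← span_carrier_eq P F]; exact Submodule.subset_span (sum_root_parab_mem_carrier P F))
    hpair
  set ej := P.coroot' j η₀ with hej
  -- the vector η₀ - ej • ω lies in the span of G
  have hspanG : η₀ - ej • ω ∈ Submodule.span R G.carrier := by
    rw [span_carrier_eq P G, mem_span_corners_iff P G ξj hGsgn b hξjc]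
    intro k hk hk0
    rw [map_sub, map_smul, smul_eq_mul, hωval k hk]
    by_cases hkj : k = j
    · subst hkj; simp [hej]
    · rw [if_neg hkj, mul_zero, sub_zero]
      rw [hval k hk, if_neg hkj] at hk0
      exact coroot'_eq_zero_of_mem_span_corners P F ξ hξF b hξ k hk hk0 η₀ hη₀
  have hterm : ∀ i, ∃ t : R, 0 ≤ t ∧
      (((F.sgn i : SignType) : R) - ((G.sgn i : SignType) : R)) * P.root' i (E η₀) = ej * t := by
    intro i
    rcases hFG i with h0 | h0
    · have h1 : P.coroot' i (η₀ - ej • ω) = 0 :=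
        coroot'_eq_zero_of_sgn_eq_zero P G i h0 _ hspanG
      rw [map_sub, map_smul, smul_eq_mul, sub_eq_zero] at h1
      have h2 : P.coroot' i ξj = 0 := sign_eq_zero_iff.1 h0
      have h3 : P.coroot' i ξ = cj * P.coroot' i ω := by
        have : ξ = ξj + cj • ω := by rw [hξj]; abel
        rw [this, map_add, map_smul, smul_eq_mul, h2, zero_add]
      have h4 : F.sgn i = SignType.sign (P.coroot' i ω) := by
        rw [← hξF]; show SignType.sign (P.coroot' i ξ) = _
        rw [h3, sign_mul, sign_pos hjpos, one_mul]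
      refine ⟨(κ i)⁻¹ * |P.coroot' i ω|, mul_nonneg (inv_pos.2 (hκ i)).le (abs_nonneg _), ?_⟩
      rw [h0, root'_E P E κ hκ hE, h1, h4, SignType.coe_zero, sub_zero,
        ← sign_mul_eq_abs (P.coroot' i ω)]
      ring
    · refine ⟨0, le_rfl, ?_⟩
      rw [h0, sub_self, zero_mul, mul_zero]
  choose t ht0 ht using hterm
  have hsum : 2 * F.deg d b - 2 * G.deg d b = ej * ∑ i, t i := by
    rw [hdF, hdG, two_mul_sum_parab, two_mul_sum_parab, ← Finset.sum_sub_distrib, Finset.mul_sum]
    apply Finset.sum_congr rfl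
    intro i _
    rw [← ht i]; ring
  have hT : 0 ≤ ∑ i, t i := Finset.sum_nonneg fun i _ => ht0 i
  by_contra hneg
  push Not at hneg
  have := mul_nonpos_of_nonpos_of_nonneg hneg hT
  linarith

end special6



section special7
variable {ι : Type u} {R : Type v} {M : Type w} {N : Type x}
  [Field R] [LinearOrder R] [IsStrictOrderedRing R]
  [AddCommGroup M] [Module R M] [AddCommGroup N] [Module R N] [Finite ι]
  (P : RootPairing ι R M N) [P.IsRootSystem] [P.IsCrystallographic] [P.IsReduced]

variable (E : M ≃ₗ[R] N) (κ : ι → R) (hκ : ∀ i, 0 < κ i)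
  (hE : ∀ i m, P.coroot' i m = κ i * P.root' i (E m))

include hκ hE in
theorem yPoint_pairing_ge (d : P.Base → N) (hd : IsCCS d) (F : Facet P) (b : P.Base)
    (hb : b ∈ F.cham)
    (hmax : ∀ (G : Facet P) (c : P.Base), c ∈ G.cham → G.deg d c ≤ F.deg d b)
    (η₀ : M) (hη₀ : η₀ ∈ Submodule.span R F.corners)
    (hpair : ∀ a ∈ Submodule.span R F.corners,
      P.toLinearMap a (E η₀) = P.toLinearMap a (d b))
    (c : P.Base) (hc : c ∈ F.cham) (k : c.support) :
    P.toLinearMap (fundWeight c k) (d c) ≤ P.toLinearMap (fundWeight c k) (E η₀) := by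
  classical
  haveI : Fintype ι := Fintype.ofFinite ι
  obtain ⟨ξ, hξF⟩ := F.exists_sgnVec_eq
  have hξ : ξ ∈ closedChamber c := hc hξF
  have hpairc : ∀ a ∈ Submodule.span R F.corners,
      P.toLinearMap a (E η₀) = P.toLinearMap a (d c) := by
    intro a ha
    rw [hpair a ha]
    exact pairing_eq_of_mem_span_corners P d hd F b c hb hc a ha
  set ω := fundWeight c k with hω
  rcases (hξ k k.2).lt_or_eq with hkpos | hk0
  · have : ω ∈ F.corners := by
      rw [corners_eq P F ξ hξF c hξ]; exact ⟨k, hkpos, rfl⟩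
    rw [hpairc ω (Submodule.subset_span this)]
  · have hk0' : P.coroot' k ξ = 0 := hk0.symm
    set ξ' := ξ + ω with hξ'
    have hωval : ∀ l (hl : l ∈ c.support), P.coroot' l ω = if l = (k : ι) then 1 else 0 := by
      intro l hl
      rw [hω, coroot'_fundWeight P c k ⟨l, hl⟩]
      by_cases hlk : l = (k : ι)
      · rw [if_pos hlk, if_pos (Subtype.ext hlk)]
      · rw [if_neg hlk, if_neg (fun h => hlk (congrArg Subtype.val h))]
    have hval : ∀ l (hl : l ∈ c.support),
        P.coroot' l ξ' = P.coroot' l ξ + if l = (k : ι) then 1 else 0 := by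
      intro l hl
      rw [hξ', map_add, hωval l hl]
    have hξ'c : ξ' ∈ closedChamber c := by
      intro l hl
      rw [hval l hl]
      have := hξ l hl
      split_ifs <;> linarith
    set G := Facet.ofVec P ξ' with hG
    have hGsgn : sgnVec P ξ' = G.sgn := rfl
    have hGc : c ∈ G.cham := mem_cham_ofVec P c ξ' hξ'c
    have hGF : G ≤ F := by
      intro i
      have := sgnVec_eq_zero_or_eq P c ξ' ξ hξ'c hξ (fun l hl hpos => by
        rw [hval l hl]
        split_ifs <;> linarith) i
      rw [hξF] at this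
      exact this
    have hdegle : G.deg d c ≤ F.deg d b := hmax G c hGc
    set A := ∑ i ∈ (Set.toFinite G.parab).toFinset, P.root i with hA
    have hAG : A ∈ G.carrier := sum_root_parab_mem_carrier P G
    have hAG' := hAG
    rw [carrier_eq P G ξ' hGsgn c hξ'c] at hAG'
    set e' := P.coroot' k A with he'
    have he'pos : 0 < e' := by
      apply (hAG' k k.2).1
      rw [hval k k.2, if_pos rfl, hk0']; simp
    have hv'V : A - e' • ω ∈ Submodule.span R F.corners := by
      rw [mem_span_corners_iff P F ξ hξF c hξ]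
      intro l hl hl0
      rw [map_sub, map_smul, smul_eq_mul, hωval l hl]
      by_cases hlk : l = (k : ι)
      · subst hlk; simp [he']
      · rw [if_neg hlk, mul_zero, sub_zero]
        apply (hAG' l hl).2
        rw [hval l hl, if_neg hlk, hl0, add_zero]
    -- the degree of G at c and at the point
    have hdG : G.deg d c = e' * P.toLinearMap ω (d c) + P.toLinearMap (A - e' • ω) (d c) := by
      show ∑ i ∈ (Set.toFinite G.parab).toFinset, P.root' i (d c) = _
      rw [sum_root'_eq, ← hA]
      simp only [map_sub, map_smul, LinearMap.sub_apply, LinearMap.smul_apply, smul_eq_mul]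
      ring
    have hAy : P.toLinearMap A (E η₀) =
        e' * P.toLinearMap ω (E η₀) + P.toLinearMap (A - e' • ω) (E η₀) := by
      simp only [map_sub, map_smul, LinearMap.sub_apply, LinearMap.smul_apply, smul_eq_mul]
      ring
    have hdF := deg_eq_sum_of_mem_span P d (Submodule.span R F.corners) F b (E η₀)
      (by rw [← span_carrier_eq P F]; exact Submodule.subset_span (sum_root_parab_mem_carrier P F))
      hpair
    have h2 : 2 * P.toLinearMap A (E η₀) = 2 * F.deg d b := by
      rw [hdF, hA, ← sum_root'_eq, two_mul_sum_parab, two_mul_sum_parab]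
      apply Finset.sum_congr rfl
      intro i _
      rcases hGF i with h0 | h0
      · have : P.coroot' i η₀ = 0 := by
          apply coroot'_eq_zero_of_sgn_eq_zero P F i h0
          rw [span_carrier_eq P F]; exact hη₀
        rw [root'_E P E κ hκ hE, this, mul_zero, mul_zero, mul_zero]
      · rw [h0]
    have h3 : P.toLinearMap A (E η₀) = F.deg d b := by linarith
    rw [hAy, hpairc _ hv'V] at h3
    have h4 : e' * P.toLinearMap ω (d c) ≤ e' * P.toLinearMap ω (E η₀) := by linarith
    exact le_of_mul_le_mul_left h4 he'pos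

include hκ hE in
theorem yPoint_mem_dualSolid (d : P.Base → N) (hd : IsCCS d) (F : Facet P) (b : P.Base)
    (hb : b ∈ F.cham)
    (hmax : ∀ (G : Facet P) (c : P.Base), c ∈ G.cham → G.deg d c ≤ F.deg d b)
    (η₀ : M) (hη₀ : η₀ ∈ Submodule.span R F.corners)
    (hpair : ∀ a ∈ Submodule.span R F.corners,
      P.toLinearMap a (E η₀) = P.toLinearMap a (d b)) :
    E η₀ ∈ dualSolid d F := by
  apply subset_dualSolid P d F
  refine ⟨?_, ?_⟩
  · simp only [Set.mem_iInter]
    intro m hm c hmc
    rw [hpair m (Submodule.subset_span hm)]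
    exact hd.corner_eq b c m (corners_subset_baseCorners P F b hb hm) hmc
  · simp only [Set.mem_iInter]
    intro m hm c' hmc'
    simp only [Facet.corners', Set.mem_iUnion] at hm
    obtain ⟨c, hc, hmc⟩ := hm
    rw [← hd.corner_eq c c' m hmc hmc']
    rw [baseCorners_eq] at hmc
    obtain ⟨k, rfl⟩ := hmc
    exact yPoint_pairing_ge P E κ hκ hE d hd F b hb hmax η₀ hη₀ hpair c hc k

end special7



section special8
variable {ι : Type u} {R : Type v} {M : Type w} {N : Type x}
  [Field R] [LinearOrder R] [IsStrictOrderedRing R]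
  [AddCommGroup M] [Module R M] [AddCommGroup N] [Module R N] [Finite ι]
  (P : RootPairing ι R M N) [P.IsRootSystem] [P.IsCrystallographic] [P.IsReduced]

theorem special_of_maximal (d : P.Base → N) (hd : IsCCS d) (F : Facet P) (b : P.Base)
    (hb : b ∈ F.cham)
    (hmax : ∀ (G : Facet P) (c : P.Base), c ∈ G.cham → G.deg d c ≤ F.deg d b)
    (hmaxl : ∀ (G : Facet P) (c : P.Base), c ∈ G.cham → G.deg d c = F.deg d b → F ≤ G → G = F) :
    IsSpecial d F := by
  obtain ⟨E, κ, hκ, hE, hEs, hEp⟩ := exists_polarization' P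
  obtain ⟨η₀, hη₀, h1, -⟩ := exists_yPoint P E κ hκ hE hEs hEp d hd F b hb
  have hpair : ∀ a ∈ Submodule.span R F.corners,
      P.toLinearMap a (E η₀) = P.toLinearMap a (d b) :=
    fun a ha => pairing_eq_of_mem_span P F.corners _ _ h1 a ha
  refine ⟨E η₀, ?_, yPoint_mem_dualSolid P E κ hκ hE d hd F b hb hmax η₀ hη₀ hpair⟩
  rw [mem_dualCarrier_iff P E κ hκ hE, LinearEquiv.symm_apply_apply]
  exact yPoint_mem_carrier P E κ hκ hE d F b hb hmax hmaxl η₀ hη₀ hpair

theorem finite_facet : Finite (Facet P) :=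
  Finite.of_injective (fun F : Facet P => F.sgn) (fun _ _ h => Facet.ext h)

theorem existsUnique_special (d : P.Base → N) (hd : IsCCS d) :
    ∃! F : Facet P, IsSpecial d F := by
  classical
  haveI := finite_facet P
  haveI : Nonempty (Facet P) := ⟨Facet.origin P⟩
  choose ch hch using exists_mem_cham P
  let deg' : Facet P → R := fun F => F.deg d (ch F)
  have hdeg : ∀ (F : Facet P) (c : P.Base), c ∈ F.cham → F.deg d c = deg' F :=
    fun F c hc => deg_eq_deg P d hd F c (ch F) hc (hch F)
  obtain ⟨F₀, hF₀⟩ := Finite.exists_max deg'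
  obtain ⟨F₁, hF₁, hF₁max⟩ :=
    (Set.toFinite {G : Facet P | deg' G = deg' F₀}).exists_maximal ⟨F₀, rfl⟩
  have hF₁' : deg' F₁ = deg' F₀ := hF₁
  refine ⟨F₁, ?_, ?_⟩
  · apply special_of_maximal P d hd F₁ (ch F₁) (hch F₁)
    · intro G c hc
      rw [hdeg G c hc]
      show deg' G ≤ deg' F₁
      rw [hF₁']; exact hF₀ G
    · intro G c hc hG hle
      rw [hdeg G c hc] at hG
      have hG' : deg' G = deg' F₀ := by rw [hG]; exact hF₁'
      exact le_antisymm (hF₁max hG' hle) hle
  · intro F hF
    have hS1 : IsSpecial d F₁ := by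
      apply special_of_maximal P d hd F₁ (ch F₁) (hch F₁)
      · intro G c hc
        rw [hdeg G c hc]
        show deg' G ≤ deg' F₁
        rw [hF₁']; exact hF₀ G
      · intro G c hc hG hle
        rw [hdeg G c hc] at hG
        have hG' : deg' G = deg' F₀ := by rw [hG]; exact hF₁'
        exact le_antisymm (hF₁max hG' hle) hle
    have h1 := special_greatest P d hd F (ch F) (hch F) hF
    have h2 := special_greatest P d hd F₁ (ch F₁) (hch F₁) hS1
    have heq : F.deg d (ch F) = F₁.deg d (ch F₁) :=
      le_antisymm (h2.1 F (ch F) (hch F)) (h1.1 F₁ (ch F₁) (hch F₁))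
    exact le_antisymm (h2.2 F (ch F) (hch F) heq) (h1.2 F₁ (ch F₁) (hch F₁) heq.symm)

end special8

end Groth.Agent.Lib.Helper21.RootChLib
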