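import Mathlib
import Groth.Prelude.Def_RootCh2
import Groth.Agent.Lib.Helper21.RootChLib14

namespace Groth.Agent.Lib.Helper21.RootChLib

open RootCh Module

universe u v w x


section quad
variable {R : Type v} {N : Type x} [Field R] [LinearOrder R] [IsStrictOrderedRing R]
  [AddCommGroup N] [Module R N]

/-- first order condition at a point of minimal norm of a convex set -/
theorem first_order (B : LinearMap.BilinForm R N) (hBs : ∀ y z : N, B y z = B z y)
    (hBp : ∀ y : N, y ≠ 0 → 0 < B y y) (S : Set N) (hS : Convex R S) (y₀ : N) (hy₀ : y₀ ∈ S)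
    (hmin : ∀ y ∈ S, B y₀ y₀ ≤ B y y) (y : N) (hy : y ∈ S) : B y₀ y₀ ≤ B y₀ y := by
  by_contra hlt
  push Not at hlt
  set v := y - y₀ with hv
  set a := B y₀ v with ha
  have ha' : a = B y₀ y - B y₀ y₀ := by rw [ha, hv, map_sub]
  have haneg : a < 0 := by rw [ha']; linarith
  have hvne : v ≠ 0 := by
    intro h0
    rw [ha, h0, map_zero] at haneg
    exact lt_irrefl _ haneg
  set q := B v v with hq
  have hqpos : 0 < q := hBp v hvne
  set t := min 1 (-a / q) with ht
  have ht0 : 0 < t := lt_min one_pos (div_pos (neg_pos.2 haneg) hqpos)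
  have ht1 : t ≤ 1 := min_le_left _ _
  have htq : t * q ≤ -a := by
    have : t ≤ -a / q := min_le_right _ _
    calc t * q ≤ (-a / q) * q := mul_le_mul_of_nonneg_right this hqpos.le
      _ = -a := div_mul_cancel₀ _ hqpos.ne'
  have hz : (1 - t) • y₀ + t • y ∈ S := hS hy₀ hy (by linarith) ht0.le (by ring)
  have hzeq : (1 - t) • y₀ + t • y = y₀ + t • v := by
    rw [hv]; module
  rw [hzeq] at hz
  have h1 := hmin _ hz
  have h2 : B (y₀ + t • v) (y₀ + t • v) = B y₀ y₀ + 2 * t * a + t * t * q := by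
    simp only [map_add, map_smul, LinearMap.add_apply, LinearMap.smul_apply, smul_eq_mul]
    rw [hBs v y₀]
    ring
  rw [h2] at h1
  have h3 : t * (2 * a + t * q) < 0 := mul_neg_of_pos_of_neg ht0 (by linarith)
  nlinarith

end quad

section metric
variable {ι : Type u} {R : Type v} {M : Type w} {N : Type x}
  [Field R] [LinearOrder R] [IsStrictOrderedRing R]
  [AddCommGroup M] [Module R M] [AddCommGroup N] [Module R N] [Finite ι]
  (P : RootPairing ι R M N) [P.IsRootSystem] [P.IsCrystallographic] [P.IsReduced]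

variable (B : LinearMap.BilinForm R N) (hBs : ∀ y z : N, B y z = B z y)
  (hBp : ∀ y : N, y ≠ 0 → 0 < B y y)
  (hBi : ∀ (i : ι) (y z : N), B (P.coreflection i y) (P.coreflection i z) = B y z)

include hBi in
theorem two_mul_B_coroot (i : ι) (y : N) :
    2 * B y (P.coroot i) = P.root' i y * B (P.coroot i) (P.coroot i) := by
  have h := hBi i y (P.coroot i)
  rw [P.coreflection_apply_self, P.coreflection_apply] at h
  simp only [map_sub, map_neg, map_smul, LinearMap.sub_apply, LinearMap.neg_apply,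
    LinearMap.smul_apply, smul_eq_mul] at h
  linarith

/-- the vector of `M` representing `B y₀` -/
noncomputable def dualVec (y₀ : N) : M := P.toPerfPair.symm (B y₀)

theorem dualVec_pairing (y₀ z : N) : P.toLinearMap (dualVec P B y₀) z = B y₀ z := by
  have h : P.toLinearMap (P.toPerfPair.symm (B y₀)) = B y₀ :=
    P.toLinearMap.apply_symm_toPerfPair_self _
  show P.toLinearMap (P.toPerfPair.symm (B y₀)) z = _
  rw [h]

include hBp hBi in
theorem sgnVec_dualVec (y₀ : N) : sgnVec P (dualVec P B y₀) = cosgnVec P y₀ := by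
  funext i
  show SignType.sign (P.coroot' i (dualVec P B y₀)) = SignType.sign (P.root' i y₀)
  have h1 : P.coroot' i (dualVec P B y₀) = B y₀ (P.coroot i) := dualVec_pairing P B y₀ _
  have h2 := two_mul_B_coroot P B hBi i y₀
  have hne : P.coroot i ≠ 0 := P.flip.ne_zero i
  have hpos : 0 < B (P.coroot i) (P.coroot i) := hBp _ hne
  have h3 : P.coroot' i (dualVec P B y₀) =
      P.root' i y₀ * (B (P.coroot i) (P.coroot i) / 2) := by
    rw [h1]; linarith
  rw [h3, sign_mul, sign_pos (half_pos hpos), mul_one]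

end metric



section metric2
variable {ι : Type u} {R : Type v} {M : Type w} {N : Type x}
  [Field R] [LinearOrder R] [IsStrictOrderedRing R]
  [AddCommGroup M] [Module R M] [AddCommGroup N] [Module R N] [Finite ι]
  (P : RootPairing ι R M N) [P.IsRootSystem] [P.IsCrystallographic] [P.IsReduced]

variable (B : LinearMap.BilinForm R N) (hBs : ∀ y z : N, B y z = B z y)
  (hBp : ∀ y : N, y ≠ 0 → 0 < B y y)
  (hBi : ∀ (i : ι) (y z : N), B (P.coreflection i y) (P.coreflection i z) = B y z)

include hBs hBp hBi in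
theorem special_isMin (d : P.Base → N) (hd : IsCCS d) (F : Facet P) (hF : IsSpecial d F) :
    ∃ y₀ : N, yLocus d F = {y₀} ∧ y₀ ∈ solid d ∧
      ∀ y ∈ solid d, y ≠ y₀ → B y₀ y₀ < B y y := by
  obtain ⟨E, κ, hκ, hE, hEs, hEp⟩ := exists_polarization' P
  obtain ⟨y₀, hy, hint⟩ := special_point P E κ hκ hE hEs hEp d hd F hF
  have hmem : y₀ ∈ F.dualCarrier ∩ dualSolid d F := by rw [hint]; rfl
  refine ⟨y₀, hy, dualSolid_subset_solid P d F hmem.2, ?_⟩
  intro y hys hne
  set ξ₀ : M := dualVec P B y₀ with hξ₀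
  have hξ₀F : sgnVec P ξ₀ = F.sgn := by
    rw [hξ₀, sgnVec_dualVec P B hBp hBi]; exact hmem.1
  obtain ⟨c, hc⟩ := exists_mem_cham P F
  have hξ₀c : ξ₀ ∈ closedChamber c := hc hξ₀F
  have h1 := pairing_le_of_mem_closedChamber P d hd c ξ₀ hξ₀c y hys
  have h2 : P.toLinearMap ξ₀ y₀ = P.toLinearMap ξ₀ (d c) :=
    dualSolid_pairing P d hd F y₀ hmem.2 c hc ξ₀
      (by rw [← span_carrier_eq P F]; exact Submodule.subset_span hξ₀F)
  rw [← h2, hξ₀, dualVec_pairing, dualVec_pairing] at h1
  have hv : y - y₀ ≠ 0 := sub_ne_zero.2 hne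
  have h3 := hBp _ hv
  have h4 : B (y - y₀) (y - y₀) = B y y - 2 * B y₀ y + B y₀ y₀ := by
    simp only [map_sub, LinearMap.sub_apply]
    rw [hBs y y₀]; ring
  linarith

variable (E : M ≃ₗ[R] N) (κ : ι → R) (hκ : ∀ i, 0 < κ i)
  (hE : ∀ i m, P.coroot' i m = κ i * P.root' i (E m))

include hκ hE in
/-- chambers minimising a linear form in the facet direction have their value in the dual solid -/
theorem mem_dualSolid_of_minimal (d : P.Base → N) (hd : IsCCS d) (F : Facet P) (ξ₀ : M)
    (hξ₀F : sgnVec P ξ₀ = F.sgn) (μ : R) (hμ : ∀ c : P.Base, μ ≤ P.toLinearMap ξ₀ (d c)) :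
    ∀ (n : ℕ) (c : P.Base), {i | c.IsPos i ∧ P.coroot' i ξ₀ < 0}.ncard = n →
      P.toLinearMap ξ₀ (d c) = μ → d c ∈ dualSolid d F := by
  intro n
  induction n with
  | zero =>
    intro c hn _
    have hempty : {i | c.IsPos i ∧ P.coroot' i ξ₀ < 0} = ∅ := by
      rwa [Set.ncard_eq_zero (Set.toFinite _)] at hn
    have hξ₀c : ξ₀ ∈ closedChamber c := by
      intro k hk
      by_contra hcon
      push Not at hcon
      have : k ∈ ({i | c.IsPos i ∧ P.coroot' i ξ₀ < 0} : Set ι) :=
        ⟨RootPairing.Base.isPos_of_mem_support hk, hcon⟩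
      rw [hempty] at this
      exact this
    have hc : c ∈ F.cham := mem_cham_of_adapted P F ξ₀ hξ₀F c hξ₀c
    exact subset_convexHull R _ ⟨c, hc, rfl⟩
  | succ n ih =>
    intro c hn hcμ
    have hne : ({i | c.IsPos i ∧ P.coroot' i ξ₀ < 0} : Set ι).Nonempty := by
      rw [← Set.ncard_pos (Set.toFinite _), hn]; exact Nat.succ_pos n
    obtain ⟨j₀, hj₀1, hj₀2⟩ := hne
    have hex : ∃ i ∈ c.support, P.coroot' i ξ₀ < 0 := by
      by_contra hcon
      push Not at hcon
      have := coroot'_nonneg_of_isPos P E κ hκ hE c ξ₀ hcon j₀ hj₀1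
      linarith
    obtain ⟨i, hi, hineg⟩ := hex
    obtain ⟨c', hc'0⟩ := exists_reflected_base P c i hi
    have hc' := reflected_isPos_iff P c c' i hi hc'0
    obtain ⟨t, ht, hdiff⟩ := reflected_diff P c c' i hi hc' E κ hκ hE d hd
    have hdc' : d c' = d c + t • P.coroot i := by rw [← hdiff]; abel
    have hpair : P.toLinearMap ξ₀ (d c') = μ + t * P.coroot' i ξ₀ := by
      rw [hdc', map_add, map_smul, smul_eq_mul, hcμ]; rfl
    have ht0 : t = 0 := by
      have h1 := hμ c'
      rw [hpair] at h1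
      by_contra htne
      have htpos : 0 < t := lt_of_le_of_ne ht (Ne.symm htne)
      have := mul_neg_of_pos_of_neg htpos hineg
      linarith
    have hdeq : d c' = d c := by rw [hdc', ht0, zero_smul, add_zero]
    have hset : {j | c'.IsPos j ∧ P.coroot' j ξ₀ < 0} =
        {j | c.IsPos j ∧ P.coroot' j ξ₀ < 0} \ {i} := by
      ext j
      simp only [Set.mem_ofPred_eq, Set.mem_sdiff, Set.mem_singleton_iff]
      rw [hc' j]
      constructor
      · rintro ⟨h1 | h1, h2⟩
        · exact ⟨⟨h1.1, h2⟩, h1.2⟩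
        · exfalso
          rw [h1, coroot'_reflectionPerm_self] at h2
          linarith
      · rintro ⟨⟨h1, h2⟩, h3⟩
        exact ⟨Or.inl ⟨h1, h3⟩, h2⟩
    have hmem : i ∈ {j | c.IsPos j ∧ P.coroot' j ξ₀ < 0} :=
      ⟨RootPairing.Base.isPos_of_mem_support hi, hineg⟩
    have hn' : {j | c'.IsPos j ∧ P.coroot' j ξ₀ < 0}.ncard = n := by
      rw [hset, Set.ncard_diff_singleton_of_mem hmem, hn]
      rfl
    have := ih c' hn' (by rw [hdeq]; exact hcμ)
    rwa [hdeq] at this

include hBs hBp hBi in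
theorem isSpecial_of_isMin (d : P.Base → N) (hd : IsCCS d) (y₀ : N) (hy₀ : y₀ ∈ solid d)
    (hmin : ∀ y ∈ solid d, B y₀ y₀ ≤ B y y) (F : Facet P) (hF : y₀ ∈ F.dualCarrier) :
    IsSpecial d F ∧ yLocus d F = {y₀} := by
  obtain ⟨E, κ, hκ, hE, hEs, hEp⟩ := exists_polarization' P
  set ξ₀ : M := dualVec P B y₀ with hξ₀
  have hξ₀F : sgnVec P ξ₀ = F.sgn := by
    rw [hξ₀, sgnVec_dualVec P B hBp hBi]; exact hF
  set μ := B y₀ y₀ with hμ
  have hfo : ∀ y ∈ solid d, μ ≤ B y₀ y :=
    fun y hy => first_order B hBs hBp (solid d) (convex_convexHull R _) y₀ hy₀ hmin y hy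
  have hfo' : ∀ c : P.Base, μ ≤ P.toLinearMap ξ₀ (d c) := by
    intro c
    rw [hξ₀, dualVec_pairing]
    exact hfo _ (subset_convexHull R _ (Set.mem_range_self c))
  have hA : ∀ c : P.Base, B y₀ (d c) = μ → d c ∈ dualSolid d F := by
    intro c hc
    apply mem_dualSolid_of_minimal P E κ hκ hE d hd F ξ₀ hξ₀F μ hfo' _ c rfl
    rw [hξ₀, dualVec_pairing]; exact hc
  let T : Set N := {y | μ ≤ B y₀ y ∧ (B y₀ y = μ → y ∈ dualSolid d F)}
  have hTconv : Convex R T := by
    intro p hp q hq a b ha hb hab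
    have hval : B y₀ (a • p + b • q) = a * B y₀ p + b * B y₀ q := by
      simp only [map_add, map_smul, smul_eq_mul]
    refine ⟨?_, ?_⟩
    · rw [hval]
      have h1 := mul_le_mul_of_nonneg_left hp.1 ha
      have h2 := mul_le_mul_of_nonneg_left hq.1 hb
      have : a * μ + b * μ = μ := by rw [← add_mul, hab, one_mul]
      linarith
    · intro heq
      rw [hval] at heq
      rcases ha.eq_or_lt with ha0 | hapos
      · have hb1 : b = 1 := by rw [← ha0, zero_add] at hab; exact hab
        rw [← ha0, hb1, zero_smul, zero_add, one_smul]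
        apply hq.2
        rw [← ha0, hb1] at heq; linarith
      rcases hb.eq_or_lt with hb0 | hbpos
      · have ha1 : a = 1 := by rw [← hb0, add_zero] at hab; exact hab
        rw [← hb0, ha1, zero_smul, add_zero, one_smul]
        apply hp.2
        rw [← hb0, ha1] at heq; linarith
      have h1 := mul_le_mul_of_nonneg_left hp.1 ha
      have h2 := mul_le_mul_of_nonneg_left hq.1 hb
      have hsum : a * μ + b * μ = μ := by rw [← add_mul, hab, one_mul]
      have hp' : B y₀ p = μ := by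
        have : a * B y₀ p = a * μ := by linarith
        exact mul_left_cancel₀ hapos.ne' this
      have hq' : B y₀ q = μ := by
        have : b * B y₀ q = b * μ := by linarith
        exact mul_left_cancel₀ hbpos.ne' this
      exact convex_convexHull R _ (hp.2 hp') (hq.2 hq') ha hb hab
  have hsub : solid d ⊆ T := by
    apply convexHull_min _ hTconv
    rintro _ ⟨c, rfl⟩
    refine ⟨?_, hA c⟩
    have := hfo' c
    rwa [hξ₀, dualVec_pairing] at this
  have hy₀D : y₀ ∈ dualSolid d F := (hsub hy₀).2 rfl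
  have hsp : IsSpecial d F := ⟨y₀, hF, hy₀D⟩
  refine ⟨hsp, ?_⟩
  obtain ⟨y₁, hy, hint⟩ := special_point P E κ hκ hE hEs hEp d hd F hsp
  have : y₀ ∈ ({y₁} : Set N) := by rw [← hint]; exact ⟨hF, hy₀D⟩
  rw [Set.mem_singleton_iff] at this
  rw [this]; exact hy

end metric2

end Groth.Agent.Lib.Helper21.RootChLib
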