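import Mathlib

/-!
# A trivial Kan fibration has a section which is a homotopy inverse
-/

set_option autoImplicit false
universe u
open CategoryTheory Simplicial MonoidalCategory Limits Opposite

namespace Groth.Agent.Lib.Helper21.SSetTKF

open SSet

variable {X Y : SSet.{u}}

/-- constructor for absolute homotopies -/
noncomputable def mkHomotopy (f g : X ⟶ Y) (h : X ⊗ Δ[1] ⟶ Y) (h0 : ι₀ ≫ h = f)
    (h1 : ι₁ ≫ h = g) : SSet.Homotopy f g :=
  { h := h, h₀ := h0, h₁ := h1, rel := by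
      ext n ⟨⟨x, hx⟩, y⟩
      exact hx.elim }

lemma mono_desc : Mono (coprod.desc (ι₀ : X ⟶ X ⊗ Δ[1]) ι₁) := by
  rw [NatTrans.mono_iff_mono_app]
  intro n
  rw [mono_iff_injective]
  have hc : IsColimit (((evaluation _ _).obj n).mapCocone
      (BinaryCofan.mk (coprod.inl : X ⟶ X ⨿ X) coprod.inr)) :=
    isColimitOfPreserves _ (coprodIsCoprod X X)
  have hc' := (isColimitMapCoconeBinaryCofanEquiv ((evaluation _ _).obj n)
    (coprod.inl : X ⟶ X ⨿ X) coprod.inr) hc
  obtain ⟨-, -, hcompl⟩ := (Types.binaryCofan_isColimit_iff _).1 ⟨hc'⟩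
  have hcover : ∀ a : (X ⨿ X).obj n, (∃ x : X.obj n, (coprod.inl : X ⟶ X ⨿ X).app n x = a) ∨
      (∃ x : X.obj n, (coprod.inr : X ⟶ X ⨿ X).app n x = a) := by
    intro a
    have := hcompl.codisjoint.top_le (Set.mem_univ a)
    exact this
  have h0 : ∀ x : X.obj n, (coprod.desc (ι₀ : X ⟶ X ⊗ Δ[1]) ι₁).app n
      ((coprod.inl : X ⟶ X ⨿ X).app n x) = (ι₀ : X ⟶ X ⊗ Δ[1]).app n x := by
    intro x
    have := congr_app (coprod.inl_desc (ι₀ : X ⟶ X ⊗ Δ[1]) ι₁) n
    exact ConcreteCategory.congr_hom this x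
  have h1 : ∀ x : X.obj n, (coprod.desc (ι₀ : X ⟶ X ⊗ Δ[1]) ι₁).app n
      ((coprod.inr : X ⟶ X ⨿ X).app n x) = (ι₁ : X ⟶ X ⊗ Δ[1]).app n x := by
    intro x
    have := congr_app (coprod.inr_desc (ι₀ : X ⟶ X ⊗ Δ[1]) ι₁) n
    exact ConcreteCategory.congr_hom this x
  have hne : ∀ x y : X.obj n, (ι₀ : X ⟶ X ⊗ Δ[1]).app n x ≠ (ι₁ : X ⟶ X ⊗ Δ[1]).app n y := by
    intro x y h
    induction n using Opposite.rec with
    | op n =>
      induction n using SimplexCategory.rec with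
      | _ m =>
        have h2 := congrArg (fun z => z.2 0) h
        simp at h2
  intro a b hab
  rcases hcover a with ⟨x, rfl⟩ | ⟨x, rfl⟩ <;> rcases hcover b with ⟨y, rfl⟩ | ⟨y, rfl⟩
  · rw [h0, h0] at hab
    have : x = y := congrArg (fun z => z.1) hab
    rw [this]
  · rw [h0, h1] at hab
    exact absurd hab (hne x y)
  · rw [h1, h0] at hab
    exact absurd hab.symm (hne y x)
  · rw [h1, h1] at hab
    have : x = y := congrArg (fun z => z.1) hab
    rw [this]

/-- lifting of a homotopy with prescribed ends along a trivial fibration -/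
lemma exists_homotopy (f : X ⟶ Y) (hf : (MorphismProperty.monomorphisms SSet.{u}).rlp f)
    (a b : X ⟶ X) (ha : a ≫ f = f) (hb : b ≫ f = f) : Nonempty (SSet.Homotopy a b) := by
  haveI := mono_desc (X := X)
  have sq : CommSq (coprod.desc a b) (coprod.desc (ι₀ : X ⟶ X ⊗ Δ[1]) ι₁) f
      (CartesianMonoidalCategory.fst X Δ[1] ≫ f) := by
    constructor
    apply coprod.hom_ext
    · rw [coprod.inl_desc_assoc, coprod.inl_desc_assoc, ha, ι₀_fst_assoc]
    · rw [coprod.inr_desc_assoc, coprod.inr_desc_assoc, hb, ι₁_fst_assoc]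
  haveI : HasLiftingProperty (coprod.desc (ι₀ : X ⟶ X ⊗ Δ[1]) ι₁) f :=
    hf _ (MorphismProperty.monomorphisms.infer_property _)
  refine ⟨mkHomotopy a b sq.lift ?_ ?_⟩
  · have := congrArg (fun k => coprod.inl ≫ k) sq.fac_left
    simpa only [coprod.inl_desc_assoc, coprod.inl_desc] using this
  · have := congrArg (fun k => coprod.inr ≫ k) sq.fac_left
    simpa only [coprod.inr_desc_assoc, coprod.inr_desc] using this

theorem main (f : X ⟶ Y) (hf : SSet.modelCategoryQuillen.I.rlp f) :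
    ∃ g : Y ⟶ X, g ≫ f = 𝟙 Y ∧ Nonempty (SSet.Homotopy (𝟙 X) (f ≫ g)) ∧
      Nonempty (SSet.Homotopy (f ≫ g) (𝟙 X)) := by
  rw [← rlp_monomorphisms] at hf
  have sq : CommSq (Subcomplex.isInitialBot.to X) (⊥ : Y.Subcomplex).ι f (𝟙 Y) :=
    ⟨Subcomplex.isInitialBot.hom_ext _ _⟩
  haveI : HasLiftingProperty (⊥ : Y.Subcomplex).ι f :=
    hf _ (MorphismProperty.monomorphisms.infer_property _)
  refine ⟨sq.lift, sq.fac_right, ?_, ?_⟩
  · exact exists_homotopy f hf _ _ (Category.id_comp _)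
      (by rw [Category.assoc, sq.fac_right, Category.comp_id])
  · exact exists_homotopy f hf _ _
      (by rw [Category.assoc, sq.fac_right, Category.comp_id]) (Category.id_comp _)

end Groth.Agent.Lib.Helper21.SSetTKF
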