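import Mathlib
import Groth.Agent.Lib.Helper21.SepFTD
import Groth.Agent.Lib.Helper21.GeomRegB

set_option autoImplicit false
set_option linter.style.haveILetI false

namespace Groth.Agent.Lib.Helper21.SepFT

open TensorProduct IsLocalRing

universe u

section final

theorem formallySmooth_away_iff {k₀ k C : Type u} [Field k₀] [Field k] [Algebra k₀ k]
    [Algebra.FormallySmooth k₀ k] [CommRing C] [Algebra k C] [Algebra k₀ C] [IsScalarTower k₀ k C]
    [Algebra.FiniteType k C] (f : C) :
    Algebra.FormallySmooth k₀ (Localization.Away f) ↔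
      (PrimeSpectrum.basicOpen f : Set (PrimeSpectrum C)) ⊆ Algebra.smoothLocus k₀ C := by
  have hcomap := Algebra.smoothLocus_comap_of_isLocalization (R := k₀) (A := C)
    (Af := Localization.Away f) f
  have hrange := PrimeSpectrum.localization_away_comap_range (Localization.Away f) f
  constructor
  · intro h p hp
    rw [← hrange] at hp
    obtain ⟨q', rfl⟩ := hp
    have h1 : q' ∈ Algebra.smoothLocus k₀ (Localization.Away f) := by
      show Algebra.FormallySmooth k₀ (Localization.AtPrime q'.asIdeal)
      haveI : Algebra.FormallySmooth (Localization.Away f) (Localization.AtPrime q'.asIdeal) :=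
        Algebra.FormallySmooth.of_isLocalization q'.asIdeal.primeCompl
      exact Algebra.FormallySmooth.comp k₀ (Localization.Away f) _
    rw [← hcomap] at h1
    exact h1
  · intro h
    haveI : Algebra.FiniteType k (Localization.Away f) := inferInstance
    apply formallySmooth_of_smoothLocus_eq_univ k₀ k (Localization.Away f)
    rw [← hcomap, Set.eq_univ_iff_forall]
    intro q'
    apply h
    rw [← hrange]
    exact ⟨q', rfl⟩

theorem S4578_aux {k₀ k C : Type u} [Field k₀] [Field k] [Algebra k₀ k]
    [Algebra.FormallySmooth k₀ k] [CommRing C] [Algebra k C] [Algebra k₀ C] [IsScalarTower k₀ k C]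
    [Algebra.FiniteType k C]
    (p : Ideal C) [p.IsPrime] :
    [Algebra.FormallySmooth k₀ (Localization.AtPrime p),
     CAlgX.IsAdicFormallySmooth k₀ (Localization.AtPrime p) (maximalIdeal (Localization.AtPrime p)),
     ∃ f : C, f ∉ p ∧ Algebra.FormallySmooth k₀ (Localization.Away f),
     CAlg.IsGeometricallyRegular k₀ (Localization.AtPrime p)].TFAE := by
  haveI : IsNoetherianRing C := Algebra.FiniteType.isNoetherianRing k C
  haveI : IsNoetherianRing (Localization.AtPrime p) :=
    IsLocalization.isNoetherianRing p.primeCompl _ inferInstance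
  tfae_have 1 → 2 := fun h =>
    Groth.Agent.Lib.Helper21.CohenStruct.isAdicFormallySmooth_of_formallySmooth _
  tfae_have 2 → 1 := fun h => by
    haveI : Algebra.EssFiniteType k (Localization.AtPrime p) := inferInstance
    exact formallySmooth_of_isAdicFormallySmooth_of_essFiniteType (k := k) h
  tfae_have 2 → 4 := fun h =>
    Groth.Agent.Lib.Helper21.CohenStruct.isGeometricallyRegular_of_isAdicFormallySmooth _ _ h
  tfae_have 4 → 2 := fun h => by
    rw [Groth.Agent.Lib.Helper21.PthRoot.S4573_aux (ringExpChar k₀)]
    intro k' _ _ hfin _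
    exact h k' hfin
  tfae_have 1 → 3 := fun h => by
    have hp : (⟨p, ‹_›⟩ : PrimeSpectrum C) ∈ Algebra.smoothLocus k₀ C := h
    obtain ⟨_, ⟨_, ⟨f, rfl⟩, rfl⟩, hxf, hf⟩ :=
      PrimeSpectrum.isBasis_basic_opens.exists_subset_of_mem_open hp (isOpen_smoothLocus k₀ k C)
    exact ⟨f, hxf, (formallySmooth_away_iff (k := k) f).mpr hf⟩
  tfae_have 3 → 1 := by
    rintro ⟨f, hf, h⟩
    exact (formallySmooth_away_iff (k := k) f).mp h (show (⟨p, ‹_›⟩ : PrimeSpectrum C) ∈ _ from hf)
  tfae_finish

theorem S4579_aux {k₀ k C : Type u} [Field k₀] [Field k] [Algebra k₀ k]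
    [Algebra.FormallySmooth k₀ k] [CommRing C] [Algebra k C] [Algebra k₀ C] [IsScalarTower k₀ k C]
    [Algebra.FiniteType k C] :
    [Algebra.FormallySmooth k₀ C,
     ∀ (p : Ideal C) [p.IsPrime], Algebra.FormallySmooth k₀ (Localization.AtPrime p),
     ∀ (m : Ideal C) [m.IsMaximal], Algebra.FormallySmooth k₀ (Localization.AtPrime m),
     CAlg.IsGeometricallyRegular k₀ C].TFAE := by
  haveI : IsNoetherianRing C := Algebra.FiniteType.isNoetherianRing k C
  tfae_have 1 → 2 := fun h p _ => by
    haveI : Algebra.FormallySmooth C (Localization.AtPrime p) :=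
      Algebra.FormallySmooth.of_isLocalization p.primeCompl
    exact Algebra.FormallySmooth.comp k₀ C _
  tfae_have 2 → 3 := fun h m _ => h m
  tfae_have 3 → 1 := fun h => formallySmooth_of_forall_maximal k₀ k C h
  tfae_have 2 → 4 := fun h k' _ _ hfin => by
    haveI := hfin
    haveI := Groth.Agent.Lib.Helper21.GeomReg.isNoetherianRing_baseChange_finite k₀ C k'
    exact Groth.Agent.Lib.Helper21.GeomReg.isRegularRing_baseChange_of_forall_adicFS k₀ C
      (fun p _ => by
        haveI := h p
        exact Groth.Agent.Lib.Helper21.CohenStruct.isAdicFormallySmooth_of_formallySmooth _) k'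
  tfae_have 4 → 2 := fun h p _ => by
    have h1 := Groth.Agent.Lib.Helper21.GeomReg.forall_adicFS_of_isGeometricallyRegular k₀ C h p
    haveI : Algebra.EssFiniteType k (Localization.AtPrime p) := inferInstance
    exact formallySmooth_of_isAdicFormallySmooth_of_essFiniteType (k := k) h1
  tfae_finish

end final

end Groth.Agent.Lib.Helper21.SepFT
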