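import Mathlib

/-!
# The simplicial set freely generated by an `m`-truncated simplicial set has dimension `≤ m`
-/

set_option autoImplicit false
universe u
open CategoryTheory Simplicial Opposite

namespace Groth.Agent.Lib.Helper21.SkDim

open SSet

lemma hasDimensionLT_ofSimplex {X : SSet.{u}} {i : ℕ} (x : X _⦋i⦌) :
    HasDimensionLT (Subcomplex.ofSimplex x) (i + 1) := by
  have h : Subcomplex.ofSimplex x = Subcomplex.range (yonedaEquiv.symm x) := by
    rw [Subcomplex.range_eq_ofSimplex, Equiv.apply_symm_apply]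
  rw [h]
  infer_instance

lemma hasDimensionLT_skeleton (X : SSet.{u}) (n : ℕ) : HasDimensionLT (X.skeleton n) n := by
  have h : X.skeleton n = ⨆ (i : Fin n) (x : X.nonDegenerate i), Subcomplex.ofSimplex x.1 := rfl
  rw [h, hasDimensionLT_iSup_iff]
  intro i
  rw [hasDimensionLT_iSup_iff]
  intro x
  haveI := hasDimensionLT_ofSimplex x.1
  exact hasDimensionLT_of_le (Subcomplex.ofSimplex x.1) (i + 1) n (by omega)

theorem main (m : ℕ) (U : SSet.Truncated.{u} m) :
    ((SSet.Truncated.sk m).obj U).HasDimensionLT (m + 1) := by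
  obtain ⟨X, hX⟩ : ∃ X : SSet.{u}, X = (SSet.Truncated.sk m).obj U := ⟨_, rfl⟩
  rw [← hX]
  let A := X.skeleton (m + 1)
  haveI := hasDimensionLT_skeleton X (m + 1)
  have hj : IsIso ((truncation m).map A.ι) := by
    rw [NatTrans.isIso_iff_isIso_app]
    intro d
    rw [isIso_iff_bijective]
    induction d using Opposite.rec with
    | op d =>
    obtain ⟨K, hK⟩ := d
    induction K using SimplexCategory.rec with
    | _ i =>
    constructor
    · intro a b h
      exact Subtype.ext h
    · intro x
      exact ⟨⟨x, X.mem_skeleton x (Nat.lt_succ_of_le hK)⟩, rfl⟩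
  let η : U ⟶ (truncation m).obj X := (skAdj m).unit.app U ≫ (truncation m).map (eqToHom hX.symm)
  let r : X ⟶ A := eqToHom hX ≫
    ((skAdj m).homEquiv U A).symm (η ≫ inv ((truncation m).map A.ι))
  have hr : r ≫ A.ι = 𝟙 X := by
    subst hX
    simp only [eqToHom_refl, Category.id_comp, r, η]
    apply ((skAdj m).homEquiv U _).injective
    rw [Adjunction.homEquiv_naturality_right, Equiv.apply_symm_apply, Category.assoc,
      IsIso.inv_hom_id, Category.comp_id, Adjunction.homEquiv_unit]
  haveI : IsSplitEpi A.ι := ⟨⟨r, hr⟩⟩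
  exact hasDimensionLT_of_epi A.ι (m + 1)

end Groth.Agent.Lib.Helper21.SkDim
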