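import Mathlib
import Groth.Agent.Lib.Helper21.SkDim

/-!
# The counit of the skeleton adjunction is a monomorphism with image the skeleton
-/

set_option autoImplicit false
universe u
open CategoryTheory Simplicial Opposite

namespace Groth.Agent.Lib.Helper21.SkCounit

open SSet

section general

variable {X U : SSet.{u}} (ε : X ⟶ U) (n : ℕ) [X.HasDimensionLT (n + 1)]
  (hbij : ∀ d : ℕ, d ≤ n → Function.Bijective (ε.app (op ⦋d⦌)))

include hbij in
lemma app_mem_nonDegenerate {m : ℕ} (hm : m ≤ n) (y : X _⦋m⦌) (hy : y ∈ X.nonDegenerate m) :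
    ε.app _ y ∈ U.nonDegenerate m := by
  intro hdeg
  apply hy
  obtain ⟨e, he, g, z, hz⟩ := hdeg
  obtain ⟨z', rfl⟩ := (hbij e (by omega)).2 z
  refine ⟨e, he, g, z', ?_⟩
  apply (hbij m hm).1
  have := ConcreteCategory.congr_hom (ε.naturality g.op) z'
  exact this.trans hz

lemma dim_le_of_nonDegenerate {m : ℕ} (y : X _⦋m⦌) (hy : y ∈ X.nonDegenerate m) : m ≤ n := by
  by_contra h
  push Not at h
  apply hy
  rw [X.degenerate_eq_univ_of_hasDimensionLT (n + 1) m (by omega)]
  exact Set.mem_univ _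

include hbij in
theorem mono_of_bijective : Mono ε := by
  rw [NatTrans.mono_iff_mono_app]
  intro k
  rw [mono_iff_injective]
  induction k using Opposite.rec with
  | op k =>
  induction k using SimplexCategory.rec with
  | _ k =>
  intro x₁ x₂ h
  obtain ⟨m₁, f₁, hf₁, y₁, rfl⟩ := X.exists_nonDegenerate x₁
  obtain ⟨m₂, f₂, hf₂, y₂, rfl⟩ := X.exists_nonDegenerate x₂
  have hm₁ := dim_le_of_nonDegenerate n y₁.1 y₁.2
  have hm₂ := dim_le_of_nonDegenerate n y₂.1 y₂.2
  have e₁ : ε.app _ (X.map f₁.op y₁.1) = U.map f₁.op (ε.app _ y₁.1) :=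
    ConcreteCategory.congr_hom (ε.naturality f₁.op) y₁.1
  have e₂ : ε.app _ (X.map f₂.op y₂.1) = U.map f₂.op (ε.app _ y₂.1) :=
    ConcreteCategory.congr_hom (ε.naturality f₂.op) y₂.1
  have hd : m₁ = m₂ := U.unique_nonDegenerate_dim (ε.app _ (X.map f₁.op y₁.1))
    f₁ ⟨_, app_mem_nonDegenerate ε n hbij hm₁ y₁.1 y₁.2⟩ e₁
    f₂ ⟨_, app_mem_nonDegenerate ε n hbij hm₂ y₂.1 y₂.2⟩ (h.trans e₂)
  subst hd
  have hs := U.unique_nonDegenerate_simplex (ε.app _ (X.map f₁.op y₁.1))
    f₁ ⟨_, app_mem_nonDegenerate ε n hbij hm₁ y₁.1 y₁.2⟩ e₁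
    f₂ ⟨_, app_mem_nonDegenerate ε n hbij hm₂ y₂.1 y₂.2⟩ (h.trans e₂)
  have hf := U.unique_nonDegenerate_map (ε.app _ (X.map f₁.op y₁.1))
    f₁ ⟨_, app_mem_nonDegenerate ε n hbij hm₁ y₁.1 y₁.2⟩ e₁
    f₂ ⟨_, app_mem_nonDegenerate ε n hbij hm₂ y₂.1 y₂.2⟩ (h.trans e₂)
  have hy : y₁.1 = y₂.1 := (hbij m₁ hm₁).1 (congrArg Subtype.val hs)
  rw [hf, hy]

include hbij in
theorem range_eq_skeleton : Subcomplex.range ε = U.skeleton (n + 1) := by
  apply le_antisymm
  · rw [Subcomplex.le_iff_contains_nonDegenerate]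
    rintro d ⟨u, hu⟩ ⟨x, hx⟩
    have hx' : x ∈ X.nonDegenerate d := by
      intro hdeg
      apply hu
      have := degenerate_app_apply hdeg ε
      have hx2 : ε.app _ x = u := hx
      rw [hx2] at this
      exact this
    have hd := dim_le_of_nonDegenerate n x hx'
    exact U.mem_skeleton u (Nat.lt_succ_of_le hd)
  · have h : U.skeleton (n + 1) =
        ⨆ (i : Fin (n + 1)) (x : U.nonDegenerate i), Subcomplex.ofSimplex x.1 := rfl
    rw [h]
    refine iSup_le (fun i => iSup_le (fun x => ?_))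
    rw [Subcomplex.ofSimplex_le_iff]
    obtain ⟨y, hy⟩ := (hbij i (Nat.le_of_lt_succ i.2)).2 x.1
    exact ⟨y, hy⟩

end general

theorem main (U : SSet.{u}) (n : ℕ) :
    Mono ((SSet.skAdj n).counit.app U) ∧
      SSet.Subcomplex.range ((SSet.skAdj n).counit.app U) = U.skeleton (n + 1) := by
  haveI : ((truncation n ⋙ SSet.Truncated.sk n).obj U).HasDimensionLT (n + 1) :=
    SkDim.main n _
  have htri := (skAdj n).right_triangle_components U
  haveI : IsIso ((truncation n).map ((skAdj n).counit.app U)) := by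
    have : (truncation n).map ((skAdj n).counit.app U) =
        inv ((skAdj n).unit.app ((truncation n).obj U)) := by
      rw [← cancel_epi ((skAdj n).unit.app ((truncation n).obj U)), htri, IsIso.hom_inv_id]
      rfl
    rw [this]
    infer_instance
  have hbij : ∀ d : ℕ, d ≤ n →
      Function.Bijective (((skAdj n).counit.app U).app (op ⦋d⦌)) := by
    intro d hd
    have h1 : IsIso (((truncation n).map ((skAdj n).counit.app U)).app
        (op (⟨⦋d⦌, hd⟩ : SimplexCategory.Truncated n))) := inferInstance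
    rw [isIso_iff_bijective] at h1
    exact h1
  exact ⟨mono_of_bijective _ n hbij, range_eq_skeleton _ n hbij⟩

end Groth.Agent.Lib.Helper21.SkCounit
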