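import Mathlib
import Groth.Agent.Lib.Helper18.DRSplit2
import Groth.Agent.Lib.Helper18.DRSum
import Groth.Agent.Lib.Helper18.DRPerf2
import Groth.Agent.Lib.Helper18.DRExt2
import Groth.Agent.Lib.Helper18.DRFib
import Groth.Agent.Lib.Helper18.DRHomSg
import Groth.Agent.Lib.Helper18.DRLBC

/-!
# Splitting a pseudo-coherent complex near a prime where one fibre cohomology group vanishes
-/

set_option autoImplicit false
universe u
open CategoryTheory CategoryTheory.Limits CategoryTheory.Pretriangulated DerivedCategory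
open TensorProduct

attribute [local instance] HasDerivedCategory.standard

namespace Groth.Agent.Lib.Helper21.SplitAway

open Groth.Agent.Lib.Helper18.DR

/-! ## algebra -/

section Core

lemma cancelBaseChange_nat {A B : Type u} [CommRing A] [CommRing B] [Algebra A B]
    (F : Type u) [AddCommGroup F] [Module A F] [Module B F] [IsScalarTower A B F]
    {M M' : Type u} [AddCommGroup M] [Module A M] [AddCommGroup M'] [Module A M']
    (f : M →ₗ[A] M') (z : F ⊗[B] (B ⊗[A] M)) :
    AlgebraTensorModule.cancelBaseChange A B B F M' (((f.baseChange B).lTensor F) z) =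
      (f.lTensor F) (AlgebraTensorModule.cancelBaseChange A B B F M z) := by
  induction z using TensorProduct.induction_on with
  | zero => simp
  | add x y hx hy => simp only [map_add, hx, hy]
  | tmul k y =>
    induction y using TensorProduct.induction_on with
    | zero => simp
    | add x y hx hy => simp only [tmul_add, map_add, hx, hy]
    | tmul s x => simp

variable {R : Type u} [CommRing R]

/-- a map from a finite module to a finite free module which is injective on the fibre at `p`
has a retraction up to an element outside `p` -/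
theorem exists_retraction_away (p : Ideal R) [p.IsPrime]
    {C F : Type u} [AddCommGroup C] [Module R C] [AddCommGroup F] [Module R F]
    [Module.Finite R C] [Module.Finite R F] [Module.Free R F] (u : C →ₗ[R] F)
    (hu : Function.Injective (u.lTensor p.ResidueField)) :
    ∃ (f : R) (r₁ : F →ₗ[R] C), f ∉ p ∧ r₁ ∘ₗ u = f • LinearMap.id := by
  classical
  have hup : Function.Injective
      ((u.baseChange (Localization.AtPrime p)).lTensor
        (IsLocalRing.ResidueField (Localization.AtPrime p))) := by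
    rw [injective_iff_map_eq_zero]
    intro z hz
    have h1 := cancelBaseChange_nat (A := R) (B := Localization.AtPrime p) p.ResidueField u z
    have h2 : (u.lTensor p.ResidueField)
        (AlgebraTensorModule.cancelBaseChange R (Localization.AtPrime p) (Localization.AtPrime p)
          p.ResidueField C z) = 0 := by
      rw [← h1]
      exact (congrArg _ hz).trans (map_zero _)
    have h3 := hu (h2.trans (map_zero (u.lTensor p.ResidueField)).symm)
    exact (AlgebraTensorModule.cancelBaseChange R (Localization.AtPrime p)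
      (Localization.AtPrime p) p.ResidueField C).injective (h3.trans (map_zero _).symm)
  obtain ⟨l', hl'⟩ :=
    (IsLocalRing.split_injective_iff_lTensor_residueField_injective
      (u.baseChange (Localization.AtPrime p))).2 hup
  let mC : C →ₗ[R] Localization.AtPrime p ⊗[R] C := TensorProduct.mk R (Localization.AtPrime p) C 1
  let mF : F →ₗ[R] Localization.AtPrime p ⊗[R] F := TensorProduct.mk R (Localization.AtPrime p) F 1
  have hloc : IsLocalizedModule p.primeCompl mC :=
    (isLocalizedModule_iff_isBaseChange p.primeCompl (Localization.AtPrime p) mC).2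
      (TensorProduct.isBaseChange R C (Localization.AtPrime p))
  have hFP : Module.FinitePresentation R F := Module.finitePresentation_of_projective R F
  obtain ⟨h, s, hs⟩ := Module.FinitePresentation.exists_lift_of_isLocalizedModule p.primeCompl mC
    ((l'.restrictScalars R) ∘ₗ mF)
  have h1 : mC ∘ₗ (h ∘ₗ u) = mC ∘ₗ ((s : R) • (LinearMap.id : C →ₗ[R] C)) := by
    apply LinearMap.ext
    intro c
    have e1 : mC (h (u c)) = (s : R) • l' (mF (u c)) := LinearMap.congr_fun hs (u c)
    have e2 : mF (u c) = (u.baseChange (Localization.AtPrime p)) (mC c) := by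
      simp [mF, mC]
    have e3 : l' ((u.baseChange (Localization.AtPrime p)) (mC c)) = mC c :=
      LinearMap.congr_fun hl' (mC c)
    calc (mC ∘ₗ (h ∘ₗ u)) c = mC (h (u c)) := rfl
      _ = (s : R) • mC c := by rw [e1, e2, e3]
      _ = (mC ∘ₗ ((s : R) • (LinearMap.id : C →ₗ[R] C))) c := by
          simp only [LinearMap.comp_apply, LinearMap.smul_apply, LinearMap.id_apply, map_smul]
  obtain ⟨t, ht⟩ := Module.Finite.exists_smul_of_comp_eq_of_isLocalizedModule p.primeCompl mC
    _ _ h1
  refine ⟨(t : R) * (s : R), (t : R) • h, (t * s).2, ?_⟩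
  have ht' : (t : R) • (h ∘ₗ u) = (t : R) • ((s : R) • (LinearMap.id : C →ₗ[R] C)) := ht
  rw [LinearMap.smul_comp, ht', smul_smul]

/-- the extension property over any module on which `f` is invertible -/
theorem exists_extension_away (p : Ideal R) [p.IsPrime]
    {X₀ X₁ X₂ : Type u} [AddCommGroup X₀] [Module R X₀] [AddCommGroup X₁] [Module R X₁]
    [AddCommGroup X₂] [Module R X₂] [Module.Finite R X₁] [Module.Finite R X₂] [Module.Free R X₂]
    (d' : X₀ →ₗ[R] X₁) (d : X₁ →ₗ[R] X₂) (hdd : d ∘ₗ d' = 0)
    (hex : Function.Exact (d'.lTensor p.ResidueField) (d.lTensor p.ResidueField)) :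
    ∃ f : R, f ∉ p ∧ ∀ (N : Type u) [AddCommGroup N] [Module R N] (c : N →ₗ[R] N)
      (_ : ∀ y : N, f • c y = y) (φ₀ : X₁ →ₗ[R] N), φ₀ ∘ₗ d' = 0 →
        ∃ g₀ : X₂ →ₗ[R] N, g₀ ∘ₗ d = φ₀ := by
  have hle : LinearMap.range d' ≤ LinearMap.ker d := LinearMap.range_le_ker_iff.2 hdd
  let π : X₁ →ₗ[R] X₁ ⧸ LinearMap.range d' := (LinearMap.range d').mkQ
  let u : (X₁ ⧸ LinearMap.range d') →ₗ[R] X₂ := (LinearMap.range d').liftQ d hle
  have huπ : u ∘ₗ π = d := Submodule.liftQ_mkQ _ _ _
  have hπd : π ∘ₗ d' = 0 := LinearMap.range_mkQ_comp d'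
  have hu : Function.Injective (u.lTensor p.ResidueField) := by
    rw [injective_iff_map_eq_zero]
    intro z hz
    obtain ⟨y, rfl⟩ := LinearMap.lTensor_surjective p.ResidueField
      (Submodule.mkQ_surjective (LinearMap.range d')) z
    have h1 : (d.lTensor p.ResidueField) y = 0 := by
      rw [← huπ, LinearMap.lTensor_comp]
      exact hz
    obtain ⟨x, rfl⟩ := (hex y).1 h1
    have h2 : (π.lTensor p.ResidueField) ((d'.lTensor p.ResidueField) x) =
        ((π ∘ₗ d').lTensor p.ResidueField) x := by
      rw [LinearMap.lTensor_comp]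
      rfl
    rw [h2, hπd, LinearMap.lTensor_zero, LinearMap.zero_apply]
  obtain ⟨f, r₁, hf, hr₁⟩ := exists_retraction_away p u hu
  refine ⟨f, hf, fun N _ _ c hc φ₀ hφ₀ => ?_⟩
  have hker : LinearMap.range d' ≤ LinearMap.ker φ₀ := LinearMap.range_le_ker_iff.2 hφ₀
  let φb : (X₁ ⧸ LinearMap.range d') →ₗ[R] N := (LinearMap.range d').liftQ φ₀ hker
  have hφb : φb ∘ₗ π = φ₀ := Submodule.liftQ_mkQ _ _ _
  refine ⟨c ∘ₗ φb ∘ₗ r₁, ?_⟩
  apply LinearMap.ext
  intro x
  have e1 : r₁ (u (π x)) = f • π x := LinearMap.congr_fun hr₁ (π x)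
  have e2 : d x = u (π x) := (LinearMap.congr_fun huπ x).symm
  have e3 : φb (π x) = φ₀ x := LinearMap.congr_fun hφb x
  calc (c ∘ₗ φb ∘ₗ r₁) (d x) = c (φb (r₁ (u (π x)))) := by rw [e2]; rfl
    _ = c (f • φ₀ x) := by rw [e1, map_smul, e3]
    _ = f • c (φ₀ x) := map_smul c f _
    _ = φ₀ x := hc _

end Core

/-! ## the derived category argument -/

section Derived

/-- the conclusion of the splitting statement -/
def Concl (S : Type u) [CommRing S] (i : ℤ) (Kf : Dual.D S) : Prop :=
  DRing.IsPerfect S (((tS S).truncGE (i + 1)).obj Kf) ∧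
    (∃ b : ℤ, DRing.HasTorAmplitudeIn S (i + 1) b (((tS S).truncGE (i + 1)).obj Kf)) ∧
    ∀ [HasBinaryBiproduct (((tS S).truncGE (i + 1)).obj Kf) (((tS S).truncLT i).obj Kf)],
      ∃ e : Kf ≅ (((tS S).truncGE (i + 1)).obj Kf) ⊞ (((tS S).truncLT i).obj Kf),
        e.hom ≫ biprod.fst = ((tS S).truncGEπ (i + 1)).app Kf ∧
        ((tS S).truncLTι i).app Kf ≫ e.hom = biprod.inr

theorem aux (S : Type u) [CommRing S] (i : ℤ) (Kf : Dual.D S) (G : DRing.Cx S) (b₀ : ℤ)
    (hGb : DRing.VanishesAbove G b₀) (hGff : DRing.TermwiseFiniteFree G)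
    (eG : DRing.toD G ≅ Kf)
    (key : ∀ (M' : ModuleCat.{u} S) (φ : G.X i ⟶ M')
      (_ : G.d (i - 1) i ≫ φ = 0), ∃ g : G.X (i + 1) ⟶ M', G.d i (i + 1) ≫ g = φ) :
    Concl S i Kf := by
  have hGproj : ∀ j, Module.Projective S (G.X j) := fun j => by
    have := (hGff j).2
    exact Module.Projective.of_free
  have hGk : G.IsKProjective := isKProjective_of_vanishesAbove G b₀ hGb hGproj
  -- cohomology bounded above
  have hKb : ∃ b : ℤ, ∀ j : ℤ, b < j → Subsingleton (Dual.HD S Kf j) := by
    refine ⟨b₀, fun j hj => ?_⟩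
    have : (DRing.toD G).IsLE b₀ := isLE_toD_of_vanishesAbove G b₀ hGb
    have hz : IsZero ((H S j).obj (DRing.toD G)) :=
      DerivedCategory.isZero_of_isLE _ b₀ j hj
    exact ModuleCat.subsingleton_of_isZero
      (hz.of_iso ((H S j).mapIso eG.symm))
  -- Ext vanishing
  have hβ : ∀ (M : Type u) [AddCommGroup M] [Module S M],
      Subsingleton (Kf ⟶ (shiftFunctor (Dual.D S) (-i)).obj (Dual.inD S M)) := by
    intro M _ _
    have hzero : ∀ ξ : Kf ⟶ Sg i (ModuleCat.of S M), ξ = 0 := by
      intro ξ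
      obtain ⟨φ, hφ, hξ⟩ := exists_hom_toSg G i (ModuleCat.of S M) (eG.hom ≫ ξ)
      have h0 := (Q_map_toSgMap_eq_zero_iff G i (ModuleCat.of S M) φ hφ).2 (key _ φ hφ)
      rw [h0] at hξ
      rw [← cancel_epi eG.hom, comp_zero]
      exact hξ
    exact (subsingleton_ext_iff Kf M (-i) i (by omega)).2
      ⟨fun x y => by rw [hzero x, hzero y]⟩
  obtain ⟨⟨e, he1, he2⟩, P, b, hP, hPproj, ⟨eP⟩⟩ := split_gap Kf i hKb hβ
  have hKfpc : DRing.IsPseudoCoherent' S Kf := ⟨G, b₀, hGb, hGff, ⟨eG⟩⟩
  have hpc : DRing.IsPseudoCoherent' S (((tS S).truncGE (i + 1)).obj Kf) :=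
    (isPseudoCoherent'_of_biprod _ _ (isPseudoCoherent'_of_iso e hKfpc)).2
  have hperf : DRing.IsPerfect S (((tS S).truncGE (i + 1)).obj Kf) :=
    isPerfect_of_pc_of_ext _ hpc (i + 1) b
      (fun N _ _ j hj => subsingleton_ext_of_proj _ (i + 1) b P hP hPproj eP N j hj)
  have htor : DRing.HasTorAmplitudeIn S (i + 1) b (((tS S).truncGE (i + 1)).obj Kf) :=
    ⟨P, hP, fun j => by
      have := hPproj j
      infer_instance, ⟨eP⟩⟩
  refine ⟨hperf, ⟨b, htor⟩, ?_⟩
  intro inst
  refine ⟨e ≪≫ biprod.braiding _ _, ?_, ?_⟩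
  · rw [Iso.trans_hom, Category.assoc, biprod.braiding_hom, biprod.lift_fst]
    exact he2
  · rw [Iso.trans_hom, ← Category.assoc, he1, biprod.braiding_hom]
    apply biprod.hom_ext
    · rw [Category.assoc, biprod.lift_fst, biprod.inl_snd, biprod.inr_fst]
    · rw [Category.assoc, biprod.lift_snd, biprod.inl_fst, biprod.inr_snd]

variable (R : Type u) [CommRing R]

theorem main (p : Ideal R) [p.IsPrime]
    [DRing.HasLBaseChange (algebraMap R p.ResidueField)] (i : ℤ) (K : DRing.Cx R)
    (hK : DRing.IsPseudoCoherent' R (DRing.toD K))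
    (hi : Subsingleton (Dual.HD p.ResidueField
      ((DRing.LBaseChange (algebraMap R p.ResidueField)).obj (DRing.toD K)) i)) :
    ∃ f : R, f ∉ p ∧ Concl (Localization.Away f) i
      (DRing.toD (((extM (A := R) (B := Localization.Away f)).mapHomologicalComplex
        (ComplexShape.up ℤ)).obj K)) := by
  obtain ⟨E, b₀, hEb, hEff, ⟨eE⟩⟩ := hK
  have hEproj : ∀ j, Module.Projective R (E.X j) := fun j => by
    have := (hEff j).2
    exact Module.Projective.of_free
  have hEflat : DRing.TermwiseFlat E := fun j => by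
    have := hEproj j
    infer_instance
  have hH : IsZero ((H p.ResidueField i).obj
      ((DRing.LBaseChange (algebraMap R p.ResidueField)).obj (DRing.toD E))) := by
    have h0 := isZero_H_of_subsingleton _ i hi
    exact h0.of_iso ((H p.ResidueField i).mapIso
      ((DRing.LBaseChange (algebraMap R p.ResidueField)).mapIso eE))
  have hexact := exact_lTensor_of_isZero_H_LBaseChange (κ := p.ResidueField) E b₀ hEb hEflat i hH
    (i - 1) (i + 1) (by omega) rfl
  have hdd : (E.d i (i + 1)).hom ∘ₗ (E.d (i - 1) i).hom = 0 := d_comp_d_hom E (i - 1) i (i + 1)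
  have hfin1 : Module.Finite R (E.X i) := (hEff i).1
  have hfin2 : Module.Finite R (E.X (i + 1)) := (hEff (i + 1)).1
  have hfree2 : Module.Free R (E.X (i + 1)) := (hEff (i + 1)).2
  obtain ⟨f, hf, hext⟩ := exists_extension_away p (E.d (i - 1) i).hom (E.d i (i + 1)).hom hdd hexact
  refine ⟨f, hf, ?_⟩
  refine aux (Localization.Away f) i _
    (((extM (A := R) (B := Localization.Away f)).mapHomologicalComplex
      (ComplexShape.up ℤ)).obj E) b₀ ?_ ?_ ?_ ?_
  · exact fun j hj => (extM (A := R) (B := Localization.Away f)).map_isZero (hEb j hj)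
  · intro j
    have h1 := (hEff j).1
    have h2 := (hEff j).2
    exact ⟨finite_extM (E.X j), free_extM (E.X j)⟩
  · exact ((extM (A := R) (B := Localization.Away f)).mapDerivedCategoryFactors.app E).symm ≪≫
      (extD R (Localization.Away f)).mapIso eE ≪≫
      (extM (A := R) (B := Localization.Away f)).mapDerivedCategoryFactors.app K
  · intro M' φ hφ
    let adj := ModuleCat.extendRestrictScalarsAdj.{u, u, u} (algebraMap R (Localization.Away f))
    have hφ₀ : E.d (i - 1) i ≫ adj.homEquiv _ _ φ = 0 := by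
      have h1 := adj.homEquiv_naturality_left (E.d (i - 1) i) φ
      have h2 : (extM (A := R) (B := Localization.Away f)).map (E.d (i - 1) i) ≫ φ = 0 := hφ
      rw [← h1, h2, adj.homEquiv_unit, Functor.map_zero, comp_zero]
    have hunit : IsUnit (algebraMap R (Localization.Away f) f) :=
      IsLocalization.Away.algebraMap_isUnit f
    let cM : resM (algebraMap R (Localization.Away f)) M' ⟶
        resM (algebraMap R (Localization.Away f)) M' :=
      (ModuleCat.restrictScalars.{u} (algebraMap R (Localization.Away f))).map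
        ((↑(hunit.unit⁻¹) : Localization.Away f) • 𝟙 M')
    have hc : ∀ y : resM (algebraMap R (Localization.Away f)) M', f • cM.hom y = y := by
      intro y
      show (algebraMap R (Localization.Away f) f) •
        ((↑(hunit.unit⁻¹) : Localization.Away f) • (show M' from y)) = y
      rw [smul_smul, IsUnit.mul_val_inv, one_smul]
    obtain ⟨g₀, hg₀⟩ := hext (resM (algebraMap R (Localization.Away f)) M') cM.hom hc
      (adj.homEquiv _ _ φ).hom (congrArg ModuleCat.Hom.hom hφ₀)
    let g₁ : E.X (i + 1) ⟶ resM (algebraMap R (Localization.Away f)) M' :=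
      ModuleCat.ofHom (X := E.X (i + 1)) (Y := resM (algebraMap R (Localization.Away f)) M') g₀
    have hg₁ : E.d i (i + 1) ≫ g₁ = adj.homEquiv _ _ φ := ModuleCat.hom_ext hg₀
    refine ⟨(adj.homEquiv _ _).symm g₁, ?_⟩
    apply (adj.homEquiv _ _).injective
    have h3 := adj.homEquiv_naturality_left (E.d i (i + 1)) ((adj.homEquiv _ _).symm g₁)
    refine h3.trans ?_
    rw [Equiv.apply_symm_apply]
    exact hg₁

end Derived

end Groth.Agent.Lib.Helper21.SplitAway
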