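import Mathlib
import Groth.Prelude.Def_ModSite
import Groth.Agent.Lib.Helper21.StalkFlatE
import Groth.Agent.Lib.Helper21.StalkFlatF

/-!
# Equational criterion of flatness on a ringed site: relations are locally trivial
-/

set_option autoImplicit false
universe u

open CategoryTheory Opposite MonoidalCategory TensorProduct
open Groth.Agent.Lib.Helper13 Groth.Agent.Lib.Helper13.TensorLocal
open Groth.Agent.Lib.Helper13.ModSiteTensor

namespace Groth.Agent.Lib.Helper21.StalkFlatH

section General

variable {C : Type*} [Category C] {R : Cᵒᵖ ⥤ CommRingCat.{u}}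

/-- The sub-presheaf of the unit presheaf of modules generated by sections `f i` over `U`. -/
noncomputable def idealGen {l : ℕ} (U : C) (f : Fin l → R.obj (op U)) :
    PresheafOfModules.Submodule (PresheafOfModules.unit (R ⋙ forget₂ CommRingCat RingCat)) where
  obj V := Submodule.span _ {s | ∃ (g : V.unop ⟶ U) (i : Fin l), s = R.map g.op (f i)}
  map {V V'} h := by
    rw [Submodule.span_le]
    rintro _ ⟨g, i, rfl⟩
    refine Submodule.subset_span ⟨h.unop ≫ g, i, ?_⟩
    show R.map h (R.map g.op (f i)) = R.map (h.unop ≫ g).op (f i)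
    rw [op_comp, R.map_comp]
    rfl

lemma locInj_of_injective {J : GrothendieckTopology C}
    {A B : PresheafOfModules.{u} (R ⋙ forget₂ CommRingCat RingCat)} (g : A ⟶ B)
    (hg : ∀ U : Cᵒᵖ, Function.Injective (g.app U)) : LocInj J g := by
  intro U s hs
  refine ⟨⊤, J.top_mem U, fun V k _ => ?_⟩
  have h0 : s = 0 := by
    apply hg (op U)
    rw [hs, map_zero]
  rw [h0, map_zero]

/-- Core computation: if `ι_I ▷ N` is locally injective for the ideal presheaf `I` generated by
the `f j`, then the relation `∑ f j • s j = 0` is locally trivial (when `U` receives at most one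
map from each object). -/
theorem exists_trivialization {J : GrothendieckTopology C}
    (N : PresheafOfModules.{u} (R ⋙ forget₂ CommRingCat RingCat)) (U : C)
    (hU : ∀ V : C, Subsingleton (V ⟶ U)) {n : ℕ} (f : Fin n → R.obj (op U))
    (s : Fin n → N.obj (op U)) (hrel : ∑ j, f j • s j = 0)
    (hN : LocInj J ((idealGen U f).ι ▷ N)) :
    ∃ S ∈ J U, ∀ ⦃V : C⦄ (g : V ⟶ U), S g →
      ∃ (l : ℕ) (t : Fin l → N.obj (op V)) (a : Fin n → Fin l → R.obj (op V)),
        (∀ j, N.restrictₛₗ g.op (s j) = ∑ k, a j k • t k) ∧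
        (∀ k, ∑ j, a j k * R.map g.op (f j) = 0) := by
  let I := idealGen U f
  have hmem : ∀ i, f i ∈ I.obj (op U) := fun i =>
    Submodule.subset_span ⟨𝟙 U, i, by
      show f i = R.map (𝟙 U).op (f i)
      rw [op_id, R.map_id]
      rfl⟩
  let m : Fin n → I.toPresheafOfModules.obj (op U) := fun i => ⟨f i, hmem i⟩
  let t : (I.toPresheafOfModules ⊗ N).obj (op U) := ∑ i, m i ⊗ₜ[R.obj (op U)] s i
  have ht : (I.ι ▷ N).app (op U) t = 0 := by
    have h1 : (I.ι ▷ N).app (op U) t =
        ∑ i, (show (PresheafOfModules.unit (R ⋙ forget₂ CommRingCat RingCat)).obj (op U) from f i)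
          ⊗ₜ[R.obj (op U)] s i :=
      (map_sum ((I.ι ▷ N).app (op U)).hom _ _).trans (Finset.sum_congr rfl fun i _ => rfl)
    rw [h1]
    have h2 : ∀ i,
        (show (PresheafOfModules.unit (R ⋙ forget₂ CommRingCat RingCat)).obj (op U) from f i)
          ⊗ₜ[R.obj (op U)] s i =
        (show (PresheafOfModules.unit (R ⋙ forget₂ CommRingCat RingCat)).obj (op U) from
          (1 : R.obj (op U))) ⊗ₜ[R.obj (op U)] (f i • s i) := by
      intro i
      rw [← TensorProduct.smul_tmul]
      congr 1
      exact (mul_one (f i)).symm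
    rw [Finset.sum_congr rfl (fun i _ => h2 i), ← TensorProduct.tmul_sum, hrel,
      TensorProduct.tmul_zero]
    rfl
  obtain ⟨S, hS, hS'⟩ := hN U t ht
  refine ⟨S, hS, fun V g hSg => ?_⟩
  have e0 : (I.toPresheafOfModules ⊗ N).map g.op t =
      ∑ i, I.toPresheafOfModules.restrictₛₗ g.op (m i) ⊗ₜ[R.obj (op V)]
        N.restrictₛₗ g.op (s i) :=
    (map_sum ((I.toPresheafOfModules ⊗ N).map g.op).hom _ _).trans
      (Finset.sum_congr rfl fun i _ => rfl)
  have h0 := e0.symm.trans (hS' g hSg)
  let m' : Fin n → I.obj (op V) := fun i => I.toPresheafOfModules.restrictₛₗ g.op (m i)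
  have hspan : Submodule.span (R.obj (op V)) (Set.range m') = ⊤ := by
    refine StalkFlatF.span_range_eq_top_of_generators
      (A := (R ⋙ forget₂ CommRingCat RingCat).obj (op V))
      (M := (PresheafOfModules.unit (R ⋙ forget₂ CommRingCat RingCat)).obj (op V))
      {s | ∃ (g' : V ⟶ U) (i : Fin n), s = R.map g'.op (f i)} m' ?_
    rintro _ ⟨g', i, rfl⟩
    have hg' : g' = g := (hU V).elim _ _
    subst hg'
    exact ⟨i, rfl⟩
  obtain ⟨κ, a, y, hy1, hy2⟩ :=
    TensorProduct.vanishesTrivially_of_sum_tmul_eq_zero (R.obj (op V)) hspan h0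
  refine ⟨κ, y, a, fun j => hy1 j, fun k => ?_⟩
  have e3 := congrArg (Submodule.subtype (I.obj (op V))) (hy2 k)
  rw [map_sum, map_zero] at e3
  exact e3

end General

end Groth.Agent.Lib.Helper21.StalkFlatH
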