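import Mathlib

/-!
# An algebraic step for the equational criterion: eliminating one auxiliary relation
-/

set_option autoImplicit false

namespace Groth.Agent.Lib.Helper21.StalkFlatJ

variable {A B : Type*} [CommRing A] [CommRing B] (ρ : A →+* B)
  {PA NA : Type*} [AddCommGroup PA] [Module A PA] [AddCommGroup NA] [Module A NA]
  {PB NB : Type*} [AddCommGroup PB] [Module B PB] [AddCommGroup NB] [Module B NB]
  (σP : PA →ₛₗ[ρ] PB) (σN : NA →ₛₗ[ρ] NB)

lemma map_sum_smul_eq {κ κ₂ : ℕ} (y : Fin κ → NA) (z : Fin κ₂ → NB) (b : Fin κ → Fin κ₂ → B)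
    (hz : ∀ j, σN (y j) = ∑ c, b j c • z c) (α : Fin κ → A) :
    σN (∑ j, α j • y j) = ∑ c, (∑ j, ρ (α j) * b j c) • z c := by
  rw [map_sum]
  simp only [map_smulₛₗ, hz, Finset.smul_sum, Finset.sum_smul, mul_smul]
  exact Finset.sum_comm

theorem step {k l κ κ₂ : ℕ} (u : Fin k → PA) (n : Fin k → NA) (m' : Fin (l + 1) → PA)
    (a : Fin k → Fin κ → A) (a' : Fin (l + 1) → Fin κ → A) (y : Fin κ → NA)
    (hn : ∀ i, n i = ∑ j, a i j • y j) (hy : ∀ q, ∑ j, a' q j • y j = 0)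
    (hrel : ∀ j, ∑ i, a i j • u i + ∑ q, a' q j • m' q = 0)
    (z : Fin κ₂ → NB) (b : Fin κ → Fin κ₂ → B)
    (hz : ∀ j, σN (y j) = ∑ c, b j c • z c) (hb : ∀ c, ∑ j, b j c * ρ (a' 0 j) = 0) :
    (∀ i, σN (n i) = ∑ c, (∑ j, ρ (a i j) * b j c) • z c) ∧
    (∀ q : Fin l, ∑ c, (∑ j, ρ (a' q.succ j) * b j c) • z c = 0) ∧
    (∀ c, ∑ i, (∑ j, ρ (a i j) * b j c) • σP (u i) +
      ∑ q : Fin l, (∑ j, ρ (a' q.succ j) * b j c) • σP (m' q.succ) = 0) := by
  refine ⟨fun i => ?_, fun q => ?_, fun c => ?_⟩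
  · rw [hn i]
    exact map_sum_smul_eq ρ σN y z b hz (a i)
  · rw [← map_sum_smul_eq ρ σN y z b hz (a' q.succ), hy q.succ, map_zero]
  · have h1 : ∀ j, ∑ i, ρ (a i j) • σP (u i) + ∑ q : Fin l, ρ (a' q.succ j) • σP (m' q.succ) =
        - (ρ (a' 0 j) • σP (m' 0)) := by
      intro j
      have h2 := congrArg σP (hrel j)
      rw [map_add, map_sum, map_sum, map_zero, Fin.sum_univ_succ] at h2
      simp only [map_smulₛₗ] at h2
      rw [eq_neg_iff_add_eq_zero, ← h2]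
      abel
    have h3 : ∑ i, (∑ j, ρ (a i j) * b j c) • σP (u i) +
        ∑ q : Fin l, (∑ j, ρ (a' q.succ j) * b j c) • σP (m' q.succ) =
        ∑ j, b j c • (∑ i, ρ (a i j) • σP (u i) +
          ∑ q : Fin l, ρ (a' q.succ j) • σP (m' q.succ)) := by
      simp only [Finset.sum_smul, Finset.smul_sum, smul_add, Finset.sum_add_distrib, mul_smul]
      congr 1
      · rw [Finset.sum_comm]
        refine Finset.sum_congr rfl fun j _ => Finset.sum_congr rfl fun i _ => ?_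
        rw [smul_comm]
      · rw [Finset.sum_comm]
        refine Finset.sum_congr rfl fun j _ => Finset.sum_congr rfl fun q _ => ?_
        rw [smul_comm]
    rw [h3]
    simp only [h1, smul_neg, Finset.sum_neg_distrib, neg_eq_zero]
    simp only [← mul_smul, ← Finset.sum_smul]
    rw [hb c, zero_smul]

end Groth.Agent.Lib.Helper21.StalkFlatJ
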