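import Mathlib
import Groth.Agent.Lib.Helper13.TensorLocal
import Groth.Agent.Lib.Helper21.StalkFlatJ

/-!
# Locally trivial relations imply that tensoring preserves injections (presheaf level)
-/

set_option autoImplicit false
universe u

open CategoryTheory Opposite MonoidalCategory TensorProduct
open Groth.Agent.Lib.Helper13 Groth.Agent.Lib.Helper13.TensorLocal

namespace Groth.Agent.Lib.Helper21.StalkFlatK

variable {C : Type*} [Category C] {J : GrothendieckTopology C}

/-- The sieve of arrows killing a section. -/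
def killSieve {R₀ : Cᵒᵖ ⥤ RingCat.{u}} (Q : PresheafOfModules.{u} R₀) {V : C} (τ : Q.obj (op V)) :
    Sieve V where
  arrows W g := Q.map g.op τ = 0
  downward_closed := by
    intro W W' g hg h
    show Q.map (h ≫ g).op τ = 0
    have e1 := PresheafOfModules.map_comp_apply Q g.op h.op τ
    rw [op_comp, e1]
    exact (congrArg (Q.map h.op).hom hg).trans (map_zero (Q.map h.op).hom)

variable {R : Cᵒᵖ ⥤ CommRingCat.{u}}

theorem killSieve_mem_of_relations {P' P N : PresheafOfModules.{u} (R ⋙ forget₂ _ _)}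
    (φ : P' ⟶ P) (hφ : ∀ U : Cᵒᵖ, Function.Injective (φ.app U))
    (H : ∀ (U : C) (n : ℕ) (f : Fin n → R.obj (op U)) (s : Fin n → N.obj (op U)),
      ∑ j, f j • s j = 0 →
      ∃ S ∈ J U, ∀ ⦃V : C⦄ (g : V ⟶ U), S g →
        ∃ (l : ℕ) (t : Fin l → N.obj (op V)) (a : Fin n → Fin l → R.obj (op V)),
          (∀ j, N.restrictₛₗ g.op (s j) = ∑ k, a j k • t k) ∧
          (∀ k, ∑ j, a j k * R.map g.op (f j) = 0))
    (l : ℕ) : ∀ (V : C) (k κ : ℕ) (p : Fin k → P'.obj (op V)) (n : Fin k → N.obj (op V))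
      (m' : Fin l → P.obj (op V)) (a : Fin k → Fin κ → R.obj (op V))
      (a' : Fin l → Fin κ → R.obj (op V)) (y : Fin κ → N.obj (op V)),
      (∀ i, n i = ∑ j, a i j • y j) → (∀ q, ∑ j, a' q j • y j = 0) →
      (∀ j, ∑ i, a i j • (φ.app (op V)).hom (p i) + ∑ q, a' q j • m' q = 0) →
      killSieve (P' ⊗ N) (∑ i, p i ⊗ₜ[R.obj (op V)] n i) ∈ J V := by
  induction l with
  | zero =>
    intro V k κ p n m' a a' y hn hy hrel
    have h1 : ∀ j, ∑ i, a i j • p i = 0 := by
      intro j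
      apply hφ (op V)
      have h2 := hrel j
      rw [Fin.sum_univ_zero, add_zero] at h2
      show (φ.app (op V)).hom _ = (φ.app (op V)).hom 0
      rw [map_zero, map_sum, ← h2]
      exact Finset.sum_congr rfl fun i _ => map_smul _ _ _
    have h3 : ∑ i, p i ⊗ₜ[R.obj (op V)] n i = 0 :=
      TensorProduct.sum_tmul_eq_zero_of_vanishesTrivially (R.obj (op V)) ⟨κ, a, y, hn, h1⟩
    refine J.superset_covering ?_ (J.top_mem V)
    intro W g _
    show (P' ⊗ N).map g.op _ = 0
    exact (congrArg ((P' ⊗ N).map g.op).hom h3).trans (map_zero _)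
  | succ l ih =>
    intro V k κ p n m' a a' y hn hy hrel
    obtain ⟨S₁, hS₁, h₁⟩ := H V κ (a' 0) y (hy 0)
    refine J.transitive hS₁ _ (fun W g hg => ?_)
    obtain ⟨κ₂, z, b, hz, hb⟩ := h₁ g hg
    obtain ⟨e1, e2, e3⟩ := StalkFlatJ.step (R.map g.op).hom (P.restrictₛₗ g.op)
      (N.restrictₛₗ g.op) (fun i => (φ.app (op V)).hom (p i)) n m' a a' y hn hy hrel z b hz hb
    have hih := ih W k κ₂ (fun i => P'.restrictₛₗ g.op (p i)) (fun i => N.restrictₛₗ g.op (n i))
      (fun q => P.restrictₛₗ g.op (m' q.succ))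
      (fun i c => ∑ j, (R.map g.op).hom (a i j) * b j c)
      (fun q c => ∑ j, (R.map g.op).hom (a' q.succ j) * b j c) z e1 e2 (fun c => by
        rw [← e3 c]
        congr 1
        refine Finset.sum_congr rfl fun i _ => ?_
        congr 1
        exact PresheafOfModules.naturality_apply φ g.op (p i))
    have e0 : (P' ⊗ N).map g.op (∑ i, p i ⊗ₜ[R.obj (op V)] n i) =
        ∑ i, P'.restrictₛₗ g.op (p i) ⊗ₜ[R.obj (op W)] N.restrictₛₗ g.op (n i) :=
      (map_sum ((P' ⊗ N).map g.op).hom _ _).trans (Finset.sum_congr rfl fun i _ => rfl)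
    refine J.superset_covering (fun W' h hh => ?_) hih
    show (P' ⊗ N).map (h ≫ g).op _ = 0
    have e1 := PresheafOfModules.map_comp_apply (P' ⊗ N) g.op h.op
      (∑ i, p i ⊗ₜ[R.obj (op V)] n i)
    rw [op_comp, e1]
    exact (congrArg ((P' ⊗ N).map h.op).hom e0).trans hh

/-- If relations in `N` are locally trivial, then `φ ▷ N` is locally injective for every
sectionwise injective `φ`. -/
theorem locInj_whiskerRight_of_relations {P' P N : PresheafOfModules.{u} (R ⋙ forget₂ _ _)}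
    (φ : P' ⟶ P) (hφ : ∀ U : Cᵒᵖ, Function.Injective (φ.app U))
    (H : ∀ (U : C) (n : ℕ) (f : Fin n → R.obj (op U)) (s : Fin n → N.obj (op U)),
      ∑ j, f j • s j = 0 →
      ∃ S ∈ J U, ∀ ⦃V : C⦄ (g : V ⟶ U), S g →
        ∃ (l : ℕ) (t : Fin l → N.obj (op V)) (a : Fin n → Fin l → R.obj (op V)),
          (∀ j, N.restrictₛₗ g.op (s j) = ∑ k, a j k • t k) ∧
          (∀ k, ∑ j, a j k * R.map g.op (f j) = 0)) :
    LocInj J (φ ▷ N) := by
  intro U t ht
  obtain ⟨k, p, n, hpn⟩ := TensorProduct.exists_sum_tmul_eq (R := R.obj (op U))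
    (M := P'.obj (op U)) (N := N.obj (op U)) t
  have h0 : ∑ i, (φ.app (op U)).hom (p i) ⊗ₜ[R.obj (op U)] n i = 0 := by
    have h1 : (φ ▷ N).app (op U) (∑ i, p i ⊗ₜ[R.obj (op U)] n i) =
        ∑ i, (φ.app (op U)).hom (p i) ⊗ₜ[R.obj (op U)] n i :=
      (map_sum ((φ ▷ N).app (op U)).hom _ _).trans (Finset.sum_congr rfl fun i _ => rfl)
    have ht' := ht
    rw [hpn] at ht'
    exact h1.symm.trans ht'
  obtain ⟨l, κ, m', a, a', y, hn, hy, hrel⟩ :=
    TensorVanish.exists_relations_of_sum_tmul_eq_zero _ _ h0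
  have hK := killSieve_mem_of_relations φ hφ H l U k κ p n m' a a' y hn hy hrel
  refine ⟨killSieve (P' ⊗ N) t, ?_, fun V g hg => hg⟩
  have : killSieve (P' ⊗ N) t =
      killSieve (P' ⊗ N) (∑ i, p i ⊗ₜ[R.obj (op U)] n i) := congrArg _ hpn
  rw [this]
  exact hK

end Groth.Agent.Lib.Helper21.StalkFlatK
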