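import Mathlib
import Groth.Prelude.Def_ModSite
import Groth.Agent.Lib.Helper21.StalkFlatH
import Groth.Agent.Lib.Helper13.ModSiteProj
import Groth.Agent.Lib.Helper21.StalkFlatK

/-!
# Equational criterion of flatness on a small ringed site
-/

set_option autoImplicit false
universe u

open CategoryTheory Opposite MonoidalCategory TensorProduct
open Groth.Agent.Lib.Helper13 Groth.Agent.Lib.Helper13.TensorLocal
open Groth.Agent.Lib.Helper13.ModSiteTensor
open Groth.Agent.Lib.Helper21.StalkFlatH

namespace Groth.Agent.Lib.Helper21.StalkFlatI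

variable {C : Type u} [SmallCategory C] {J : GrothendieckTopology C} {O : Sheaf J CommRingCat.{u}}

/-- In a flat module, relations are locally trivial. -/
theorem relations_locally_trivial_of_isFlat {F : ModSite.Mod O} (hF : ModSite.IsFlat F) (U : C)
    (n : ℕ) (f : Fin n → O.obj.obj (op U)) (s : Fin n → ModSite.sect F U)
    (hrel : ∑ j, f j • s j = 0) :
    ∃ S ∈ J U, ∀ ⦃V : C⦄ (g : V ⟶ U), S g →
      ∃ (l : ℕ) (t : Fin l → ModSite.sect F V) (a : Fin n → Fin l → O.obj.obj (op V)),
        (∀ j, (F.val.map g.op).hom (s j) = ∑ k, a j k • t k) ∧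
        (∀ k, ∑ j, a j k * (O.obj.map g.op).hom (f j) = 0) := by
  have hF' := ModSiteProj.isFlat_restr O U F hF
  let T : Over U := Over.mk (𝟙 U)
  have hT : ∀ V : Over U, Subsingleton (V ⟶ T) := fun V =>
    ⟨fun a b => Over.mkIdTerminal.hom_ext a b⟩
  have hN := StalkFlatE.locInj_whiskerRight_of_isFlat hF'
    (idealGen (R := (O.over U).obj) T f).ι
    (locInj_of_injective _ (fun V => Subtype.val_injective))
  obtain ⟨S', hS', h'⟩ := exists_trivialization (J := J.over U)
    ((fgt (O.over U)).obj ((ModSite.restr O U).obj F)) T hT f s hrel hN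
  refine ⟨Sieve.overEquiv T S', (J.mem_over_iff S').1 hS', fun V g hg => ?_⟩
  have hg' := (Sieve.overEquiv_iff S' g).1 hg
  obtain ⟨l, t, a, h1, h2⟩ := h' _ hg'
  exact ⟨l, t, a, h1, h2⟩

/-- If relations are locally trivial, the module is flat. -/
theorem isFlat_of_relations_locally_trivial (F : ModSite.Mod O)
    (H : ∀ (U : C) (n : ℕ) (f : Fin n → O.obj.obj (op U)) (s : Fin n → ModSite.sect F U),
      ∑ j, f j • s j = 0 →
      ∃ S ∈ J U, ∀ ⦃V : C⦄ (g : V ⟶ U), S g →
        ∃ (l : ℕ) (t : Fin l → ModSite.sect F V) (a : Fin n → Fin l → O.obj.obj (op V)),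
          (∀ j, (F.val.map g.op).hom (s j) = ∑ k, a j k • t k) ∧
          (∀ k, ∑ j, a j k * (O.obj.map g.op).hom (f j) = 0)) : ModSite.IsFlat F := by
  apply StalkFlatA.isFlat_of_locInj
  intro G' G α hα
  refine StalkFlatK.locInj_whiskerRight_of_relations (R := O.obj) ((fgt O).map α) ?_ H
  intro U
  have h1 : Mono ((SheafOfModules.toSheaf (ModSite.ringSh O)).map α) := inferInstance
  have h2 : Mono ((sheafToPresheaf J AddCommGrpCat.{u}).map
      ((SheafOfModules.toSheaf (ModSite.ringSh O)).map α)) := inferInstance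
  have h3 := (NatTrans.mono_iff_mono_app _).mp h2 U
  exact (AddCommGrpCat.mono_iff_injective _).mp h3

end Groth.Agent.Lib.Helper21.StalkFlatI
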