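import Mathlib
import Groth.Prelude.Def_ModSite2
import Groth.Agent.Lib.Helper21.StalkFlatI

/-!
# Flat modules on a ringed site have flat stalks at every point
-/

set_option autoImplicit false
universe u

open CategoryTheory CategoryTheory.Limits Opposite

namespace Groth.Agent.Lib.Helper21.StalkFlatL

/-- Finitely many properties, each stable under passing to a smaller object and each holding
somewhere, hold simultaneously on some object of a cofiltered category mapping to a given one. -/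
theorem exists_forall_of_isCofiltered {E : Type*} [Category E] [IsCofiltered E] {ι : Type*}
    [Finite ι] (e₀ : E) (Q : ι → E → Prop) (hQ : ∀ i (e e' : E), (e' ⟶ e) → Q i e → Q i e')
    (h : ∀ i, ∃ e, Q i e) : ∃ e : E, Nonempty (e ⟶ e₀) ∧ ∀ i, Q i e := by
  classical
  haveI := Fintype.ofFinite ι
  choose e he using h
  obtain ⟨S, hS⟩ := IsCofiltered.inf_objs_exists (insert e₀ (Finset.univ.image e))
  refine ⟨S, hS (Finset.mem_insert_self _ _), fun i => ?_⟩
  obtain ⟨g⟩ := hS (Finset.mem_insert_of_mem (Finset.mem_image_of_mem e (Finset.mem_univ i)))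
  exact hQ i _ _ g (he i)

variable {C : Type u} [SmallCategory C] {J : GrothendieckTopology C}
  (p : GrothendieckTopology.Point.{u} J) {O : Sheaf J CommRingCat.{u}}

/-- The germ map of the structure sheaf as a ring homomorphism. -/
noncomputable abbrev germRingHom (X : C) (x : p.fiber.obj X) :
    O.obj.obj (op X) →+* ModSite.stalkRing p O :=
  (p.toPresheafFiber X x O.obj).hom

/-- The germ map of a module as a semilinear map. -/
noncomputable def germₛₗ (F : ModSite.Mod O) (X : C) (x : p.fiber.obj X) :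
    ModSite.sect F X →ₛₗ[germRingHom p (O := O) X x] ModSite.stalkAb p F where
  toFun := ModSite.germ p F X x
  map_add' a b := map_add (p.toPresheafFiber X x (ModSite.toAb F).obj).hom a b
  map_smul' r s := ModSite.germ_smul p F X x r s

lemma germRingHom_res {X Y : C} (g : Y ⟶ X) (y : p.fiber.obj Y) (r : O.obj.obj (op X)) :
    germRingHom p (O := O) Y y ((O.obj.map g.op).hom r) =
      germRingHom p (O := O) X (p.fiber.map g y) r :=
  p.toPresheafFiber_w_apply g y O.obj r

lemma germₛₗ_res (F : ModSite.Mod O) {X Y : C} (g : Y ⟶ X) (y : p.fiber.obj Y)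
    (s : ModSite.sect F X) :
    germₛₗ p F Y y ((F.val.map g.op).hom s) = germₛₗ p F X (p.fiber.map g y) s :=
  p.toPresheafFiber_w_apply g y (ModSite.toAb F).obj s

/-- Flat modules have flat stalks at every point of the site. -/
theorem flat_stalkMod_of_isFlat (F : ModSite.Mod O) (hF : ModSite.IsFlat F) :
    Module.Flat (ModSite.stalkRing p O) (ModSite.stalkMod p F) := by
  apply Module.Flat.of_forall_isTrivialRelation
  intro l r m hrm
  obtain ⟨e₀⟩ := (IsCofiltered.nonempty : Nonempty p.fiber.Elements)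
  obtain ⟨⟨U₁, x₁⟩, -, h₁⟩ := exists_forall_of_isCofiltered (E := p.fiber.Elements) e₀
    (fun (i : Fin l) e => ∃ f : O.obj.obj (op e.1), germRingHom p (O := O) e.1 e.2 f = r i)
    (fun i e e' (g : e' ⟶ e) ⟨f, hf⟩ => ⟨(O.obj.map g.1.op).hom f, by
      rw [germRingHom_res, g.2]
      exact hf⟩)
    (fun i => by
      obtain ⟨X, x, z, hz⟩ := p.toPresheafFiber_jointly_surjective (P := O.obj) (r i)
      exact ⟨⟨X, x⟩, z, hz⟩)
  obtain ⟨⟨U₂, x₂⟩, ⟨g₂⟩, h₂⟩ := exists_forall_of_isCofiltered (E := p.fiber.Elements) ⟨U₁, x₁⟩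
    (fun (i : Fin l) e => ∃ s : ModSite.sect F e.1, germₛₗ p F e.1 e.2 s = m i)
    (fun i e e' (g : e' ⟶ e) ⟨s, hs⟩ => ⟨(F.val.map g.1.op).hom s, by
      rw [germₛₗ_res, g.2]
      exact hs⟩)
    (fun i => by
      obtain ⟨X, x, z, hz⟩ :=
        p.toPresheafFiber_jointly_surjective (P := (ModSite.toAb F).obj) (m i)
      exact ⟨⟨X, x⟩, z, hz⟩)
  choose f₁ hf₁ using h₁
  choose s₂ hs₂ using h₂
  let f₂ : Fin l → O.obj.obj (op U₂) := fun i => (O.obj.map g₂.1.op).hom (f₁ i)
  have hf₂ : ∀ i, germRingHom p (O := O) U₂ x₂ (f₂ i) = r i := by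
    intro i
    show germRingHom p (O := O) U₂ x₂ ((O.obj.map g₂.1.op).hom (f₁ i)) = r i
    rw [germRingHom_res, g₂.2]
    exact hf₁ i
  have hgerm : germₛₗ p F U₂ x₂ (∑ i, f₂ i • s₂ i) = germₛₗ p F U₂ x₂ 0 := by
    rw [map_zero, map_sum, ← hrm]
    refine Finset.sum_congr rfl fun i _ => ?_
    rw [map_smulₛₗ, hs₂ i, hf₂ i]
  obtain ⟨U, g, x, hx, hU⟩ :=
    (p.toPresheafFiber_eq_iff' (P := (ModSite.toAb F).obj) U₂ x₂ _ _).1 hgerm
  let f : Fin l → O.obj.obj (op U) := fun i => (O.obj.map g.op).hom (f₂ i)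
  let s : Fin l → ModSite.sect F U := fun i => (F.val.map g.op).hom (s₂ i)
  have hrel : ∑ i, f i • s i = 0 := by
    have e : F.val.restrictₛₗ g.op (∑ i, f₂ i • s₂ i) = F.val.restrictₛₗ g.op 0 := hU
    rw [map_zero, map_sum] at e
    rw [← e]
    refine Finset.sum_congr rfl fun i _ => ?_
    rw [map_smulₛₗ]
    rfl
  obtain ⟨S, hS, hS'⟩ := StalkFlatI.relations_locally_trivial_of_isFlat hF U l f s hrel
  obtain ⟨V, g', hSg', y, hy⟩ := p.jointly_surjective S hS x
  obtain ⟨k, t, a, h1, h2⟩ := hS' g' hSg'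
  refine ⟨k, fun j c => germRingHom p (O := O) V y (a j c), fun c => germₛₗ p F V y (t c),
    fun j => ?_, fun c => ?_⟩
  · have e1 : m j = germₛₗ p F V y ((F.val.map g'.op).hom (s j)) := by
      rw [germₛₗ_res, hy]
      show m j = germₛₗ p F U x ((F.val.map g.op).hom (s₂ j))
      rw [germₛₗ_res, hx]
      exact (hs₂ j).symm
    rw [e1, h1 j, map_sum]
    refine Finset.sum_congr rfl fun c _ => ?_
    rw [map_smulₛₗ]
  · have e2 := congrArg (germRingHom p (O := O) V y) (h2 c)
    rw [map_sum, map_zero] at e2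
    rw [← e2]
    refine Finset.sum_congr rfl fun j _ => ?_
    rw [map_mul, mul_comm]
    congr 1
    rw [germRingHom_res, hy]
    show r j = germRingHom p (O := O) U x ((O.obj.map g.op).hom (f₂ j))
    rw [germRingHom_res, hx]
    exact (hf₂ j).symm

end Groth.Agent.Lib.Helper21.StalkFlatL
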