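import Mathlib
import Groth.Prelude.Def_ModSite2
import Groth.Agent.Lib.Helper21.StalkFlatL

/-!
# Flatness from flat stalks at a conservative family of points
-/

set_option autoImplicit false
universe u

open CategoryTheory CategoryTheory.Limits Opposite

namespace Groth.Agent.Lib.Helper21.StalkFlatM

open Groth.Agent.Lib.Helper21.StalkFlatL

/-- Version of `exists_forall_of_isCofiltered` with properties depending on the map to a fixed
object. -/
theorem exists_refinement_forall {E : Type*} [Category E] [IsCofiltered E] {ι : Type*}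
    [Finite ι] (e₁ : E) (Q : ι → ∀ e : E, (e ⟶ e₁) → Prop)
    (hQ : ∀ i (e e' : E) (k : e' ⟶ e) (h : e ⟶ e₁), Q i e h → Q i e' (k ≫ h))
    (h : ∀ i, ∃ (e : E) (h : e ⟶ e₁), Q i e h) : ∃ (e : E) (h : e ⟶ e₁), ∀ i, Q i e h := by
  obtain ⟨o, -, ho⟩ := exists_forall_of_isCofiltered (E := Over e₁) (Over.mk (𝟙 e₁))
    (fun i o => Q i o.left o.hom)
    (fun i o o' k hk => by
      have := hQ i o.left o'.left k.left o.hom hk
      rwa [Over.w] at this)
    (fun i => by
      obtain ⟨e, h, hh⟩ := h i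
      exact ⟨Over.mk h, hh⟩)
  exact ⟨o.left, o.hom, ho⟩

variable {C : Type u} [SmallCategory C] {J : GrothendieckTopology C}
  (p : GrothendieckTopology.Point.{u} J) {O : Sheaf J CommRingCat.{u}}

/-- `g : V ⟶ U` trivializes the relation `∑ f j • s j = 0`. -/
def Trivializes (F : ModSite.Mod O) {U : C} {n : ℕ} (f : Fin n → O.obj.obj (op U))
    (s : Fin n → ModSite.sect F U) {V : C} (g : V ⟶ U) : Prop :=
  ∃ (l : ℕ) (t : Fin l → ModSite.sect F V) (a : Fin n → Fin l → O.obj.obj (op V)),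
    (∀ j, (F.val.map g.op).hom (s j) = ∑ k, a j k • t k) ∧
    (∀ k, ∑ j, a j k * (O.obj.map g.op).hom (f j) = 0)

lemma Trivializes.comp {F : ModSite.Mod O} {U : C} {n : ℕ} {f : Fin n → O.obj.obj (op U)}
    {s : Fin n → ModSite.sect F U} {V W : C} {g : V ⟶ U} (hg : Trivializes F f s g) (h : W ⟶ V) :
    Trivializes F f s (h ≫ g) := by
  obtain ⟨l, t, a, h1, h2⟩ := hg
  refine ⟨l, fun k => F.val.restrictₛₗ h.op (t k), fun j k => (O.obj.map h.op).hom (a j k),
    fun j => ?_, fun k => ?_⟩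
  · have e1 : (F.val.map (h ≫ g).op).hom (s j) =
        F.val.restrictₛₗ h.op (F.val.restrictₛₗ g.op (s j)) := by
      rw [op_comp]
      exact PresheafOfModules.map_comp_apply F.val g.op h.op (s j)
    have h1' : F.val.restrictₛₗ g.op (s j) = ∑ k, a j k • t k := h1 j
    rw [e1, h1', map_sum]
    refine Finset.sum_congr rfl fun k _ => ?_
    rw [map_smulₛₗ]
    rfl
  · have e2 := congrArg (O.obj.map h.op).hom (h2 k)
    rw [map_sum, map_zero] at e2
    rw [← e2]
    refine Finset.sum_congr rfl fun j _ => ?_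
    rw [map_mul]
    congr 1
    rw [op_comp, O.obj.map_comp]
    rfl

/-- If the stalk of `F` at `p` is flat, every relation over `U` is trivialized on some
neighbourhood of any given element of the fibre of `p` over `U`. -/
theorem exists_trivializes_of_flat_stalk (F : ModSite.Mod O)
    (hflat : Module.Flat (ModSite.stalkRing p O) (ModSite.stalkMod p F))
    (U : C) {n : ℕ} (f : Fin n → O.obj.obj (op U)) (s : Fin n → ModSite.sect F U)
    (hrel : ∑ j, f j • s j = 0) (x : p.fiber.obj U) :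
    ∃ (V : C) (g : V ⟶ U) (y : p.fiber.obj V), p.fiber.map g y = x ∧ Trivializes F f s g := by
  have h0 : ∑ j, germRingHom p (O := O) U x (f j) • germₛₗ p F U x (s j) = 0 := by
    have := congrArg (germₛₗ p F U x) hrel
    rw [map_sum, map_zero] at this
    rw [← this]
    refine Finset.sum_congr rfl fun j _ => ?_
    rw [map_smulₛₗ]
  obtain ⟨k, A, Y, hY, hA⟩ :=
    @Module.Flat.isTrivialRelation_of_sum_smul_eq_zero (ModSite.stalkRing p O)
      (ModSite.stalkMod p F) _ _ _ hflat _ _ _ _ h0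
  have hY' : ∀ j, germₛₗ p F U x (s j) = ∑ c, A j c • Y c := hY
  have hA' : ∀ c, ∑ j, germRingHom p (O := O) U x (f j) * A j c = 0 := hA
  -- lift the coefficients and the elements `Y c`
  obtain ⟨⟨V₁, y₁⟩, ⟨g₁⟩, h₁⟩ := exists_forall_of_isCofiltered (E := p.fiber.Elements) ⟨U, x⟩
    (fun (jc : Fin n × Fin k) e =>
      ∃ a : O.obj.obj (op e.1), germRingHom p (O := O) e.1 e.2 a = A jc.1 jc.2)
    (fun i e e' (g : e' ⟶ e) ⟨a, ha⟩ => ⟨(O.obj.map g.1.op).hom a, by
      rw [germRingHom_res, g.2]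
      exact ha⟩)
    (fun i => by
      obtain ⟨X, x', z, hz⟩ := p.toPresheafFiber_jointly_surjective (P := O.obj) (A i.1 i.2)
      exact ⟨⟨X, x'⟩, z, hz⟩)
  obtain ⟨⟨V₂, y₂⟩, ⟨g₂⟩, h₂⟩ := exists_forall_of_isCofiltered (E := p.fiber.Elements) ⟨V₁, y₁⟩
    (fun (c : Fin k) e => ∃ t : ModSite.sect F e.1, germₛₗ p F e.1 e.2 t = Y c)
    (fun i e e' (g : e' ⟶ e) ⟨t, ht⟩ => ⟨(F.val.map g.1.op).hom t, by
      rw [germₛₗ_res, g.2]
      exact ht⟩)
    (fun c => by
      obtain ⟨X, x', z, hz⟩ :=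
        p.toPresheafFiber_jointly_surjective (P := (ModSite.toAb F).obj) (Y c)
      exact ⟨⟨X, x'⟩, z, hz⟩)
  choose a₁ ha₁ using h₁
  choose t₂ ht₂ using h₂
  let e₂ : p.fiber.Elements := ⟨V₂, y₂⟩
  let g₀ : e₂ ⟶ (⟨U, x⟩ : p.fiber.Elements) := g₂ ≫ g₁
  let a₂ : Fin n → Fin k → O.obj.obj (op V₂) := fun j c => (O.obj.map g₂.1.op).hom (a₁ (j, c))
  have ha₂ : ∀ j c, germRingHom p (O := O) V₂ y₂ (a₂ j c) = A j c := by
    intro j c
    show germRingHom p (O := O) V₂ y₂ ((O.obj.map g₂.1.op).hom (a₁ (j, c))) = _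
    rw [germRingHom_res, g₂.2]
    exact ha₁ (j, c)
  have hg₀ : p.fiber.map g₀.1 y₂ = x := g₀.2
  obtain ⟨⟨V, y⟩, h, hh⟩ := exists_refinement_forall (E := p.fiber.Elements) e₂
    (Sum.elim
      (fun (j : Fin n) (e : p.fiber.Elements) (h : e ⟶ e₂) =>
        F.val.restrictₛₗ h.1.op (F.val.restrictₛₗ g₀.1.op (s j)) =
          F.val.restrictₛₗ h.1.op (∑ c, a₂ j c • t₂ c))
      (fun (c : Fin k) (e : p.fiber.Elements) (h : e ⟶ e₂) =>
        (O.obj.map h.1.op).hom (∑ j, a₂ j c * (O.obj.map g₀.1.op).hom (f j)) =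
          (O.obj.map h.1.op).hom 0))
    (by
      rintro (j | c) e e' k h hQ
      · show F.val.restrictₛₗ (k ≫ h).1.op _ = F.val.restrictₛₗ (k ≫ h).1.op _
        have e1 : ∀ z, F.val.restrictₛₗ (k ≫ h).1.op z =
            F.val.restrictₛₗ k.1.op (F.val.restrictₛₗ h.1.op z) := by
          intro z
          show F.val.map (k.1 ≫ h.1).op z = _
          rw [op_comp]
          exact PresheafOfModules.map_comp_apply F.val h.1.op k.1.op z
        rw [e1, e1]
        exact congrArg _ hQ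
      · show (O.obj.map (k ≫ h).1.op).hom _ = (O.obj.map (k ≫ h).1.op).hom _
        have e1 : ∀ z, (O.obj.map (k ≫ h).1.op).hom z =
            (O.obj.map k.1.op).hom ((O.obj.map h.1.op).hom z) := by
          intro z
          show (O.obj.map (k.1 ≫ h.1).op).hom z = _
          rw [op_comp, O.obj.map_comp]
          rfl
        rw [e1, e1]
        exact congrArg _ hQ)
    (by
      rintro (j | c)
      · have hgerm : germₛₗ p F V₂ y₂ (F.val.restrictₛₗ g₀.1.op (s j)) =
            germₛₗ p F V₂ y₂ (∑ c, a₂ j c • t₂ c) := by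
          have e1 : germₛₗ p F V₂ y₂ (F.val.restrictₛₗ g₀.1.op (s j)) =
              germₛₗ p F U (p.fiber.map g₀.1 y₂) (s j) := germₛₗ_res p F g₀.1 y₂ (s j)
          rw [e1, hg₀, hY' j, map_sum]
          refine Finset.sum_congr rfl fun c _ => ?_
          rw [map_smulₛₗ, ha₂ j c, ht₂ c]
        obtain ⟨Y', f', y', hf', heq⟩ :=
          (p.toPresheafFiber_eq_iff' (P := (ModSite.toAb F).obj) V₂ y₂ _ _).1 hgerm
        exact ⟨⟨Y', y'⟩, ⟨f', hf'⟩, heq⟩
      · have hgerm : germRingHom p (O := O) V₂ y₂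
            (∑ j, a₂ j c * (O.obj.map g₀.1.op).hom (f j)) = germRingHom p (O := O) V₂ y₂ 0 := by
          rw [map_zero, map_sum, ← hA' c]
          refine Finset.sum_congr rfl fun j _ => ?_
          rw [map_mul, mul_comm, ha₂ j c, germRingHom_res, hg₀]
        obtain ⟨Y', f', y', hf', heq⟩ :=
          (p.toPresheafFiber_eq_iff' (P := O.obj) V₂ y₂ _ _).1 hgerm
        exact ⟨⟨Y', y'⟩, ⟨f', hf'⟩, heq⟩)
  refine ⟨V, h.1 ≫ g₀.1, y, (h ≫ g₀).2, k, fun c => F.val.restrictₛₗ h.1.op (t₂ c),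
    fun j c => (O.obj.map h.1.op).hom (a₂ j c), fun j => ?_, fun c => ?_⟩
  · have e1 : (F.val.map (h.1 ≫ g₀.1).op).hom (s j) =
        F.val.restrictₛₗ h.1.op (F.val.restrictₛₗ g₀.1.op (s j)) := by
      rw [op_comp]
      exact PresheafOfModules.map_comp_apply F.val g₀.1.op h.1.op (s j)
    have e2 : F.val.restrictₛₗ h.1.op (F.val.restrictₛₗ g₀.1.op (s j)) =
        F.val.restrictₛₗ h.1.op (∑ c, a₂ j c • t₂ c) := hh (Sum.inl j)
    rw [e1, e2, map_sum]
    refine Finset.sum_congr rfl fun c _ => ?_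
    rw [map_smulₛₗ]
    rfl
  · have e2 : (O.obj.map h.1.op).hom (∑ j, a₂ j c * (O.obj.map g₀.1.op).hom (f j)) =
        (O.obj.map h.1.op).hom 0 := hh (Sum.inr c)
    rw [map_zero, map_sum] at e2
    rw [← e2]
    refine Finset.sum_congr rfl fun j _ => ?_
    rw [map_mul]
    congr 1
    rw [op_comp, O.obj.map_comp]
    rfl

/-- A module whose stalks at a conservative family of points are flat is flat. -/
theorem isFlat_of_flat_stalks (P : ObjectProperty (GrothendieckTopology.Point.{u} J))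
    (hP : P.IsConservativeFamilyOfPoints) (F : ModSite.Mod O)
    (h : ∀ q : GrothendieckTopology.Point.{u} J, P q →
      Module.Flat (ModSite.stalkRing q O) (ModSite.stalkMod q F)) : ModSite.IsFlat F := by
  apply StalkFlatI.isFlat_of_relations_locally_trivial
  intro U n f s hrel
  let S : Sieve U :=
    { arrows := fun V g => Trivializes F f s g
      downward_closed := fun hg h => hg.comp h }
  refine ⟨S, ?_, fun V g hg => hg⟩
  let ι := Σ V : C, {g : V ⟶ U // S g}
  have hS : S = Sieve.ofArrows (fun i : ι => i.1) (fun i => i.2.1) := by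
    ext V g
    constructor
    · intro hg
      exact Sieve.ofArrows_mk (fun i : ι => i.1) (fun i => i.2.1) ⟨V, g, hg⟩
    · rintro ⟨W, a, b, ⟨i⟩, rfl⟩
      exact S.downward_closed i.2.2 a
  rw [hS, hP.jointly_reflect_ofArrows_mem]
  intro Φ x
  obtain ⟨V, g, y, hy, hg⟩ :=
    exists_trivializes_of_flat_stalk Φ.obj F (h Φ.obj Φ.property) U f s hrel x
  exact ⟨⟨V, g, hg⟩, y, hy⟩

end Groth.Agent.Lib.Helper21.StalkFlatM
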