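import Mathlib
import Groth.Prelude.Def_ModSite
import Groth.Agent.Lib.Helper21.StalkFlatI

/-!
# Iterated equational criterion of flatness on a small ringed site

Finitely many simultaneous relations in a flat module are locally trivial.
-/

set_option autoImplicit false
universe u

open CategoryTheory Opposite

namespace Groth.Agent.Lib.Helper21.StalkFlatN

variable {C : Type u} [SmallCategory C] {J : GrothendieckTopology C} {O : Sheaf J CommRingCat.{u}}

/-- restriction of sections, as a semilinear map. -/
noncomputable abbrev res (H : ModSite.Mod O) {U V : C} (g : V ⟶ U) :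
    ModSite.sect H U →ₛₗ[((ModSite.ringSh O).obj.map g.op).hom] ModSite.sect H V :=
  H.val.restrictₛₗ g.op

lemma res_comp (H : ModSite.Mod O) {U V W : C} (g : V ⟶ U) (h : W ⟶ V) (x : ModSite.sect H U) :
    res H (h ≫ g) x = res H h (res H g x) := by
  show H.val.map (h ≫ g).op x = H.val.map h.op (H.val.map g.op x)
  rw [op_comp, PresheafOfModules.map_comp_apply]

lemma res_smul (H : ModSite.Mod O) {U V : C} (g : V ⟶ U) (r : O.obj.obj (op U))
    (x : ModSite.sect H U) :
    res H g (r • x) = ((O.obj.map g.op).hom r) • res H g x :=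
  map_smulₛₗ (res H g) r x

/-- Finitely many simultaneous relations in a flat module are locally trivial. -/
theorem relations_locally_trivial_multi {H : ModSite.Mod O} (hH : ModSite.IsFlat H) (n : ℕ)
    (m : ℕ) :
    ∀ (U : C) (f : Fin m → Fin n → O.obj.obj (op U)) (s : Fin n → ModSite.sect H U),
      (∀ i, ∑ j, f i j • s j = 0) →
      ∃ S ∈ J U, ∀ ⦃V : C⦄ (g : V ⟶ U), S g →
        ∃ (l : ℕ) (t : Fin l → ModSite.sect H V) (a : Fin n → Fin l → O.obj.obj (op V)),
          (∀ j, (H.val.map g.op).hom (s j) = ∑ k, a j k • t k) ∧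
          (∀ i k, ∑ j, a j k * (O.obj.map g.op).hom (f i j) = 0) := by
  induction m with
  | zero =>
    intro U f s _
    refine ⟨⊤, J.top_mem U, fun V g _ => ⟨n, fun j => res H g (s j),
      fun j k => if j = k then 1 else 0, ?_, fun i => i.elim0⟩⟩
    intro j
    show res H g (s j) = ∑ k, (if j = k then (1 : O.obj.obj (op V)) else 0) • res H g (s k)
    rw [Finset.sum_eq_single j]
    · rw [if_pos rfl, one_smul]
    · intro k _ hk
      rw [if_neg (Ne.symm hk), zero_smul]
    · intro h
      exact absurd (Finset.mem_univ j) h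
  | succ m ih =>
    intro U f s hrel
    obtain ⟨S₁, hS₁, h₁⟩ := ih U (fun i => f i.castSucc) s (fun i => hrel i.castSucc)
    choose l t a ha1 ha2 using h₁
    -- the last relation, restricted
    have hlast : ∀ ⦃V : C⦄ (g : V ⟶ U) (hg : S₁ g),
        ∑ k, (∑ j, a g hg j k * (O.obj.map g.op).hom (f (Fin.last m) j)) • t g hg k = 0 := by
      intro V g hg
      have h0 : res H g (∑ j, f (Fin.last m) j • s j) = 0 := by
        rw [hrel (Fin.last m), map_zero]
      rw [map_sum] at h0
      have h1 : ∀ j, res H g (f (Fin.last m) j • s j) =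
          ∑ k, (a g hg j k * (O.obj.map g.op).hom (f (Fin.last m) j)) • t g hg k := by
        intro j
        rw [res_smul]
        have e1 : res H g (s j) = ∑ k, a g hg j k • t g hg k := ha1 g hg j
        rw [e1, Finset.smul_sum]
        refine Finset.sum_congr rfl fun k _ => ?_
        rw [smul_smul, mul_comm]
      rw [Finset.sum_congr rfl (fun j _ => h1 j), Finset.sum_comm] at h0
      rw [← h0]
      refine Finset.sum_congr rfl fun k _ => ?_
      rw [Finset.sum_smul]
    have h₂ : ∀ ⦃V : C⦄ (g : V ⟶ U) (hg : S₁ g), _ :=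
      fun V g hg => StalkFlatI.relations_locally_trivial_of_isFlat hH V (l g hg)
        (fun k => ∑ j, a g hg j k * (O.obj.map g.op).hom (f (Fin.last m) j)) (t g hg)
        (hlast g hg)
    choose R hR hR' using h₂
    refine ⟨Sieve.bind S₁ (fun V g hg => R g hg), J.bind_covering hS₁ (fun V g hg => hR g hg), ?_⟩
    rintro W q ⟨V, h, g, hg, hh, rfl⟩
    obtain ⟨l₂, t₂, a₂, hb1, hb2⟩ := hR' g hg h hh
    refine ⟨l₂, t₂, fun j p => ∑ k, (O.obj.map h.op).hom (a g hg j k) * a₂ k p, ?_, ?_⟩
    · intro j
      have e0 : (H.val.map (h ≫ g).op).hom (s j) = res H h (res H g (s j)) := res_comp H g h (s j)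
      rw [e0]
      have e1 : res H g (s j) = ∑ k, a g hg j k • t g hg k := ha1 g hg j
      rw [e1, map_sum]
      have e2 : ∀ k, res H h (a g hg j k • t g hg k) =
          ∑ p, ((O.obj.map h.op).hom (a g hg j k) * a₂ k p) • t₂ p := by
        intro k
        rw [res_smul]
        have e3 : res H h (t g hg k) = ∑ p, a₂ k p • t₂ p := hb1 k
        rw [e3, Finset.smul_sum]
        refine Finset.sum_congr rfl fun p _ => ?_
        rw [smul_smul]
      rw [Finset.sum_congr rfl (fun k _ => e2 k), Finset.sum_comm]
      refine Finset.sum_congr rfl fun p _ => ?_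
      rw [Finset.sum_smul]
    · intro i p
      have hcomp : ∀ x : O.obj.obj (op U), (O.obj.map (h ≫ g).op).hom x =
          (O.obj.map h.op).hom ((O.obj.map g.op).hom x) := by
        intro x
        rw [op_comp, O.obj.map_comp]
        rfl
      have key : ∑ j, (∑ k, (O.obj.map h.op).hom (a g hg j k) * a₂ k p) *
          (O.obj.map (h ≫ g).op).hom (f i j) =
          ∑ k, a₂ k p * (O.obj.map h.op).hom (∑ j, a g hg j k * (O.obj.map g.op).hom (f i j)) := by
        simp only [Finset.sum_mul, map_sum, map_mul, Finset.mul_sum, hcomp]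
        rw [Finset.sum_comm]
        refine Finset.sum_congr rfl fun k _ => Finset.sum_congr rfl fun j _ => ?_
        ring
      rw [key]
      refine Fin.lastCases ?_ (fun i' => ?_) i
      · exact hb2 p
      · have := ha2 g hg i' 
        simp only [this, map_zero, mul_zero, Finset.sum_const_zero]

/-- Version with arbitrary finite index types. -/
theorem relations_locally_trivial_fintype {H : ModSite.Mod O} (hH : ModSite.IsFlat H)
    {Ig Ir : Type*} [Fintype Ig] [Fintype Ir] (U : C)
    (f : Ir → Ig → O.obj.obj (op U)) (s : Ig → ModSite.sect H U)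
    (hrel : ∀ i, ∑ j, f i j • s j = 0) :
    ∃ S ∈ J U, ∀ ⦃V : C⦄ (g : V ⟶ U), S g →
      ∃ (l : ℕ) (t : Fin l → ModSite.sect H V) (a : Ig → Fin l → O.obj.obj (op V)),
        (∀ j, (H.val.map g.op).hom (s j) = ∑ k, a j k • t k) ∧
        (∀ i k, ∑ j, a j k * (O.obj.map g.op).hom (f i j) = 0) := by
  classical
  let eg : Ig ≃ Fin (Fintype.card Ig) := Fintype.equivFin Ig
  let er : Ir ≃ Fin (Fintype.card Ir) := Fintype.equivFin Ir
  obtain ⟨S, hS, h⟩ := relations_locally_trivial_multi hH (Fintype.card Ig) (Fintype.card Ir) U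
    (fun i' j' => f (er.symm i') (eg.symm j')) (fun j' => s (eg.symm j')) (fun i' => by
      rw [← hrel (er.symm i')]
      exact Equiv.sum_comp eg.symm (fun j => f (er.symm i') j • s j))
  refine ⟨S, hS, fun V g hg => ?_⟩
  obtain ⟨l, t, a', h1, h2⟩ := h g hg
  refine ⟨l, t, fun j k => a' (eg j) k, fun j => ?_, fun i k => ?_⟩
  · have := h1 (eg j)
    rwa [Equiv.symm_apply_apply] at this
  · have := h2 (er i) k
    rw [← this]
    rw [← Equiv.sum_comp eg]
    refine Finset.sum_congr rfl fun j _ => ?_
    rw [Equiv.symm_apply_apply, Equiv.symm_apply_apply]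

end Groth.Agent.Lib.Helper21.StalkFlatN
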