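import Mathlib
import Groth.Prelude.Def_ModSite
import Groth.Agent.Lib.Helper21.StalkFlatN
import Groth.Agent.Lib.Helper21.StalkFlatO
import Groth.Agent.Lib.Helper21.StalkFlatP
import Groth.Agent.Lib.Helper21.StalkFlatQ

/-!
# Local factorisation through a finite free module, given a finite presentation over `W`
-/

set_option autoImplicit false
universe u

open CategoryTheory CategoryTheory.Limits Opposite SheafOfModules
open Groth.Agent.Lib.Helper21.StalkFlatP Groth.Agent.Lib.Helper21.StalkFlatQ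
  Groth.Agent.Lib.Helper21.StalkFlatO

namespace Groth.Agent.Lib.Helper21.StalkFlatR

variable {C : Type u} [SmallCategory C] {J : GrothendieckTopology C} {O : Sheaf J CommRingCat.{u}}

theorem local_factorization {F H : ModSite.Mod O} (hH : ModSite.IsFlat H) (φ : F ⟶ H) (W : C)
    {Ig Ir : Type u} [Finite Ig] [Finite Ir]
    (ρ : free (R := (ModSite.ringSh O).over W) Ir ⟶ free Ig)
    (π : free Ig ⟶ (overFunctor (ModSite.ringSh O) W).obj F) (w : ρ ≫ π = 0)
    (hex : (ShortComplex.mk ρ π w).Exact) [Epi π] :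
    ∃ S ∈ J W, ∀ ⦃V : C⦄ (g : V ⟶ W), S g →
      ∃ (n : ℕ) (a : (overFunctor (ModSite.ringSh O) V).obj F ⟶ free (ULift.{u} (Fin n)))
        (b : free (ULift.{u} (Fin n)) ⟶ (overFunctor (ModSite.ringSh O) V).obj H),
        a ≫ b = (overFunctor (ModSite.ringSh O) V).map φ := by
  classical
  haveI : Fintype Ig := Fintype.ofFinite Ig
  haveI : Fintype Ir := Fintype.ofFinite Ir
  let s' : Ig → (unit ((ModSite.ringSh O).over W) ⟶ (overFunctor (ModSite.ringSh O) W).obj H) :=
    fun j => ιFree j ≫ π ≫ (overFunctor (ModSite.ringSh O) W).map φ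
  let ρ' : Ir → Ig → (unit ((ModSite.ringSh O).over W) ⟶ unit ((ModSite.ringSh O).over W)) :=
    fun i j => ιFree i ≫ ρ ≫ proj j
  let f : Ir → Ig → O.obj.obj (op W) := fun i j => evU (ρ' i j)
  let s : Ig → ModSite.sect H W := fun j => ev (s' j)
  have hrel : ∀ i, ∑ j, f i j • s j = 0 := by
    intro i
    have e1 : ∑ j, ρ' i j ≫ s' j = 0 := by
      have e0 : ∑ j, ρ' i j ≫ s' j =
          ιFree i ≫ ρ ≫ (∑ j, proj j ≫ ιFree j) ≫ π ≫ (overFunctor (ModSite.ringSh O) W).map φ := by
        simp only [ρ', s', Preadditive.sum_comp, Preadditive.comp_sum, Category.assoc]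
      rw [e0, sum_proj_ιFree, Category.id_comp, reassoc_of% w, zero_comp, comp_zero]
    have e2 := congrArg ev e1
    rw [ev_sum, ev_zero] at e2
    simp only [ev_comp] at e2
    exact e2
  obtain ⟨S, hS, h⟩ := StalkFlatN.relations_locally_trivial_fintype hH W f s hrel
  refine ⟨S, hS, fun V g hg => ?_⟩
  obtain ⟨l, t, a, h1, h2⟩ := h g hg
  let G := SheafOfModules.overMap.{u} (ModSite.ringSh O) g
  let η : unit ((ModSite.ringSh O).over V) ≅ G.obj (unit ((ModSite.ringSh O).over W)) := (overMapUnitIso (R := (ModSite.ringSh O)) g).symm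
  let Tc := (ShortComplex.mk ρ π w).map G
  have hT : Tc.Exact := hex.map_of_epi_of_preservesCokernel G inferInstance inferInstance
  haveI : Epi Tc.g := epi_overMap_map (ModSite.ringSh O) g π
  let er := mapFreeIso G Ir η
  let eg := mapFreeIso G Ig η
  let θF := (overFunctorMap.{u} (ModSite.ringSh O) g).app F
  let ψ : Tc.X₃ ⟶ (overFunctor (ModSite.ringSh O) V).obj H := θF.hom ≫ (overFunctor (ModSite.ringSh O) V).map φ
  let t' : Fin l → (unit ((ModSite.ringSh O).over V) ⟶ (overFunctor (ModSite.ringSh O) V).obj H) := fun k =>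
    ofSec (show ((overFunctor (ModSite.ringSh O) V).obj H).val.obj (op (T V)) from t k)
  let α : Ig → Fin l → (unit ((ModSite.ringSh O).over V) ⟶ unit ((ModSite.ringSh O).over V)) := fun j k =>
    ofSec (show (unit ((ModSite.ringSh O).over V)).val.obj (op (T V)) from a j k)
  have H1 : ∀ j, ιFree j ≫ eg.hom ≫ Tc.g ≫ ψ = ∑ k, α j k ≫ t' k := by
    intro j
    have eL : ιFree j ≫ eg.hom ≫ Tc.g ≫ ψ = tr g H (s' j) := by
      have nat := (overFunctorMap.{u} (ModSite.ringSh O) g).hom.naturality φ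
      have e1 : ιFree j ≫ eg.hom = η.hom ≫ G.map (ιFree j) := ιFree_mapFreeIso_hom G Ig η j
      have e2 : tr g H (s' j) = η.hom ≫ G.map (ιFree j) ≫ G.map π ≫
          ((overFunctor (ModSite.ringSh O) W ⋙ overMap (ModSite.ringSh O) g).map φ ≫
            (overFunctorMap.{u} (ModSite.ringSh O) g).hom.app H) := by
        simp only [tr, s', Functor.map_comp, Category.assoc, G, η]
        rfl
      rw [e2, nat, reassoc_of% e1]
      rfl
    apply ev_injective
    rw [eL, ev_sum]
    simp only [ev_comp]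
    have e3 := ev_tr g H (s' j)
    have e4 : ∀ k, ev (t' k) = t k := fun k => ev_ofSec _
    have e5 : ∀ k, evU (α j k) = a j k := fun k => ev_ofSec _
    refine e3.trans ((h1 j).trans ?_)
    refine Finset.sum_congr rfl (fun k _ => ?_)
    rw [e4, e5]
    rfl
  have H2 : ∀ i k, ∑ j, (ιFree i ≫ er.hom ≫ Tc.f ≫ eg.inv ≫ proj j) ≫ α j k = 0 := by
    intro i k
    have eM : ∀ j, ιFree i ≫ er.hom ≫ Tc.f ≫ eg.inv ≫ proj j = trU g (ρ' i j) := by
      intro j
      have e1 : ιFree i ≫ er.hom = η.hom ≫ G.map (ιFree i) := ιFree_mapFreeIso_hom G Ir η i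
      have e2 : eg.inv ≫ proj j = G.map (proj j) ≫ η.inv := mapFreeIso_inv_proj G Ig η j
      have e3 : trU g (ρ' i j) =
          η.hom ≫ G.map (ιFree i) ≫ G.map ρ ≫ G.map (proj j) ≫ η.inv := by
        simp only [trU, ρ', Functor.map_comp, Category.assoc, G, η]
        rfl
      rw [e3, ← e2, reassoc_of% e1]
      rfl
    apply ev_injective
    rw [ev_sum, ev_zero]
    simp only [eM, ev_comp]
    have e4 : ∀ j, ev (α j k) = a j k := fun j => ev_ofSec _
    have e5 : ∀ j, evU (trU g (ρ' i j)) = (O.obj.map g.op).hom (f i j) :=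
      fun j => evU_trU g (ρ' i j)
    refine Eq.trans ?_ (h2 i k)
    refine Finset.sum_congr rfl fun j _ => ?_
    rw [e4, e5]
    exact mul_comm ((O.obj.map g.op).hom (f i j)) (a j k)
  obtain ⟨a₀, b, hab⟩ := exists_factorization Tc hT er eg ψ l t' α H1 H2
  exact ⟨l, θF.inv ≫ a₀, b, (Category.assoc _ _ _).trans
    ((congrArg (θF.inv ≫ ·) hab).trans (Iso.inv_hom_id_assoc _ _))⟩

theorem local_factorization' {F H : ModSite.Mod O} (hH : ModSite.IsFlat H) (φ : F ⟶ H) (W : C)
    {Ig Ir : Type u} [Finite Ig] [Finite Ir]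
    {ρ : free (R := (ModSite.ringSh O).over W) Ir ⟶ free Ig}
    {π : free Ig ⟶ (overFunctor (ModSite.ringSh O) W).obj F} {w : ρ ≫ π = 0}
    (hcok : IsColimit (CokernelCofork.ofπ π w)) [Epi π] :
    ∃ S ∈ J W, ∀ ⦃V : C⦄ (g : V ⟶ W), S g →
      ∃ (n : ℕ) (a : (overFunctor (ModSite.ringSh O) V).obj F ⟶ free (ULift.{u} (Fin n)))
        (b : free (ULift.{u} (Fin n)) ⟶ (overFunctor (ModSite.ringSh O) V).obj H),
        a ≫ b = (overFunctor (ModSite.ringSh O) V).map φ :=
  local_factorization hH φ W ρ π w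
    (ShortComplex.exact_of_g_is_cokernel (ShortComplex.mk ρ π w) hcok)

end Groth.Agent.Lib.Helper21.StalkFlatR
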