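import Mathlib
import Groth.Agent.Lib.Helper1.TruncKan

/-!
# The standard simplex is 1-coskeletal
-/

set_option autoImplicit false
universe u
open CategoryTheory Simplicial Opposite

namespace Groth.Agent.Lib.Helper21.StdSimplexCosk

open SSet SimplexCategory Groth.Agent.Lib.Helper1.TruncKan

variable (n : ℕ)

/-- the inclusion of the opposite 1-truncated simplex category -/
abbrev L : (SimplexCategory.Truncated 1)ᵒᵖ ⥤ SimplexCategoryᵒᵖ := (Truncated.inclusion 1).op

/-- the standard simplex as a functor -/
abbrev X : SimplexCategoryᵒᵖ ⥤ Type u := stdSimplex.{u}.obj (SimplexCategory.mk n)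

/-- the vertex `i` of `K` as a structured arrow -/
def vtx (K : SimplexCategory) (i : Fin (K.len + 1)) : StructuredArrow (op K) L :=
  StructuredArrow.mk (Y := op (⟨⦋0⦌, by simp⟩ : SimplexCategory.Truncated 1))
    (SimplexCategory.const ⦋0⦌ K i).op

/-- the morphism from `g` to the vertex `g(j)` -/
def toVtx {K : SimplexCategory} (g : StructuredArrow (op K) L)
    (j : Fin (g.right.unop.obj.len + 1)) :
    g ⟶ vtx K (g.hom.unop.toOrderHom j) :=
  StructuredArrow.homMk
    (Quiver.Hom.op (ObjectProperty.homMk (SimplexCategory.const ⦋0⦌ g.right.unop.obj j))) (by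
      apply Quiver.Hom.unop_inj
      rfl)

/-- value of a simplex of the standard simplex at a vertex -/
def ev {m : SimplexCategoryᵒᵖ} (x : (X.{u} n).obj m) (j : Fin (m.unop.len + 1)) : Fin (n + 1) :=
  (stdSimplex.objEquiv x).toOrderHom j

lemma ev_map {m m' : SimplexCategoryᵒᵖ} (f : m ⟶ m') (x : (X.{u} n).obj m)
    (j : Fin (m'.unop.len + 1)) :
    ev n ((X.{u} n).map f x) j = ev n x (f.unop.toOrderHom j) := rfl

lemma ext_ev {m : SimplexCategoryᵒᵖ} (x y : (X.{u} n).obj m) (h : ∀ j, ev n x j = ev n y j) :
    x = y := by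
  apply stdSimplex.objEquiv.injective
  apply SimplexCategory.Hom.ext
  ext j
  exact congrArg Fin.val (h j)

lemma ev_mono {m : SimplexCategoryᵒᵖ} (x : (X.{u} n).obj m) : Monotone (ev n x) :=
  (stdSimplex.objEquiv x).toOrderHom.monotone

theorem isPRKE : IsPRKE L (X.{u} n) := by
  constructor
  · intro d Z π hπ
    induction d using Opposite.rec with
    | op K =>
    -- compatibility, elementwise
    have hπ' : ∀ (g₁ g₂ : StructuredArrow (op K) L) (φ : g₁ ⟶ g₂) (z : Z),
        (X.{u} n).map (L.map φ.right) (π g₁ z) = π g₂ z := by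
      intro g₁ g₂ φ z
      exact ConcreteCategory.congr_hom (hπ g₁ g₂ φ) z
    -- the vertices
    let s : Z → Fin (K.len + 1) → Fin (n + 1) := fun z i => ev n (π (vtx K i) z) 0
    have F1 : ∀ (g : StructuredArrow (op K) L) (z : Z) (j : Fin (g.right.unop.obj.len + 1)),
        ev n (π g z) j = s z (g.hom.unop.toOrderHom j) := by
      intro g z j
      have := hπ' g _ (toVtx g j) z
      change _ = ev n (π (vtx K (g.hom.unop.toOrderHom j)) z) 0
      rw [← this, ev_map]
      rfl
    have smono : ∀ z, Monotone (s z) := by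
      intro z i i' h
      induction K using SimplexCategory.rec with
      | _ k =>
      let e : StructuredArrow (op ⦋k⦌) L :=
        StructuredArrow.mk (Y := op (⟨⦋1⦌, by simp⟩ : SimplexCategory.Truncated 1))
          (SimplexCategory.mkOfLe i i' h).op
      have h0 := F1 e z 0
      have h1 := F1 e z 1
      have hm := ev_mono n (π e z) (show (0 : Fin 2) ≤ 1 by decide)
      change ev n (π e z) 0 ≤ ev n (π e z) 1 at hm
      rw [h0, h1] at hm
      exact hm
    refine ⟨↾(fun z => stdSimplex.objEquiv.symm (SimplexCategory.Hom.mk ⟨s z, smono z⟩)), ?_⟩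
    intro g
    ext z
    apply ext_ev
    intro j
    exact (F1 g z j).symm
  · intro d Z f₁ f₂ h
    induction d using Opposite.rec with
    | op K =>
    ext z
    apply ext_ev
    intro i
    have := ConcreteCategory.congr_hom (h (vtx K i)) z
    have h2 := congrArg (fun y => ev n y 0) this
    exact h2

theorem isCoskeletal : SimplicialObject.IsCoskeletal (SSet.stdSimplex.{u}.obj (SimplexCategory.mk n)) 1 := by
  obtain ⟨h⟩ := (isPRKE.{u} n).isPointwise_nonempty
  exact ⟨h.isRightKanExtension⟩

end Groth.Agent.Lib.Helper21.StdSimplexCosk
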