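import Mathlib

namespace Groth.Agent.Lib.Helper21

open LinearMap

universe u v w

variable {R : Type u} [CommRing R] {ι : Type v} [Fintype ι] [DecidableEq ι]
  (M : ι → Type w) [∀ i, AddCommGroup (M i)] [∀ i, Module R (M i)]

theorem comp_sum' {α : Type*} {X Y Z : Type*} [AddCommGroup X] [Module R X] [AddCommGroup Y]
    [Module R Y] [AddCommGroup Z] [Module R Z] (s : Finset α) (f : Y →ₗ[R] Z) (g : α → X →ₗ[R] Y) :
    f ∘ₗ (∑ i ∈ s, g i) = ∑ i ∈ s, f ∘ₗ g i := by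
  apply LinearMap.ext; intro x; simp

theorem id_eq_sum_single_comp_proj :
    (LinearMap.id : (Π k, M k) →ₗ[R] (Π k, M k)) = ∑ i, (single R M i) ∘ₗ (proj i) := by
  apply LinearMap.ext
  intro x
  funext j
  simp only [id_coe, id_eq, coe_sum, Finset.sum_apply, coe_comp, coe_single, coe_proj,
    Function.comp_apply, Function.eval]
  rw [Finset.sum_eq_single j]
  · simp
  · intro b _ hb
    rw [Pi.single_eq_of_ne (Ne.symm hb)]
  · simp

variable [∀ i, Module.Free R (M i)] [∀ i, Module.Finite R (M i)]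

theorem trace_pi_eq_sum (f : (Π k, M k) →ₗ[R] (Π k, M k)) :
    trace R (Π k, M k) f = ∑ i, trace R (M i) ((proj i) ∘ₗ f ∘ₗ (single R M i)) := by
  conv_lhs => rw [← LinearMap.comp_id f, id_eq_sum_single_comp_proj M, comp_sum', map_sum]
  apply Finset.sum_congr rfl
  intro i _
  rw [← LinearMap.comp_assoc, ← trace_comp_comm' (proj i) (f ∘ₗ single R M i)]

/-- the grading involution -/
noncomputable def gradInv (deg : ι → ℤ) : (Π k, M k) →ₗ[R] (Π k, M k) :=
  ∑ i : ι, (single R M i) ∘ₗ (((-1 : R) ^ (deg i).natAbs) • (proj i : (Π k, M k) →ₗ[R] M i))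

omit [∀ i, Module.Free R (M i)] [∀ i, Module.Finite R (M i)] in
theorem proj_comp_gradInv (deg : ι → ℤ) (i : ι) :
    (proj i) ∘ₗ (gradInv (R := R) M deg) = ((-1 : R) ^ (deg i).natAbs) • (proj i) := by
  unfold gradInv
  rw [comp_sum', Finset.sum_eq_single i]
  · rw [← LinearMap.comp_assoc, proj_comp_single_same, LinearMap.id_comp]
  · intro j _ hj
    rw [← LinearMap.comp_assoc, proj_comp_single_ne _ _ _ _ (Ne.symm hj), LinearMap.zero_comp]
  · simp

theorem supertrace_eq_sum (deg : ι → ℤ) (f : (Π k, M k) →ₗ[R] (Π k, M k)) :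
    trace R (Π k, M k) (gradInv M deg ∘ₗ f) =
      ∑ i, (-1 : R) ^ (deg i).natAbs * trace R (M i) ((proj i) ∘ₗ f ∘ₗ (single R M i)) := by
  rw [trace_pi_eq_sum]
  apply Finset.sum_congr rfl
  intro i _
  rw [← LinearMap.comp_assoc, ← LinearMap.comp_assoc, proj_comp_gradInv, LinearMap.smul_comp,
    LinearMap.smul_comp, map_smul, smul_eq_mul, LinearMap.comp_assoc]

theorem neg_one_pow_natAbs_add (m n : ℤ) :
    (-1 : R) ^ (m + n).natAbs = (-1) ^ m.natAbs * (-1) ^ n.natAbs := by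
  rw [← pow_add, neg_one_pow_eq_pow_mod_two, neg_one_pow_eq_pow_mod_two (n := m.natAbs + n.natAbs)]
  congr 1
  omega

theorem neg_one_pow_natAbs_mul_self_neg (a : ℤ) :
    (-1 : R) ^ (a * -a).natAbs = (-1) ^ a.natAbs := by
  rw [neg_one_pow_eq_pow_mod_two, neg_one_pow_eq_pow_mod_two (n := a.natAbs)]
  congr 1
  rw [Int.natAbs_mul, Int.natAbs_neg, Nat.mul_mod]
  rcases Nat.mod_two_eq_zero_or_one a.natAbs with h | h <;> simp [h]

end Groth.Agent.Lib.Helper21

namespace Groth.Agent.Lib.Helper21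

open LinearMap

universe u v w

variable {R : Type u} [CommRing R] {ι : Type v} [Fintype ι] [DecidableEq ι]
  (M : ι → Type w) [∀ i, AddCommGroup (M i)] [∀ i, Module R (M i)]

theorem block_comp (f g : (Π k, M k) →ₗ[R] (Π k, M k)) (i k : ι) :
    (proj i) ∘ₗ (f ∘ₗ g) ∘ₗ (single R M k) =
      ∑ j, ((proj i) ∘ₗ f ∘ₗ (single R M j)) ∘ₗ ((proj j) ∘ₗ g ∘ₗ (single R M k)) := by
  apply LinearMap.ext
  intro x
  simp only [coe_comp, Function.comp_apply, coe_sum, Finset.sum_apply, coe_single, coe_proj,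
    Function.eval]
  conv_lhs => rw [← Finset.univ_sum_single (g (Pi.single k x)), map_sum]
  rw [Finset.sum_apply]

variable [∀ i, Module.Free R (M i)] [∀ i, Module.Finite R (M i)]

theorem supertrace_comp_eq (deg : ι → ℤ) (f g : (Π k, M k) →ₗ[R] (Π k, M k)) :
    trace R (Π k, M k) (gradInv M deg ∘ₗ (f ∘ₗ g)) =
      ∑ i, ∑ j, (-1 : R) ^ (deg i).natAbs *
        trace R (M i) (((proj i) ∘ₗ f ∘ₗ (single R M j)) ∘ₗ ((proj j) ∘ₗ g ∘ₗ (single R M i))) := by
  rw [supertrace_eq_sum]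
  apply Finset.sum_congr rfl
  intro i _
  rw [block_comp, map_sum, Finset.mul_sum]

theorem supertrace_supercomm (deg : ι → ℤ) (a b : ℤ) (φ ψ : (Π k, M k) →ₗ[R] (Π k, M k))
    (hφ : ∀ i j : ι, deg j ≠ deg i + a → (LinearMap.proj j) ∘ₗ φ ∘ₗ (LinearMap.single R M i) = 0)
    (hψ : ∀ i j : ι, deg j ≠ deg i + b → (LinearMap.proj j) ∘ₗ ψ ∘ₗ (LinearMap.single R M i) = 0) :
    trace R (Π k, M k) (gradInv M deg ∘ₗ (φ ∘ₗ ψ - ((-1 : R) ^ (a * b).natAbs) • (ψ ∘ₗ φ))) = 0 := by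
  rw [LinearMap.comp_sub, LinearMap.comp_smul, map_sub, map_smul, supertrace_comp_eq,
    supertrace_comp_eq, Finset.sum_comm (s := Finset.univ) (t := Finset.univ)
      (f := fun i j => (-1 : R) ^ (deg i).natAbs *
        trace R (M i) (((proj i) ∘ₗ ψ ∘ₗ (single R M j)) ∘ₗ ((proj j) ∘ₗ φ ∘ₗ (single R M i)))),
    Finset.smul_sum, ← Finset.sum_sub_distrib]
  apply Finset.sum_eq_zero
  intro i _
  rw [Finset.smul_sum, ← Finset.sum_sub_distrib]
  apply Finset.sum_eq_zero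
  intro j _
  rw [trace_comp_comm' ((proj i) ∘ₗ φ ∘ₗ (single R M j)) ((proj j) ∘ₗ ψ ∘ₗ (single R M i))]
  by_cases h1 : deg i = deg j + a
  · by_cases h2 : deg j = deg i + b
    · have hb : b = -a := by omega
      subst hb
      rw [h1, neg_one_pow_natAbs_add, neg_one_pow_natAbs_mul_self_neg, smul_eq_mul]
      ring
    · rw [hψ i j h2]
      simp
  · rw [hφ j i h1]
    simp

end Groth.Agent.Lib.Helper21
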