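import Mathlib
import Groth.Prelude.Def_W4c1etcurveeff2TopGrp

open W4c1etcurveeff2
open scoped commutatorElement

universe u

namespace Groth.Agent.Lib.Helper21.TopGrp

variable {G : Type u} [Group G] [TopologicalSpace G] [IsTopologicalGroup G] (n : ℕ)

/-- the abstract subgroup generated by `n`-th powers and commutators -/
def N0 (G : Type u) [Group G] (n : ℕ) : Subgroup G :=
  Subgroup.closure (Set.range fun g : G => g ^ n) ⊔ commutator G

omit [TopologicalSpace G] [IsTopologicalGroup G] in
theorem N0_map_le (φ : G ≃* G) : (N0 G n).map φ.toMonoidHom ≤ N0 G n := by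
  rw [Subgroup.map_le_iff_le_comap]
  unfold N0
  apply sup_le
  · rw [Subgroup.closure_le]
    rintro _ ⟨g, rfl⟩
    rw [SetLike.mem_coe, Subgroup.mem_comap]
    show φ (g ^ n) ∈ _
    rw [map_pow]
    exact Subgroup.mem_sup_left (Subgroup.subset_closure ⟨φ g, rfl⟩)
  · rw [commutator_def, Subgroup.commutator_le]
    intro a _ b _
    rw [Subgroup.mem_comap]
    show φ (⁅a, b⁆ : G) ∈ _
    rw [map_commutatorElement]
    apply Subgroup.mem_sup_right
    exact Subgroup.commutator_mem_commutator (Subgroup.mem_top _) (Subgroup.mem_top _)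

omit [TopologicalSpace G] [IsTopologicalGroup G] in
theorem N0_normal : (N0 G n).Normal := by
  refine ⟨fun x hx g => ?_⟩
  have := N0_map_le n (MulAut.conj g) (Subgroup.mem_map_of_mem _ hx)
  simpa using this

theorem powCommClosure_eq : powCommClosure G n = (N0 G n).topologicalClosure := rfl

theorem powCommClosure_normal : (powCommClosure G n).Normal := by
  rw [powCommClosure_eq]
  have := N0_normal (G := G) n
  exact Subgroup.is_normal_topologicalClosure _

theorem isClosed_powCommClosure : IsClosed (powCommClosure G n : Set G) :=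
  Subgroup.isClosed_topologicalClosure _

theorem pow_mem_powCommClosure (g : G) : g ^ n ∈ powCommClosure G n :=
  Subgroup.le_topologicalClosure _
    (Subgroup.mem_sup_left (Subgroup.subset_closure ⟨g, rfl⟩))

theorem commutator_le_powCommClosure : commutator G ≤ powCommClosure G n :=
  le_trans le_sup_right (Subgroup.le_topologicalClosure _)

theorem powCommClosure_le (H : Subgroup G) (hH : IsClosed (H : Set G)) (hpow : ∀ g : G, g ^ n ∈ H)
    (hcomm : commutator G ≤ H) : powCommClosure G n ≤ H := by
  apply Subgroup.topologicalClosure_minimal _ _ hH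
  apply sup_le _ hcomm
  rw [Subgroup.closure_le]
  rintro _ ⟨g, rfl⟩
  exact hpow g

theorem map_powCommClosure_le (φ : G ≃* G) (hφ : Continuous φ) :
    (powCommClosure G n).map φ.toMonoidHom ≤ powCommClosure G n := by
  rw [Subgroup.map_le_iff_le_comap]
  apply Subgroup.topologicalClosure_minimal
  · rw [← Subgroup.map_le_iff_le_comap]
    exact le_trans (N0_map_le n φ) (Subgroup.le_topologicalClosure _)
  · exact (isClosed_powCommClosure n).preimage hφ

theorem map_powCommClosure_eq (φ : G ≃* G) (hφ : Continuous φ) (hφ' : Continuous φ.symm) :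
    (powCommClosure G n).map φ.toMonoidHom = powCommClosure G n := by
  apply le_antisymm (map_powCommClosure_le n φ hφ)
  intro x hx
  refine ⟨φ.symm x, ?_, by simp⟩
  exact map_powCommClosure_le n φ.symm hφ' (Subgroup.mem_map_of_mem _ hx)

end Groth.Agent.Lib.Helper21.TopGrp
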