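import Mathlib
import Groth.Prelude.Def_W4c1etcurveeff2TopGrp
import Groth.Agent.Lib.Helper21.TopGrpA

open W4c1etcurveeff2
open scoped commutatorElement

universe u

namespace Groth.Agent.Lib.Helper21.TopGrp

section duality
/-- the cyclic group of order `n` has enough `n`-th roots of unity -/
theorem hasEnough (n : ℕ) [NeZero n] : HasEnoughRootsOfUnity (Multiplicative (ZMod n)) n where
  prim := by
    refine ⟨Multiplicative.ofAdd (1 : ZMod n), ?_, ?_⟩
    · rw [← ofAdd_nsmul]
      simp
    · intro l hl
      rw [← ofAdd_nsmul] at hl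
      have : (l : ZMod n) = 0 := by simpa using hl
      exact (ZMod.natCast_eq_zero_iff l n).1 this
  cyc := by
    have h1 : IsCyclic (Multiplicative (ZMod n)) := inferInstance
    have h2 : IsCyclic (Multiplicative (ZMod n))ˣ :=
      isCyclic_of_surjective (toUnits (G := Multiplicative (ZMod n))) (toUnits).surjective
    infer_instance

variable {Q : Type*} [CommGroup Q] [Finite Q] (n : ℕ) [NeZero n]

theorem exists_char_ne_one (hexp : ∀ q : Q, q ^ n = 1) {a : Q} (ha : a ≠ 1) :
    ∃ ψ : Q →* Multiplicative (ZMod n), ψ a ≠ 1 := by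
  have hdvd : Monoid.exponent Q ∣ n := Monoid.exponent_dvd_of_forall_pow_eq_one hexp
  have := hasEnough n
  have : HasEnoughRootsOfUnity (Multiplicative (ZMod n)) (Monoid.exponent Q) :=
    HasEnoughRootsOfUnity.of_dvd _ hdvd
  obtain ⟨φ, hφ⟩ := CommGroup.exists_apply_ne_one_of_hasEnoughRootsOfUnity Q (Multiplicative (ZMod n)) ha
  refine ⟨(toUnits (G := Multiplicative (ZMod n))).symm.toMonoidHom.comp φ, ?_⟩
  intro h
  apply hφ
  have : (toUnits (G := Multiplicative (ZMod n))).symm (φ a) = 1 := h
  rwa [MulEquiv.map_eq_one_iff] at this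

theorem exists_eval (hexp : ∀ q : Q, q ^ n = 1)
    (F : (Q →* Multiplicative (ZMod n)) →* Multiplicative (ZMod n)) :
    ∃ q : Q, ∀ ψ : Q →* Multiplicative (ZMod n), F ψ = ψ q := by
  have hdvd : Monoid.exponent Q ∣ n := Monoid.exponent_dvd_of_forall_pow_eq_one hexp
  have := hasEnough n
  have : HasEnoughRootsOfUnity (Multiplicative (ZMod n)) (Monoid.exponent Q) :=
    HasEnoughRootsOfUnity.of_dvd _ hdvd
  let tu := toUnits (G := Multiplicative (ZMod n))
  let η : (Q →* (Multiplicative (ZMod n))ˣ) →* (Multiplicative (ZMod n))ˣ :=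
    { toFun := fun φ => tu (F (tu.symm.toMonoidHom.comp φ))
      map_one' := by
        have : tu.symm.toMonoidHom.comp (1 : Q →* (Multiplicative (ZMod n))ˣ) = 1 := by
          ext; simp
        rw [this, map_one, map_one]
      map_mul' := fun φ φ' => by
        have : tu.symm.toMonoidHom.comp (φ * φ') =
            tu.symm.toMonoidHom.comp φ * tu.symm.toMonoidHom.comp φ' := by
          ext; simp
        rw [this, map_mul, map_mul] }
  refine ⟨CommGroup.monoidHomMonoidHomEquiv Q (Multiplicative (ZMod n)) η, fun ψ => ?_⟩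
  have h := CommGroup.apply_monoidHomMonoidHomEquiv (G := Q) (M := Multiplicative (ZMod n)) (tu.toMonoidHom.comp ψ) η
  have h2 : tu.symm.toMonoidHom.comp (tu.toMonoidHom.comp ψ) = ψ := by
    ext; simp
  have h3 : η (tu.toMonoidHom.comp ψ) = tu (F ψ) := by
    show tu (F (tu.symm.toMonoidHom.comp (tu.toMonoidHom.comp ψ))) = _
    rw [h2]
  rw [h3] at h
  exact (tu.injective h).symm


end duality

variable {G : Type u} [Group G] [TopologicalSpace G] [IsTopologicalGroup G] (n : ℕ)

section quot
variable (S : Subgroup G) [S.Normal] (hcomm : commutator G ≤ S) (hpow : ∀ g : G, g ^ n ∈ S)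

omit [TopologicalSpace G] [IsTopologicalGroup G] in
include hcomm in
theorem quot_mul_comm (a b : G ⧸ S) : a * b = b * a := by
  induction a using QuotientGroup.induction_on with | @H a =>
  induction b using QuotientGroup.induction_on with | @H b =>
  rw [← QuotientGroup.mk_mul, ← QuotientGroup.mk_mul, QuotientGroup.eq]
  apply hcomm
  rw [commutator_def]
  have : (a * b)⁻¹ * (b * a) = ⁅b⁻¹, a⁻¹⁆ := by
    rw [commutatorElement_def]; group
  rw [this]
  exact Subgroup.commutator_mem_commutator (Subgroup.mem_top _) (Subgroup.mem_top _)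

omit [TopologicalSpace G] [IsTopologicalGroup G] in
include hpow in
theorem quot_pow (a : G ⧸ S) : a ^ n = 1 := by
  induction a using QuotientGroup.induction_on with | @H a =>
  rw [← QuotientGroup.mk_pow, QuotientGroup.eq_one_iff]
  exact hpow a

/-- the commutative group structure on the quotient -/
@[reducible] def quotCommGroup : CommGroup (G ⧸ S) :=
  { (inferInstance : Group (G ⧸ S)) with mul_comm := quot_mul_comm S hcomm }

include hcomm hpow in
theorem finite_quot (hn : n ≠ 0) (hclosed : IsClosed (S : Set G)) (s : Finset G)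
    (hs : Dense ((Subgroup.closure (s : Set G) : Subgroup G) : Set G)) : Finite (G ⧸ S) := by
  let _ := quotCommGroup S hcomm
  have : IsClosed (S : Set G) := hclosed
  let T : Subgroup (G ⧸ S) := (Subgroup.closure (s : Set G)).map (QuotientGroup.mk' S)
  have hTfg : T.FG := (Subgroup.fg_iff _).2 ⟨(QuotientGroup.mk' S) '' (s : Set G),
    (MonoidHom.map_closure _ _).symm, s.finite_toSet.image _⟩
  have : Group.FG T := (Group.fg_iff_subgroup_fg T).2 hTfg
  have htors : IsMulTorsion T := fun t =>
    isOfFinOrder_iff_pow_eq_one.2 ⟨n, Nat.pos_of_ne_zero hn, Subtype.ext (by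
      rw [Subgroup.coe_pow, quot_pow n S hpow]; rfl)⟩
  have hTfin : Finite T := CommGroup.finite_of_fg_isMulTorsion T htors
  have hTset : (T : Set (G ⧸ S)).Finite := Set.toFinite _
  have hdense : Dense (T : Set (G ⧸ S)) := by
    have h1 : DenseRange (QuotientGroup.mk' S) :=
      (QuotientGroup.mk'_surjective S).denseRange
    have := h1.dense_image QuotientGroup.continuous_mk hs
    convert this using 1
    exact Subgroup.coe_map _ _
  have hTtop : (T : Set (G ⧸ S)) = Set.univ := by
    rw [← hTset.isClosed.closure_eq]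
    exact hdense.closure_eq
  exact Set.finite_univ_iff.1 (hTtop ▸ hTset)

end quot


end Groth.Agent.Lib.Helper21.TopGrp
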