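import Groth.Agent.Lib.Helper5.ToposQC

/-!
# Quasi-separatedness/coherence of a morphism from a cover of the source by quasi-compact
morphisms
-/

set_option autoImplicit false
universe u
open CategoryTheory CategoryTheory.Limits Opposite

namespace Groth.Agent.Lib.Helper21.ToposCover

open Groth.Agent.Lib.Helper9 Groth.Agent.Lib.Helper5.ToposEpi Groth.Agent.Lib.Helper5.ToposQC

variable {C : Type u} [SmallCategory C] {J : GrothendieckTopology C}

section coversource

set_option maxHeartbeats 400000 in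
theorem isQCHom_map_of_qs {Y Z : ToposFin.Sh J}
    (g : Y ⟶ Z) {A B : ToposFin.Sh J} (a : A ⟶ Y) (b : B ⟶ Y) (hb : ToposFin.IsQCHom b)
    (hqs : ToposFin.IsQSHom (b ≫ g)) :
    ToposFin.IsQCHom (pullback.map a b (a ≫ g) (b ≫ g) (𝟙 _) (𝟙 _) g
        (Category.id_comp _).symm (Category.id_comp _).symm) := by
  apply isQCHom_of_comp _ (pullback.fst (a ≫ g) (b ≫ g))
    (isQSHom_pullback_fst _ _ hqs)
  have e : pullback.map a b (a ≫ g) (b ≫ g) (𝟙 _) (𝟙 _) g
      (Category.id_comp _).symm (Category.id_comp _).symm ≫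
      pullback.fst (a ≫ g) (b ≫ g) = pullback.fst a b := by
    unfold pullback.map
    erw [pullback.lift_fst]
    exact Category.comp_id _
  rw [e]
  exact (qcHom (J := J)).pullback_fst _ _ hb

set_option maxHeartbeats 400000 in
theorem isQSHom_of_cover_of_source (hE : ToposFin.HasQCGenerators J) {Y Z : ToposFin.Sh J}
    (g : Y ⟶ Z) {ι : Type u} (X : ι → ToposFin.Sh J) (f : ∀ i, X i ⟶ Y) (hf : JEpi f)
    (hqc : ∀ i, ToposFin.IsQCHom (f i)) (hqs : ∀ i, ToposFin.IsQSHom (f i ≫ g)) :
    ToposFin.IsQSHom g := by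
  show ToposFin.IsQCHom (pullback.diagonal g)
  refine isQCHom_of_jepi_target' hE (pullback.diagonal g)
    (Yi := fun p : ι × ι => pullback (f p.1 ≫ g) (f p.2 ≫ g))
    (X' := fun p : ι × ι => pullback (f p.1) (f p.2))
    (fun p => pullback.map (f p.1 ≫ g) (f p.2 ≫ g) g g (f p.1) (f p.2) (𝟙 Z)
      (by simp) (by simp))
    (JEpi.pullback_map g g f hf f hf)
    (fun p => pullback.fst _ _ ≫ f p.1)
    (fun p => pullback.map (f p.1) (f p.2) (f p.1 ≫ g) (f p.2 ≫ g) (𝟙 _) (𝟙 _) g
      (Category.id_comp _).symm (Category.id_comp _).symm)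
    (fun p => pullback_map_diagonal_isPullback (f p.1) (f p.2) g) ?_
  intro p
  exact isQCHom_map_of_qs g (f p.1) (f p.2) (hqc p.2) (hqs p.2)

set_option maxHeartbeats 400000 in
theorem isCohHom_of_cover_of_source (hE : ToposFin.HasQCGenerators J) {Y Z : ToposFin.Sh J}
    (g : Y ⟶ Z) {n : ℕ} (X : Fin n → ToposFin.Sh J) (f : ∀ k, X k ⟶ Y) (hf : JEpi f)
    (hqc : ∀ k, ToposFin.IsQCHom (f k)) (hcoh : ∀ k, ToposFin.IsCohHom (f k ≫ g)) :
    ToposFin.IsCohHom g := by
  refine ⟨?_, ?_⟩
  · intro T t hT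
    exact isQC_of_finite_jepi (κ := Fin n)
      (fun k => pullback.snd (f k) (pullback.fst g t)) (hf.pullback_snd _)
      (fun k => isQC_of_iso (pullbackRightPullbackFstIso g t (f k)).symm
        ((hcoh k).1 T t hT))
  · refine isQSHom_of_cover_of_source hE g (ι := ULift.{u} (Fin n)) (fun i => X i.down) (fun i => f i.down) ?_
      (fun i => hqc i.down) (fun i => (hcoh i.down).2)
    intro W a b hab
    exact hf W a b (fun k => hab ⟨k⟩)

end coversource

end Groth.Agent.Lib.Helper21.ToposCover
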