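import Groth.Agent.Lib.Helper5.ToposCoprodQS

/-!
# Quasi-compactness of morphisms is local on the target for partitions; quasi-separatedness
of morphisms out of coproducts
-/

set_option autoImplicit false
universe u
open CategoryTheory CategoryTheory.Limits Opposite

namespace Groth.Agent.Lib.Helper21.ToposPart

open Groth.Agent.Lib.Helper9 Groth.Agent.Lib.Helper5.ToposEpi Groth.Agent.Lib.Helper5.ToposQC
  Groth.Agent.Lib.Helper5.ToposCoprod

variable {C : Type u} [SmallCategory C] {J : GrothendieckTopology C}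

theorem isQC_of_isEmptySh {G : ToposFin.Sh J} (hG : IsEmptySh G) : ToposFin.IsQC G := by
  rw [isQC_iff]
  intro ι F π _
  exact ⟨∅, fun Z a b _ => hG.hom_ext a b⟩

theorem isQCHom_of_isEmptySh {A B : ToposFin.Sh J} (hA : IsEmptySh A) (e : A ⟶ B) :
    ToposFin.IsQCHom e := by
  intro T t _
  exact isQC_of_isEmptySh (hA.of_hom (pullback.fst e t))

/-- Quasi-compactness of a morphism can be checked on the pieces of a partition of the target. -/
theorem isQCHom_of_partition {A B : ToposFin.Sh J} (g : A ⟶ B) {κ : Type u}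
    {Bk : κ → ToposFin.Sh J} {m : ∀ k, Bk k ⟶ B} (hm : IsPartition m)
    (h : ∀ k, ToposFin.IsQCHom (pullback.snd g (m k))) : ToposFin.IsQCHom g := by
  intro T t hT
  have hPT := hm.pullback t
  refine isQC_pullback_of_cover g t hT (fun k => pullback.fst t (m k)) hPT.jepi ?_
  intro k
  have hTk : ToposFin.IsQC (pullback t (m k)) := hPT.isQC hT k
  have h1 : ToposFin.IsQC (pullback (pullback.snd g (m k)) (pullback.snd t (m k))) :=
    h k _ _ hTk
  have h2 : ToposFin.IsQC (pullback g (pullback.snd t (m k) ≫ m k)) :=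
    isQC_of_iso (pullbackLeftPullbackSndIso g (m k) (pullback.snd t (m k))) h1
  exact isQC_congr rfl (pullback.condition).symm h2

section diag

variable {𝒞 : Type*} [Category 𝒞] [HasPullbacks 𝒞] {X' X Y : 𝒞} (j : X' ⟶ X) (f : X ⟶ Y)

/-- The map `X' ×_Y X' → X ×_Y X`. -/
noncomputable abbrev mapjj : pullback (j ≫ f) (j ≫ f) ⟶ pullback f f :=
  pullback.map (j ≫ f) (j ≫ f) f f j j (𝟙 Y) (by simp) (by simp)

lemma mapjj_fst : mapjj j f ≫ pullback.fst f f = pullback.fst (j ≫ f) (j ≫ f) ≫ j := by
  unfold mapjj pullback.map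
  erw [pullback.lift_fst]

lemma mapjj_snd : mapjj j f ≫ pullback.snd f f = pullback.snd (j ≫ f) (j ≫ f) ≫ j := by
  unfold mapjj pullback.map
  erw [pullback.lift_snd]

/-- The diagonal of `j ≫ f` is the base change of the diagonal of `f` when `j` is a
monomorphism. -/
lemma isPullback_diagonal_of_mono [Mono j] :
    IsPullback j (pullback.diagonal (j ≫ f)) (pullback.diagonal f) (mapjj j f) := by
  have comm : j ≫ pullback.diagonal f = pullback.diagonal (j ≫ f) ≫ mapjj j f := by
    apply pullback.hom_ext
    · rw [Category.assoc, Category.assoc, pullback.diagonal_fst, mapjj_fst, ← Category.assoc,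
        pullback.diagonal_fst, Category.comp_id, Category.id_comp]
    · rw [Category.assoc, Category.assoc, pullback.diagonal_snd, mapjj_snd, ← Category.assoc,
        pullback.diagonal_snd, Category.comp_id, Category.id_comp]
  refine ⟨⟨comm⟩, ⟨PullbackCone.IsLimit.mk comm (fun s => s.snd ≫ pullback.fst _ _) ?_ ?_ ?_⟩⟩
  · intro s
    have h := congrArg (fun k => k ≫ pullback.fst f f) s.condition
    simp only [Category.assoc, pullback.diagonal_fst, Category.comp_id, mapjj_fst] at h
    simp only [Category.assoc]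
    exact h.symm
  · intro s
    have h1 := congrArg (fun k => k ≫ pullback.fst f f) s.condition
    have h2 := congrArg (fun k => k ≫ pullback.snd f f) s.condition
    simp only [Category.assoc, pullback.diagonal_fst, pullback.diagonal_snd, Category.comp_id,
      mapjj_fst, mapjj_snd] at h1 h2
    apply pullback.hom_ext
    · simp
    · have e : s.snd ≫ pullback.fst (j ≫ f) (j ≫ f) = s.snd ≫ pullback.snd (j ≫ f) (j ≫ f) := by
        rw [← cancel_mono j]
        simp only [Category.assoc]
        rw [← h1, ← h2]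
      simp only [Category.assoc, pullback.diagonal_snd, Category.comp_id]
      exact e
  · intro s w hw1 hw2
    have := congrArg (fun k => k ≫ pullback.fst (j ≫ f) (j ≫ f)) hw2
    simp only [Category.assoc, pullback.diagonal_fst, Category.comp_id] at this
    exact this

lemma mono_pullback_map {W X₁ Y₁ Z S T : 𝒞} (f₁ : W ⟶ S) (f₂ : X₁ ⟶ S) (g₁ : Y₁ ⟶ T) (g₂ : Z ⟶ T)
    (i₁ : W ⟶ Y₁) (i₂ : X₁ ⟶ Z) (i₃ : S ⟶ T) (e₁ : f₁ ≫ i₃ = i₁ ≫ g₁) (e₂ : f₂ ≫ i₃ = i₂ ≫ g₂)
    [Mono i₁] [Mono i₂] : Mono (pullback.map f₁ f₂ g₁ g₂ i₁ i₂ i₃ e₁ e₂) := by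
  constructor
  intro A a b h
  have h1 := congrArg (fun k => k ≫ pullback.fst g₁ g₂) h
  have h2 := congrArg (fun k => k ≫ pullback.snd g₁ g₂) h
  simp only [Category.assoc] at h1 h2
  unfold pullback.map at h1 h2
  erw [pullback.lift_fst] at h1
  erw [pullback.lift_snd] at h2
  apply pullback.hom_ext
  · rw [← cancel_mono i₁]
    simpa only [Category.assoc] using h1
  · rw [← cancel_mono i₂]
    simpa only [Category.assoc] using h2

end diag

section cofan

variable {Y : ToposFin.Sh J} {ι : Type u} (X : ι → ToposFin.Sh J) (c : Cofan X) (hc : IsColimit c)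
    (f : c.pt ⟶ Y)

/-- the maps `X_i ×_Y X_j → X ×_Y X` -/
noncomputable abbrev mij (p : ι × ι) : pullback (c.inj p.1 ≫ f) (c.inj p.2 ≫ f) ⟶ pullback f f :=
  pullback.map (c.inj p.1 ≫ f) (c.inj p.2 ≫ f) f f (c.inj p.1) (c.inj p.2) (𝟙 Y)
    (by simp) (by simp)

lemma mij_fst (p : ι × ι) : mij X c f p ≫ pullback.fst f f = pullback.fst _ _ ≫ c.inj p.1 := by
  unfold mij pullback.map
  erw [pullback.lift_fst]

lemma mij_snd (p : ι × ι) : mij X c f p ≫ pullback.snd f f = pullback.snd _ _ ≫ c.inj p.2 := by
  unfold mij pullback.map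
  erw [pullback.lift_snd]

include hc in
lemma isPartition_mij : IsPartition (mij X c f) where
  jepi := JEpi.pullback_map f f (fun i => c.inj i) (jepi_inj c hc) (fun j => c.inj j)
    (jepi_inj c hc)
  mono p := by
    haveI := mono_inj c hc p.1
    haveI := mono_inj c hc p.2
    exact mono_pullback_map _ _ _ _ _ _ _ _ _
  disj p q hpq := by
    have hc1 := congrArg (fun k => k ≫ pullback.fst f f)
      (pullback.condition (f := mij X c f p) (g := mij X c f q))
    have hc2 := congrArg (fun k => k ≫ pullback.snd f f)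
      (pullback.condition (f := mij X c f p) (g := mij X c f q))
    simp only [Category.assoc, mij_fst, mij_snd] at hc1 hc2
    by_cases h1 : p.1 = q.1
    · have h2 : p.2 ≠ q.2 := fun h2 => hpq (Prod.ext h1 h2)
      refine isEmptySh_of_inj_eq c hc h2 (pullback.fst _ _ ≫ pullback.snd _ _)
        (pullback.snd _ _ ≫ pullback.snd _ _) ?_
      simpa only [Category.assoc] using hc2
    · refine isEmptySh_of_inj_eq c hc h1 (pullback.fst _ _ ≫ pullback.fst _ _)
        (pullback.snd _ _ ≫ pullback.fst _ _) ?_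
      simpa only [Category.assoc] using hc1

include hc in
theorem isQSHom_cofan_desc_iff :
    ToposFin.IsQSHom f ↔ ∀ i, ToposFin.IsQSHom (c.inj i ≫ f) := by
  constructor
  · intro hf i
    haveI := mono_inj c hc i
    exact MorphismProperty.of_isPullback (P := qcHom)
      (isPullback_diagonal_of_mono (c.inj i) f) hf
  · intro h
    refine isQCHom_of_partition (pullback.diagonal f) (isPartition_mij X c hc f) ?_
    rintro ⟨i, j⟩
    by_cases hij : i = j
    · subst hij
      haveI := mono_inj c hc i
      have sq := isPullback_diagonal_of_mono (c.inj i) f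
      have e : pullback.snd (pullback.diagonal f) (mij X c f (i, i)) =
          sq.isoPullback.inv ≫ pullback.diagonal (c.inj i ≫ f) := by
        rw [Iso.eq_inv_comp]
        exact sq.isoPullback_hom_snd
      rw [e]
      exact ((qcHom (J := J)).cancel_left_of_respectsIso sq.isoPullback.inv _).2 (h i)
    · apply isQCHom_of_isEmptySh
      have hc1 := congrArg (fun k => k ≫ pullback.fst f f)
        (pullback.condition (f := pullback.diagonal f) (g := mij X c f (i, j)))
      have hc2 := congrArg (fun k => k ≫ pullback.snd f f)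
        (pullback.condition (f := pullback.diagonal f) (g := mij X c f (i, j)))
      simp only [Category.assoc, mij_fst, mij_snd, pullback.diagonal_fst,
        pullback.diagonal_snd] at hc1 hc2
      refine isEmptySh_of_inj_eq c hc hij (pullback.snd _ _ ≫ pullback.fst _ _)
        (pullback.snd _ _ ≫ pullback.snd _ _) ?_
      simp only [Category.assoc]
      rw [← hc1, ← hc2]

include hc in
theorem isQCHom_inj (i : ι) : ToposFin.IsQCHom (c.inj i) := by
  intro T t hT
  have hP := (isPartition_inj c hc).pullback t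
  exact isQC_pullback_symm (hP.isQC hT i)

end cofan

section fincofan

variable {Y : ToposFin.Sh J} {n : ℕ} (X : Fin n → ToposFin.Sh J) (c : Cofan X) (hc : IsColimit c)
    (f : c.pt ⟶ Y)

/-- reindexing of a finite cofan over `ULift (Fin n)` -/
def liftCofan : Cofan (fun i : ULift.{u} (Fin n) => X i.down) :=
  Cofan.mk c.pt (fun i => c.inj i.down)

/-- the reindexed cofan is a colimit -/
def liftCofanIsColimit : IsColimit (liftCofan X c) :=
  mkCofanColimit _ (fun s => Cofan.IsColimit.desc hc (fun i => s.inj ⟨i⟩))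
    (fun s i => by
      change c.inj i.down ≫ _ = _
      rw [Cofan.IsColimit.fac])
    (fun s m hm => by
      apply Cofan.IsColimit.hom_ext hc
      intro i
      rw [Cofan.IsColimit.fac]
      exact hm ⟨i⟩)

include hc in
theorem isQCHom_cofan_desc_iff_of_finite :
    (ToposFin.IsQCHom f ↔ ∀ i, ToposFin.IsQCHom (c.inj i ≫ f)) ∧
    (ToposFin.IsCohHom f ↔ ∀ i, ToposFin.IsCohHom (c.inj i ≫ f)) := by
  have hinj : ∀ i, ToposFin.IsQCHom (c.inj i) := fun i =>
    isQCHom_inj _ (liftCofan X c) (liftCofanIsColimit X c hc) ⟨i⟩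
  have hqc : ToposFin.IsQCHom f ↔ ∀ i, ToposFin.IsQCHom (c.inj i ≫ f) := by
    constructor
    · intro hf i
      exact isQCHom_comp _ _ (hinj i) hf
    · intro h T t hT
      have hj : JEpi (fun i => c.inj i) := fun Z a b hab => Cofan.IsColimit.hom_ext hc _ _ hab
      exact isQC_of_finite_jepi (κ := Fin n)
        (fun i => pullback.snd (c.inj i) (pullback.fst f t)) (hj.pullback_snd _)
        (fun i => isQC_of_iso (pullbackRightPullbackFstIso f t (c.inj i)).symm (h i T t hT))
  have hqs : ToposFin.IsQSHom f ↔ ∀ i, ToposFin.IsQSHom (c.inj i ≫ f) := by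
    have key := isQSHom_cofan_desc_iff _ (liftCofan X c) (liftCofanIsColimit X c hc) f
    exact ⟨fun hf i => key.1 hf ⟨i⟩, fun h => key.2 (fun i => h i.down)⟩
  refine ⟨hqc, ?_⟩
  constructor
  · intro hf i
    exact ⟨hqc.1 hf.1 i, hqs.1 hf.2 i⟩
  · intro h
    exact ⟨hqc.2 fun i => (h i).1, hqs.2 fun i => (h i).2⟩

end fincofan

end Groth.Agent.Lib.Helper21.ToposPart
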