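import Mathlib

/-!
# Morphisms inducing zero on `Tor(-, N)` in all degrees

For a chain complex `P` of modules we consider the functor `G P : X ↦ X ⊗ P` and the class
`Null P` of morphisms `h` with `H_p (G P h) = 0` for all `p`.
-/

set_option autoImplicit false
universe u
open CategoryTheory CategoryTheory.Limits MonoidalCategory

namespace Groth.Agent.Lib.Helper21.TorNull

variable {A : Type u} [CommRing A]

/-- `X ↦ X ⊗ P•`. -/
noncomputable def G (P : ChainComplex (ModuleCat.{u} A) ℕ) :
    ModuleCat.{u} A ⥤ ChainComplex (ModuleCat.{u} A) ℕ where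
  obj X := (((curriedTensor (ModuleCat.{u} A)).obj X).mapHomologicalComplex _).obj P
  map h := (NatTrans.mapHomologicalComplex ((curriedTensor (ModuleCat.{u} A)).map h) _).app P
  map_id X := by
    refine HomologicalComplex.hom_ext _ _ (fun k => ?_)
    simp
  map_comp f g := by
    refine HomologicalComplex.hom_ext _ _ (fun k => ?_)
    simp

@[simp] lemma G_obj_X (P : ChainComplex (ModuleCat.{u} A) ℕ) (X : ModuleCat.{u} A) (k : ℕ) :
    ((G P).obj X).X k = X ⊗ P.X k := rfl

@[simp] lemma G_map_f (P : ChainComplex (ModuleCat.{u} A) ℕ) {X Y : ModuleCat.{u} A} (h : X ⟶ Y)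
    (k : ℕ) : ((G P).map h).f k = h ▷ P.X k := rfl

instance (P : ChainComplex (ModuleCat.{u} A) ℕ) : (G P).Additive where
  map_add {X Y f g} := by
    refine HomologicalComplex.hom_ext _ _ (fun k => ?_)
    show (f + g) ▷ P.X k = f ▷ P.X k + g ▷ P.X k
    exact MonoidalPreadditive.add_whiskerRight _ _

/-- Morphisms inducing zero on the homology of `- ⊗ P` in all degrees. -/
def Null (P : ChainComplex (ModuleCat.{u} A) ℕ) {X Y : ModuleCat.{u} A} (h : X ⟶ Y) : Prop :=
  ∀ p : ℕ, HomologicalComplex.homologyMap ((G P).map h) p = 0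

lemma Null.comp_left {P : ChainComplex (ModuleCat.{u} A) ℕ} {W X Y : ModuleCat.{u} A}
    (g : W ⟶ X) {h : X ⟶ Y} (hh : Null P h) : Null P (g ≫ h) := by
  intro p
  rw [Functor.map_comp, HomologicalComplex.homologyMap_comp, hh p, comp_zero]

lemma Null.comp_right {P : ChainComplex (ModuleCat.{u} A) ℕ} {W X Y : ModuleCat.{u} A}
    {h : X ⟶ Y} (g : Y ⟶ W) (hh : Null P h) : Null P (h ≫ g) := by
  intro p
  rw [Functor.map_comp, HomologicalComplex.homologyMap_comp, hh p, zero_comp]

lemma Null.add {P : ChainComplex (ModuleCat.{u} A) ℕ} {X Y : ModuleCat.{u} A}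
    {h h' : X ⟶ Y} (hh : Null P h) (hh' : Null P h') : Null P (h + h') := by
  intro p
  rw [Functor.map_add, HomologicalComplex.homologyMap_add, hh p, hh' p, add_zero]

/-- The chain map given by multiplication by a scalar. -/
noncomputable def sm (P : ChainComplex (ModuleCat.{u} A) ℕ) (a : A) : P ⟶ P where
  f k := a • 𝟙 (P.X k)
  comm' i j _ := by simp

lemma G_map_smul_id (P : ChainComplex (ModuleCat.{u} A) ℕ) (a : A) (X : ModuleCat.{u} A) :
    (G P).map (a • 𝟙 X) =
      (((curriedTensor (ModuleCat.{u} A)).obj X).mapHomologicalComplex _).map (sm P a) := by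
  refine HomologicalComplex.hom_ext _ _ (fun k => ?_)
  show (a • 𝟙 X) ▷ P.X k = X ◁ (a • 𝟙 (P.X k))
  apply ModuleCat.MonoidalCategory.tensor_ext
  intro x y
  simp

lemma null_smul {N : ModuleCat.{u} A} (Pr : ProjectiveResolution N) (a : A)
    (ha : ∀ y : N, a • y = 0) (X : ModuleCat.{u} A) : Null Pr.complex (a • 𝟙 X) := by
  intro p
  have hcomm : sm Pr.complex a ≫ Pr.π = 0 := by
    apply HomologicalComplex.to_single_hom_ext
    rw [HomologicalComplex.comp_f, HomologicalComplex.zero_f]
    show (a • 𝟙 (Pr.complex.X 0)) ≫ Pr.π.f 0 = 0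
    rw [Linear.smul_comp, Category.id_comp]
    apply ModuleCat.hom_ext
    apply LinearMap.ext
    intro x
    exact ha _
  have h := ProjectiveResolution.liftHomotopyZero (P := Pr) (Q := Pr) (sm Pr.complex a) hcomm
  have h' := ((curriedTensor (ModuleCat.{u} A)).obj X).mapHomotopy h
  rw [G_map_smul_id]
  have e := h'.homologyMap_eq p
  rw [Functor.map_zero, HomologicalComplex.homologyMap_zero] at e
  exact e

lemma shortExact_map_G (P : ChainComplex (ModuleCat.{u} A) ℕ) (hP : ∀ k, Module.Flat A (P.X k))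
    (S : ShortComplex (ModuleCat.{u} A)) (hS : S.ShortExact) : (S.map (G P)).ShortExact := by
  apply HomologicalComplex.shortExact_of_degreewise_shortExact
  intro k
  have := hP k
  have : PreservesFiniteColimits (tensorRight (P.X k)) :=
    preservesFiniteColimits_of_natIso (BraidedCategory.tensorLeftIsoTensorRight (P.X k))
  exact hS.map_of_exact (tensorRight (P.X k))

lemma null_mv (P : ChainComplex (ModuleCat.{u} A) ℕ) (hP : ∀ k, Module.Flat A (P.X k))
    {S' S : ShortComplex (ModuleCat.{u} A)} (hS' : S'.ShortExact) (hS : S.ShortExact)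
    (φ : S' ⟶ S) {Y : ModuleCat.{u} A} (ψ : S.X₃ ⟶ Y) (h₁ : Null P φ.τ₁)
    (h₂ : Null P (S.g ≫ ψ)) : Null P (φ.τ₃ ≫ ψ) := by
  intro p
  have hGS' := shortExact_map_G P hP S' hS'
  have hGS := shortExact_map_G P hP S hS
  let Gφ : S'.map (G P) ⟶ S.map (G P) := (G P).mapShortComplex.map φ
  rw [Functor.map_comp, HomologicalComplex.homologyMap_comp]
  have h₂' : HomologicalComplex.homologyMap ((G P).map S.g) p ≫
      HomologicalComplex.homologyMap ((G P).map ψ) p = 0 := by
    rw [← HomologicalComplex.homologyMap_comp, ← Functor.map_comp]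
    exact h₂ p
  cases p with
  | zero =>
    have : Epi (((G P).map S.g).f 0) :=
      ((HomologicalComplex.shortExact_iff_degreewise_shortExact _).1 hGS 0).epi_g
    have : Epi (HomologicalComplex.homologyMap ((G P).map S.g) 0) :=
      HomologicalComplex.epi_homologyMap_of_epi_of_not_rel _ _ (by intro j; simp)
    have : HomologicalComplex.homologyMap ((G P).map ψ) 0 = 0 := by
      rw [← cancel_epi (HomologicalComplex.homologyMap ((G P).map S.g) 0), h₂', comp_zero]
    rw [this, comp_zero]
  | succ q =>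
    have hrel : (ComplexShape.down ℕ).Rel (q + 1) q := rfl
    have hex := hGS.homology_exact₃ (q + 1) q hrel
    have hnat := HomologicalComplex.HomologySequence.δ_naturality Gφ hGS' hGS (q + 1) q hrel
    have h0 : HomologicalComplex.homologyMap Gφ.τ₁ q = 0 := h₁ q
    have hz : HomologicalComplex.homologyMap Gφ.τ₃ (q + 1) ≫
        hGS.δ (q + 1) q hrel = 0 := by
      rw [← hnat, h0, comp_zero]
    obtain ⟨A', π, hπ, x₂, hx₂'⟩ : ∃ (A' : ModuleCat.{u} A)
        (π : A' ⟶ HomologicalComplex.homology ((G P).obj S'.X₃) (q + 1)) (_ : Epi π)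
        (x₂ : A' ⟶ HomologicalComplex.homology ((G P).obj S.X₂) (q + 1)),
        π ≫ HomologicalComplex.homologyMap ((G P).map φ.τ₃) (q + 1) =
          x₂ ≫ HomologicalComplex.homologyMap ((G P).map S.g) (q + 1) :=
      hex.exact_up_to_refinements _ hz
    rw [← cancel_epi π, comp_zero, reassoc_of% hx₂', h₂', comp_zero]

lemma tor_map_app_eq_zero {N : ModuleCat.{u} A} (Pr : ProjectiveResolution N)
    {X Y : ModuleCat.{u} A} (h : X ⟶ Y) (hh : Null Pr.complex h) (p : ℕ) :
    ((Tor (ModuleCat.{u} A) p).map h).app N = 0 := by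
  have h1 := ProjectiveResolution.leftDerived_app_eq
    ((curriedTensor (ModuleCat.{u} A)).map h) Pr p
  have hz : (HomologicalComplex.homologyFunctor (ModuleCat.{u} A) (ComplexShape.down ℕ) p).map
      ((NatTrans.mapHomologicalComplex ((curriedTensor (ModuleCat.{u} A)).map h) _).app
        Pr.complex) = 0 := hh p
  show (NatTrans.leftDerived ((curriedTensor (ModuleCat.{u} A)).map h) p).app N = 0
  rw [h1, hz, zero_comp, comp_zero]

lemma flat_of_projectiveResolution {N : ModuleCat.{u} A} (Pr : ProjectiveResolution N) (k : ℕ) :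
    Module.Flat A (Pr.complex.X k) := by
  have : Projective (Pr.complex.X k) := Pr.projective k
  have : Module.Projective A (Pr.complex.X k) := inferInstance
  infer_instance

end Groth.Agent.Lib.Helper21.TorNull
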