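import Mathlib

/-!
# Uniform vanishing of maps from `I^n M` for "null classes" of morphisms

Abstract Mayer–Vietoris induction on the number of generators of `I`.
-/

set_option autoImplicit false
universe u
open CategoryTheory

namespace Groth.Agent.Lib.Helper21.TorPow

/-- A class of morphisms of modules behaving like "maps inducing zero on `Tor_*(-, N)`"
with `N` killed by `J`. -/
structure NullClass (A : Type u) [CommRing A] (J : Ideal A) where
  Z : ∀ {X Y : ModuleCat.{u} A}, (X ⟶ Y) → Prop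
  comp_left : ∀ {W X Y : ModuleCat.{u} A} (g : W ⟶ X) {h : X ⟶ Y}, Z h → Z (g ≫ h)
  comp_right : ∀ {X Y W : ModuleCat.{u} A} {h : X ⟶ Y} (g : Y ⟶ W), Z h → Z (h ≫ g)
  add : ∀ {X Y : ModuleCat.{u} A} {h h' : X ⟶ Y}, Z h → Z h' → Z (h + h')
  smul : ∀ a ∈ J, ∀ X : ModuleCat.{u} A, Z (a • 𝟙 X)
  mv : ∀ {S' S : ShortComplex (ModuleCat.{u} A)} (_ : S'.ShortExact) (_ : S.ShortExact)
    (φ : S' ⟶ S) {Y : ModuleCat.{u} A} (ψ : S.X₃ ⟶ Y), Z φ.τ₁ → Z (S.g ≫ ψ) → Z (φ.τ₃ ≫ ψ)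

variable {A : Type u} [CommRing A] {J : Ideal A}

lemma Z_of_range_le (C : NullClass A J) {X Y W : Type u} [AddCommGroup X] [Module A X]
    [AddCommGroup Y] [Module A Y] [AddCommGroup W] [Module A W]
    (g : X →ₗ[A] Y) (hg : Function.Injective g) (hZ : C.Z (ModuleCat.ofHom g))
    (w : W →ₗ[A] Y) (hw : LinearMap.range w ≤ LinearMap.range g) :
    C.Z (ModuleCat.ofHom w) := by
  let e := LinearEquiv.ofInjective g hg
  let k : W →ₗ[A] X := e.symm.toLinearMap ∘ₗ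
    (LinearMap.codRestrict (LinearMap.range g) w (fun x => hw ⟨x, rfl⟩))
  have hk : g ∘ₗ k = w := by
    ext x
    simp only [LinearMap.coe_comp, LinearEquiv.coe_coe, Function.comp_apply, k, e]
    rw [LinearEquiv.ofInjective_symm_apply]
    rfl
  rw [← hk, ModuleCat.ofHom_comp]
  exact C.comp_left _ hZ

lemma Z_mono (C : NullClass A J) {M : Type u} [AddCommGroup M] [Module A M]
    (Q Q' : Submodule A M) (h : Q ≤ Q') (hZ : C.Z (ModuleCat.ofHom Q'.subtype)) :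
    C.Z (ModuleCat.ofHom Q.subtype) := by
  apply Z_of_range_le C Q'.subtype Subtype.val_injective hZ
  rw [Submodule.range_subtype, Submodule.range_subtype]
  exact h

/-- The property to be proven for an ideal `I`. -/
def PI (C : NullClass A J) (I : Ideal A) : Prop :=
  ∀ (M : Type u) [AddCommGroup M] [Module A M] [Module.Finite A M],
    ∃ n : ℕ, 0 < n ∧ C.Z (ModuleCat.ofHom (I ^ n • ⊤ : Submodule A M).subtype)

lemma principal [IsNoetherianRing A] (C : NullClass A J) (f : A) (hf : f ∈ J)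
    (M : Type u) [AddCommGroup M] [Module A M] [Module.Finite A M] :
    ∃ n : ℕ, 0 < n ∧
      C.Z (ModuleCat.ofHom ((Ideal.span {f}) ^ n • ⊤ : Submodule A M).subtype) := by
  have : IsNoetherian A M := isNoetherian_of_isNoetherianRing_of_finite A M
  let T : ℕ →o Submodule A M :=
    ⟨fun k => LinearMap.ker ((f ^ k) • (LinearMap.id : M →ₗ[A] M)), by
      intro a b hab x hx
      rw [LinearMap.mem_ker, LinearMap.smul_apply, LinearMap.id_apply] at hx ⊢
      obtain ⟨d, rfl⟩ := Nat.exists_eq_add_of_le hab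
      rw [pow_add, mul_comm, mul_smul, hx, smul_zero]⟩
  obtain ⟨c, hc⟩ := monotone_stabilizes_iff_noetherian.2 inferInstance T
  have hT : ∀ k, T k = LinearMap.ker ((f ^ k) • (LinearMap.id : M →ₗ[A] M)) := fun _ => rfl
  let g₀ : (M ⧸ T c) →ₗ[A] M := (T c).liftQ ((f ^ c) • LinearMap.id) (le_of_eq (hT c))
  have hle : T c ≤ LinearMap.ker ((f ^ (c + 1)) • (LinearMap.id : M →ₗ[A] M)) := by
    rw [← hT, ← hc (c + 1) (Nat.le_succ c)]
  let g : (M ⧸ T c) →ₗ[A] M := (T c).liftQ ((f ^ (c + 1)) • LinearMap.id) hle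
  have hgg : g = g₀ ∘ₗ (f • (LinearMap.id : (M ⧸ T c) →ₗ[A] (M ⧸ T c))) := by
    apply Submodule.linearMap_qext
    ext x
    simp only [LinearMap.coe_comp, Function.comp_apply, Submodule.mkQ_apply, g, g₀,
      Submodule.liftQ_apply, LinearMap.smul_apply, LinearMap.id_apply, map_smul]
    rw [pow_succ, mul_comm, mul_smul]
  have hinj : Function.Injective g := by
    rw [← LinearMap.ker_eq_bot, Submodule.ker_liftQ, ← hT, ← hc (c + 1) (Nat.le_succ c),
      Submodule.mkQ_map_self]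
  refine ⟨c + 1, Nat.succ_pos c, ?_⟩
  apply Z_of_range_le C g hinj
  · rw [hgg, ModuleCat.ofHom_comp]
    apply C.comp_right
    have : ModuleCat.ofHom (f • (LinearMap.id : (M ⧸ T c) →ₗ[A] (M ⧸ T c))) =
        f • 𝟙 (ModuleCat.of A (M ⧸ T c)) := rfl
    rw [this]
    exact C.smul f hf _
  · rw [Submodule.range_subtype, Ideal.span_singleton_pow, Submodule.smul_le]
    intro r hr m _
    obtain ⟨b, rfl⟩ := Ideal.mem_span_singleton'.1 hr
    refine ⟨Submodule.Quotient.mk (b • m), ?_⟩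
    simp only [g, Submodule.liftQ_apply, LinearMap.smul_apply, LinearMap.id_apply]
    rw [mul_smul, smul_comm]

section MV

variable {M : Type u} [AddCommGroup M] [Module A M]

/-- The Mayer–Vietoris short complex `M₁ ∩ M₂ → M₁ × M₂ → M₁ + M₂`. -/
noncomputable def mvS (M₁ M₂ : Submodule A M) : ShortComplex (ModuleCat.{u} A) :=
  ShortComplex.mk
    (ModuleCat.ofHom (LinearMap.prod (Submodule.inclusion (inf_le_left : M₁ ⊓ M₂ ≤ M₁))
      (-(Submodule.inclusion (inf_le_right : M₁ ⊓ M₂ ≤ M₂)))))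
    (ModuleCat.ofHom (LinearMap.coprod (Submodule.inclusion (le_sup_left : M₁ ≤ M₁ ⊔ M₂))
      (Submodule.inclusion (le_sup_right : M₂ ≤ M₁ ⊔ M₂))))
    (by
      rw [← ModuleCat.ofHom_comp]
      apply ModuleCat.hom_ext
      apply LinearMap.ext
      intro x
      apply Subtype.ext
      simp)

lemma mvS_shortExact (M₁ M₂ : Submodule A M) : (mvS M₁ M₂).ShortExact where
  exact := by
    rw [ShortComplex.ShortExact.moduleCat_exact_iff_function_exact]
    intro y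
    constructor
    · intro hy
      obtain ⟨a, b⟩ := y
      have hab : (a : M) + (b : M) = 0 := congrArg Subtype.val hy
      have hb : (b : M) = -(a : M) := eq_neg_of_add_eq_zero_right hab
      have ha : (a : M) ∈ M₁ ⊓ M₂ := by
        refine ⟨a.2, ?_⟩
        have : (a : M) = -(b : M) := by rw [hb, neg_neg]
        rw [this]
        exact M₂.neg_mem b.2
      refine ⟨⟨a, ha⟩, ?_⟩
      apply Prod.ext
      · exact Subtype.ext rfl
      · apply Subtype.ext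
        show -(a : M) = b
        exact hb.symm
    · rintro ⟨x, rfl⟩
      exact ConcreteCategory.congr_hom (mvS M₁ M₂).zero x
  mono_f := by
    rw [ModuleCat.mono_iff_injective]
    intro x y h
    have h1 := congrArg Prod.fst h
    exact Subtype.ext (congrArg Subtype.val h1 :)
  epi_g := by
    rw [ModuleCat.epi_iff_surjective]
    rintro ⟨z, hz⟩
    obtain ⟨a, ha, b, hb, rfl⟩ := Submodule.mem_sup.1 hz
    exact ⟨(⟨a, ha⟩, ⟨b, hb⟩), Subtype.ext rfl⟩

/-- Functoriality of the Mayer–Vietoris short complex. -/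
noncomputable def mvφ {M₁' M₂' M₁ M₂ : Submodule A M} (h₁ : M₁' ≤ M₁) (h₂ : M₂' ≤ M₂) :
    mvS M₁' M₂' ⟶ mvS M₁ M₂ where
  τ₁ := ModuleCat.ofHom (Submodule.inclusion (inf_le_inf h₁ h₂))
  τ₂ := ModuleCat.ofHom (LinearMap.prodMap (Submodule.inclusion h₁) (Submodule.inclusion h₂))
  τ₃ := ModuleCat.ofHom (Submodule.inclusion (sup_le_sup h₁ h₂))
  comm₁₂ := by
    apply ModuleCat.hom_ext
    apply LinearMap.ext
    intro x
    apply Prod.ext
    · exact Subtype.ext rfl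
    · exact Subtype.ext rfl
  comm₂₃ := by
    apply ModuleCat.hom_ext
    apply LinearMap.ext
    rintro ⟨a, b⟩
    exact Subtype.ext rfl

end MV

lemma PI_sup [IsNoetherianRing A] (C : NullClass A J) (I₁ I₂ : Ideal A)
    (h₁ : PI C I₁) (h₂ : PI C I₂) : PI C (I₁ ⊔ I₂) := by
  intro M _ _ _
  have : IsNoetherian A M := isNoetherian_of_isNoetherianRing_of_finite A M
  obtain ⟨n₁, hn₁, hZ₁⟩ := h₁ M
  obtain ⟨n₂, hn₂, hZ₂⟩ := h₂ M
  obtain ⟨n, hn⟩ : ∃ n, n = max n₁ n₂ := ⟨_, rfl⟩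
  have hn1 : n₁ ≤ n := hn ▸ le_max_left _ _
  have hn2 : n₂ ≤ n := hn ▸ le_max_right _ _
  obtain ⟨M₁, hM₁⟩ : ∃ M₁ : Submodule A M, M₁ = I₁ ^ n • ⊤ := ⟨_, rfl⟩
  obtain ⟨M₂, hM₂⟩ : ∃ M₂ : Submodule A M, M₂ = I₂ ^ n • ⊤ := ⟨_, rfl⟩
  have hZM₁ : C.Z (ModuleCat.ofHom M₁.subtype) :=
    Z_mono C _ _ (hM₁ ▸ Submodule.smul_mono_left (Ideal.pow_le_pow_right hn1)) hZ₁
  have hZM₂ : C.Z (ModuleCat.ofHom M₂.subtype) :=
    Z_mono C _ _ (hM₂ ▸ Submodule.smul_mono_left (Ideal.pow_le_pow_right hn2)) hZ₂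
  obtain ⟨Q, hQ⟩ : ∃ Q : Submodule A M, Q = M₁ ⊓ M₂ := ⟨_, rfl⟩
  have : Module.Finite A Q := Module.IsNoetherian.finite A Q
  obtain ⟨m, hm, hZQ⟩ := h₂ Q
  obtain ⟨k, hk⟩ := Ideal.exists_pow_inf_eq_pow_smul I₂ Q
  obtain ⟨n', hn'⟩ : ∃ n', n' = max n (k + m) := ⟨_, rfl⟩
  have hn'1 : n ≤ n' := hn' ▸ le_max_left _ _
  have hn'2 : k + m ≤ n' := hn' ▸ le_max_right _ _
  obtain ⟨M₁', hM₁'⟩ : ∃ M₁' : Submodule A M, M₁' = I₁ ^ n' • ⊤ := ⟨_, rfl⟩
  obtain ⟨M₂', hM₂'⟩ : ∃ M₂' : Submodule A M, M₂' = I₂ ^ n' • ⊤ := ⟨_, rfl⟩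
  have h₁' : M₁' ≤ M₁ := by
    rw [hM₁', hM₁]
    exact Submodule.smul_mono_left (Ideal.pow_le_pow_right hn'1)
  have h₂' : M₂' ≤ M₂ := by
    rw [hM₂', hM₂]
    exact Submodule.smul_mono_left (Ideal.pow_le_pow_right hn'1)
  have hkey : M₁' ⊓ M₂' ≤ I₂ ^ m • Q := by
    have hle : M₁' ⊓ M₂' ≤ I₂ ^ n' • ⊤ ⊓ Q := by
      refine le_inf ?_ ?_
      · rw [← hM₂']
        exact inf_le_right
      · rw [hQ]
        exact inf_le_inf h₁' h₂'
    refine hle.trans ?_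
    rw [hk n' (by omega)]
    exact Submodule.smul_mono (Ideal.pow_le_pow_right (by omega)) inf_le_right
  have hQle : M₁' ⊓ M₂' ≤ Q := hQ ▸ inf_le_inf h₁' h₂'
  have hτ₁ : C.Z (ModuleCat.ofHom (Submodule.inclusion hQle)) := by
    apply Z_of_range_le C (I₂ ^ m • ⊤ : Submodule A Q).subtype Subtype.val_injective hZQ
    rintro _ ⟨x, rfl⟩
    rw [Submodule.range_subtype, Submodule.mem_smul_top_iff]
    exact hkey x.2
  have hg : C.Z ((mvS M₁ M₂).g ≫ ModuleCat.ofHom (M₁ ⊔ M₂).subtype) := by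
    have e : (mvS M₁ M₂).g ≫ ModuleCat.ofHom (M₁ ⊔ M₂).subtype =
        ModuleCat.ofHom (LinearMap.fst A M₁ M₂) ≫ ModuleCat.ofHom M₁.subtype +
          ModuleCat.ofHom (LinearMap.snd A M₁ M₂) ≫ ModuleCat.ofHom M₂.subtype := by
      apply ModuleCat.hom_ext
      apply LinearMap.ext
      rintro ⟨a, b⟩
      rfl
    rw [e]
    exact C.add (C.comp_left _ hZM₁) (C.comp_left _ hZM₂)
  subst hQ
  have hmv := C.mv (mvS_shortExact M₁' M₂') (mvS_shortExact M₁ M₂) (mvφ h₁' h₂')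
    (ModuleCat.ofHom (M₁ ⊔ M₂).subtype) hτ₁ hg
  have hZsup : C.Z (ModuleCat.ofHom (M₁' ⊔ M₂').subtype) := hmv
  refine ⟨n' + n', by omega, ?_⟩
  apply Z_mono C _ _ ?_ hZsup
  calc (I₁ ⊔ I₂) ^ (n' + n') • (⊤ : Submodule A M)
      ≤ (I₁ ^ n' ⊔ I₂ ^ n') • ⊤ := Submodule.smul_mono_left Ideal.sup_pow_add_le_pow_sup_pow
    _ = M₁' ⊔ M₂' := by rw [hM₁', hM₂', Submodule.sup_smul]

theorem main [IsNoetherianRing A] (C : NullClass A J) (I : Ideal A) (hI : I ≤ J) : PI C I := by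
  have hfg : I.FG := IsNoetherian.noetherian I
  revert hI
  refine Submodule.fg_induction (R := A) (M := A)
    (motive := fun (I : Ideal A) _ => I ≤ J → PI C I) ?_ ?_ I hfg
  · intro f hf M _ _ _
    exact principal C f (hf (Ideal.subset_span rfl)) M
  · intro I₁ I₂ _ _ h₁ h₂ h
    exact PI_sup C I₁ I₂ (h₁ (le_sup_left.trans h)) (h₂ (le_sup_right.trans h))

end Groth.Agent.Lib.Helper21.TorPow
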