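import Mathlib

namespace Groth.Agent.Lib.Helper21.TraceBound

universe u

theorem norm_trace_le {V : Type u} [AddCommGroup V] [Module ℂ V] [FiniteDimensional ℂ V]
    (Φ : V →ₗ[ℂ] V) (r : ℝ) (hr0 : 0 ≤ r)
    (hr : ∀ μ, Module.End.HasEigenvalue Φ μ → ‖μ‖ ≤ r) :
    ‖LinearMap.trace ℂ V Φ‖ ≤ Module.finrank ℂ V * r := by
  rw [Module.End.trace_eq_sum_roots_charpoly_of_splits (IsAlgClosed.splits _)]
  calc ‖Φ.charpoly.roots.sum‖ ≤ (Φ.charpoly.roots.map (‖·‖)).sum := norm_multiset_sum_le _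
    _ ≤ Multiset.card (Φ.charpoly.roots.map (‖·‖)) • r := by
        apply Multiset.sum_le_card_nsmul
        intro x hx
        rw [Multiset.mem_map] at hx
        obtain ⟨μ, hμ, rfl⟩ := hx
        exact hr μ ((Module.End.hasEigenvalue_iff_isRoot_charpoly Φ μ).2
          (Polynomial.isRoot_of_mem_roots hμ))
    _ ≤ Module.finrank ℂ V * r := by
        rw [Multiset.card_map, nsmul_eq_mul]
        apply mul_le_mul_of_nonneg_right _ hr0
        have h1 := Polynomial.card_roots' Φ.charpoly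
        rw [LinearMap.charpoly_natDegree] at h1
        exact_mod_cast h1

theorem summable_norm_trace
    (E : ℕ → ℕ → Type u) [∀ p q, AddCommGroup (E p q)] [∀ p q, Module ℂ (E p q)]
    [∀ p q, FiniteDimensional ℂ (E p q)] (Φ : ∀ p q, E p q →ₗ[ℂ] E p q)
    (N : ℕ) (a c : ℕ → ℝ) (b d : ℕ → ℕ) (ha : ∀ q, 0 ≤ a q) (hc : ∀ p, 0 ≤ c p)
    (h1 : ∀ p q, N < q → Subsingleton (E p q))
    (h2 : ∀ p q (μ : ℂ), Module.End.HasEigenvalue (Φ p q) μ → ‖μ‖ ≤ a q * c p)
    (h3 : ∀ p q, Module.finrank ℂ (E p q) ≤ b q * d p)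
    (hsum : Summable fun p : ℕ => c p * (d p : ℝ)) :
    Summable fun pq : ℕ × ℕ => ‖LinearMap.trace ℂ (E pq.1 pq.2) (Φ pq.1 pq.2)‖ := by
  set f : ℕ → ℝ := fun p => c p * (d p : ℝ) with hf
  set g : ℕ → ℝ := fun q => if q ≤ N then a q * (b q : ℝ) else 0 with hg
  have hf0 : 0 ≤ f := fun p => mul_nonneg (hc p) (Nat.cast_nonneg _)
  have hg0 : 0 ≤ g := fun q => by
    simp only [hg]; split_ifs
    · exact mul_nonneg (ha q) (Nat.cast_nonneg _)
    · exact le_rfl
  have hgs : Summable g := by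
    apply summable_of_ne_finset_zero (s := Finset.range (N + 1))
    intro q hq
    simp only [Finset.mem_range, not_lt] at hq
    simp only [hg]
    rw [if_neg (by omega)]
  have hfg : Summable fun pq : ℕ × ℕ => f pq.1 * g pq.2 := hsum.mul_of_nonneg hgs hf0 hg0
  refine Summable.of_nonneg_of_le (fun _ => norm_nonneg _) ?_ hfg
  rintro ⟨p, q⟩
  simp only
  have hr0 : 0 ≤ a q * c p := mul_nonneg (ha q) (hc p)
  have hb := norm_trace_le (Φ p q) (a q * c p) hr0 (h2 p q)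
  by_cases hq : q ≤ N
  · simp only [hf, hg, if_pos hq]
    have h4 : (Module.finrank ℂ (E p q) : ℝ) ≤ (b q : ℝ) * (d p : ℝ) := by exact_mod_cast h3 p q
    calc _ ≤ (Module.finrank ℂ (E p q) : ℝ) * (a q * c p) := hb
      _ ≤ ((b q : ℝ) * (d p : ℝ)) * (a q * c p) := mul_le_mul_of_nonneg_right h4 hr0
      _ = c p * (d p : ℝ) * (a q * (b q : ℝ)) := by ring
  · push Not at hq
    haveI := h1 p q hq
    have h0 : Module.finrank ℂ (E p q) = 0 := Module.finrank_zero_of_subsingleton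
    rw [h0] at hb
    simp only [Nat.cast_zero, zero_mul] at hb
    simp only [hf, hg, if_neg (not_le.2 hq), mul_zero]
    exact hb

end Groth.Agent.Lib.Helper21.TraceBound
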