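import Mathlib
import Groth.Agent.Lib.Helper18.DRTorD

/-!
# Homotopy equivalent bounded complexes of finite projectives become isomorphic after adding
contractible complexes, locally free of finite rank with free boundaries

* `exists_cancel`: if `φ : M ⟶ N` is a homotopy equivalence then `N ⊞ Cone(𝟙 M) ≅ M ⊞ Q'` with
  `Q'` contractible (a cokernel of `M ⟶ N ⊞ Cone(𝟙 M)`).
* `exists_freeAt_four`: finitely many finite projective modules become free over some `R_f`.
* `main`: the statement used for S12098.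
-/

set_option autoImplicit false
universe u
open CategoryTheory CategoryTheory.Limits CategoryTheory.Pretriangulated TensorProduct

namespace Groth.Agent.Lib.Helper21.TrivSum

open Groth.Agent.Lib.Helper18.DR

/-! ## modules becoming free on a principal open -/

section FreeAt

variable {R : Type u} [CommRing R]

/-- `X` becomes free over `R_f` -/
def FreeAt (X : Type u) [AddCommGroup X] [Module R X] (f : R) : Prop :=
  Module.Free (Localization.Away f) (Localization.Away f ⊗[R] X)

lemma freeAt_of_subsingleton (X : Type u) [AddCommGroup X] [Module R X] [Subsingleton X]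
    (f : R) : FreeAt X f := by
  have hs : Subsingleton (Localization.Away f ⊗[R] X) := by
    have h0 : ∀ z : Localization.Away f ⊗[R] X, z = 0 := fun z => by
      induction z using TensorProduct.induction_on with
      | zero => rfl
      | tmul b x => rw [Subsingleton.elim x 0, TensorProduct.tmul_zero]
      | add x y hx hy => rw [hx, hy, add_zero]
    exact ⟨fun x y => by rw [h0 x, h0 y]⟩
  show Module.Free (Localization.Away f) (Localization.Away f ⊗[R] X)
  infer_instance

lemma exists_freeAt (p : Ideal R) [p.IsPrime] (X : Type u) [AddCommGroup X] [Module R X]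
    [Module.Finite R X] [Module.Projective R X] : ∃ f : R, f ∉ p ∧ FreeAt X f := by
  have hfp : Module.FinitePresentation R X := Module.finitePresentation_of_projective R X
  have hfr : Module.Free (Localization.AtPrime p) (LocalizedModule p.primeCompl X) :=
    Module.free_of_flat_of_isLocalRing
  obtain ⟨r, hr, hfree, -⟩ := Module.FinitePresentation.exists_free_localizedModule_powers
    p.primeCompl (LocalizedModule.mkLinearMap p.primeCompl X) (Localization.AtPrime p)
  refine ⟨r, hr, ?_⟩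
  have hbc := LocalizedModule.isBaseChange (Submonoid.powers r) X
  exact Module.Free.of_equiv hbc.equiv.symm

lemma FreeAt.mul {X : Type u} [AddCommGroup X] [Module R X] {f : R} (h : FreeAt X f) (g : R) :
    FreeAt X (f * g) := by
  have hu : IsUnit (algebraMap R (Localization.Away (f * g)) f) := by
    have h1 : IsUnit (algebraMap R (Localization.Away (f * g)) (f * g)) :=
      IsLocalization.Away.algebraMap_isUnit (f * g)
    rw [map_mul] at h1
    exact isUnit_of_mul_isUnit_left h1
  let _ : Algebra (Localization.Away f) (Localization.Away (f * g)) :=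
    (IsLocalization.Away.lift (S := Localization.Away f) f hu).toAlgebra
  have htower : IsScalarTower R (Localization.Away f) (Localization.Away (f * g)) :=
    IsScalarTower.of_algebraMap_eq' (IsLocalization.Away.lift_comp f hu).symm
  have hfree : Module.Free (Localization.Away f) (Localization.Away f ⊗[R] X) := h
  have e : Localization.Away (f * g) ⊗[Localization.Away f] (Localization.Away f ⊗[R] X)
      ≃ₗ[Localization.Away (f * g)] Localization.Away (f * g) ⊗[R] X :=
    TensorProduct.AlgebraTensorModule.cancelBaseChange R (Localization.Away f)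
      (Localization.Away (f * g)) (Localization.Away (f * g)) X
  exact Module.Free.of_equiv e

/-- finite projective -/
def FP (X : ModuleCat.{u} R) : Prop := Module.Finite R X ∧ Module.Projective R X

lemma exists_freeAt_finset (p : Ideal R) [p.IsPrime] {ι : Type*} (X : ι → ModuleCat.{u} R)
    (h : ∀ k, FP (X k)) (s : Finset ι) : ∃ f : R, f ∉ p ∧ ∀ k ∈ s, FreeAt (X k) f := by
  classical
  induction s using Finset.induction_on with
  | empty =>
    exact ⟨1, fun h1 => (Ideal.IsPrime.ne_top ‹_›) ((Ideal.eq_top_iff_one _).2 h1), by simp⟩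
  | insert a s ha ih =>
    obtain ⟨f, hf, hfs⟩ := ih
    have h1 := (h a).1
    have h2 := (h a).2
    obtain ⟨g, hg, hga⟩ := exists_freeAt p (X a)
    refine ⟨f * g, fun hfg => (Ideal.IsPrime.mem_or_mem ‹_› hfg).elim hf hg, fun k hk => ?_⟩
    rcases Finset.mem_insert.1 hk with rfl | hk'
    · have h3 := hga.mul f
      rwa [mul_comm] at h3
    · exact (hfs k hk').mul g

lemma exists_freeAt_four (p : Ideal R) [p.IsPrime] (X₁ X₂ X₃ X₄ : ℤ → ModuleCat.{u} R)
    (a' b' : ℤ)
    (hz : ∀ i, i < a' ∨ b' < i → Subsingleton (X₁ i) ∧ Subsingleton (X₂ i) ∧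
      Subsingleton (X₃ i) ∧ Subsingleton (X₄ i))
    (hfp : ∀ i, FP (X₁ i) ∧ FP (X₂ i) ∧ FP (X₃ i) ∧ FP (X₄ i)) :
    ∃ f : R, f ∉ p ∧ ∀ i, FreeAt (X₁ i) f ∧ FreeAt (X₂ i) f ∧ FreeAt (X₃ i) f ∧
      FreeAt (X₄ i) f := by
  classical
  obtain ⟨f, hf, hfree⟩ := exists_freeAt_finset p
    (Sum.elim X₁ (Sum.elim X₂ (Sum.elim X₃ X₄)))
    (fun k => by
      rcases k with i | i | i | i
      · exact (hfp i).1
      · exact (hfp i).2.1
      · exact (hfp i).2.2.1
      · exact (hfp i).2.2.2)
    ((Finset.Icc a' b').disjSum ((Finset.Icc a' b').disjSum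
      ((Finset.Icc a' b').disjSum (Finset.Icc a' b'))))
  refine ⟨f, hf, fun i => ?_⟩
  by_cases hi : a' ≤ i ∧ i ≤ b'
  · have hmem : i ∈ Finset.Icc a' b' := Finset.mem_Icc.2 hi
    refine ⟨hfree (Sum.inl i) ?_, hfree (Sum.inr (Sum.inl i)) ?_,
      hfree (Sum.inr (Sum.inr (Sum.inl i))) ?_, hfree (Sum.inr (Sum.inr (Sum.inr i))) ?_⟩
    · exact Finset.inl_mem_disjSum.2 hmem
    · exact Finset.inr_mem_disjSum.2 (Finset.inl_mem_disjSum.2 hmem)
    · exact Finset.inr_mem_disjSum.2 (Finset.inr_mem_disjSum.2 (Finset.inl_mem_disjSum.2 hmem))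
    · exact Finset.inr_mem_disjSum.2 (Finset.inr_mem_disjSum.2 (Finset.inr_mem_disjSum.2 hmem))
  · obtain ⟨h1, h2, h3, h4⟩ := hz i (by omega)
    exact ⟨freeAt_of_subsingleton _ f, freeAt_of_subsingleton _ f, freeAt_of_subsingleton _ f,
      freeAt_of_subsingleton _ f⟩

end FreeAt

/-! ## ranges under flat base change -/

section RangeBC

variable {A B : Type u} [CommRing A] [CommRing B] [Algebra A B] [Module.Flat A B]

lemma free_range_extM_map {X Y : ModuleCat.{u} A} (g : X ⟶ Y)
    (h : Module.Free B (B ⊗[A] LinearMap.range g.hom)) :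
    Module.Free B (LinearMap.range ((extM (A := A) (B := B)).map g).hom) := by
  have hinj : Function.Injective ((LinearMap.range g.hom).subtype.baseChange B) := by
    rw [LinearMap.baseChange_eq_ltensor]
    exact Module.Flat.lTensor_preserves_injective_linearMap _ (Submodule.injective_subtype _)
  have hsurj : LinearMap.range (g.hom.rangeRestrict.baseChange B) = ⊤ := by
    rw [LinearMap.range_eq_top, LinearMap.baseChange_eq_ltensor]
    exact LinearMap.lTensor_surjective B g.hom.surjective_rangeRestrict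
  have hfac0 : g.hom = (LinearMap.range g.hom).subtype ∘ₗ g.hom.rangeRestrict :=
    (LinearMap.subtype_comp_codRestrict _ _ _).symm
  have hfac : g.hom.baseChange B = ((LinearMap.range g.hom).subtype.baseChange B) ∘ₗ
      (g.hom.rangeRestrict.baseChange B) :=
    (congrArg (LinearMap.baseChange B) hfac0).trans (LinearMap.baseChange_comp _ _)
  have hr2 : LinearMap.range (g.hom.baseChange B) =
      LinearMap.range ((LinearMap.range g.hom).subtype.baseChange B) := by
    rw [hfac]
    exact LinearMap.range_comp_of_range_eq_top _ hsurj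
  have hfree2 : Module.Free B (LinearMap.range (g.hom.baseChange B)) := by
    rw [hr2]
    exact Module.Free.of_equiv
      (LinearEquiv.ofInjective ((LinearMap.range g.hom).subtype.baseChange B) hinj)
  have hnat : (extMEquiv (B := B) Y).toLinearMap ∘ₗ
      ((extM (A := A) (B := B)).map g).hom =
      (g.hom.baseChange B) ∘ₗ (extMEquiv (B := B) X).toLinearMap := by
    apply LinearMap.ext
    intro x
    exact extMEquiv_naturality (B := B) g x
  have hr : (LinearMap.range ((extM (A := A) (B := B)).map g).hom).map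
      (extMEquiv (B := B) Y).toLinearMap =
      LinearMap.range (g.hom.baseChange B) := by
    rw [← LinearMap.range_comp, hnat]
    exact LinearMap.range_comp_of_range_eq_top _ (LinearEquiv.range _)
  have hfree3 : Module.Free B ((LinearMap.range ((extM (A := A) (B := B)).map g).hom).map
      (extMEquiv (B := B) Y).toLinearMap) := by
    rw [hr]
    exact hfree2
  exact Module.Free.of_equiv ((extMEquiv (B := B) Y).submoduleMap
    (LinearMap.range ((extM (A := A) (B := B)).map g).hom)).symm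

end RangeBC

/-! ## finite projective terms -/

section FPlemmas

variable {R : Type u} [CommRing R]

lemma FP.of_retract {X Y : ModuleCat.{u} R} (s : Y ⟶ X) (r : X ⟶ Y) (h : s ≫ r = 𝟙 Y)
    (hX : FP X) : FP Y := by
  have h1 := hX.1
  have h2 := hX.2
  have hrs : r.hom.comp s.hom = LinearMap.id := congrArg ModuleCat.Hom.hom h
  have hsurj : Function.Surjective r.hom := fun y => ⟨s.hom y, LinearMap.congr_fun hrs y⟩
  exact ⟨Module.Finite.of_surjective r.hom hsurj, Module.Projective.of_split s.hom r.hom hrs⟩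

lemma FP.of_iso {X Y : ModuleCat.{u} R} (e : X ≅ Y) (h : FP X) : FP Y :=
  FP.of_retract e.inv e.hom e.inv_hom_id h

lemma FP.biprod {X Y : ModuleCat.{u} R} (hX : FP X) (hY : FP Y) : FP (X ⊞ Y) := by
  have h1 := hX.1
  have h2 := hX.2
  have h3 := hY.1
  have h4 := hY.2
  refine FP.of_iso (ModuleCat.biprodIsoProd X Y).symm ⟨?_, ?_⟩
  · show Module.Finite R (X × Y)
    infer_instance
  · show Module.Projective R (X × Y)
    infer_instance

lemma isZero_of_retract {C : Type*} [Category C] [HasZeroMorphisms C] {X Y : C} (s : Y ⟶ X)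
    (r : X ⟶ Y) (h : s ≫ r = 𝟙 Y) (hX : IsZero X) : IsZero Y := by
  rw [IsZero.iff_id_eq_zero, ← h, hX.eq_of_tgt s 0, zero_comp]

/-- the cone of the identity -/
noncomputable abbrev cone1 (M : DRing.Cx R) : DRing.Cx R := CochainComplex.mappingCone (𝟙 M)

lemma FP_cone_X (M : DRing.Cx R) (hM : ∀ i, FP (M.X i)) (n : ℤ) : FP ((cone1 M).X n) :=
  FP.of_iso (HomologicalComplex.homotopyCofiber.XIsoBiprod (𝟙 M) n (n + 1) rfl).symm
    (FP.biprod (hM (n + 1)) (hM n))

lemma FP_biprod_X (K L : DRing.Cx R) (n : ℤ) (hK : FP (K.X n)) (hL : FP (L.X n)) :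
    FP ((K ⊞ L).X n) := by
  refine FP.of_retract (X := K.X n ⊞ L.X n)
    (biprod.lift ((biprod.fst : K ⊞ L ⟶ K).f n) ((biprod.snd : K ⊞ L ⟶ L).f n))
    (biprod.desc ((biprod.inl : K ⟶ K ⊞ L).f n) ((biprod.inr : L ⟶ K ⊞ L).f n)) ?_
    (FP.biprod hK hL)
  rw [biprod.lift_desc, ← HomologicalComplex.comp_f, ← HomologicalComplex.comp_f,
    ← HomologicalComplex.add_f_apply, biprod.total, HomologicalComplex.id_f]

lemma isZero_biprod_X (K L : DRing.Cx R) (n : ℤ) (hK : IsZero (K.X n)) (hL : IsZero (L.X n)) :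
    IsZero ((K ⊞ L).X n) := by
  rw [IsZero.iff_id_eq_zero, ← HomologicalComplex.id_f, ← biprod.total,
    HomologicalComplex.add_f_apply, HomologicalComplex.comp_f, HomologicalComplex.comp_f,
    hK.eq_of_tgt ((biprod.fst : K ⊞ L ⟶ K).f n) 0, hL.eq_of_tgt ((biprod.snd : K ⊞ L ⟶ L).f n) 0,
    zero_comp, zero_comp, add_zero]

lemma subsingleton_range {X Y : ModuleCat.{u} R} (g : X ⟶ Y) (h : Subsingleton X) :
    Subsingleton (LinearMap.range g.hom) := by
  refine ⟨fun x y => ?_⟩
  obtain ⟨_, x', rfl⟩ := x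
  obtain ⟨_, y', rfl⟩ := y
  apply Subtype.ext
  show g.hom x' = g.hom y'
  rw [Subsingleton.elim x' y']

lemma d_eq_of_homotopy (K : DRing.Cx R) (H : Homotopy (𝟙 K) 0) (i : ℤ) :
    K.d i (i + 1) = K.d i (i + 1) ≫ H.hom (i + 1) i ≫ K.d i (i + 1) := by
  have h1 := H.comm i
  rw [HomologicalComplex.zero_f, add_zero,
    dNext_eq H.hom (show (ComplexShape.up ℤ).Rel i (i + 1) from rfl),
    prevD_eq H.hom (show (ComplexShape.up ℤ).Rel (i - 1) i from sub_add_cancel i 1)] at h1
  calc K.d i (i + 1) = (𝟙 K : K ⟶ K).f i ≫ K.d i (i + 1) := by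
        rw [HomologicalComplex.id_f, Category.id_comp]
    _ = K.d i (i + 1) ≫ H.hom (i + 1) i ≫ K.d i (i + 1) := by
        rw [h1, Preadditive.add_comp, Category.assoc, Category.assoc, K.d_comp_d, comp_zero,
          add_zero]

lemma FP_range_d (K : DRing.Cx R) (H : Homotopy (𝟙 K) 0) (i : ℤ) (hK : FP (K.X (i + 1))) :
    FP (ModuleCat.of R (LinearMap.range (K.d i (i + 1)).hom)) := by
  have key : ∀ x : K.X i, (K.d i (i + 1)).hom ((H.hom (i + 1) i).hom ((K.d i (i + 1)).hom x)) =
      (K.d i (i + 1)).hom x := fun x =>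
    (congrArg (fun g => g.hom x) (d_eq_of_homotopy K H i)).symm
  refine FP.of_retract (X := K.X (i + 1))
    (ModuleCat.ofHom (LinearMap.range (K.d i (i + 1)).hom).subtype)
    (ModuleCat.ofHom ((K.d i (i + 1)).hom.rangeRestrict.comp (H.hom (i + 1) i).hom)) ?_ hK
  apply ModuleCat.hom_ext
  apply LinearMap.ext
  rintro ⟨_, x, rfl⟩
  apply Subtype.ext
  exact key x

end FPlemmas

/-! ## the homotopy-theoretic core -/

section Core

variable {R : Type u} [CommRing R]

lemma exists_section_of_contractible (S : ShortComplex (DRing.Cx R))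
    (σ : ∀ n, (S.map (HomologicalComplex.eval _ _ n)).Splitting) (H : Homotopy (𝟙 S.X₃) 0) :
    ∃ s : S.X₃ ⟶ S.X₂, s ≫ S.g = 𝟙 S.X₃ := by
  let sec : ∀ k, S.X₃.X k ⟶ S.X₂.X k := fun k => (σ k).s
  have hsec : ∀ k, sec k ≫ S.g.f k = 𝟙 (S.X₃.X k) := fun k => (σ k).s_g
  let hom' : ∀ i k, S.X₃.X i ⟶ S.X₂.X k := fun i k => H.hom i k ≫ sec k
  refine ⟨Homotopy.nullHomotopicMap hom', ?_⟩
  have h1 : (fun i k => hom' i k ≫ S.g.f k) = H.hom := by
    funext i k
    exact (Category.assoc _ _ _).trans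
      ((congrArg (fun t => H.hom i k ≫ t) (hsec k)).trans (Category.comp_id _))
  have h0 : Homotopy.nullHomotopicMap hom' ≫ S.g = Homotopy.nullHomotopicMap H.hom :=
    (Homotopy.nullHomotopicMap_comp hom' S.g).trans (congrArg Homotopy.nullHomotopicMap h1)
  refine h0.trans ?_
  refine HomologicalComplex.hom_ext _ _ (fun i => ?_)
  have h2 := H.comm i
  rw [HomologicalComplex.zero_f, add_zero] at h2
  exact h2.symm

lemma contractible_of_isIso (S : ShortComplex (DRing.Cx R))
    (σ : ∀ n, (S.map (HomologicalComplex.eval _ _ n)).Splitting)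
    (hf : IsIso ((HomotopyCategory.quotient (ModuleCat.{u} R) (ComplexShape.up ℤ)).map S.f)) :
    Nonempty (Homotopy (𝟙 S.X₃) 0) := by
  have hT : CochainComplex.trianglehOfDegreewiseSplit S σ ∈
      distTriang (HomotopyCategory (ModuleCat.{u} R) (ComplexShape.up ℤ)) :=
    (HomotopyCategory.distinguished_iff_iso_trianglehOfDegreewiseSplit _).2
      ⟨S, σ, ⟨Iso.refl _⟩⟩
  have hz : IsZero (CochainComplex.trianglehOfDegreewiseSplit S σ).obj₃ :=
    (Triangle.isZero₃_iff_isIso₁ _ hT).2 hf
  exact (HomotopyCategory.isZero_quotient_obj_iff _).1 hz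

variable {M N : DRing.Cx R} (φ : M ⟶ N)

/-- the embedding `M ⟶ N ⊞ Cone(𝟙 M)` -/
noncomputable def jmap : M ⟶ N ⊞ cone1 M :=
  biprod.lift φ (CochainComplex.mappingCone.inr (𝟙 M))

lemma jmap_fst : jmap φ ≫ biprod.fst = φ := biprod.lift_fst _ _

lemma jmap_snd : jmap φ ≫ biprod.snd = CochainComplex.mappingCone.inr (𝟙 M) :=
  biprod.lift_snd _ _

/-- the degreewise retraction -/
noncomputable def jretr (n : ℤ) : (N ⊞ cone1 M).X n ⟶ M.X n :=
  (biprod.snd : N ⊞ cone1 M ⟶ cone1 M).f n ≫
    (CochainComplex.mappingCone.snd (𝟙 M)).v n n (add_zero n)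

lemma jmap_jretr (n : ℤ) : (jmap φ).f n ≫ jretr (M := M) (N := N) n = 𝟙 _ := by
  unfold jretr
  rw [← Category.assoc, ← HomologicalComplex.comp_f, jmap_snd,
    CochainComplex.mappingCone.inr_f_snd_v]

lemma isIso_quotient_jmap
    (hφ : IsIso ((HomotopyCategory.quotient (ModuleCat.{u} R) (ComplexShape.up ℤ)).map φ)) :
    IsIso ((HomotopyCategory.quotient (ModuleCat.{u} R) (ComplexShape.up ℤ)).map (jmap φ)) := by
  obtain ⟨q, hq⟩ : ∃ q : DRing.Cx R ⥤ HomotopyCategory (ModuleCat.{u} R) (ComplexShape.up ℤ),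
      q = HomotopyCategory.quotient (ModuleCat.{u} R) (ComplexShape.up ℤ) := ⟨_, rfl⟩
  have hadd : q.Additive := by rw [hq]; infer_instance
  rw [← hq] at hφ ⊢
  have hC : IsZero (q.obj (cone1 M)) := by
    rw [hq]
    exact (HomotopyCategory.isZero_quotient_obj_iff _).2
      ⟨CochainComplex.mappingCone.homotopyToZeroOfId M⟩
  have h1 : q.map (biprod.fst : N ⊞ cone1 M ⟶ N) ≫ q.map (biprod.inl : N ⟶ N ⊞ cone1 M) =
      𝟙 _ := by
    have e : (biprod.fst : N ⊞ cone1 M ⟶ N) ≫ biprod.inl =
        𝟙 _ - biprod.snd ≫ biprod.inr := by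
      rw [eq_sub_iff_add_eq, biprod.total]
    rw [← q.map_comp, e, Functor.map_sub, q.map_comp, hC.eq_of_tgt (q.map biprod.snd) 0,
      zero_comp, sub_zero, q.map_id]
  have h2 : q.map (biprod.inl : N ⟶ N ⊞ cone1 M) ≫ q.map (biprod.fst : N ⊞ cone1 M ⟶ N) =
      𝟙 _ := by
    rw [← q.map_comp, biprod.inl_fst, q.map_id]
  have hfst : IsIso (q.map (biprod.fst : N ⊞ cone1 M ⟶ N)) := ⟨⟨q.map biprod.inl, h1, h2⟩⟩
  have hcomp : q.map (jmap φ) ≫ q.map (biprod.fst : N ⊞ cone1 M ⟶ N) = q.map φ := by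
    rw [← q.map_comp, jmap_fst]
  have hc : IsIso (q.map (jmap φ) ≫ q.map (biprod.fst : N ⊞ cone1 M ⟶ N)) := by
    rw [hcomp]
    exact hφ
  exact IsIso.of_isIso_comp_right (q.map (jmap φ)) (q.map (biprod.fst : N ⊞ cone1 M ⟶ N))

theorem exists_cancel
    (hφ : IsIso ((HomotopyCategory.quotient (ModuleCat.{u} R) (ComplexShape.up ℤ)).map φ)) :
    ∃ Q' : DRing.Cx R,
      Nonempty (N ⊞ cone1 M ≅ M ⊞ Q') ∧ Nonempty (Homotopy (𝟙 Q') 0) ∧
      ∀ n : ℤ, ∃ (s : Q'.X n ⟶ (N ⊞ cone1 M).X n) (r : (N ⊞ cone1 M).X n ⟶ Q'.X n),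
        s ≫ r = 𝟙 _ := by
  have hmono : Mono (jmap φ) := HomologicalComplex.mono_of_mono_f _
    (fun n => mono_of_mono_fac (jmap_jretr φ n))
  have hS : (ShortComplex.cokernelSequence (jmap φ)).ShortExact :=
    ShortComplex.ShortExact.mk' (ShortComplex.cokernelSequence_exact _) hmono inferInstance
  have hSn := (HomologicalComplex.shortExact_iff_degreewise_shortExact
    (ShortComplex.cokernelSequence (jmap φ))).1 hS
  have σ : ∀ n, ((ShortComplex.cokernelSequence (jmap φ)).map
      (HomologicalComplex.eval _ _ n)).Splitting := fun n =>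
    ShortComplex.Splitting.ofExactOfRetraction _ (hSn n).exact (jretr n) (jmap_jretr φ n)
      (hSn n).epi_g
  obtain ⟨H⟩ := contractible_of_isIso (ShortComplex.cokernelSequence (jmap φ)) σ
    (isIso_quotient_jmap φ hφ)
  obtain ⟨s, hs⟩ := exists_section_of_contractible (ShortComplex.cokernelSequence (jmap φ)) σ H
  have spl : (ShortComplex.cokernelSequence (jmap φ)).Splitting :=
    ShortComplex.Splitting.ofExactOfSection _ hS.exact s hs hS.mono_f
  exact ⟨cokernel (jmap φ), ⟨spl.isoBinaryBiproduct⟩, ⟨H⟩, fun n =>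
    ⟨(σ n).s, (ShortComplex.cokernelSequence (jmap φ)).g.f n, (σ n).s_g⟩⟩

end Core

/-! ## localization -/

section Loc

variable {R : Type u} [CommRing R] (f : R)

/-- termwise localization at `f` -/
noncomputable abbrev extF : DRing.Cx R ⥤ DRing.Cx (Localization.Away f) :=
  (ModuleCat.extendScalars.{u, u, u} (algebraMap R (Localization.Away f))).mapHomologicalComplex
    (ComplexShape.up ℤ)

theorem good_ext (K : DRing.Cx R) (a' b' : ℤ) (hK : DRing.VanishesOutside K a' b')
    (hfin : ∀ i, Module.Finite R (K.X i)) (H : Homotopy (𝟙 K) 0)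
    (hterms : ∀ i, FreeAt (K.X i) f)
    (hbd : ∀ i, FreeAt (LinearMap.range (K.d i (i + 1)).hom) f) :
    (∃ a'' b'' : ℤ, DRing.VanishesOutside ((extF f).obj K) a'' b'') ∧
      DRing.TermwiseFiniteFree ((extF f).obj K) ∧
      (∀ i : ℤ, Module.Free (Localization.Away f)
        (LinearMap.range (((extF f).obj K).d i (i + 1)).hom)) ∧
      Nonempty (Homotopy (𝟙 ((extF f).obj K)) 0) := by
  refine ⟨⟨a', b', vanishesOutside_mapHC _ K a' b' hK⟩, fun i => ⟨?_, ?_⟩, fun i => ?_, ?_⟩
  · have := hfin i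
    exact finite_extM (B := Localization.Away f) (K.X i)
  · have h1 : Module.Free (Localization.Away f) (Localization.Away f ⊗[R] (K.X i)) := hterms i
    exact Module.Free.of_equiv (extMEquiv (B := Localization.Away f) (K.X i)).symm
  · exact free_range_extM_map (B := Localization.Away f) (K.d i (i + 1)) (hbd i)
  · have h := (ModuleCat.extendScalars.{u, u, u}
      (algebraMap R (Localization.Away f))).mapHomotopy H
    exact ⟨(Homotopy.ofEq ((extF f).map_id K).symm).trans
      (h.trans (Homotopy.ofEq ((extF f).map_zero K K)))⟩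

end Loc

/-! ## the main statement -/

theorem main (R : Type u) [CommRing R] (p : Ideal R) [p.IsPrime]
    (M N : DRing.Cx R) (a b : ℤ) (hM : DRing.VanishesOutside M a b)
    (hN : DRing.VanishesOutside N a b)
    (hMp : DRing.TermwiseFiniteProjective M) (hNp : DRing.TermwiseFiniteProjective N)
    (φ : M ⟶ N)
    (hφ : IsIso ((HomotopyCategory.quotient (ModuleCat.{u} R) (ComplexShape.up ℤ)).map φ)) :
    ∃ f : R, f ∉ p ∧ ∃ P Q : DRing.Cx (Localization.Away f),
      ((∃ a' b' : ℤ, DRing.VanishesOutside P a' b') ∧ DRing.TermwiseFiniteFree P ∧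
          (∀ i : ℤ, Module.Free (Localization.Away f) (LinearMap.range (P.d i (i + 1)).hom)) ∧
          Nonempty (Homotopy (𝟙 P) 0)) ∧
      ((∃ a' b' : ℤ, DRing.VanishesOutside Q a' b') ∧ DRing.TermwiseFiniteFree Q ∧
          (∀ i : ℤ, Module.Free (Localization.Away f) (LinearMap.range (Q.d i (i + 1)).hom)) ∧
          Nonempty (Homotopy (𝟙 Q) 0)) ∧
      Nonempty ((extF f).obj M ⊞ P ≅ (extF f).obj N ⊞ Q) := by
  classical
  obtain ⟨Q', ⟨θ⟩, ⟨H'⟩, hretr⟩ := exists_cancel φ hφ
  have H₂ : Homotopy (𝟙 (cone1 M)) 0 := CochainComplex.mappingCone.homotopyToZeroOfId M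
  have hMfp : ∀ i, FP (M.X i) := fun i => hMp i
  have hNfp : ∀ i, FP (N.X i) := fun i => hNp i
  have hCfp : ∀ n, FP ((cone1 M).X n) := FP_cone_X M hMfp
  have hWfp : ∀ n, FP ((N ⊞ cone1 M).X n) := fun n =>
    FP_biprod_X N (cone1 M) n (hNfp n) (hCfp n)
  have hQfp : ∀ n, FP (Q'.X n) := fun n => by
    obtain ⟨s, r, h⟩ := hretr n
    exact FP.of_retract s r h (hWfp n)
  have hCz : ∀ n, n < a - 1 ∨ b < n → IsZero ((cone1 M).X n) := fun n hn =>
    (CochainComplex.mappingCone.isZero_X_iff (𝟙 M) n).2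
      ⟨hM (n + 1) (by omega), hM n (by omega)⟩
  have hWz : ∀ n, n < a - 1 ∨ b < n → IsZero ((N ⊞ cone1 M).X n) := fun n hn =>
    isZero_biprod_X N (cone1 M) n (hN n (by omega)) (hCz n hn)
  have hQz : ∀ n, n < a - 1 ∨ b < n → IsZero (Q'.X n) := fun n hn => by
    obtain ⟨s, r, h⟩ := hretr n
    exact isZero_of_retract s r h (hWz n hn)
  obtain ⟨f, hf, hfree⟩ := exists_freeAt_four p (fun i => Q'.X i)
    (fun i => ModuleCat.of R (LinearMap.range (Q'.d i (i + 1)).hom))
    (fun i => (cone1 M).X i)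
    (fun i => ModuleCat.of R (LinearMap.range ((cone1 M).d i (i + 1)).hom)) (a - 1) b
    (fun i hi => ⟨ModuleCat.subsingleton_of_isZero (hQz i hi),
      subsingleton_range _ (ModuleCat.subsingleton_of_isZero (hQz i hi)),
      ModuleCat.subsingleton_of_isZero (hCz i hi),
      subsingleton_range _ (ModuleCat.subsingleton_of_isZero (hCz i hi))⟩)
    (fun i => ⟨hQfp i, FP_range_d Q' H' i (hQfp (i + 1)), hCfp i,
      FP_range_d (cone1 M) H₂ i (hCfp (i + 1))⟩)
  refine ⟨f, hf, (extF f).obj Q', (extF f).obj (cone1 M), ?_, ?_, ?_⟩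
  · exact good_ext f Q' (a - 1) b hQz (fun i => (hQfp i).1) H' (fun i => (hfree i).1)
      (fun i => (hfree i).2.1)
  · exact good_ext f (cone1 M) (a - 1) b hCz (fun i => (hCfp i).1) H₂
      (fun i => (hfree i).2.2.1) (fun i => (hfree i).2.2.2)
  · have := preservesBinaryBiproducts_of_preservesBiproducts (extF f)
    exact ⟨((extF f).mapBiprod M Q').symm ≪≫ (extF f).mapIso θ.symm ≪≫
      (extF f).mapBiprod N (cone1 M)⟩

end Groth.Agent.Lib.Helper21.TrivSum
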