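import Mathlib
import Groth.Prelude.Def_ARSys
import Groth.Agent.Lib.Helper21.WCBasis

/-!
# Sections over a weakly contractible object commute with `F ↦ F / I F`
-/

set_option autoImplicit false
open CategoryTheory CategoryTheory.Limits Opposite
universe w v u

namespace Groth.Agent.Lib.Helper21.WCQuot

variable {C : Type u} [Category.{v} C] (J : GrothendieckTopology C) (Λ : Type w) [CommRing Λ]
  [HasSheafify J (ModuleCat.{w} Λ)] [J.WEqualsLocallyBijective (ModuleCat.{w} Λ)]
  [J.HasSheafCompose (forget (ModuleCat.{w} Λ))]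

/-- sections over `U` -/
abbrev Γ (U : C) : Sheaf J (ModuleCat.{w} Λ) ⥤ ModuleCat.{w} Λ :=
  sheafToPresheaf J (ModuleCat.{w} Λ) ⋙ (evaluation Cᵒᵖ (ModuleCat.{w} Λ)).obj (op U)

variable (U : C)
  (hU : ∀ (P Q : Sheaf J (Type w)) (ψ : P ⟶ Q), Epi ψ → Function.Surjective (ψ.hom.app (op U)))

include hU in
theorem surjective_of_epi {F G : Sheaf J (ModuleCat.{w} Λ)} (φ : F ⟶ G) (hφ : Epi φ) :
    Function.Surjective (φ.hom.app (op U)).hom := by
  have h1 : Sheaf.IsLocallySurjective φ :=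
    (Sheaf.isLocallySurjective_iff_epi' (ModuleCat.{w} Λ) φ).2 hφ
  have h2 : Sheaf.IsLocallySurjective ((sheafCompose J (forget (ModuleCat.{w} Λ))).map φ) :=
    (Presheaf.isLocallySurjective_iff_whisker_forget J φ.hom).1 h1
  have h3 : Epi ((sheafCompose J (forget (ModuleCat.{w} Λ))).map φ) := inferInstance
  exact hU _ _ _ h3

include hU in
theorem preservesFiniteColimits_Γ : PreservesFiniteColimits (Γ J Λ U) := by
  apply WCBasis.preservesFiniteColimits_of_preservesEpi
  intro F G φ hφ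
  rw [ModuleCat.epi_iff_surjective]
  exact surjective_of_epi J Λ U hU φ hφ

include hU in
theorem exact_sections (S : ShortComplex (Sheaf J (ModuleCat.{w} Λ))) (hS : S.Exact)
    (x : S.X₂.obj.obj (op U)) (hx : (S.g.hom.app (op U)).hom x = 0) :
    ∃ y : S.X₁.obj.obj (op U), (S.f.hom.app (op U)).hom y = x := by
  haveI := preservesFiniteColimits_Γ J Λ U hU
  have h : (S.map (Γ J Λ U)).Exact := hS.map (Γ J Λ U)
  rw [ShortComplex.moduleCat_exact_iff] at h
  exact h x hx

include hU in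
theorem sections_isQuot (I : Ideal Λ) (hI : I.FG) {F Q : Sheaf J (ModuleCat.{w} Λ)} (p : F ⟶ Q)
    (hp : ARSys.IsQuot I p) :
    Function.Surjective (p.hom.app (op U)).hom ∧
      LinearMap.ker (p.hom.app (op U)).hom = I • (⊤ : Submodule Λ (F.obj.obj (op U))) := by
  classical
  obtain ⟨hQ, huniv⟩ := hp
  have hkill : ∀ {Y : Sheaf J (ModuleCat.{w} Λ)} (ψ : Q ⟶ Y), ARSys.HomKilledBy I (p ≫ ψ) := by
    intro Y ψ a ha
    have : a • (p ≫ ψ) = p ≫ (a • 𝟙 Q) ≫ ψ := by
      rw [Linear.smul_comp, Category.id_comp, Linear.comp_smul]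
    rw [this, hQ a ha, zero_comp, comp_zero]
  have hepi : Epi p := by
    constructor
    intro Y ψ₁ ψ₂ h
    obtain ⟨ψ, -, hψ⟩ := huniv Y (p ≫ ψ₁) (hkill ψ₁)
    rw [hψ ψ₁ rfl, hψ ψ₂ h.symm]
  refine ⟨surjective_of_epi J Λ U hU p hepi, ?_⟩
  apply le_antisymm
  · -- kernel ⊆ I • ⊤
    intro x hx
    rw [LinearMap.mem_ker] at hx
    obtain ⟨s, hs⟩ := hI
    haveI : HasFiniteBiproducts (Sheaf J (ModuleCat.{w} Λ)) := Abelian.hasFiniteBiproducts
    haveI : HasBiproduct (fun _ : s => F) := HasBiproductsOfShape.has_biproduct _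
    let G : Sheaf J (ModuleCat.{w} Λ) := ⨁ (fun _ : s => F)
    let ψ : G ⟶ F := biproduct.desc (fun i : s => (i : Λ) • 𝟙 F)
    let π : F ⟶ cokernel ψ := cokernel.π ψ
    have hπ : ARSys.HomKilledBy I π := by
      intro a ha
      rw [← hs] at ha
      induction ha using Submodule.span_induction with
      | mem a ha =>
        have h1 : biproduct.ι (fun _ : s => F) ⟨a, ha⟩ ≫ ψ = a • 𝟙 F := by
          simp [ψ]
        have : a • π = (a • 𝟙 F) ≫ π := by rw [Linear.smul_comp, Category.id_comp]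
        rw [this, ← h1, Category.assoc]
        simp [π]
      | zero => exact zero_smul _ _
      | add a b _ _ iha ihb => rw [add_smul, iha, ihb, add_zero]
      | smul r a _ iha => rw [smul_eq_mul, mul_smul, iha, smul_zero]
    obtain ⟨ψ', hψ', -⟩ := huniv _ π hπ
    have hx' : (π.hom.app (op U)).hom x = 0 := by
      have : π.hom.app (op U) = p.hom.app (op U) ≫ ψ'.hom.app (op U) := by
        rw [← hψ']; rfl
      rw [this]
      change (ψ'.hom.app (op U)).hom ((p.hom.app (op U)).hom x) = 0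
      rw [hx, map_zero]
    obtain ⟨y, hy⟩ := exact_sections J Λ U hU (ShortComplex.mk ψ π (cokernel.condition ψ))
      (ShortComplex.exact_cokernel ψ) x hx'
    have hψeq : ψ = ∑ i : s, biproduct.π (fun _ : s => F) i ≫ ((i : Λ) • 𝟙 F) := by
      apply biproduct.hom_ext'
      intro j
      rw [Preadditive.comp_sum, Finset.sum_eq_single j]
      · simp [ψ]
      · intro b _ hb
        rw [biproduct.ι_π_ne_assoc _ hb.symm, zero_comp]
      · intro h
        exact absurd (Finset.mem_univ j) h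
    have hsum : ψ.hom.app (op U) =
        ∑ i : s, (biproduct.π (fun _ : s => F) i ≫ ((i : Λ) • 𝟙 F)).hom.app (op U) := by
      rw [hψeq]
      exact (Γ J Λ U).map_sum _ _
    change (ψ.hom.app (op U)).hom y = x at hy
    rw [← hy, hsum]
    rw [ModuleCat.hom_sum, LinearMap.sum_apply]
    refine Submodule.sum_mem _ (fun i _ => ?_)
    have : ((biproduct.π (fun _ : s => F) i ≫ ((i : Λ) • 𝟙 F)).hom.app (op U)).hom y =
        (i : Λ) • ((biproduct.π (fun _ : s => F) i).hom.app (op U)).hom y := rfl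
    rw [this]
    refine Submodule.smul_mem_smul ?_ Submodule.mem_top
    rw [← hs]
    exact Submodule.subset_span i.2
  · -- I • ⊤ ⊆ kernel
    rw [Submodule.smul_le]
    intro a ha y _
    rw [LinearMap.mem_ker, map_smul]
    have h0 : (a • 𝟙 Q : Q ⟶ Q).hom.app (op U) = 0 := by rw [hQ a ha]; rfl
    have h1 : a • (p.hom.app (op U)).hom y =
        ((a • 𝟙 Q : Q ⟶ Q).hom.app (op U)).hom ((p.hom.app (op U)).hom y) := rfl
    rw [h1, h0]
    rfl

end Groth.Agent.Lib.Helper21.WCQuot
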