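import Mathlib

/-!
# Weakly regular sequences: flat modules over a quotient, extensions, Krull limit
-/

namespace Groth.Agent.Lib.Helper21.WRegExt

open RingTheory.Sequence

universe u v

/-- (L1) If `fs` is weakly regular on `A ⧸ J` and `M` is a flat `A ⧸ J`-module,
then `fs` is weakly regular on `M` viewed as an `A`-module. -/
theorem isWeaklyRegular_of_flat_quot {A : Type u} [CommRing A] (J : Ideal A) (M : Type v)
    [AddCommGroup M] [Module A M] [Module (A ⧸ J) M] [IsScalarTower A (A ⧸ J) M]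
    [Module.Flat (A ⧸ J) M] (fs : List A) (hreg : IsWeaklyRegular (A ⧸ J) fs) :
    IsWeaklyRegular M fs := by
  have h1 : IsWeaklyRegular (A ⧸ J) (fs.map (algebraMap A (A ⧸ J))) :=
    (isWeaklyRegular_map_algebraMap_iff (A ⧸ J) (A ⧸ J) fs).mpr hreg
  have h2 : IsWeaklyRegular (TensorProduct (A ⧸ J) M (A ⧸ J)) (fs.map (algebraMap A (A ⧸ J))) :=
    h1.isWeaklyRegular_lTensor
  have h3 : IsWeaklyRegular M (fs.map (algebraMap A (A ⧸ J))) :=
    (LinearEquiv.isWeaklyRegular_congr (TensorProduct.rid (A ⧸ J) M) _).mp h2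
  exact (isWeaklyRegular_map_algebraMap_iff (A ⧸ J) M fs).mp h3

/-- Injectivity of `QuotSMulTop.map r f` when `r` is regular on the cokernel. -/
theorem quotSMulTop_map_injective {R : Type u} [CommRing R] (r : R) {M' M M'' : Type v}
    [AddCommGroup M'] [AddCommGroup M] [AddCommGroup M'']
    [Module R M'] [Module R M] [Module R M'']
    (f : M' →ₗ[R] M) (g : M →ₗ[R] M'') (hf : Function.Injective f)
    (hfg : Function.Exact f g) (hr : IsSMulRegular M'' r) :
    Function.Injective (QuotSMulTop.map r f) := by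
  rw [injective_iff_map_eq_zero]
  intro x hx
  obtain ⟨x', rfl⟩ := Submodule.Quotient.mk_surjective _ x
  rw [QuotSMulTop.map_apply_mk, Submodule.Quotient.mk_eq_zero,
    Submodule.mem_smul_pointwise_iff_exists] at hx
  obtain ⟨m, -, hm⟩ := hx
  have h0 : g m = 0 := by
    apply hr
    change r • g m = r • 0
    rw [smul_zero, ← map_smul, hm]
    exact hfg.apply_apply_eq_zero x'
  obtain ⟨m', rfl⟩ := (hfg m).mp h0
  rw [Submodule.Quotient.mk_eq_zero, Submodule.mem_smul_pointwise_iff_exists]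
  refine ⟨m', trivial, hf ?_⟩
  rw [map_smul, hm]

/-- (L2) Weak regularity passes to extensions. -/
theorem isWeaklyRegular_of_exact {R : Type u} [CommRing R] (rs : List R) :
    ∀ {M' M M'' : Type v} [AddCommGroup M'] [AddCommGroup M] [AddCommGroup M'']
    [Module R M'] [Module R M] [Module R M'']
    (f : M' →ₗ[R] M) (g : M →ₗ[R] M''), Function.Injective f → Function.Exact f g →
    Function.Surjective g → IsWeaklyRegular M' rs → IsWeaklyRegular M'' rs →
    IsWeaklyRegular M rs := by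
  induction rs with
  | nil => intros; exact IsWeaklyRegular.nil R _
  | cons r rs ih =>
    intro M' M M'' _ _ _ _ _ _ f g hf hfg hg h' h''
    rw [isWeaklyRegular_cons_iff] at h' h'' ⊢
    refine ⟨isSMulRegular_of_range_eq_ker (g := g) hf ?_ h'.1 h''.1, ?_⟩
    · exact (LinearMap.exact_iff.mp hfg).symm
    · exact ih (QuotSMulTop.map r f) (QuotSMulTop.map r g)
        (quotSMulTop_map_injective r f g hf hfg h''.1)
        (QuotSMulTop.map_exact r hfg hg) (QuotSMulTop.map_surjective r hg) h'.2 h''.2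

/-- Subsingleton modules are weakly regular for any sequence. -/
theorem isWeaklyRegular_of_subsingleton {R : Type u} [CommRing R] (M : Type v) [AddCommGroup M]
    [Module R M] [Subsingleton M] (rs : List R) : IsWeaklyRegular M rs := by
  rw [isWeaklyRegular_iff]
  intro i hi
  have : Subsingleton (M ⧸ (Ideal.ofList (List.take i rs) • ⊤ : Submodule R M)) :=
    (Submodule.Quotient.mk_surjective _).subsingleton
  exact Function.injective_of_subsingleton _

theorem mkQ_mem_smul_top_iff {A : Type u} [CommRing A] {N : Type v} [AddCommGroup N] [Module A N]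
    (P : Submodule A N) (I : Ideal A) (x : N) :
    P.mkQ x ∈ (I • ⊤ : Submodule A (N ⧸ P)) ↔ x ∈ P ⊔ I • (⊤ : Submodule A N) := by
  have h : (I • ⊤ : Submodule A (N ⧸ P)) = Submodule.map P.mkQ (I • ⊤) := by
    rw [Submodule.map_smul'', Submodule.map_top, Submodule.range_mkQ]
  rw [h, ← Submodule.comap_map_mkQ, Submodule.mem_comap]

/-- (L3) Krull limit argument. -/
theorem isWeaklyRegular_of_forall_quot {A : Type u} [CommRing A] [IsLocalRing A]
    [IsNoetherianRing A] (J : Ideal A) (hJ : J ≠ ⊤) (N : Type v) [AddCommGroup N] [Module A N]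
    [Module.Finite A N] (rs : List A)
    (h : ∀ j : ℕ, IsWeaklyRegular (N ⧸ (J ^ j • ⊤ : Submodule A N)) rs) :
    IsWeaklyRegular N rs := by
  rw [isWeaklyRegular_iff]
  intro i hi
  rw [isSMulRegular_quotient_iff_mem_of_smul_mem]
  intro x hx
  have key : ∀ j, x ∈ (J ^ j • ⊤ : Submodule A N) ⊔ Ideal.ofList (rs.take i) • ⊤ := by
    intro j
    have hj := (isWeaklyRegular_iff _ rs).mp (h j) i hi
    rw [isSMulRegular_quotient_iff_mem_of_smul_mem] at hj
    rw [← mkQ_mem_smul_top_iff]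
    apply hj
    rw [← map_smul, mkQ_mem_smul_top_iff]
    exact Submodule.mem_sup_right hx
  have hK := Ideal.iInf_pow_smul_eq_bot_of_isLocalRing
    (M := N ⧸ (Ideal.ofList (rs.take i) • ⊤ : Submodule A N)) J hJ
  have h0 : (Ideal.ofList (rs.take i) • ⊤ : Submodule A N).mkQ x ∈
      (⊥ : Submodule A (N ⧸ (Ideal.ofList (rs.take i) • ⊤ : Submodule A N))) := by
    rw [← hK, Submodule.mem_iInf]
    intro j
    rw [mkQ_mem_smul_top_iff, sup_comm]
    exact key j
  rw [Submodule.mem_bot, Submodule.mkQ_apply, Submodule.Quotient.mk_eq_zero] at h0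
  exact h0

theorem coe_mem_pow_add_iff {A : Type u} [CommRing A] (J : Ideal A) (j k : ℕ) (y : ↥(J ^ k)) :
    (y : A) ∈ J ^ (j + k) ↔ y ∈ (J ^ j • ⊤ : Submodule A ↥(J ^ k)) := by
  have h : Submodule.map (J ^ k).subtype (J ^ j • ⊤ : Submodule A ↥(J ^ k)) = J ^ (j + k) := by
    rw [Submodule.map_smul'', Submodule.map_subtype_top, smul_eq_mul, pow_add]
  rw [← h]
  constructor
  · rintro ⟨z, hz, hzy⟩
    have : z = y := Subtype.ext hzy
    rwa [← this]
  · intro hy
    exact ⟨y, hy, rfl⟩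

section Assembly

variable {A : Type u} [CommRing A] (J : Ideal A)

/-- The inclusion `J^(k+j) → J^k`. -/
noncomputable def incl (k j : ℕ) : ↥(J ^ (k + j)) →ₗ[A] ↥(J ^ k) :=
  Submodule.inclusion (Ideal.pow_le_pow_right (Nat.le_add_right k j))

@[simp] theorem coe_incl (k j : ℕ) (z : ↥(J ^ (k + j))) : ((incl J k j z : ↥(J ^ k)) : A) = z := rfl

theorem incl_le (k j : ℕ) : (J • ⊤ : Submodule A ↥(J ^ (k + j))) ≤
    Submodule.comap (incl J k j) (J ^ (j + 1) • ⊤ : Submodule A ↥(J ^ k)) := by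
  intro z hz
  rw [Submodule.mem_comap, ← coe_mem_pow_add_iff, coe_incl]
  have hz' : z ∈ (J ^ 1 • ⊤ : Submodule A ↥(J ^ (k + j))) := by rwa [pow_one]
  rw [← coe_mem_pow_add_iff] at hz'
  have e : 1 + (k + j) = j + 1 + k := by omega
  rwa [e] at hz'

/-- `J^(k+j)/J·J^(k+j) → J^k/J^(j+1)·J^k`. -/
noncomputable def fMap (k j : ℕ) : (↥(J ^ (k + j)) ⧸ (J • ⊤ : Submodule A ↥(J ^ (k + j)))) →ₗ[A]
    (↥(J ^ k) ⧸ (J ^ (j + 1) • ⊤ : Submodule A ↥(J ^ k))) :=
  Submodule.mapQ _ _ (incl J k j) (incl_le J k j)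

theorem pow_smul_le (k j : ℕ) : (J ^ (j + 1) • ⊤ : Submodule A ↥(J ^ k)) ≤ J ^ j • ⊤ :=
  Submodule.smul_mono_left (Ideal.pow_le_pow_right (Nat.le_succ j))

/-- `J^k/J^(j+1)·J^k → J^k/J^j·J^k`. -/
noncomputable def gMap (k j : ℕ) : (↥(J ^ k) ⧸ (J ^ (j + 1) • ⊤ : Submodule A ↥(J ^ k))) →ₗ[A]
    (↥(J ^ k) ⧸ (J ^ j • ⊤ : Submodule A ↥(J ^ k))) :=
  Submodule.factor (pow_smul_le J k j)

theorem fMap_injective (k j : ℕ) : Function.Injective (fMap J k j) := by
  rw [injective_iff_map_eq_zero]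
  intro x hx
  obtain ⟨z, rfl⟩ := Submodule.Quotient.mk_surjective _ x
  rw [fMap, Submodule.mapQ_apply, Submodule.Quotient.mk_eq_zero, ← coe_mem_pow_add_iff,
    coe_incl] at hx
  rw [Submodule.Quotient.mk_eq_zero]
  have e : j + 1 + k = 1 + (k + j) := by omega
  rw [e, coe_mem_pow_add_iff, pow_one] at hx
  exact hx

theorem gMap_surjective (k j : ℕ) : Function.Surjective (gMap J k j) :=
  Submodule.factor_surjective (pow_smul_le J k j)

theorem fMap_gMap_exact (k j : ℕ) : Function.Exact (fMap J k j) (gMap J k j) := by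
  intro y
  obtain ⟨y, rfl⟩ := Submodule.Quotient.mk_surjective _ y
  have hg : gMap J k j (Submodule.Quotient.mk y) = Submodule.Quotient.mk y := rfl
  rw [hg, Submodule.Quotient.mk_eq_zero, ← coe_mem_pow_add_iff]
  constructor
  · intro hy
    have e : j + k = k + j := by omega
    rw [e] at hy
    refine ⟨Submodule.Quotient.mk ⟨(y : A), hy⟩, ?_⟩
    rw [fMap, Submodule.mapQ_apply]
    congr 1
  · rintro ⟨x, hx⟩
    obtain ⟨z, rfl⟩ := Submodule.Quotient.mk_surjective _ x
    rw [fMap, Submodule.mapQ_apply, Submodule.Quotient.eq] at hx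
    have h1 : ((incl J k j z - y : ↥(J ^ k)) : A) ∈ J ^ (j + 1 + k) :=
      (coe_mem_pow_add_iff J (j + 1) k _).mpr hx
    have h2 : ((incl J k j z - y : ↥(J ^ k)) : A) ∈ J ^ (j + k) :=
      Ideal.pow_le_pow_right (by omega) h1
    have h3 : (z : A) ∈ J ^ (j + k) := by
      have e : k + j = j + k := by omega
      rw [← e]
      exact z.2
    have h4 : (y : A) = (z : A) - ((incl J k j z - y : ↥(J ^ k)) : A) := by
      simp
    rw [h4]
    exact Submodule.sub_mem _ h3 h2

end Assembly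

/-- Main theorem: normal flatness gives weak regularity on all `J^k / J^j J^k`. -/
theorem isWeaklyRegular_quot_pow {A : Type u} [CommRing A] (J : Ideal A)
    (hflat : ∀ k : ℕ, Module.Flat (A ⧸ J) (↥(J ^ k) ⧸ (J • (⊤ : Submodule A ↥(J ^ k)))))
    (fs : List A) (hreg : IsWeaklyRegular (A ⧸ J) fs) (j : ℕ) :
    ∀ k : ℕ, IsWeaklyRegular (↥(J ^ k) ⧸ (J ^ j • ⊤ : Submodule A ↥(J ^ k))) fs := by
  induction j with
  | zero =>
    intro k
    have : Subsingleton (↥(J ^ k) ⧸ (J ^ 0 • ⊤ : Submodule A ↥(J ^ k))) := by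
      rw [Submodule.Quotient.subsingleton_iff, pow_zero, Ideal.one_eq_top, Submodule.top_smul]
    exact isWeaklyRegular_of_subsingleton _ fs
  | succ j ih =>
    intro k
    have := hflat (k + j)
    have h1 : IsWeaklyRegular (↥(J ^ (k + j)) ⧸ (J • (⊤ : Submodule A ↥(J ^ (k + j))))) fs :=
      isWeaklyRegular_of_flat_quot J _ fs hreg
    exact isWeaklyRegular_of_exact fs (fMap J k j) (gMap J k j) (fMap_injective J k j)
      (fMap_gMap_exact J k j) (gMap_surjective J k j) h1 (ih k)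

end Groth.Agent.Lib.Helper21.WRegExt
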